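import Mathlib
import Groth.Prelude.Def_Fitting

/-!
# Fitting ideals: independence of the generating tuple, minors formulation (helper18)
-/

namespace Groth.Agent.Lib.Helper18.FittLib

open Matrix

universe u v

section
variable {R : Type u} [CommRing R] {M : Type v} [AddCommGroup M] [Module R M]

/-- The Fitting ideal computed from a fixed tuple. -/
def F (R : Type u) [CommRing R] {M : Type v} [AddCommGroup M] [Module R M]
    {n : ℕ} (x : Fin n → M) (r : ℕ) : Ideal R :=
  Ideal.span {d | ∃ a : Matrix (Fin n) (Fin n) R,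
    (∀ i : Fin n, (i : ℕ) < n - r → ∑ j, a i j • x j = 0) ∧ d = a.det}

lemma det_mem_F {n : ℕ} {x : Fin n → M} {r : ℕ} (a : Matrix (Fin n) (Fin n) R)
    (h : ∀ i : Fin n, (i : ℕ) < n - r → ∑ j, a i j • x j = 0) : a.det ∈ F R x r :=
  Ideal.subset_span ⟨a, h, rfl⟩

lemma F_comp_perm_le {n : ℕ} (x : Fin n → M) (σ : Equiv.Perm (Fin n)) (r : ℕ) :
    F R (x ∘ σ) r ≤ F R x r := by
  refine Ideal.span_le.2 ?_
  rintro d ⟨a, ha, rfl⟩
  have hb : (a.submatrix id σ.symm).det ∈ F R x r := by
    refine det_mem_F _ fun i hi => ?_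
    simp only [Matrix.submatrix_apply, id_eq]
    calc ∑ j, a i (σ.symm j) • x j = ∑ j, a i (σ.symm (σ j)) • x (σ j) :=
          (Equiv.sum_comp σ fun j => a i (σ.symm j) • x j).symm
      _ = 0 := by simpa using ha i hi
  have hab : a = (a.submatrix id σ.symm).submatrix id σ := by
    ext i j; simp
  rw [hab, Matrix.det_permute']
  exact Ideal.mul_mem_left _ _ hb

lemma F_comp_equiv {n n' : ℕ} (x : Fin n' → M) (e : Fin n ≃ Fin n') (r : ℕ) :
    F R (x ∘ e) r = F R x r := by
  have h : n = n' := by simpa using Fintype.card_congr e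
  subst h
  refine le_antisymm (F_comp_perm_le x e r) ?_
  have := F_comp_perm_le (R := R) (x ∘ e) e.symm r
  have hx : (x ∘ e) ∘ e.symm = x := by ext i; simp
  rwa [hx] at this

lemma F_snoc {n : ℕ} (x : Fin n → M) (y : M) (hy : y ∈ Submodule.span R (Set.range x)) (r : ℕ) :
    F R (Fin.snoc x y : Fin (n + 1) → M) r = F R x r := by
  obtain ⟨c, hc⟩ := (Submodule.mem_span_range_iff_exists_fun R).1 hy
  apply le_antisymm
  · refine Ideal.span_le.2 ?_
    rintro d ⟨a, ha, rfl⟩
    set cc : Fin (n + 1) → R := (Fin.snoc c (0 : R) : Fin (n + 1) → R) with hcc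
    set b : Matrix (Fin (n + 1)) (Fin (n + 1)) R :=
      Matrix.of fun i j => a i j + cc j * a i (Fin.last n) with hb
    have hdet : b.det = a.det := by
      rw [← Matrix.det_transpose b, ← Matrix.det_transpose a]
      exact Matrix.det_eq_of_forall_row_eq_smul_add_const cc (Fin.last n) (by simp [hcc])
        (fun i j => by simp [hb, Matrix.transpose_apply])
    rw [← hdet, Matrix.det_succ_column b (Fin.last n)]
    refine Ideal.sum_mem _ fun i _ => Ideal.mul_mem_left _ _ ?_
    refine det_mem_F _ fun l hl => ?_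
    have hil : ((i.succAbove l : Fin (n + 1)) : ℕ) < n + 1 - r := by
      have : ((i.succAbove l : Fin (n + 1)) : ℕ) ≤ l + 1 := by
        rw [Fin.succAbove]; split_ifs <;> simp
      omega
    have h0 := ha (i.succAbove l) hil
    rw [Fin.sum_univ_castSucc] at h0
    simp only [Fin.snoc_castSucc, Fin.snoc_last] at h0
    simp only [Matrix.submatrix_apply, Fin.succAbove_last, hb, Matrix.of_apply, hcc,
      Fin.snoc_castSucc]
    calc ∑ j, (a (i.succAbove l) j.castSucc + c j * a (i.succAbove l) (Fin.last n)) • x j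
        = ∑ j, a (i.succAbove l) j.castSucc • x j
            + a (i.succAbove l) (Fin.last n) • ∑ j, c j • x j := by
          rw [Finset.smul_sum, ← Finset.sum_add_distrib]
          refine Finset.sum_congr rfl fun j _ => ?_
          rw [add_smul, mul_comm, mul_smul]
      _ = 0 := by rw [hc]; exact h0
  · refine Ideal.span_le.2 ?_
    rintro d ⟨a, ha, rfl⟩
    set a' : Matrix (Fin (n + 1)) (Fin (n + 1)) R :=
      Matrix.of fun i j =>
        (Fin.cons (Fin.snoc (fun j' => - c j') (1 : R) : Fin (n + 1) → R)
          (fun i' => (Fin.snoc (a i') (0 : R) : Fin (n + 1) → R)) :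
            Fin (n + 1) → Fin (n + 1) → R) i j with ha'
    have e1 : ∀ j : Fin n, a' 0 j.castSucc = - c j := fun j => by simp [ha']
    have e2 : a' 0 (Fin.last n) = 1 := by simp [ha']
    have e3 : ∀ (i j : Fin n), a' i.succ j.castSucc = a i j := fun i j => by simp [ha']
    have e4 : ∀ i : Fin n, a' i.succ (Fin.last n) = 0 := fun i => by simp [ha']
    have hdet : a'.det = (-1) ^ n * a.det := by
      rw [Matrix.det_succ_column a' (Fin.last n), Fin.sum_univ_succ]
      have h1 : a'.submatrix Fin.succ Fin.castSucc = a := by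
        ext i j; simp [e3]
      simp [h1, e2, e4]
    have hdet' : a.det = (-1) ^ n * a'.det := by
      rw [hdet, ← mul_assoc, ← pow_add, Even.neg_one_pow ⟨n, rfl⟩, one_mul]
    rw [hdet']
    refine Ideal.mul_mem_left _ _ (det_mem_F _ fun i hi => ?_)
    rw [Fin.sum_univ_castSucc]
    simp only [Fin.snoc_castSucc, Fin.snoc_last]
    rcases Fin.eq_zero_or_eq_succ i with rfl | ⟨i0, rfl⟩
    · simp only [e1, e2, neg_smul, Finset.sum_neg_distrib, hc, one_smul]
      simp
    · simp only [e3, e4, zero_smul, add_zero]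
      exact ha i0 (by simp only [Fin.val_succ] at hi; omega)

lemma F_append {n : ℕ} (x : Fin n → M) (hx : Submodule.span R (Set.range x) = ⊤) (r : ℕ) :
    ∀ (n' : ℕ) (x' : Fin n' → M), F R (Fin.append x x') r = F R x r := by
  intro n'
  induction n' with
  | zero =>
    intro x'
    have h0 : x' = Fin.elim0 := Subsingleton.elim _ _
    subst h0
    rw [Fin.append_elim0]
    exact F_comp_equiv x (finCongr (Nat.add_zero n)) r
  | succ n' ih =>
    intro x'
    have h1 : x' = Fin.snoc (Fin.init x') (x' (Fin.last n')) := (Fin.snoc_init_self x').symm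
    have hsp : Submodule.span R (Set.range (Fin.append x (Fin.init x'))) = ⊤ := by
      rw [eq_top_iff, ← hx]
      refine Submodule.span_mono ?_
      rintro _ ⟨j, rfl⟩
      exact ⟨Fin.castAdd n' j, Fin.append_left _ _ _⟩
    rw [h1, Fin.append_snoc, F_snoc _ _ (by rw [hsp]; trivial), ih]

lemma F_eq {n n' : ℕ} (x : Fin n → M) (x' : Fin n' → M)
    (hx : Submodule.span R (Set.range x) = ⊤) (hx' : Submodule.span R (Set.range x') = ⊤)
    (r : ℕ) : F R x r = F R x' r := by
  rw [← F_append x hx r n' x', ← F_append x' hx' r n x]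
  have : Fin.append x x' = Fin.append x' x ∘ finAddFlip := by
    funext i
    refine Fin.addCases (fun l => ?_) (fun l => ?_) i
    · simp
    · simp
  rw [this, F_comp_equiv]

/-- The Fitting ideal can be computed from any generating tuple. -/
theorem fitt_eq_F {n : ℕ} (x : Fin n → M) (hx : Submodule.span R (Set.range x) = ⊤) (r : ℕ) :
    Fitt.ideal R M r = F R x r := by
  apply le_antisymm
  · refine Ideal.span_le.2 ?_
    rintro d ⟨n', x', a, hx', ha, rfl⟩
    rw [F_eq x x' hx hx' r]
    exact det_mem_F a ha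
  · refine Ideal.span_mono ?_
    rintro d ⟨a, ha, rfl⟩
    exact ⟨n, x, a, hx, ha, rfl⟩

/-- Multilinearity: a determinant whose rows lie in spans of sets is in the ideal spanned by
determinants with rows in those sets. -/
lemma det_mem_span_of_rows {ι : Type*} [Fintype ι] [DecidableEq ι] (G : ι → Set (ι → R))
    (a : Matrix ι ι R) (ha : ∀ i, a i ∈ Submodule.span R (G i)) :
    a.det ∈ Ideal.span {d | ∃ b : Matrix ι ι R, (∀ i, b i ∈ G i) ∧ d = b.det} := by
  set J := Ideal.span {d | ∃ b : Matrix ι ι R, (∀ i, b i ∈ G i) ∧ d = b.det} with hJ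
  have key : ∀ S : Finset ι, ∀ a : Matrix ι ι R, (∀ i ∈ S, a i ∈ Submodule.span R (G i)) →
      (∀ i ∉ S, a i ∈ G i) → a.det ∈ J := by
    intro S
    induction S using Finset.induction_on with
    | empty =>
      intro a _ h2
      exact Ideal.subset_span ⟨a, fun i => h2 i (Finset.notMem_empty i), rfl⟩
    | insert i₀ S hi₀ ih =>
      intro a h1 h2
      have hrow : a i₀ ∈ Submodule.span R (G i₀) := h1 i₀ (Finset.mem_insert_self _ _)
      have hP : ∀ v ∈ Submodule.span R (G i₀), (a.updateRow i₀ v).det ∈ J := by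
        intro v hv
        induction hv using Submodule.span_induction with
        | mem v hv =>
          apply ih
          · intro i hi
            have hne : i ≠ i₀ := fun h => hi₀ (h ▸ hi)
            rw [Matrix.updateRow_ne hne]
            exact h1 i (Finset.mem_insert_of_mem hi)
          · intro i hi
            by_cases hne : i = i₀
            · subst hne; rw [Matrix.updateRow_self]; exact hv
            · rw [Matrix.updateRow_ne hne]
              exact h2 i (by simp [hne, hi])
        | zero =>
          rw [Matrix.det_eq_zero_of_row_eq_zero i₀ (fun j => by simp)]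
          exact J.zero_mem
        | add u v _ _ hu hv =>
          rw [Matrix.det_updateRow_add]; exact J.add_mem hu hv
        | smul s v _ hv =>
          rw [Matrix.det_updateRow_smul]; exact J.mul_mem_left _ hv
      have := hP (a i₀) hrow
      rwa [Matrix.updateRow_eq_self] at this
  exact key Finset.univ a (fun i _ => ha i) (fun i hi => absurd (Finset.mem_univ i) hi)

/-- The ideal of `t × t` minors of matrices with rows in `Z`. -/
def minorIdeal {n : ℕ} (Z : Set (Fin n → R)) (t : ℕ) : Ideal R :=
  Ideal.span {d | ∃ (z : Fin t → (Fin n → R)) (e : Fin t → Fin n),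
    (∀ j, z j ∈ Z) ∧ d = (Matrix.of fun a b => z b (e a)).det}

lemma det_mem_minorIdeal_of_rows {n : ℕ} (Z : Set (Fin n → R)) (t : ℕ) :
    ∀ N, t ≤ N → ∀ (c : Fin N → Fin n) (A : Matrix (Fin N) (Fin N) R),
      (∀ i : Fin N, (i : ℕ) < t → ∃ z ∈ Z, A i = z ∘ c) → A.det ∈ minorIdeal Z t := by
  intro N hN
  induction N, hN using Nat.le_induction with
  | base =>
    intro c A hA
    choose z hz hzA using fun i : Fin t => hA i i.2
    refine Ideal.subset_span ⟨z, c, hz, ?_⟩
    have : A = (Matrix.of fun a b => z b (c a))ᵀ := by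
      ext a b
      show A a b = _
      rw [hzA a]; rfl
    rw [this, Matrix.det_transpose]
  | succ N hN ih =>
    intro c A hA
    rw [Matrix.det_succ_row A (Fin.last N)]
    refine Ideal.sum_mem _ fun j _ => Ideal.mul_mem_left _ _ ?_
    refine ih (c ∘ j.succAbove) _ fun i hi => ?_
    obtain ⟨z, hz, hzA⟩ := hA (Fin.castSucc i) (by simpa using hi)
    refine ⟨z, hz, ?_⟩
    ext k
    simp [Matrix.submatrix_apply, Fin.succAbove_last, hzA]

lemma F_le_minorIdeal {n : ℕ} (x : Fin n → M) (r : ℕ) :
    F R x r ≤ minorIdeal {z : Fin n → R | ∑ i, z i • x i = 0} (n - r) := by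
  refine Ideal.span_le.2 ?_
  rintro d ⟨a, ha, rfl⟩
  exact det_mem_minorIdeal_of_rows _ (n - r) n (Nat.sub_le n r) id a
    (fun i hi => ⟨a i, ha i hi, rfl⟩)

lemma minorIdeal_le_F {n : ℕ} (x : Fin n → M) (r : ℕ) :
    minorIdeal {z : Fin n → R | ∑ i, z i • x i = 0} (n - r) ≤ F R x r := by
  classical
  refine Ideal.span_le.2 ?_
  rintro d ⟨z, e, hz, rfl⟩
  by_cases he : Function.Injective e
  · have htn : n - r ≤ n := Nat.sub_le n r
    let ι : Fin (n - r) → Fin n := Fin.castLE htn
    have hι : Function.Injective ι := Fin.castLE_injective htn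
    let e₀ : {i : Fin n // i ∈ Set.range ι} ≃ {i : Fin n // i ∈ Set.range e} :=
      (Equiv.ofInjective ι hι).symm.trans (Equiv.ofInjective e he)
    let σ : Equiv.Perm (Fin n) := e₀.extendSubtype
    have hσ : ∀ a : Fin (n - r), σ (ι a) = e a := by
      intro a
      have h1 := Equiv.extendSubtype_apply_of_mem e₀ (ι a) ⟨a, rfl⟩
      rw [h1]
      simp [e₀, Equiv.ofInjective_symm_apply]
    let B : Matrix (Fin n) (Fin n) R :=
      Matrix.of fun i => if h : (i : ℕ) < n - r then z ⟨i, h⟩ else Pi.single (σ i) 1
    have hB : B.det ∈ F R x r := det_mem_F B (fun i hi => by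
      simp only [B, Matrix.of_apply, dif_pos hi]
      exact hz ⟨i, hi⟩)
    have hdet : (B.submatrix id σ).det = (Matrix.of fun a b => z b (e a)).det := by
      let p : Fin n → Prop := fun i => (i : ℕ) < n - r
      have htri : ∀ i, ¬ p i → ∀ j, p j → (B.submatrix id σ) i j = 0 := by
        intro i hi j hj
        have hi' : ¬ ((i : ℕ) < n - r) := hi
        have hij : j ≠ i := fun h => hi (h ▸ hj)
        simp only [Matrix.submatrix_apply, id_eq, B, Matrix.of_apply, dif_neg hi']
        rw [Pi.single_apply, if_neg (fun h => hij (σ.injective h))]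
      rw [Matrix.twoBlockTriangular_det _ p htri]
      have h2 : Matrix.toSquareBlockProp (B.submatrix id σ) (fun i => ¬ p i) = 1 := by
        ext ⟨i, hi⟩ ⟨j, hj⟩
        have hi' : ¬ ((i : ℕ) < n - r) := hi
        simp only [Matrix.toSquareBlockProp, Matrix.toBlock_apply, Matrix.of_apply,
          Matrix.submatrix_apply, id_eq, B, dif_neg hi']
        rw [Pi.single_apply, Matrix.one_apply]
        by_cases hij : i = j
        · subst hij; simp
        · rw [if_neg (fun h => hij (σ.injective h).symm),
            if_neg (fun h => hij (by simpa using h))]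
      rw [h2, Matrix.det_one, mul_one]
      let ε : Fin (n - r) ≃ {i : Fin n // p i} :=
        { toFun := fun a => ⟨ι a, by
            show ((Fin.castLE htn a : Fin n) : ℕ) < n - r
            simp⟩
          invFun := fun i => ⟨i.1, i.2⟩
          left_inv := fun a => by ext; simp [ι]
          right_inv := fun i => by ext; simp [ι] }
      rw [← Matrix.det_submatrix_equiv_self ε, ← Matrix.det_transpose]
      congr 1
      ext a b
      have hb : (((ε b).1 : Fin n) : ℕ) < n - r := (ε b).2
      simp only [Matrix.transpose_apply, Matrix.submatrix_apply, Matrix.toSquareBlockProp,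
        Matrix.toBlock_apply, Matrix.of_apply, id_eq, B, dif_pos hb]
      have h3 : (⟨(((ε b).1 : Fin n) : ℕ), hb⟩ : Fin (n - r)) = b := by ext; simp [ε, ι]
      have h4 : σ (ε a).1 = e a := hσ a
      rw [h3, h4]
    rw [← hdet, Matrix.det_permute']
    exact Ideal.mul_mem_left _ _ hB
  · simp only [Function.Injective, not_forall] at he
    obtain ⟨a, a', hee, hne⟩ := he
    have : (Matrix.of fun a b => z b (e a)).det = 0 :=
      Matrix.det_zero_of_row_eq hne (funext fun b => by simp [hee])
    rw [this]
    exact zero_mem _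

/-- S6889 in library form. -/
theorem fitt_eq_minorIdeal {n : ℕ} (x : Fin n → M) (hx : Submodule.span R (Set.range x) = ⊤)
    (k : ℕ) : Fitt.ideal R M k = minorIdeal {z : Fin n → R | ∑ i, z i • x i = 0} (n - k) :=
  (fitt_eq_F x hx k).trans (le_antisymm (F_le_minorIdeal x k) (minorIdeal_le_F x k))

end

end Groth.Agent.Lib.Helper18.FittLib
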