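import Mathlib
import Groth.Prelude.Def_Fitting
import Groth.Agent.Lib.Helper18.FittLib

/-!
# Fitting ideals II: generators of relations, monotonicity, base change (helper18)
-/

namespace Groth.Agent.Lib.Helper18.FittLib

open Matrix TensorProduct

universe u v w u'

section
variable {R : Type u} [CommRing R] {M : Type v} [AddCommGroup M] [Module R M]

lemma F_mono {n : ℕ} (x : Fin n → M) {k k' : ℕ} (h : k ≤ k') : F R x k ≤ F R x k' := by
  refine Ideal.span_mono ?_
  rintro d ⟨a, ha, rfl⟩
  exact ⟨a, fun i hi => ha i (lt_of_lt_of_le hi (Nat.sub_le_sub_left h n)), rfl⟩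

lemma F_eq_top {n : ℕ} (x : Fin n → M) {k : ℕ} (h : n ≤ k) : F R x k = ⊤ := by
  rw [Ideal.eq_top_iff_one]
  have : (1 : Matrix (Fin n) (Fin n) R).det ∈ F R x k :=
    det_mem_F 1 (fun i hi => by omega)
  simpa using this

/-- Row sets: generators `S` of relations for the first rows, standard basis for the last rows. -/
def rowSets {n : ℕ} (S : Set (Fin n → R)) (k : ℕ) : Fin n → Set (Fin n → R) :=
  fun i => if (i : ℕ) < n - k then S
    else Set.range (fun j : Fin n => (Pi.single j 1 : Fin n → R))

lemma span_range_single (n : ℕ) :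
    Submodule.span R (Set.range (fun j : Fin n => (Pi.single j 1 : Fin n → R))) = ⊤ := by
  have : Set.range (fun j : Fin n => (Pi.single j 1 : Fin n → R))
      = Set.range (Pi.basisFun R (Fin n)) := by
    congr 1; ext j; simp
  rw [this]; exact (Pi.basisFun R (Fin n)).span_eq

lemma F_eq_span_rowSets {n : ℕ} (x : Fin n → M) (S : Set (Fin n → R))
    (hS : Submodule.span R S = LinearMap.ker (Fintype.linearCombination R x)) (k : ℕ) :
    F R x k = Ideal.span {d | ∃ b : Matrix (Fin n) (Fin n) R,
      (∀ i, b i ∈ rowSets S k i) ∧ d = b.det} := by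
  apply le_antisymm
  · refine Ideal.span_le.2 ?_
    rintro d ⟨a, ha, rfl⟩
    refine det_mem_span_of_rows (rowSets S k) a fun i => ?_
    by_cases hi : (i : ℕ) < n - k
    · simp only [rowSets, if_pos hi]
      rw [hS, LinearMap.mem_ker, Fintype.linearCombination_apply]
      exact ha i hi
    · simp only [rowSets, if_neg hi]
      rw [span_range_single]; trivial
  · refine Ideal.span_le.2 ?_
    rintro d ⟨b, hb, rfl⟩
    refine det_mem_F b fun i hi => ?_
    have h1 := hb i
    simp only [rowSets, if_pos hi] at h1
    have h2 : b i ∈ LinearMap.ker (Fintype.linearCombination R x) := by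
      rw [← hS]; exact Submodule.subset_span h1
    simpa [LinearMap.mem_ker, Fintype.linearCombination_apply] using h2

lemma fitt_le_of_surjective {M' : Type w} [AddCommGroup M'] [Module R M'] (f : M →ₗ[R] M')
    (hf : Function.Surjective f) (k : ℕ) : Fitt.ideal R M k ≤ Fitt.ideal R M' k := by
  refine Ideal.span_mono ?_
  rintro d ⟨n, x, a, hx, ha, rfl⟩
  refine ⟨n, f ∘ x, a, ?_, ?_, rfl⟩
  · rw [Set.range_comp, ← Submodule.map_span, hx, Submodule.map_top, LinearMap.range_eq_top.2 hf]
  · intro i hi
    have := congrArg f (ha i hi)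
    simpa [map_sum] using this

lemma fitt_congr {M' : Type w} [AddCommGroup M'] [Module R M'] (e : M ≃ₗ[R] M') (k : ℕ) :
    Fitt.ideal R M k = Fitt.ideal R M' k :=
  le_antisymm (fitt_le_of_surjective e.toLinearMap e.surjective k)
    (fitt_le_of_surjective e.symm.toLinearMap e.symm.surjective k)

lemma fitt_mono [Module.Finite R M] {k k' : ℕ} (h : k ≤ k') :
    Fitt.ideal R M k ≤ Fitt.ideal R M k' := by
  obtain ⟨n, x, hx⟩ := Module.Finite.exists_fin (R := R) (M := M)
  rw [fitt_eq_F x hx, fitt_eq_F x hx]
  exact F_mono x h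

end

section BaseChange
variable {R : Type u} [CommRing R] {M : Type v} [AddCommGroup M] [Module R M]
variable (R' : Type u') [CommRing R'] [Algebra R R']

lemma span_one_tmul {n : ℕ} (x : Fin n → M) (hx : Submodule.span R (Set.range x) = ⊤) :
    Submodule.span R' (Set.range fun i => (1 : R') ⊗ₜ[R] x i) = ⊤ := by
  rw [eq_top_iff]
  rintro t -
  induction t using TensorProduct.induction_on with
  | zero => exact zero_mem _
  | tmul r m =>
    obtain ⟨c, rfl⟩ := (Submodule.mem_span_range_iff_exists_fun R).1
      (show m ∈ Submodule.span R (Set.range x) by rw [hx]; trivial)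
    rw [TensorProduct.tmul_sum]
    refine Submodule.sum_mem _ fun i _ => ?_
    have : r ⊗ₜ[R] (c i • x i) = (c i • r) • ((1 : R') ⊗ₜ[R] x i) := by
      rw [TensorProduct.smul_tmul', smul_eq_mul, mul_one, TensorProduct.smul_tmul]
    rw [this]
    exact Submodule.smul_mem _ _ (Submodule.subset_span ⟨i, rfl⟩)
  | add a b ha hb => exact add_mem ha hb

lemma sum_alg_smul_one_tmul {n : ℕ} (x : Fin n → M) (z : Fin n → R) :
    ∑ i, algebraMap R R' (z i) • ((1 : R') ⊗ₜ[R] x i) = (1 : R') ⊗ₜ[R] ∑ i, z i • x i := by
  rw [TensorProduct.tmul_sum]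
  refine Finset.sum_congr rfl fun i _ => ?_
  rw [TensorProduct.smul_tmul', smul_eq_mul, mul_one, Algebra.algebraMap_eq_smul_one,
    TensorProduct.smul_tmul]

lemma ker_baseChange {n : ℕ} (x : Fin n → M) (hx : Submodule.span R (Set.range x) = ⊤) :
    Submodule.span R' ((fun z : Fin n → R => (fun i => algebraMap R R' (z i))) ''
        (LinearMap.ker (Fintype.linearCombination R x) : Set (Fin n → R)))
      = LinearMap.ker (Fintype.linearCombination R' (fun i => (1 : R') ⊗ₜ[R] x i)) := by
  classical
  apply le_antisymm
  · refine Submodule.span_le.2 ?_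
    rintro _ ⟨z, hz, rfl⟩
    have hz' : ∑ i, z i • x i = 0 := by
      simpa [LinearMap.mem_ker, Fintype.linearCombination_apply] using hz
    show _ ∈ LinearMap.ker _
    rw [LinearMap.mem_ker, Fintype.linearCombination_apply]
    rw [sum_alg_smul_one_tmul, hz', TensorProduct.tmul_zero]
  · intro w hw
    set f := Fintype.linearCombination R x with hf
    have hfs : Function.Surjective f := by
      rw [← LinearMap.range_eq_top, hf, Fintype.range_linearCombination, hx]
    set φ := TensorProduct.piScalarRight R R' R' (Fin n) with hφ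
    have key : ∀ u : R' ⊗[R] (Fin n → R),
        Fintype.linearCombination R' (fun i => (1 : R') ⊗ₜ[R] x i) (φ u)
          = LinearMap.lTensor R' f u := by
      intro u
      induction u using TensorProduct.induction_on with
      | zero => simp
      | tmul r z =>
        rw [Fintype.linearCombination_apply, LinearMap.lTensor_tmul, hf,
          Fintype.linearCombination_apply, TensorProduct.tmul_sum]
        refine Finset.sum_congr rfl fun i _ => ?_
        rw [hφ, TensorProduct.piScalarRight_apply, TensorProduct.piScalarRightHom_tmul,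
          TensorProduct.smul_tmul', smul_eq_mul, mul_one, TensorProduct.smul_tmul]
      | add a b ha hb => rw [map_add, map_add, map_add, ha, hb]
    have hu : LinearMap.lTensor R' f (φ.symm w) = 0 := by
      rw [← key, LinearEquiv.apply_symm_apply]
      simpa [LinearMap.mem_ker] using hw
    have hex := lTensor_exact R' (LinearMap.exact_subtype_ker_map f) hfs
    obtain ⟨v, hv⟩ := (hex (φ.symm w)).1 hu
    have hw2 : w = φ (LinearMap.lTensor R' (LinearMap.ker f).subtype v) := by
      rw [hv, LinearEquiv.apply_symm_apply]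
    rw [hw2]
    clear hw2 hv hu hw
    induction v using TensorProduct.induction_on with
    | zero => simp
    | tmul r z =>
      rw [LinearMap.lTensor_tmul, hφ, TensorProduct.piScalarRight_apply,
        TensorProduct.piScalarRightHom_tmul]
      have : (fun j => (LinearMap.ker f).subtype z j • r)
          = r • (fun i => algebraMap R R' ((z : Fin n → R) i)) := by
        ext j
        simp [Algebra.smul_def, mul_comm]
      rw [this]
      exact Submodule.smul_mem _ _ (Submodule.subset_span ⟨z, z.2, rfl⟩)
    | add a b ha hb =>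
      rw [map_add, map_add]; exact add_mem ha hb

theorem F_baseChange {n : ℕ} (x : Fin n → M) (hx : Submodule.span R (Set.range x) = ⊤) (k : ℕ) :
    F R' (fun i => (1 : R') ⊗ₜ[R] x i) k = (F R x k).map (algebraMap R R') := by
  classical
  apply le_antisymm
  · rw [F_eq_span_rowSets _ _ (ker_baseChange R' x hx)]
    refine Ideal.span_le.2 ?_
    rintro d ⟨b, hb, rfl⟩
    have hex : ∀ i : Fin n, ∃ z : Fin n → R, ((i : ℕ) < n - k → ∑ j, z j • x j = 0) ∧
        (fun j => algebraMap R R' (z j)) = b i := by
      intro i
      have h1 := hb i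
      by_cases hi : (i : ℕ) < n - k
      · simp only [rowSets, if_pos hi] at h1
        obtain ⟨z, hz, hzb⟩ := h1
        refine ⟨z, fun _ => ?_, hzb⟩
        simpa [LinearMap.mem_ker, Fintype.linearCombination_apply] using hz
      · simp only [rowSets, if_neg hi] at h1
        obtain ⟨j, hj⟩ := h1
        refine ⟨Pi.single j 1, fun h => absurd h hi, ?_⟩
        rw [← hj]
        ext l
        simp [Pi.single_apply]
    choose a ha1 ha2 using hex
    have hb2 : b = (Matrix.of a).map (algebraMap R R') := by
      ext i j
      have := congrFun (ha2 i) j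
      simp [Matrix.map_apply, ← this]
    rw [hb2, show ((Matrix.of a).map (algebraMap R R')).det = algebraMap R R' (Matrix.of a).det
      from (RingHom.map_det _ _).symm]
    exact Ideal.mem_map_of_mem _ (det_mem_F (Matrix.of a) (fun i hi => ha1 i hi))
  · rw [Ideal.map_le_iff_le_comap]
    refine Ideal.span_le.2 ?_
    rintro d ⟨a, ha, rfl⟩
    rw [SetLike.mem_coe, Ideal.mem_comap, RingHom.map_det]
    refine det_mem_F _ fun i hi => ?_
    have := sum_alg_smul_one_tmul R' x (a i)
    simp only [RingHom.mapMatrix_apply, Matrix.map_apply]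
    rw [this, ha i hi, TensorProduct.tmul_zero]

theorem fitt_baseChange [Module.Finite R M] (k : ℕ) :
    Fitt.ideal R' (R' ⊗[R] M) k = (Fitt.ideal R M k).map (algebraMap R R') := by
  obtain ⟨n, x, hx⟩ := Module.Finite.exists_fin (R := R) (M := M)
  rw [fitt_eq_F x hx, fitt_eq_F _ (span_one_tmul R' x hx), F_baseChange R' x hx]

end BaseChange

end Groth.Agent.Lib.Helper18.FittLib
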