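import Mathlib
import Groth.Prelude.Def_Fitting
import Groth.Agent.Lib.Helper18.FittLib2

/-!
# Fitting ideals III: minors of a presentation matrix (helper18)
-/

namespace Groth.Agent.Lib.Helper18.FittLib

open Matrix

universe u v w

section
variable {R : Type u} [CommRing R] {M : Type v} [AddCommGroup M] [Module R M]

lemma minorIdeal_mono {n : ℕ} {Z Z' : Set (Fin n → R)} (h : Z ⊆ Z') (t : ℕ) :
    minorIdeal Z t ≤ minorIdeal Z' t := by
  refine Ideal.span_mono ?_
  rintro d ⟨z, e, hz, rfl⟩
  exact ⟨z, e, fun j => h (hz j), rfl⟩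

lemma minorIdeal_span {n : ℕ} (S : Set (Fin n → R)) (t : ℕ) :
    minorIdeal (Submodule.span R S : Set (Fin n → R)) t = minorIdeal S t := by
  classical
  apply le_antisymm
  · refine Ideal.span_le.2 ?_
    rintro d ⟨z, e, hz, rfl⟩
    have h1 : (Matrix.of fun a b => z b (e a)).det = (Matrix.of fun b a => z b (e a)).det := by
      rw [← Matrix.det_transpose]; rfl
    rw [h1]
    have h2 := det_mem_span_of_rows (fun _ : Fin t => (fun s : Fin n → R => s ∘ e) '' S)
      (Matrix.of fun b a => z b (e a)) (fun b => by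
        have := Submodule.apply_mem_span_image_of_mem_span (LinearMap.funLeft R R e) (hz b)
        exact this)
    refine (Ideal.span_le.2 ?_) h2
    rintro d ⟨b', hb', rfl⟩
    choose s hs hsb using hb'
    refine Ideal.subset_span ⟨s, e, hs, ?_⟩
    rw [← Matrix.det_transpose]
    congr 1
    ext a b
    rw [Matrix.transpose_apply, ← hsb b]
    rfl
  · exact minorIdeal_mono Submodule.subset_span t

/-- The ideal of `t × t` minors of a matrix (arbitrary row and column selections). -/
def matMinorIdeal {ι κ : Type*} (A : Matrix ι κ R) (t : ℕ) : Ideal R :=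
  Ideal.span {d | ∃ (f : Fin t → ι) (g : Fin t → κ), d = (A.submatrix f g).det}

lemma det_submatrix_mem_matMinorIdeal {ι κ : Type*} (A : Matrix ι κ R) {t : ℕ}
    (f : Fin t → ι) (g : Fin t → κ) : (A.submatrix f g).det ∈ matMinorIdeal A t :=
  Ideal.subset_span ⟨f, g, rfl⟩

lemma matMinorIdeal_transpose {ι κ : Type*} (A : Matrix ι κ R) (t : ℕ) :
    matMinorIdeal Aᵀ t = matMinorIdeal A t := by
  apply le_antisymm <;> refine Ideal.span_mono ?_
  · rintro d ⟨f, g, rfl⟩
    exact ⟨g, f, by rw [← Matrix.transpose_submatrix, Matrix.det_transpose]⟩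
  · rintro d ⟨f, g, rfl⟩
    exact ⟨g, f, by rw [← Matrix.transpose_submatrix, Matrix.det_transpose]⟩

lemma matMinorIdeal_zero {ι κ : Type*} (A : Matrix ι κ R) : matMinorIdeal A 0 = ⊤ := by
  rw [Ideal.eq_top_iff_one]
  have := det_submatrix_mem_matMinorIdeal A (Fin.elim0 : Fin 0 → ι) (Fin.elim0 : Fin 0 → κ)
  simpa using this

lemma matMinorIdeal_eq_bot_of_card_lt {ι κ : Type*} [Fintype κ] (A : Matrix ι κ R) {t : ℕ}
    (h : Fintype.card κ < t) : matMinorIdeal A t = ⊥ := by
  rw [eq_bot_iff]
  refine Ideal.span_le.2 ?_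
  rintro d ⟨f, g, rfl⟩
  obtain ⟨b, b', hne, hbb⟩ := Fintype.exists_ne_map_eq_of_card_lt g (by simpa using h)
  have : (A.submatrix f g).det = 0 :=
    Matrix.det_zero_of_column_eq hne (fun k => by simp [hbb])
  simp [this]

lemma matMinorIdeal_eq_bot_of_card_lt' {ι κ : Type*} [Fintype ι] (A : Matrix ι κ R) {t : ℕ}
    (h : Fintype.card ι < t) : matMinorIdeal A t = ⊥ := by
  rw [← matMinorIdeal_transpose]
  exact matMinorIdeal_eq_bot_of_card_lt _ h

lemma minorIdeal_range_rows {n : ℕ} {ι : Type*} (A : Matrix ι (Fin n) R) (t : ℕ) :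
    minorIdeal (Set.range fun i => A i) t = matMinorIdeal A t := by
  apply le_antisymm
  · refine Ideal.span_le.2 ?_
    rintro d ⟨z, e, hz, rfl⟩
    choose f hf using hz
    refine Ideal.subset_span ⟨f, e, ?_⟩
    rw [← Matrix.det_transpose]
    congr 1
    ext a b
    rw [Matrix.transpose_apply, Matrix.of_apply, ← hf a]
    rfl
  · refine Ideal.span_le.2 ?_
    rintro d ⟨f, g, rfl⟩
    refine Ideal.subset_span ⟨fun b => A (f b), g, fun j => ⟨f j, rfl⟩, ?_⟩
    rw [← Matrix.det_transpose]
    congr 1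

/-- The Fitting ideal is the ideal of minors of any presentation matrix (rows generate the
relations among the generating tuple). -/
theorem fitt_eq_matMinorIdeal {n : ℕ} (x : Fin n → M) (hx : Submodule.span R (Set.range x) = ⊤)
    {ι : Type*} (A : Matrix ι (Fin n) R)
    (hA : Submodule.span R (Set.range fun i => A i)
      = LinearMap.ker (Fintype.linearCombination R x))
    (k : ℕ) : Fitt.ideal R M k = matMinorIdeal A (n - k) := by
  have hset : {z : Fin n → R | ∑ i, z i • x i = 0}
      = (↑(LinearMap.ker (Fintype.linearCombination R x)) : Set (Fin n → R)) := by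
    ext z; simp [LinearMap.mem_ker, Fintype.linearCombination_apply]
  rw [fitt_eq_minorIdeal x hx k, hset, ← hA, minorIdeal_span, minorIdeal_range_rows]

lemma sum_smul_single {n : ℕ} (z : Fin n → R) :
    ∑ i, z i • (Pi.single i (1 : R) : Fin n → R) = z := by
  funext j
  simp [Finset.sum_apply, Pi.single_apply]

lemma dual_eq_sum {p : ℕ} (φ : (Fin p → R) →ₗ[R] R) :
    φ = ∑ j, φ (Pi.single j 1) • (LinearMap.proj j : (Fin p → R) →ₗ[R] R) := by
  refine LinearMap.ext fun v => ?_
  rw [LinearMap.sum_apply]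
  simp only [LinearMap.smul_apply, LinearMap.proj_apply, smul_eq_mul]
  conv_lhs => rw [← sum_smul_single v]
  rw [map_sum]
  refine Finset.sum_congr rfl fun j _ => ?_
  rw [map_smul, smul_eq_mul, mul_comm]

end

end Groth.Agent.Lib.Helper18.FittLib
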