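import Mathlib
import Groth.Prelude.Def_Fitting
import Groth.Agent.Lib.Helper18.FittLib3

/-!
# Fitting ideals IV: free modules, localization, the prime criterion (helper18)
-/

namespace Groth.Agent.Lib.Helper18.FittLib

open Matrix

universe u v w

section
variable {R : Type u} [CommRing R] {M : Type v} [AddCommGroup M] [Module R M]

/-- Fitting ideals of a free module with a finite basis. -/
theorem fitt_of_basis {n : ℕ} (b : Module.Basis (Fin n) R M) (k : ℕ) :
    Fitt.ideal R M k = if n ≤ k then ⊤ else ⊥ := by
  classical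
  have hx : Submodule.span R (Set.range b) = ⊤ := b.span_eq
  let A : Matrix (Fin 0) (Fin n) R := 0
  have hA : Submodule.span R (Set.range fun i => A i)
      = LinearMap.ker (Fintype.linearCombination R b) := by
    have h1 : (Set.range fun i => A i) = ∅ := Set.range_eq_empty _
    rw [h1, Submodule.span_empty]
    symm
    refine LinearMap.ker_eq_bot'.2 fun z hz => ?_
    funext i
    exact Fintype.linearIndependent_iff.1 b.linearIndependent z hz i
  rw [fitt_eq_matMinorIdeal b hx A hA k]
  split_ifs with h
  · rw [Nat.sub_eq_zero_of_le h]; exact matMinorIdeal_zero A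
  · exact matMinorIdeal_eq_bot_of_card_lt' A (by simp; omega)

theorem fitt_localizedModule [Module.Finite R M] (S : Submonoid R) (k : ℕ) :
    Fitt.ideal (Localization S) (LocalizedModule S M) k
      = (Fitt.ideal R M k).map (algebraMap R (Localization S)) := by
  have hbc : IsBaseChange (Localization S) (LocalizedModule.mkLinearMap S M) :=
    LocalizedModule.isBaseChange S M
  rw [← fitt_baseChange (Localization S) k]
  exact (fitt_congr hbc.equiv k).symm

lemma span_mk_eq_top (S : Submonoid R) {k : ℕ} (s : R) (hs : s ∈ S) (m : Fin k → M)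
    (h : ∀ y : M, s • y ∈ Submodule.span R (Set.range m)) :
    Submodule.span (Localization S)
      (Set.range fun j => LocalizedModule.mk (m j) (1 : S)) = ⊤ := by
  rw [eq_top_iff]
  rintro z -
  induction z using LocalizedModule.induction_on with
  | h y t =>
    have h1 : LocalizedModule.mk y t
        = (Localization.mk 1 (⟨s, hs⟩ * t)) • LocalizedModule.mk (s • y) (1 : S) := by
      rw [LocalizedModule.mk_smul_mk, one_smul, mul_one]
      exact (LocalizedModule.mk_cancel_common_left ⟨s, hs⟩ t y).symm
    rw [h1]
    refine Submodule.smul_mem _ _ ?_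
    have h2 : ∀ w ∈ Submodule.span R (Set.range m),
        LocalizedModule.mkLinearMap S M w ∈ Submodule.span (Localization S)
          (Set.range fun j => LocalizedModule.mk (m j) (1 : S)) := by
      intro w hw
      induction hw using Submodule.span_induction with
      | mem w hw =>
        obtain ⟨j, rfl⟩ := hw
        exact Submodule.subset_span ⟨j, rfl⟩
      | zero => rw [map_zero]; exact zero_mem _
      | add u v _ _ hu hv => rw [map_add]; exact add_mem hu hv
      | smul r v _ hv =>
        rw [map_smul, ← algebraMap_smul (Localization S) r]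
        exact Submodule.smul_mem _ _ hv
    exact h2 _ (h y)

lemma exists_smul_mem_of_span_eq_top [Module.Finite R M] (S : Submonoid R) {k : ℕ}
    (g : Fin k → LocalizedModule S M)
    (hg : Submodule.span (Localization S) (Set.range g) = ⊤) :
    ∃ s ∈ S, ∃ m : Fin k → M, ∀ y : M, s • y ∈ Submodule.span R (Set.range m) := by
  classical
  have hgm : ∀ j, ∃ (mj : M) (tj : S), g j = LocalizedModule.mk mj tj := fun j => by
    induction g j using LocalizedModule.induction_on with
    | h a b => exact ⟨a, b, rfl⟩
  choose m t hmt using hgm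
  set N := Submodule.span R (Set.range m) with hN
  have hall : ∀ z : LocalizedModule S M, ∃ y ∈ N, ∃ u : S, z = LocalizedModule.mk y u := by
    intro z
    have hz : z ∈ Submodule.span (Localization S) (Set.range g) := by rw [hg]; trivial
    induction hz using Submodule.span_induction with
    | mem z hz =>
      obtain ⟨j, rfl⟩ := hz
      exact ⟨m j, Submodule.subset_span ⟨j, rfl⟩, t j, hmt j⟩
    | zero => exact ⟨0, zero_mem _, 1, (LocalizedModule.zero_mk 1).symm⟩
    | add a b _ _ ha hb =>
      obtain ⟨y, hy, u, rfl⟩ := ha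
      obtain ⟨y', hy', u', rfl⟩ := hb
      refine ⟨u' • y + u • y', ?_, u * u', ?_⟩
      · exact add_mem (N.smul_mem (u' : R) hy) (N.smul_mem (u : R) hy')
      · rw [LocalizedModule.mk_add_mk]
    | smul c a _ ha =>
      obtain ⟨y, hy, u, rfl⟩ := ha
      induction c using Localization.induction_on with
      | H rs =>
        obtain ⟨r, v⟩ := rs
        refine ⟨r • y, N.smul_mem _ hy, v * u, ?_⟩
        rw [LocalizedModule.mk_smul_mk]
  obtain ⟨n, x, hx⟩ := Module.Finite.exists_fin (R := R) (M := M)
  have hxl : ∀ l : Fin n, ∃ sl : S, (sl : R) • x l ∈ N := by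
    intro l
    obtain ⟨y, hy, u, hyu⟩ := hall (LocalizedModule.mk (x l) 1)
    rw [LocalizedModule.mk_eq] at hyu
    obtain ⟨v, hv⟩ := hyu
    refine ⟨v * u, ?_⟩
    have : ((v * u : S) : R) • x l = (v : R) • y := by
      simpa [Submonoid.smul_def, mul_smul] using hv
    rw [this]; exact N.smul_mem _ hy
  choose sl hsl using hxl
  refine ⟨∏ l, (sl l : R), ?_, m, ?_⟩
  · exact Submonoid.prod_mem _ (fun l _ => (sl l).2)
  · intro y
    have hy : y ∈ Submodule.span R (Set.range x) := by rw [hx]; trivial
    induction hy using Submodule.span_induction with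
    | mem y hy =>
      obtain ⟨l, rfl⟩ := hy
      rw [← Finset.mul_prod_erase Finset.univ _ (Finset.mem_univ l), mul_comm, mul_smul]
      exact N.smul_mem _ (hsl l)
    | zero => rw [smul_zero]; exact zero_mem _
    | add a b _ _ ha hb => rw [smul_add]; exact add_mem ha hb
    | smul c a _ ha => rw [smul_comm]; exact N.smul_mem _ ha

/-- The prime criterion: `Fit_k(M) ⊄ p` iff some `s ∉ p` multiplies `M` into a submodule
generated by `k` elements. -/
theorem not_fitt_le_prime_iff [Module.Finite R M] (k : ℕ) (p : Ideal R) [p.IsPrime] :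
    ¬ Fitt.ideal R M k ≤ p ↔ ∃ s : R, s ∉ p ∧ ∃ m : Fin k → M,
      ∀ y : M, s • y ∈ Submodule.span R (Set.range m) := by
  classical
  constructor
  · intro h
    have hex : ∃ d ∈ {d | ∃ (n : ℕ) (x : Fin n → M) (a : Matrix (Fin n) (Fin n) R),
        Submodule.span R (Set.range x) = ⊤ ∧
        (∀ i : Fin n, (i : ℕ) < n - k → ∑ j, a i j • x j = 0) ∧ d = a.det}, d ∉ p := by
      by_contra hcon
      push_neg at hcon
      exact h (Ideal.span_le.2 hcon)
    obtain ⟨d, ⟨n, x, a, hx, ha, rfl⟩, hd⟩ := hex
    let m : Fin k → M := fun j =>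
      if hj : n - k + (j : ℕ) < n then ∑ l, a ⟨n - k + j, hj⟩ l • x l else 0
    refine ⟨a.det, hd, m, fun y => ?_⟩
    have hv : ∀ i : Fin n, ∑ l, a i l • x l ∈ Submodule.span R (Set.range m) := by
      intro i
      by_cases hi : (i : ℕ) < n - k
      · rw [ha i hi]; exact zero_mem _
      · push_neg at hi
        have hjk : (i : ℕ) - (n - k) < k := by omega
        have hji : n - k + ((i : ℕ) - (n - k)) < n := by omega
        have hfin : (⟨n - k + ((i : ℕ) - (n - k)), hji⟩ : Fin n) = i := Fin.ext (by simp; omega)
        have hm : m ⟨(i : ℕ) - (n - k), hjk⟩ = ∑ l, a i l • x l := by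
          simp only [m, dif_pos hji, hfin]
        rw [← hm]
        exact Submodule.subset_span ⟨_, rfl⟩
    have hx' : ∀ l' : Fin n, a.det • x l' ∈ Submodule.span R (Set.range m) := by
      intro l'
      have : a.det • x l' = ∑ i, a.adjugate l' i • ∑ l, a i l • x l := by
        calc a.det • x l' = ∑ l, (a.adjugate * a) l' l • x l := by
              rw [Matrix.adjugate_mul]
              simp [Matrix.smul_apply, Matrix.one_apply, ite_smul]
          _ = ∑ l, ∑ i, (a.adjugate l' i * a i l) • x l := by
              simp only [Matrix.mul_apply, Finset.sum_smul]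
          _ = ∑ i, ∑ l, (a.adjugate l' i * a i l) • x l := Finset.sum_comm
          _ = ∑ i, a.adjugate l' i • ∑ l, a i l • x l := by
              simp only [Finset.smul_sum, mul_smul]
      rw [this]
      exact Submodule.sum_mem _ fun i _ => Submodule.smul_mem _ _ (hv i)
    have hy : y ∈ Submodule.span R (Set.range x) := by rw [hx]; trivial
    induction hy using Submodule.span_induction with
    | mem y hy => obtain ⟨l, rfl⟩ := hy; exact hx' l
    | zero => rw [smul_zero]; exact zero_mem _
    | add u v _ _ hu hv' => rw [smul_add]; exact add_mem hu hv'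
    | smul c u _ hu => rw [smul_comm]; exact Submodule.smul_mem _ _ hu
  · rintro ⟨s, hs, m, hm⟩ hle
    obtain ⟨n, x, hx⟩ := Module.Finite.exists_fin (R := R) (M := M)
    have hb : ∀ l : Fin n, ∃ b : Fin k → R, s • x l = ∑ j, b j • m j := fun l => by
      obtain ⟨b, hb⟩ := (Submodule.mem_span_range_iff_exists_fun R).1 (hm (x l))
      exact ⟨b, hb.symm⟩
    choose b hb using hb
    let a' : Matrix (Fin n ⊕ Fin k) (Fin n ⊕ Fin k) R :=
      Matrix.fromBlocks (s • (1 : Matrix (Fin n) (Fin n) R)) (-(Matrix.of b)) 0 1
    let a : Matrix (Fin (n + k)) (Fin (n + k)) R :=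
      a'.submatrix finSumFinEquiv.symm finSumFinEquiv.symm
    have hdet : a.det = s ^ n := by
      simp only [a, Matrix.det_submatrix_equiv_self, a', Matrix.det_fromBlocks_zero₂₁,
        Matrix.det_one, mul_one, Matrix.det_smul, Fintype.card_fin]
    have hmem : a.det ∈ Fitt.ideal R M k := by
      refine Ideal.subset_span ⟨n + k, Fin.append x m, a, ?_, ?_, rfl⟩
      · rw [eq_top_iff, ← hx]
        refine Submodule.span_mono ?_
        rintro _ ⟨l, rfl⟩
        exact ⟨Fin.castAdd k l, Fin.append_left _ _ _⟩
      · intro i hi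
        have hi' : (i : ℕ) < n := by omega
        obtain ⟨l, rfl⟩ : ∃ l : Fin n, i = Fin.castAdd k l := ⟨⟨i, hi'⟩, Fin.ext rfl⟩
        rw [Fin.sum_univ_add]
        simp only [a, a', Matrix.submatrix_apply, finSumFinEquiv_symm_apply_castAdd,
          finSumFinEquiv_symm_apply_natAdd, Matrix.fromBlocks_apply₁₁,
          Matrix.fromBlocks_apply₁₂, Fin.append_left, Fin.append_right]
        have h1 : ∑ l' : Fin n, (s • (1 : Matrix (Fin n) (Fin n) R)) l l' • x l' = s • x l := by
          simp [Matrix.smul_apply, Matrix.one_apply, ite_smul]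
        have h2 : ∑ j : Fin k, (-(Matrix.of b)) l j • m j = - (s • x l) := by
          rw [hb l, ← Finset.sum_neg_distrib]
          refine Finset.sum_congr rfl fun j _ => ?_
          simp [Matrix.neg_apply]
        rw [h1, h2, add_neg_cancel]
    have hpow : s ^ n ∈ p := hdet ▸ hle hmem
    exact hs (Ideal.IsPrime.mem_of_pow_mem ‹_› n hpow)

end

end Groth.Agent.Lib.Helper18.FittLib
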