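import Mathlib
import Groth.Prelude.Def_Fitting
import Groth.Agent.Lib.Helper18.FittLib4

/-!
# Fitting ideals V: locally free modules (helper18)
-/

namespace Groth.Agent.Lib.Helper18.FittLib

open Matrix

universe u v w

section
variable {R : Type u} [CommRing R] {M : Type v} [AddCommGroup M] [Module R M]

lemma nontrivial_away {p : Ideal R} [p.IsPrime] {f : R} (hf : f ∉ p) :
    Nontrivial (Localization.Away f) := by
  by_contra hnt
  rw [not_nontrivial_iff_subsingleton] at hnt
  have h0 : algebraMap R (Localization.Away f) 1 = 0 := Subsingleton.elim _ _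
  obtain ⟨⟨c, e, rfl⟩, hc⟩ := (IsLocalization.map_eq_zero_iff (Submonoid.powers f) _ 1).1 h0
  simp only [mul_one] at hc
  have : f ^ e ∈ p := by rw [hc]; exact zero_mem _
  exact hf (Ideal.IsPrime.mem_of_pow_mem ‹_› e this)

/-- A spanning family of `r` elements in a module whose `(r-1)`-st Fitting ideal vanishes is
linearly independent. -/
lemma linearIndependent_of_fitt_eq_bot {r : ℕ} (g : Fin r → M)
    (hg : Submodule.span R (Set.range g) = ⊤)
    (h : ∀ k, k < r → Fitt.ideal R M k = ⊥) : LinearIndependent R g := by
  rw [Fintype.linearIndependent_iff]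
  intro z hz j₀
  have hr : 1 ≤ r := by
    have := j₀.2; omega
  have h1 := fitt_eq_minorIdeal g hg (r - 1)
  rw [h (r - 1) (by omega)] at h1
  have h2 : r - (r - 1) = 1 := by omega
  rw [h2] at h1
  have hmem : z j₀ ∈ minorIdeal {z : Fin r → R | ∑ i, z i • g i = 0} 1 := by
    refine Ideal.subset_span ⟨fun _ => z, fun _ => j₀, fun _ => hz, ?_⟩
    rw [Matrix.det_fin_one]
    rfl
  rw [← h1] at hmem
  simpa using hmem

/-- S6895: locally free of rank `r` iff the Fitting ideals are `0` below `r` and `R` from `r`. -/
theorem locFree_iff_fitt [Module.Finite R M] (r : ℕ) :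
    (∀ (p : Ideal R) [p.IsPrime], ∃ f : R, f ∉ p ∧
      Module.Free (Localization.Away f) (LocalizedModule (Submonoid.powers f) M) ∧
        Module.finrank (Localization.Away f) (LocalizedModule (Submonoid.powers f) M) = r) ↔
    ((∀ k, k < r → Fitt.ideal R M k = ⊥) ∧ (∀ k, r ≤ k → Fitt.ideal R M k = ⊤)) := by
  classical
  constructor
  · intro H
    have key : ∀ (p : Ideal R) [p.IsPrime], ∃ f : R, f ∉ p ∧ ∀ k,
        (Fitt.ideal R M k).map (algebraMap R (Localization.Away f))
          = if r ≤ k then ⊤ else ⊥ := by
      intro p _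
      obtain ⟨f, hf, hfree, hrank⟩ := H p
      refine ⟨f, hf, fun k => ?_⟩
      haveI := nontrivial_away hf
      rw [← fitt_localizedModule (Submonoid.powers f) k]
      exact fitt_of_basis (Module.finBasisOfFinrankEq (Localization.Away f)
        (LocalizedModule (Submonoid.powers f) M) hrank) k
    constructor
    · intro k hk
      rw [eq_bot_iff]
      intro a ha
      rw [Submodule.mem_bot]
      by_contra ha0
      let I : Ideal R := LinearMap.ker (LinearMap.toSpanSingleton R R a)
      have hI : I ≠ ⊤ := by
        intro htop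
        have : (1 : R) ∈ I := by rw [htop]; trivial
        rw [LinearMap.mem_ker, LinearMap.toSpanSingleton_apply, one_smul] at this
        exact ha0 this
      obtain ⟨p, hp, hIp⟩ := Ideal.exists_le_maximal I hI
      haveI := hp.isPrime
      obtain ⟨f, hf, hmap⟩ := key p
      have h1 := hmap k
      rw [if_neg (by omega)] at h1
      have h2 : algebraMap R (Localization.Away f) a = 0 := by
        have : algebraMap R (Localization.Away f) a ∈
            (Fitt.ideal R M k).map (algebraMap R (Localization.Away f)) :=
          Ideal.mem_map_of_mem _ ha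
        rw [h1] at this
        simpa using this
      obtain ⟨⟨c, e, rfl⟩, hc⟩ := (IsLocalization.map_eq_zero_iff (Submonoid.powers f) _ a).1 h2
      have : f ^ e ∈ I := by
        rw [LinearMap.mem_ker, LinearMap.toSpanSingleton_apply, smul_eq_mul]
        exact hc
      exact hf (Ideal.IsPrime.mem_of_pow_mem ‹_› e (hIp this))
    · intro k hk
      by_contra hne
      obtain ⟨p, hp, hIp⟩ := Ideal.exists_le_maximal _ hne
      haveI := hp.isPrime
      obtain ⟨f, hf, hmap⟩ := key p
      have h1 := hmap k
      rw [if_pos hk] at h1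
      have h2 : ¬ Disjoint ((Submonoid.powers f : Submonoid R) : Set R)
          ((Fitt.ideal R M k : Ideal R) : Set R) := by
        rw [← IsLocalization.map_algebraMap_ne_top_iff_disjoint (Submonoid.powers f)
          (Localization.Away f)]
        exact fun h => h h1
      rw [Set.not_disjoint_iff] at h2
      obtain ⟨c, ⟨e, rfl⟩, hc⟩ := h2
      exact hf (Ideal.IsPrime.mem_of_pow_mem ‹_› e (hIp hc))
  · rintro ⟨hlow, hhigh⟩ p _
    have hnot : ¬ Fitt.ideal R M r ≤ p := by
      rw [hhigh r le_rfl]
      intro h
      exact (Ideal.IsPrime.ne_top ‹_›) (top_le_iff.1 h)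
    obtain ⟨s, hs, m, hm⟩ := (not_fitt_le_prime_iff r p).1 hnot
    refine ⟨s, hs, ?_⟩
    haveI := nontrivial_away hs
    set S := Submonoid.powers s with hS
    let g : Fin r → LocalizedModule S M := fun j => LocalizedModule.mk (m j) (1 : S)
    have hg : Submodule.span (Localization S) (Set.range g) = ⊤ :=
      span_mk_eq_top S s (Submonoid.mem_powers s) m hm
    have hlow' : ∀ k, k < r → Fitt.ideal (Localization S) (LocalizedModule S M) k = ⊥ := by
      intro k hk
      rw [fitt_localizedModule S k, hlow k hk, Ideal.map_bot]
    have hli : LinearIndependent (Localization S) g :=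
      linearIndependent_of_fitt_eq_bot g hg hlow'
    let b : Module.Basis (Fin r) (Localization S) (LocalizedModule S M) :=
      Module.Basis.mk hli (by rw [hg])
    refine ⟨Module.Free.of_basis b, ?_⟩
    rw [Module.finrank_eq_card_basis b, Fintype.card_fin]

end

end Groth.Agent.Lib.Helper18.FittLib
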