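import Mathlib

/-!
# The constructible topology of a (locally) spectral space (helper18)

For a `T0`, quasi-sober, prespectral, quasi-separated space `X` (e.g. a quasi-separated scheme), the
constructible topology is totally separated and locally compact; compact opens are compact for the
constructible topology.
-/

set_option autoImplicit false
universe u
open Topology TopologicalSpace

namespace Groth.Agent.Lib.Helper18

variable {X : Type u} [TopologicalSpace X]

/-- A compact open `V` of `X`, with its own constructible topology, maps continuously to `X` with the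
constructible topology, when `X` is quasi-separated. -/
lemma continuous_val_cons [QuasiSeparatedSpace X] (V : Set X) (hVo : IsOpen V) (hVc : IsCompact V) :
    Continuous[constructibleTopology V, constructibleTopology X] (Subtype.val : V → X) := by
  rw [constructibleTopology, continuous_generateFrom_iff]
  have hcomp : ∀ s : Set X, IsOpen s → IsCompact s → IsCompact (Subtype.val ⁻¹' s : Set V) := by
    intro s hso hsc
    rw [Subtype.isCompact_iff]
    have : (Subtype.val '' (Subtype.val ⁻¹' s : Set V)) = s ∩ V := by
      rw [Subtype.image_preimage_coe, Set.inter_comm]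
    rw [this]
    exact hsc.inter_of_isOpen hVc hso hVo
  rintro s (⟨hso, hsc⟩ | ⟨hscl, hsc⟩)
  · exact (hcomp s hso hsc).isOpen_constructibleTopology_of_isOpen (hso.preimage continuous_subtype_val)
  · refine IsCompact.isOpen_constructibleTopology_of_isClosed ?_ (hscl.preimage continuous_subtype_val)
    rw [← Set.preimage_compl]
    exact hcomp sᶜ hscl.isOpen_compl hsc

/-- compact opens are compact for the constructible topology. -/
lemma isCompact_cons_of_isCompact_isOpen [QuasiSober X] [PrespectralSpace X] [QuasiSeparatedSpace X]
    (V : Set X) (hVo : IsOpen V) (hVc : IsCompact V) :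
    @IsCompact X (constructibleTopology X) V := by
  haveI : CompactSpace V := isCompact_iff_compactSpace.mp hVc
  haveI : QuasiSober V := hVo.isOpenEmbedding_subtypeVal.quasiSober
  haveI : PrespectralSpace V := hVo.isOpenEmbedding_subtypeVal.prespectralSpace
  haveI : QuasiSeparatedSpace V := QuasiSeparatedSpace.of_isOpenEmbedding hVo.isOpenEmbedding_subtypeVal
  have h1 : CompactSpace (WithConstructibleTopology V) := inferInstance
  have h2 : @CompactSpace V (constructibleTopology V) :=
    @Function.Surjective.compactSpace _ _ _ (constructibleTopology V) _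
      (WithTopology.continuous_ofTopology _) h1 (WithTopology.ofTopology_surjective _)
  have h3 := @IsCompact.image _ _ (constructibleTopology V) (constructibleTopology X) _ _
    (@isCompact_univ _ (constructibleTopology V) h2) (continuous_val_cons V hVo hVc)
  rwa [Set.image_univ, Subtype.range_coe] at h3

/-- compact opens of `X` are clopen for the constructible topology. -/
lemma isClopen_cons_of_isCompact_isOpen (V : Set X) (hVo : IsOpen V) (hVc : IsCompact V) :
    IsClopen (WithTopology.ofTopology ⁻¹' V : Set (WithConstructibleTopology X)) := by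
  constructor
  · rw [WithConstructibleTopology.isClosed_iff, ← @isOpen_compl_iff _ _ (constructibleTopology X)]
    have : IsOpen[constructibleTopology X] Vᶜ :=
      IsCompact.isOpen_constructibleTopology_of_isClosed (by rwa [compl_compl]) hVo.isClosed_compl
    exact this
  · rw [WithConstructibleTopology.isOpen_iff]
    exact hVc.isOpen_constructibleTopology_of_isOpen hVo

/-- the constructible topology of a `T0` prespectral space is totally separated. -/
lemma totallySeparatedSpace_cons [T0Space X] [PrespectralSpace X] :
    TotallySeparatedSpace (WithConstructibleTopology X) := by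
  rw [totallySeparatedSpace_iff_exists_isClopen]
  intro x y hxy
  have hxy' : x.ofTopology ≠ y.ofTopology := fun h => hxy (WithTopology.ofTopology_injective _ h)
  obtain ⟨O, hO, hmem⟩ := exists_isOpen_xor'_mem hxy'
  rcases hmem with ⟨hx, hy⟩ | ⟨hy, hx⟩
  · obtain ⟨V, ⟨hVo, hVc⟩, hxV, hVO⟩ :=
      PrespectralSpace.isTopologicalBasis.exists_subset_of_mem_open hx hO
    exact ⟨_, isClopen_cons_of_isCompact_isOpen V hVo hVc, hxV, fun h => hy (hVO h)⟩
  · obtain ⟨V, ⟨hVo, hVc⟩, hyV, hVO⟩ :=
      PrespectralSpace.isTopologicalBasis.exists_subset_of_mem_open hy hO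
    exact ⟨_, (isClopen_cons_of_isCompact_isOpen V hVo hVc).compl, fun h => hx (hVO h),
      by simpa using hyV⟩

/-- the constructible topology of a quasi-sober, prespectral, quasi-separated space is weakly
locally compact. -/
lemma weaklyLocallyCompactSpace_cons [QuasiSober X] [PrespectralSpace X] [QuasiSeparatedSpace X] :
    WeaklyLocallyCompactSpace (WithConstructibleTopology X) := by
  constructor
  intro x
  obtain ⟨V, ⟨hVo, hVc⟩, hxV, -⟩ :=
    PrespectralSpace.isTopologicalBasis.exists_subset_of_mem_open (Set.mem_univ x.ofTopology)
      isOpen_univ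
  refine ⟨WithTopology.ofTopology ⁻¹' V, ?_, ?_⟩
  · have h := isCompact_cons_of_isCompact_isOpen V hVo hVc
    have h2 := @IsCompact.image _ _ (constructibleTopology X) _ _ _ h
      (WithTopology.continuous_toTopology (constructibleTopology X))
    rwa [WithTopology.image_toTopology] at h2
  · exact (isClopen_cons_of_isCompact_isOpen V hVo hVc).isOpen.mem_nhds hxV

/-- compact opens of `X` are compact for the constructible topology (in `WithConstructibleTopology`). -/
lemma isCompact_pre_of_isCompact_isOpen [QuasiSober X] [PrespectralSpace X] [QuasiSeparatedSpace X]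
    (V : Set X) (hVo : IsOpen V) (hVc : IsCompact V) :
    IsCompact (WithTopology.ofTopology ⁻¹' V : Set (WithConstructibleTopology X)) := by
  have h := isCompact_cons_of_isCompact_isOpen V hVo hVc
  have h2 := @IsCompact.image _ _ (constructibleTopology X) _ _ _ h
    (WithTopology.continuous_toTopology (constructibleTopology X))
  rwa [WithTopology.image_toTopology] at h2

/-- constructible subsets of a prespectral quasi-separated space are clopen for the
constructible topology. -/
lemma isClopen_pre_of_isConstructible [PrespectralSpace X] [QuasiSeparatedSpace X] {s : Set X}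
    (hs : IsConstructible s) :
    IsClopen (WithTopology.ofTopology ⁻¹' s : Set (WithConstructibleTopology X)) := by
  have hcov : ∀ x : X, ∃ V : Set X, IsOpen V ∧ IsCompact V ∧ x ∈ V := by
    intro x
    obtain ⟨V, ⟨hVo, hVc⟩, hxV, -⟩ :=
      PrespectralSpace.isTopologicalBasis.exists_subset_of_mem_open (Set.mem_univ x) isOpen_univ
    exact ⟨V, hVo, hVc, hxV⟩
  induction hs using IsConstructible.empty_union_induction with
  | open_retrocompact U hUo hUc =>
    constructor
    · rw [← isOpen_compl_iff, isOpen_iff_forall_mem_open]
      intro x hx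
      obtain ⟨V, hVo, hVc, hxV⟩ := hcov x.ofTopology
      refine ⟨(WithTopology.ofTopology ⁻¹' V) ∩ (WithTopology.ofTopology ⁻¹' (U ∩ V))ᶜ, ?_, ?_,
        hxV, fun h => hx h.1⟩
      · rintro y ⟨hyV, hyU⟩ hyU'
        exact hyU ⟨hyU', hyV⟩
      · exact (isClopen_cons_of_isCompact_isOpen V hVo hVc).isOpen.inter
          (isClopen_cons_of_isCompact_isOpen (U ∩ V) (hUo.inter hVo) (hUc hVc hVo)).compl.isOpen
    · rw [isOpen_iff_forall_mem_open]
      intro x hx
      obtain ⟨V, hVo, hVc, hxV⟩ := hcov x.ofTopology
      exact ⟨WithTopology.ofTopology ⁻¹' (U ∩ V), fun y hy => hy.1,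
        (isClopen_cons_of_isCompact_isOpen (U ∩ V) (hUo.inter hVo) (hUc hVc hVo)).isOpen, hx, hxV⟩
  | union s hs t ht hs' ht' => exact hs'.union ht'
  | compl s hs hs' => exact hs'.compl

/-- the members of the subbasis of the constructible topology of a quasi-separated space are
constructible. -/
lemma isConstructible_of_mem_subbasis [QuasiSeparatedSpace X] {s : Set X}
    (hs : s ∈ constructibleTopologySubbasis X) : IsConstructible s := by
  rcases hs with ⟨hso, hsc⟩ | ⟨hscl, hsc⟩
  · exact hsc.isConstructible hso
  · exact (hsc.isConstructible hscl.isOpen_compl).of_compl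

/-- a subset of a compact open which is clopen for the constructible topology is constructible. -/
lemma isConstructible_of_isClopen_pre_subset [QuasiSober X] [PrespectralSpace X]
    [QuasiSeparatedSpace X] {s V : Set X} (hVo : IsOpen V) (hVc : IsCompact V) (hsV : s ⊆ V)
    (hs : IsClopen (WithTopology.ofTopology ⁻¹' s : Set (WithConstructibleTopology X))) :
    IsConstructible s := by
  have hVcomp := isCompact_pre_of_isCompact_isOpen V hVo hVc
  have hscomp : IsCompact (WithTopology.ofTopology ⁻¹' s : Set (WithConstructibleTopology X)) :=
    hVcomp.of_isClosed_subset hs.isClosed (Set.preimage_mono hsV)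
  have hso : IsOpen[constructibleTopology X] s := (WithConstructibleTopology.isOpen_iff).1 hs.isOpen
  have hbasis := isTopologicalBasis_of_subbasis (t := constructibleTopology X)
    (s := constructibleTopologySubbasis X) rfl
  have hex : ∀ x : WithConstructibleTopology X, x ∈ WithTopology.ofTopology ⁻¹' s →
      ∃ B : Set X, IsConstructible B ∧
        IsOpen (WithTopology.ofTopology ⁻¹' B : Set (WithConstructibleTopology X)) ∧
        x.ofTopology ∈ B ∧ B ⊆ s := by
    intro x hx
    obtain ⟨B, ⟨f, ⟨hf, hfs⟩, rfl⟩, hxB, hBs⟩ :=
      IsTopologicalBasis.exists_subset_of_mem_open (t := constructibleTopology X) hbasis hx hso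
    refine ⟨_, ?_, ?_, hxB, hBs⟩
    · exact IsConstructible.sInter hf fun t ht => isConstructible_of_mem_subbasis (hfs ht)
    · rw [WithConstructibleTopology.isOpen_iff]
      exact IsTopologicalBasis.isOpen (t := constructibleTopology X) hbasis ⟨f, ⟨hf, hfs⟩, rfl⟩
  choose! B hBc hBo hxB hBs using hex
  obtain ⟨σ, hσ⟩ := hscomp.elim_nhds_subcover'
    (fun x _ => (WithTopology.ofTopology ⁻¹' B x : Set (WithConstructibleTopology X)))
    (fun x hx => (hBo x hx).mem_nhds (hxB x hx))
  have : s = ⋃ x ∈ (σ : Set (WithTopology.ofTopology ⁻¹' s : Set (WithConstructibleTopology X))),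
      B x := by
    apply subset_antisymm
    · intro y hy
      have hy' : WithTopology.toTopology _ y ∈
          (WithTopology.ofTopology ⁻¹' s : Set (WithConstructibleTopology X)) := hy
      obtain ⟨i, hi, hyi⟩ := Set.mem_iUnion₂.1 (hσ hy')
      exact Set.mem_iUnion₂.2 ⟨i, hi, hyi⟩
    · exact Set.iUnion₂_subset fun x _ => hBs x x.2
  rw [this]
  exact IsConstructible.biUnion σ.finite_toSet fun x _ => hBc x x.2

lemma IsLocallyConstructible.compl' {s : Set X} (hs : IsLocallyConstructible s) :
    IsLocallyConstructible sᶜ := by
  intro x
  obtain ⟨U, hxU, hU, hsU⟩ := hs x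
  exact ⟨U, hxU, hU, by rw [Set.preimage_compl]; exact hsU.compl⟩

end Groth.Agent.Lib.Helper18
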