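import Mathlib
import Groth.Prelude.Def_W4bk6langav68Chow

/-!
# Transitivity of base change for group objects over schemes (helper18)

`bcCompIso h A : Red.bc f (Red.bc g A) ≅ Red.bc d A` for `h : f ≫ g = d`, together with the facts that it
is a homomorphism of group objects and natural in `A`.
-/

set_option autoImplicit false
universe u
open CategoryTheory MonoidalCategory CartesianMonoidalCategory MonObj GrpObj AlgebraicGeometry Limits

namespace Groth.Agent.Lib.Helper18

open scoped Obj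

section General

universe v₁ v₂ v₃ u₁ u₂ u₃
variable {C : Type u₁} [Category.{v₁} C] [CartesianMonoidalCategory C]
  {D : Type u₂} [Category.{v₂} D] [CartesianMonoidalCategory D]
  {E : Type u₃} [Category.{v₃} E] [CartesianMonoidalCategory E]

/-- components of a natural transformation between monoidal functors of cartesian monoidal
categories are monoid homomorphisms. -/
lemma isMonHom_app (F G : C ⥤ D) [F.Monoidal] [G.Monoidal] (τ : F ⟶ G) (A : C) [MonObj A] :
    IsMonHom (τ.app A) :=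
  ((Functor.mapMonNatTrans τ).app (Mon.mk A)).isMonHom_hom

/-- the monoid structure on `F₂ (F₁ A)` obtained in two steps is the one obtained from `F₁ ⋙ F₂`. -/
lemma monObjObj_comp (F₁ : C ⥤ D) (F₂ : D ⥤ E) [F₁.Monoidal] [F₂.Monoidal] (A : C) [MonObj A] :
    (Functor.monObjObj (F := F₁ ⋙ F₂) A) =
      (Functor.monObjObj (F := F₂) (F₁.obj A)) := by
  ext
  show Functor.LaxMonoidal.μ (F₁ ⋙ F₂) A A ≫ (F₁ ⋙ F₂).map μ =
    Functor.LaxMonoidal.μ F₂ (F₁.obj A) (F₁.obj A) ≫
      F₂.map (Functor.LaxMonoidal.μ F₁ A A ≫ F₁.map μ)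
  simp

end General

section Sch

variable {X Y Z : Scheme.{u}}

/-- `(A_Y)_X ≅ A_X` for a composite `X ⟶ Y ⟶ Z` equal to `d`. -/
noncomputable def bcCompIso (f : X ⟶ Y) (g : Y ⟶ Z) {d : X ⟶ Z} (h : f ≫ g = d) (A : Over Z) :
    Red.bc f (Red.bc g A) ≅ Red.bc d A :=
  ((Over.pullbackComp f g).app A).symm ≪≫ eqToIso (congrArg (fun φ => Red.bc φ A) h)

lemma bcCompIso_hom (f : X ⟶ Y) (g : Y ⟶ Z) {d : X ⟶ Z} (h : f ≫ g = d) (A : Over Z) :
    (bcCompIso f g h A).hom =
      (Over.pullbackComp f g).inv.app A ≫ eqToHom (congrArg (fun φ => Red.bc φ A) h) := rfl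

lemma bcCompIso_inv (f : X ⟶ Y) (g : Y ⟶ Z) {d : X ⟶ Z} (h : f ≫ g = d) (A : Over Z) :
    (bcCompIso f g h A).inv =
      eqToHom (congrArg (fun φ => Red.bc φ A) h.symm) ≫ (Over.pullbackComp f g).hom.app A := by
  simp [bcCompIso]

lemma isMonHom_pullbackComp_inv (f : X ⟶ Y) (g : Y ⟶ Z) (A : Over Z) [GrpObj A] :
    @IsMonHom _ _ _ (Red.bc f (Red.bc g A)) (Red.bc (f ≫ g) A) _ _
      ((Over.pullbackComp f g).inv.app A) := by
  have := isMonHom_app (Over.pullback g ⋙ Over.pullback f) (Over.pullback (f ≫ g))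
    (Over.pullbackComp f g).inv A
  rw [monObjObj_comp] at this
  exact this

lemma isMonHom_pullbackComp_hom (f : X ⟶ Y) (g : Y ⟶ Z) (A : Over Z) [GrpObj A] :
    @IsMonHom _ _ _ (Red.bc (f ≫ g) A) (Red.bc f (Red.bc g A)) _ _
      ((Over.pullbackComp f g).hom.app A) := by
  have := isMonHom_app (Over.pullback (f ≫ g)) (Over.pullback g ⋙ Over.pullback f)
    (Over.pullbackComp f g).hom A
  rw [monObjObj_comp] at this
  exact this

instance isMonHom_bcCompIso_hom (f : X ⟶ Y) (g : Y ⟶ Z) {d : X ⟶ Z} (h : f ≫ g = d) (A : Over Z)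
    [GrpObj A] : IsMonHom (bcCompIso f g h A).hom := by
  subst h
  rw [bcCompIso_hom, eqToHom_refl, Category.comp_id]
  exact isMonHom_pullbackComp_inv f g A

instance isMonHom_bcCompIso_inv (f : X ⟶ Y) (g : Y ⟶ Z) {d : X ⟶ Z} (h : f ≫ g = d) (A : Over Z)
    [GrpObj A] : IsMonHom (bcCompIso f g h A).inv := by
  subst h
  rw [bcCompIso_inv, eqToHom_refl, Category.id_comp]
  exact isMonHom_pullbackComp_hom f g A

@[reassoc]
lemma bcCompIso_hom_naturality (f : X ⟶ Y) (g : Y ⟶ Z) {d : X ⟶ Z} (h : f ≫ g = d)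
    {A B : Over Z} (φ : A ⟶ B) :
    (Over.pullback f).map ((Over.pullback g).map φ) ≫ (bcCompIso f g h B).hom =
      (bcCompIso f g h A).hom ≫ (Over.pullback d).map φ := by
  subst h
  simp only [bcCompIso_hom, eqToHom_refl, Category.comp_id]
  exact (Over.pullbackComp f g).inv.naturality φ

@[reassoc]
lemma bcCompIso_inv_naturality (f : X ⟶ Y) (g : Y ⟶ Z) {d : X ⟶ Z} (h : f ≫ g = d)
    {A B : Over Z} (φ : A ⟶ B) :
    (Over.pullback d).map φ ≫ (bcCompIso f g h B).inv =
      (bcCompIso f g h A).inv ≫ (Over.pullback f).map ((Over.pullback g).map φ) := by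
  subst h
  simp only [bcCompIso_inv, eqToHom_refl, Category.id_comp]
  exact (Over.pullbackComp f g).hom.naturality φ

/-- the base change of a morphism of `Z`-schemes is a base change of the underlying morphism. -/
lemma isPullback_map_left (f : X ⟶ Z) {A B : Over Z} (φ : A ⟶ B) :
    IsPullback ((Over.pullback f).map φ).left (pullback.fst A.hom f) (pullback.fst B.hom f)
      φ.left := by
  refine IsPullback.of_right (h₁₂ := pullback.snd B.hom f) (h₂₂ := B.hom) (v₁₃ := f) ?_ ?_
    (IsPullback.of_hasPullback B.hom f).flip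
  · have e1 : ((Over.pullback f).map φ).left ≫ pullback.snd B.hom f = pullback.snd A.hom f :=
      pullback.lift_snd _ _ _
    have e2 : φ.left ≫ B.hom = A.hom := Over.w φ
    rw [e1, e2]
    exact (IsPullback.of_hasPullback A.hom f).flip
  · exact pullback.lift_fst _ _ _

lemma map_left_of_stableUnderBaseChange (P : MorphismProperty Scheme.{u})
    [P.IsStableUnderBaseChange] (f : X ⟶ Z) {A B : Over Z} (φ : A ⟶ B) (hφ : P φ.left) :
    P ((Over.pullback f).map φ).left :=
  P.of_isPullback (isPullback_map_left f φ).flip hφ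

end Sch

end Groth.Agent.Lib.Helper18
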