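import Mathlib
import Groth.Prelude.Def_DRing2

/-!
# D(R) library, base layer (helper18)

Representatives of morphisms and triangles in `Dual.D R` by chain maps out of K-projective
complexes (bounded above termwise projective), shifts, cones.
-/

set_option autoImplicit false
set_option linter.style.haveILetI false
universe u
open CategoryTheory CategoryTheory.Limits CategoryTheory.Pretriangulated

attribute [local instance] HasDerivedCategory.standard

namespace Groth.Agent.Lib.Helper18.DR

variable {R : Type u} [CommRing R]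

/-! ## K-projectivity of bounded above complexes of projectives -/

lemma isStrictlyLE_of_vanishesAbove (P : DRing.Cx R) (b : ℤ) (hb : DRing.VanishesAbove P b) :
    P.IsStrictlyLE b := by
  rw [CochainComplex.isStrictlyLE_iff]
  intro i hi
  exact hb i hi

lemma isKProjective_of_vanishesAbove (P : DRing.Cx R) (b : ℤ) (hb : DRing.VanishesAbove P b)
    (hP : ∀ i, Module.Projective R (P.X i)) : P.IsKProjective := by
  haveI := isStrictlyLE_of_vanishesAbove P b hb
  haveI : ∀ n, Projective (P.X n) := fun n => by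
    have := hP n
    exact (IsProjective.iff_projective (R := R) (P := P.X n)).mp this
  exact CochainComplex.isKProjective_of_projective P b

/-- Every morphism out of a K-projective complex in `D(R)` is represented by a chain map. -/
lemma exists_map_eq (P L : DRing.Cx R) [P.IsKProjective] (φ : DRing.toD P ⟶ DRing.toD L) :
    ∃ f : P ⟶ L, DerivedCategory.Q.map f = φ := by
  obtain ⟨g, hg⟩ := (CochainComplex.IsKProjective.Qh_map_bijective P
    ((HomotopyCategory.quotient _ _).obj L)).surjective
      ((DerivedCategory.quotientCompQhIso _).hom.app P ≫ φ ≫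
        (DerivedCategory.quotientCompQhIso _).inv.app L)
  obtain ⟨f, rfl⟩ := (HomotopyCategory.quotient _ _).map_surjective g
  refine ⟨f, ?_⟩
  have := DerivedCategory.quotientCompQhIso_hom_naturality (C := ModuleCat.{u} R) f
  dsimp at this hg
  rw [hg] at this
  simpa using this.symm

/-- Two chain maps out of a K-projective complex which agree in `D(R)` are homotopic. -/
lemma nonempty_homotopy_of_map_eq (P L : DRing.Cx R) [P.IsKProjective] (f g : P ⟶ L)
    (h : DerivedCategory.Q.map f = DerivedCategory.Q.map g) : Nonempty (Homotopy f g) := by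
  have hinj := (CochainComplex.IsKProjective.Qh_map_bijective P
    ((HomotopyCategory.quotient _ _).obj L)).injective
  have h1 := DerivedCategory.quotientCompQhIso_hom_naturality (C := ModuleCat.{u} R) f
  have h2 := DerivedCategory.quotientCompQhIso_hom_naturality (C := ModuleCat.{u} R) g
  dsimp at h1 h2
  have : DerivedCategory.Qh.map ((HomotopyCategory.quotient _ _).map f) =
      DerivedCategory.Qh.map ((HomotopyCategory.quotient _ _).map g) := by
    rw [← cancel_mono ((DerivedCategory.quotientCompQhIso _).hom.app L), h1, h2, h]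
  exact ⟨HomotopyCategory.homotopyOfEq _ _ (hinj this)⟩

/-! ## Cone representatives of distinguished triangles -/

/-- A distinguished triangle whose first two vertices are represented by `P` (K-projective) and `L`
is isomorphic to the cone triangle of a chain map `f : P ⟶ L`. -/
lemma exists_cone_triangle_iso (T : Triangle (Dual.D R)) (hT : T ∈ distTriang (Dual.D R))
    (P L : DRing.Cx R) [P.IsKProjective] (e₁ : DRing.toD P ≅ T.obj₁) (e₂ : DRing.toD L ≅ T.obj₂) :
    ∃ (f : P ⟶ L) (e : DerivedCategory.Q.mapTriangle.obj (CochainComplex.mappingCone.triangle f) ≅ T),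
      DerivedCategory.Q.map f = e₁.hom ≫ T.mor₁ ≫ e₂.inv ∧ e.hom.hom₁ = e₁.hom ∧ e.hom.hom₂ = e₂.hom := by
  obtain ⟨f, hf⟩ := exists_map_eq P L (e₁.hom ≫ T.mor₁ ≫ e₂.inv)
  have hT' := DerivedCategory.mappingCone_triangle_distinguished f
  have comm : (DerivedCategory.Q.mapTriangle.obj (CochainComplex.mappingCone.triangle f)).mor₁ ≫ e₂.hom =
      e₁.hom ≫ T.mor₁ := by
    change DerivedCategory.Q.map f ≫ e₂.hom = _
    rw [hf]; simp
  exact ⟨f, isoTriangleOfIso₁₂ _ T hT' hT e₁ e₂ comm, hf, rfl, rfl⟩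

lemma exists_cone_iso (T : Triangle (Dual.D R)) (hT : T ∈ distTriang (Dual.D R))
    (P L : DRing.Cx R) [P.IsKProjective] (e₁ : DRing.toD P ≅ T.obj₁) (e₂ : DRing.toD L ≅ T.obj₂) :
    ∃ (f : P ⟶ L), Nonempty (DRing.toD (CochainComplex.mappingCone f) ≅ T.obj₃) := by
  obtain ⟨f, e, -, -, -⟩ := exists_cone_triangle_iso T hT P L e₁ e₂
  exact ⟨f, ⟨Triangle.π₃.mapIso e⟩⟩

/-! ## Termwise properties of cones and shifts -/

/-- A property of modules closed under isomorphisms, finite products, and containing zero modules. -/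
structure ModProp (R : Type u) [CommRing R] where
  P : ModuleCat.{u} R → Prop
  iso : ∀ {M N : ModuleCat.{u} R}, (M ≅ N) → P M → P N
  biprod : ∀ {M N : ModuleCat.{u} R}, P M → P N → P (M ⊞ N)
  zero : ∀ {M : ModuleCat.{u} R}, IsZero M → P M

lemma ModProp.cone (mp : ModProp R) {K L : DRing.Cx R} (f : K ⟶ L) (hK : ∀ i, mp.P (K.X i))
    (hL : ∀ i, mp.P (L.X i)) (i : ℤ) : mp.P ((CochainComplex.mappingCone f).X i) :=
  mp.iso (HomologicalComplex.homotopyCofiber.XIsoBiprod f i (i + 1) rfl).symm
    (mp.biprod (hK (i + 1)) (hL i))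

lemma isZero_cone_X {K L : DRing.Cx R} (f : K ⟶ L) (i : ℤ) (hK : IsZero (K.X (i + 1)))
    (hL : IsZero (L.X i)) : IsZero ((CochainComplex.mappingCone f).X i) := by
  refine IsZero.of_iso ?_ (HomologicalComplex.homotopyCofiber.XIsoBiprod f i (i + 1) rfl)
  rw [IsZero.iff_id_eq_zero]
  apply biprod.hom_ext
  · simp [hK.eq_of_tgt _ 0]
  · simp [hL.eq_of_tgt _ 0]

lemma biprod_linearEquiv (M N : ModuleCat.{u} R) : Nonempty ((M ⊞ N : ModuleCat.{u} R) ≃ₗ[R] (M × N)) :=
  ⟨(ModuleCat.biprodIsoProd M N).toLinearEquiv⟩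

/-- finite modules -/
def finiteProp (R : Type u) [CommRing R] : ModProp R where
  P M := Module.Finite R M
  iso e h := by haveI := h; exact Module.Finite.equiv e.toLinearEquiv
  biprod {M N} hM hN := by
    haveI := hM; haveI := hN
    obtain ⟨e⟩ := biprod_linearEquiv M N
    exact Module.Finite.equiv e.symm
  zero {M} h := by
    haveI : Subsingleton M := ModuleCat.subsingleton_of_isZero h
    infer_instance

/-- free modules -/
def freeProp (R : Type u) [CommRing R] : ModProp R where
  P M := Module.Free R M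
  iso e h := by haveI := h; exact Module.Free.of_equiv e.toLinearEquiv
  biprod {M N} hM hN := by
    haveI := hM; haveI := hN
    obtain ⟨e⟩ := biprod_linearEquiv M N
    exact Module.Free.of_equiv e.symm
  zero {M} h := by
    haveI : Subsingleton M := ModuleCat.subsingleton_of_isZero h
    infer_instance

/-- projective modules -/
def projProp (R : Type u) [CommRing R] : ModProp R where
  P M := Module.Projective R M
  iso e h := by haveI := h; exact Module.Projective.of_equiv e.toLinearEquiv
  biprod {M N} hM hN := by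
    haveI := hM; haveI := hN
    obtain ⟨e⟩ := biprod_linearEquiv M N
    exact Module.Projective.of_equiv e.symm
  zero {M} h := by
    haveI : Subsingleton M := ModuleCat.subsingleton_of_isZero h
    infer_instance

lemma flat_prod (M N : Type u) [AddCommGroup M] [Module R M] [AddCommGroup N] [Module R N]
    [Module.Flat R M] [Module.Flat R N] : Module.Flat R (M × N) := by
  rw [Module.Flat.iff_lTensor_preserves_injective_linearMap]
  intro A B _ _ _ _ f hf
  have h1 := Module.Flat.lTensor_preserves_injective_linearMap (M := M) f hf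
  have h2 := Module.Flat.lTensor_preserves_injective_linearMap (M := N) f hf
  have key : (TensorProduct.prodLeft R R M N B).toLinearMap ∘ₗ f.lTensor (M × N) =
      (LinearMap.prodMap (f.lTensor M) (f.lTensor N)) ∘ₗ
        (TensorProduct.prodLeft R R M N A).toLinearMap := by
    apply TensorProduct.ext'
    rintro ⟨m, n⟩ a
    simp
  have hinj : Function.Injective ((TensorProduct.prodLeft R R M N B).toLinearMap ∘ₗ
      f.lTensor (M × N)) := by
    rw [key]
    exact (Prod.map_injective.mpr ⟨h1, h2⟩).comp (TensorProduct.prodLeft R R M N A).injective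
  rw [LinearMap.coe_comp] at hinj
  exact Function.Injective.of_comp hinj

/-- flat modules -/
def flatProp (R : Type u) [CommRing R] : ModProp R where
  P M := Module.Flat R M
  iso e h := by haveI := h; exact Module.Flat.of_linearEquiv e.toLinearEquiv.symm
  biprod {M N} hM hN := by
    haveI := hM; haveI := hN
    obtain ⟨e⟩ := biprod_linearEquiv M N
    haveI := flat_prod (R := R) M N
    exact Module.Flat.of_linearEquiv e
  zero {M} h := by
    haveI : Subsingleton M := ModuleCat.subsingleton_of_isZero h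
    infer_instance

lemma termwiseFiniteFree_cone {K L : DRing.Cx R} (f : K ⟶ L) (hK : DRing.TermwiseFiniteFree K)
    (hL : DRing.TermwiseFiniteFree L) : DRing.TermwiseFiniteFree (CochainComplex.mappingCone f) :=
  fun i => ⟨(finiteProp R).cone f (fun i => (hK i).1) (fun i => (hL i).1) i,
    (freeProp R).cone f (fun i => (hK i).2) (fun i => (hL i).2) i⟩

lemma termwiseFiniteProjective_cone {K L : DRing.Cx R} (f : K ⟶ L)
    (hK : DRing.TermwiseFiniteProjective K)
    (hL : DRing.TermwiseFiniteProjective L) :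
    DRing.TermwiseFiniteProjective (CochainComplex.mappingCone f) :=
  fun i => ⟨(finiteProp R).cone f (fun i => (hK i).1) (fun i => (hL i).1) i,
    (projProp R).cone f (fun i => (hK i).2) (fun i => (hL i).2) i⟩

lemma termwiseFlat_cone {K L : DRing.Cx R} (f : K ⟶ L) (hK : DRing.TermwiseFlat K)
    (hL : DRing.TermwiseFlat L) : DRing.TermwiseFlat (CochainComplex.mappingCone f) :=
  fun i => (flatProp R).cone f hK hL i

lemma vanishesAbove_cone {K L : DRing.Cx R} (f : K ⟶ L) {b : ℤ} (hK : DRing.VanishesAbove K (b + 1))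
    (hL : DRing.VanishesAbove L b) : DRing.VanishesAbove (CochainComplex.mappingCone f) b :=
  fun i hi => isZero_cone_X f i (hK _ (by omega)) (hL _ hi)

lemma vanishesOutside_cone {K L : DRing.Cx R} (f : K ⟶ L) {a b : ℤ}
    (hK : DRing.VanishesOutside K (a + 1) (b + 1))
    (hL : DRing.VanishesOutside L a b) : DRing.VanishesOutside (CochainComplex.mappingCone f) a b :=
  fun i hi => isZero_cone_X f i (hK _ (by omega)) (hL _ hi)

lemma VanishesAbove.mono {K : DRing.Cx R} {b b' : ℤ} (h : DRing.VanishesAbove K b) (hb : b ≤ b') :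
    DRing.VanishesAbove K b' := fun i hi => h i (by omega)

lemma VanishesOutside.mono {K : DRing.Cx R} {a a' b b' : ℤ} (h : DRing.VanishesOutside K a b)
    (ha : a' ≤ a) (hb : b ≤ b') :
    DRing.VanishesOutside K a' b' := fun i hi => h i (by omega)

lemma VanishesOutside.above {K : DRing.Cx R} {a b : ℤ} (h : DRing.VanishesOutside K a b) :
    DRing.VanishesAbove K b := fun i hi => h i (Or.inr hi)

/-! ## Shifts -/

/-- `toD` commutes with shifts. -/
noncomputable def toDShiftIso (K : DRing.Cx R) (n : ℤ) :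
    DRing.toD (K⟦n⟧) ≅ (DRing.toD K)⟦n⟧ :=
  (DerivedCategory.Q.commShiftIso n).app K

lemma vanishesAbove_shift {K : DRing.Cx R} {b : ℤ} (h : DRing.VanishesAbove K b) (n : ℤ) :
    DRing.VanishesAbove (K⟦n⟧) (b - n) := fun i hi => h (i + n) (by omega)

lemma vanishesOutside_shift {K : DRing.Cx R} {a b : ℤ} (h : DRing.VanishesOutside K a b) (n : ℤ) :
    DRing.VanishesOutside (K⟦n⟧) (a - n) (b - n) := fun i hi => h (i + n) (by omega)

lemma termwiseFiniteFree_shift {K : DRing.Cx R} (h : DRing.TermwiseFiniteFree K) (n : ℤ) :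
    DRing.TermwiseFiniteFree (K⟦n⟧) := fun i => h (i + n)

lemma termwiseFiniteProjective_shift {K : DRing.Cx R} (h : DRing.TermwiseFiniteProjective K) (n : ℤ) :
    DRing.TermwiseFiniteProjective (K⟦n⟧) := fun i => h (i + n)

lemma termwiseFlat_shift {K : DRing.Cx R} (h : DRing.TermwiseFlat K) (n : ℤ) :
    DRing.TermwiseFlat (K⟦n⟧) := fun i => h (i + n)

/-! ## Iso-invariance and shift-invariance of the predicates -/

lemma isPseudoCoherent'_of_iso {K L : Dual.D R} (e : K ≅ L) (h : DRing.IsPseudoCoherent' R K) :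
    DRing.IsPseudoCoherent' R L := by
  obtain ⟨E, b, hb, hE, ⟨i⟩⟩ := h
  exact ⟨E, b, hb, hE, ⟨i ≪≫ e⟩⟩

lemma isPerfect_of_iso {K L : Dual.D R} (e : K ≅ L) (h : DRing.IsPerfect R K) :
    DRing.IsPerfect R L := by
  obtain ⟨E, a, b, hb, hE, ⟨i⟩⟩ := h
  exact ⟨E, a, b, hb, hE, ⟨i ≪≫ e⟩⟩

lemma hasTorAmplitudeIn_of_iso {K L : Dual.D R} (e : K ≅ L) {a b : ℤ}
    (h : DRing.HasTorAmplitudeIn R a b K) : DRing.HasTorAmplitudeIn R a b L := by
  obtain ⟨E, hb, hE, ⟨i⟩⟩ := h
  exact ⟨E, hb, hE, ⟨i ≪≫ e⟩⟩

lemma isPseudoCoherent_of_iso {K L : Dual.D R} (e : K ≅ L) {m : ℤ} (h : DRing.IsPseudoCoherent R m K) :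
    DRing.IsPseudoCoherent R m L := by
  obtain ⟨E, a, b, α, hab, hE, h1, h2⟩ := h
  refine ⟨E, a, b, α ≫ e.hom, hab, hE, fun i hi => ?_, ?_⟩
  · haveI := h1 i hi
    rw [Functor.map_comp]; infer_instance
  · haveI := h2
    rw [Functor.map_comp]; infer_instance

lemma isPseudoCoherent'_shift {K : Dual.D R} (h : DRing.IsPseudoCoherent' R K) (n : ℤ) :
    DRing.IsPseudoCoherent' R (K⟦n⟧) := by
  obtain ⟨E, b, hb, hE, ⟨i⟩⟩ := h
  exact ⟨E⟦n⟧, b - n, vanishesAbove_shift hb n, termwiseFiniteFree_shift hE n,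
    ⟨toDShiftIso E n ≪≫ (shiftFunctor (Dual.D R) n).mapIso i⟩⟩

lemma isPerfect_shift {K : Dual.D R} (h : DRing.IsPerfect R K) (n : ℤ) :
    DRing.IsPerfect R (K⟦n⟧) := by
  obtain ⟨E, a, b, hb, hE, ⟨i⟩⟩ := h
  exact ⟨E⟦n⟧, a - n, b - n, vanishesOutside_shift hb n, termwiseFiniteProjective_shift hE n,
    ⟨toDShiftIso E n ≪≫ (shiftFunctor (Dual.D R) n).mapIso i⟩⟩

lemma hasTorAmplitudeIn_shift {K : Dual.D R} {a b : ℤ} (h : DRing.HasTorAmplitudeIn R a b K) (n : ℤ) :
    DRing.HasTorAmplitudeIn R (a - n) (b - n) (K⟦n⟧) := by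
  obtain ⟨E, hb, hE, ⟨i⟩⟩ := h
  exact ⟨E⟦n⟧, vanishesOutside_shift hb n, termwiseFlat_shift hE n,
    ⟨toDShiftIso E n ≪≫ (shiftFunctor (Dual.D R) n).mapIso i⟩⟩

lemma isPseudoCoherent'_of_shift {K : Dual.D R} (n : ℤ) (h : DRing.IsPseudoCoherent' R (K⟦n⟧)) :
    DRing.IsPseudoCoherent' R K :=
  isPseudoCoherent'_of_iso ((shiftEquiv (Dual.D R) n).unitIso.symm.app K)
    (isPseudoCoherent'_shift h (-n))

lemma isPerfect_of_shift {K : Dual.D R} (n : ℤ) (h : DRing.IsPerfect R (K⟦n⟧)) :
    DRing.IsPerfect R K :=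
  isPerfect_of_iso ((shiftEquiv (Dual.D R) n).unitIso.symm.app K) (isPerfect_shift h (-n))

end Groth.Agent.Lib.Helper18.DR
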