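import Mathlib
import Groth.Prelude.Def_DRing2
import Groth.Agent.Lib.Helper18.DRBase

/-!
# D(R) library: homology ladders for morphisms of distinguished triangles (helper18)
-/

set_option autoImplicit false
set_option linter.style.haveILetI false
universe u
open CategoryTheory CategoryTheory.Limits CategoryTheory.Pretriangulated

attribute [local instance] HasDerivedCategory.standard

namespace Groth.Agent.Lib.Helper18.DR

variable {R : Type u} [CommRing R]

/-- the cohomology functor `H^n : D(R) ⥤ Mod R` -/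
noncomputable abbrev H (R : Type u) [CommRing R] (n : ℤ) : Dual.D R ⥤ ModuleCat.{u} R :=
  DerivedCategory.homologyFunctor (ModuleCat.{u} R) n

section Ladder

variable {T T' : Triangle (Dual.D R)} (hT : T ∈ distTriang (Dual.D R))
  (hT' : T' ∈ distTriang (Dual.D R)) (φ : T ⟶ T')

open ComposableArrows

/-- the morphism of five-term exact sequences induced by a morphism of triangles -/
noncomputable def ladder (n₀ n₁ : ℤ) (h : n₀ + 1 = n₁) :
    (H R 0).homologySequenceComposableArrows₅ T n₀ n₁ h ⟶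
      (H R 0).homologySequenceComposableArrows₅ T' n₀ n₁ h :=
  homMk₅ (((H R 0).shift n₀).map φ.hom₁) (((H R 0).shift n₀).map φ.hom₂)
    (((H R 0).shift n₀).map φ.hom₃) (((H R 0).shift n₁).map φ.hom₁)
    (((H R 0).shift n₁).map φ.hom₂) (((H R 0).shift n₁).map φ.hom₃)
    (show ((H R 0).shift n₀).map T.mor₁ ≫ ((H R 0).shift n₀).map φ.hom₂ =
      ((H R 0).shift n₀).map φ.hom₁ ≫ ((H R 0).shift n₀).map T'.mor₁ by
        rw [← Functor.map_comp, ← Functor.map_comp, φ.comm₁])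
    (show ((H R 0).shift n₀).map T.mor₂ ≫ ((H R 0).shift n₀).map φ.hom₃ =
      ((H R 0).shift n₀).map φ.hom₂ ≫ ((H R 0).shift n₀).map T'.mor₂ by
        rw [← Functor.map_comp, ← Functor.map_comp, φ.comm₂])
    ((H R 0).homologySequenceδ_naturality T T' φ n₀ n₁ h).symm
    (show ((H R 0).shift n₁).map T.mor₁ ≫ ((H R 0).shift n₁).map φ.hom₂ =
      ((H R 0).shift n₁).map φ.hom₁ ≫ ((H R 0).shift n₁).map T'.mor₁ by
        rw [← Functor.map_comp, ← Functor.map_comp, φ.comm₁])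
    (show ((H R 0).shift n₁).map T.mor₂ ≫ ((H R 0).shift n₁).map φ.hom₃ =
      ((H R 0).shift n₁).map φ.hom₂ ≫ ((H R 0).shift n₁).map T'.mor₂ by
        rw [← Functor.map_comp, ← Functor.map_comp, φ.comm₂])

include hT hT'

lemma mono_H_hom₃ (n : ℤ) (h₁ : Epi ((H R n).map φ.hom₁)) (h₂ : Mono ((H R n).map φ.hom₂))
    (h₃ : Mono ((H R (n + 1)).map φ.hom₁)) : Mono ((H R n).map φ.hom₃) := by
  have := Abelian.mono_of_epi_of_mono_of_mono
    ((δlastFunctor ⋙ δlastFunctor).map (ladder φ n (n + 1) rfl))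
    ((H R 0).homologySequenceComposableArrows₅_exact T hT n (n + 1) rfl).δlast.δlast
    ((H R 0).homologySequenceComposableArrows₅_exact T' hT' n (n + 1) rfl).δlast.δlast
    h₁ h₂ h₃
  exact this

lemma epi_H_hom₃ (n : ℤ) (h₁ : Epi ((H R n).map φ.hom₂)) (h₂ : Epi ((H R (n + 1)).map φ.hom₁))
    (h₃ : Mono ((H R (n + 1)).map φ.hom₂)) : Epi ((H R n).map φ.hom₃) := by
  have := Abelian.epi_of_epi_of_epi_of_mono
    ((δ₀Functor ⋙ δlastFunctor).map (ladder φ n (n + 1) rfl))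
    ((H R 0).homologySequenceComposableArrows₅_exact T hT n (n + 1) rfl).δ₀.δlast
    ((H R 0).homologySequenceComposableArrows₅_exact T' hT' n (n + 1) rfl).δ₀.δlast
    h₁ h₂ h₃
  exact this

lemma isIso_H_hom₃ (n : ℤ) (h₁ : Epi ((H R n).map φ.hom₁)) (h₂ : IsIso ((H R n).map φ.hom₂))
    (h₃ : IsIso ((H R (n + 1)).map φ.hom₁)) (h₄ : Mono ((H R (n + 1)).map φ.hom₂)) :
    IsIso ((H R n).map φ.hom₃) := by
  haveI := mono_H_hom₃ hT hT' φ n h₁ inferInstance inferInstance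
  haveI := epi_H_hom₃ hT hT' φ n inferInstance inferInstance h₄
  exact isIso_of_mono_of_epi _

end Ladder

section Cone

open DerivedCategory

variable {T : Triangle (Dual.D R)} (hT : T ∈ distTriang (Dual.D R))

include hT

/-- If the cone is cohomologically `≤ m - 1`, the map is an iso on `H^i` for `i > m`
and an epi on `H^m`. -/
lemma epi_H_mor₁_of_isZero (i : ℤ) (h : IsZero ((H R i).obj T.obj₃)) :
    Epi ((H R i).map T.mor₁) := by
  rw [HomologySequence.epi_homologyMap_mor₁_iff T hT i]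
  exact h.eq_of_tgt _ _

lemma mono_H_mor₁_of_isZero (i j : ℤ) (hij : i + 1 = j) (h : IsZero ((H R i).obj T.obj₃)) :
    Mono ((H R j).map T.mor₁) := by
  rw [HomologySequence.mono_homologyMap_mor₁_iff T hT i j hij]
  exact h.eq_of_src _ _

lemma isIso_H_mor₁_of_isZero (i j : ℤ) (hij : i + 1 = j) (h : IsZero ((H R i).obj T.obj₃))
    (h' : IsZero ((H R j).obj T.obj₃)) : IsIso ((H R j).map T.mor₁) := by
  haveI := epi_H_mor₁_of_isZero hT j h'
  haveI := mono_H_mor₁_of_isZero hT i j hij h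
  exact isIso_of_mono_of_epi _

lemma isZero_H_obj₃ (i j : ℤ) (hij : i + 1 = j) (h₁ : Epi ((H R i).map T.mor₁))
    (h₂ : Mono ((H R j).map T.mor₁)) : IsZero ((H R i).obj T.obj₃) := by
  refine (HomologySequence.exact₃ T hT i j hij).isZero_X₂ ?_ ?_
  · exact (HomologySequence.epi_homologyMap_mor₁_iff T hT i).mp h₁
  · exact (HomologySequence.mono_homologyMap_mor₁_iff T hT i j hij).mp h₂

lemma isLE_obj₃_iff (m : ℤ) :
    T.obj₃.IsLE (m - 1) ↔
      (∀ i : ℤ, m < i → IsIso ((H R i).map T.mor₁)) ∧ Epi ((H R m).map T.mor₁) := by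
  rw [DerivedCategory.isLE_iff]
  constructor
  · intro h
    refine ⟨fun i hi => ?_, ?_⟩
    · exact isIso_H_mor₁_of_isZero hT (i - 1) i (by omega) (h _ (by omega)) (h _ (by omega))
    · exact epi_H_mor₁_of_isZero hT m (h _ (by omega))
  · rintro ⟨h₁, h₂⟩ i hi
    have hepi : Epi ((H R i).map T.mor₁) := by
      rcases (show m = i ∨ m < i by omega) with rfl | h
      · exact h₂
      · haveI := h₁ i h; infer_instance
    haveI := h₁ (i + 1) (by omega)
    exact isZero_H_obj₃ hT i (i + 1) rfl hepi inferInstance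

/-- two-out-of-three for `IsLE` (third vertex) -/
lemma isLE_obj₃ (n : ℤ) (h₁ : T.obj₁.IsLE (n - 1)) (h₂ : T.obj₂.IsLE n) : T.obj₃.IsLE n := by
  rw [DerivedCategory.isLE_iff] at h₁ h₂ ⊢
  intro i hi
  refine (HomologySequence.exact₃ T hT i (i + 1) rfl).isZero_X₂ ?_ ?_
  · exact (h₂ i hi).eq_of_src _ _
  · exact (h₁ (i + 1) (by omega)).eq_of_tgt _ _

lemma isLE_obj₂ (n : ℤ) (h₁ : T.obj₁.IsLE n) (h₃ : T.obj₃.IsLE n) : T.obj₂.IsLE n := by
  rw [DerivedCategory.isLE_iff] at h₁ h₃ ⊢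
  intro i hi
  refine (HomologySequence.exact₂ T hT i).isZero_X₂ ?_ ?_
  · exact (h₁ i hi).eq_of_src _ _
  · exact (h₃ i hi).eq_of_tgt _ _

lemma isLE_obj₁ (n : ℤ) (h₂ : T.obj₂.IsLE n) (h₃ : T.obj₃.IsLE (n - 1)) : T.obj₁.IsLE n := by
  rw [DerivedCategory.isLE_iff] at h₂ h₃ ⊢
  intro i hi
  refine (HomologySequence.exact₁ T hT (i - 1) i (by omega)).isZero_X₂ ?_ ?_
  · exact (h₃ (i - 1) (by omega)).eq_of_src _ _
  · exact (h₂ i hi).eq_of_tgt _ _

lemma isIso_H_mor₂_of_isZero (n : ℤ) (h : IsZero ((H R n).obj T.obj₁))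
    (h' : IsZero ((H R (n + 1)).obj T.obj₁)) : IsIso ((H R n).map T.mor₂) := by
  haveI : Mono ((H R n).map T.mor₂) := by
    rw [HomologySequence.mono_homologyMap_mor₂_iff T hT n]
    exact h.eq_of_src _ _
  haveI : Epi ((H R n).map T.mor₂) := by
    rw [HomologySequence.epi_homologyMap_mor₂_iff T hT n (n + 1) rfl]
    exact h'.eq_of_tgt _ _
  exact isIso_of_mono_of_epi _

lemma isGE_obj₃ (n : ℤ) (h₁ : T.obj₁.IsGE (n + 1)) (h₂ : T.obj₂.IsGE n) : T.obj₃.IsGE n := by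
  rw [DerivedCategory.isGE_iff] at h₁ h₂ ⊢
  intro i hi
  refine (HomologySequence.exact₃ T hT i (i + 1) rfl).isZero_X₂ ?_ ?_
  · exact (h₂ i hi).eq_of_src _ _
  · exact (h₁ (i + 1) (by omega)).eq_of_tgt _ _

lemma isGE_obj₂ (n : ℤ) (h₁ : T.obj₁.IsGE n) (h₃ : T.obj₃.IsGE n) : T.obj₂.IsGE n := by
  rw [DerivedCategory.isGE_iff] at h₁ h₃ ⊢
  intro i hi
  refine (HomologySequence.exact₂ T hT i).isZero_X₂ ?_ ?_
  · exact (h₁ i hi).eq_of_src _ _
  · exact (h₃ i hi).eq_of_tgt _ _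

lemma isGE_obj₁ (n : ℤ) (h₂ : T.obj₂.IsGE n) (h₃ : T.obj₃.IsGE (n - 1)) : T.obj₁.IsGE n := by
  rw [DerivedCategory.isGE_iff] at h₂ h₃ ⊢
  intro i hi
  refine (HomologySequence.exact₁ T hT (i - 1) i (by omega)).isZero_X₂ ?_ ?_
  · exact (h₃ (i - 1) (by omega)).eq_of_src _ _
  · exact (h₂ i hi).eq_of_tgt _ _

end Cone

end Groth.Agent.Lib.Helper18.DR
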