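import Mathlib
import Groth.Prelude.Def_DRing2
import Groth.Agent.Lib.Helper18.DRHom

/-!
# D(R) library: chain-level interface for cohomology of complexes of modules (helper18)
-/

set_option autoImplicit false
set_option linter.style.haveILetI false
universe u
open CategoryTheory CategoryTheory.Limits

attribute [local instance] HasDerivedCategory.standard

namespace Groth.Agent.Lib.Helper18.DR

variable {R : Type u} [CommRing R]

/-- `H^i(toD E) ≅ H^i(E)` (chain-level homology) -/
noncomputable def HtoDIso (E : DRing.Cx R) (i : ℤ) : (H R i).obj (DRing.toD E) ≅ E.homology i :=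
  (DerivedCategory.homologyFunctorFactors (ModuleCat.{u} R) i).app E

lemma isZero_H_toD_iff_exactAt (E : DRing.Cx R) (i : ℤ) :
    IsZero ((H R i).obj (DRing.toD E)) ↔ E.ExactAt i := by
  rw [HomologicalComplex.exactAt_iff_isZero_homology]
  exact (HtoDIso E i).isZero_iff

/-- exactness at `i` in terms of linear maps -/
lemma exactAt_iff_function_exact (E : DRing.Cx R) (i j k : ℤ) (hij : i + 1 = j) (hjk : j + 1 = k) :
    E.ExactAt j ↔ Function.Exact (E.d i j).hom (E.d j k).hom := by
  rw [HomologicalComplex.exactAt_iff' E i j k (by simp [← hij]) (by simp [← hjk])]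
  exact ShortComplex.ShortExact.moduleCat_exact_iff_function_exact _

lemma isZero_H_toD_iff (E : DRing.Cx R) (i j k : ℤ) (hij : i + 1 = j) (hjk : j + 1 = k) :
    IsZero ((H R j).obj (DRing.toD E)) ↔ Function.Exact (E.d i j).hom (E.d j k).hom :=
  (isZero_H_toD_iff_exactAt E j).trans (exactAt_iff_function_exact E i j k hij hjk)

/-- `H^j(toD E)` as a subquotient: `ker d^j / range d^{j-1}` -/
noncomputable def HtoDLinearEquiv (E : DRing.Cx R) (i j k : ℤ) (hij : i + 1 = j) (hjk : j + 1 = k) :
    (H R j).obj (DRing.toD E) ≃ₗ[R]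
      (LinearMap.ker (E.d j k).hom ⧸ LinearMap.range ((E.sc' i j k).moduleCatToCycles)) :=
  ((HtoDIso E j ≪≫ E.homologyIsoSc' i j k (by simp [← hij]) (by simp [← hjk]) ≪≫
    (E.sc' i j k).moduleCatHomologyIso)).toLinearEquiv

/-- the map `E^i → Z^j(E)` induced by the differential -/
noncomputable def toCyc (E : DRing.Cx R) (i j k : ℤ) : E.X i →ₗ[R] LinearMap.ker (E.d j k).hom :=
  (E.d i j).hom.codRestrict _ (fun x => by
    rw [LinearMap.mem_ker, ← ModuleCat.comp_apply, E.d_comp_d]; rfl)

@[simp] lemma toCyc_coe (E : DRing.Cx R) (i j k : ℤ) (x : E.X i) :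
    ((toCyc E i j k x : LinearMap.ker (E.d j k).hom) : E.X j) = (E.d i j).hom x := rfl

/-- `H^j(toD E) ≃ ker d^j / range d^{j-1}`, with explicit types -/
noncomputable def HtoDLinearEquiv' (E : DRing.Cx R) (i j k : ℤ) (hij : i + 1 = j) (hjk : j + 1 = k) :
    (H R j).obj (DRing.toD E) ≃ₗ[R]
      (LinearMap.ker (E.d j k).hom ⧸ LinearMap.range (toCyc E i j k)) :=
  HtoDLinearEquiv E i j k hij hjk

end Groth.Agent.Lib.Helper18.DR
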