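import Mathlib
import Groth.Prelude.Def_DRing2
import Groth.Agent.Lib.Helper18.DRBase

/-!
# D(R) library: two-out-of-three for pseudo-coherent' and perfect objects (helper18)
-/

set_option autoImplicit false
set_option linter.style.haveILetI false
universe u
open CategoryTheory CategoryTheory.Limits CategoryTheory.Pretriangulated

attribute [local instance] HasDerivedCategory.standard

namespace Groth.Agent.Lib.Helper18.DR

variable {R : Type u} [CommRing R]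

lemma isPseudoCoherent'_obj₃ (T : Triangle (Dual.D R)) (hT : T ∈ distTriang (Dual.D R))
    (h1 : DRing.IsPseudoCoherent' R T.obj₁) (h2 : DRing.IsPseudoCoherent' R T.obj₂) :
    DRing.IsPseudoCoherent' R T.obj₃ := by
  obtain ⟨E₁, b₁, hb₁, hE₁, ⟨e₁⟩⟩ := h1
  obtain ⟨E₂, b₂, hb₂, hE₂, ⟨e₂⟩⟩ := h2
  haveI : E₁.IsKProjective := isKProjective_of_vanishesAbove E₁ b₁ hb₁ (fun i => by
    haveI := (hE₁ i).2; infer_instance)
  obtain ⟨f, ⟨e⟩⟩ := exists_cone_iso T hT E₁ E₂ e₁ e₂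
  refine ⟨CochainComplex.mappingCone f, max (b₁ - 1) b₂, ?_, termwiseFiniteFree_cone f hE₁ hE₂, ⟨e⟩⟩
  apply vanishesAbove_cone
  · exact VanishesAbove.mono hb₁ (by omega)
  · exact VanishesAbove.mono hb₂ (by omega)

lemma isPseudoCoherent'_two_of_three (T : Triangle (Dual.D R)) (hT : T ∈ distTriang (Dual.D R)) :
    (DRing.IsPseudoCoherent' R T.obj₁ → DRing.IsPseudoCoherent' R T.obj₂ → DRing.IsPseudoCoherent' R T.obj₃) ∧
      (DRing.IsPseudoCoherent' R T.obj₁ → DRing.IsPseudoCoherent' R T.obj₃ → DRing.IsPseudoCoherent' R T.obj₂) ∧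
      (DRing.IsPseudoCoherent' R T.obj₂ → DRing.IsPseudoCoherent' R T.obj₃ → DRing.IsPseudoCoherent' R T.obj₁) := by
  refine ⟨isPseudoCoherent'_obj₃ T hT, fun h1 h3 => ?_, fun h2 h3 => ?_⟩
  · exact isPseudoCoherent'_obj₃ T.invRotate (inv_rot_of_distTriang _ hT)
      (isPseudoCoherent'_shift h3 (-1)) h1
  · exact isPseudoCoherent'_of_shift 1
      (isPseudoCoherent'_obj₃ T.rotate (rot_of_distTriang _ hT) h2 h3)

lemma isPerfect_obj₃ (T : Triangle (Dual.D R)) (hT : T ∈ distTriang (Dual.D R))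
    (h1 : DRing.IsPerfect R T.obj₁) (h2 : DRing.IsPerfect R T.obj₂) :
    DRing.IsPerfect R T.obj₃ := by
  obtain ⟨E₁, a₁, b₁, hb₁, hE₁, ⟨e₁⟩⟩ := h1
  obtain ⟨E₂, a₂, b₂, hb₂, hE₂, ⟨e₂⟩⟩ := h2
  haveI : E₁.IsKProjective := isKProjective_of_vanishesAbove E₁ b₁ (VanishesOutside.above hb₁) (fun i => (hE₁ i).2)
  obtain ⟨f, ⟨e⟩⟩ := exists_cone_iso T hT E₁ E₂ e₁ e₂
  refine ⟨CochainComplex.mappingCone f, min (a₁ - 1) a₂, max (b₁ - 1) b₂, ?_,
    termwiseFiniteProjective_cone f hE₁ hE₂, ⟨e⟩⟩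
  apply vanishesOutside_cone
  · exact VanishesOutside.mono hb₁ (by omega) (by omega)
  · exact VanishesOutside.mono hb₂ (by omega) (by omega)

lemma isPerfect_two_of_three (T : Triangle (Dual.D R)) (hT : T ∈ distTriang (Dual.D R)) :
    (DRing.IsPerfect R T.obj₁ → DRing.IsPerfect R T.obj₂ → DRing.IsPerfect R T.obj₃) ∧
      (DRing.IsPerfect R T.obj₁ → DRing.IsPerfect R T.obj₃ → DRing.IsPerfect R T.obj₂) ∧
      (DRing.IsPerfect R T.obj₂ → DRing.IsPerfect R T.obj₃ → DRing.IsPerfect R T.obj₁) := by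
  refine ⟨isPerfect_obj₃ T hT, fun h1 h3 => ?_, fun h2 h3 => ?_⟩
  · exact isPerfect_obj₃ T.invRotate (inv_rot_of_distTriang _ hT)
      (isPerfect_shift h3 (-1)) h1
  · exact isPerfect_of_shift 1
      (isPerfect_obj₃ T.rotate (rot_of_distTriang _ hT) h2 h3)

end Groth.Agent.Lib.Helper18.DR
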