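import Mathlib
import Groth.Prelude.Def_DRing2
import Groth.Agent.Lib.Helper18.DRHom

/-!
# D(R) library: subcomplexes, stupid truncations, orthogonality (helper18)
-/

set_option autoImplicit false
set_option linter.style.haveILetI false
universe u
open CategoryTheory CategoryTheory.Limits CategoryTheory.Pretriangulated

attribute [local instance] HasDerivedCategory.standard

namespace Groth.Agent.Lib.Helper18.DR

variable {R : Type u} [CommRing R]

/-! ## Subcomplexes and quotient complexes -/

section Sub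

variable (K : DRing.Cx R) (S : ∀ i, Submodule R (K.X i))
  (hS : ∀ i j (x : K.X i), x ∈ S i → (K.d i j).hom x ∈ S j)

/-- the subcomplex given by a `d`-stable family of submodules -/
noncomputable def subCx : DRing.Cx R where
  X i := ModuleCat.of R (S i)
  d i j := ModuleCat.ofHom ((K.d i j).hom.restrict (hS i j))
  shape i j hij := by
    refine ModuleCat.hom_ext (LinearMap.ext fun x => Subtype.ext ?_)
    change (K.d i j).hom x.1 = 0
    rw [K.shape i j hij]; rfl
  d_comp_d' i j k _ _ := by
    refine ModuleCat.hom_ext (LinearMap.ext fun x => Subtype.ext ?_)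
    change (K.d j k).hom ((K.d i j).hom x.1) = 0
    rw [← ModuleCat.comp_apply, K.d_comp_d]; rfl

/-- inclusion of the subcomplex -/
noncomputable def subCxι : subCx K S hS ⟶ K where
  f i := ModuleCat.ofHom (S i).subtype
  comm' i j _ := ModuleCat.hom_ext (LinearMap.ext fun x => rfl)

/-- the quotient complex -/
noncomputable def quotCx : DRing.Cx R where
  X i := ModuleCat.of R (K.X i ⧸ S i)
  d i j := ModuleCat.ofHom ((S i).mapQ (S j) (K.d i j).hom (fun x hx => hS i j x hx))
  shape i j hij := by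
    refine ModuleCat.hom_ext (LinearMap.ext fun x => ?_)
    obtain ⟨x, rfl⟩ := Submodule.Quotient.mk_surjective _ x
    change Submodule.Quotient.mk ((K.d i j).hom x) = 0
    rw [K.shape i j hij]; rfl
  d_comp_d' i j k _ _ := by
    refine ModuleCat.hom_ext (LinearMap.ext fun x => ?_)
    obtain ⟨x, rfl⟩ := Submodule.Quotient.mk_surjective _ x
    change Submodule.Quotient.mk ((K.d j k).hom ((K.d i j).hom x)) = 0
    rw [← ModuleCat.comp_apply, K.d_comp_d]; rfl

/-- projection to the quotient complex -/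
noncomputable def quotCxπ : K ⟶ quotCx K S hS where
  f i := ModuleCat.ofHom (S i).mkQ
  comm' i j _ := ModuleCat.hom_ext (LinearMap.ext fun x => rfl)

/-- the short complex `sub → K → quot` -/
noncomputable def subQuotSC : ShortComplex (DRing.Cx R) where
  X₁ := subCx K S hS
  X₂ := K
  X₃ := quotCx K S hS
  f := subCxι K S hS
  g := quotCxπ K S hS
  zero := by
    refine HomologicalComplex.hom_ext _ _ fun i => ModuleCat.hom_ext (LinearMap.ext fun x => ?_)
    change Submodule.Quotient.mk (x.1 : K.X i) = 0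
    rw [Submodule.Quotient.mk_eq_zero]
    exact x.2

lemma subQuotSC_shortExact : (subQuotSC K S hS).ShortExact := by
  apply HomologicalComplex.shortExact_of_degreewise_shortExact
  intro i
  apply ModuleCat.shortComplex_shortExact
  · intro (y : K.X i)
    constructor
    · intro hy
      have : y ∈ S i := (Submodule.Quotient.mk_eq_zero (S i)).mp hy
      exact ⟨⟨y, this⟩, rfl⟩
    · rintro ⟨x, rfl⟩
      exact (Submodule.Quotient.mk_eq_zero (S i)).mpr x.2
  · intro x y h
    exact Subtype.ext h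
  · intro y
    obtain ⟨x, rfl⟩ := Submodule.Quotient.mk_surjective _ y
    exact ⟨x, rfl⟩

/-- the distinguished triangle `sub → K → quot → sub[1]` in `D(R)` -/
noncomputable def subQuotTriangle : Triangle (Dual.D R) :=
  DerivedCategory.triangleOfSES (subQuotSC_shortExact K S hS)

lemma subQuotTriangle_distinguished : subQuotTriangle K S hS ∈ distTriang (Dual.D R) :=
  DerivedCategory.triangleOfSES_distinguished _

end Sub

/-! ## Stupid truncations -/

section Sigma

variable (K : DRing.Cx R) (n : ℤ)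

/-- the family of submodules `⊤` in degrees `≥ n`, `⊥` in degrees `< n` -/
def sigmaSub (i : ℤ) : Submodule R (K.X i) := if n ≤ i then ⊤ else ⊥

lemma sigmaSub_of_le {i : ℤ} (h : n ≤ i) : sigmaSub K n i = ⊤ := if_pos h
lemma sigmaSub_of_lt {i : ℤ} (h : i < n) : sigmaSub K n i = ⊥ := if_neg (by omega)

lemma sigmaSub_stable (i j : ℤ) (x : K.X i) (hx : x ∈ sigmaSub K n i) :
    (K.d i j).hom x ∈ sigmaSub K n j := by
  by_cases hij : (ComplexShape.up ℤ).Rel i j
  · have hij' : i + 1 = j := hij
    by_cases h : n ≤ i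
    · rw [sigmaSub_of_le K n (show n ≤ j by omega)]; trivial
    · rw [sigmaSub_of_lt K n (by omega), Submodule.mem_bot] at hx
      rw [hx, map_zero]; exact Submodule.zero_mem _
  · rw [K.shape i j hij]; exact Submodule.zero_mem _

/-- the stupid truncation `σ_{≥ n} K` (a subcomplex of `K`) -/
noncomputable def sigmaGE : DRing.Cx R := subCx K (sigmaSub K n) (sigmaSub_stable K n)

/-- the stupid truncation `σ_{< n} K` (a quotient complex of `K`) -/
noncomputable def sigmaLT : DRing.Cx R := quotCx K (sigmaSub K n) (sigmaSub_stable K n)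

/-- `σ_{≥ n} K ⟶ K` -/
noncomputable def sigmaGEι : sigmaGE K n ⟶ K := subCxι K _ _

/-- `K ⟶ σ_{< n} K` -/
noncomputable def sigmaLTπ : K ⟶ sigmaLT K n := quotCxπ K _ _

/-- the distinguished triangle `σ_{≥ n} K → K → σ_{< n} K →` -/
noncomputable def sigmaTriangle : Triangle (Dual.D R) := subQuotTriangle K _ (sigmaSub_stable K n)

lemma sigmaTriangle_distinguished : sigmaTriangle K n ∈ distTriang (Dual.D R) :=
  subQuotTriangle_distinguished K _ _

lemma sigmaTriangle_obj₁ : (sigmaTriangle K n).obj₁ = DRing.toD (sigmaGE K n) := rfl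
lemma sigmaTriangle_obj₂ : (sigmaTriangle K n).obj₂ = DRing.toD K := rfl
lemma sigmaTriangle_obj₃ : (sigmaTriangle K n).obj₃ = DRing.toD (sigmaLT K n) := rfl
lemma sigmaTriangle_mor₁ : (sigmaTriangle K n).mor₁ = DerivedCategory.Q.map (sigmaGEι K n) := rfl
lemma sigmaTriangle_mor₂ : (sigmaTriangle K n).mor₂ = DerivedCategory.Q.map (sigmaLTπ K n) := rfl

/-- terms of `σ_{≥ n} K` in degrees `≥ n` -/
noncomputable def sigmaGEXIso {i : ℤ} (h : n ≤ i) : (sigmaGE K n).X i ≅ K.X i :=
  (((LinearEquiv.ofEq _ _ (sigmaSub_of_le K n h)).trans Submodule.topEquiv)).toModuleIso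

lemma isZero_sigmaGE_X {i : ℤ} (h : i < n) : IsZero ((sigmaGE K n).X i) := by
  haveI : Subsingleton (sigmaSub K n i) := by
    rw [sigmaSub_of_lt K n h]; infer_instance
  exact ModuleCat.isZero_of_subsingleton (M := ModuleCat.of R (sigmaSub K n i))

/-- terms of `σ_{< n} K` in degrees `< n` -/
noncomputable def sigmaLTXIso {i : ℤ} (h : i < n) : K.X i ≅ (sigmaLT K n).X i :=
  ((Submodule.quotEquivOfEqBot _ (sigmaSub_of_lt K n h)).symm).toModuleIso

lemma isZero_sigmaLT_X {i : ℤ} (h : n ≤ i) : IsZero ((sigmaLT K n).X i) := by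
  haveI : Subsingleton (K.X i ⧸ sigmaSub K n i) := by
    rw [sigmaSub_of_le K n h]; infer_instance
  exact ModuleCat.isZero_of_subsingleton (M := ModuleCat.of R (K.X i ⧸ sigmaSub K n i))

lemma ModProp.sigmaGE (mp : ModProp R) (hK : ∀ i, mp.P (K.X i)) (i : ℤ) :
    mp.P ((sigmaGE K n).X i) := by
  by_cases h : n ≤ i
  · exact mp.iso (sigmaGEXIso K n h).symm (hK i)
  · exact mp.zero (isZero_sigmaGE_X K n (by omega))

lemma ModProp.sigmaLT (mp : ModProp R) (hK : ∀ i, mp.P (K.X i)) (i : ℤ) :
    mp.P ((sigmaLT K n).X i) := by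
  by_cases h : n ≤ i
  · exact mp.zero (isZero_sigmaLT_X K n h)
  · exact mp.iso (sigmaLTXIso K n (by omega)) (hK i)

lemma termwiseFiniteFree_sigmaGE (hK : DRing.TermwiseFiniteFree K) :
    DRing.TermwiseFiniteFree (sigmaGE K n) :=
  fun i => ⟨(finiteProp R).sigmaGE K n (fun i => (hK i).1) i,
    (freeProp R).sigmaGE K n (fun i => (hK i).2) i⟩

lemma termwiseFiniteFree_sigmaLT (hK : DRing.TermwiseFiniteFree K) :
    DRing.TermwiseFiniteFree (sigmaLT K n) :=
  fun i => ⟨(finiteProp R).sigmaLT K n (fun i => (hK i).1) i,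
    (freeProp R).sigmaLT K n (fun i => (hK i).2) i⟩

lemma termwiseFiniteProjective_sigmaGE (hK : DRing.TermwiseFiniteProjective K) :
    DRing.TermwiseFiniteProjective (sigmaGE K n) :=
  fun i => ⟨(finiteProp R).sigmaGE K n (fun i => (hK i).1) i,
    (projProp R).sigmaGE K n (fun i => (hK i).2) i⟩

lemma termwiseFiniteProjective_sigmaLT (hK : DRing.TermwiseFiniteProjective K) :
    DRing.TermwiseFiniteProjective (sigmaLT K n) :=
  fun i => ⟨(finiteProp R).sigmaLT K n (fun i => (hK i).1) i,
    (projProp R).sigmaLT K n (fun i => (hK i).2) i⟩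

lemma termwiseFlat_sigmaGE (hK : DRing.TermwiseFlat K) : DRing.TermwiseFlat (sigmaGE K n) :=
  fun i => (flatProp R).sigmaGE K n hK i

lemma termwiseFlat_sigmaLT (hK : DRing.TermwiseFlat K) : DRing.TermwiseFlat (sigmaLT K n) :=
  fun i => (flatProp R).sigmaLT K n hK i

lemma vanishesOutside_sigmaGE {b : ℤ} (hK : DRing.VanishesAbove K b) :
    DRing.VanishesOutside (sigmaGE K n) n b := by
  rintro i (hi | hi)
  · exact isZero_sigmaGE_X K n hi
  · by_cases h : n ≤ i
    · exact (hK i hi).of_iso (sigmaGEXIso K n h)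
    · exact isZero_sigmaGE_X K n (by omega)

lemma vanishesAbove_sigmaGE {b : ℤ} (hK : DRing.VanishesAbove K b) :
    DRing.VanishesAbove (sigmaGE K n) b :=
  VanishesOutside.above (vanishesOutside_sigmaGE K n hK)

lemma vanishesOutside_sigmaLT {a b : ℤ} (hK : DRing.VanishesOutside K a b) :
    DRing.VanishesOutside (sigmaLT K n) a (n - 1) := by
  rintro i (hi | hi)
  · by_cases h : n ≤ i
    · exact isZero_sigmaLT_X K n h
    · exact (hK i (Or.inl hi)).of_iso (sigmaLTXIso K n (by omega)).symm
  · exact isZero_sigmaLT_X K n (by omega)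

lemma vanishesOutside_sigmaLT' {a b : ℤ} (hK : DRing.VanishesOutside K a b) :
    DRing.VanishesOutside (sigmaLT K n) a b := by
  rintro i hi
  by_cases h : n ≤ i
  · exact isZero_sigmaLT_X K n h
  · exact (hK i hi).of_iso (sigmaLTXIso K n (by omega)).symm

instance : (sigmaGE K n).IsStrictlyGE n := by
  rw [CochainComplex.isStrictlyGE_iff]
  intro i hi
  exact isZero_sigmaGE_X K n hi

instance : (sigmaLT K n).IsStrictlyLE (n - 1) := by
  rw [CochainComplex.isStrictlyLE_iff]
  intro i hi
  exact isZero_sigmaLT_X K n (by omega)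

end Sigma

/-! ## Orthogonality -/

/-- A morphism in `D(R)` from a K-projective complex concentrated in degrees `≥ m` to an object
cohomologically in degrees `≤ m - 1` vanishes. -/
lemma hom_eq_zero_of_isLE (P : DRing.Cx R) [P.IsKProjective] (m : ℤ) [P.IsStrictlyGE m]
    (X : Dual.D R) [X.IsLE (m - 1)] (φ : DRing.toD P ⟶ X) : φ = 0 := by
  obtain ⟨K, hK, ⟨e⟩⟩ := DerivedCategory.exists_iso_Q_obj_of_isLE X (m - 1)
  obtain ⟨f, hf⟩ := exists_map_eq P K (φ ≫ e.hom)
  have hf0 : f = 0 := by
    ext i : 1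
    by_cases hi : i < m
    · exact (P.isZero_of_isStrictlyGE m i hi).eq_of_src _ _
    · exact (K.isZero_of_isStrictlyLE (m - 1) i (by omega)).eq_of_tgt _ _
  rw [hf0, Functor.map_zero] at hf
  rw [← cancel_mono e.hom, zero_comp, ← hf]

end Groth.Agent.Lib.Helper18.DR
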