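import Mathlib
import Groth.Prelude.Def_DRing2
import Groth.Agent.Lib.Helper18.DRTrunc
import Groth.Agent.Lib.Helper18.DRTri

/-!
# D(R) library: m-pseudo-coherent objects (helper18)
-/

set_option autoImplicit false
set_option linter.style.haveILetI false
universe u
open CategoryTheory CategoryTheory.Limits CategoryTheory.Pretriangulated

attribute [local instance] HasDerivedCategory.standard

namespace Groth.Agent.Lib.Helper18.DR

variable {R : Type u} [CommRing R]

/-- `α` is `m`-connected: iso on `H^i` for `i > m`, epi on `H^m`. -/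
def IsConn (m : ℤ) {K L : Dual.D R} (α : K ⟶ L) : Prop :=
  (∀ i : ℤ, m < i → IsIso ((H R i).map α)) ∧ Epi ((H R m).map α)

lemma isPseudoCoherent_iff (m : ℤ) (K : Dual.D R) :
    DRing.IsPseudoCoherent R m K ↔ ∃ (E : DRing.Cx R) (a b : ℤ) (α : DRing.toD E ⟶ K),
      DRing.VanishesOutside E a b ∧ DRing.TermwiseFiniteFree E ∧ IsConn m α := by
  constructor
  · rintro ⟨E, a, b, α, h1, h2, h3, h4⟩
    exact ⟨E, a, b, α, h1, h2, h3, h4⟩
  · rintro ⟨E, a, b, α, h1, h2, h3, h4⟩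
    exact ⟨E, a, b, α, h1, h2, h3, h4⟩

lemma IsConn.comp {m : ℤ} {K L M : Dual.D R} {α : K ⟶ L} {β : L ⟶ M} (hα : IsConn m α)
    (hβ : IsConn m β) : IsConn m (α ≫ β) := by
  refine ⟨fun i hi => ?_, ?_⟩
  · haveI := hα.1 i hi
    haveI := hβ.1 i hi
    rw [Functor.map_comp]; infer_instance
  · haveI := hα.2
    haveI := hβ.2
    rw [Functor.map_comp]; infer_instance

lemma IsConn.of_isIso {m : ℤ} {K L : Dual.D R} (α : K ⟶ L) [IsIso α] : IsConn m α :=
  ⟨fun _ _ => inferInstance, inferInstance⟩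

lemma IsConn.mono {m m' : ℤ} (h : m ≤ m') {K L : Dual.D R} {α : K ⟶ L} (hα : IsConn m α) :
    IsConn m' α := by
  refine ⟨fun i hi => hα.1 i (by omega), ?_⟩
  rcases (show m = m' ∨ m < m' by omega) with rfl | h'
  · exact hα.2
  · haveI := hα.1 m' h'; infer_instance

/-- `α` is `m`-connected iff its cone is cohomologically `≤ m - 1`. -/
lemma isConn_iff_isLE_cone {T : Triangle (Dual.D R)} (hT : T ∈ distTriang (Dual.D R)) (m : ℤ) :
    IsConn m T.mor₁ ↔ T.obj₃.IsLE (m - 1) :=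
  (isLE_obj₃_iff hT m).symm

/-- the inclusion of the stupid truncation `σ_{≥ m} E → E` is `m`-connected -/
lemma isConn_sigmaGEι (E : DRing.Cx R) (m : ℤ) :
    IsConn m (DerivedCategory.Q.map (sigmaGEι E m)) := by
  have := (isConn_iff_isLE_cone (sigmaTriangle_distinguished E m) m).mpr (by
    change (DerivedCategory.Q.obj (sigmaLT E m)).IsLE (m - 1)
    infer_instance)
  exact this

/-- normalization: the finite free complex may be taken in degrees `≥ m` -/
lemma isPseudoCoherent_iff_normalized (m : ℤ) (K : Dual.D R) :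
    DRing.IsPseudoCoherent R m K ↔ ∃ (E : DRing.Cx R) (b : ℤ) (α : DRing.toD E ⟶ K),
      DRing.VanishesOutside E m b ∧ DRing.TermwiseFiniteFree E ∧ IsConn m α := by
  rw [isPseudoCoherent_iff]
  constructor
  · rintro ⟨E, a, b, α, h1, h2, h3⟩
    exact ⟨sigmaGE E m, b, DerivedCategory.Q.map (sigmaGEι E m) ≫ α,
      vanishesOutside_sigmaGE E m (VanishesOutside.above h1), termwiseFiniteFree_sigmaGE E m h2,
      (isConn_sigmaGEι E m).comp h3⟩
  · rintro ⟨E, b, α, h1, h2, h3⟩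
    exact ⟨E, m, b, α, h1, h2, h3⟩

lemma isPseudoCoherent_mono {m m' : ℤ} (h : m ≤ m') {K : Dual.D R}
    (hK : DRing.IsPseudoCoherent R m K) : DRing.IsPseudoCoherent R m' K := by
  rw [isPseudoCoherent_iff] at hK ⊢
  obtain ⟨E, a, b, α, h1, h2, h3⟩ := hK
  exact ⟨E, a, b, α, h1, h2, h3.mono h⟩

/-- `H^i(K⟦n⟧) ≅ H^{i+n}(K)`, naturally -/
noncomputable def HShiftIso (R : Type u) [CommRing R] (n i j : ℤ) (h : n + i = j) :
    shiftFunctor (Dual.D R) n ⋙ H R i ≅ H R j :=
  (H R 0).shiftIso n i j h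

lemma isIso_map_iff_of_natIso {C D : Type*} [Category C] [Category D] {F₁ F₂ : C ⥤ D}
    (e : F₁ ≅ F₂) {X Y : C} (f : X ⟶ Y) : IsIso (F₁.map f) ↔ IsIso (F₂.map f) :=
  NatIso.isIso_map_iff e f

lemma epi_map_iff_of_natIso {C D : Type*} [Category C] [Category D] {F₁ F₂ : C ⥤ D}
    (e : F₁ ≅ F₂) {X Y : C} (f : X ⟶ Y) : Epi (F₁.map f) ↔ Epi (F₂.map f) := by
  constructor
  · intro h
    have : F₂.map f = e.inv.app X ≫ F₁.map f ≫ e.hom.app Y := by simp
    rw [this]; infer_instance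
  · intro h
    have : F₁.map f = e.hom.app X ≫ F₂.map f ≫ e.inv.app Y := by simp
    rw [this]; infer_instance

lemma mono_map_iff_of_natIso {C D : Type*} [Category C] [Category D] {F₁ F₂ : C ⥤ D}
    (e : F₁ ≅ F₂) {X Y : C} (f : X ⟶ Y) : Mono (F₁.map f) ↔ Mono (F₂.map f) := by
  constructor
  · intro h
    have : F₂.map f = e.inv.app X ≫ F₁.map f ≫ e.hom.app Y := by simp
    rw [this]; infer_instance
  · intro h
    have : F₁.map f = e.hom.app X ≫ F₂.map f ≫ e.inv.app Y := by simp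
    rw [this]; infer_instance

/-- `IsConn` and shifts -/
lemma IsConn.shift {m : ℤ} {K L : Dual.D R} {α : K ⟶ L} (hα : IsConn m α) (n : ℤ) :
    IsConn (m - n) (α⟦n⟧') := by
  refine ⟨fun i hi => ?_, ?_⟩
  · have := (isIso_map_iff_of_natIso (HShiftIso R n i (i + n) (by omega)) α).mpr
      (hα.1 _ (by omega))
    exact this
  · have := (epi_map_iff_of_natIso (HShiftIso R n (m - n) m (by omega)) α).mpr hα.2
    exact this

lemma isPseudoCoherent_shift {m : ℤ} {K : Dual.D R} (hK : DRing.IsPseudoCoherent R m K) (n : ℤ) :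
    DRing.IsPseudoCoherent R (m - n) (K⟦n⟧) := by
  rw [isPseudoCoherent_iff] at hK ⊢
  obtain ⟨E, a, b, α, h1, h2, h3⟩ := hK
  refine ⟨E⟦n⟧, a - n, b - n, (toDShiftIso E n).hom ≫ α⟦n⟧', vanishesOutside_shift h1 n,
    termwiseFiniteFree_shift h2 n, (IsConn.of_isIso _).comp (h3.shift n)⟩

lemma isPseudoCoherent_of_shift {m : ℤ} {K : Dual.D R} (n : ℤ)
    (hK : DRing.IsPseudoCoherent R (m - n) (K⟦n⟧)) : DRing.IsPseudoCoherent R m K := by
  have := isPseudoCoherent_shift hK (-n)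
  have h2 : m - n - -n = m := by omega
  rw [h2] at this
  exact isPseudoCoherent_of_iso ((shiftEquiv (Dual.D R) n).unitIso.symm.app K) this

lemma isStrictlyGE_of_vanishesOutside (P : DRing.Cx R) (a b : ℤ) (h : DRing.VanishesOutside P a b) :
    P.IsStrictlyGE a := by
  rw [CochainComplex.isStrictlyGE_iff]
  intro i hi
  exact h i (Or.inl hi)

lemma isKProjective_of_finiteFree (E : DRing.Cx R) (b : ℤ) (hb : DRing.VanishesAbove E b)
    (hE : DRing.TermwiseFiniteFree E) : E.IsKProjective :=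
  isKProjective_of_vanishesAbove E b hb (fun i => by haveI := (hE i).2; infer_instance)

/-- lifting through an `m`-connected map: a morphism from a K-projective complex concentrated in
degrees `≥ m` lifts along an `m`-connected morphism. -/
lemma exists_lift_of_isConn (P : DRing.Cx R) [P.IsKProjective] (m : ℤ) [P.IsStrictlyGE m]
    {A B : Dual.D R} (α : A ⟶ B) (hα : IsConn m α) (φ : DRing.toD P ⟶ B) :
    ∃ ψ : DRing.toD P ⟶ A, ψ ≫ α = φ := by
  obtain ⟨C, β, γ, hT⟩ := distinguished_cocone_triangle α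
  haveI : C.IsLE (m - 1) := (isConn_iff_isLE_cone hT m).mp hα
  obtain ⟨ψ, hψ⟩ := Triangle.coyoneda_exact₂ _ hT φ (hom_eq_zero_of_isLE P m C (φ ≫ β))
  exact ⟨ψ, hψ.symm⟩

/-- Stacks 064V (1): in a distinguished triangle `K → L → M`, if `K` is `(m+1)`-pseudo-coherent
and `L` is `m`-pseudo-coherent then `M` is `m`-pseudo-coherent. -/
lemma isPseudoCoherent_obj₃ (T : Triangle (Dual.D R)) (hT : T ∈ distTriang (Dual.D R)) (m : ℤ)
    (h1 : DRing.IsPseudoCoherent R (m + 1) T.obj₁) (h2 : DRing.IsPseudoCoherent R m T.obj₂) :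
    DRing.IsPseudoCoherent R m T.obj₃ := by
  rw [isPseudoCoherent_iff_normalized] at h1 h2
  obtain ⟨E₁, b₁, α₁, hv₁, hE₁, hc₁⟩ := h1
  obtain ⟨E₂, b₂, α₂, hv₂, hE₂, hc₂⟩ := h2
  haveI : E₁.IsKProjective := isKProjective_of_finiteFree E₁ b₁ (VanishesOutside.above hv₁) hE₁
  haveI : E₁.IsStrictlyGE m :=
    isStrictlyGE_of_vanishesOutside E₁ m b₁ (VanishesOutside.mono hv₁ (by omega) le_rfl)
  obtain ⟨γ, hγ⟩ := exists_lift_of_isConn E₁ m α₂ hc₂ (α₁ ≫ T.mor₁)
  obtain ⟨g, rfl⟩ := exists_map_eq E₁ E₂ γ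
  have hT' := DerivedCategory.mappingCone_triangle_distinguished g
  obtain ⟨c, hc, hc'⟩ := complete_distinguished_triangle_morphism _ T hT' hT α₁ α₂ hγ
  let φ : DerivedCategory.Q.mapTriangle.obj (CochainComplex.mappingCone.triangle g) ⟶ T :=
    { hom₁ := α₁, hom₂ := α₂, hom₃ := c, comm₁ := hγ, comm₂ := hc, comm₃ := hc' }
  rw [isPseudoCoherent_iff]
  refine ⟨CochainComplex.mappingCone g, m, max (b₁ - 1) b₂, c, ?_,
    termwiseFiniteFree_cone g hE₁ hE₂, fun i hi => ?_, ?_⟩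
  · apply vanishesOutside_cone
    · exact VanishesOutside.mono hv₁ le_rfl (by omega)
    · exact VanishesOutside.mono hv₂ le_rfl (by omega)
  · haveI := hc₁.mono (show m + 1 ≤ i by omega)
    have h11 : Epi ((H R i).map α₁) := (hc₁.mono (show m + 1 ≤ i by omega)).2
    have h12 : IsIso ((H R i).map α₂) := hc₂.1 i hi
    have h13 : IsIso ((H R (i + 1)).map α₁) := hc₁.1 _ (by omega)
    have h14 : IsIso ((H R (i + 1)).map α₂) := hc₂.1 _ (by omega)
    have h15 : Mono ((H R (i + 1)).map α₂) := inferInstance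
    exact isIso_H_hom₃ hT' hT φ i h11 h12 h13 h15
  · have h11 : Epi ((H R m).map α₂) := hc₂.2
    have h12 : Epi ((H R (m + 1)).map α₁) := hc₁.2
    have h13 : IsIso ((H R (m + 1)).map α₂) := hc₂.1 _ (by omega)
    have h14 : Mono ((H R (m + 1)).map α₂) := inferInstance
    exact epi_H_hom₃ hT' hT φ m h11 h12 h14

/-- Stacks 064V: the three implications for `m`-pseudo-coherence in a distinguished triangle. -/
lemma isPseudoCoherent_triangle (T : Triangle (Dual.D R)) (hT : T ∈ distTriang (Dual.D R)) (m : ℤ) :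
    (DRing.IsPseudoCoherent R (m + 1) T.obj₁ → DRing.IsPseudoCoherent R m T.obj₂ →
        DRing.IsPseudoCoherent R m T.obj₃) ∧
      (DRing.IsPseudoCoherent R m T.obj₁ → DRing.IsPseudoCoherent R m T.obj₃ →
        DRing.IsPseudoCoherent R m T.obj₂) ∧
      (DRing.IsPseudoCoherent R (m + 1) T.obj₂ → DRing.IsPseudoCoherent R m T.obj₃ →
        DRing.IsPseudoCoherent R (m + 1) T.obj₁) := by
  refine ⟨isPseudoCoherent_obj₃ T hT m, fun h1 h3 => ?_, fun h2 h3 => ?_⟩
  · -- invRotate: (obj₃⟦-1⟧, obj₁, obj₂)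
    refine isPseudoCoherent_obj₃ T.invRotate (inv_rot_of_distTriang _ hT) m ?_ h1
    have := isPseudoCoherent_shift h3 (-1)
    have e : m - -1 = m + 1 := by omega
    rw [e] at this
    exact this
  · -- rotate: (obj₂, obj₃, obj₁⟦1⟧)
    have := isPseudoCoherent_obj₃ T.rotate (rot_of_distTriang _ hT) m h2 h3
    refine isPseudoCoherent_of_shift 1 ?_
    have e : m + 1 - 1 = m := by omega
    rw [e]
    exact this

end Groth.Agent.Lib.Helper18.DR
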