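import Mathlib
import Groth.Prelude.Def_DRing2
import Groth.Agent.Lib.Helper18.DRChain
import Groth.Agent.Lib.Helper18.DRPC

/-!
# D(R) library: finiteness of top cohomology of pseudo-coherent objects (helper18)
-/

set_option autoImplicit false
set_option linter.style.haveILetI false
universe u
open CategoryTheory CategoryTheory.Limits

attribute [local instance] HasDerivedCategory.standard

namespace Groth.Agent.Lib.Helper18.DR

variable {R : Type u} [CommRing R]

/-- the kernel of a surjection of a finite projective module onto a projective module is finite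
projective -/
lemma ker_finite_projective_of_surjective {M N : Type u} [AddCommGroup M] [Module R M]
    [AddCommGroup N] [Module R N] [Module.Finite R M] [Module.Projective R M]
    [Module.Projective R N] (f : M →ₗ[R] N) (hf : Function.Surjective f) :
    Module.Finite R (LinearMap.ker f) ∧ Module.Projective R (LinearMap.ker f) := by
  obtain ⟨s, hs⟩ := Module.projective_lifting_property f LinearMap.id hf
  have hs' : ∀ y, f (s y) = y := fun y => by simpa using LinearMap.congr_fun hs y
  let r : M →ₗ[R] LinearMap.ker f := (LinearMap.id - s ∘ₗ f).codRestrict (LinearMap.ker f)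
    (fun x => by simp [hs'])
  have hr : r ∘ₗ (LinearMap.ker f).subtype = LinearMap.id := by
    ext ⟨x, hx⟩
    simp [r, LinearMap.mem_ker.mp hx]
  constructor
  · refine Module.Finite.of_surjective r (fun y => ⟨y.1, ?_⟩)
    simpa using LinearMap.congr_fun hr y
  · exact Module.Projective.of_split (LinearMap.ker f).subtype r hr

/-- cycles of a bounded above complex of finite projectives which is exact above degree `m'` are
finite projective in degrees `≥ m'`. -/
lemma ker_d_finite_projective (E : DRing.Cx R) (b m' : ℤ) (hb : DRing.VanishesAbove E b)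
    (hE : DRing.TermwiseFiniteProjective E)
    (hex : ∀ i : ℤ, m' < i → IsZero ((H R i).obj (DRing.toD E))) :
    ∀ i : ℤ, m' ≤ i → Module.Finite R (LinearMap.ker (E.d i (i + 1)).hom) ∧
      Module.Projective R (LinearMap.ker (E.d i (i + 1)).hom) := by
  have key : ∀ n : ℕ, ∀ i : ℤ, i = b + 1 - n → m' ≤ i →
      Module.Finite R (LinearMap.ker (E.d i (i + 1)).hom) ∧
      Module.Projective R (LinearMap.ker (E.d i (i + 1)).hom) := by
    intro n
    induction n with
    | zero =>
      intro i hi _
      haveI : Subsingleton (E.X i) := ModuleCat.subsingleton_of_isZero (hb i (by omega))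
      exact ⟨inferInstance, inferInstance⟩
    | succ n ih =>
      intro i hi hmi
      obtain ⟨h1, h2⟩ := ih (i + 1) (by push_cast at hi; omega) (by omega)
      have hexact := (isZero_H_toD_iff E i (i + 1) (i + 1 + 1) rfl rfl).mp (hex (i + 1) (by omega))
      haveI := (hE i).1
      haveI := (hE i).2
      let f : E.X i →ₗ[R] LinearMap.ker (E.d (i + 1) (i + 1 + 1)).hom :=
        (E.d i (i + 1)).hom.codRestrict _ (fun x => by
          rw [LinearMap.mem_ker]
          exact (hexact _).mpr ⟨x, rfl⟩)
      have hf : Function.Surjective f := by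
        rintro ⟨y, hy⟩
        obtain ⟨x, hx⟩ := (hexact y).mp (LinearMap.mem_ker.mp hy)
        exact ⟨x, Subtype.ext hx⟩
      have hker : LinearMap.ker f = LinearMap.ker (E.d i (i + 1)).hom := by
        ext x
        simp [f, LinearMap.mem_ker, Subtype.ext_iff]
      rw [← hker]
      exact ker_finite_projective_of_surjective f hf
  intro i hi
  by_cases h : i ≤ b + 1
  · exact key (b + 1 - i).toNat i (by omega) hi
  · haveI : Subsingleton (E.X i) := ModuleCat.subsingleton_of_isZero (hb i (by omega))
    exact ⟨inferInstance, inferInstance⟩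

lemma termwiseFiniteProjective_of_finiteFree {E : DRing.Cx R} (hE : DRing.TermwiseFiniteFree E) :
    DRing.TermwiseFiniteProjective E :=
  fun i => ⟨(hE i).1, by haveI := (hE i).2; infer_instance⟩

/-- Stacks 064U (1): if `K` is `m`-pseudo-coherent with `H^i(K) = 0` for `i > m`, then `H^m(K)`
is a finite module. -/
lemma finite_H_of_isPseudoCoherent (K : Dual.D R) (m : ℤ) (hK : DRing.IsPseudoCoherent R m K)
    (hv : ∀ i : ℤ, m < i → IsZero ((H R i).obj K)) : Module.Finite R ((H R m).obj K) := by
  rw [isPseudoCoherent_iff_normalized] at hK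
  obtain ⟨E, b, α, hvE, hE, hc⟩ := hK
  have hex : ∀ i : ℤ, m < i → IsZero ((H R i).obj (DRing.toD E)) := fun i hi => by
    haveI := hc.1 i hi
    exact (hv i hi).of_iso (asIso ((H R i).map α))
  obtain ⟨h1, -⟩ := ker_d_finite_projective E b m (VanishesOutside.above hvE)
    (termwiseFiniteProjective_of_finiteFree hE) hex m le_rfl
  haveI := h1
  have e := HtoDLinearEquiv' E (m - 1) m (m + 1) (by omega) rfl
  haveI : Module.Finite R ((H R m).obj (DRing.toD E)) := Module.Finite.equiv e.symm
  haveI := hc.2
  exact Module.Finite.of_surjective ((H R m).map α).hom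
    ((ModuleCat.epi_iff_surjective _).mp inferInstance)

/-- Stacks 064U (2): if `K` is `m`-pseudo-coherent with `H^i(K) = 0` for `i > m + 1`, then
`H^{m+1}(K)` is a finitely presented module. -/
lemma finitePresentation_H_of_isPseudoCoherent (K : Dual.D R) (m : ℤ)
    (hK : DRing.IsPseudoCoherent R m K)
    (hv : ∀ i : ℤ, m + 1 < i → IsZero ((H R i).obj K)) :
    Module.FinitePresentation R ((H R (m + 1)).obj K) := by
  rw [isPseudoCoherent_iff_normalized] at hK
  obtain ⟨E, b, α, hvE, hE, hc⟩ := hK
  have hex : ∀ i : ℤ, m + 1 < i → IsZero ((H R i).obj (DRing.toD E)) := fun i hi => by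
    haveI := hc.1 i (by omega)
    exact (hv i hi).of_iso (asIso ((H R i).map α))
  obtain ⟨h1, h2⟩ := ker_d_finite_projective E b (m + 1) (VanishesOutside.above hvE)
    (termwiseFiniteProjective_of_finiteFree hE) hex (m + 1) le_rfl
  haveI := h1
  haveI := h2
  haveI := (hE m).1
  haveI : Module.FinitePresentation R (LinearMap.ker (E.d (m + 1) (m + 1 + 1)).hom) :=
    Module.finitePresentation_of_projective _ _
  have e := HtoDLinearEquiv' E m (m + 1) (m + 1 + 1) rfl rfl
  have hfg : (LinearMap.range (toCyc E m (m + 1) (m + 1 + 1))).FG := by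
    rw [← Module.Finite.iff_fg]
    exact Module.Finite.range _
  haveI : Module.FinitePresentation R
      (LinearMap.ker (E.d (m + 1) (m + 1 + 1)).hom ⧸
        LinearMap.range (toCyc E m (m + 1) (m + 1 + 1))) :=
    Module.finitePresentation_of_surjective (Submodule.mkQ _) (Submodule.mkQ_surjective _)
      (by rw [Submodule.ker_mkQ]; exact hfg)
  haveI : Module.FinitePresentation R ((H R (m + 1)).obj (DRing.toD E)) :=
    Module.FinitePresentation.of_equiv e.symm
  haveI := hc.1 (m + 1) (by omega)
  exact Module.FinitePresentation.of_equiv (asIso ((H R (m + 1)).map α)).toLinearEquiv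

end Groth.Agent.Lib.Helper18.DR
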