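import Mathlib
import Groth.Prelude.Def_DRing2
import Groth.Agent.Lib.Helper18.DRTrunc

/-!
# D(R) library: morphisms from a shifted projective module (helper18)

For a projective module `P`, `Hom_{D(R)}(P[-n], K) ≃ Hom_R(P, H^n(K))` via `φ ↦ H^n(φ)`.
-/

set_option autoImplicit false
set_option linter.style.haveILetI false
universe u
open CategoryTheory CategoryTheory.Limits CategoryTheory.Pretriangulated DerivedCategory

attribute [local instance] HasDerivedCategory.standard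

namespace Groth.Agent.Lib.Helper18.DR

variable {R : Type u} [CommRing R]

/-- `P[-n]` as an object of `D(R)` -/
noncomputable abbrev Sg (n : ℤ) (P : ModuleCat.{u} R) : Dual.D R :=
  (singleFunctor (ModuleCat.{u} R) n).obj P

/-- the canonical iso `H^n(P[-n]) ≅ P` -/
noncomputable abbrev HSg (n : ℤ) (P : ModuleCat.{u} R) : (H R n).obj (Sg n P) ≅ P :=
  (singleFunctorCompHomologyFunctorIso (ModuleCat.{u} R) n).app P

lemma HSg_naturality (n : ℤ) {P Q : ModuleCat.{u} R} (f : P ⟶ Q) :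
    (H R n).map ((singleFunctor (ModuleCat.{u} R) n).map f) ≫ (HSg n Q).hom = (HSg n P).hom ≫ f :=
  (singleFunctorCompHomologyFunctorIso (ModuleCat.{u} R) n).hom.naturality f

instance isKProjective_single (n : ℤ) (P : ModuleCat.{u} R) [Projective P] :
    ((CochainComplex.singleFunctor (ModuleCat.{u} R) n).obj P).IsKProjective := by
  haveI : ∀ i, Projective (((CochainComplex.singleFunctor (ModuleCat.{u} R) n).obj P).X i) :=
    fun i => (inferInstance : Projective (((HomologicalComplex.single (ModuleCat.{u} R)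
      (ComplexShape.up ℤ) n).obj P).X i))
  exact CochainComplex.isKProjective_of_projective _ n

/-- a morphism `P[-n] ⟶ X` with `X` cohomologically `≤ n - 1` vanishes (`P` projective) -/
lemma hom_Sg_eq_zero_of_isLE (n : ℤ) (P : ModuleCat.{u} R) [Projective P] (X : Dual.D R)
    [X.IsLE (n - 1)] (φ : Sg n P ⟶ X) : φ = 0 :=
  hom_eq_zero_of_isLE ((CochainComplex.singleFunctor (ModuleCat.{u} R) n).obj P) n X φ

/-- a morphism `P[-n] ⟶ X` with `X` cohomologically `≥ n + 1` vanishes -/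
lemma hom_Sg_eq_zero_of_isGE (n : ℤ) (P : ModuleCat.{u} R) (X : Dual.D R)
    [X.IsGE (n + 1)] (φ : Sg n P ⟶ X) : φ = 0 :=
  TStructure.t.zero φ n (n + 1)

/-- dévissage: for `K` and `n` there are `A → K` and `A → C ≅ M[-n]`, both inducing isomorphisms
on `H^n`, with `Hom(P[-n], -)` behaving well. -/
lemma exists_devissage (n : ℤ) (K : Dual.D R) :
    ∃ (A : Dual.D R) (f : A ⟶ K) (M : ModuleCat.{u} R) (q : A ⟶ Sg n M),
      IsIso ((H R n).map f) ∧ IsIso ((H R n).map q) ∧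
      (∀ (P : ModuleCat.{u} R) [Projective P] (ψ : Sg n P ⟶ Sg n M), ∃ φ : Sg n P ⟶ A, φ ≫ q = ψ) ∧
      (∀ (P : ModuleCat.{u} R) [Projective P] (φ : Sg n P ⟶ A), φ ≫ q = 0 → φ = 0) ∧
      (∀ (P : ModuleCat.{u} R) (φ : Sg n P ⟶ K), ∃ φ' : Sg n P ⟶ A, φ' ≫ f = φ) := by
  obtain ⟨A, B, hA, hB, f, p, h, hT⟩ := TStructure.t.exists_triangle K n (n + 1) rfl
  haveI : A.IsLE n := ⟨hA⟩
  haveI : B.IsGE (n + 1) := ⟨hB⟩
  obtain ⟨A', C, hA', hC, f', p', h', hT'⟩ := TStructure.t.exists_triangle A (n - 1) n (by omega)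
  haveI : A'.IsLE (n - 1) := ⟨hA'⟩
  haveI : C.IsGE n := ⟨hC⟩
  haveI : C.IsLE n := isLE_obj₃ hT' n (inferInstanceAs (A'.IsLE (n - 1))) (inferInstanceAs (A.IsLE n))
  obtain ⟨M, ⟨e⟩⟩ := exists_iso_singleFunctor_obj_of_isGE_of_isLE C n
  have hf : IsIso ((H R n).map f) :=
    isIso_H_mor₁_of_isZero hT (n - 1) n (by omega) (isZero_of_isGE B (n + 1) _ (by omega))
      (isZero_of_isGE B (n + 1) _ (by omega))
  have hp' : IsIso ((H R n).map p') :=
    isIso_H_mor₂_of_isZero hT' n (isZero_of_isLE A' (n - 1) _ (by omega))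
      (isZero_of_isLE A' (n - 1) _ (by omega))
  haveI : (A'⟦(1 : ℤ)⟧).IsLE (n - 1) := by
    haveI := TStructure.t.isLE_shift A' (n - 1) 1 (n - 2) (by omega)
    exact TStructure.t.isLE_of_le _ (n - 2) (n - 1) (by omega)
  refine ⟨A, f, M, p' ≫ e.hom, hf, ?_, ?_, ?_, ?_⟩
  · rw [Functor.map_comp]; infer_instance
  · intro P _ ψ
    have hz : (ψ ≫ e.inv) ≫ h' = 0 := hom_Sg_eq_zero_of_isLE n P (A'⟦(1 : ℤ)⟧) _
    obtain ⟨φ, hφ'⟩ : ∃ φ : Sg n P ⟶ A, ψ ≫ e.inv = φ ≫ p' :=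
      Triangle.coyoneda_exact₃ (Triangle.mk f' p' h') hT' (ψ ≫ e.inv) hz
    refine ⟨φ, ?_⟩
    rw [← Category.assoc, ← hφ']; simp
  · intro P _ φ hφ
    have h1 : φ ≫ p' = 0 := by
      rw [← cancel_mono e.hom, Category.assoc, hφ, zero_comp]
    obtain ⟨φ', hφ''⟩ : ∃ φ' : Sg n P ⟶ A', φ = φ' ≫ f' :=
      Triangle.coyoneda_exact₂ (Triangle.mk f' p' h') hT' φ h1
    have hz : φ' = 0 := hom_Sg_eq_zero_of_isLE n P A' φ'
    rw [hφ'', hz, zero_comp]
  · intro P φ
    have hz : φ ≫ p = 0 := hom_Sg_eq_zero_of_isGE n P B _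
    obtain ⟨φ', hφ''⟩ : ∃ φ' : Sg n P ⟶ A, φ = φ' ≫ f :=
      Triangle.coyoneda_exact₂ (Triangle.mk f p h) hT φ hz
    exact ⟨φ', hφ''.symm⟩

/-- every linear map `P → H^n(K)` from a projective module is induced by a morphism `P[-n] → K` -/
theorem exists_hom_Sg (n : ℤ) (P : ModuleCat.{u} R) [Projective P] (K : Dual.D R)
    (g : P ⟶ (H R n).obj K) : ∃ φ : Sg n P ⟶ K, (HSg n P).inv ≫ (H R n).map φ = g := by
  obtain ⟨A, f, M, q, hf, hq, h1, -, -⟩ := exists_devissage n K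
  let g'' : P ⟶ M := g ≫ inv ((H R n).map f) ≫ (H R n).map q ≫ (HSg n M).hom
  obtain ⟨φ, hφ⟩ := h1 P ((singleFunctor (ModuleCat.{u} R) n).map g'')
  refine ⟨φ ≫ f, ?_⟩
  have h2 : (H R n).map φ ≫ (H R n).map q = (H R n).map ((singleFunctor (ModuleCat.{u} R) n).map g'') := by
    rw [← Functor.map_comp, hφ]
  have h3 : (H R n).map φ = (H R n).map ((singleFunctor (ModuleCat.{u} R) n).map g'') ≫
      inv ((H R n).map q) := by
    rw [← h2]; simp
  have h4 := HSg_naturality n g''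
  rw [Functor.map_comp, h3]
  have h5 : (H R n).map ((singleFunctor (ModuleCat.{u} R) n).map g'') =
      (HSg n P).hom ≫ g'' ≫ (HSg n M).inv := by
    rw [← Category.assoc, ← h4]; simp
  rw [h5]
  simp [g'']

/-- a morphism `P[-n] → K` (`P` projective) inducing zero on `H^n` is zero -/
theorem hom_Sg_eq_zero (n : ℤ) (P : ModuleCat.{u} R) [Projective P] (K : Dual.D R)
    (φ : Sg n P ⟶ K) (h : (H R n).map φ = 0) : φ = 0 := by
  obtain ⟨A, f, M, q, hf, hq, -, h2, h3⟩ := exists_devissage n K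
  obtain ⟨φ', rfl⟩ := h3 P φ
  have h4 : (H R n).map φ' = 0 := by
    rw [Functor.map_comp] at h
    rw [← cancel_mono ((H R n).map f), h, zero_comp]
  have h5 : (H R n).map (φ' ≫ q) = 0 := by rw [Functor.map_comp, h4, zero_comp]
  -- `φ' ≫ q` is in the image of the fully faithful single functor
  obtain ⟨g, hg⟩ := (singleFunctor (ModuleCat.{u} R) n).map_surjective (φ' ≫ q)
  have h6 : g = 0 := by
    have := HSg_naturality n g
    rw [hg, h5, zero_comp] at this
    rw [← cancel_epi (HSg n P).hom, ← this, comp_zero]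
  rw [h6, Functor.map_zero] at hg
  rw [h2 P φ' hg.symm, zero_comp]

end Groth.Agent.Lib.Helper18.DR
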