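import Mathlib
import Groth.Prelude.Def_DRing2
import Groth.Agent.Lib.Helper18.DRProj

/-!
# D(R) library: induction principles (bounded complexes; bounded cohomology) (helper18)
-/

set_option autoImplicit false
set_option linter.style.haveILetI false
universe u
open CategoryTheory CategoryTheory.Limits CategoryTheory.Pretriangulated DerivedCategory

attribute [local instance] HasDerivedCategory.standard

namespace Groth.Agent.Lib.Helper18.DR

variable {R : Type u} [CommRing R]

/-- a complex concentrated in degree `n` is isomorphic to the single complex on its `n`-th term -/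
noncomputable def isoSingleOfStrictly (K : DRing.Cx R) (n : ℤ) [K.IsStrictlyGE n] [K.IsStrictlyLE n] :
    K ≅ (HomologicalComplex.single (ModuleCat.{u} R) (ComplexShape.up ℤ) n).obj (K.X n) where
  hom := HomologicalComplex.mkHomToSingle (𝟙 _) (fun i (hi : i + 1 = n) ↦
    (K.isZero_of_isStrictlyGE n i (by omega)).eq_of_src _ _)
  inv := HomologicalComplex.mkHomFromSingle (𝟙 _) (fun i (hi : n + 1 = i) ↦
    (K.isZero_of_isStrictlyLE n i (by omega)).eq_of_tgt _ _)
  hom_inv_id := by
    ext i : 1
    obtain hi | rfl | hi := lt_trichotomy i n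
    · apply (K.isZero_of_isStrictlyGE n i (by omega)).eq_of_src
    · simp
    · apply (K.isZero_of_isStrictlyLE n i (by omega)).eq_of_tgt
  inv_hom_id := by aesop

/-- `toD K ≅ (K^n)[-n]` for `K` concentrated in degree `n` -/
noncomputable def toDIsoSg (K : DRing.Cx R) (n : ℤ) [K.IsStrictlyGE n] [K.IsStrictlyLE n] :
    DRing.toD K ≅ Sg n (K.X n) :=
  DerivedCategory.Q.mapIso (isoSingleOfStrictly K n)

lemma isZero_toD_of_forall_isZero (K : DRing.Cx R) (h : ∀ i, IsZero (K.X i)) :
    IsZero (DRing.toD K) := by
  rw [IsZero.iff_id_eq_zero]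
  have : 𝟙 K = 0 := by
    ext i : 1
    exact (h i).eq_of_src _ _
  change 𝟙 (DerivedCategory.Q.obj K) = 0
  rw [← DerivedCategory.Q.map_id, this, Functor.map_zero]

section BI

variable (Pr : Dual.D R → Prop) (hiso : ∀ {X Y : Dual.D R}, (X ≅ Y) → Pr X → Pr Y)
  (hzero : ∀ X : Dual.D R, IsZero X → Pr X)
  (hext : ∀ T : Triangle (Dual.D R), T ∈ distTriang (Dual.D R) → Pr T.obj₁ → Pr T.obj₃ → Pr T.obj₂)

include hiso hzero hext

/-- induction on the length of a bounded complex -/
theorem bounded_induction (K : DRing.Cx R) (a b : ℤ) (hK : DRing.VanishesOutside K a b)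
    (h : ∀ i : ℤ, a ≤ i → i ≤ b → Pr (Sg i (K.X i))) : Pr (DRing.toD K) := by
  obtain ⟨N, hN⟩ : ∃ N : ℕ, b - a + 1 ≤ N := ⟨(b - a + 1).toNat, by omega⟩
  induction N generalizing K a with
  | zero =>
    exact hzero _ (isZero_toD_of_forall_isZero K (fun i => hK i (by omega)))
  | succ N ih =>
    have hT := sigmaTriangle_distinguished K (a + 1)
    refine hext _ hT ?_ ?_
    · -- σ_{≥ a+1} K
      change Pr (DRing.toD (sigmaGE K (a + 1)))
      refine ih (sigmaGE K (a + 1)) (a + 1)
        (vanishesOutside_sigmaGE K (a + 1) (VanishesOutside.above hK)) (fun i hi hib => ?_)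
        (by push_cast at hN; omega)
      exact hiso ((singleFunctor (ModuleCat.{u} R) i).mapIso (sigmaGEXIso K (a + 1) hi).symm)
        (h i (by omega) hib)
    · -- σ_{< a+1} K is concentrated in degree a
      change Pr (DRing.toD (sigmaLT K (a + 1)))
      haveI : (sigmaLT K (a + 1)).IsStrictlyLE a := by
        have : (sigmaLT K (a + 1)).IsStrictlyLE (a + 1 - 1) := inferInstance
        simpa using this
      haveI : (sigmaLT K (a + 1)).IsStrictlyGE a := by
        rw [CochainComplex.isStrictlyGE_iff]
        intro i hi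
        exact vanishesOutside_sigmaLT' K (a + 1) hK i (Or.inl hi)
      by_cases hab : a ≤ b
      · refine hiso (toDIsoSg (sigmaLT K (a + 1)) a).symm ?_
        exact hiso ((singleFunctor (ModuleCat.{u} R) a).mapIso (sigmaLTXIso K (a + 1) (by omega)))
          (h a le_rfl hab)
      · exact hzero _ (isZero_toD_of_forall_isZero _
          (fun i => vanishesOutside_sigmaLT' K (a + 1) hK i (by omega)))

/-- induction on the cohomological amplitude -/
theorem cohomological_induction (K : Dual.D R) (a b : ℤ)
    (hK : ∀ i : ℤ, (i < a ∨ b < i) → IsZero ((H R i).obj K))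
    (h : ∀ i : ℤ, a ≤ i → i ≤ b → Pr (Sg i ((H R i).obj K))) : Pr K := by
  obtain ⟨N, hN⟩ : ∃ N : ℕ, b - a + 1 ≤ N := ⟨(b - a + 1).toNat, by omega⟩
  induction N generalizing K a with
  | zero =>
    haveI : K.IsLE (a - 1) := by
      rw [DerivedCategory.isLE_iff]; intro i hi; exact hK i (by omega)
    haveI : K.IsGE a := by
      rw [DerivedCategory.isGE_iff]; intro i hi; exact hK i (by omega)
    exact hzero _ (TStructure.t.isZero K (a - 1) a (by omega))
  | succ N ih =>
    obtain ⟨A, B, hA, hB, f, p, δ, hT⟩ := TStructure.t.exists_triangle K a (a + 1) rfl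
    haveI : A.IsLE a := ⟨hA⟩
    haveI : B.IsGE (a + 1) := ⟨hB⟩
    have hf : ∀ i : ℤ, i ≤ a → IsIso ((H R i).map f) := fun i hi =>
      isIso_H_mor₁_of_isZero hT (i - 1) i (by omega) (isZero_of_isGE B (a + 1) _ (by omega))
        (isZero_of_isGE B (a + 1) _ (by omega))
    have hp : ∀ i : ℤ, a + 1 ≤ i → IsIso ((H R i).map p) := fun i hi =>
      isIso_H_mor₂_of_isZero hT i (isZero_of_isLE A a _ (by omega))
        (isZero_of_isLE A a _ (by omega))
    haveI : A.IsGE a := by
      rw [DerivedCategory.isGE_iff]
      intro i hi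
      haveI := hf i (by omega)
      exact (hK i (Or.inl hi)).of_iso (asIso ((H R i).map f))
    refine hext _ hT ?_ ?_
    · change Pr A
      by_cases hab : a ≤ b
      · obtain ⟨M, ⟨e⟩⟩ := exists_iso_singleFunctor_obj_of_isGE_of_isLE A a
        haveI := hf a le_rfl
        have eM : (H R a).obj K ≅ M :=
          (asIso ((H R a).map f)).symm ≪≫ (H R a).mapIso e ≪≫ HSg a M
        exact hiso (((singleFunctor (ModuleCat.{u} R) a).mapIso eM) ≪≫ e.symm) (h a le_rfl hab)
      · haveI : A.IsLE (a - 1) := by
          rw [DerivedCategory.isLE_iff]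
          intro i hi
          rcases (show i = a ∨ a < i by omega) with rfl | hi'
          · haveI := hf i le_rfl
            exact (hK i (Or.inr (by omega))).of_iso (asIso ((H R i).map f))
          · exact isZero_of_isLE A a _ hi'
        exact hzero _ (TStructure.t.isZero A (a - 1) a (by omega))
    · change Pr B
      refine ih B (a + 1) (fun i hi => ?_) (fun i hi hib => ?_) (by push_cast at hN; omega)
      · rcases hi with hi | hi
        · exact isZero_of_isGE B (a + 1) _ hi
        · by_cases hia : a + 1 ≤ i
          · haveI := hp i hia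
            exact (hK i (Or.inr hi)).of_iso (asIso ((H R i).map p)).symm
          · exact isZero_of_isGE B (a + 1) _ (by omega)
      · haveI := hp i hi
        exact hiso ((singleFunctor (ModuleCat.{u} R) i).mapIso (asIso ((H R i).map p)))
          (h i (by omega) hib)

end BI

end Groth.Agent.Lib.Helper18.DR
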