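import Mathlib
import Groth.Prelude.Def_DRing2
import Groth.Agent.Lib.Helper18.DRInd
import Groth.Agent.Lib.Helper18.DRTri

/-!
# D(R) library: perfect objects — bounded complexes / bounded cohomology (helper18)
-/

set_option autoImplicit false
set_option linter.style.haveILetI false
universe u
open CategoryTheory CategoryTheory.Limits CategoryTheory.Pretriangulated DerivedCategory

attribute [local instance] HasDerivedCategory.standard

namespace Groth.Agent.Lib.Helper18.DR

open ZeroObject

variable {R : Type u} [CommRing R]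

/-- `(M[-a'])⟦n⟧ ≅ M[-a]` when `n + a = a'` -/
noncomputable def SgShiftIso (n a a' : ℤ) (h : n + a = a') (M : ModuleCat.{u} R) :
    (Sg a' M)⟦n⟧ ≅ Sg a M :=
  ((singleFunctors (ModuleCat.{u} R)).shiftIso n a a' h).app M

lemma isZero_H_of_subsingleton (K : Dual.D R) (i : ℤ) (h : Subsingleton (Dual.HD R K i)) :
    IsZero ((H R i).obj K) :=
  ModuleCat.isZero_of_subsingleton _

lemma isPerfect_of_isZero (X : Dual.D R) (hX : IsZero X) : DRing.IsPerfect R X := by
  refine ⟨0, 0, 0, fun i _ => ?_, fun i => ?_, ⟨?_⟩⟩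
  · exact Functor.map_isZero (HomologicalComplex.eval _ _ i) (isZero_zero _)
  · haveI : Subsingleton ((0 : DRing.Cx R).X i) := ModuleCat.subsingleton_of_isZero
      (Functor.map_isZero (HomologicalComplex.eval _ _ i) (isZero_zero _))
    exact ⟨inferInstance, inferInstance⟩
  · exact (Functor.map_isZero DerivedCategory.Q (isZero_zero _)).iso hX

lemma isPerfect_Sg_of_isPerfectModule (M : ModuleCat.{u} R) (i : ℤ)
    (h : DRing.IsPerfectModule R M) : DRing.IsPerfect R (Sg i M) :=
  isPerfect_of_iso (SgShiftIso (-i) i 0 (by omega) M) (isPerfect_shift h (-i))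

/-- a bounded complex whose terms are perfect modules is perfect -/
theorem isPerfect_of_terms (K : DRing.Cx R) (a b : ℤ) (hab : DRing.VanishesOutside K a b)
    (hK : ∀ i : ℤ, DRing.IsPerfectModule R (K.X i)) : DRing.IsPerfect R (DRing.toD K) :=
  bounded_induction (DRing.IsPerfect R) (fun e h => isPerfect_of_iso e h) isPerfect_of_isZero
    (fun T hT => (isPerfect_two_of_three T hT).2.1) K a b hab
    (fun i _ _ => isPerfect_Sg_of_isPerfectModule (K.X i) i (hK i))

/-- an object with bounded cohomology whose cohomology modules are perfect is perfect -/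
theorem isPerfect_of_cohomology (K : Dual.D R) (a b : ℤ)
    (hb : ∀ i : ℤ, (i < a ∨ b < i) → Subsingleton (Dual.HD R K i))
    (hK : ∀ i : ℤ, DRing.IsPerfectModule R (Dual.HD R K i)) : DRing.IsPerfect R K :=
  cohomological_induction (DRing.IsPerfect R) (fun e h => isPerfect_of_iso e h) isPerfect_of_isZero
    (fun T hT => (isPerfect_two_of_three T hT).2.1) K a b
    (fun i hi => isZero_H_of_subsingleton K i (hb i hi))
    (fun i _ _ => isPerfect_Sg_of_isPerfectModule ((H R i).obj K) i (hK i))

/-- a retract of a module gives a product decomposition -/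
noncomputable def retractEquiv {A M : Type u} [AddCommGroup A] [Module R A] [AddCommGroup M] [Module R M]
    (f : A →ₗ[R] M) (g : M →ₗ[R] A) (hfg : ∀ m, f (g m) = m) :
    A ≃ₗ[R] (M × LinearMap.ker f) where
  toFun x := (f x, ⟨x - g (f x), by simp [hfg]⟩)
  map_add' x y := by
    refine Prod.ext (by simp) (Subtype.ext ?_)
    change x + y - g (f (x + y)) = (x - g (f x)) + (y - g (f y))
    simp only [map_add]
    abel
  map_smul' c x := by
    refine Prod.ext (by simp) (Subtype.ext ?_)
    change c • x - g (f (c • x)) = c • (x - g (f x))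
    simp [smul_sub]
  invFun p := g p.1 + p.2.1
  left_inv x := by simp
  right_inv p := by
    obtain ⟨m, k, hk⟩ := p
    have hk' : f k = 0 := hk
    refine Prod.ext ?_ (Subtype.ext ?_)
    · simp [hfg, hk']
    · simp [hfg, hk']

/-- Stacks 07LT-type induction: a property of objects of `D(R)` which is closed under isomorphisms,
shifts, extensions and direct summands and holds for `R[0]` holds for all perfect objects. -/
theorem perfect_induction (Pr : ObjectProperty (Dual.D R)) [Pr.IsClosedUnderIsomorphisms]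
    (hR : Pr (Dual.inD R R))
    (hshift : ∀ (K : Dual.D R) (n : ℤ), Pr K → Pr ((shiftFunctor (Dual.D R) n).obj K))
    (hext : ∀ T : Triangle (Dual.D R), T ∈ distTriang (Dual.D R) → Pr T.obj₁ → Pr T.obj₃ → Pr T.obj₂)
    (hsum : ∀ (X Y : Dual.D R) [HasBinaryBiproduct X Y], Pr (X ⊞ Y) → Pr X)
    (K : Dual.D R) (hK : DRing.IsPerfect R K) : Pr K := by
  classical
  have hiso : ∀ {X Y : Dual.D R}, (X ≅ Y) → Pr X → Pr Y := fun e h => Pr.prop_of_iso e h
  have hzero : ∀ X : Dual.D R, IsZero X → Pr X := by
    intro X hX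
    have h0 : Pr (X ⊞ Dual.inD R R) := hiso (isoZeroBiprod hX) hR
    exact hsum X (Dual.inD R R) h0
  have hbiprod : ∀ X Y : Dual.D R, Pr X → Pr Y → Pr (X ⊞ Y) := fun X Y hX hY =>
    hext _ (binaryBiproductTriangle_distinguished X Y) hX hY
  have hRi : ∀ i : ℤ, Pr (Sg i (ModuleCat.of R R)) := fun i =>
    hiso (SgShiftIso (-i) i 0 (by omega) (ModuleCat.of R R)) (hshift _ (-i) hR)
  have hSgbiprod : ∀ (i : ℤ) (A B : ModuleCat.{u} R), Pr (Sg i A) → Pr (Sg i B) →
      Pr (Sg i (A ⊞ B)) := fun i A B hA hB => by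
    haveI := preservesBinaryBiproducts_of_preservesBiproducts (singleFunctor (ModuleCat.{u} R) i)
    exact hiso ((singleFunctor (ModuleCat.{u} R) i).mapBiprod A B).symm (hbiprod _ _ hA hB)
  have hfree : ∀ (i : ℤ) (n : ℕ), Pr (Sg i (ModuleCat.of R (Fin n → R))) := by
    intro i n
    induction n with
    | zero =>
      apply hzero
      apply Functor.map_isZero
      exact ModuleCat.isZero_of_subsingleton _
    | succ n ih =>
      have e : ModuleCat.of R (Fin (n + 1) → R) ≅ ModuleCat.of R R ⊞ ModuleCat.of R (Fin n → R) :=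
        (Fin.consLinearEquiv R (fun _ : Fin (n + 1) => R)).symm.toModuleIso ≪≫
          (ModuleCat.biprodIsoProd (ModuleCat.of R R) (ModuleCat.of R (Fin n → R))).symm
      exact hiso ((singleFunctor (ModuleCat.{u} R) i).mapIso e.symm) (hSgbiprod i _ _ (hRi i) ih)
  have hproj : ∀ (i : ℤ) (M : ModuleCat.{u} R), Module.Finite R M → Module.Projective R M →
      Pr (Sg i M) := by
    intro i M _ _
    obtain ⟨n, f, g, hf, -, hfg⟩ := Module.Finite.exists_comp_eq_id_of_projective R M
    have hfg' : ∀ m, f (g m) = m := fun m => by simpa using LinearMap.congr_fun hfg m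
    have e' : ModuleCat.of R (Fin n → R) ≅ M ⊞ ModuleCat.of R (LinearMap.ker f) :=
      (retractEquiv f g hfg').toModuleIso ≪≫
        (ModuleCat.biprodIsoProd M (ModuleCat.of R (LinearMap.ker f))).symm
    have h1 : Pr (Sg i (M ⊞ ModuleCat.of R (LinearMap.ker f))) :=
      hiso ((singleFunctor (ModuleCat.{u} R) i).mapIso e') (hfree i n)
    haveI := preservesBinaryBiproducts_of_preservesBiproducts (singleFunctor (ModuleCat.{u} R) i)
    have h2 := hiso ((singleFunctor (ModuleCat.{u} R) i).mapBiprod M
      (ModuleCat.of R (LinearMap.ker f))) h1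
    exact hsum _ _ h2
  obtain ⟨E, a, b, hab, hE, ⟨e⟩⟩ := hK
  refine hiso e ?_
  exact bounded_induction Pr hiso hzero hext E a b hab
    (fun i _ _ => hproj i (E.X i) (hE i).1 (hE i).2)

end Groth.Agent.Lib.Helper18.DR
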