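import Mathlib
import Groth.Prelude.Def_DRing2
import Groth.Agent.Lib.Helper18.DRFin
import Groth.Agent.Lib.Helper18.DRProj

/-!
# D(R) library: pseudo-coherence from top cohomology; modules (helper18)
-/

set_option autoImplicit false
set_option linter.style.haveILetI false
universe u
open CategoryTheory CategoryTheory.Limits CategoryTheory.Pretriangulated DerivedCategory

attribute [local instance] HasDerivedCategory.standard

namespace Groth.Agent.Lib.Helper18.DR

variable {R : Type u} [CommRing R]

/-- bounded finite free complexes are `m`-pseudo-coherent for all `m` -/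
lemma isPseudoCoherent_toD_of_bdd (E : DRing.Cx R) (a b : ℤ) (hab : DRing.VanishesOutside E a b)
    (hE : DRing.TermwiseFiniteFree E) (m : ℤ) : DRing.IsPseudoCoherent R m (DRing.toD E) :=
  ⟨E, a, b, 𝟙 _, hab, hE, fun i _ => by rw [CategoryTheory.Functor.map_id]; infer_instance,
    by rw [CategoryTheory.Functor.map_id]; infer_instance⟩

lemma vanishesOutside_single (n : ℤ) (F : ModuleCat.{u} R) :
    DRing.VanishesOutside ((CochainComplex.singleFunctor (ModuleCat.{u} R) n).obj F) n n := by
  intro i hi
  exact HomologicalComplex.isZero_single_obj_X _ _ _ _ (by omega)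

lemma ModProp.single (mp : ModProp R) (n : ℤ) (F : ModuleCat.{u} R) (hF : mp.P F) (i : ℤ) :
    mp.P (((CochainComplex.singleFunctor (ModuleCat.{u} R) n).obj F).X i) := by
  by_cases h : i = n
  · subst h
    exact mp.iso (HomologicalComplex.singleObjXSelf (ComplexShape.up ℤ) i F).symm hF
  · exact mp.zero (HomologicalComplex.isZero_single_obj_X _ _ _ _ h)

lemma termwiseFiniteFree_single (n : ℤ) (F : ModuleCat.{u} R) [Module.Finite R F] [Module.Free R F] :
    DRing.TermwiseFiniteFree ((CochainComplex.singleFunctor (ModuleCat.{u} R) n).obj F) :=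
  fun i => ⟨(finiteProp R).single n F (show Module.Finite R F from inferInstance) i,
    (freeProp R).single n F (show Module.Free R F from inferInstance) i⟩

lemma isPseudoCoherent_Sg (n : ℤ) (F : ModuleCat.{u} R) [Module.Finite R F] [Module.Free R F]
    (m : ℤ) : DRing.IsPseudoCoherent R m (Sg n F) :=
  isPseudoCoherent_toD_of_bdd _ n n (vanishesOutside_single n F) (termwiseFiniteFree_single n F) m

lemma isIso_of_isZero_isZero {C : Type*} [Category C] [HasZeroMorphisms C] {X Y : C} (f : X ⟶ Y)
    (hX : IsZero X) (hY : IsZero Y) : IsIso f :=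
  ⟨0, hX.eq_of_src _ _, hY.eq_of_src _ _⟩

/-- an object `C` cohomologically `≤ m` with `H^m(C)` finite is `m`-pseudo-coherent -/
lemma isPseudoCoherent_of_isLE_of_finite (m : ℤ) (C : Dual.D R) [C.IsLE m]
    (hfin : Module.Finite R ((H R m).obj C)) : DRing.IsPseudoCoherent R m C := by
  obtain ⟨n, π, hπ⟩ := Module.Finite.exists_fin' R ((H R m).obj C)
  let F : ModuleCat.{u} R := ModuleCat.of R (Fin n → R)
  haveI : Projective F := inferInstance
  haveI : Module.Finite R F := inferInstanceAs (Module.Finite R (Fin n → R))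
  haveI : Module.Free R F := inferInstanceAs (Module.Free R (Fin n → R))
  obtain ⟨φ, hφ⟩ := exists_hom_Sg m F C (ModuleCat.ofHom π)
  have hepi : Epi ((H R m).map φ) := by
    have h1 : (H R m).map φ = (HSg m F).hom ≫ ModuleCat.ofHom π := by
      rw [← hφ]; simp
    rw [h1]
    haveI : Epi (ModuleCat.ofHom π) := (ModuleCat.epi_iff_surjective _).mpr hπ
    infer_instance
  rw [isPseudoCoherent_iff]
  refine ⟨_, m, m, φ, vanishesOutside_single m F, termwiseFiniteFree_single m F, fun i hi => ?_, hepi⟩
  exact isIso_of_isZero_isZero _ (isZero_of_isLE (Sg m F) m i hi) (isZero_of_isLE C m i hi)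

/-- Stacks 064W: if `H^i(K) = 0` for `i > m + 1`, `H^{m+1}(K)` is finitely presented and `H^m(K)`
is finite, then `K` is `m`-pseudo-coherent. -/
theorem isPseudoCoherent_of_top_cohomology (m : ℤ) (K : Dual.D R)
    (hvan : ∀ i : ℤ, m + 1 < i → IsZero ((H R i).obj K))
    (hfp : Module.FinitePresentation R ((H R (m + 1)).obj K))
    (hfin : Module.Finite R ((H R m).obj K)) : DRing.IsPseudoCoherent R m K := by
  obtain ⟨n, π, hπ⟩ := Module.Finite.exists_fin' R ((H R (m + 1)).obj K)
  let F : ModuleCat.{u} R := ModuleCat.of R (Fin n → R)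
  haveI : Projective F := inferInstance
  haveI : Module.Finite R F := inferInstanceAs (Module.Finite R (Fin n → R))
  haveI : Module.Free R F := inferInstanceAs (Module.Free R (Fin n → R))
  obtain ⟨φ, hφ⟩ := exists_hom_Sg (m + 1) F K (ModuleCat.ofHom π)
  have h1 : (H R (m + 1)).map φ = (HSg (m + 1) F).hom ≫ ModuleCat.ofHom π := by
    rw [← hφ]; simp
  have hepi : Epi ((H R (m + 1)).map φ) := by
    rw [h1]
    haveI : Epi (ModuleCat.ofHom π) := (ModuleCat.epi_iff_surjective _).mpr hπ
    infer_instance
  obtain ⟨C, β, γ, hT⟩ := distinguished_cocone_triangle φ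
  have hconn : IsConn (m + 1) φ := by
    refine ⟨fun i hi => ?_, hepi⟩
    exact isIso_of_isZero_isZero _ (isZero_of_isLE (Sg (m + 1) F) (m + 1) i hi) (hvan i hi)
  haveI : C.IsLE m := by
    have := (isConn_iff_isLE_cone hT (m + 1)).mp hconn
    simpa using this
  -- `H^m(C)` is finite
  have hCfin : Module.Finite R ((H R m).obj C) := by
    have ex3 := HomologySequence.exact₃ _ hT m (m + 1) rfl
    have ex1 := HomologySequence.exact₁ _ hT m (m + 1) rfl
    rw [ShortComplex.ShortExact.moduleCat_exact_iff_function_exact] at ex3 ex1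
    let δ : (H R m).obj C →ₗ[R] (H R (m + 1)).obj (Sg (m + 1) F) :=
      (HomologySequence.δ (Triangle.mk φ β γ) m (m + 1) rfl).hom
    let b : (H R m).obj K →ₗ[R] (H R m).obj C := ((H R m).map β).hom
    let f : (H R (m + 1)).obj (Sg (m + 1) F) →ₗ[R] (H R (m + 1)).obj K := ((H R (m + 1)).map φ).hom
    have ex3' : Function.Exact b δ := ex3
    have ex1' : Function.Exact δ f := ex1
    haveI : Module.Finite R ((H R (m + 1)).obj (Sg (m + 1) F)) :=
      Module.Finite.equiv (HSg (m + 1) F).toLinearEquiv.symm
    have hf : Function.Surjective f := (ModuleCat.epi_iff_surjective _).mp hepi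
    have hker : (LinearMap.ker f).FG := Module.FinitePresentation.fg_ker f hf
    refine ⟨?_⟩
    apply Submodule.fg_of_fg_map_of_fg_inf_ker δ
    · rw [Submodule.map_top, LinearMap.exact_iff.mp ex1' |>.symm]
      exact hker
    · rw [top_inf_eq, LinearMap.exact_iff.mp ex3']
      rw [← Module.Finite.iff_fg]
      exact Module.Finite.range b
  have hC : DRing.IsPseudoCoherent R m C := isPseudoCoherent_of_isLE_of_finite m C hCfin
  exact (isPseudoCoherent_triangle _ hT m).2.1 (isPseudoCoherent_Sg (m + 1) F m) hC

end Groth.Agent.Lib.Helper18.DR
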