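import Mathlib

/-!
# Elementwise criterion for quasi-isomorphisms of short complexes of modules (helper18)
-/

set_option autoImplicit false
universe u v
open CategoryTheory CategoryTheory.Limits

namespace Groth.Agent.Lib.Helper18.DR

variable {R : Type u} [Ring R]

/-- elementwise criterion for a morphism of short complexes of modules to be a quasi-isomorphism -/
lemma shortComplex_quasiIso_of_elementwise {S₁ S₂ : ShortComplex (ModuleCat.{v} R)} (φ : S₁ ⟶ S₂)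
    (hinj : ∀ x₂ : S₁.X₂, S₁.g x₂ = 0 → (∃ y₁ : S₂.X₁, S₂.f y₁ = φ.τ₂ x₂) → ∃ x₁ : S₁.X₁, S₁.f x₁ = x₂)
    (hsurj : ∀ y₂ : S₂.X₂, S₂.g y₂ = 0 →
      ∃ (x₂ : S₁.X₂) (y₁ : S₂.X₁), S₁.g x₂ = 0 ∧ φ.τ₂ x₂ = y₂ + S₂.f y₁) :
    ShortComplex.QuasiIso φ := by
  rw [ShortComplex.quasiIso_iff_isIso_leftHomologyMap' φ S₁.moduleCatLeftHomologyData
    S₂.moduleCatLeftHomologyData]
  have hK : ∀ z : LinearMap.ker S₁.g.hom,
      (S₂.moduleCatLeftHomologyData.i ((ShortComplex.cyclesMap' φ S₁.moduleCatLeftHomologyData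
        S₂.moduleCatLeftHomologyData) z) : S₂.X₂) = φ.τ₂ z.1 := by
    intro z
    have := ShortComplex.cyclesMap'_i φ S₁.moduleCatLeftHomologyData S₂.moduleCatLeftHomologyData
    exact congr($this z)
  have hH : ∀ z : LinearMap.ker S₁.g.hom,
      (ShortComplex.leftHomologyMap' φ S₁.moduleCatLeftHomologyData S₂.moduleCatLeftHomologyData)
        (S₁.moduleCatLeftHomologyData.π z) =
      S₂.moduleCatLeftHomologyData.π ((ShortComplex.cyclesMap' φ S₁.moduleCatLeftHomologyData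
        S₂.moduleCatLeftHomologyData) z) := by
    intro z
    have := ShortComplex.leftHomologyπ_naturality' φ S₁.moduleCatLeftHomologyData
      S₂.moduleCatLeftHomologyData
    exact congr($this z)
  have hπ₁ : Function.Surjective S₁.moduleCatLeftHomologyData.π := Submodule.mkQ_surjective _
  have hπ₂ : Function.Surjective S₂.moduleCatLeftHomologyData.π := Submodule.mkQ_surjective _
  rw [ConcreteCategory.isIso_iff_bijective]
  constructor
  · rw [injective_iff_map_eq_zero]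
    intro h hh
    obtain ⟨z, rfl⟩ := hπ₁ h
    rw [hH] at hh
    have h0 : (ShortComplex.cyclesMap' φ S₁.moduleCatLeftHomologyData
        S₂.moduleCatLeftHomologyData) z ∈ LinearMap.range S₂.moduleCatToCycles :=
      (Submodule.Quotient.mk_eq_zero _).mp hh
    obtain ⟨y₁, hy₁⟩ := h0
    have hy₁' : S₂.f y₁ = φ.τ₂ z.1 := by
      rw [← hK z, ← hy₁]; rfl
    obtain ⟨x₁, hx₁⟩ := hinj z.1 (LinearMap.mem_ker.mp z.2) ⟨y₁, hy₁'⟩
    exact (Submodule.Quotient.mk_eq_zero _).mpr ⟨x₁, Subtype.ext hx₁⟩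
  · intro h'
    obtain ⟨z', rfl⟩ := hπ₂ h'
    obtain ⟨x₂, y₁, hx₂, hxy⟩ := hsurj z'.1 (LinearMap.mem_ker.mp z'.2)
    refine ⟨S₁.moduleCatLeftHomologyData.π ⟨x₂, LinearMap.mem_ker.mpr hx₂⟩, ?_⟩
    rw [hH]
    refine (Submodule.Quotient.eq _).mpr ⟨y₁, Subtype.ext ?_⟩
    have h2 := hK ⟨x₂, LinearMap.mem_ker.mpr hx₂⟩
    change S₂.f y₁ = (S₂.moduleCatLeftHomologyData.i ((ShortComplex.cyclesMap' φ
      S₁.moduleCatLeftHomologyData S₂.moduleCatLeftHomologyData)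
        ⟨x₂, LinearMap.mem_ker.mpr hx₂⟩) : S₂.X₂) - z'.1
    rw [h2]
    change S₂.f y₁ = φ.τ₂ x₂ - z'.1
    rw [hxy]; abel

/-- converse: elementwise consequences of a quasi-isomorphism of short complexes of modules -/
lemma shortComplex_elementwise_of_quasiIso {S₁ S₂ : ShortComplex (ModuleCat.{v} R)} (φ : S₁ ⟶ S₂)
    (hφ : ShortComplex.QuasiIso φ) :
    (∀ x₂ : S₁.X₂, S₁.g x₂ = 0 → (∃ y₁ : S₂.X₁, S₂.f y₁ = φ.τ₂ x₂) →
      ∃ x₁ : S₁.X₁, S₁.f x₁ = x₂) ∧
    (∀ y₂ : S₂.X₂, S₂.g y₂ = 0 →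
      ∃ (x₂ : S₁.X₂) (y₁ : S₂.X₁), S₁.g x₂ = 0 ∧ φ.τ₂ x₂ = y₂ + S₂.f y₁) := by
  rw [ShortComplex.quasiIso_iff_isIso_leftHomologyMap' φ S₁.moduleCatLeftHomologyData
    S₂.moduleCatLeftHomologyData, ConcreteCategory.isIso_iff_bijective] at hφ
  have hK : ∀ z : LinearMap.ker S₁.g.hom,
      (S₂.moduleCatLeftHomologyData.i ((ShortComplex.cyclesMap' φ S₁.moduleCatLeftHomologyData
        S₂.moduleCatLeftHomologyData) z) : S₂.X₂) = φ.τ₂ z.1 := by
    intro z
    have := ShortComplex.cyclesMap'_i φ S₁.moduleCatLeftHomologyData S₂.moduleCatLeftHomologyData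
    exact congr($this z)
  have hH : ∀ z : LinearMap.ker S₁.g.hom,
      (ShortComplex.leftHomologyMap' φ S₁.moduleCatLeftHomologyData S₂.moduleCatLeftHomologyData)
        (S₁.moduleCatLeftHomologyData.π z) =
      S₂.moduleCatLeftHomologyData.π ((ShortComplex.cyclesMap' φ S₁.moduleCatLeftHomologyData
        S₂.moduleCatLeftHomologyData) z) := by
    intro z
    have := ShortComplex.leftHomologyπ_naturality' φ S₁.moduleCatLeftHomologyData
      S₂.moduleCatLeftHomologyData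
    exact congr($this z)
  have hπ₁ : Function.Surjective S₁.moduleCatLeftHomologyData.π := Submodule.mkQ_surjective _
  constructor
  · intro x₂ hx₂ ⟨y₁, hy₁⟩
    let z : LinearMap.ker S₁.g.hom := ⟨x₂, LinearMap.mem_ker.mpr hx₂⟩
    have h0 : (ShortComplex.leftHomologyMap' φ S₁.moduleCatLeftHomologyData
        S₂.moduleCatLeftHomologyData) (S₁.moduleCatLeftHomologyData.π z) = 0 := by
      rw [hH]
      refine (Submodule.Quotient.mk_eq_zero _).mpr ⟨y₁, Subtype.ext ?_⟩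
      change S₂.f y₁ = (S₂.moduleCatLeftHomologyData.i ((ShortComplex.cyclesMap' φ
        S₁.moduleCatLeftHomologyData S₂.moduleCatLeftHomologyData) z) : S₂.X₂)
      rw [hK z]
      exact hy₁
    have h1 : S₁.moduleCatLeftHomologyData.π z = 0 := hφ.1 (by rw [h0, map_zero])
    obtain ⟨x₁, hx₁⟩ := (Submodule.Quotient.mk_eq_zero _).mp h1
    exact ⟨x₁, congrArg Subtype.val hx₁⟩
  · intro y₂ hy₂
    let z' : LinearMap.ker S₂.g.hom := ⟨y₂, LinearMap.mem_ker.mpr hy₂⟩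
    obtain ⟨hh, hhh⟩ := hφ.2 (S₂.moduleCatLeftHomologyData.π z')
    obtain ⟨z, rfl⟩ := hπ₁ hh
    rw [hH] at hhh
    obtain ⟨y₁, hy₁⟩ := (Submodule.Quotient.eq _).mp hhh
    refine ⟨z.1, y₁, LinearMap.mem_ker.mp z.2, ?_⟩
    have h2 := congrArg Subtype.val hy₁
    have h3 : S₂.f y₁ = (S₂.moduleCatLeftHomologyData.i ((ShortComplex.cyclesMap' φ
        S₁.moduleCatLeftHomologyData S₂.moduleCatLeftHomologyData) z) : S₂.X₂) - y₂ := h2
    rw [hK z] at h3
    rw [h3]; abel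

end Groth.Agent.Lib.Helper18.DR
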