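import Mathlib
import Groth.Agent.Lib.Helper18.DRRes
import Groth.Agent.Lib.Helper18.DRPerf

/-!
# Pseudo-coherent complexes: `m`-pseudo-coherent for all `m` iff pseudo-coherent (helper18)
-/

set_option autoImplicit false
universe u
open CategoryTheory CategoryTheory.Limits CategoryTheory.Pretriangulated DerivedCategory
open ZeroObject

attribute [local instance] HasDerivedCategory.standard

namespace Groth.Agent.Lib.Helper18.DR

variable {R : Type u} [CommRing R]

/-- the split short exact sequence `Q → P × Q → P` -/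
noncomputable def prodSC (P Q : Type u) [AddCommGroup P] [Module R P] [AddCommGroup Q] [Module R Q] :
    ShortComplex (ModuleCat.{u} R) :=
  ShortComplex.mk (ModuleCat.ofHom (LinearMap.inr R P Q)) (ModuleCat.ofHom (LinearMap.fst R P Q))
    (by ext x; simp)

lemma prodSC_shortExact (P Q : Type u) [AddCommGroup P] [Module R P] [AddCommGroup Q] [Module R Q] :
    (prodSC (R := R) P Q).ShortExact := by
  apply ModuleCat.shortComplex_shortExact
  · intro (y : P × Q)
    constructor
    · intro (hy : y.1 = 0)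
      exact ⟨y.2, Prod.ext hy.symm rfl⟩
    · rintro ⟨x, rfl⟩
      rfl
  · intro x y h
    exact congrArg Prod.snd h
  · intro y
    exact ⟨(y, 0), rfl⟩

/-- the other split short exact sequence `P → P × Q → Q` -/
noncomputable def prodSC' (P Q : Type u) [AddCommGroup P] [Module R P] [AddCommGroup Q] [Module R Q] :
    ShortComplex (ModuleCat.{u} R) :=
  ShortComplex.mk (ModuleCat.ofHom (LinearMap.inl R P Q)) (ModuleCat.ofHom (LinearMap.snd R P Q))
    (by ext x; simp)

lemma prodSC'_shortExact (P Q : Type u) [AddCommGroup P] [Module R P] [AddCommGroup Q]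
    [Module R Q] : (prodSC' (R := R) P Q).ShortExact := by
  apply ModuleCat.shortComplex_shortExact
  · intro (y : P × Q)
    constructor
    · intro (hy : y.2 = 0)
      exact ⟨y.1, Prod.ext rfl hy.symm⟩
    · rintro ⟨x, rfl⟩
      rfl
  · intro x y h
    exact congrArg Prod.fst h
  · intro y
    exact ⟨(0, y), rfl⟩

lemma isPseudoCoherent_Sg_of_lt (n m : ℤ) (h : n < m) (M : ModuleCat.{u} R) :
    DRing.IsPseudoCoherent R m (Sg n M) := by
  haveI : (Sg n M).IsLE m := TStructure.t.isLE_of_le _ n m (by omega)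
  apply isPseudoCoherent_of_isLE_of_finite
  haveI : Subsingleton ((H R m).obj (Sg n M)) :=
    ModuleCat.subsingleton_of_isZero (isZero_of_isLE (Sg n M) n m h)
  infer_instance

/-- direct summands of finite free modules are `m`-pseudo-coherent for all `m` -/
lemma isPseudoCoherent_Sg0_of_prod_free (P Q : Type u) [AddCommGroup P] [Module R P]
    [AddCommGroup Q] [Module R Q] [Module.Finite R (P × Q)] [Module.Free R (P × Q)] (k : ℕ) :
    DRing.IsPseudoCoherent R (1 - k) (Sg 0 (ModuleCat.of R P)) ∧
      DRing.IsPseudoCoherent R (1 - k) (Sg 0 (ModuleCat.of R Q)) := by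
  induction k with
  | zero =>
    exact ⟨isPseudoCoherent_Sg_of_lt 0 _ (by simp) _, isPseudoCoherent_Sg_of_lt 0 _ (by simp) _⟩
  | succ k ih =>
    have hF : DRing.IsPseudoCoherent R (1 - (k + 1 : ℕ)) (Sg 0 (ModuleCat.of R (P × Q))) :=
      isPseudoCoherent_Sg 0 (ModuleCat.of R (P × Q)) _
    have e : (1 : ℤ) - (k + 1 : ℕ) + 1 = 1 - k := by push_cast; omega
    constructor
    · have := isPseudoCoherent_obj₃ _ (prodSC_shortExact (R := R) P Q).singleTriangle_distinguished
        (1 - (k + 1 : ℕ)) (by rw [e]; exact ih.2) hF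
      exact this
    · have := isPseudoCoherent_obj₃ _ (prodSC'_shortExact (R := R) P Q).singleTriangle_distinguished
        (1 - (k + 1 : ℕ)) (by rw [e]; exact ih.1) hF
      exact this

/-- `P[-n]` is `m`-pseudo-coherent for all `m` when `P` is finite projective -/
lemma isPseudoCoherent_Sg_of_finite_projective (n : ℤ) (P : ModuleCat.{u} R) [Module.Finite R P]
    [Module.Projective R P] (m : ℤ) : DRing.IsPseudoCoherent R m (Sg n P) := by
  obtain ⟨k, f, g, hf, -, hfg⟩ := Module.Finite.exists_comp_eq_id_of_projective R P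
  have hfg' : ∀ x, f (g x) = x := fun x => by simpa using LinearMap.congr_fun hfg x
  have e := retractEquiv f g hfg'
  haveI : Module.Finite R (P × LinearMap.ker f) := Module.Finite.equiv e
  haveI : Module.Free R (P × LinearMap.ker f) := Module.Free.of_equiv e
  have h0 : ∀ m₀ : ℤ, DRing.IsPseudoCoherent R m₀ (Sg 0 P) := fun m₀ =>
    isPseudoCoherent_mono (show (1 : ℤ) - ((1 - m₀).toNat : ℕ) ≤ m₀ by omega)
      (isPseudoCoherent_Sg0_of_prod_free P (LinearMap.ker f) (1 - m₀).toNat).1
  have h1 := isPseudoCoherent_shift (h0 (m - n)) (-n)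
  have e2 : m - n - -n = m := by omega
  rw [e2] at h1
  exact isPseudoCoherent_of_iso (SgShiftIso (-n) n 0 (by omega) P) h1

lemma isPseudoCoherent_of_isZero (X : Dual.D R) (hX : IsZero X) (m : ℤ) :
    DRing.IsPseudoCoherent R m X := by
  have h0 : ∀ i, IsZero ((0 : DRing.Cx R).X i) := fun i =>
    Functor.map_isZero (HomologicalComplex.eval _ _ i) (isZero_zero _)
  refine isPseudoCoherent_of_iso ((Functor.map_isZero DerivedCategory.Q (isZero_zero _)).iso hX)
    (isPseudoCoherent_toD_of_bdd (0 : DRing.Cx R) 0 0 (fun i _ => h0 i) (fun i => ?_) m)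
  haveI : Subsingleton ((0 : DRing.Cx R).X i) := ModuleCat.subsingleton_of_isZero (h0 i)
  exact ⟨inferInstance, inferInstance⟩

/-- a bounded complex of finite projective modules is `m`-pseudo-coherent for all `m` -/
lemma isPseudoCoherent_toD_of_bdd_proj (E : DRing.Cx R) (a b : ℤ) (hab : DRing.VanishesOutside E a b)
    (hE : DRing.TermwiseFiniteProjective E) : ∀ m : ℤ, DRing.IsPseudoCoherent R m (DRing.toD E) :=
  bounded_induction (fun K => ∀ m : ℤ, DRing.IsPseudoCoherent R m K)
    (fun e h m => isPseudoCoherent_of_iso e (h m))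
    (fun X hX m => isPseudoCoherent_of_isZero X hX m)
    (fun T hT h1 h3 m => (isPseudoCoherent_triangle T hT m).2.1 (h1 m) (h3 m)) E a b hab
    (fun i _ _ m => by
      haveI := (hE i).1
      haveI := (hE i).2
      exact isPseudoCoherent_Sg_of_finite_projective i (E.X i) m)

/-- a perfect object is `m`-pseudo-coherent for all `m` -/
lemma isPseudoCoherent_of_isPerfect {K : Dual.D R} (hK : DRing.IsPerfect R K) (m : ℤ) :
    DRing.IsPseudoCoherent R m K := by
  obtain ⟨E, a, b, hab, hE, ⟨e⟩⟩ := hK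
  exact isPseudoCoherent_of_iso e (isPseudoCoherent_toD_of_bdd_proj E a b hab hE m)

/-- a bounded above complex of finite projective modules is `m`-pseudo-coherent for all `m` -/
lemma isPseudoCoherent_toD_of_bddAbove_proj (E : DRing.Cx R) (b : ℤ) (hb : DRing.VanishesAbove E b)
    (hE : DRing.TermwiseFiniteProjective E) (m : ℤ) : DRing.IsPseudoCoherent R m (DRing.toD E) := by
  have h1 := isPseudoCoherent_toD_of_bdd_proj (sigmaGE E m) m b (vanishesOutside_sigmaGE E m hb)
    (termwiseFiniteProjective_sigmaGE E m hE) m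
  rw [isPseudoCoherent_iff] at h1 ⊢
  obtain ⟨E', a', b', α, h1', h2', h3'⟩ := h1
  exact ⟨E', a', b', α ≫ DerivedCategory.Q.map (sigmaGEι E m), h1', h2',
    h3'.comp (isConn_sigmaGEι E m)⟩

/-- pseudo-coherent objects are `m`-pseudo-coherent for all `m` -/
lemma isPseudoCoherent_of_isPseudoCoherent' {K : Dual.D R} (hK : DRing.IsPseudoCoherent' R K)
    (m : ℤ) : DRing.IsPseudoCoherent R m K := by
  obtain ⟨E, b, hb, hE, ⟨e⟩⟩ := hK
  exact isPseudoCoherent_of_iso e (isPseudoCoherent_toD_of_bddAbove_proj E b hb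
    (termwiseFiniteProjective_of_finiteFree hE) m)

/-- Stacks 064T -/
theorem isPseudoCoherent'_iff_forall (K : Dual.D R) :
    (∀ m : ℤ, DRing.IsPseudoCoherent R m K) ↔ DRing.IsPseudoCoherent' R K :=
  ⟨isPseudoCoherent'_of_forall K, fun h m => isPseudoCoherent_of_isPseudoCoherent' h m⟩

theorem forall_isPseudoCoherent_iff_exists_proj (K : Dual.D R) :
    (∀ m : ℤ, DRing.IsPseudoCoherent R m K) ↔ ∃ (E : DRing.Cx R) (b : ℤ), DRing.VanishesAbove E b ∧
        DRing.TermwiseFiniteProjective E ∧ Nonempty (DRing.toD E ≅ K) := by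
  constructor
  · intro h
    obtain ⟨E, b, hb, hE, ⟨e⟩⟩ := isPseudoCoherent'_of_forall K h
    exact ⟨E, b, hb, termwiseFiniteProjective_of_finiteFree hE, ⟨e⟩⟩
  · rintro ⟨E, b, hb, hE, ⟨e⟩⟩ m
    exact isPseudoCoherent_of_iso e (isPseudoCoherent_toD_of_bddAbove_proj E b hb hE m)

end Groth.Agent.Lib.Helper18.DR
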