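import Mathlib
import Groth.Agent.Lib.Helper18.DRPC3

/-!
# Direct summands of pseudo-coherent complexes (helper18)
-/

set_option autoImplicit false
universe u
open CategoryTheory CategoryTheory.Limits CategoryTheory.Pretriangulated DerivedCategory

attribute [local instance] HasDerivedCategory.standard

namespace Groth.Agent.Lib.Helper18.DR

variable {R : Type u} [CommRing R]

/-- an `m`-pseudo-coherent object is bounded above -/
lemma exists_isLE_of_isPseudoCoherent {m : ℤ} {K : Dual.D R} (hK : DRing.IsPseudoCoherent R m K) :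
    ∃ b : ℤ, K.IsLE b := by
  obtain ⟨E₀, a₀, b₀, α₀, hv₀, -, hiso₀, -⟩ := hK
  refine ⟨max b₀ m, ?_⟩
  rw [DerivedCategory.isLE_iff]
  intro i hi
  haveI := hiso₀ i (lt_of_le_of_lt (le_max_right _ _) hi)
  refine IsZero.of_iso ?_ (asIso ((DerivedCategory.homologyFunctor (ModuleCat.{u} R) i).map α₀)).symm
  change IsZero ((H R i).obj (DRing.toD E₀))
  rw [isZero_H_toD_iff_exactAt]
  exact HomologicalComplex.ExactAt.of_isZero
    (hv₀ i (Or.inr (lt_of_le_of_lt (le_max_left _ _) hi)))

lemma isLE_of_isSplitMono {K L : Dual.D R} (f : K ⟶ L) [IsSplitMono f] (b : ℤ) [L.IsLE b] :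
    K.IsLE b := by
  rw [DerivedCategory.isLE_iff]
  intro i hi
  exact IsZero.of_mono ((DerivedCategory.homologyFunctor (ModuleCat.{u} R) i).map f)
    (isZero_of_isLE L b i hi)

lemma isPseudoCoherent_of_isLE (K : Dual.D R) (b m : ℤ) [K.IsLE b] (h : b < m) :
    DRing.IsPseudoCoherent R m K := by
  haveI : K.IsLE m := TStructure.t.isLE_of_le _ b m (by omega)
  apply isPseudoCoherent_of_isLE_of_finite
  haveI : Subsingleton ((H R m).obj K) :=
    ModuleCat.subsingleton_of_isZero (isZero_of_isLE K b m h)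
  infer_instance

/-- Stacks 064X for the chosen biproduct -/
lemma isPseudoCoherent_of_biprod_aux (K L : Dual.D R) (m : ℤ)
    (h : DRing.IsPseudoCoherent R m (K ⊞ L)) :
    DRing.IsPseudoCoherent R m K ∧ DRing.IsPseudoCoherent R m L := by
  obtain ⟨b, hb⟩ := exists_isLE_of_isPseudoCoherent h
  haveI : K.IsLE b := isLE_of_isSplitMono (biprod.inl : K ⟶ K ⊞ L) b
  haveI : L.IsLE b := isLE_of_isSplitMono (biprod.inr : L ⟶ K ⊞ L) b
  have key : ∀ k : ℕ, m ≤ b + 1 - k →
      DRing.IsPseudoCoherent R (b + 1 - k) K ∧ DRing.IsPseudoCoherent R (b + 1 - k) L := by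
    intro k
    induction k with
    | zero =>
      intro _
      exact ⟨isPseudoCoherent_of_isLE K b _ (by simp), isPseudoCoherent_of_isLE L b _ (by simp)⟩
    | succ k ih =>
      intro hk
      obtain ⟨h1, h2⟩ := ih (by push_cast at hk ⊢; omega)
      have e : b + 1 - ((k + 1 : ℕ) : ℤ) + 1 = b + 1 - k := by push_cast; omega
      have hKL : DRing.IsPseudoCoherent R (b + 1 - ((k + 1 : ℕ) : ℤ)) (K ⊞ L) :=
        isPseudoCoherent_mono hk h
      constructor
      · have := isPseudoCoherent_obj₃ _ (binaryBiproductTriangle_distinguished L K)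
          (b + 1 - ((k + 1 : ℕ) : ℤ)) (by rw [e]; exact h2)
          (isPseudoCoherent_of_iso (biprod.braiding K L) hKL)
        exact this
      · have := isPseudoCoherent_obj₃ _ (binaryBiproductTriangle_distinguished K L)
          (b + 1 - ((k + 1 : ℕ) : ℤ)) (by rw [e]; exact h1) hKL
        exact this
  by_cases hm : m ≤ b + 1
  · have := key (b + 1 - m).toNat (by omega)
    have e : b + 1 - ((b + 1 - m).toNat : ℤ) = m := by omega
    rw [e] at this
    exact this
  · exact ⟨isPseudoCoherent_of_isLE K b m (by omega), isPseudoCoherent_of_isLE L b m (by omega)⟩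

/-- Stacks 064X -/
theorem isPseudoCoherent_of_biprod (K L : Dual.D R) [inst : HasBinaryBiproduct K L] (m : ℤ)
    (h : DRing.IsPseudoCoherent R m (@biprod _ _ _ K L inst)) :
    DRing.IsPseudoCoherent R m K ∧ DRing.IsPseudoCoherent R m L := by
  apply isPseudoCoherent_of_biprod_aux
  exact isPseudoCoherent_of_iso
    (biprod.uniqueUpToIso K L (@BinaryBiproduct.isBilimit _ _ _ K L inst)) h

theorem isPseudoCoherent'_of_biprod (K L : Dual.D R) [inst : HasBinaryBiproduct K L]
    (h : DRing.IsPseudoCoherent' R (@biprod _ _ _ K L inst)) :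
    DRing.IsPseudoCoherent' R K ∧ DRing.IsPseudoCoherent' R L := by
  rw [← isPseudoCoherent'_iff_forall] at h
  constructor
  · rw [← isPseudoCoherent'_iff_forall]
    exact fun m => (isPseudoCoherent_of_biprod K L m (h m)).1
  · rw [← isPseudoCoherent'_iff_forall]
    exact fun m => (isPseudoCoherent_of_biprod K L m (h m)).2

end Groth.Agent.Lib.Helper18.DR
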