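import Mathlib
import Groth.Agent.Lib.Helper18.DRSum

/-!
# Pseudo-coherence from terms / cohomology (Stacks 064Y, 064Z) (helper18)
-/

set_option autoImplicit false
universe u
open CategoryTheory CategoryTheory.Limits CategoryTheory.Pretriangulated DerivedCategory

attribute [local instance] HasDerivedCategory.standard

namespace Groth.Agent.Lib.Helper18.DR

variable {R : Type u} [CommRing R]

/-- `M[0]` is `(m - i)`-pseudo-coherent iff `M[-i]` is `m`-pseudo-coherent (one direction) -/
lemma isPseudoCoherent_Sg_of_module (M : ModuleCat.{u} R) (m i : ℤ)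
    (h : DRing.IsPseudoCoherentModule R (m - i) M) : DRing.IsPseudoCoherent R m (Sg i M) := by
  have h1 := isPseudoCoherent_shift h (-i)
  have e2 : m - i - -i = m := by omega
  rw [e2] at h1
  exact isPseudoCoherent_of_iso (SgShiftIso (-i) i 0 (by omega) M) h1

/-- Stacks 064Y (1) -/
theorem isPseudoCoherent_of_terms (m : ℤ) (K : DRing.Cx R) (b : ℤ) (hb : DRing.VanishesAbove K b)
    (h : ∀ i : ℤ, DRing.IsPseudoCoherentModule R (m - i) (K.X i)) :
    DRing.IsPseudoCoherent R m (DRing.toD K) := by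
  have h1 : DRing.IsPseudoCoherent R m (DRing.toD (sigmaGE K m)) :=
    bounded_induction (DRing.IsPseudoCoherent R m)
      (fun e h => isPseudoCoherent_of_iso e h)
      (fun X hX => isPseudoCoherent_of_isZero X hX m)
      (fun T hT h1 h3 => (isPseudoCoherent_triangle T hT m).2.1 h1 h3) (sigmaGE K m) m b
      (vanishesOutside_sigmaGE K m hb)
      (fun i hi _ => isPseudoCoherent_of_iso
        ((singleFunctor (ModuleCat.{u} R) i).mapIso (sigmaGEXIso K m hi).symm)
        (isPseudoCoherent_Sg_of_module (K.X i) m i (h i)))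
  rw [isPseudoCoherent_iff] at h1 ⊢
  obtain ⟨E', a', b', α, h1', h2', h3'⟩ := h1
  exact ⟨E', a', b', α ≫ DerivedCategory.Q.map (sigmaGEι K m), h1', h2',
    h3'.comp (isConn_sigmaGEι K m)⟩

/-- Stacks 064Y (2) -/
theorem isPseudoCoherent'_of_terms (K : DRing.Cx R) (b : ℤ) (hb : DRing.VanishesAbove K b)
    (h : ∀ i : ℤ, DRing.IsPseudoCoherentModule' R (K.X i)) :
    DRing.IsPseudoCoherent' R (DRing.toD K) := by
  rw [← isPseudoCoherent'_iff_forall]
  intro m
  exact isPseudoCoherent_of_terms m K b hb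
    (fun i => isPseudoCoherent_of_isPseudoCoherent' (h i) (m - i))

/-- Stacks 064Z (1) -/
theorem isPseudoCoherent_of_cohomology (m : ℤ) (K : Dual.D R)
    (hb : ∃ b : ℤ, ∀ i : ℤ, b < i → Subsingleton (Dual.HD R K i))
    (h : ∀ i : ℤ, DRing.IsPseudoCoherentModule R (m - i) (Dual.HD R K i)) :
    DRing.IsPseudoCoherent R m K := by
  obtain ⟨b, hb⟩ := hb
  obtain ⟨A, B, hA, hB, f, p, δ, hT⟩ := TStructure.t.exists_triangle K (m - 1) m (by omega)
  haveI : A.IsLE (m - 1) := ⟨hA⟩
  haveI : B.IsGE m := ⟨hB⟩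
  have hp : ∀ i : ℤ, m ≤ i → IsIso ((H R i).map p) := fun i hi =>
    isIso_H_mor₂_of_isZero hT i (isZero_of_isLE A (m - 1) _ (by omega))
      (isZero_of_isLE A (m - 1) _ (by omega))
  refine (isPseudoCoherent_triangle _ hT m).2.1 (isPseudoCoherent_of_isLE A (m - 1) m (by omega)) ?_
  change DRing.IsPseudoCoherent R m B
  refine cohomological_induction (DRing.IsPseudoCoherent R m)
      (fun e h => isPseudoCoherent_of_iso e h)
      (fun X hX => isPseudoCoherent_of_isZero X hX m)
      (fun T hT h1 h3 => (isPseudoCoherent_triangle T hT m).2.1 h1 h3) B m b ?_ ?_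
  · rintro i (hi | hi)
    · exact isZero_of_isGE B m _ hi
    · by_cases hia : m ≤ i
      · haveI := hp i hia
        exact (isZero_H_of_subsingleton K i (hb i hi)).of_iso (asIso ((H R i).map p)).symm
      · exact isZero_of_isGE B m _ (by omega)
  · intro i hi _
    haveI := hp i hi
    exact isPseudoCoherent_of_iso
      ((singleFunctor (ModuleCat.{u} R) i).mapIso (asIso ((H R i).map p)))
      (isPseudoCoherent_Sg_of_module ((H R i).obj K) m i (h i))

/-- Stacks 064Z (2) -/
theorem isPseudoCoherent'_of_cohomology (K : Dual.D R)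
    (hb : ∃ b : ℤ, ∀ i : ℤ, b < i → Subsingleton (Dual.HD R K i))
    (h : ∀ i : ℤ, DRing.IsPseudoCoherentModule' R (Dual.HD R K i)) :
    DRing.IsPseudoCoherent' R K := by
  rw [← isPseudoCoherent'_iff_forall]
  intro m
  exact isPseudoCoherent_of_cohomology m K hb
    (fun i => isPseudoCoherent_of_isPseudoCoherent' (h i) (m - i))

end Groth.Agent.Lib.Helper18.DR
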