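import Mathlib
import Groth.Agent.Lib.Helper18.DRPC4

/-!
# Pseudo-coherence over Noetherian rings (Stacks 066E) (helper18)
-/

set_option autoImplicit false
universe u
open CategoryTheory CategoryTheory.Limits CategoryTheory.Pretriangulated DerivedCategory

attribute [local instance] HasDerivedCategory.standard

namespace Groth.Agent.Lib.Helper18.DR

variable {R : Type u} [CommRing R]

/-- the short complex `ker f → F → M` for a surjection `f` -/
noncomputable def kerSC {F M : Type u} [AddCommGroup F] [Module R F] [AddCommGroup M] [Module R M]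
    (f : F →ₗ[R] M) : ShortComplex (ModuleCat.{u} R) :=
  ShortComplex.mk (ModuleCat.ofHom (LinearMap.ker f).subtype) (ModuleCat.ofHom f)
    (by ext x; exact x.2)

lemma kerSC_shortExact {F M : Type u} [AddCommGroup F] [Module R F] [AddCommGroup M] [Module R M]
    (f : F →ₗ[R] M) (hf : Function.Surjective f) : (kerSC f).ShortExact := by
  apply ModuleCat.shortComplex_shortExact
  · intro (y : F)
    constructor
    · intro (hy : f y = 0)
      exact ⟨⟨y, hy⟩, rfl⟩
    · rintro ⟨x, rfl⟩
      exact x.2
  · intro x y h
    exact Subtype.ext h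
  · exact hf

/-- over a Noetherian ring, finite modules are `m`-pseudo-coherent for all `m` -/
lemma isPseudoCoherent_of_finite_noetherian [IsNoetherianRing R] (k : ℕ) :
    ∀ (M : Type u) [AddCommGroup M] [Module R M] [Module.Finite R M],
      DRing.IsPseudoCoherent R (1 - k) (Sg 0 (ModuleCat.of R M)) := by
  induction k with
  | zero =>
    intro M _ _ _
    exact isPseudoCoherent_Sg_of_lt 0 _ (by simp) _
  | succ k ih =>
    intro M _ _ _
    obtain ⟨n, f, hf⟩ := Module.Finite.exists_fin' R M
    haveI : IsNoetherian R (Fin n → R) := inferInstance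
    haveI : Module.Finite R (LinearMap.ker f) := Module.IsNoetherian.finite R _
    have e : (1 : ℤ) - (k + 1 : ℕ) + 1 = 1 - k := by push_cast; omega
    have := isPseudoCoherent_obj₃ _ (kerSC_shortExact f hf).singleTriangle_distinguished
      (1 - (k + 1 : ℕ)) (by rw [e]; exact ih (LinearMap.ker f))
      (isPseudoCoherent_Sg 0 (ModuleCat.of R (Fin n → R)) _)
    exact this

lemma isPseudoCoherentModule_of_finite_noetherian [IsNoetherianRing R] (M : Type u) [AddCommGroup M]
    [Module R M] [Module.Finite R M] (m : ℤ) : DRing.IsPseudoCoherentModule R m M :=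
  isPseudoCoherent_mono (show (1 : ℤ) - ((1 - m).toNat : ℕ) ≤ m by omega)
    (isPseudoCoherent_of_finite_noetherian (1 - m).toNat M)

lemma isPseudoCoherentModule'_of_finite_noetherian [IsNoetherianRing R] (M : Type u)
    [AddCommGroup M] [Module R M] [Module.Finite R M] : DRing.IsPseudoCoherentModule' R M := by
  change DRing.IsPseudoCoherent' R _
  rw [← isPseudoCoherent'_iff_forall]
  exact fun m => isPseudoCoherentModule_of_finite_noetherian M m

/-- a `0`-pseudo-coherent module is finite -/
lemma finite_of_isPseudoCoherentModule (M : Type u) [AddCommGroup M] [Module R M]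
    (h : DRing.IsPseudoCoherentModule R 0 M) : Module.Finite R M := by
  have h1 := finite_H_of_isPseudoCoherent _ 0 h
    (fun i hi => isZero_of_isLE (Sg 0 (ModuleCat.of R M)) 0 i hi)
  exact Module.Finite.equiv (HSg 0 (ModuleCat.of R M)).toLinearEquiv

/-- cohomology of a bounded finite free complex over a Noetherian ring is finite -/
lemma finite_H_toD_of_noetherian [IsNoetherianRing R] (E : DRing.Cx R)
    (hE : DRing.TermwiseFiniteFree E) (i : ℤ) : Module.Finite R ((H R i).obj (DRing.toD E)) := by
  have e := HtoDLinearEquiv' E (i - 1) i (i + 1) (by omega) rfl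
  haveI := (hE i).1
  haveI : IsNoetherian R (E.X i) := inferInstance
  haveI : Module.Finite R (LinearMap.ker (E.d i (i + 1)).hom) := Module.IsNoetherian.finite R _
  exact Module.Finite.equiv e.symm

/-- Stacks 066E (1) -/
theorem isPseudoCoherent_iff_of_noetherian [IsNoetherianRing R] (m : ℤ) (K : Dual.D R) :
    DRing.IsPseudoCoherent R m K ↔
      (∃ b : ℤ, ∀ i : ℤ, b < i → Subsingleton (Dual.HD R K i)) ∧
        ∀ i : ℤ, m ≤ i → Module.Finite R (Dual.HD R K i) := by
  constructor
  · intro h
    refine ⟨?_, ?_⟩
    · obtain ⟨b, hb⟩ := exists_isLE_of_isPseudoCoherent h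
      exact ⟨b, fun i hi => ModuleCat.subsingleton_of_isZero (isZero_of_isLE K b i hi)⟩
    · obtain ⟨E, a, b, α, -, hE, hiso, hepi⟩ := h
      intro i hi
      haveI := finite_H_toD_of_noetherian E hE i
      have : Epi ((H R i).map α) := by
        rcases hi.eq_or_lt with rfl | hi'
        · exact hepi
        · haveI := hiso i hi'
          infer_instance
      exact Module.Finite.of_surjective ((H R i).map α).hom
        ((ModuleCat.epi_iff_surjective _).mp this)
  · rintro ⟨hb, hfin⟩
    refine isPseudoCoherent_of_cohomology m K hb (fun i => ?_)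
    by_cases hi : m ≤ i
    · haveI := hfin i hi
      exact isPseudoCoherentModule_of_finite_noetherian _ _
    · exact isPseudoCoherent_Sg_of_lt 0 _ (by omega) _

/-- Stacks 066E (2) -/
theorem isPseudoCoherentModule'_iff_of_noetherian [IsNoetherianRing R] (M : Type u)
    [AddCommGroup M] [Module R M] : DRing.IsPseudoCoherentModule' R M ↔ Module.Finite R M :=
  ⟨fun h => finite_of_isPseudoCoherentModule M (isPseudoCoherent_of_isPseudoCoherent' h 0),
    fun _ => isPseudoCoherentModule'_of_finite_noetherian M⟩

end Groth.Agent.Lib.Helper18.DR
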