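import Mathlib
import Groth.Agent.Lib.Helper18.DRNoeth

/-!
# Top cohomology maps and Stacks 0A6B-type lemma (helper18)
-/

set_option autoImplicit false
universe u
open CategoryTheory CategoryTheory.Limits CategoryTheory.Pretriangulated DerivedCategory

attribute [local instance] HasDerivedCategory.standard

namespace Groth.Agent.Lib.Helper18.DR

variable {R : Type u} [CommRing R]

/-- for `X` cohomologically `≤ i`, the canonical map `X → H^i(X)[-i]` -/
lemma exists_hom_Sg_top (X : Dual.D R) (i : ℤ) [X.IsLE i] :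
    ∃ (N : ModuleCat.{u} R) (p : X ⟶ Sg i N), IsIso ((H R i).map p) := by
  obtain ⟨A, B, hA, hB, f, p, δ, hT⟩ := TStructure.t.exists_triangle X (i - 1) i (by omega)
  haveI : A.IsLE (i - 1) := ⟨hA⟩
  haveI : B.IsGE i := ⟨hB⟩
  haveI : B.IsLE i := isLE_obj₃ hT i (by change A.IsLE (i - 1); infer_instance)
    (by change X.IsLE i; infer_instance)
  obtain ⟨N, ⟨e⟩⟩ := exists_iso_singleFunctor_obj_of_isGE_of_isLE B i
  refine ⟨N, p ≫ e.hom, ?_⟩
  haveI : IsIso ((H R i).map p) :=
    isIso_H_mor₂_of_isZero hT i (isZero_of_isLE A (i - 1) _ (by omega))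
      (isZero_of_isLE A (i - 1) _ (by omega))
  rw [Functor.map_comp]
  infer_instance

lemma mono_H_mor₂_of_isZero {T : Triangle (Dual.D R)} (hT : T ∈ distTriang (Dual.D R)) (n : ℤ)
    (h : IsZero ((H R n).obj T.obj₁)) : Mono ((H R n).map T.mor₂) := by
  rw [HomologySequence.mono_homologyMap_mor₂_iff T hT n]
  exact h.eq_of_src _ _

/-- Stacks 0A6B-type: a pseudo-coherent `K` maps to `M[-i]` with `M` finitely presented,
injectively on `H^i` -/
theorem exists_hom_to_fp (K : Dual.D R) (hK : DRing.IsPseudoCoherent' R K) (i : ℤ) :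
    ∃ (N : ModuleCat.{u} R) (_ : Module.FinitePresentation R N) (f : K ⟶ Sg i N),
      Mono ((H R i).map f) := by
  obtain ⟨E, b, hb, hE, ⟨e⟩⟩ := hK
  have hT := sigmaTriangle_distinguished E (i + 1)
  -- `F = σ_{< i+1} E` is `m`-pseudo-coherent for all `m`
  have hF : ∀ m, DRing.IsPseudoCoherent R m (DRing.toD (sigmaLT E (i + 1))) := fun m =>
    isPseudoCoherent_obj₃ _ hT m
      (isPseudoCoherent_toD_of_bdd (sigmaGE E (i + 1)) (i + 1) b
        (vanishesOutside_sigmaGE E (i + 1) hb) (termwiseFiniteFree_sigmaGE E (i + 1) hE) _)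
      (isPseudoCoherent_toD_of_bddAbove_proj E b hb (termwiseFiniteProjective_of_finiteFree hE) m)
  haveI : (DRing.toD (sigmaLT E (i + 1))).IsLE i := by
    have : (DerivedCategory.Q.obj (sigmaLT E (i + 1))).IsLE (i + 1 - 1) := inferInstance
    simpa using this
  obtain ⟨N, p, hp⟩ := exists_hom_Sg_top (DRing.toD (sigmaLT E (i + 1))) i
  have hfp : Module.FinitePresentation R ((H R i).obj (DRing.toD (sigmaLT E (i + 1)))) := by
    have := finitePresentation_H_of_isPseudoCoherent (DRing.toD (sigmaLT E (i + 1))) (i - 1)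
      (hF _) (fun j hj => isZero_of_isLE _ i j (by omega))
    have e' : i - 1 + 1 = i := by omega
    rw [e'] at this
    exact this
  have hN : Module.FinitePresentation R N :=
    Module.FinitePresentation.of_equiv ((asIso ((H R i).map p)) ≪≫ HSg i N).toLinearEquiv
  refine ⟨N, hN, e.inv ≫ DerivedCategory.Q.map (sigmaLTπ E (i + 1)) ≫ p, ?_⟩
  haveI : Mono ((H R i).map (DerivedCategory.Q.map (sigmaLTπ E (i + 1)))) := by
    refine mono_H_mor₂_of_isZero hT i ?_
    change IsZero ((H R i).obj (DRing.toD (sigmaGE E (i + 1))))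
    rw [isZero_H_toD_iff_exactAt]
    exact HomologicalComplex.ExactAt.of_isZero (isZero_sigmaGE_X E (i + 1) (by omega))
  rw [Functor.map_comp, Functor.map_comp]
  infer_instance

end Groth.Agent.Lib.Helper18.DR
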