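import Mathlib
import Groth.Agent.Lib.Helper18.DRTop

/-!
# Objects of `D(R)` with cohomology in degrees `-1, 0` (helper18)
-/

set_option autoImplicit false
universe u
open CategoryTheory CategoryTheory.Limits CategoryTheory.Pretriangulated DerivedCategory

attribute [local instance] HasDerivedCategory.standard

namespace Groth.Agent.Lib.Helper18.DR

variable {R : Type u} [CommRing R]

/-- cohomology in `[-1, 0]` -/
def IsTwoTerm (K : Dual.D R) : Prop := ∀ i : ℤ, i ≠ -1 → i ≠ 0 → Subsingleton (Dual.HD R K i)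

lemma IsTwoTerm.isLE {K : Dual.D R} (hK : IsTwoTerm K) : K.IsLE 0 := by
  rw [DerivedCategory.isLE_iff]
  intro i hi
  exact isZero_H_of_subsingleton K i (hK i (by omega) (by omega))

lemma IsTwoTerm.isGE {K : Dual.D R} (hK : IsTwoTerm K) : K.IsGE (-1) := by
  rw [DerivedCategory.isGE_iff]
  intro i hi
  exact isZero_H_of_subsingleton K i (hK i (by omega) (by omega))

/-- Stacks 0ECA-type: representation by a two-term complex with free degree-0 term -/
theorem exists_two_term_rep (K : Dual.D R) (hK : IsTwoTerm K) :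
    ∃ E : DRing.Cx R, DRing.VanishesOutside E (-1) 0 ∧ Module.Free R (E.X 0) ∧
      Nonempty (DRing.toD E ≅ K) := by
  haveI := hK.isLE
  haveI := hK.isGE
  obtain ⟨P, hP, hfree, ⟨e⟩⟩ := exists_free_resolution K 0
  haveI : P.IsStrictlyLE 0 := isStrictlyLE_of_vanishesAbove P 0 hP
  haveI : P.IsGE (-1) := by
    rw [CochainComplex.isGE_iff]
    intro i hi
    rw [← isZero_H_toD_iff_exactAt]
    exact (isZero_of_isGE K (-1) i hi).of_iso ((H R i).mapIso e)
  refine ⟨P.truncGE (-1), ?_, ?_, ⟨(asIso (DerivedCategory.Q.map (P.πTruncGE (-1)))).symm ≪≫ e⟩⟩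
  · rintro i (hi | hi)
    · exact (P.truncGE (-1)).isZero_of_isStrictlyGE (-1) i hi
    · exact (P.truncGE (-1)).isZero_of_isStrictlyLE 0 i hi
  · haveI := hfree 0
    exact Module.Free.of_equiv (P.truncGEXIso (-1) 0 (by omega)).symm.toLinearEquiv

section Cone

variable {K K' : Dual.D R} (α : K ⟶ K') (hK : IsTwoTerm K) (hK' : IsTwoTerm K')
  (h0 : IsIso ((DerivedCategory.homologyFunctor (ModuleCat.{u} R) 0).map α))
  (h1 : Epi ((DerivedCategory.homologyFunctor (ModuleCat.{u} R) (-1)).map α))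

include hK hK' h0 h1

/-- the cone of `α` is in `D^{≤ -2}` -/
lemma isLE_cone_of_twoTerm {C : Dual.D R} {β : K' ⟶ C} {γ : C ⟶ K⟦(1 : ℤ)⟧}
    (hT : Triangle.mk α β γ ∈ distTriang (Dual.D R)) : C.IsLE (-2) := by
  have := (isLE_obj₃_iff hT (-1)).mpr ⟨fun i hi => ?_, h1⟩
  · exact this
  · rcases (show i = 0 ∨ 0 < i by omega) with rfl | hi'
    · exact h0
    · haveI := hK.isLE
      haveI := hK'.isLE
      exact isIso_of_isZero_isZero _ (isZero_of_isLE K 0 i hi') (isZero_of_isLE K' 0 i hi')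

/-- precomposition with `α` is injective on `Hom(-, Y)` for `Y ∈ D^{≥ -1}` -/
lemma eq_zero_of_comp_eq_zero_of_twoTerm (Y : Dual.D R) [Y.IsGE (-1)] (ξ : K' ⟶ Y)
    (hξ : α ≫ ξ = 0) : ξ = 0 := by
  obtain ⟨C, β, γ, hT⟩ := distinguished_cocone_triangle α
  haveI := isLE_cone_of_twoTerm α hK hK' h0 h1 hT
  obtain ⟨g, hg⟩ : ∃ g : C ⟶ Y, ξ = β ≫ g := Triangle.yoneda_exact₂ _ hT ξ hξ
  have : g = 0 := TStructure.t.zero_of_isLE_of_isGE g (-2) (-1) (by omega) inferInstance inferInstance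
  rw [hg, this, comp_zero]

end Cone

section Heart

/-- for `X ∈ D^{≤ n}`: the universal map to an object of the form `N[-n]` -/
lemma exists_hom_Sg_top' (X : Dual.D R) (n : ℤ) [X.IsLE n] :
    ∃ (N : ModuleCat.{u} R) (p : X ⟶ Sg n N), IsIso ((H R n).map p) ∧
      ∀ (Y : Dual.D R) [Y.IsGE n] (g : X ⟶ Y), ∃ g' : Sg n N ⟶ Y, g = p ≫ g' := by
  obtain ⟨A, B, hA, hB, f, p, δ, hT⟩ := TStructure.t.exists_triangle X (n - 1) n (by omega)
  haveI : A.IsLE (n - 1) := ⟨hA⟩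
  haveI : B.IsGE n := ⟨hB⟩
  haveI : B.IsLE n := isLE_obj₃ hT n (by change A.IsLE (n - 1); infer_instance)
    (by change X.IsLE n; infer_instance)
  obtain ⟨N, ⟨e⟩⟩ := exists_iso_singleFunctor_obj_of_isGE_of_isLE B n
  refine ⟨N, p ≫ e.hom, ?_, ?_⟩
  · haveI : IsIso ((H R n).map p) :=
      isIso_H_mor₂_of_isZero hT n (isZero_of_isLE A (n - 1) _ (by omega))
        (isZero_of_isLE A (n - 1) _ (by omega))
    rw [Functor.map_comp]
    infer_instance
  · intro Y _ g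
    have h0 : f ≫ g = 0 :=
      TStructure.t.zero_of_isLE_of_isGE _ (n - 1) n (by omega) inferInstance inferInstance
    obtain ⟨g', hg'⟩ : ∃ g' : B ⟶ Y, g = p ≫ g' := Triangle.yoneda_exact₂ _ hT g h0
    exact ⟨e.inv ≫ g', by rw [hg']; simp⟩

/-- for `Y ∈ D^{≥ n}`: the universal map from an object of the form `N[-n]` -/
lemma exists_hom_Sg_bot (Y : Dual.D R) (n : ℤ) [Y.IsGE n] :
    ∃ (N : ModuleCat.{u} R) (j : Sg n N ⟶ Y), IsIso ((H R n).map j) ∧
      ∀ (Z : Dual.D R) [Z.IsLE n] (g : Z ⟶ Y), ∃ g' : Z ⟶ Sg n N, g = g' ≫ j := by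
  obtain ⟨A, B, hA, hB, f, p, δ, hT⟩ := TStructure.t.exists_triangle Y n (n + 1) (by omega)
  haveI : A.IsLE n := ⟨hA⟩
  haveI : B.IsGE (n + 1) := ⟨hB⟩
  haveI : B.IsGE (n - 1) := TStructure.t.isGE_of_ge B (n - 1) (n + 1) (by omega)
  haveI : A.IsGE n := isGE_obj₁ hT n (by change Y.IsGE n; infer_instance)
    (by change B.IsGE (n - 1); infer_instance)
  obtain ⟨N, ⟨e⟩⟩ := exists_iso_singleFunctor_obj_of_isGE_of_isLE A n
  refine ⟨N, e.inv ≫ f, ?_, ?_⟩
  · haveI : IsIso ((H R n).map f) :=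
      isIso_H_mor₁_of_isZero hT (n - 1) n (by omega) (isZero_of_isGE B (n + 1) _ (by omega))
        (isZero_of_isGE B (n + 1) _ (by omega))
    rw [Functor.map_comp]
    infer_instance
  · intro Z _ g
    have h0 : g ≫ p = 0 :=
      TStructure.t.zero_of_isLE_of_isGE _ n (n + 1) (by omega) inferInstance inferInstance
    obtain ⟨g', hg'⟩ : ∃ g' : Z ⟶ A, g = g' ≫ f := Triangle.coyoneda_exact₂ _ hT g h0
    exact ⟨g' ≫ e.hom, by rw [hg']; simp⟩

/-- a morphism from `D^{≤ n}` to `D^{≥ n}` is determined by its effect on `H^n` -/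
theorem hom_eq_zero_of_H_eq_zero {X Y : Dual.D R} (n : ℤ) [X.IsLE n] [Y.IsGE n] (g : X ⟶ Y)
    (hg : (H R n).map g = 0) : g = 0 := by
  obtain ⟨N, p, hp, hp'⟩ := exists_hom_Sg_top' X n
  obtain ⟨N', j, hj, hj'⟩ := exists_hom_Sg_bot Y n
  obtain ⟨g', rfl⟩ := hp' Y g
  obtain ⟨g'', rfl⟩ := hj' (Sg n N) g'
  obtain ⟨h, rfl⟩ := (singleFunctor (ModuleCat.{u} R) n).map_surjective g''
  have h1 : (H R n).map ((singleFunctor (ModuleCat.{u} R) n).map h) = 0 := by
    rw [Functor.map_comp, Functor.map_comp] at hg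
    have := congr(inv ((H R n).map p) ≫ $hg ≫ inv ((H R n).map j))
    simpa using this
  have h2 : h = 0 := by
    have := HSg_naturality n h
    rw [h1, zero_comp] at this
    rw [← cancel_epi (HSg n N).hom, ← this, comp_zero]
  rw [h2, Functor.map_zero, zero_comp, comp_zero]

end Heart

/-- Stacks 0ECD-type: composition of two morphisms of two-term objects, the first zero on `H^0`
and the second zero on `H^{-1}`, vanishes -/
theorem comp_eq_zero_of_twoTerm {K₁ K₂ K₃ : Dual.D R} (φ : K₁ ⟶ K₂) (ψ : K₂ ⟶ K₃)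
    (h₁ : IsTwoTerm K₁) (h₂ : IsTwoTerm K₂) (h₃ : IsTwoTerm K₃)
    (hφ : (H R 0).map φ = 0) (hψ : (H R (-1)).map ψ = 0) : φ ≫ ψ = 0 := by
  haveI := h₁.isLE
  haveI := h₂.isLE
  haveI := h₂.isGE
  haveI := h₃.isGE
  obtain ⟨A, B, hA, hB, f, p, δ, hT⟩ := TStructure.t.exists_triangle K₂ (-1) 0 (by omega)
  haveI : A.IsLE (-1) := ⟨hA⟩
  haveI : B.IsGE 0 := ⟨hB⟩
  -- `φ ≫ p = 0`
  have h1 : φ ≫ p = 0 := by
    apply hom_eq_zero_of_H_eq_zero 0
    rw [Functor.map_comp, hφ, zero_comp]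
  obtain ⟨a, ha⟩ : ∃ a : K₁ ⟶ A, φ = a ≫ f := Triangle.coyoneda_exact₂ _ hT φ h1
  have h2 : f ≫ ψ = 0 := by
    apply hom_eq_zero_of_H_eq_zero (-1)
    rw [Functor.map_comp, hψ, comp_zero]
  rw [ha, Category.assoc, h2, comp_zero]

end Groth.Agent.Lib.Helper18.DR
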