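import Mathlib
import Groth.Agent.Lib.Helper18.DRTwo

/-!
# Morphisms in `D(R)` from a K-projective complex to a module placed in one degree (helper18)
-/

set_option autoImplicit false
universe u
open CategoryTheory CategoryTheory.Limits CategoryTheory.Pretriangulated DerivedCategory
open CochainComplex.HomComplex

attribute [local instance] HasDerivedCategory.standard

namespace Groth.Agent.Lib.Helper18.DR

variable {R : Type u} [CommRing R]

lemma Q_map_eq_of_homotopy {K L : DRing.Cx R} {f g : K ⟶ L} (h : Homotopy f g) :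
    DerivedCategory.Q.map f = DerivedCategory.Q.map g := by
  have h1 := DerivedCategory.quotientCompQhIso_hom_naturality (C := ModuleCat.{u} R) f
  have h2 := DerivedCategory.quotientCompQhIso_hom_naturality (C := ModuleCat.{u} R) g
  dsimp at h1 h2
  rw [HomotopyCategory.eq_of_homotopy f g h] at h1
  rw [← cancel_epi ((DerivedCategory.quotientCompQhIso _).hom.app K), ← h1, ← h2]

lemma Q_map_eq_zero_iff (P L : DRing.Cx R) [P.IsKProjective] (f : P ⟶ L) :
    DerivedCategory.Q.map f = 0 ↔ Nonempty (Homotopy f 0) := by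
  constructor
  · intro h
    exact nonempty_homotopy_of_map_eq P L f 0 (by rw [h, Functor.map_zero])
  · rintro ⟨h⟩
    rw [Q_map_eq_of_homotopy h, Functor.map_zero]

lemma nonempty_homotopy_zero_iff {K L : DRing.Cx R} (f : K ⟶ L) :
    Nonempty (Homotopy f 0) ↔ Cocycle.ofHom f ∈ coboundaries K L 0 := by
  rw [mem_coboundaries_iff (Cocycle.ofHom f) (-1) (by simp)]
  constructor
  · rintro ⟨ho⟩
    refine ⟨Cochain.ofHomotopy ho, ?_⟩
    have := (Cochain.equivHomotopy f 0 ho).2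
    simp only [Cochain.ofHom_zero, add_zero] at this
    exact this.symm
  · rintro ⟨β, hβ⟩
    exact ⟨(Cochain.equivHomotopy f 0).symm ⟨β, by
      simp only [Cochain.ofHom_zero, add_zero]; exact hβ.symm⟩⟩

section

variable (P : DRing.Cx R) (n : ℤ) (M : ModuleCat.{u} R)

/-- the chain map `P ⟶ M[-n]` given by `φ : P^n ⟶ M` killing the image of `d^{n-1}` -/
noncomputable def toSgMap (φ : P.X n ⟶ M) (hφ : P.d (n - 1) n ≫ φ = 0) :
    P ⟶ (CochainComplex.singleFunctor (ModuleCat.{u} R) n).obj M :=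
  Cocycle.homOf (Cocycle.toSingleMk φ (add_zero n) (n - 1) (by omega) hφ)

lemma ofHom_toSgMap (φ : P.X n ⟶ M) (hφ : P.d (n - 1) n ≫ φ = 0) :
    Cocycle.ofHom (toSgMap P n M φ hφ) =
      Cocycle.toSingleMk φ (add_zero n) (n - 1) (by omega) hφ :=
  Cocycle.ofHom_homOf_eq_self _

lemma toSgMap_f (φ : P.X n ⟶ M) (hφ : P.d (n - 1) n ≫ φ = 0) :
    (toSgMap P n M φ hφ).f n = φ ≫ (HomologicalComplex.singleObjXSelf (.up ℤ) n M).inv := by
  simp [toSgMap, Cocycle.toSingleMk]

lemma exists_toSgMap (f : P ⟶ (CochainComplex.singleFunctor (ModuleCat.{u} R) n).obj M) :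
    ∃ (φ : P.X n ⟶ M) (hφ : P.d (n - 1) n ≫ φ = 0), f = toSgMap P n M φ hφ := by
  obtain ⟨φ, hφ, h⟩ := Cocycle.toSingleMk_surjective (Cocycle.ofHom f) n (add_zero n) (n - 1)
    (by omega)
  refine ⟨φ, hφ, ?_⟩
  rw [toSgMap, h, Cocycle.homOf_ofHom_eq_self]

/-- every morphism `P ⟶ M[-n]` in `D(R)` with `P` K-projective comes from some `φ : P^n ⟶ M` -/
theorem exists_hom_toSg [P.IsKProjective] (ξ : DRing.toD P ⟶ Sg n M) :
    ∃ (φ : P.X n ⟶ M) (hφ : P.d (n - 1) n ≫ φ = 0),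
      ξ = DerivedCategory.Q.map (toSgMap P n M φ hφ) := by
  obtain ⟨f, rfl⟩ := exists_map_eq P _ ξ
  obtain ⟨φ, hφ, rfl⟩ := exists_toSgMap P n M f
  exact ⟨φ, hφ, rfl⟩

/-- the morphism `P ⟶ M[-n]` in `D(R)` defined by `φ` vanishes iff `φ` factors through `d^n` -/
theorem Q_map_toSgMap_eq_zero_iff [P.IsKProjective] (φ : P.X n ⟶ M)
    (hφ : P.d (n - 1) n ≫ φ = 0) :
    DerivedCategory.Q.map (toSgMap P n M φ hφ) = 0 ↔
      ∃ g : P.X (n + 1) ⟶ M, P.d n (n + 1) ≫ g = φ := by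
  rw [Q_map_eq_zero_iff, nonempty_homotopy_zero_iff, ofHom_toSgMap,
    Cocycle.toSingleMk_mem_coboundaries_iff φ (add_zero n) (n - 1) (by omega) hφ (n + 1) rfl]

lemma smul_toSgMap (a : R) (φ : P.X n ⟶ M) (hφ : P.d (n - 1) n ≫ φ = 0) :
    a • toSgMap P n M φ hφ = toSgMap P n M (a • φ) (by rw [Linear.comp_smul, hφ, smul_zero]) := by
  apply HomologicalComplex.to_single_hom_ext
  rw [HomologicalComplex.smul_f_apply, toSgMap_f, toSgMap_f]
  exact (Linear.smul_comp _ _ _ a φ _).symm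

end

end Groth.Agent.Lib.Helper18.DR
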