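import Mathlib
import Groth.Agent.Lib.Helper18.DRHomSg

/-!
# Two-term objects and `Ext^1` (Stacks 0ECB) (helper18)
-/

set_option autoImplicit false
universe u
open CategoryTheory CategoryTheory.Limits CategoryTheory.Pretriangulated DerivedCategory
open CochainComplex.HomComplex

attribute [local instance] HasDerivedCategory.standard

namespace Groth.Agent.Lib.Helper18.DR

variable {R : Type u} [CommRing R]

/-- `(M[0])[1] ≅ M[1]` -/
noncomputable def inDShiftIso (M : ModuleCat.{u} R) : (Sg 0 M)⟦(1 : ℤ)⟧ ≅ Sg (-1) M :=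
  SgShiftIso 1 (-1) 0 (by omega) M

/-- if `Hom(N[0], M[1]) = 0` for all `M` then `N` is projective -/
lemma projective_of_hom_Sg_eq_zero (N : ModuleCat.{u} R)
    (h : ∀ M : ModuleCat.{u} R, Subsingleton (Sg 0 N ⟶ (Sg 0 M)⟦(1 : ℤ)⟧)) :
    Module.Projective R N := by
  let ε : (N →₀ R) →ₗ[R] N := Finsupp.linearCombination R id
  have hε : Function.Surjective ε := Finsupp.linearCombination_id_surjective R N
  have hS := kerSC_shortExact ε hε
  have hT := hS.singleTriangle_distinguished
  haveI := h (ModuleCat.of R (LinearMap.ker ε))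
  have h0 : hS.singleTriangle.mor₃ = 0 := this.elim _ _
  obtain ⟨s, hs⟩ : ∃ s : Sg 0 N ⟶ Sg 0 (ModuleCat.of R (N →₀ R)),
      𝟙 _ = s ≫ (singleFunctor (ModuleCat.{u} R) 0).map (ModuleCat.ofHom ε) :=
    Triangle.coyoneda_exact₃ _ hT (𝟙 _) (by rw [h0, comp_zero])
  obtain ⟨s₀, rfl⟩ := (singleFunctor (ModuleCat.{u} R) 0).map_surjective s
  rw [← Functor.map_comp, ← CategoryTheory.Functor.map_id] at hs
  have hs' := (singleFunctor (ModuleCat.{u} R) 0).map_injective hs
  refine Module.Projective.of_split s₀.hom ε ?_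
  ext x
  exact congr($(hs'.symm) x)

/-- Stacks 0ECB: for a two-term object `K`, `H^{-1}(K) = 0` and `H^0(K)` projective iff
`Hom(K, M[1]) = 0` for all modules `M`. -/
theorem twoTerm_projective_iff (K : Dual.D R) (hK : IsTwoTerm K) :
    (Subsingleton (Dual.HD R K (-1)) ∧ Module.Projective R (Dual.HD R K 0)) ↔
      ∀ (M : Type u) [AddCommGroup M] [Module R M], Subsingleton (K ⟶ (Dual.inD R M)⟦(1 : ℤ)⟧) := by
  haveI := hK.isLE
  haveI := hK.isGE
  constructor
  · rintro ⟨h1, h0⟩ M _ _
    haveI : K.IsGE 0 := by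
      rw [DerivedCategory.isGE_iff]
      intro i hi
      rcases (show i = -1 ∨ i < -1 by omega) with rfl | hi'
      · exact isZero_H_of_subsingleton K (-1) h1
      · exact isZero_of_isGE K (-1) i hi'
    obtain ⟨N, ⟨e⟩⟩ := exists_iso_singleFunctor_obj_of_isGE_of_isLE K 0
    haveI : Module.Projective R N :=
      Module.Projective.of_equiv ((H R 0).mapIso e ≪≫ HSg 0 N).toLinearEquiv
    haveI : Projective N := (IsProjective.iff_projective (R := R) (P := N)).mp inferInstance
    haveI : ((Dual.inD R M)⟦(1 : ℤ)⟧).IsLE (0 - 1) :=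
      DerivedCategory.TStructure.t.isLE_shift (Dual.inD R M) 0 1 (0 - 1) (by omega)
    refine ⟨fun f g => ?_⟩
    have hf : e.inv ≫ f = 0 := hom_Sg_eq_zero_of_isLE 0 N _ _
    have hg : e.inv ≫ g = 0 := hom_Sg_eq_zero_of_isLE 0 N _ _
    rw [← cancel_epi e.inv, hf, hg]
  · intro h
    obtain ⟨P, hP, hfree, ⟨e⟩⟩ := exists_free_resolution K 0
    haveI : P.IsKProjective := isKProjective_of_vanishesAbove P 0 hP
      (fun i => by haveI := hfree i; infer_instance)
    -- the cokernel of `d^{-2}`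
    let M : ModuleCat.{u} R :=
      ModuleCat.of R (P.X (-1) ⧸ LinearMap.range (P.d (-1 - 1) (-1)).hom)
    let π : P.X (-1) ⟶ M := ModuleCat.ofHom (LinearMap.range (P.d (-1 - 1) (-1)).hom).mkQ
    have hπ : P.d (-1 - 1) (-1) ≫ π = 0 := by
      ext x
      exact (Submodule.Quotient.mk_eq_zero _).mpr ⟨x, rfl⟩
    have h0 : DerivedCategory.Q.map (toSgMap P (-1) M π hπ) = 0 := by
      haveI := h M
      have : e.inv ≫ DerivedCategory.Q.map (toSgMap P (-1) M π hπ) ≫ (inDShiftIso M).inv = 0 :=
        Subsingleton.elim _ _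
      have h' := congr(e.hom ≫ $this ≫ (inDShiftIso M).hom)
      simpa using h'
    obtain ⟨g, hg⟩ := (Q_map_toSgMap_eq_zero_iff P (-1) M π hπ).mp h0
    -- exactness at `-1`
    have h1 : IsZero ((H R (-1)).obj K) := by
      refine IsZero.of_iso ?_ ((H R (-1)).mapIso e.symm)
      rw [isZero_H_toD_iff P (-1 - 1) (-1) (-1 + 1) (by omega) rfl]
      intro x
      constructor
      · intro hx
        have h2 : π x = 0 := by
          rw [← hg]
          change g.hom ((P.d (-1) (-1 + 1)).hom x) = 0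
          rw [hx, map_zero]
        exact (Submodule.Quotient.mk_eq_zero _).mp h2
      · rintro ⟨y, rfl⟩
        exact congr($(P.d_comp_d (-1 - 1) (-1) (-1 + 1)) y)
    refine ⟨ModuleCat.subsingleton_of_isZero h1, ?_⟩
    haveI : K.IsGE 0 := by
      rw [DerivedCategory.isGE_iff]
      intro i hi
      rcases (show i = -1 ∨ i < -1 by omega) with rfl | hi'
      · exact h1
      · exact isZero_of_isGE K (-1) i hi'
    obtain ⟨N, ⟨e'⟩⟩ := exists_iso_singleFunctor_obj_of_isGE_of_isLE K 0
    haveI : Module.Projective R N := by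
      apply projective_of_hom_Sg_eq_zero
      intro M'
      haveI := h M'
      refine ⟨fun f g => ?_⟩
      have : e'.hom ≫ f = e'.hom ≫ g := Subsingleton.elim _ _
      exact (cancel_epi e'.hom).mp this
    exact Module.Projective.of_equiv ((H R 0).mapIso e' ≪≫ HSg 0 N).toLinearEquiv.symm

end Groth.Agent.Lib.Helper18.DR
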