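import Mathlib
import Groth.Agent.Lib.Helper18.DRTwo2

/-!
# Two-term objects: ideals annihilating `Ext^1` (Stacks 0ECE) (helper18)
-/

set_option autoImplicit false
universe u
open CategoryTheory CategoryTheory.Limits CategoryTheory.Pretriangulated DerivedCategory
open CochainComplex.HomComplex

attribute [local instance] HasDerivedCategory.standard

namespace Groth.Agent.Lib.Helper18.DR

variable {R : Type u} [CommRing R]

section Elementwise

variable {K L : DRing.Cx R} (α : K ⟶ L) [QuasiIso α] (i j k : ℤ) (hij : i + 1 = j) (hjk : j + 1 = k)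

include hij hjk

lemma quasiIso_elementwise_inj (x : K.X j) (hx : (K.d j k).hom x = 0) (y : L.X i)
    (hy : (L.d i j).hom y = (α.f j).hom x) : ∃ x' : K.X i, (K.d i j).hom x' = x := by
  have h := (quasiIsoAt_iff' α i j k (by simp [← hij]) (by simp [← hjk])).mp inferInstance
  exact (shortComplex_elementwise_of_quasiIso _ h).1 x hx ⟨y, hy⟩

lemma quasiIso_elementwise_surj (y : L.X j) (hy : (L.d j k).hom y = 0) :
    ∃ (x : K.X j) (y' : L.X i), (K.d j k).hom x = 0 ∧ (α.f j).hom x = y + (L.d i j).hom y' := by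
  have h := (quasiIsoAt_iff' α i j k (by simp [← hij]) (by simp [← hjk])).mp inferInstance
  exact (shortComplex_elementwise_of_quasiIso _ h).2 y hy

end Elementwise

section

variable (P : DRing.Cx R) (n n' : ℤ) (hn' : n + 1 = n') (M : ModuleCat.{u} R)

include hn' in
lemma Q_map_toSgMap_eq_zero_of_factor (φ : P.X n ⟶ M) (hφ : P.d (n - 1) n ≫ φ = 0)
    (g : P.X n' ⟶ M) (hg : P.d n n' ≫ g = φ) :
    DerivedCategory.Q.map (toSgMap P n M φ hφ) = 0 := by
  have h1 : Nonempty (Homotopy (toSgMap P n M φ hφ) 0) := by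
    rw [nonempty_homotopy_zero_iff, ofHom_toSgMap,
      Cocycle.toSingleMk_mem_coboundaries_iff φ (add_zero n) (n - 1) (by omega) hφ n' hn']
    exact ⟨g, hg⟩
  obtain ⟨h⟩ := h1
  rw [Q_map_eq_of_homotopy h, Functor.map_zero]

include hn' in
lemma Q_map_toSgMap_eq_zero_iff' [P.IsKProjective] (φ : P.X n ⟶ M)
    (hφ : P.d (n - 1) n ≫ φ = 0) :
    DerivedCategory.Q.map (toSgMap P n M φ hφ) = 0 ↔
      ∃ g : P.X n' ⟶ M, P.d n n' ≫ g = φ := by
  rw [Q_map_eq_zero_iff, nonempty_homotopy_zero_iff, ofHom_toSgMap,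
    Cocycle.toSingleMk_mem_coboundaries_iff φ (add_zero n) (n - 1) (by omega) hφ n' hn']

lemma comp_toSgMap {P' : DRing.Cx R} (α : P' ⟶ P) (φ : P.X n ⟶ M) (hφ : P.d (n - 1) n ≫ φ = 0) :
    α ≫ toSgMap P n M φ hφ = toSgMap P' n M (α.f n ≫ φ)
      (by rw [← α.comm_assoc, hφ, comp_zero]) := by
  apply HomologicalComplex.to_single_hom_ext
  rw [HomologicalComplex.comp_f, toSgMap_f, toSgMap_f, Category.assoc]
  rfl

end

/-- transport of the annihilation hypothesis along an iso and the shift iso -/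
lemma smul_hom_toSg_eq_zero {K : Dual.D R} (a : R)
    (h : ∀ (N : Type u) [AddCommGroup N] [Module R N] (ξ : K ⟶ (Dual.inD R N)⟦(1 : ℤ)⟧), a • ξ = 0)
    {X : Dual.D R} (e : X ≅ K) (N : ModuleCat.{u} R) (ζ : X ⟶ Sg (-1) N) : a • ζ = 0 := by
  have h1 := h N (e.inv ≫ ζ ≫ (inDShiftIso N).inv)
  have h2 := congr(e.hom ≫ $h1 ≫ (inDShiftIso N).hom)
  simpa [Linear.comp_smul, Linear.smul_comp] using h2

/-- Stacks 0ECE (1) ⇒ (3) -/
theorem exists_homotopy_of_smul_eq_zero (K : Dual.D R) (a : R)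
    (h : ∀ (N : Type u) [AddCommGroup N] [Module R N] (ξ : K ⟶ (Dual.inD R N)⟦(1 : ℤ)⟧), a • ξ = 0)
    (E : DRing.Cx R) (hE : DRing.VanishesOutside E (-1) 0) (hproj : Module.Projective R (E.X 0))
    (e : DRing.toD E ≅ K) : ∃ hh : E.X 0 ⟶ E.X (-1), E.d (-1) 0 ≫ hh = a • 𝟙 (E.X (-1)) := by
  haveI : E.IsStrictlyLE 0 := isStrictlyLE_of_vanishesAbove E 0 (VanishesOutside.above hE)
  haveI : (resE E 0).IsKProjective := isKProjective_of_vanishesAbove _ 0 (vanishesAbove_resE E 0)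
    (fun i => by haveI := free_resE E 0 i; infer_instance)
  have hφ : E.d (-1 - 1) (-1) ≫ 𝟙 (E.X (-1)) = 0 :=
    (hE (-1 - 1) (Or.inl (by omega))).eq_of_src _ _
  have h1 : a • DerivedCategory.Q.map (resα E 0 ≫ toSgMap E (-1) (E.X (-1)) (𝟙 _) hφ) = 0 :=
    smul_hom_toSg_eq_zero a h (asIso (DerivedCategory.Q.map (resα E 0)) ≪≫ e) _ _
  rw [comp_toSgMap, ← Functor.map_smul, smul_toSgMap] at h1
  obtain ⟨g, hg⟩ := (Q_map_toSgMap_eq_zero_iff' (resE E 0) (-1) 0 (by omega) _ _ _).mp h1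
  have hg' : ∀ x : (resE E 0).X (-1), g.hom (((resE E 0).d (-1) 0).hom x) =
      a • ((resα E 0).f (-1)).hom x := by
    intro x
    have := congr($hg x)
    simpa using this
  haveI h1z : Subsingleton (E.X 1) := ModuleCat.subsingleton_of_isZero (hE 1 (Or.inr (by omega)))
  haveI h1z' : Subsingleton ((resE E 0).X 1) :=
    ModuleCat.subsingleton_of_isZero (vanishesAbove_resE E 0 1 (by omega))
  haveI h2z : Subsingleton (E.X (-2)) :=
    ModuleCat.subsingleton_of_isZero (hE (-2) (Or.inl (by omega)))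
  have hS : ∀ y : E.X 0, ∃ (p : (resE E 0).X 0) (e' : E.X (-1)),
      ((resα E 0).f 0).hom p = y + (E.d (-1) 0).hom e' := by
    intro y
    obtain ⟨p, e', -, h2⟩ := quasiIso_elementwise_surj (resα E 0) (-1) 0 1 (by omega) (by omega) y
      (Subsingleton.elim _ _)
    exact ⟨p, e', h2⟩
  have hQ : ∀ (p : (resE E 0).X 0) (e' : E.X (-1)),
      ((resα E 0).f 0).hom p = (E.d (-1) 0).hom e' →
      ∃ x : (resE E 0).X (-1), ((resE E 0).d (-1) 0).hom x = p ∧
        ((resα E 0).f (-1)).hom x = e' := by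
    intro p e' hpe
    obtain ⟨x₀, hx₀⟩ := quasiIso_elementwise_inj (resα E 0) (-1) 0 1 (by omega) (by omega) p
      (Subsingleton.elim _ _) e' hpe.symm
    have h3 : (E.d (-1) 0).hom (e' - ((resα E 0).f (-1)).hom x₀) = 0 := by
      have h4 := congr($((resα E 0).comm (-1) 0) x₀)
      have h5 : (E.d (-1) 0).hom (((resα E 0).f (-1)).hom x₀) =
          ((resα E 0).f 0).hom (((resE E 0).d (-1) 0).hom x₀) := h4
      rw [map_sub, h5, hx₀, hpe, sub_self]
    obtain ⟨x₁, y', hx₁, hx₁'⟩ := quasiIso_elementwise_surj (resα E 0) (-2) (-1) 0 (by omega)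
      (by omega) _ h3
    refine ⟨x₀ + x₁, ?_, ?_⟩
    · rw [map_add, hx₀, hx₁, add_zero]
    · rw [map_add, hx₁', Subsingleton.elim y' 0, map_zero, add_zero]; abel
  let Φ : ((resE E 0).X 0 × E.X (-1)) →ₗ[R] E.X 0 :=
    ((resα E 0).f 0).hom.coprod (E.d (-1) 0).hom
  have hΦ : Function.Surjective Φ := by
    intro y
    obtain ⟨p, e', hpe⟩ := hS y
    refine ⟨(p, -e'), ?_⟩
    change ((resα E 0).f 0).hom p + (E.d (-1) 0).hom (-e') = y
    rw [hpe, map_neg]; abel
  obtain ⟨s, hs⟩ := Module.projective_lifting_property Φ LinearMap.id hΦ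
  have hs' : ∀ y, ((resα E 0).f 0).hom (s y).1 + (E.d (-1) 0).hom (s y).2 = y := fun y =>
    LinearMap.congr_fun hs y
  let hh : E.X 0 →ₗ[R] E.X (-1) :=
    g.hom ∘ₗ (LinearMap.fst R _ _) ∘ₗ s + a • ((LinearMap.snd R _ _) ∘ₗ s)
  refine ⟨ModuleCat.ofHom hh, ?_⟩
  ext e'
  change g.hom (s ((E.d (-1) 0).hom e')).1 + a • (s ((E.d (-1) 0).hom e')).2 = a • e'
  have h6 := hs' ((E.d (-1) 0).hom e')
  obtain ⟨x, hx, hx'⟩ := hQ (s ((E.d (-1) 0).hom e')).1 (e' - (s ((E.d (-1) 0).hom e')).2) (by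
    rw [map_sub]
    exact eq_sub_of_add_eq h6)
  rw [← hx, hg', hx', smul_sub]
  abel

/-- Stacks 0ECE (3) ⇒ (1) -/
theorem smul_eq_zero_of_homotopy (E : DRing.Cx R) (hE : DRing.VanishesOutside E (-1) 0)
    (hproj : Module.Projective R (E.X 0)) (a : R) (hh : E.X 0 ⟶ E.X (-1))
    (hhh : E.d (-1) 0 ≫ hh = a • 𝟙 (E.X (-1))) (X : Dual.D R) [X.IsLE (0 - 1)]
    (ξ : DRing.toD E ⟶ X) : a • ξ = 0 := by
  -- (i) `σ_{≥ 0} E` is K-projective
  haveI : (sigmaGE E 0).IsKProjective :=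
    isKProjective_of_vanishesAbove _ 0 (vanishesAbove_sigmaGE E 0 (VanishesOutside.above hE))
      (fun i => by
        by_cases hi : i = 0
        · subst hi
          exact Module.Projective.of_equiv (sigmaGEXIso E 0 le_rfl).symm.toLinearEquiv
        · have hz : IsZero ((sigmaGE E 0).X i) := by
            rcases lt_or_gt_of_ne hi with h | h
            · exact isZero_sigmaGE_X E 0 h
            · exact (hE i (Or.inr h)).of_iso (sigmaGEXIso E 0 h.le)
          haveI : Subsingleton ((sigmaGE E 0).X i) := ModuleCat.subsingleton_of_isZero hz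
          infer_instance)
  have h0 : DerivedCategory.Q.map (sigmaGEι E 0) ≫ ξ = 0 :=
    hom_eq_zero_of_isLE (sigmaGE E 0) 0 X _
  -- (ii)
  obtain ⟨ξ', hξ'⟩ : ∃ ξ' : DRing.toD (sigmaLT E 0) ⟶ X,
      ξ = DerivedCategory.Q.map (sigmaLTπ E 0) ≫ ξ' :=
    Triangle.yoneda_exact₂ _ (sigmaTriangle_distinguished E 0) ξ h0
  -- (iii)
  haveI : (sigmaLT E 0).IsStrictlyLE (-1) := by
    have : (sigmaLT E 0).IsStrictlyLE (0 - 1) := inferInstance
    simpa using this
  haveI : (sigmaLT E 0).IsStrictlyGE (-1) := by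
    rw [CochainComplex.isStrictlyGE_iff]
    intro i hi
    exact vanishesOutside_sigmaLT' E 0 hE i (Or.inl hi)
  obtain ⟨iso', -⟩ : ∃ iso' : sigmaLT E 0 ≅ (CochainComplex.singleFunctor (ModuleCat.{u} R) (-1)).obj
      ((sigmaLT E 0).X (-1)), True := ⟨isoSingleOfStrictly (sigmaLT E 0) (-1), trivial⟩
  obtain ⟨φ, hφ, hρ⟩ := exists_toSgMap E (-1) ((sigmaLT E 0).X (-1)) (sigmaLTπ E 0 ≫ iso'.hom)
  have h1 : DerivedCategory.Q.map (a • (sigmaLTπ E 0 ≫ iso'.hom)) = 0 := by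
    rw [hρ, smul_toSgMap]
    refine Q_map_toSgMap_eq_zero_of_factor E (-1) 0 (by omega) _ _ _ (hh ≫ φ) ?_
    rw [← Category.assoc, hhh, Linear.smul_comp, Category.id_comp]
  have h2 : a • DerivedCategory.Q.map (sigmaLTπ E 0) = 0 := by
    have h3 : sigmaLTπ E 0 = (sigmaLTπ E 0 ≫ iso'.hom) ≫ iso'.inv := by
      rw [Category.assoc, Iso.hom_inv_id, Category.comp_id]
    rw [h3, Functor.map_comp, ← Linear.smul_comp, ← Functor.map_smul, h1, zero_comp]
  rw [hξ', ← Linear.smul_comp, h2, zero_comp]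

/-- finite free resolution with prescribed bound -/
theorem exists_finite_free_resolution (K : Dual.D R) (b : ℤ) [K.IsLE b]
    (hK : ∀ m, DRing.IsPseudoCoherent R m K) :
    ∃ (E : DRing.Cx R), DRing.VanishesAbove E b ∧ DRing.TermwiseFiniteFree E ∧
      Nonempty (DRing.toD E ≅ K) := by
  obtain ⟨K₁, _, ⟨e⟩⟩ := DerivedCategory.exists_iso_Q_obj_of_isLE K b
  exact ⟨resE K₁ b, vanishesAbove_resE K₁ b,
    fun i => ⟨finite_resE K₁ b (fun m => isPseudoCoherent_of_iso e (hK m)) i, free_resE K₁ b i⟩,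
    ⟨asIso (DerivedCategory.Q.map (resα K₁ b)) ≪≫ e.symm⟩⟩

/-- Stacks 0ECA-type over a Noetherian ring -/
theorem exists_two_term_rep_noetherian [IsNoetherianRing R] (K : Dual.D R) (hK : IsTwoTerm K)
    (h1 : Module.Finite R (Dual.HD R K (-1))) (h0 : Module.Finite R (Dual.HD R K 0)) :
    ∃ E : DRing.Cx R, DRing.VanishesOutside E (-1) 0 ∧ Module.Free R (E.X 0) ∧
      Module.Finite R (E.X 0) ∧ Module.Finite R (E.X (-1)) ∧ Nonempty (DRing.toD E ≅ K) := by
  haveI := hK.isLE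
  haveI := hK.isGE
  have hPC : ∀ m, DRing.IsPseudoCoherent R m K := by
    intro m
    rw [isPseudoCoherent_iff_of_noetherian]
    refine ⟨⟨0, fun i hi => hK i (by omega) (by omega)⟩, fun i _ => ?_⟩
    by_cases hi1 : i = -1
    · subst hi1; exact h1
    · by_cases hi0 : i = 0
      · subst hi0; exact h0
      · haveI := hK i hi1 hi0
        infer_instance
  obtain ⟨P, hP, hPff, ⟨e⟩⟩ := exists_finite_free_resolution K 0 hPC
  haveI : P.IsStrictlyLE 0 := isStrictlyLE_of_vanishesAbove P 0 hP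
  haveI : P.IsGE (-1) := by
    rw [CochainComplex.isGE_iff]
    intro i hi
    rw [← isZero_H_toD_iff_exactAt]
    exact (isZero_of_isGE K (-1) i hi).of_iso ((H R i).mapIso e)
  refine ⟨P.truncGE (-1), ?_, ?_, ?_, ?_,
    ⟨(asIso (DerivedCategory.Q.map (P.πTruncGE (-1)))).symm ≪≫ e⟩⟩
  · rintro i (hi | hi)
    · exact (P.truncGE (-1)).isZero_of_isStrictlyGE (-1) i hi
    · exact (P.truncGE (-1)).isZero_of_isStrictlyLE 0 i hi
  · haveI := (hPff 0).2
    exact Module.Free.of_equiv (P.truncGEXIso (-1) 0 (by omega)).symm.toLinearEquiv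
  · haveI := (hPff 0).1
    exact Module.Finite.equiv (P.truncGEXIso (-1) 0 (by omega)).symm.toLinearEquiv
  · haveI := (hPff (-1)).1
    haveI : Module.Finite R (P.opcycles (-1)) :=
      Module.Finite.of_surjective (P.pOpcycles (-1)).hom
        ((ModuleCat.epi_iff_surjective _).mp inferInstance)
    exact Module.Finite.equiv (P.truncGEXIsoOpcycles (-1)).symm.toLinearEquiv

end Groth.Agent.Lib.Helper18.DR
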