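import Mathlib
import Groth.Agent.Lib.Helper18.DRTwo3

/-!
# The localization `A_f` has projective dimension `≤ 1` (helper18)
-/

set_option autoImplicit false
universe u
open CategoryTheory CategoryTheory.Limits CategoryTheory.Pretriangulated DerivedCategory
open Polynomial

attribute [local instance] HasDerivedCategory.standard

namespace Groth.Agent.Lib.Helper18.DR

variable {A : Type u} [CommRing A] (f : A)

/-- multiplication by `f X - 1` on `A[X]` -/
noncomputable def awayθ : A[X] →ₗ[A] A[X] := LinearMap.mulLeft A (C f * X - 1)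

/-- the surjection `A[X] → A_f`, `X ↦ 1/f` -/
noncomputable def awayε : A[X] →ₗ[A] Localization.Away f :=
  (Localization.awayEquivAdjoin f).symm.toLinearMap ∘ₗ (AdjoinRoot.mkₐ (C f * X - 1)).toLinearMap

lemma awayε_surjective : Function.Surjective (awayε f) := by
  intro y
  obtain ⟨p, hp⟩ := AdjoinRoot.mk_surjective (Localization.awayEquivAdjoin f y)
  refine ⟨p, ?_⟩
  change (Localization.awayEquivAdjoin f).symm (AdjoinRoot.mk _ p) = y
  rw [hp, AlgEquiv.symm_apply_apply]

lemma awayθ_injective : Function.Injective (awayθ f) := by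
  rw [← LinearMap.ker_eq_bot, LinearMap.ker_eq_bot']
  intro p hp
  change (C f * X - 1) * p = 0 at hp
  have h1 : ((C f * X - 1 : A[X]) : PowerSeries A) * (p : PowerSeries A) = 0 := by
    rw [← Polynomial.coe_mul, hp, Polynomial.coe_zero]
  have hu : IsUnit ((C f * X - 1 : A[X]) : PowerSeries A) := by
    rw [PowerSeries.isUnit_iff_constantCoeff]
    simp
  have h2 : (p : PowerSeries A) = 0 := (hu.mul_right_eq_zero).mp h1
  exact_mod_cast h2

lemma awayθε_exact : Function.Exact (awayθ f) (awayε f) := by
  intro p
  constructor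
  · intro hp
    have h1 : AdjoinRoot.mk (C f * X - 1) p = 0 := by
      have : (Localization.awayEquivAdjoin f).symm (AdjoinRoot.mk (C f * X - 1) p) = 0 := hp
      simpa using this
    rw [AdjoinRoot.mk_eq_zero] at h1
    obtain ⟨q, rfl⟩ := h1
    exact ⟨q, rfl⟩
  · rintro ⟨q, rfl⟩
    change (Localization.awayEquivAdjoin f).symm (AdjoinRoot.mk _ ((C f * X - 1) * q)) = 0
    rw [map_mul, AdjoinRoot.mk_self, zero_mul, map_zero]

/-- the short exact sequence `0 → A[X] → A[X] → A_f → 0` -/
noncomputable def awaySC : ShortComplex (ModuleCat.{u} A) :=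
  ShortComplex.mk (ModuleCat.ofHom (awayθ f)) (ModuleCat.ofHom (awayε f)) (by
    refine ModuleCat.hom_ext (LinearMap.ext fun p => ?_)
    exact (awayθε_exact f).apply_apply_eq_zero p)

lemma awaySC_shortExact : (awaySC f).ShortExact :=
  ModuleCat.shortComplex_shortExact _ (awayθε_exact f) (awayθ_injective f) (awayε_surjective f)

end Groth.Agent.Lib.Helper18.DR
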