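import Mathlib
import Groth.Prelude.Def_DRing3
import Groth.Agent.Lib.Helper11.TriHom
import Groth.Agent.Lib.Helper18.DRDC0
import Groth.Agent.Lib.Helper18.DRInd
import Groth.Agent.Lib.Helper18.DRPerf

/-!
# Derived completeness: basic calculus of `Hom(A_f, X[n])` (helper18)
-/

set_option autoImplicit false
set_option linter.style.haveILetI false
universe u
open CategoryTheory CategoryTheory.Limits CategoryTheory.Pretriangulated DerivedCategory
open Polynomial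

attribute [local instance] HasDerivedCategory.standard

namespace Groth.Agent.Lib.Helper18.DR

variable {A : Type u} [CommRing A]

/-- `Hom(A_f, X[n]) = 0` -/
def HomZ (f : A) (n : ℤ) (X : Dual.D A) : Prop :=
  Subsingleton (Dual.inD A (Localization.Away f) ⟶ X⟦n⟧)

lemma isDerivedComplete_iff (I : Ideal A) (K : Dual.D A) :
    DRing.IsDerivedComplete I K ↔ ∀ f ∈ I, ∀ n : ℤ, HomZ f n K := Iff.rfl

lemma subsingleton_hom_of_iso {E Y Y' : Dual.D A} (e : Y ≅ Y') (h : Subsingleton (E ⟶ Y)) :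
    Subsingleton (E ⟶ Y') :=
  ⟨fun a b => (cancel_mono e.inv).1 (h.elim _ _)⟩

lemma homZ_of_iso {f : A} {n : ℤ} {X Y : Dual.D A} (e : X ≅ Y) (h : HomZ f n X) : HomZ f n Y :=
  subsingleton_hom_of_iso ((shiftFunctor (Dual.D A) n).mapIso e) h

lemma homZ_of_isZero {f : A} {n : ℤ} {X : Dual.D A} (h : IsZero X) : HomZ f n X :=
  ⟨fun a b => ((shiftFunctor (Dual.D A) n).map_isZero h).eq_of_tgt a b⟩

lemma homZ_obj₂ {f : A} {n : ℤ} (T : Triangle (Dual.D A)) (hT : T ∈ distTriang (Dual.D A))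
    (h₁ : HomZ f n T.obj₁) (h₃ : HomZ f n T.obj₃) : HomZ f n T.obj₂ :=
  Groth.Agent.Lib.Helper11.subsingleton_hom_shift_obj₂ T hT _ n h₁ h₃

lemma homZ_obj₃ {f : A} {n : ℤ} (T : Triangle (Dual.D A)) (hT : T ∈ distTriang (Dual.D A))
    (h₂ : HomZ f n T.obj₂) (h₁ : HomZ f (n + 1) T.obj₁) : HomZ f n T.obj₃ :=
  Groth.Agent.Lib.Helper11.subsingleton_hom_shift_obj₃ T hT _ n (n + 1) rfl h₂ h₁

lemma homZ_obj₁ {f : A} {n : ℤ} (T : Triangle (Dual.D A)) (hT : T ∈ distTriang (Dual.D A))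
    (h₂ : HomZ f n T.obj₂) (h₃ : HomZ f (n - 1) T.obj₃) : HomZ f n T.obj₁ :=
  Groth.Agent.Lib.Helper11.subsingleton_hom_shift_obj₁ T hT _ n (n - 1) (by omega) h₂ h₃

lemma homZ_shift_iff (f : A) (m n k : ℤ) (h : m + n = k) (X : Dual.D A) :
    HomZ f n (X⟦m⟧) ↔ HomZ f k X :=
  ⟨fun h' => subsingleton_hom_of_iso ((shiftFunctorAdd' (Dual.D A) m n k h).app X).symm h',
    fun h' => subsingleton_hom_of_iso ((shiftFunctorAdd' (Dual.D A) m n k h).app X) h'⟩

instance projective_polynomial : Projective (ModuleCat.of A A[X]) :=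
  (IsProjective.iff_projective (R := A) (P := A[X])).mp inferInstance

/-- the distinguished triangle `A[X] → A[X] → A_f →` -/
lemma awayTriangle_distinguished (f : A) :
    (awaySC_shortExact f).singleTriangle ∈ distTriang (Dual.D A) :=
  (awaySC_shortExact f).singleTriangle_distinguished

/-- `Hom(A_f, Y) = 0` if `Y` is cohomologically `≤ -2` -/
lemma hom_away_eq_zero_of_isLE (f : A) (Y : Dual.D A) [Y.IsLE (-2)]
    (φ : Dual.inD A (Localization.Away f) ⟶ Y) : φ = 0 := by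
  have hT := awayTriangle_distinguished f
  haveI : Y.IsLE (0 - 1) := TStructure.t.isLE_of_le _ (-2) (0 - 1) (by omega)
  haveI : Y.IsLE (-1 - 1) := TStructure.t.isLE_of_le _ (-2) (-1 - 1) (by omega)
  have h1 : (awaySC_shortExact f).singleTriangle.mor₂ ≫ φ = 0 :=
    hom_Sg_eq_zero_of_isLE 0 (ModuleCat.of A A[X]) Y _
  obtain ⟨ψ, hψ⟩ : ∃ ψ : (Sg 0 (ModuleCat.of A A[X]))⟦(1 : ℤ)⟧ ⟶ Y,
      φ = (awaySC_shortExact f).singleTriangle.mor₃ ≫ ψ :=
    Triangle.yoneda_exact₃ _ hT φ h1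
  have h2 : ψ = 0 := by
    rw [← cancel_epi (SgShiftIso 1 (-1) 0 (by omega) (ModuleCat.of A A[X])).inv]
    rw [Limits.comp_zero]
    exact hom_Sg_eq_zero_of_isLE (-1) (ModuleCat.of A A[X]) Y _
  rw [hψ, h2]
  exact Limits.comp_zero

/-- `Hom(A_f, Y) = 0` if `Y` is cohomologically `≥ 1` -/
lemma hom_away_eq_zero_of_isGE (f : A) (Y : Dual.D A) [Y.IsGE 1]
    (φ : Dual.inD A (Localization.Away f) ⟶ Y) : φ = 0 :=
  TStructure.t.zero φ 0 1

lemma homZ_of_isLE (f : A) (n a : ℤ) (X : Dual.D A) [X.IsLE a] (h : a + 2 ≤ n) : HomZ f n X := by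
  haveI : (X⟦n⟧).IsLE (a - n) := TStructure.t.isLE_shift X a n (a - n) (by omega)
  haveI : (X⟦n⟧).IsLE (-2) := TStructure.t.isLE_of_le _ (a - n) (-2) (by omega)
  exact ⟨fun φ ψ => by rw [hom_away_eq_zero_of_isLE f _ φ, hom_away_eq_zero_of_isLE f _ ψ]⟩

lemma homZ_of_isGE (f : A) (n b : ℤ) (X : Dual.D A) [X.IsGE b] (h : n + 1 ≤ b) : HomZ f n X := by
  haveI : (X⟦n⟧).IsGE (b - n) := TStructure.t.isGE_shift X b n (b - n) (by omega)
  haveI : (X⟦n⟧).IsGE 1 := TStructure.t.isGE_of_ge _ 1 (b - n) (by omega)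
  exact ⟨fun φ ψ => by rw [hom_away_eq_zero_of_isGE f _ φ, hom_away_eq_zero_of_isGE f _ ψ]⟩

end Groth.Agent.Lib.Helper18.DR
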