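import Mathlib
import Groth.Agent.Lib.Helper18.DRDC1

/-!
# Derived completeness is detected on cohomology (helper18)
-/

set_option autoImplicit false
set_option linter.style.haveILetI false
universe u
open CategoryTheory CategoryTheory.Limits CategoryTheory.Pretriangulated DerivedCategory

attribute [local instance] HasDerivedCategory.standard

namespace Groth.Agent.Lib.Helper18.DR

variable {A : Type u} [CommRing A]

/-- the window `[a, b]` of an object of `D(A)` -/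
lemma exists_window (a b : ℤ) (K : Dual.D A) :
    ∃ (A₁ B₁ A' C : Dual.D A) (f₁ : A₁ ⟶ K) (p₁ : K ⟶ B₁) (δ₁ : B₁ ⟶ A₁⟦(1 : ℤ)⟧)
      (f₂ : A' ⟶ A₁) (p₂ : A₁ ⟶ C) (δ₂ : C ⟶ A'⟦(1 : ℤ)⟧),
      Triangle.mk f₁ p₁ δ₁ ∈ distTriang (Dual.D A) ∧ Triangle.mk f₂ p₂ δ₂ ∈ distTriang (Dual.D A) ∧
      A₁.IsLE b ∧ B₁.IsGE (b + 1) ∧ A'.IsLE (a - 1) ∧ C.IsGE a ∧ (a ≤ b → C.IsLE b) ∧
      ∀ i : ℤ, a ≤ i → i ≤ b → Nonempty ((H A i).obj C ≅ (H A i).obj K) := by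
  obtain ⟨A₁, B₁, hA₁, hB₁, f₁, p₁, δ₁, hT₁⟩ := TStructure.t.exists_triangle K b (b + 1) rfl
  haveI : A₁.IsLE b := ⟨hA₁⟩
  haveI : B₁.IsGE (b + 1) := ⟨hB₁⟩
  obtain ⟨A', C, hA', hC, f₂, p₂, δ₂, hT₂⟩ := TStructure.t.exists_triangle A₁ (a - 1) a (by omega)
  haveI : A'.IsLE (a - 1) := ⟨hA'⟩
  haveI : C.IsGE a := ⟨hC⟩
  refine ⟨A₁, B₁, A', C, f₁, p₁, δ₁, f₂, p₂, δ₂, hT₁, hT₂, inferInstance, inferInstance,
    inferInstance, inferInstance, ?_, ?_⟩
  · intro hab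
    haveI : A'.IsLE (b - 1) := TStructure.t.isLE_of_le _ (a - 1) (b - 1) (by omega)
    exact isLE_obj₃ hT₂ b (inferInstanceAs (A'.IsLE (b - 1))) (inferInstanceAs (A₁.IsLE b))
  · intro i hai hib
    haveI hf : IsIso ((H A i).map f₁) :=
      isIso_H_mor₁_of_isZero hT₁ (i - 1) i (by omega) (isZero_of_isGE B₁ (b + 1) _ (by omega))
        (isZero_of_isGE B₁ (b + 1) _ (by omega))
    haveI hp : IsIso ((H A i).map p₂) :=
      isIso_H_mor₂_of_isZero hT₂ i (isZero_of_isLE A' (a - 1) _ (by omega))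
        (isZero_of_isLE A' (a - 1) _ (by omega))
    exact ⟨(asIso ((H A i).map p₂)).symm ≪≫ asIso ((H A i).map f₁)⟩

lemma homZ_Sg_iff (f : A) (n i k : ℤ) (h : k + i = n) (M : ModuleCat.{u} A) :
    HomZ f n (Sg i M) ↔ HomZ f k (Sg 0 M) := by
  rw [← homZ_shift_iff f (-i) n k (by omega) (Sg 0 M)]
  exact ⟨fun h' => homZ_of_iso (SgShiftIso (-i) i 0 (by omega) M).symm h',
    fun h' => homZ_of_iso (SgShiftIso (-i) i 0 (by omega) M) h'⟩

/-- if `Ext^{n-i}(A_f, H^i K) = 0` for `i = n - 1, n`, then `Hom(A_f, K[n]) = 0` -/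
theorem homZ_of_cohomology (f : A) (n : ℤ) (K : Dual.D A)
    (hK : ∀ i : ℤ, n - 1 ≤ i → i ≤ n → HomZ f (n - i) (Sg 0 ((H A i).obj K))) : HomZ f n K := by
  obtain ⟨A₁, B₁, A', C, f₁, p₁, δ₁, f₂, p₂, δ₂, hT₁, hT₂, hA₁, hB₁, hA', hC, hC', hiso⟩ :=
    exists_window (n - 1) n K
  haveI := hC' (by omega)
  haveI : A'.IsLE (n - 2) := TStructure.t.isLE_of_le _ (n - 1 - 1) (n - 2) (by omega)
  refine homZ_obj₂ _ hT₁ ?_ (homZ_of_isGE f n (n + 1) B₁ le_rfl)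
  refine homZ_obj₂ _ hT₂ (homZ_of_isLE f n (n - 2) A' (by omega)) ?_
  change HomZ f n C
  refine cohomological_induction (HomZ f n) (fun e h => homZ_of_iso e h)
    (fun X hX => homZ_of_isZero hX) (fun T hT h₁ h₃ => homZ_obj₂ T hT h₁ h₃) C (n - 1) n
    (fun i hi => ?_) (fun i hi hin => ?_)
  · rcases hi with hi | hi
    · exact isZero_of_isGE C (n - 1) _ hi
    · exact isZero_of_isLE C n _ hi
  · obtain ⟨e⟩ := hiso i hi hin
    rw [homZ_Sg_iff f n i (n - i) (by omega)]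
    exact homZ_of_iso ((singleFunctor (ModuleCat.{u} A) 0).mapIso e.symm) (hK i hi hin)

/-- if `Hom(A_f, K[m]) = 0` with `m ∈ {i, i + 1}` then `Ext^{m-i}(A_f, H^i K) = 0` -/
theorem homZ_Sg_H (f : A) (i m : ℤ) (hm : m = i ∨ m = i + 1) (K : Dual.D A) (hK : HomZ f m K) :
    HomZ f (m - i) (Sg 0 ((H A i).obj K)) := by
  obtain ⟨A₁, B₁, A', C, f₁, p₁, δ₁, f₂, p₂, δ₂, hT₁, hT₂, hA₁, hB₁, hA', hC, hC', hi⟩ :=
    exists_window i i K
  haveI := hC' (by omega)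
  obtain ⟨e⟩ := hi i le_rfl le_rfl
  obtain ⟨M, ⟨eM⟩⟩ := exists_iso_singleFunctor_obj_of_isGE_of_isLE C i
  have e' : (H A i).obj K ≅ M := e.symm ≪≫ (H A i).mapIso eM ≪≫ HSg i M
  have h1 : HomZ f m A₁ :=
    homZ_obj₁ _ hT₁ hK (homZ_of_isGE f (m - 1) (i + 1) B₁ (by omega))
  have h2 : HomZ f m C :=
    homZ_obj₃ _ hT₂ h1 (homZ_of_isLE f (m + 1) (i - 1) A' (by omega))
  rw [← homZ_Sg_iff f m i (m - i) (by omega)]
  exact homZ_of_iso (eM ≪≫ (singleFunctor (ModuleCat.{u} A) i).mapIso e'.symm) h2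

/-- derived completeness is detected on cohomology modules -/
theorem isDerivedComplete_iff_cohomology (I : Ideal A) (K : Dual.D A) :
    DRing.IsDerivedComplete I K ↔
      ∀ i : ℤ, DRing.IsDerivedComplete I (Dual.inD A (Dual.HD A K i)) := by
  constructor
  · intro h i f hf n
    change HomZ f n (Sg 0 ((H A i).obj K))
    by_cases h0 : n = 0
    · subst h0
      have := homZ_Sg_H f i i (Or.inl rfl) K (h f hf i)
      rwa [sub_self] at this
    by_cases h1 : n = 1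
    · subst h1
      have := homZ_Sg_H f i (i + 1) (Or.inr rfl) K (h f hf (i + 1))
      rwa [add_sub_cancel_left] at this
    by_cases h2 : 2 ≤ n
    · exact homZ_of_isLE f n 0 _ (by omega)
    · exact homZ_of_isGE f n 0 _ (by omega)
  · intro h f hf n
    exact homZ_of_cohomology f n K (fun i _ _ => h i f hf (n - i))

end Groth.Agent.Lib.Helper18.DR
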