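import Mathlib
import Groth.Agent.Lib.Helper18.DRDC2
import Groth.Agent.Lib.Helper18.DRNoeth

/-!
# Derived `f`-completeness: kernels, cokernels, perfect and pseudo-coherent objects (helper18)
-/

set_option autoImplicit false
set_option linter.style.haveILetI false
universe u
open CategoryTheory CategoryTheory.Limits CategoryTheory.Pretriangulated DerivedCategory

attribute [local instance] HasDerivedCategory.standard

namespace Groth.Agent.Lib.Helper18.DR

variable {A : Type u} [CommRing A]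

/-- derived `f`-completeness -/
def FC (f : A) (X : Dual.D A) : Prop := ∀ n : ℤ, HomZ f n X

lemma isDerivedComplete_iff_fc (I : Ideal A) (K : Dual.D A) :
    DRing.IsDerivedComplete I K ↔ ∀ f ∈ I, FC f K := Iff.rfl

lemma FC.of_iso {f : A} {X Y : Dual.D A} (e : X ≅ Y) (h : FC f X) : FC f Y :=
  fun n => homZ_of_iso e (h n)

lemma fc_of_isZero {f : A} {X : Dual.D A} (h : IsZero X) : FC f X :=
  fun _ => homZ_of_isZero h

lemma FC.shift {f : A} {X : Dual.D A} (h : FC f X) (m : ℤ) : FC f (X⟦m⟧) :=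
  fun n => (homZ_shift_iff f m n (m + n) rfl X).2 (h _)

lemma fc_obj₂ {f : A} (T : Triangle (Dual.D A)) (hT : T ∈ distTriang (Dual.D A))
    (h₁ : FC f T.obj₁) (h₃ : FC f T.obj₃) : FC f T.obj₂ :=
  fun n => homZ_obj₂ T hT (h₁ n) (h₃ n)

lemma fc_obj₃ {f : A} (T : Triangle (Dual.D A)) (hT : T ∈ distTriang (Dual.D A))
    (h₁ : FC f T.obj₁) (h₂ : FC f T.obj₂) : FC f T.obj₃ :=
  fun n => homZ_obj₃ T hT (h₂ n) (h₁ (n + 1))

lemma fc_obj₁ {f : A} (T : Triangle (Dual.D A)) (hT : T ∈ distTriang (Dual.D A))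
    (h₂ : FC f T.obj₂) (h₃ : FC f T.obj₃) : FC f T.obj₁ :=
  fun n => homZ_obj₁ T hT (h₂ n) (h₃ (n - 1))

/-- for a module only `Hom` and `Ext¹` matter -/
lemma fc_Sg0_iff (f : A) (M : ModuleCat.{u} A) :
    FC f (Sg 0 M) ↔ HomZ f 0 (Sg 0 M) ∧ HomZ f 1 (Sg 0 M) := by
  refine ⟨fun h => ⟨h 0, h 1⟩, fun h n => ?_⟩
  by_cases h0 : n = 0
  · subst h0; exact h.1
  by_cases h1 : n = 1
  · subst h1; exact h.2
  by_cases h2 : 2 ≤ n
  · exact homZ_of_isLE f n 0 _ (by omega)
  · exact homZ_of_isGE f n 0 _ (by omega)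

lemma fc_Sg0_of_linearEquiv {f : A} {M N : Type u} [AddCommGroup M] [Module A M] [AddCommGroup N]
    [Module A N] (e : M ≃ₗ[A] N) (h : FC f (Sg 0 (ModuleCat.of A M))) :
    FC f (Sg 0 (ModuleCat.of A N)) :=
  h.of_iso ((singleFunctor (ModuleCat.{u} A) 0).mapIso e.toModuleIso)

/-- the image of a map between derived `f`-complete modules is derived `f`-complete -/
theorem fc_of_shortExact_two (f : A) (S₁ S₂ : ShortComplex (ModuleCat.{u} A)) (h₁ : S₁.ShortExact)
    (h₂ : S₂.ShortExact) (e : S₁.X₃ ≅ S₂.X₁) (hM : FC f (Sg 0 S₁.X₂)) (hN : FC f (Sg 0 S₂.X₂)) :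
    FC f (Sg 0 S₁.X₃) := by
  rw [fc_Sg0_iff]
  constructor
  · refine homZ_of_iso ((singleFunctor (ModuleCat.{u} A) 0).mapIso e.symm) ?_
    exact homZ_obj₁ _ h₂.singleTriangle_distinguished (hN 0)
      (homZ_of_isGE f (0 - 1) 0 (Sg 0 S₂.X₃) (by omega))
  · exact homZ_obj₃ _ h₁.singleTriangle_distinguished (hM 1)
      (homZ_of_isLE f (1 + 1) 0 (Sg 0 S₁.X₁) (by omega))

/-- kernels and cokernels of maps between derived `f`-complete modules are derived `f`-complete -/
theorem fc_ker_coker (f : A) {M N : Type u} [AddCommGroup M] [Module A M] [AddCommGroup N]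
    [Module A N] (u : M →ₗ[A] N) (hM : FC f (Sg 0 (ModuleCat.of A M)))
    (hN : FC f (Sg 0 (ModuleCat.of A N))) :
    FC f (Sg 0 (ModuleCat.of A (LinearMap.ker u))) ∧
      FC f (Sg 0 (ModuleCat.of A (N ⧸ LinearMap.range u))) := by
  have h₁ := kerSC_shortExact u.rangeRestrict u.surjective_rangeRestrict
  have h₂ := kerSC_shortExact (LinearMap.range u).mkQ (Submodule.mkQ_surjective _)
  have e : LinearMap.range u ≃ₗ[A] LinearMap.ker (LinearMap.range u).mkQ :=
    LinearEquiv.ofEq _ _ (Submodule.ker_mkQ _).symm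
  have hIm : FC f (Sg 0 (ModuleCat.of A (LinearMap.range u))) :=
    fc_of_shortExact_two f _ _ h₁ h₂ e.toModuleIso hM hN
  constructor
  · have := fc_obj₁ _ h₁.singleTriangle_distinguished hM hIm
    exact fc_Sg0_of_linearEquiv (LinearEquiv.ofEq _ _ (LinearMap.ker_rangeRestrict u)) this
  · exact fc_obj₃ _ h₂.singleTriangle_distinguished (fc_Sg0_of_linearEquiv e hIm) hN

end Groth.Agent.Lib.Helper18.DR
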