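import Mathlib
import Groth.Agent.Lib.Helper18.DRDC3

/-!
# Derived `f`-completeness: perfect and pseudo-coherent objects (helper18)
-/

set_option autoImplicit false
set_option linter.style.haveILetI false
universe u
open CategoryTheory CategoryTheory.Limits CategoryTheory.Pretriangulated DerivedCategory

attribute [local instance] HasDerivedCategory.standard

namespace Groth.Agent.Lib.Helper18.DR

variable {A : Type u} [CommRing A]

/-- derived `f`-completeness is detected on cohomology modules -/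
theorem fc_iff_cohomology (f : A) (K : Dual.D A) :
    FC f K ↔ ∀ i : ℤ, FC f (Sg 0 ((H A i).obj K)) := by
  constructor
  · intro h i
    rw [fc_Sg0_iff]
    constructor
    · have := homZ_Sg_H f i i (Or.inl rfl) K (h i)
      rwa [sub_self] at this
    · have := homZ_Sg_H f i (i + 1) (Or.inr rfl) K (h (i + 1))
      rwa [add_sub_cancel_left] at this
  · intro h n
    exact homZ_of_cohomology f n K (fun i _ _ => h i (n - i))

lemma fc_of_biprod {f : A} (X Y : Dual.D A) (h : FC f (X ⊞ Y)) : FC f X := by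
  intro n
  refine ⟨fun a b => ?_⟩
  have h1 := (h n).elim (a ≫ (biprod.inl : X ⟶ X ⊞ Y)⟦n⟧') (b ≫ (biprod.inl : X ⟶ X ⊞ Y)⟦n⟧')
  have h2 : (biprod.inl : X ⟶ X ⊞ Y)⟦n⟧' ≫ (biprod.fst : X ⊞ Y ⟶ X)⟦n⟧' = 𝟙 _ := by
    rw [← Functor.map_comp, biprod.inl_fst, CategoryTheory.Functor.map_id]
  have h3 := congrArg (fun t => t ≫ (biprod.fst : X ⊞ Y ⟶ X)⟦n⟧') h1
  simpa [h2] using h3

/-- if `A` is derived `f`-complete then so is every perfect object -/
theorem fc_of_isPerfect (f : A) (hA : FC f (Dual.inD A A)) (K : Dual.D A)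
    (hK : DRing.IsPerfect A K) : FC f K := by
  let Pr : ObjectProperty (Dual.D A) := fun X => FC f X
  haveI : Pr.IsClosedUnderIsomorphisms := ⟨fun e h => FC.of_iso e h⟩
  exact perfect_induction Pr hA (fun K n h => FC.shift h n)
    (fun T hT h₁ h₃ => fc_obj₂ T hT h₁ h₃) (fun X Y _ h => fc_of_biprod X Y h) K hK

/-- if `A` is derived `f`-complete then so is every pseudo-coherent object -/
theorem fc_of_isPseudoCoherent' (f : A) (hA : FC f (Dual.inD A A)) (K : Dual.D A)
    (hK : DRing.IsPseudoCoherent' A K) : FC f K := by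
  obtain ⟨P, b, hb, hP, ⟨e⟩⟩ := hK
  refine FC.of_iso e ?_
  rw [fc_iff_cohomology]
  intro i
  have hT := sigmaTriangle_distinguished P (i - 1)
  have hperf : DRing.IsPerfect A (DRing.toD (sigmaGE P (i - 1))) :=
    ⟨sigmaGE P (i - 1), i - 1, b, vanishesOutside_sigmaGE P (i - 1) hb,
      fun j => ⟨(termwiseFiniteFree_sigmaGE P (i - 1) hP j).1,
        haveI := (termwiseFiniteFree_sigmaGE P (i - 1) hP j).2
        Module.Projective.of_free⟩, ⟨Iso.refl _⟩⟩
  have h1 := (fc_iff_cohomology f _).1 (fc_of_isPerfect f hA _ hperf) i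
  have hiso : IsIso ((H A i).map (sigmaTriangle P (i - 1)).mor₁) :=
    isIso_H_mor₁_of_isZero hT (i - 1) i (by omega)
      (isZero_of_isLE (DRing.toD (sigmaLT P (i - 1))) (i - 1 - 1) _ (by omega))
      (isZero_of_isLE (DRing.toD (sigmaLT P (i - 1))) (i - 1 - 1) _ (by omega))
  exact FC.of_iso ((singleFunctor (ModuleCat.{u} A) 0).mapIso
    (@asIso _ _ _ _ _ hiso)) h1

end Groth.Agent.Lib.Helper18.DR
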