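import Mathlib
import Groth.Agent.Lib.Helper18.DRDC4

/-!
# Derived `f`-completeness of a module in terms of sequences (helper18)

`M` is derived `f`-complete iff `(x_n) ↦ (x_n - f x_{n+1})` is bijective on `ℕ → M`.
-/

set_option autoImplicit false
set_option linter.style.haveILetI false
universe u
open CategoryTheory CategoryTheory.Limits CategoryTheory.Pretriangulated DerivedCategory
open Polynomial

attribute [local instance] HasDerivedCategory.standard

namespace Groth.Agent.Lib.Helper18.DR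

variable {A : Type u} [CommRing A] {M : Type u} [AddCommGroup M] [Module A M]

/-- the linear map `A[X] → M` with `X^n ↦ x n` -/
noncomputable def seqMap (x : ℕ → M) : A[X] →ₗ[A] M := (Polynomial.basisMonomials A).constr A x

lemma seqMap_X_pow (x : ℕ → M) (n : ℕ) : seqMap x (X ^ n : A[X]) = x n := by
  have h := (Polynomial.basisMonomials A).constr_basis A x n
  rw [Polynomial.coe_basisMonomials] at h
  rw [Polynomial.X_pow_eq_monomial]
  exact h

lemma awayθ_X_pow (f : A) (n : ℕ) : awayθ f (X ^ n) = f • (X ^ (n + 1) : A[X]) - X ^ n := by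
  change (C f * X - 1) * X ^ n = _
  rw [Polynomial.smul_eq_C_mul]
  ring

lemma seqMap_awayθ (f : A) (x : ℕ → M) (n : ℕ) :
    seqMap x (awayθ f (X ^ n)) = f • x (n + 1) - x n := by
  rw [awayθ_X_pow, map_sub, map_smul, seqMap_X_pow, seqMap_X_pow]

lemma lhom_ext_X_pow {φ ψ : A[X] →ₗ[A] M} (h : ∀ n : ℕ, φ (X ^ n) = ψ (X ^ n)) : φ = ψ := by
  apply Polynomial.lhom_ext'
  intro n
  apply LinearMap.ext_ring
  have := h n
  rw [Polynomial.X_pow_eq_monomial] at this
  exact this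

lemma homZ_zero_iff (f : A) (X : Dual.D A) :
    HomZ f 0 X ↔ Subsingleton (Dual.inD A (Localization.Away f) ⟶ X) :=
  ⟨fun h => subsingleton_hom_of_iso ((shiftFunctorZero (Dual.D A) ℤ).app X) h,
   fun h => subsingleton_hom_of_iso ((shiftFunctorZero (Dual.D A) ℤ).app X).symm h⟩

/-- `θ` as a morphism of `ModuleCat` -/
noncomputable def awayθm (f : A) : ModuleCat.of A A[X] ⟶ ModuleCat.of A A[X] :=
  ModuleCat.ofHom (awayθ f)

/-- `ε` as a morphism of `ModuleCat` -/
noncomputable def awayεm (f : A) : ModuleCat.of A A[X] ⟶ ModuleCat.of A (Localization.Away f) :=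
  ModuleCat.ofHom (awayε f)

/-- the connecting morphism -/
noncomputable def awayδ (f : A) : Sg 0 (ModuleCat.of A (Localization.Away f)) ⟶
    (Sg 0 (ModuleCat.of A A[X]))⟦(1 : ℤ)⟧ :=
  (awaySC_shortExact f).singleδ

lemma awayTriangle_distinguished' (f : A) :
    Triangle.mk ((singleFunctor (ModuleCat.{u} A) 0).map (awayθm f))
      ((singleFunctor (ModuleCat.{u} A) 0).map (awayεm f)) (awayδ f) ∈ distTriang (Dual.D A) :=
  (awaySC_shortExact f).singleTriangle_distinguished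

lemma awayθm_comp_eq_zero (f : A) {N : ModuleCat.{u} A} (γ : ModuleCat.of A A[X] ⟶ N)
    (h : ∀ n : ℕ, γ.hom (awayθ f (X ^ n)) = 0) : awayθm f ≫ γ = 0 := by
  refine ModuleCat.hom_ext ?_
  apply lhom_ext_X_pow
  intro n
  exact h n

instance epi_awayεm (f : A) : Epi (awayεm f) :=
  (ModuleCat.epi_iff_surjective _).2 (awayε_surjective f)

lemma awayεm_desc (f : A) {N : ModuleCat.{u} A} (γ : ModuleCat.of A A[X] ⟶ N)
    (h : awayθm f ≫ γ = 0) : ∃ γ' : ModuleCat.of A (Localization.Away f) ⟶ N, awayεm f ≫ γ' = γ := by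
  haveI : Epi (awaySC f).g := (awaySC_shortExact f).epi_g
  exact ⟨(awaySC_shortExact f).exact.desc γ h, (awaySC_shortExact f).exact.g_desc γ h⟩

/-- `Hom(A_f, M) = 0` implies that there is no non-zero `f`-divisible sequence -/
theorem seq_eq_zero_of_homZ (f : A) (h : HomZ f 0 (Sg 0 (ModuleCat.of A M))) (x : ℕ → M)
    (hx : ∀ n, x n = f • x (n + 1)) : x = 0 := by
  rw [homZ_zero_iff] at h
  have hθ : awayθm f ≫ ModuleCat.ofHom (seqMap x) = 0 := by
    apply awayθm_comp_eq_zero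
    intro n
    change seqMap x (awayθ f (X ^ n)) = 0
    rw [seqMap_awayθ, ← hx n, sub_self]
  obtain ⟨γ', hγ'⟩ := awayεm_desc f _ hθ
  have h0 : γ' = 0 := by
    apply (singleFunctor (ModuleCat.{u} A) 0).map_injective
    exact h.elim _ _
  rw [h0, Limits.comp_zero] at hγ'
  funext n
  have h1 : seqMap x (X ^ n : A[X]) = 0 := by
    have := congrArg (fun t : ModuleCat.of A A[X] ⟶ ModuleCat.of A M => t.hom (X ^ n : A[X])) hγ'
    exact this.symm
  rw [seqMap_X_pow] at h1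
  exact h1

/-- `Ext¹(A_f, M) = 0` implies that `(w_n) ↦ (w_n - f w_{n+1})` is surjective -/
theorem exists_seq_of_homZ (f : A) (h : HomZ f 1 (Sg 0 (ModuleCat.of A M))) (z : ℕ → M) :
    ∃ w : ℕ → M, ∀ n, w n - f • w (n + 1) = z n := by
  have hT := awayTriangle_distinguished' f
  have hrot := rot_of_distTriang _ hT
  let ψ' : Sg 0 (ModuleCat.of A A[X]) ⟶ Sg 0 (ModuleCat.of A M) :=
    (singleFunctor (ModuleCat.{u} A) 0).map (ModuleCat.ofHom (seqMap z))
  have h1 : awayδ f ≫ ψ'⟦(1 : ℤ)⟧' = 0 := h.elim _ _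
  obtain ⟨g, hg⟩ : ∃ g : (Sg 0 (ModuleCat.of A A[X]))⟦(1 : ℤ)⟧ ⟶ (Sg 0 (ModuleCat.of A M))⟦(1 : ℤ)⟧,
      ψ'⟦(1 : ℤ)⟧' = (-((singleFunctor (ModuleCat.{u} A) 0).map (awayθm f))⟦(1 : ℤ)⟧') ≫ g :=
    Triangle.yoneda_exact₃ _ hrot (ψ'⟦(1 : ℤ)⟧') h1
  obtain ⟨g₀, rfl⟩ := (shiftFunctor (Dual.D A) (1 : ℤ)).map_surjective g
  obtain ⟨γ, rfl⟩ := (singleFunctor (ModuleCat.{u} A) 0).map_surjective g₀
  have h2 : ψ' = -((singleFunctor (ModuleCat.{u} A) 0).map (awayθm f ≫ γ)) := by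
    apply (shiftFunctor (Dual.D A) (1 : ℤ)).map_injective
    rw [hg, Functor.map_neg, Functor.map_comp, Functor.map_comp, Preadditive.neg_comp]
  have h3 : ModuleCat.ofHom (seqMap z) = -(awayθm f ≫ γ) := by
    apply (singleFunctor (ModuleCat.{u} A) 0).map_injective
    rw [Functor.map_neg]
    exact h2
  refine ⟨fun n => γ.hom (X ^ n), fun n => ?_⟩
  have h4 : seqMap z (X ^ n : A[X]) = -(γ.hom (awayθ f (X ^ n))) :=
    congrArg (fun t : ModuleCat.of A A[X] ⟶ ModuleCat.of A M => t.hom (X ^ n : A[X])) h3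
  rw [seqMap_X_pow, awayθ_X_pow, map_sub, map_smul] at h4
  rw [h4]
  abel

/-- the sequence criterion for derived `f`-completeness -/
theorem fc_of_seq (f : A) (hinj : ∀ x : ℕ → M, (∀ n, x n = f • x (n + 1)) → x = 0)
    (hsurj : ∀ z : ℕ → M, ∃ w : ℕ → M, ∀ n, w n - f • w (n + 1) = z n) :
    FC f (Sg 0 (ModuleCat.of A M)) := by
  rw [fc_Sg0_iff]
  constructor
  · rw [homZ_zero_iff]
    suffices H : ∀ ξ : Dual.inD A (Localization.Away f) ⟶ Sg 0 (ModuleCat.of A M), ξ = 0 from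
      ⟨fun a b => by rw [H a, H b]⟩
    intro ξ
    obtain ⟨γ, rfl⟩ := (singleFunctor (ModuleCat.{u} A) 0).map_surjective ξ
    have hx : (fun n : ℕ => γ.hom (awayε f (X ^ n))) = 0 := by
      refine hinj _ (fun n => ?_)
      have := (awayθε_exact f).apply_apply_eq_zero (X ^ n)
      rw [awayθ_X_pow, map_sub, map_smul, sub_eq_zero] at this
      change γ.hom (awayε f (X ^ n)) = f • γ.hom (awayε f (X ^ (n + 1)))
      rw [← this, map_smul]
    have hγ : awayεm f ≫ γ = 0 := by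
      refine ModuleCat.hom_ext ?_
      apply lhom_ext_X_pow
      intro n
      exact congrFun hx n
    have : γ = 0 := by rw [← cancel_epi (awayεm f), hγ, Limits.comp_zero]
    rw [this, Functor.map_zero]
  · suffices H : ∀ ξ : Dual.inD A (Localization.Away f) ⟶
        (Sg 0 (ModuleCat.of A M))⟦(1 : ℤ)⟧, ξ = 0 from ⟨fun a b => by rw [H a, H b]⟩
    intro ξ
    have hT := awayTriangle_distinguished' f
    have h1 : (singleFunctor (ModuleCat.{u} A) 0).map (awayεm f) ≫ ξ = 0 := by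
      haveI : ((Sg 0 (ModuleCat.of A M))⟦(1 : ℤ)⟧).IsLE (0 - 1) :=
        TStructure.t.isLE_shift _ 0 1 (0 - 1) (by omega)
      exact hom_Sg_eq_zero_of_isLE 0 (ModuleCat.of A A[X]) _ _
    obtain ⟨g, hg⟩ : ∃ g : (Sg 0 (ModuleCat.of A A[X]))⟦(1 : ℤ)⟧ ⟶
        (Sg 0 (ModuleCat.of A M))⟦(1 : ℤ)⟧, ξ = awayδ f ≫ g :=
      Triangle.yoneda_exact₃ _ hT ξ h1
    obtain ⟨g₀, rfl⟩ := (shiftFunctor (Dual.D A) (1 : ℤ)).map_surjective g
    obtain ⟨γ, rfl⟩ := (singleFunctor (ModuleCat.{u} A) 0).map_surjective g₀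
    obtain ⟨w, hw⟩ := hsurj (fun n => γ.hom (X ^ n))
    have h2 : γ = awayθm f ≫ ModuleCat.ofHom (seqMap (fun n => - w n)) := by
      refine ModuleCat.hom_ext ?_
      apply lhom_ext_X_pow
      intro n
      change γ.hom (X ^ n) = seqMap _ (awayθ f (X ^ n))
      rw [seqMap_awayθ, ← hw n]
      simp only [smul_neg]
      abel
    have h3 : awayδ f ≫ ((singleFunctor (ModuleCat.{u} A) 0).map (awayθm f))⟦(1 : ℤ)⟧' = 0 :=
      comp_distTriang_mor_zero₃₁ _ hT
    rw [hg, h2, Functor.map_comp, Functor.map_comp, ← Category.assoc, h3, Limits.zero_comp]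

end Groth.Agent.Lib.Helper18.DR
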