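import Mathlib

/-!
# Sequence calculus for derived completeness (pure algebra) (helper18)
-/

set_option autoImplicit false
universe u

namespace Groth.Agent.Lib.Helper18.DR

variable {A : Type u} [CommRing A] {M : Type u} [AddCommGroup M] [Module A M]

/-- no non-zero `f`-divisible sequences -/
def SeqInj (f : A) (M : Type u) [AddCommGroup M] [Module A M] : Prop :=
  ∀ x : ℕ → M, (∀ n, x n = f • x (n + 1)) → x = 0

/-- `(w_n) ↦ (w_n - f w_{n+1})` is surjective -/
def SeqSurj (f : A) (M : Type u) [AddCommGroup M] [Module A M] : Prop :=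
  ∀ z : ℕ → M, ∃ w : ℕ → M, ∀ n, w n - f • w (n + 1) = z n

lemma seq_pow_smul {f : A} (x : ℕ → M) (hx : ∀ n, x n = f • x (n + 1)) (n k : ℕ) :
    x n = f ^ k • x (n + k) := by
  induction k with
  | zero => simp
  | succ k ih => rw [ih, hx (n + k), smul_smul, pow_succ, add_assoc]

lemma pow_smul_mem (I : Ideal A) {f : A} (hf : f ∈ I) (k : ℕ) (m : M) :
    f ^ k • m ∈ (I ^ k • ⊤ : Submodule A M) :=
  Submodule.smul_mem_smul (Ideal.pow_mem_pow hf k) Submodule.mem_top

theorem seqInj_of_isHausdorff (I : Ideal A) {f : A} (hf : f ∈ I) [IsHausdorff I M] :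
    SeqInj f M := by
  intro x hx
  funext n
  refine IsHausdorff.haus' (I := I) (x n) (fun k => ?_)
  rw [SModEq.zero, seq_pow_smul x hx n k]
  exact pow_smul_mem I hf k _

/-- partial sums of `∑ f^j z_{n+j}` -/
def psum (f : A) (z : ℕ → M) (n k : ℕ) : M := ∑ j ∈ Finset.range k, f ^ j • z (n + j)

lemma psum_succ' (f : A) (z : ℕ → M) (n k : ℕ) :
    psum f z n (k + 1) = z n + f • psum f z (n + 1) k := by
  unfold psum
  rw [Finset.sum_range_succ', Finset.smul_sum, add_comm]
  congr 1
  · simp
  · refine Finset.sum_congr rfl (fun j _ => ?_)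
    rw [smul_smul, pow_succ', add_assoc, add_comm 1 j]

lemma psum_cauchy (I : Ideal A) {f : A} (hf : f ∈ I) (z : ℕ → M) (n : ℕ) {k k' : ℕ} (h : k ≤ k') :
    psum f z n k ≡ psum f z n k' [SMOD (I ^ k • ⊤ : Submodule A M)] := by
  rw [SModEq.comm, SModEq.sub_mem]
  unfold psum
  rw [← Finset.sum_sdiff (Finset.range_subset_range.2 h), add_sub_cancel_right]
  refine Submodule.sum_mem _ (fun j hj => ?_)
  have hj' : k ≤ j := by
    simp only [Finset.mem_sdiff, Finset.mem_range, not_lt] at hj
    exact hj.2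
  exact Submodule.smul_mono_left (Ideal.pow_le_pow_right hj') (pow_smul_mem I hf j _)

theorem seqSurj_of_isAdicComplete (I : Ideal A) {f : A} (hf : f ∈ I) [IsAdicComplete I M] :
    SeqSurj f M := by
  intro z
  have hL : ∀ n : ℕ, ∃ L : M, ∀ k, psum f z n k ≡ L [SMOD (I ^ k • ⊤ : Submodule A M)] :=
    fun n => IsPrecomplete.prec' (I := I) _ (fun h => psum_cauchy I hf z n h)
  choose w hw using hL
  refine ⟨w, fun n => ?_⟩
  rw [sub_eq_iff_eq_add, ← sub_eq_zero]
  refine IsHausdorff.haus' (I := I) _ (fun k => ?_)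
  rw [SModEq.zero]
  have h1 : psum f z n (k + 1) - w n ∈ (I ^ k • ⊤ : Submodule A M) := by
    have := hw n (k + 1)
    rw [SModEq.sub_mem] at this
    exact Submodule.smul_mono_left (Ideal.pow_le_pow_right (Nat.le_succ k)) this
  have h2 : psum f z (n + 1) k - w (n + 1) ∈ (I ^ k • ⊤ : Submodule A M) := by
    have := hw (n + 1) k
    rwa [SModEq.sub_mem] at this
  have h3 : w n - (z n + f • w (n + 1)) =
      -(psum f z n (k + 1) - w n) + f • (psum f z (n + 1) k - w (n + 1)) := by
    rw [psum_succ', smul_sub]; abel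
  rw [h3]
  exact Submodule.add_mem _ (Submodule.neg_mem _ h1) (Submodule.smul_mem _ _ h2)

/-- Nakayama, principal case -/
theorem subsingleton_of_seqInj {f : A} (h : SeqInj f M) (hs : ∀ m : M, ∃ m' : M, f • m' = m) :
    Subsingleton M := by
  choose g hg using hs
  refine ⟨fun a b => ?_⟩
  suffices H : ∀ m : M, m = 0 by rw [H a, H b]
  intro m
  let x : ℕ → M := fun n => g^[n] m
  have hx : ∀ n, x n = f • x (n + 1) := fun n => by
    change g^[n] m = f • g^[n + 1] m
    rw [Function.iterate_succ_apply', hg]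
  have := congrFun (h x hx) 0
  exact this

/-- the annihilation statement -/
theorem smul_eq_zero_of_seqInj {f : A} (h : SeqInj f M) (a : A) (x : M)
    (ha : ∀ n : ℕ, ∃ b : A, a = b * f ^ n) (hx : ∀ n : ℕ, ∃ y : M, x = f ^ n • y) :
    a • x = 0 := by
  choose b hb using ha
  choose y hy using hx
  have h1 : ∀ n, b n • x = f • (b (n + 1) • x) := by
    intro n
    rw [← sub_eq_zero, smul_smul, ← sub_smul]
    nth_rewrite 1 [hy n]
    rw [smul_smul]
    have : (b n - f * b (n + 1)) * f ^ n = 0 := by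
      have e1 := hb n
      have e2 := hb (n + 1)
      rw [pow_succ] at e2
      rw [sub_mul, ← e1]
      rw [show f * b (n + 1) * f ^ n = b (n + 1) * (f ^ n * f) by ring, ← e2, sub_self]
    rw [this, zero_smul]
  have h2 := congrFun (h (fun n => b n • x) h1) 0
  have h3 : a = b 0 := by simpa using hb 0
  rw [h3]
  exact h2

end Groth.Agent.Lib.Helper18.DR
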