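import Mathlib
import Groth.Agent.Lib.Helper18.DRDC5
import Groth.Agent.Lib.Helper18.DRSeq

/-!
# Derived completeness of modules: applications of the sequence criterion (helper18)
-/

set_option autoImplicit false
set_option linter.style.haveILetI false
universe u
open CategoryTheory CategoryTheory.Limits CategoryTheory.Pretriangulated DerivedCategory

attribute [local instance] HasDerivedCategory.standard

namespace Groth.Agent.Lib.Helper18.DR

variable {A : Type u} [CommRing A] {M : Type u} [AddCommGroup M] [Module A M]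

lemma seqInj_of_fc {f : A} (h : FC f (Sg 0 (ModuleCat.of A M))) : SeqInj f M :=
  fun x hx => seq_eq_zero_of_homZ f (h 0) x hx

lemma seqSurj_of_fc {f : A} (h : FC f (Sg 0 (ModuleCat.of A M))) : SeqSurj f M :=
  fun z => exists_seq_of_homZ f (h 1) z

lemma fc_of_seqInj_seqSurj {f : A} (h₁ : SeqInj f M) (h₂ : SeqSurj f M) :
    FC f (Sg 0 (ModuleCat.of A M)) :=
  fc_of_seq f h₁ h₂

/-- adically complete modules are derived complete -/
theorem isDerivedComplete_of_isAdicComplete (I : Ideal A) [IsAdicComplete I M] :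
    DRing.IsDerivedComplete I (Dual.inD A M) :=
  fun _ hf => fc_of_seqInj_seqSurj (seqInj_of_isHausdorff I hf) (seqSurj_of_isAdicComplete I hf)

/-- Nakayama for derived complete modules, finset version -/
theorem nakayama_fc (s : Finset A) : ∀ (M : Type u) [AddCommGroup M] [Module A M],
    (∀ f ∈ s, FC f (Sg 0 (ModuleCat.of A M))) →
    (Ideal.span (s : Set A)) • (⊤ : Submodule A M) = ⊤ → Subsingleton M := by
  classical
  induction s using Finset.induction_on with
  | empty =>
    intro M _ _ _ h
    simp only [Finset.coe_empty, Ideal.span_empty, Submodule.bot_smul] at h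
    exact (Submodule.subsingleton_iff A).1 (subsingleton_of_bot_eq_top h)
  | insert a s ha ih =>
    intro M _ _ hM h
    have hMa : FC a (Sg 0 (ModuleCat.of A M)) := hM a (Finset.mem_insert_self a s)
    let u : M →ₗ[A] M := LinearMap.lsmul A M a
    have hcoker : ∀ f ∈ s, FC f (Sg 0 (ModuleCat.of A (M ⧸ LinearMap.range u))) := fun f hf =>
      (fc_ker_coker f u (hM f (Finset.mem_insert_of_mem hf)) (hM f (Finset.mem_insert_of_mem hf))).2
    have htop : (Ideal.span (s : Set A)) • (⊤ : Submodule A (M ⧸ LinearMap.range u)) = ⊤ := by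
      rw [eq_top_iff]
      rintro x -
      obtain ⟨m, rfl⟩ := Submodule.mkQ_surjective _ x
      have hm : m ∈ (Ideal.span ((insert a s : Finset A) : Set A)) • (⊤ : Submodule A M) := by
        rw [h]; trivial
      rw [Finset.coe_insert, Ideal.span_insert, Submodule.sup_smul, Submodule.mem_sup] at hm
      obtain ⟨m₁, hm₁, m₂, hm₂, rfl⟩ := hm
      have h1 : (LinearMap.range u).mkQ m₁ = 0 := by
        rw [Submodule.mkQ_apply, Submodule.Quotient.mk_eq_zero]
        rw [Submodule.ideal_span_singleton_smul] at hm₁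
        obtain ⟨m', -, rfl⟩ := (Submodule.mem_smul_pointwise_iff_exists _ _ _).1 hm₁
        exact ⟨m', rfl⟩
      rw [map_add, h1, zero_add]
      have h2 : (LinearMap.range u).mkQ m₂ ∈ Submodule.map (LinearMap.range u).mkQ
          ((Ideal.span (s : Set A)) • (⊤ : Submodule A M)) := ⟨m₂, hm₂, rfl⟩
      rw [Submodule.map_smul''] at h2
      exact Submodule.smul_mono le_rfl le_top h2
    haveI := ih (M ⧸ LinearMap.range u) hcoker htop
    have hrange : LinearMap.range u = ⊤ := Submodule.Quotient.subsingleton_iff.1 this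
    refine subsingleton_of_seqInj (seqInj_of_fc hMa) (fun m => ?_)
    have : m ∈ LinearMap.range u := by rw [hrange]; trivial
    obtain ⟨m', hm'⟩ := this
    exact ⟨m', hm'⟩

/-- Nakayama for derived complete modules -/
theorem nakayama_isDerivedComplete (I : Ideal A) (hI : I.FG)
    (hc : DRing.IsDerivedComplete I (Dual.inD A M)) (h : I • (⊤ : Submodule A M) = ⊤) :
    Subsingleton M := by
  obtain ⟨s, rfl⟩ := hI
  exact nakayama_fc s M (fun f hf => hc f (Ideal.subset_span hf)) h

/-- `⋂ fⁿA` kills `⋂ fⁿM` for a derived `f`-complete module `M` -/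
theorem iInf_smul_iInf_eq_bot (f : A) (hc : DRing.IsDerivedComplete (Ideal.span {f}) (Dual.inD A M)) :
    (⨅ n : ℕ, Ideal.span {f ^ n}) • (⨅ n : ℕ, (Ideal.span {f ^ n}) • (⊤ : Submodule A M)) =
      (⊥ : Submodule A M) := by
  rw [eq_bot_iff, Submodule.smul_le]
  intro a ha x hx
  rw [Submodule.mem_bot]
  have hfc : FC f (Sg 0 (ModuleCat.of A M)) := hc f (Ideal.mem_span_singleton_self f)
  refine smul_eq_zero_of_seqInj (seqInj_of_fc hfc) a x (fun n => ?_) (fun n => ?_)
  · have := (Submodule.mem_iInf _).1 ha n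
    rw [Ideal.mem_span_singleton'] at this
    obtain ⟨b, hb⟩ := this
    exact ⟨b, hb.symm⟩
  · have := (Submodule.mem_iInf _).1 hx n
    rw [Submodule.ideal_span_singleton_smul] at this
    obtain ⟨y, -, hy⟩ := (Submodule.mem_smul_pointwise_iff_exists _ _ _).1 this
    exact ⟨y, hy.symm⟩

end Groth.Agent.Lib.Helper18.DR
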