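import Mathlib
import Groth.Agent.Lib.Helper18.DRSeq

/-!
# Derived complete modules surject onto their adic completions (pure algebra part) (helper18)
-/

set_option autoImplicit false
universe u
open Pointwise

namespace Groth.Agent.Lib.Helper18.DR

variable {A : Type u} [CommRing A] {M : Type u} [AddCommGroup M] [Module A M]

/-- summation of power series in `f` -/
lemma SeqSurj.exists_sum {f : A} (h : SeqSurj f M) (z : ℕ → M) :
    ∃ σ : M, ∀ n : ℕ, ∃ m : M, σ - ∑ k ∈ Finset.range n, f ^ k • z k = f ^ n • m := by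
  obtain ⟨w, hw⟩ := h z
  refine ⟨w 0, fun n => ⟨w n, ?_⟩⟩
  induction n with
  | zero => simp
  | succ n ih =>
    rw [Finset.sum_range_succ, ← sub_sub, ih, ← hw n, smul_sub, smul_smul, pow_succ]
    abel

lemma pow_le_iSup_span_pow (s : Finset A) (n : ℕ) :
    (Ideal.span (s : Set A)) ^ (s.card * n + 1) ≤ ⨆ g ∈ s, Ideal.span {g ^ n} := by
  classical
  induction s using Finset.induction_on with
  | empty => simp
  | insert a s ha ih =>
    rw [Finset.coe_insert, Ideal.span_insert, Finset.card_insert_of_notMem ha, Finset.iSup_insert]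
    have e : (s.card + 1) * n + 1 = n + (s.card * n + 1) := by ring
    rw [e]
    refine (Ideal.sup_pow_add_le_pow_sup_pow).trans (sup_le_sup ?_ ih)
    rw [Ideal.span_singleton_pow]

lemma exists_decomposition (s : Finset A) (n : ℕ) (x : M)
    (hx : x ∈ ((Ideal.span (s : Set A)) ^ (s.card * n + 1)) • (⊤ : Submodule A M)) :
    ∃ z : A → M, x = ∑ g ∈ s, g ^ n • z g := by
  have h1 : x ∈ (⨆ g ∈ s, Ideal.span {g ^ n}) • (⊤ : Submodule A M) :=
    Submodule.smul_mono_left (pow_le_iSup_span_pow s n) hx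
  have h2 : (⨆ g ∈ s, Ideal.span {g ^ n}) • (⊤ : Submodule A M) =
      ⨆ g ∈ s, (g ^ n) • (⊤ : Submodule A M) := by
    rw [Submodule.iSup_smul]
    congr 1
    funext g
    rw [Submodule.iSup_smul]
    congr 1
    funext _
    rw [Submodule.ideal_span_singleton_smul]
  rw [h2, Submodule.mem_iSup_finset_iff_exists_sum] at h1
  obtain ⟨μ, hμ⟩ := h1
  have h3 : ∀ g : A, ∃ m : M, g ^ n • m = (μ g : M) := fun g => by
    obtain ⟨m, -, hm⟩ := (Submodule.mem_smul_pointwise_iff_exists _ _ _).1 (μ g).2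
    exact ⟨m, hm⟩
  choose z hz using h3
  refine ⟨z, ?_⟩
  rw [← hμ]
  exact Finset.sum_congr rfl (fun g _ => (hz g).symm)

theorem isPrecomplete_of_seqSurj (s : Finset A) (hs : ∀ g ∈ s, SeqSurj g M) :
    IsPrecomplete (Ideal.span (s : Set A)) M := by
  classical
  refine ⟨fun y hy => ?_⟩
  let e : ℕ → ℕ := fun n => s.card * n + 1 + n
  have he : ∀ n, e n ≤ e (n + 1) := fun n => by
    simp only [e]; nlinarith
  have hdec : ∀ n, ∃ z : A → M, y (e (n + 1)) - y (e n) = ∑ g ∈ s, g ^ n • z g := by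
    intro n
    apply exists_decomposition
    have h2 := hy (he n)
    rw [SModEq.comm, SModEq.sub_mem] at h2
    exact Submodule.smul_mono_left (Ideal.pow_le_pow_right (by simp only [e]; omega)) h2
  choose z hz using hdec
  have hσ : ∀ g ∈ s, ∃ σ : M, ∀ n : ℕ, ∃ m : M,
      σ - ∑ k ∈ Finset.range n, g ^ k • z k g = g ^ n • m :=
    fun g hg => (hs g hg).exists_sum (fun k => z k g)
  choose! σ hσ' using hσ
  refine ⟨y (e 0) + ∑ g ∈ s, σ g, fun n => ?_⟩
  have key : y (e 0) + ∑ g ∈ s, σ g - y (e n) ∈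
      ((Ideal.span (s : Set A)) ^ n • ⊤ : Submodule A M) := by
    have tel : y (e n) - y (e 0) = ∑ k ∈ Finset.range n, (y (e (k + 1)) - y (e k)) :=
      (Finset.sum_range_sub (fun k => y (e k)) n).symm
    have h4 : y (e 0) + ∑ g ∈ s, σ g - y (e n) =
        ∑ g ∈ s, (σ g - ∑ k ∈ Finset.range n, g ^ k • z k g) := by
      rw [Finset.sum_sub_distrib, Finset.sum_comm]
      have : ∑ k ∈ Finset.range n, ∑ g ∈ s, g ^ k • z k g = y (e n) - y (e 0) := by
        rw [tel]
        exact Finset.sum_congr rfl (fun k _ => (hz k).symm)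
      rw [this]
      abel
    rw [h4]
    refine Submodule.sum_mem _ (fun g hg => ?_)
    obtain ⟨m, hm⟩ := hσ' g hg n
    rw [hm]
    exact pow_smul_mem _ (Ideal.subset_span hg) n m
  have h3 : y n ≡ y (e n) [SMOD ((Ideal.span (s : Set A)) ^ n • ⊤ : Submodule A M)] :=
    hy (by simp only [e]; omega)
  refine h3.trans ?_
  rw [SModEq.comm, SModEq.sub_mem]
  exact key

end Groth.Agent.Lib.Helper18.DR
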