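import Mathlib
import Groth.Agent.Lib.Helper18.DRDC6
import Groth.Agent.Lib.Helper18.DRSeq2

/-!
# Derived complete modules surject onto their adic completions (helper18)
-/

set_option autoImplicit false
universe u
open CategoryTheory CategoryTheory.Limits DerivedCategory

attribute [local instance] HasDerivedCategory.standard

namespace Groth.Agent.Lib.Helper18.DR

variable {A : Type u} [CommRing A] {M : Type u} [AddCommGroup M] [Module A M]

theorem isPrecomplete_of_isDerivedComplete (I : Ideal A) (hI : I.FG)
    (hc : DRing.IsDerivedComplete I (Dual.inD A M)) : IsPrecomplete I M := by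
  obtain ⟨s, rfl⟩ := hI
  exact isPrecomplete_of_seqSurj s (fun g hg => seqSurj_of_fc (hc g (Ideal.subset_span hg)))

theorem of_surjective_of_isDerivedComplete (I : Ideal A) (hI : I.FG)
    (hc : DRing.IsDerivedComplete I (Dual.inD A M)) :
    Function.Surjective (AdicCompletion.of I M) :=
  AdicCompletion.of_surjective_iff.2 (isPrecomplete_of_isDerivedComplete I hI hc)

end Groth.Agent.Lib.Helper18.DR
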