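import Mathlib
import Groth.Agent.Lib.Helper18.DRSeq2

/-!
# Nilpotence of `⋂ Iⁿ` for derived complete rings (pure algebra part) (helper18)
-/

set_option autoImplicit false
universe u

namespace Groth.Agent.Lib.Helper18.DR

section Modules

variable {A : Type u} [CommRing A] {M N Q : Type u} [AddCommGroup M] [Module A M]
  [AddCommGroup N] [Module A N] [AddCommGroup Q] [Module A Q]

lemma seqSurj_of_surjective {g : A} (π : N →ₗ[A] Q) (hπ : Function.Surjective π)
    (hN : SeqSurj g N) : SeqSurj g Q := by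
  intro z
  choose z' hz' using fun n => hπ (z n)
  obtain ⟨w, hw⟩ := hN z'
  refine ⟨fun n => π (w n), fun n => ?_⟩
  rw [← map_smul, ← map_sub, hw n, hz']

lemma seqInj_of_exact {g : A} (u : M →ₗ[A] N) (π : N →ₗ[A] Q) (hπ : Function.Surjective π)
    (hπu : ∀ m : M, π (u m) = 0)
    (hex : ∀ y : N, π y = 0 → ∃ m : M, u m = y) (hN : SeqInj g N) (hM : SeqSurj g M) :
    SeqInj g Q := by
  intro x hx
  choose x' hx' using fun n => hπ (x n)
  have h1 : ∀ n, ∃ m : M, u m = x' n - g • x' (n + 1) := fun n => by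
    apply hex
    rw [map_sub, map_smul, hx', hx', ← hx n, sub_self]
  choose m hm using h1
  obtain ⟨w, hw⟩ := hM m
  have h2 : (fun n => x' n - u (w n)) = 0 := by
    apply hN
    intro n
    have := hm n
    rw [← hw n, map_sub, map_smul] at this
    rw [smul_sub]
    rw [sub_eq_sub_iff_add_eq_add] at this ⊢
    rw [← this]; abel
  funext n
  have h3 := congrFun h2 n
  simp only [Pi.zero_apply, sub_eq_zero] at h3
  rw [← hx' n, h3, hπu]
  rfl

end Modules

section Rings

lemma seqInj_quotient {B : Type u} [CommRing B] (𝔞 : Ideal B) (g : B) (h : SeqInj g (B ⧸ 𝔞)) :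
    SeqInj (Ideal.Quotient.mk 𝔞 g) (B ⧸ 𝔞) := by
  intro x hx
  apply h
  intro n
  rw [hx n]
  obtain ⟨b, hb⟩ := Ideal.Quotient.mk_surjective (x (n + 1))
  rw [← hb]
  rfl

lemma seqSurj_quotient {B : Type u} [CommRing B] (𝔞 : Ideal B) (g : B) (h : SeqSurj g (B ⧸ 𝔞)) :
    SeqSurj (Ideal.Quotient.mk 𝔞 g) (B ⧸ 𝔞) := by
  intro z
  obtain ⟨w, hw⟩ := h z
  refine ⟨w, fun n => ?_⟩
  rw [← hw n]
  obtain ⟨b, hb⟩ := Ideal.Quotient.mk_surjective (w (n + 1))
  rw [← hb]
  rfl

theorem iInf_pow_pow_eq_bot : ∀ (r : ℕ) (B : Type u) [CommRing B] (t : Finset B), t.card ≤ r →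
    (∀ g ∈ t, SeqInj g B ∧ SeqSurj g B) →
    (⨅ n : ℕ, (Ideal.span (t : Set B)) ^ n) ^ (2 ^ r) = ⊥ := by
  intro r
  induction r with
  | zero =>
    intro B _ t ht _
    have : t = ∅ := Finset.card_eq_zero.1 (Nat.le_zero.1 ht)
    subst this
    rw [pow_zero, pow_one, eq_bot_iff]
    refine (iInf_le _ 1).trans ?_
    simp
  | succ r ih =>
    intro B _ t ht h
    classical
    by_cases hte : t = ∅
    · subst hte
      rw [eq_bot_iff]
      refine (Ideal.pow_le_self (by positivity)).trans ((iInf_le _ 1).trans ?_)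
      simp
    obtain ⟨f, hf⟩ := Finset.nonempty_iff_ne_empty.2 hte
    have hcard : (t.erase f).card ≤ r := by rw [Finset.card_erase_of_mem hf]; omega
    have hspan : Ideal.span (t : Set B) = Ideal.span ((t.erase f : Finset B) : Set B) ⊔
        Ideal.span {f} := by
      conv_lhs => rw [← Finset.insert_erase hf, Finset.coe_insert, Ideal.span_insert, sup_comm]
    have key : ∀ n : ℕ, (⨅ n : ℕ, (Ideal.span (t : Set B)) ^ n) ^ (2 ^ r) ≤ Ideal.span {f ^ n} := by
      intro n
      have hyp : ∀ g' ∈ (t.erase f).image (Ideal.Quotient.mk (Ideal.span {f ^ n})),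
          SeqInj g' (B ⧸ Ideal.span {f ^ n}) ∧ SeqSurj g' (B ⧸ Ideal.span {f ^ n}) := by
        intro g' hg'
        obtain ⟨g, hg, rfl⟩ := Finset.mem_image.1 hg'
        obtain ⟨hi, hs⟩ := h g (Finset.mem_of_mem_erase hg)
        constructor
        · apply seqInj_quotient
          refine seqInj_of_exact (LinearMap.mulLeft B (f ^ n)) (Submodule.mkQ _)
            (Submodule.mkQ_surjective _) (fun m => ?_) (fun y hy => ?_) hi hs
          · rw [Submodule.mkQ_apply, Submodule.Quotient.mk_eq_zero, LinearMap.mulLeft_apply]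
            exact Ideal.mul_mem_right _ _ (Ideal.mem_span_singleton_self _)
          · rw [Submodule.mkQ_apply, Submodule.Quotient.mk_eq_zero,
              Ideal.mem_span_singleton'] at hy
            obtain ⟨b, hb⟩ := hy
            exact ⟨b, by rw [LinearMap.mulLeft_apply, mul_comm]; exact hb⟩
        · apply seqSurj_quotient
          exact seqSurj_of_surjective (Submodule.mkQ _) (Submodule.mkQ_surjective _) hs
      have hIH := ih (B ⧸ Ideal.span {f ^ n})
        ((t.erase f).image (Ideal.Quotient.mk (Ideal.span {f ^ n})))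
        (Finset.card_image_le.trans hcard) hyp
      have hmap : (⨅ n : ℕ, (Ideal.span (t : Set B)) ^ n).map
          (Ideal.Quotient.mk (Ideal.span {f ^ n})) ≤
          ⨅ m : ℕ, (Ideal.span (((t.erase f).image
            (Ideal.Quotient.mk (Ideal.span {f ^ n})) : Finset _) : Set (B ⧸ Ideal.span {f ^ n}))) ^ m := by
        refine le_iInf (fun m => ?_)
        rw [Finset.coe_image, ← Ideal.map_span, ← Ideal.map_pow]
        have h1 : (⨅ n : ℕ, (Ideal.span (t : Set B)) ^ n) ≤
            (Ideal.span ((t.erase f : Finset B) : Set B)) ^ m ⊔ Ideal.span {f ^ n} := by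
          refine (iInf_le _ (m + n)).trans ?_
          rw [hspan]
          refine Ideal.sup_pow_add_le_pow_sup_pow.trans ?_
          rw [Ideal.span_singleton_pow]
        refine (Ideal.map_mono h1).trans ?_
        rw [Ideal.map_sup]
        have : (Ideal.span {f ^ n}).map (Ideal.Quotient.mk (Ideal.span {f ^ n})) = ⊥ := by
          rw [Ideal.map_eq_bot_iff_le_ker, Ideal.mk_ker]
        rw [this, sup_bot_eq]
      have h2 : ((⨅ n : ℕ, (Ideal.span (t : Set B)) ^ n) ^ (2 ^ r)).map
          (Ideal.Quotient.mk (Ideal.span {f ^ n})) = ⊥ := by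
        rw [Ideal.map_pow, eq_bot_iff, ← hIH]
        exact Ideal.pow_right_mono hmap _
      rw [Ideal.map_eq_bot_iff_le_ker, Ideal.mk_ker] at h2
      exact h2
    have hJf : (⨅ n : ℕ, (Ideal.span (t : Set B)) ^ n) ^ (2 ^ r) ≤ ⨅ n : ℕ, Ideal.span {f ^ n} :=
      le_iInf key
    obtain ⟨hfi, -⟩ := h f hf
    rw [pow_succ, pow_mul, pow_two, eq_bot_iff]
    refine (Ideal.mul_mono hJf hJf).trans ?_
    rw [Ideal.mul_le]
    intro a ha x hx
    rw [Ideal.mem_bot]
    refine smul_eq_zero_of_seqInj hfi a x (fun n => ?_) (fun n => ?_)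
    · have := (Ideal.mem_iInf).1 ha n
      rw [Ideal.mem_span_singleton'] at this
      obtain ⟨b, hb⟩ := this
      exact ⟨b, hb.symm⟩
    · have := (Ideal.mem_iInf).1 hx n
      rw [Ideal.mem_span_singleton'] at this
      obtain ⟨b, hb⟩ := this
      exact ⟨b, by rw [smul_eq_mul, mul_comm]; exact hb.symm⟩

end Rings

end Groth.Agent.Lib.Helper18.DR
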