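import Mathlib
import Groth.Agent.Lib.Helper18.DRDC7
import Groth.Agent.Lib.Helper18.DRSeq3

/-!
# Nilpotence of `⋂ Iⁿ` for derived complete rings; reduced derived complete rings (helper18)
-/

set_option autoImplicit false
universe u
open CategoryTheory CategoryTheory.Limits DerivedCategory

attribute [local instance] HasDerivedCategory.standard

namespace Groth.Agent.Lib.Helper18.DR

variable {A : Type u} [CommRing A]

theorem iInf_pow_pow_card_eq_bot (I : Ideal A) (s : Finset A) (hs : Ideal.span (s : Set A) = I)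
    (hc : DRing.IsDerivedComplete I (Dual.inD A A)) :
    (⨅ n : ℕ, I ^ n) ^ (2 ^ s.card) = ⊥ := by
  subst hs
  exact iInf_pow_pow_eq_bot s.card A s le_rfl (fun g hg =>
    ⟨seqInj_of_fc (hc g (Ideal.subset_span hg)), seqSurj_of_fc (hc g (Ideal.subset_span hg))⟩)

theorem isAdicComplete_of_isReduced [IsReduced A] (I : Ideal A) (hI : I.FG)
    (hc : DRing.IsDerivedComplete I (Dual.inD A A)) : IsAdicComplete I A := by
  haveI : IsPrecomplete I A := isPrecomplete_of_isDerivedComplete I hI hc
  obtain ⟨s, hs⟩ := hI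
  have h1 := iInf_pow_pow_card_eq_bot I s hs hc
  haveI : IsHausdorff I A := by
    refine ⟨fun x hx => ?_⟩
    have hxJ : x ∈ ⨅ n : ℕ, I ^ n := by
      rw [Ideal.mem_iInf]
      intro n
      have := hx n
      rw [SModEq.zero, smul_eq_mul, Ideal.mul_top] at this
      exact this
    have h2 : x ^ (2 ^ s.card) ∈ (⨅ n : ℕ, I ^ n) ^ (2 ^ s.card) := Ideal.pow_mem_pow hxJ _
    rw [h1, Ideal.mem_bot] at h2
    exact IsReduced.eq_zero _ ⟨_, h2⟩
  exact {}

end Groth.Agent.Lib.Helper18.DR
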