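import Mathlib
import Groth.Agent.Lib.Helper18.DRSeq3

/-!
# Derived complete power-torsion modules have bounded torsion (pure algebra part) (helper18)
-/

set_option autoImplicit false
universe u

namespace Groth.Agent.Lib.Helper18.DR

variable {A : Type u} [CommRing A] {M : Type u} [AddCommGroup M] [Module A M]

/-- the submodule `fⁿM` -/
def pr (f : A) (n : ℕ) : Submodule A M := LinearMap.range (LinearMap.lsmul A M (f ^ n))

lemma mem_pr {f : A} {n : ℕ} {m : M} : m ∈ pr f n ↔ ∃ y : M, f ^ n • y = m := by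
  simp [pr, LinearMap.mem_range]

lemma pr_antitone (f : A) {n n' : ℕ} (h : n ≤ n') : (pr f n' : Submodule A M) ≤ pr f n := by
  intro m hm
  obtain ⟨y, rfl⟩ := mem_pr.1 hm
  refine mem_pr.2 ⟨f ^ (n' - n) • y, ?_⟩
  rw [smul_smul, ← pow_add, Nat.add_sub_cancel' h]

lemma pow_smul_mem_pr (f : A) (n : ℕ) (y : M) : f ^ n • y ∈ pr f n := mem_pr.2 ⟨y, rfl⟩

lemma exists_seq_rel {S : Type*} (R : ℕ → S → S → Prop) (h : ∀ j s, ∃ s', R j s s') (s₀ : S) :
    ∃ seq : ℕ → S, seq 0 = s₀ ∧ ∀ j, R j (seq j) (seq (j + 1)) := by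
  choose g hg using h
  exact ⟨fun n => Nat.rec s₀ (fun j s => g j s) n, rfl, fun j => hg j _⟩

/-- the diagonal argument: if `M` is `f`-power torsion and series in `f` can be summed, then
some `f^N M` is contained in all `fⁿM` -/
theorem exists_pow_smul_mem_pr {f : A} (hS : SeqSurj f M) (hT : ∀ m : M, ∃ c : ℕ, f ^ c • m = 0) :
    ∃ N : ℕ, ∀ (m : M) (n : ℕ), f ^ N • m ∈ pr f n := by
  by_contra hcon
  push_neg at hcon
  -- one step
  have hstep : ∀ (j : ℕ) (s : M × ℕ), ∃ s' : M × ℕ, ∃ (y : M) (e : ℕ),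
      s.2 ≤ e ∧ j ≤ e ∧ e < s'.2 ∧ s'.1 = s.1 + f ^ e • y ∧ f ^ j • s'.1 ∉ pr f s'.2 := by
    rintro j ⟨U, K⟩
    obtain ⟨m, n₀, hm⟩ := hcon (j + max K j)
    by_cases hA : ∃ n₁, f ^ j • U ∉ pr f n₁
    · obtain ⟨n₁, hn₁⟩ := hA
      refine ⟨(U, max n₁ (max K j + 1)), 0, max K j, le_max_left _ _, le_max_right _ _, ?_, by simp,
        fun h => hn₁ (pr_antitone f (le_max_left _ _) h)⟩
      exact lt_of_lt_of_le (Nat.lt_succ_self _) (le_max_right _ _)
    · push_neg at hA
      refine ⟨(U + f ^ (max K j) • m, max n₀ (max K j + 1)), m, max K j, le_max_left _ _,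
        le_max_right _ _, ?_, rfl, fun h => hm ?_⟩
      · exact lt_of_lt_of_le (Nat.lt_succ_self _) (le_max_right _ _)
      · have h1 := pr_antitone f (le_max_left n₀ (max K j + 1)) h
        rw [smul_add, smul_smul, ← pow_add] at h1
        exact (Submodule.add_mem_iff_right _ (hA n₀)).1 h1
  obtain ⟨st, hst0, hst⟩ := exists_seq_rel
    (fun j (s s' : M × ℕ) => ∃ (y : M) (e : ℕ),
      s.2 ≤ e ∧ j ≤ e ∧ e < s'.2 ∧ s'.1 = s.1 + f ^ e • y ∧ f ^ j • s'.1 ∉ pr f s'.2) hstep (0, 0)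
  choose y e h1 h2 h3 h4 h5 using hst
  -- the series
  let z : ℕ → M := fun j => f ^ (e j - j) • y j
  have hz : ∀ j, f ^ j • z j = f ^ (e j) • y j := fun j => by
    simp only [z]
    rw [smul_smul, ← pow_add, Nat.add_sub_cancel' (h2 j)]
  have hU : ∀ j, (st j).1 = ∑ i ∈ Finset.range j, f ^ i • z i := by
    intro j
    induction j with
    | zero => simp [hst0]
    | succ j ih => rw [Finset.sum_range_succ, ← ih, hz, h4]
  have hKmono : ∀ j k, j ≤ k → (st j).2 ≤ (st k).2 := by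
    intro j k hjk
    induction k, hjk using Nat.le_induction with
    | base => exact le_rfl
    | succ k _ ih => exact ih.trans ((h1 k).trans (h3 k).le)
  have htail : ∀ j k, j + 1 ≤ k → (st k).1 - (st (j + 1)).1 ∈ pr f (st (j + 1)).2 := by
    intro j k hjk
    induction k, hjk using Nat.le_induction with
    | base => simp
    | succ k hk ih =>
      rw [h4 k, add_sub_right_comm]
      refine Submodule.add_mem _ ih ?_
      exact pr_antitone f ((hKmono _ _ hk).trans (h1 k)) (pow_smul_mem_pr f _ _)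
  obtain ⟨σ, hσ⟩ := hS.exists_sum z
  obtain ⟨c, hc⟩ := hT σ
  set K := (st (c + 1)).2 with hK
  have h6 : σ - (st (c + 1)).1 ∈ pr f K := by
    have h7 : σ - (st (max K (c + 1))).1 ∈ pr f K := by
      obtain ⟨m, hm⟩ := hσ (max K (c + 1))
      rw [hU, hm]
      exact pr_antitone f (le_max_left _ _) (pow_smul_mem_pr f _ _)
    have h8 := htail c (max K (c + 1)) (le_max_right _ _)
    have : σ - (st (c + 1)).1 = (σ - (st (max K (c + 1))).1) +
        ((st (max K (c + 1))).1 - (st (c + 1)).1) := by abel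
    rw [this]
    exact Submodule.add_mem _ h7 h8
  apply h5 c
  have : f ^ c • (st (c + 1)).1 = -(f ^ c • (σ - (st (c + 1)).1)) := by
    rw [smul_sub, hc]; abel
  rw [this]
  exact Submodule.neg_mem _ (Submodule.smul_mem _ _ h6)

/-- a derived `f`-complete `f`-power torsion module is killed by a power of `f` -/
theorem exists_pow_smul_eq_zero {f : A} (hI : SeqInj f M) (hS : SeqSurj f M)
    (hT : ∀ m : M, ∃ c : ℕ, f ^ c • m = 0) : ∃ N : ℕ, ∀ m : M, f ^ N • m = 0 := by
  obtain ⟨N, hN⟩ := exists_pow_smul_mem_pr hS hT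
  refine ⟨N, ?_⟩
  -- the submodule `E = f^N M` satisfies `fE = E`
  have hE : SeqInj f (pr f N : Submodule A M) := by
    intro x hx
    have := hI (fun n => (x n : M)) (fun n => by
      have := congrArg Subtype.val (hx n)
      simpa using this)
    funext n
    exact Subtype.ext (congrFun this n)
  haveI := subsingleton_of_seqInj hE (fun ⟨m, hm⟩ => by
    obtain ⟨y, rfl⟩ := mem_pr.1 hm
    obtain ⟨y', hy'⟩ := mem_pr.1 (hN y (N + 1))
    refine ⟨⟨f ^ N • y', pow_smul_mem_pr f N y'⟩, Subtype.ext ?_⟩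
    change f • f ^ N • y' = f ^ N • y
    rw [smul_smul, ← pow_succ', hy'])
  intro m
  have := Subsingleton.elim (⟨f ^ N • m, pow_smul_mem_pr f N m⟩ : (pr f N : Submodule A M)) 0
  exact congrArg Subtype.val this

end Groth.Agent.Lib.Helper18.DR
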