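import Mathlib
import Groth.Agent.Lib.Helper18.DRDC8
import Groth.Agent.Lib.Helper18.DRSeq4

/-!
# Derived complete power-torsion modules have bounded torsion (helper18)
-/

set_option autoImplicit false
universe u
open CategoryTheory CategoryTheory.Limits DerivedCategory

attribute [local instance] HasDerivedCategory.standard

namespace Groth.Agent.Lib.Helper18.DR

variable {A : Type u} [CommRing A] {M : Type u} [AddCommGroup M] [Module A M]

theorem exists_pow_smul_top_eq_bot (I : Ideal A) (hI : I.FG)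
    (hc : DRing.IsDerivedComplete I (Dual.inD A M)) (ht : LocCoh.IsPowerTorsion I M) :
    ∃ n : ℕ, I ^ n • (⊤ : Submodule A M) = ⊥ := by
  classical
  obtain ⟨s, rfl⟩ := hI
  have h1 : ∀ g ∈ s, ∃ N : ℕ, ∀ m : M, g ^ N • m = 0 := by
    intro g hg
    have hfc := hc g (Ideal.subset_span hg)
    refine exists_pow_smul_eq_zero (seqInj_of_fc hfc) (seqSurj_of_fc hfc) (fun m => ?_)
    obtain ⟨n, hn⟩ := ht m
    exact ⟨n, hn _ (Ideal.pow_mem_pow (Ideal.subset_span hg) n)⟩
  choose! N hN using h1
  refine ⟨s.card * (s.sup N) + 1, ?_⟩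
  rw [eq_bot_iff]
  intro x hx
  obtain ⟨z, rfl⟩ := exists_decomposition s (s.sup N) x hx
  rw [Submodule.mem_bot]
  refine Finset.sum_eq_zero (fun g hg => ?_)
  have hle : N g ≤ s.sup N := Finset.le_sup hg
  rw [← Nat.sub_add_cancel hle, pow_add, mul_smul, hN g hg, smul_zero]

end Groth.Agent.Lib.Helper18.DR
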