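import Mathlib
import Groth.Agent.Lib.Helper18.DRSeq4

/-!
# Derived complete rings are henselian (pure algebra part) (helper18)
-/

set_option autoImplicit false
universe u
open Polynomial

namespace Groth.Agent.Lib.Helper18.DR

variable {A : Type u} [CommRing A]

lemma isUnit_one_sub_of_seq {h : A} (hi : SeqInj h A) (hs : SeqSurj h A) : IsUnit (1 - h) := by
  obtain ⟨w, hw⟩ := hs (fun _ => 1)
  have h0 : (fun n => w (n + 1) - w n) = 0 := hi _ (fun n => by
    have e1 := hw n
    have e2 := hw (n + 1)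
    simp only [smul_eq_mul] at e1 e2 ⊢
    linear_combination e2 - e1)
  have h1 : w 1 = w 0 := by
    have := congrFun h0 0
    simpa [sub_eq_zero] using this
  have h2 := hw 0
  rw [zero_add, h1, smul_eq_mul] at h2
  exact isUnit_iff_exists_inv.2 ⟨w 0, by linear_combination h2⟩

lemma le_jacobson_bot_of_seq (I : Ideal A) (h : ∀ f ∈ I, SeqInj f A ∧ SeqSurj f A) :
    I ≤ Ideal.jacobson ⊥ := by
  intro f hf
  rw [Ideal.mem_jacobson_bot]
  intro y
  have hmem : -(f * y) ∈ I := I.neg_mem (I.mul_mem_right _ hf)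
  have := isUnit_one_sub_of_seq (h _ hmem).1 (h _ hmem).2
  rwa [sub_neg_eq_add, add_comm] at this

lemma eval_map_mk (𝔞 : Ideal A) (F : A[X]) (a : A) :
    (F.map (Ideal.Quotient.mk 𝔞)).eval (Ideal.Quotient.mk 𝔞 a) = Ideal.Quotient.mk 𝔞 (F.eval a) := by
  rw [eval_map, eval₂_at_apply]

/-- a nilpotent ideal is adically complete -/
lemma isAdicComplete_of_pow_eq_bot (J : Ideal A) (N : ℕ) (hJ : J ^ N = ⊥) : IsAdicComplete J A := by
  haveI : IsHausdorff J A := by
    refine ⟨fun x hx => ?_⟩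
    have := hx N
    rw [SModEq.zero, smul_eq_mul, Ideal.mul_top, hJ, Ideal.mem_bot] at this
    exact this
  haveI : IsPrecomplete J A := by
    refine ⟨fun y hy => ⟨y N, fun n => ?_⟩⟩
    by_cases hn : n ≤ N
    · exact hy hn
    · push_neg at hn
      have := hy hn.le
      rw [SModEq.sub_mem, smul_eq_mul, Ideal.mul_top, hJ, Ideal.mem_bot, sub_eq_zero] at this
      rw [this]
  exact {}

/-- the quotient by `⋂ Iⁿ` of a precomplete ring is adically complete -/
lemma isAdicComplete_quotient_iInf (I : Ideal A) [IsPrecomplete I A] :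
    IsAdicComplete (I.map (Ideal.Quotient.mk (⨅ n : ℕ, I ^ n))) (A ⧸ (⨅ n : ℕ, I ^ n)) := by
  set J := ⨅ n : ℕ, I ^ n with hJ
  have hsurj := Ideal.Quotient.mk_surjective (I := J)
  have hmem : ∀ (n : ℕ) (x : A), Ideal.Quotient.mk J x ∈ (I.map (Ideal.Quotient.mk J)) ^ n ↔
      x ∈ I ^ n := by
    intro n x
    rw [← Ideal.map_pow, Ideal.mem_map_iff_of_surjective _ hsurj]
    constructor
    · rintro ⟨y, hy, hyx⟩
      have h1 : y - x ∈ J := Ideal.Quotient.eq.1 hyx
      have h2 : y - x ∈ I ^ n := (iInf_le _ n : J ≤ I ^ n) h1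
      have : x = y - (y - x) := by ring
      rw [this]
      exact Ideal.sub_mem _ hy h2
    · intro hx
      exact ⟨x, hx, rfl⟩
  haveI : IsHausdorff (I.map (Ideal.Quotient.mk J)) (A ⧸ J) := by
    refine ⟨fun x hx => ?_⟩
    obtain ⟨x, rfl⟩ := hsurj x
    rw [Ideal.Quotient.eq_zero_iff_mem, hJ, Ideal.mem_iInf]
    intro n
    have := hx n
    rw [SModEq.zero, smul_eq_mul, Ideal.mul_top, hmem] at this
    exact this
  haveI : IsPrecomplete (I.map (Ideal.Quotient.mk J)) (A ⧸ J) := by
    refine ⟨fun y hy => ?_⟩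
    choose y' hy' using fun n => hsurj (y n)
    have hc : ∀ {m n : ℕ}, m ≤ n → y' m ≡ y' n [SMOD (I ^ m • ⊤ : Submodule A A)] := by
      intro m n hmn
      have := hy hmn
      rw [SModEq.sub_mem, smul_eq_mul, Ideal.mul_top, ← hy' m, ← hy' n, ← map_sub, hmem] at this
      rw [SModEq.sub_mem, smul_eq_mul, Ideal.mul_top]
      exact this
    obtain ⟨L, hL⟩ := IsPrecomplete.prec' (I := I) y' hc
    refine ⟨Ideal.Quotient.mk J L, fun n => ?_⟩
    have := hL n
    rw [SModEq.sub_mem, smul_eq_mul, Ideal.mul_top] at this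
    rw [SModEq.sub_mem, smul_eq_mul, Ideal.mul_top, ← hy' n, ← map_sub, hmem]
    exact this
  exact {}

/-- Hensel's lemma when `⋂ Iⁿ` is nilpotent and `A` is `I`-adically precomplete -/
theorem hensel_of_precomplete (I : Ideal A) [IsPrecomplete I A] (hjac : I ≤ Ideal.jacobson ⊥)
    (N : ℕ) (hN : (⨅ n : ℕ, I ^ n) ^ N = ⊥)
    (F : A[X]) (hF : F.Monic) (a₀ : A) (h₁ : F.eval a₀ ∈ I) (b : A)
    (h₂ : b * F.derivative.eval a₀ - 1 ∈ I) : ∃ a : A, F.IsRoot a ∧ a - a₀ ∈ I := by
  set J := ⨅ n : ℕ, I ^ n with hJ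
  have hJI : J ≤ I := by
    have := (iInf_le _ 1 : J ≤ I ^ 1)
    rwa [pow_one] at this
  haveI := isAdicComplete_quotient_iInf I
  haveI := isAdicComplete_of_pow_eq_bot J N hN
  have hsurj := Ideal.Quotient.mk_surjective (I := J)
  -- first stage
  obtain ⟨abar, hroot, habar⟩ := HenselianRing.is_henselian (R := A ⧸ J)
    (I := I.map (Ideal.Quotient.mk J)) (F.map (Ideal.Quotient.mk J)) (hF.map _)
    (Ideal.Quotient.mk J a₀)
    (by rw [eval_map_mk]; exact Ideal.mem_map_of_mem _ h₁)
    (by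
      rw [derivative_map, eval_map_mk, isUnit_iff_exists_inv']
      refine ⟨Ideal.Quotient.mk _ (Ideal.Quotient.mk J b), ?_⟩
      rw [← map_mul, ← map_mul, ← sub_eq_zero]
      have e : (Ideal.Quotient.mk (I.map (Ideal.Quotient.mk J)))
          ((Ideal.Quotient.mk J) (b * eval a₀ (derivative F))) - 1 =
          (Ideal.Quotient.mk (I.map (Ideal.Quotient.mk J)))
            ((Ideal.Quotient.mk J) (b * eval a₀ (derivative F) - 1)) := by
        simp only [map_sub, map_one]
      rw [e, Ideal.Quotient.eq_zero_iff_mem]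
      exact Ideal.mem_map_of_mem _ h₂)
  obtain ⟨d, hd, hd'⟩ := (Ideal.mem_map_iff_of_surjective _ hsurj).1 habar
  have ha₁ : Ideal.Quotient.mk J (a₀ + d) = abar := by
    rw [map_add, hd']; ring
  have hFa₁ : F.eval (a₀ + d) ∈ J := by
    rw [← Ideal.Quotient.eq_zero_iff_mem, ← eval_map_mk, ha₁]
    exact hroot
  -- the derivative at `a₁` is a unit
  have hunit : IsUnit (F.derivative.eval (a₀ + d)) := by
    haveI := isLocalHom_of_le_jacobson_bot I hjac
    apply isUnit_of_map_unit (Ideal.Quotient.mk I)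
    have e1 : Ideal.Quotient.mk I (a₀ + d) = Ideal.Quotient.mk I a₀ := by
      rw [map_add, Ideal.Quotient.eq_zero_iff_mem.2 hd, add_zero]
    rw [← eval_map_mk, e1, eval_map_mk, isUnit_iff_exists_inv']
    refine ⟨Ideal.Quotient.mk I b, ?_⟩
    rw [← map_mul, ← sub_eq_zero]
    have e : (Ideal.Quotient.mk I) (b * eval a₀ (derivative F)) - 1 =
        (Ideal.Quotient.mk I) (b * eval a₀ (derivative F) - 1) := by
      simp only [map_sub, map_one]
    rw [e, Ideal.Quotient.eq_zero_iff_mem]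
    exact h₂
  -- second stage
  obtain ⟨a, ha, haa⟩ := HenselianRing.is_henselian (R := A) (I := J) F hF (a₀ + d) hFa₁
    (hunit.map _)
  refine ⟨a, ha, ?_⟩
  have : a - a₀ = (a - (a₀ + d)) + d := by ring
  rw [this]
  exact I.add_mem (hJI haa) hd

/-- a ring which is derived complete (in the sequence sense) with respect to every element of `I`
is henselian along `I` -/
theorem henselianRing_of_seq (I : Ideal A) (h : ∀ f ∈ I, SeqInj f A ∧ SeqSurj f A) :
    HenselianRing A I where
  jac := le_jacobson_bot_of_seq I h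
  is_henselian := by
    intro F hF a₀ h₁ h₂
    classical
    rw [isUnit_iff_exists_inv'] at h₂
    obtain ⟨b', hb'⟩ := h₂
    obtain ⟨b, rfl⟩ := Ideal.Quotient.mk_surjective b'
    have h₂' : b * F.derivative.eval a₀ - 1 ∈ I := by
      rw [← Ideal.Quotient.eq_zero_iff_mem, map_sub, map_mul, map_one, hb', sub_self]
    let t : Finset A := {F.eval a₀, b * F.derivative.eval a₀ - 1}
    have ht : ∀ g ∈ t, g ∈ I := by
      intro g hg
      simp only [t, Finset.mem_insert, Finset.mem_singleton] at hg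
      rcases hg with rfl | rfl
      · exact h₁
      · exact h₂'
    have hI₀ : Ideal.span (t : Set A) ≤ I := Ideal.span_le.2 (fun g hg => ht g hg)
    have hseq : ∀ g ∈ Ideal.span (t : Set A), SeqInj g A ∧ SeqSurj g A := fun g hg => h g (hI₀ hg)
    haveI : IsPrecomplete (Ideal.span (t : Set A)) A :=
      isPrecomplete_of_seqSurj t (fun g hg => (h g (ht g hg)).2)
    have hN := iInf_pow_pow_eq_bot t.card A t le_rfl (fun g hg => h g (ht g hg))
    obtain ⟨a, ha, haa⟩ := hensel_of_precomplete (Ideal.span (t : Set A))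
      (le_jacobson_bot_of_seq _ hseq) _ hN F hF a₀
      (Ideal.subset_span (by simp [t])) b (Ideal.subset_span (by simp [t]))
    exact ⟨a, ha, hI₀ haa⟩

end Groth.Agent.Lib.Helper18.DR
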