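import Mathlib
import Groth.Agent.Lib.Helper18.DRDC9
import Groth.Agent.Lib.Helper18.DRHens

/-!
# Derived complete rings are henselian (helper18)
-/

set_option autoImplicit false
universe u
open CategoryTheory CategoryTheory.Limits DerivedCategory

attribute [local instance] HasDerivedCategory.standard

namespace Groth.Agent.Lib.Helper18.DR

variable {A : Type u} [CommRing A]

theorem henselianRing_of_isDerivedComplete (I : Ideal A)
    (hc : DRing.IsDerivedComplete I (Dual.inD A A)) : HenselianRing A I :=
  henselianRing_of_seq I (fun f hf => ⟨seqInj_of_fc (hc f hf), seqSurj_of_fc (hc f hf)⟩)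

end Groth.Agent.Lib.Helper18.DR
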