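import Mathlib
import Groth.Agent.Lib.Helper18.DRSeq4

/-!
# The elements `f` for which a module is derived `f`-complete form a radical ideal (helper18)
-/

set_option autoImplicit false
universe u

namespace Groth.Agent.Lib.Helper18.DR

variable {A : Type u} [CommRing A]

section

variable {M : Type u} [AddCommGroup M] [Module A M]

/-- the shift operator on sequences -/
def shiftSeq (A : Type u) [CommRing A] (M : Type u) [AddCommGroup M] [Module A M] :
    (ℕ → M) →ₗ[A] (ℕ → M) where
  toFun x n := x (n + 1)
  map_add' _ _ := rfl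
  map_smul' _ _ := rfl

/-- `x ↦ (x_n - f x_{n+1})` -/
def phiSeq (f : A) (M : Type u) [AddCommGroup M] [Module A M] : (ℕ → M) →ₗ[A] (ℕ → M) :=
  LinearMap.id - f • shiftSeq A M

lemma phiSeq_apply (f : A) (x : ℕ → M) (n : ℕ) : phiSeq f M x n = x n - f • x (n + 1) := rfl

lemma seqInj_iff (f : A) : SeqInj f M ↔ Function.Injective (phiSeq f M) := by
  rw [← LinearMap.ker_eq_bot, LinearMap.ker_eq_bot']
  constructor
  · intro h x hx
    apply h x
    intro n
    have := congrFun hx n
    rw [phiSeq_apply] at this
    exact sub_eq_zero.1 this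
  · intro h x hx
    apply h x
    funext n
    rw [phiSeq_apply]
    exact sub_eq_zero.2 (hx n)

lemma seqSurj_iff (f : A) : SeqSurj f M ↔ Function.Surjective (phiSeq f M) := by
  constructor
  · intro h z
    obtain ⟨w, hw⟩ := h z
    exact ⟨w, funext hw⟩
  · intro h z
    obtain ⟨w, hw⟩ := h z
    exact ⟨w, fun n => congrFun hw n⟩

/-- both sequence conditions -/
def SeqBij (f : A) (M : Type u) [AddCommGroup M] [Module A M] : Prop := SeqInj f M ∧ SeqSurj f M

lemma seqBij_iff (f : A) : SeqBij f M ↔ Function.Bijective (phiSeq f M) := by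
  rw [SeqBij, seqInj_iff, seqSurj_iff]; rfl

lemma seqBij_pi {f : A} (h : SeqBij f M) : SeqBij f (ℕ → M) := by
  constructor
  · intro x hx
    funext n k
    have := h.1 (fun n => x n k) (fun n => congrFun (hx n) k)
    exact congrFun this n
  · intro z
    choose w hw using fun k => h.2 (fun n => z n k)
    exact ⟨fun n k => w k n, fun n => funext fun k => hw k n⟩

/-- if `N` is derived `f`-complete then `1 - f τ` is bijective for every endomorphism `τ` -/
lemma bijective_id_sub_smul {N : Type u} [AddCommGroup N] [Module A N] {f : A} (h : SeqBij f N)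
    (τ : N →ₗ[A] N) : Function.Bijective (LinearMap.id - f • τ : N →ₗ[A] N) := by
  constructor
  · rw [← LinearMap.ker_eq_bot, LinearMap.ker_eq_bot']
    intro x hx
    have hx' : x = f • τ x := by
      have : x - f • τ x = 0 := hx
      exact sub_eq_zero.1 this
    have h1 := h.1 (fun k => (τ ^ k) x) (fun k => by
      change (τ ^ k) x = f • (τ ^ (k + 1)) x
      nth_rewrite 1 [hx']
      rw [map_smul, pow_succ, Module.End.mul_apply])
    have := congrFun h1 0
    simpa using this
  · intro z
    obtain ⟨W, hW⟩ := h.2 (fun k => (τ ^ k) z)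
    have h1 : (fun k => τ (W k) - W (k + 1)) = 0 := h.1 _ (fun k => by
      have e1 := hW k
      have e2 := hW (k + 1)
      have e3 : τ (W k) - f • τ (W (k + 1)) = (τ ^ (k + 1)) z := by
        rw [← map_smul, ← map_sub, e1, pow_succ', Module.End.mul_apply]
      rw [smul_sub, ← sub_eq_zero]
      rw [← e2] at e3
      rw [← sub_eq_zero] at e3
      rw [← e3]; abel)
    have h2 : τ (W 0) = W 1 := by
      have := congrFun h1 0
      exact sub_eq_zero.1 this
    refine ⟨W 0, ?_⟩
    change W 0 - f • τ (W 0) = z
    rw [h2]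
    have := hW 0
    simpa using this

end

section Ideal

variable (M : Type u) [AddCommGroup M] [Module A M]

lemma seqBij_zero : SeqBij (0 : A) M := by
  rw [seqBij_iff]
  have : phiSeq (0 : A) M = LinearMap.id := by simp [phiSeq]
  rw [this]
  exact Function.bijective_id

variable {M}

lemma seqBij_mul {f : A} (h : SeqBij f M) (g : A) : SeqBij (g * f) M := by
  rw [seqBij_iff]
  have : phiSeq (g * f) M = LinearMap.id - f • (g • shiftSeq A M) := by
    simp only [phiSeq, smul_smul, mul_comm]
  rw [this]
  exact bijective_id_sub_smul (seqBij_pi h) _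

lemma seqBij_add {f g : A} (hf : SeqBij f M) (hg : SeqBij g M) : SeqBij (f + g) M := by
  rw [seqBij_iff]
  let e := LinearEquiv.ofBijective (phiSeq f M) ((seqBij_iff f).1 hf)
  let τ : (ℕ → M) →ₗ[A] (ℕ → M) := e.symm.toLinearMap ∘ₗ shiftSeq A M
  have h1 : phiSeq (f + g) M = phiSeq f M ∘ₗ (LinearMap.id - g • τ) := by
    have h2 : phiSeq f M ∘ₗ τ = shiftSeq A M := by
      ext x : 1
      change e (e.symm (shiftSeq A M x)) = _
      rw [LinearEquiv.apply_symm_apply]
    rw [LinearMap.comp_sub, LinearMap.comp_smul, h2, LinearMap.comp_id]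
    simp only [phiSeq, add_smul]
    abel
  rw [h1]
  exact ((seqBij_iff f).1 hf).comp (bijective_id_sub_smul (seqBij_pi hg) τ)

lemma seqBij_of_pow {f : A} {k : ℕ} (hk : 0 < k) (h : SeqBij (f ^ k) M) : SeqBij f M := by
  rw [seqBij_iff]
  have h1 := bijective_id_sub_smul (seqBij_pi h) ((shiftSeq A M) ^ k)
  set x : Module.End A (ℕ → M) := f • shiftSeq A M with hx
  have hxk : x ^ k = f ^ k • (shiftSeq A M) ^ k := by rw [hx, smul_pow]
  have e1 : (1 : Module.End A (ℕ → M)) - x ^ k = (1 - x) * ∑ i ∈ Finset.range k, x ^ i := by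
    have := mul_neg_geom_sum x k
    rw [← this]
  have e2 : (1 : Module.End A (ℕ → M)) - x ^ k = (∑ i ∈ Finset.range k, x ^ i) * (1 - x) := by
    have := geom_sum_mul_neg x k
    rw [← this]
  have h1' : Function.Bijective ((1 : Module.End A (ℕ → M)) - x ^ k) := by
    rw [hxk]; exact h1
  have hphi : phiSeq f M = (1 : Module.End A (ℕ → M)) - x := rfl
  rw [hphi]
  constructor
  · have : Function.Injective ((∑ i ∈ Finset.range k, x ^ i) * (1 - x) : Module.End A (ℕ → M)) := by
      rw [← e2]; exact h1'.1
    exact Function.Injective.of_comp this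
  · have : Function.Surjective ((1 - x) * ∑ i ∈ Finset.range k, x ^ i : Module.End A (ℕ → M)) := by
      rw [← e1]; exact h1'.2
    exact Function.Surjective.of_comp this

variable (M)

/-- the ideal of elements `f` such that `M` is derived `f`-complete -/
def completeIdeal : Ideal A where
  carrier := {f | SeqBij f M}
  add_mem' := fun hf hg => seqBij_add hf hg
  zero_mem' := seqBij_zero M
  smul_mem' := fun g _ hf => seqBij_mul hf g

lemma mem_completeIdeal {f : A} : f ∈ completeIdeal (A := A) M ↔ SeqBij f M := Iff.rfl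

lemma completeIdeal_isRadical : (completeIdeal (A := A) M).IsRadical := by
  intro f hf
  obtain ⟨k, hk⟩ := hf
  rcases Nat.eq_zero_or_pos k with rfl | hk0
  · rw [pow_zero] at hk
    have := (completeIdeal (A := A) M).mul_mem_left f hk
    rwa [mul_one] at this
  · exact seqBij_of_pow hk0 hk

end Ideal

end Groth.Agent.Lib.Helper18.DR
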