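import Mathlib
import Groth.Agent.Lib.Helper18.DRDC10
import Groth.Agent.Lib.Helper18.DRSeq5

/-!
# The elements `f` with `Hom(A_f, K[n]) = 0` for all `n` form a radical ideal (helper18)
-/

set_option autoImplicit false
universe u
open CategoryTheory CategoryTheory.Limits DerivedCategory

attribute [local instance] HasDerivedCategory.standard

namespace Groth.Agent.Lib.Helper18.DR

variable {A : Type u} [CommRing A]

lemma fc_Sg0_iff_seqBij (f : A) (M : Type u) [AddCommGroup M] [Module A M] :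
    FC f (Sg 0 (ModuleCat.of A M)) ↔ SeqBij f M :=
  ⟨fun h => ⟨seqInj_of_fc h, seqSurj_of_fc h⟩, fun h => fc_of_seqInj_seqSurj h.1 h.2⟩

lemma fc_iff_forall_seqBij (f : A) (K : Dual.D A) :
    FC f K ↔ ∀ i : ℤ, SeqBij f ((H A i).obj K) := by
  rw [fc_iff_cohomology]
  exact forall_congr' (fun i => fc_Sg0_iff_seqBij f ((H A i).obj K))

/-- the ideal of elements `f` such that `K` is derived `f`-complete -/
noncomputable def fcIdeal (K : Dual.D A) : Ideal A := ⨅ i : ℤ, completeIdeal (A := A) ((H A i).obj K)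

lemma mem_fcIdeal (K : Dual.D A) (f : A) : f ∈ fcIdeal K ↔ FC f K := by
  rw [fcIdeal, Ideal.mem_iInf, fc_iff_forall_seqBij]
  rfl

lemma fcIdeal_isRadical (K : Dual.D A) : (fcIdeal K).IsRadical := by
  intro f hf
  obtain ⟨k, hk⟩ := hf
  rw [fcIdeal, Ideal.mem_iInf] at hk ⊢
  intro i
  exact completeIdeal_isRadical _ ⟨k, hk i⟩

theorem exists_radical_ideal (K : Dual.D A) :
    ∃ J : Ideal A, J.IsRadical ∧
      (J : Set A) = {f : A | ∀ n : ℤ, Subsingleton (Dual.inD A (Localization.Away f) ⟶ K⟦n⟧)} := by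
  refine ⟨fcIdeal K, fcIdeal_isRadical K, ?_⟩
  ext f
  exact mem_fcIdeal K f

/-- derived completeness can be checked on generators -/
theorem isDerivedComplete_span (s : Set A) (K : Dual.D A) (h : ∀ f ∈ s, FC f K) :
    DRing.IsDerivedComplete (Ideal.span s) K := by
  intro f hf
  have : Ideal.span s ≤ fcIdeal K := Ideal.span_le.2 (fun g hg => (mem_fcIdeal K g).2 (h g hg))
  exact (mem_fcIdeal K f).1 (this hf)

end Groth.Agent.Lib.Helper18.DR
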