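import Mathlib
import Groth.Prelude.Def_DDual2
import Groth.Agent.Lib.Helper18.DRDC11

/-!
# Derived completeness and restriction of scalars (helper18)
-/

set_option autoImplicit false
universe u
open CategoryTheory CategoryTheory.Limits DerivedCategory

attribute [local instance] HasDerivedCategory.standard

namespace Groth.Agent.Lib.Helper18.DR

variable {A B : Type u} [CommRing A] [CommRing B] (φ : A →+* B)

/-- cohomology commutes with restriction of scalars -/
noncomputable def homologyRestrictIso (L : Dual.D B) (i : ℤ) :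
    (H A i).obj ((DRing.restrictD φ).obj L) ≅
      (ModuleCat.restrictScalars.{u} φ).obj ((H B i).obj L) :=
  let X := DerivedCategory.Q.objPreimage L
  let e : DerivedCategory.Q.obj X ≅ L := DerivedCategory.Q.objObjPreimageIso L
  (H A i).mapIso ((DRing.restrictD φ).mapIso e.symm) ≪≫
    (H A i).mapIso ((ModuleCat.restrictScalars.{u} φ).mapDerivedCategoryFactors.app X) ≪≫
    (DerivedCategory.homologyFunctorFactors (ModuleCat.{u} A) i).app _ ≪≫
    (X.sc i).mapHomologyIso (ModuleCat.restrictScalars.{u} φ) ≪≫
    (ModuleCat.restrictScalars.{u} φ).mapIso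
      ((DerivedCategory.homologyFunctorFactors (ModuleCat.{u} B) i).app X).symm ≪≫
    (ModuleCat.restrictScalars.{u} φ).mapIso ((H B i).mapIso e)

lemma seqBij_of_linearEquiv {f : A} {M M' : Type u} [AddCommGroup M] [Module A M]
    [AddCommGroup M'] [Module A M'] (e : M ≃ₗ[A] M') (h : SeqBij f M) : SeqBij f M' := by
  constructor
  · intro x hx
    have := h.1 (fun n => e.symm (x n)) (fun n => by
      change e.symm (x n) = f • e.symm (x (n + 1))
      rw [← map_smul, ← hx n])
    funext n
    have h1 := congrFun this n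
    simpa using h1
  · intro z
    obtain ⟨w, hw⟩ := h.2 (fun n => e.symm (z n))
    refine ⟨fun n => e (w n), fun n => ?_⟩
    rw [← map_smul, ← map_sub, hw n]
    simp

lemma seqBij_restrictScalars (f : A) (N : ModuleCat.{u} B) :
    SeqBij f ((ModuleCat.restrictScalars.{u} φ).obj N) ↔ SeqBij (φ f) N := Iff.rfl

lemma fc_restrictD_iff (f : A) (L : Dual.D B) :
    FC f ((DRing.restrictD φ).obj L) ↔ FC (φ f) L := by
  rw [fc_iff_forall_seqBij, fc_iff_forall_seqBij]
  refine forall_congr' (fun i => ?_)
  rw [← seqBij_restrictScalars φ f ((H B i).obj L)]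
  exact ⟨fun h => seqBij_of_linearEquiv (homologyRestrictIso φ L i).toLinearEquiv h,
    fun h => seqBij_of_linearEquiv (homologyRestrictIso φ L i).symm.toLinearEquiv h⟩

theorem isDerivedComplete_map_iff (I : Ideal A) (L : Dual.D B) :
    DRing.IsDerivedComplete (I.map φ) L ↔ DRing.IsDerivedComplete I ((DRing.restrictD φ).obj L) := by
  constructor
  · intro h f hf
    exact (fc_restrictD_iff φ f L).2 (h (φ f) (Ideal.mem_map_of_mem φ hf))
  · intro h
    refine isDerivedComplete_span _ L ?_
    rintro g ⟨f, hf, rfl⟩
    exact (fc_restrictD_iff φ f L).1 (h f hf)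

end Groth.Agent.Lib.Helper18.DR
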