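import Mathlib
import Groth.Agent.Lib.Helper18.DRRestr
import Groth.Agent.Lib.Helper18.DRPC4
import Groth.Agent.Lib.Helper18.DRSum
import Groth.Agent.Lib.Helper18.DRFin

/-!
# Pseudo-coherence and restriction of scalars (helper18)
-/

set_option autoImplicit false
set_option linter.style.haveILetI false
universe u
open CategoryTheory CategoryTheory.Limits CategoryTheory.Pretriangulated DerivedCategory

attribute [local instance] HasDerivedCategory.standard

namespace Groth.Agent.Lib.Helper18.DR

section prod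

variable {A : Type u} [CommRing A]

lemma isPseudoCoherent_Sg0_prod (m : ℤ) (P Q : Type u) [AddCommGroup P] [Module A P]
    [AddCommGroup Q] [Module A Q] (hP : DRing.IsPseudoCoherent A m (Sg 0 (ModuleCat.of A P)))
    (hQ : DRing.IsPseudoCoherent A m (Sg 0 (ModuleCat.of A Q))) :
    DRing.IsPseudoCoherent A m (Sg 0 (ModuleCat.of A (P × Q))) :=
  (isPseudoCoherent_triangle _
    (prodSC'_shortExact (R := A) P Q).singleTriangle_distinguished m).2.1 hP hQ

lemma isPseudoCoherent_Sg0_of_linearEquiv (m : ℤ) {P Q : Type u} [AddCommGroup P] [Module A P]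
    [AddCommGroup Q] [Module A Q] (e : P ≃ₗ[A] Q)
    (hP : DRing.IsPseudoCoherent A m (Sg 0 (ModuleCat.of A P))) :
    DRing.IsPseudoCoherent A m (Sg 0 (ModuleCat.of A Q)) :=
  isPseudoCoherent_of_iso ((singleFunctor (ModuleCat.{u} A) 0).mapIso e.toModuleIso) hP

lemma isPseudoCoherent_Sg0_pi_fin (m : ℤ) (M : Type u) [AddCommGroup M] [Module A M]
    (hM : DRing.IsPseudoCoherent A m (Sg 0 (ModuleCat.of A M))) (k : ℕ) :
    DRing.IsPseudoCoherent A m (Sg 0 (ModuleCat.of A (Fin k → M))) := by
  induction k with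
  | zero =>
    apply isPseudoCoherent_of_isZero
    apply Functor.map_isZero
    exact ModuleCat.isZero_of_subsingleton _
  | succ k ih =>
    exact isPseudoCoherent_Sg0_of_linearEquiv m (Fin.consLinearEquiv A (fun _ : Fin (k + 1) => M))
      (isPseudoCoherent_Sg0_prod m M (Fin k → M) hM ih)

lemma isPseudoCoherent_Sg0_pi (m : ℤ) (M : Type u) [AddCommGroup M] [Module A M]
    (hM : DRing.IsPseudoCoherent A m (Sg 0 (ModuleCat.of A M))) (ι : Type u) [Fintype ι] :
    DRing.IsPseudoCoherent A m (Sg 0 (ModuleCat.of A (ι → M))) :=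
  isPseudoCoherent_Sg0_of_linearEquiv m
    (LinearEquiv.funCongrLeft A M (Fintype.equivFin ι))
    (isPseudoCoherent_Sg0_pi_fin m M hM (Fintype.card ι))

lemma isPseudoCoherent_Sg0_pi_obj (m : ℤ) (M : ModuleCat.{u} A)
    (hM : DRing.IsPseudoCoherent A m (Sg 0 M)) (ι : Type u) [Fintype ι] :
    DRing.IsPseudoCoherent A m (Sg 0 (ModuleCat.of A (ι → M))) :=
  isPseudoCoherent_Sg0_pi m M hM ι

end prod

variable {A B : Type u} [CommRing A] [CommRing B] (φ : A →+* B)

/-- restriction of scalars of a module -/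
noncomputable abbrev resM (M : ModuleCat.{u} B) : ModuleCat.{u} A :=
  (ModuleCat.restrictScalars.{u} φ).obj M

lemma isLE_restrictD (L : Dual.D B) (n : ℤ) [L.IsLE n] : ((DRing.restrictD φ).obj L).IsLE n := by
  rw [DerivedCategory.isLE_iff]
  intro i hi
  have h := isZero_of_isLE L n i hi
  exact ((ModuleCat.restrictScalars.{u} φ).map_isZero h).of_iso (homologyRestrictIso φ L i)

lemma isLE_of_restrictD (L : Dual.D B) (n : ℤ) (hL : ((DRing.restrictD φ).obj L).IsLE n) :
    L.IsLE n := by
  rw [DerivedCategory.isLE_iff]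
  intro i hi
  have h := isZero_of_isLE ((DRing.restrictD φ).obj L) n i hi
  have h2 : IsZero (resM φ ((H B i).obj L)) := h.of_iso (homologyRestrictIso φ L i).symm
  haveI : Subsingleton (resM φ ((H B i).obj L)) := ModuleCat.subsingleton_of_isZero h2
  haveI : Subsingleton ((H B i).obj L) := ‹Subsingleton (resM φ ((H B i).obj L))›
  exact ModuleCat.isZero_of_subsingleton _

lemma isConn_restrictD {K L : Dual.D B} (α : K ⟶ L) (m : ℤ) (hα : IsConn m α) :
    IsConn m ((DRing.restrictD φ).map α) := by
  obtain ⟨C, β, γ, hT⟩ := distinguished_cocone_triangle α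
  haveI : C.IsLE (m - 1) := (isConn_iff_isLE_cone hT m).mp hα
  have hT' := (DRing.restrictD φ).map_distinguished _ hT
  have := isLE_restrictD φ C (m - 1)
  exact (isConn_iff_isLE_cone hT' m).mpr this

lemma finite_of_finite_resM (M : ModuleCat.{u} B) (h : Module.Finite A (resM φ M)) :
    Module.Finite B M := by
  obtain ⟨S, hS⟩ := h.fg_top
  refine ⟨⟨S, ?_⟩⟩
  rw [eq_top_iff]
  intro x _
  have hx : (x : resM φ M) ∈ Submodule.span A (S : Set (resM φ M)) := by rw [hS]; trivial
  induction hx using Submodule.span_induction with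
  | mem y hy => exact Submodule.subset_span hy
  | zero => exact Submodule.zero_mem _
  | add y z _ _ hy hz => exact Submodule.add_mem _ (hy trivial) (hz trivial)
  | smul a y _ hy => exact Submodule.smul_mem _ (φ a) (hy trivial)

section

variable (hB : ∀ m : ℤ, DRing.IsPseudoCoherent A m (Sg 0 (resM φ (ModuleCat.of B B))))

include hB

lemma isPseudoCoherent_res_of_finite_free (F : ModuleCat.{u} B) [Module.Finite B F]
    [Module.Free B F] (m : ℤ) : DRing.IsPseudoCoherent A m (Sg 0 (resM φ F)) := by
  let ι := Module.Free.ChooseBasisIndex B F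
  let b := Module.Free.chooseBasis B F
  have e1 : F ≅ ModuleCat.of B (ι → B) := b.equivFun.toModuleIso
  have e2 : resM φ F ≅ resM φ (ModuleCat.of B (ι → B)) :=
    (ModuleCat.restrictScalars.{u} φ).mapIso e1
  let e3 : (ι → resM φ (ModuleCat.of B B)) ≃ₗ[A] resM φ (ModuleCat.of B (ι → B)) :=
    { toFun := fun f => f
      invFun := fun f => f
      map_add' := fun _ _ => rfl
      map_smul' := fun _ _ => rfl
      left_inv := fun _ => rfl
      right_inv := fun _ => rfl }
  have h1 := isPseudoCoherent_Sg0_pi_obj m (resM φ (ModuleCat.of B B)) (hB m) ι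
  have h2 := isPseudoCoherent_Sg0_of_linearEquiv m e3 h1
  exact isPseudoCoherent_of_iso ((singleFunctor (ModuleCat.{u} A) 0).mapIso e2.symm) h2

lemma isPseudoCoherent_res_Sg (F : ModuleCat.{u} B) [Module.Finite B F] [Module.Free B F]
    (n m : ℤ) : DRing.IsPseudoCoherent A m ((DRing.restrictD φ).obj (Sg n F)) := by
  have e := ((ModuleCat.restrictScalars.{u} φ).mapDerivedCategorySingleFunctor n).app F
  refine isPseudoCoherent_of_iso e.symm ?_
  exact isPseudoCoherent_Sg_of_module (resM φ F) m n
    (isPseudoCoherent_res_of_finite_free φ hB F (m - n))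

lemma isPseudoCoherent_res_toD (E : DRing.Cx B) (a b : ℤ) (hE : DRing.VanishesOutside E a b)
    (hfree : DRing.TermwiseFiniteFree E) (m : ℤ) :
    DRing.IsPseudoCoherent A m ((DRing.restrictD φ).obj (DRing.toD E)) := by
  refine bounded_induction
    (fun X : Dual.D B => ∀ m : ℤ, DRing.IsPseudoCoherent A m ((DRing.restrictD φ).obj X))
    (fun e h m => isPseudoCoherent_of_iso ((DRing.restrictD φ).mapIso e) (h m))
    (fun X hX m => isPseudoCoherent_of_isZero _ ((DRing.restrictD φ).map_isZero hX) m)
    (fun T hT h1 h3 m => (isPseudoCoherent_triangle _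
      ((DRing.restrictD φ).map_distinguished _ hT) m).2.1 (h1 m) (h3 m))
    E a b hE (fun i _ _ m => ?_) m
  haveI := (hfree i).1
  haveI := (hfree i).2
  exact isPseudoCoherent_res_Sg φ hB (E.X i) i m

/-- Stacks 064Z, direction `B ⇒ A` -/
theorem isPseudoCoherent_restrictD (m : ℤ) (K : Dual.D B) (hK : DRing.IsPseudoCoherent B m K) :
    DRing.IsPseudoCoherent A m ((DRing.restrictD φ).obj K) := by
  obtain ⟨E, a, b, α, hE, hfree, hα⟩ := (isPseudoCoherent_iff m K).1 hK
  have h1 := isPseudoCoherent_res_toD φ hB E a b hE hfree m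
  obtain ⟨E', a', b', α', hE', hfree', hα'⟩ := (isPseudoCoherent_iff m _).1 h1
  exact (isPseudoCoherent_iff m _).2 ⟨E', a', b', α' ≫ (DRing.restrictD φ).map α, hE', hfree',
    hα'.comp (isConn_restrictD φ α m hα)⟩

lemma isPseudoCoherent_of_restrictD_aux (m : ℤ) : ∀ (N : ℕ) (K : Dual.D B),
    K.IsLE (m - 1 + N) → DRing.IsPseudoCoherent A m ((DRing.restrictD φ).obj K) →
      DRing.IsPseudoCoherent B m K := by
  intro N
  induction N with
  | zero =>
    intro K hK _
    haveI : K.IsLE (m - 1) := by simpa using hK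
    exact isPseudoCoherent_of_isLE K (m - 1) m (by omega)
  | succ N ih =>
    intro K hKle hK
    obtain ⟨n, hn⟩ : ∃ n : ℤ, n = m + N := ⟨_, rfl⟩
    haveI : K.IsLE n := by
      have e : m - 1 + ((N + 1 : ℕ) : ℤ) = n := by push_cast; omega
      rw [← e]; exact hKle
    haveI : ((DRing.restrictD φ).obj K).IsLE n := isLE_restrictD φ K n
    have hfinA : Module.Finite A ((H A n).obj ((DRing.restrictD φ).obj K)) :=
      finite_H_of_isPseudoCoherent _ n (isPseudoCoherent_mono (by omega) hK)
        (fun i hi => isZero_of_isLE _ n i hi)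
    have hfinA' : Module.Finite A (resM φ ((H B n).obj K)) :=
      Module.Finite.equiv (homologyRestrictIso φ K n).toLinearEquiv
    have hfinB : Module.Finite B ((H B n).obj K) := finite_of_finite_resM φ _ hfinA'
    obtain ⟨r, π, hπ⟩ := Module.Finite.exists_fin' B ((H B n).obj K)
    let F : ModuleCat.{u} B := ModuleCat.of B (Fin r → B)
    haveI : Projective F := inferInstance
    haveI : Module.Finite B F := inferInstanceAs (Module.Finite B (Fin r → B))
    haveI : Module.Free B F := inferInstanceAs (Module.Free B (Fin r → B))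
    obtain ⟨ψ, hψ⟩ := exists_hom_Sg n F K (ModuleCat.ofHom π)
    have hepi : Epi ((H B n).map ψ) := by
      have h1 : (H B n).map ψ = (HSg n F).hom ≫ ModuleCat.ofHom π := by
        rw [← hψ]; simp
      rw [h1]
      haveI : Epi (ModuleCat.ofHom π) := (ModuleCat.epi_iff_surjective _).mpr hπ
      infer_instance
    have hconn : IsConn n ψ := by
      refine ⟨fun i hi => ?_, hepi⟩
      exact isIso_of_isZero_isZero _ (isZero_of_isLE (Sg n F) n i hi) (isZero_of_isLE K n i hi)
    obtain ⟨C, β, γ, hT⟩ := distinguished_cocone_triangle ψ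
    have hC : C.IsLE (n - 1) := (isConn_iff_isLE_cone hT n).mp hconn
    have hC' : C.IsLE (m - 1 + N) := by
      have e : n - 1 = m - 1 + N := by omega
      rw [← e]; exact hC
    have hT' := (DRing.restrictD φ).map_distinguished _ hT
    have h1 : DRing.IsPseudoCoherent A (m + 1) ((DRing.restrictD φ).obj (Sg n F)) :=
      isPseudoCoherent_res_Sg φ hB F n (m + 1)
    have hresC : DRing.IsPseudoCoherent A m ((DRing.restrictD φ).obj C) :=
      isPseudoCoherent_obj₃ _ hT' m h1 hK
    have hCpc := ih C hC' hresC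
    exact (isPseudoCoherent_triangle _ hT m).2.1 (isPseudoCoherent_Sg n F m) hCpc

/-- Stacks 064Z, direction `A ⇒ B` -/
theorem isPseudoCoherent_of_restrictD (m : ℤ) (K : Dual.D B)
    (hK : DRing.IsPseudoCoherent A m ((DRing.restrictD φ).obj K)) :
    DRing.IsPseudoCoherent B m K := by
  obtain ⟨b, hb⟩ := exists_isLE_of_isPseudoCoherent hK
  have hb' : K.IsLE b := isLE_of_restrictD φ K b hb
  obtain ⟨N, hN⟩ : ∃ N : ℕ, b ≤ m - 1 + N := ⟨(b - m + 1).toNat, by omega⟩
  have : K.IsLE (m - 1 + N) := TStructure.t.isLE_of_le K b _ hN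
  exact isPseudoCoherent_of_restrictD_aux φ hB m N K this hK

theorem isPseudoCoherent_restrictD_iff (m : ℤ) (K : Dual.D B) :
    (DRing.IsPseudoCoherent B m K ↔ DRing.IsPseudoCoherent A m ((DRing.restrictD φ).obj K)) ∧
      (DRing.IsPseudoCoherent' B K ↔ DRing.IsPseudoCoherent' A ((DRing.restrictD φ).obj K)) := by
  refine ⟨⟨isPseudoCoherent_restrictD φ hB m K, isPseudoCoherent_of_restrictD φ hB m K⟩, ?_⟩
  rw [← isPseudoCoherent'_iff_forall, ← isPseudoCoherent'_iff_forall]
  exact ⟨fun h m => isPseudoCoherent_restrictD φ hB m K (h m),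
    fun h m => isPseudoCoherent_of_restrictD φ hB m K (h m)⟩

end

end Groth.Agent.Lib.Helper18.DR

namespace Groth.Agent.Lib.Helper18.DR

/-- Stacks 064Z in the form with an algebra structure -/
theorem isPseudoCoherent_restrictD_iff_of_algebra {A B : Type u} [CommRing A] [CommRing B]
    [Algebra A B] (hB : DRing.IsPseudoCoherentModule' A B) (K : Dual.D B) (m : ℤ) :
    (DRing.IsPseudoCoherent B m K ↔
        DRing.IsPseudoCoherent A m ((DRing.restrictD (algebraMap A B)).obj K)) ∧
      (DRing.IsPseudoCoherent' B K ↔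
        DRing.IsPseudoCoherent' A ((DRing.restrictD (algebraMap A B)).obj K)) := by
  apply isPseudoCoherent_restrictD_iff
  intro m'
  have h := isPseudoCoherent_of_isPseudoCoherent' hB m'
  let e : B ≃ₗ[A] resM (algebraMap A B) (ModuleCat.of B B) :=
    { toFun := fun b => b
      invFun := fun b => b
      map_add' := fun _ _ => rfl
      map_smul' := fun a b => (Algebra.smul_def a b).trans rfl
      left_inv := fun _ => rfl
      right_inv := fun _ => rfl }
  exact isPseudoCoherent_of_iso ((singleFunctor (ModuleCat.{u} A) 0).mapIso e.toModuleIso) h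

end Groth.Agent.Lib.Helper18.DR
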