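import Mathlib
import Groth.Agent.Lib.Helper18.DRPCRestr

/-!
# Exact functors between module categories and the derived category (helper18)
-/

set_option autoImplicit false
set_option linter.style.haveILetI false
universe u
open CategoryTheory CategoryTheory.Limits CategoryTheory.Pretriangulated DerivedCategory

attribute [local instance] HasDerivedCategory.standard

namespace Groth.Agent.Lib.Helper18.DR

variable {A B : Type u} [CommRing A] [CommRing B]
  (G : ModuleCat.{u} A ⥤ ModuleCat.{u} B) [G.Additive] [PreservesFiniteLimits G]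
  [PreservesFiniteColimits G]

/-- the termwise functor on complexes -/
noncomputable abbrev mapCx : DRing.Cx A ⥤ DRing.Cx B :=
  G.mapHomologicalComplex (ComplexShape.up ℤ)

/-- `G.mapDerivedCategory` is computed termwise -/
noncomputable def mapDToDIso (E : DRing.Cx A) :
    G.mapDerivedCategory.obj (DRing.toD E) ≅ DRing.toD ((mapCx G).obj E) :=
  G.mapDerivedCategoryFactors.app E

/-- `G.mapDerivedCategory` on single complexes -/
noncomputable def mapDSgIso (n : ℤ) (M : ModuleCat.{u} A) :
    G.mapDerivedCategory.obj (Sg n M) ≅ Sg n (G.obj M) :=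
  (G.mapDerivedCategorySingleFunctor n).app M

/-- cohomology commutes with an exact functor -/
noncomputable def homologyMapDIso (L : Dual.D A) (i : ℤ) :
    (H B i).obj (G.mapDerivedCategory.obj L) ≅ G.obj ((H A i).obj L) :=
  let X := DerivedCategory.Q.objPreimage L
  let e : DerivedCategory.Q.obj X ≅ L := DerivedCategory.Q.objObjPreimageIso L
  (H B i).mapIso (G.mapDerivedCategory.mapIso e.symm) ≪≫
    (H B i).mapIso (G.mapDerivedCategoryFactors.app X) ≪≫
    (DerivedCategory.homologyFunctorFactors (ModuleCat.{u} B) i).app _ ≪≫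
    (X.sc i).mapHomologyIso G ≪≫
    G.mapIso ((DerivedCategory.homologyFunctorFactors (ModuleCat.{u} A) i).app X).symm ≪≫
    G.mapIso ((H A i).mapIso e)

lemma isLE_mapD (L : Dual.D A) (n : ℤ) [L.IsLE n] : (G.mapDerivedCategory.obj L).IsLE n := by
  rw [DerivedCategory.isLE_iff]
  intro i hi
  have h := isZero_of_isLE L n i hi
  exact (G.map_isZero h).of_iso (homologyMapDIso G L i)

lemma isGE_mapD (L : Dual.D A) (n : ℤ) [L.IsGE n] : (G.mapDerivedCategory.obj L).IsGE n := by
  rw [DerivedCategory.isGE_iff]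
  intro i hi
  have h := isZero_of_isGE L n i hi
  exact (G.map_isZero h).of_iso (homologyMapDIso G L i)

lemma isLE_of_mapD (hG : ∀ M : ModuleCat.{u} A, IsZero (G.obj M) → IsZero M)
    (L : Dual.D A) (n : ℤ) (hL : (G.mapDerivedCategory.obj L).IsLE n) : L.IsLE n := by
  rw [DerivedCategory.isLE_iff]
  intro i hi
  have h := isZero_of_isLE (G.mapDerivedCategory.obj L) n i hi
  exact hG _ (h.of_iso (homologyMapDIso G L i).symm)

lemma isConn_mapD {K L : Dual.D A} (α : K ⟶ L) (m : ℤ) (hα : IsConn m α) :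
    IsConn m (G.mapDerivedCategory.map α) := by
  obtain ⟨C, β, γ, hT⟩ := distinguished_cocone_triangle α
  haveI : C.IsLE (m - 1) := (isConn_iff_isLE_cone hT m).mp hα
  have hT' := G.mapDerivedCategory.map_distinguished _ hT
  have := isLE_mapD G C (m - 1)
  exact (isConn_iff_isLE_cone hT' m).mpr this

lemma vanishesOutside_mapCx (E : DRing.Cx A) (a b : ℤ) (hE : DRing.VanishesOutside E a b) :
    DRing.VanishesOutside ((mapCx G).obj E) a b :=
  fun i hi => G.map_isZero (hE i hi)

lemma vanishesAbove_mapCx (E : DRing.Cx A) (b : ℤ) (hE : DRing.VanishesAbove E b) :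
    DRing.VanishesAbove ((mapCx G).obj E) b :=
  fun i hi => G.map_isZero (hE i hi)

section ff

variable (hfin : ∀ F : ModuleCat.{u} A, Module.Finite A F → Module.Finite B (G.obj F))
  (hfree : ∀ F : ModuleCat.{u} A, Module.Free A F → Module.Free B (G.obj F))

include hfin hfree

lemma termwiseFiniteFree_mapCx (E : DRing.Cx A) (hE : DRing.TermwiseFiniteFree E) :
    DRing.TermwiseFiniteFree ((mapCx G).obj E) :=
  fun i => ⟨hfin _ (hE i).1, hfree _ (hE i).2⟩

theorem isPseudoCoherent_mapD (m : ℤ) (K : Dual.D A) (hK : DRing.IsPseudoCoherent A m K) :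
    DRing.IsPseudoCoherent B m (G.mapDerivedCategory.obj K) := by
  obtain ⟨E, a, b, α, hE, hff, hα⟩ := (isPseudoCoherent_iff m K).1 hK
  refine (isPseudoCoherent_iff m _).2 ⟨(mapCx G).obj E, a, b,
    (mapDToDIso G E).inv ≫ G.mapDerivedCategory.map α, vanishesOutside_mapCx G E a b hE,
    termwiseFiniteFree_mapCx G hfin hfree E hff, ?_⟩
  exact (IsConn.of_isIso _).comp (isConn_mapD G α m hα)

theorem isPseudoCoherent'_mapD (K : Dual.D A) (hK : DRing.IsPseudoCoherent' A K) :
    DRing.IsPseudoCoherent' B (G.mapDerivedCategory.obj K) := by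
  obtain ⟨E, b, hE, hff, ⟨e⟩⟩ := hK
  exact ⟨(mapCx G).obj E, b, vanishesAbove_mapCx G E b hE,
    termwiseFiniteFree_mapCx G hfin hfree E hff,
    ⟨(mapDToDIso G E).symm ≪≫ G.mapDerivedCategory.mapIso e⟩⟩

end ff

theorem isPerfect_mapD
    (hfin : ∀ F : ModuleCat.{u} A, Module.Finite A F → Module.Finite B (G.obj F))
    (hproj : ∀ F : ModuleCat.{u} A, Module.Projective A F → Module.Projective B (G.obj F))
    (K : Dual.D A) (hK : DRing.IsPerfect A K) :
    DRing.IsPerfect B (G.mapDerivedCategory.obj K) := by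
  obtain ⟨E, a, b, hE, hfp, ⟨e⟩⟩ := hK
  exact ⟨(mapCx G).obj E, a, b, vanishesOutside_mapCx G E a b hE,
    fun i => ⟨hfin _ (hfp i).1, hproj _ (hfp i).2⟩,
    ⟨(mapDToDIso G E).symm ≪≫ G.mapDerivedCategory.mapIso e⟩⟩

theorem hasTorAmplitudeIn_mapD
    (hflat : ∀ F : ModuleCat.{u} A, Module.Flat A F → Module.Flat B (G.obj F))
    (a b : ℤ) (K : Dual.D A) (hK : DRing.HasTorAmplitudeIn A a b K) :
    DRing.HasTorAmplitudeIn B a b (G.mapDerivedCategory.obj K) := by
  obtain ⟨E, hE, hfl, ⟨e⟩⟩ := hK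
  exact ⟨(mapCx G).obj E, vanishesOutside_mapCx G E a b hE,
    fun i => hflat _ (hfl i),
    ⟨(mapDToDIso G E).symm ≪≫ G.mapDerivedCategory.mapIso e⟩⟩

end Groth.Agent.Lib.Helper18.DR
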