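import Mathlib
import Groth.Agent.Lib.Helper18.DRExt

set_option autoImplicit false
set_option linter.style.haveILetI false
universe u
open CategoryTheory CategoryTheory.Limits CategoryTheory.Pretriangulated DerivedCategory TensorProduct

attribute [local instance] HasDerivedCategory.standard

namespace Groth.Agent.Lib.Helper18.DR

variable {A B : Type u} [CommRing A] [CommRing B] [Algebra A B]

/-- extension of scalars -/
noncomputable abbrev extM : ModuleCat.{u} A ⥤ ModuleCat.{u} B :=
  ModuleCat.extendScalars.{u, u, u} (algebraMap A B)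

noncomputable def resBEquiv : resM (algebraMap A B) (ModuleCat.of B B) ≃ₗ[A] B :=
  { toFun := fun b => b
    invFun := fun b => b
    map_add' := fun _ _ => rfl
    map_smul' := fun a b => (Algebra.smul_def a (show B from b)).symm
    left_inv := fun _ => rfl
    right_inv := fun _ => rfl }

noncomputable def extMEquiv₀ (M : ModuleCat.{u} A) :
    (resM (algebraMap A B) (ModuleCat.of B B)) ⊗[A] M ≃ₗ[A] B ⊗[A] M :=
  TensorProduct.congr resBEquiv (LinearEquiv.refl A M)

noncomputable def extMEquiv (M : ModuleCat.{u} A) :
    ((extM (A := A) (B := B)).obj M) ≃ₗ[B] B ⊗[A] M :=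
  { toFun := fun x => extMEquiv₀ M x
    invFun := fun x => (extMEquiv₀ M).symm x
    map_add' := fun x y => map_add (extMEquiv₀ M) x y
    map_smul' := by
      intro b x
      induction x using TensorProduct.induction_on with
      | zero =>
        have h1 : b • (0 : ↑((extM (A := A) (B := B)).obj M)) = 0 := smul_zero b
        have h2 : extMEquiv₀ (B := B) M 0 = 0 := map_zero _
        exact (congrArg (extMEquiv₀ M) h1).trans (h2.trans
          ((smul_zero b).symm.trans (congrArg (b • ·) h2.symm)))
      | tmul b' m =>
        erw [ModuleCat.ExtendScalars.smul_tmul]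
        erw [TensorProduct.congr_tmul, TensorProduct.congr_tmul]
        rw [RingHom.id_apply, TensorProduct.smul_tmul']
        rfl
      | add x y hx hy =>
        erw [smul_add]
        erw [map_add, map_add, smul_add]
        rw [← hx, ← hy]
    left_inv := fun x => (extMEquiv₀ M).symm_apply_apply x
    right_inv := fun x => (extMEquiv₀ M).apply_symm_apply x }


section instances

variable (F : ModuleCat.{u} A)

lemma finite_extM [Module.Finite A F] : Module.Finite B ((extM (A := A) (B := B)).obj F) :=
  Module.Finite.equiv (extMEquiv (B := B) F).symm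

lemma free_extM [Module.Free A F] : Module.Free B ((extM (A := A) (B := B)).obj F) :=
  Module.Free.of_equiv (extMEquiv (B := B) F).symm

lemma projective_extM [Module.Projective A F] :
    Module.Projective B ((extM (A := A) (B := B)).obj F) :=
  Module.Projective.of_equiv (extMEquiv (B := B) F).symm

lemma flat_extM [Module.Flat A F] : Module.Flat B ((extM (A := A) (B := B)).obj F) :=
  Module.Flat.of_linearEquiv (extMEquiv (B := B) F)

end instances

section flat

variable [Module.Flat A B]

instance preservesFiniteLimits_extM : PreservesFiniteLimits (extM (A := A) (B := B)) :=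
  ModuleCat.preservesFiniteLimits_extendScalars_of_flat
    (RingHom.flat_algebraMap_iff.2 inferInstance)

instance preservesFiniteColimits_extM : PreservesFiniteColimits (extM (A := A) (B := B)) :=
  inferInstance

variable (A B) in
/-- flat base change on derived categories -/
noncomputable abbrev extD : Dual.D A ⥤ Dual.D B := (extM (A := A) (B := B)).mapDerivedCategory

/-- flat base change of a module in degree `0` -/
noncomputable def extDInDIso (M : Type u) [AddCommGroup M] [Module A M] :
    (extD A B).obj (Dual.inD A M) ≅ Dual.inD B (B ⊗[A] M) :=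
  mapDSgIso extM 0 (ModuleCat.of A M) ≪≫
    (singleFunctor (ModuleCat.{u} B) 0).mapIso (extMEquiv (B := B) (ModuleCat.of A M)).toModuleIso

theorem isPseudoCoherent_extD (m : ℤ) (K : Dual.D A) (hK : DRing.IsPseudoCoherent A m K) :
    DRing.IsPseudoCoherent B m ((extD A B).obj K) :=
  isPseudoCoherent_mapD extM (fun F _ => finite_extM F) (fun F _ => free_extM F) m K hK

theorem isPseudoCoherent'_extD (K : Dual.D A) (hK : DRing.IsPseudoCoherent' A K) :
    DRing.IsPseudoCoherent' B ((extD A B).obj K) :=
  isPseudoCoherent'_mapD extM (fun F _ => finite_extM F) (fun F _ => free_extM F) K hK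

theorem isPerfect_extD (K : Dual.D A) (hK : DRing.IsPerfect A K) :
    DRing.IsPerfect B ((extD A B).obj K) :=
  isPerfect_mapD extM (fun F _ => finite_extM F) (fun F _ => projective_extM F) K hK

theorem hasTorAmplitudeIn_extD (a b : ℤ) (K : Dual.D A) (hK : DRing.HasTorAmplitudeIn A a b K) :
    DRing.HasTorAmplitudeIn B a b ((extD A B).obj K) :=
  hasTorAmplitudeIn_mapD extM (fun F _ => flat_extM F) a b K hK

/-- S7000 -/
theorem isPseudoCoherentModule_baseChange_of_flat (m : ℤ) (M : Type u) [AddCommGroup M]
    [Module A M] :
    (DRing.IsPseudoCoherentModule A m M → DRing.IsPseudoCoherentModule B m (B ⊗[A] M)) ∧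
      (DRing.IsPseudoCoherentModule' A M → DRing.IsPseudoCoherentModule' B (B ⊗[A] M)) :=
  ⟨fun h => isPseudoCoherent_of_iso (extDInDIso M) (isPseudoCoherent_extD m _ h),
    fun h => isPseudoCoherent'_of_iso (extDInDIso M) (isPseudoCoherent'_extD _ h)⟩

/-- S7001 -/
theorem hasTorAmplitudeIn_single_baseChange_of_flat (a b : ℤ) (M : Type u) [AddCommGroup M]
    [Module A M] (hM : DRing.HasTorAmplitudeIn A a b (Dual.inD A M)) :
    DRing.HasTorAmplitudeIn B a b (Dual.inD B (B ⊗[A] M)) :=
  hasTorAmplitudeIn_of_iso (extDInDIso M) (hasTorAmplitudeIn_extD a b _ hM)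

/-- S6958 -/
theorem isPerfectModule_baseChange_of_flat (M : Type u) [AddCommGroup M]
    [Module A M] (hM : DRing.IsPerfectModule A M) : DRing.IsPerfectModule B (B ⊗[A] M) :=
  isPerfect_of_iso (extDInDIso M) (isPerfect_extD _ hM)

end flat

end Groth.Agent.Lib.Helper18.DR
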