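import Mathlib
import Groth.Agent.Lib.Helper18.DRExt2

/-!
# Descent of pseudo-coherence along faithful exact functors (helper18)
-/

set_option autoImplicit false
set_option linter.style.haveILetI false
universe u
open CategoryTheory CategoryTheory.Limits CategoryTheory.Pretriangulated DerivedCategory
open TensorProduct

attribute [local instance] HasDerivedCategory.standard

namespace Groth.Agent.Lib.Helper18.DR

section general

variable {A B : Type u} [CommRing A] [CommRing B]
  (G : ModuleCat.{u} A ⥤ ModuleCat.{u} B) [G.Additive] [PreservesFiniteLimits G]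
  [PreservesFiniteColimits G]
  (hzero : ∀ M : ModuleCat.{u} A, IsZero (G.obj M) → IsZero M)
  (hfinD : ∀ M : ModuleCat.{u} A, Module.Finite B (G.obj M) → Module.Finite A M)
  (hfin : ∀ F : ModuleCat.{u} A, Module.Finite A F → Module.Finite B (G.obj F))
  (hfree : ∀ F : ModuleCat.{u} A, Module.Free A F → Module.Free B (G.obj F))

include hfinD hfin hfree in
lemma isPseudoCoherent_of_mapD_aux (m : ℤ) : ∀ (N : ℕ) (K : Dual.D A),
    K.IsLE (m - 1 + N) → DRing.IsPseudoCoherent B m (G.mapDerivedCategory.obj K) →
      DRing.IsPseudoCoherent A m K := by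
  intro N
  induction N with
  | zero =>
    intro K hK _
    haveI : K.IsLE (m - 1) := by simpa using hK
    exact isPseudoCoherent_of_isLE K (m - 1) m (by omega)
  | succ N ih =>
    intro K hKle hK
    obtain ⟨n, hn⟩ : ∃ n : ℤ, n = m + N := ⟨_, rfl⟩
    haveI : K.IsLE n := by
      have e : m - 1 + ((N + 1 : ℕ) : ℤ) = n := by push_cast; omega
      rw [← e]; exact hKle
    haveI : (G.mapDerivedCategory.obj K).IsLE n := isLE_mapD G K n
    have hfinB : Module.Finite B ((H B n).obj (G.mapDerivedCategory.obj K)) :=
      finite_H_of_isPseudoCoherent _ n (isPseudoCoherent_mono (by omega) hK)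
        (fun i hi => isZero_of_isLE _ n i hi)
    have hfinB' : Module.Finite B (G.obj ((H A n).obj K)) :=
      Module.Finite.equiv (homologyMapDIso G K n).toLinearEquiv
    have hfinA : Module.Finite A ((H A n).obj K) := hfinD _ hfinB'
    obtain ⟨r, π, hπ⟩ := Module.Finite.exists_fin' A ((H A n).obj K)
    let F : ModuleCat.{u} A := ModuleCat.of A (Fin r → A)
    haveI : Projective F := inferInstance
    haveI : Module.Finite A F := inferInstanceAs (Module.Finite A (Fin r → A))
    haveI : Module.Free A F := inferInstanceAs (Module.Free A (Fin r → A))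
    obtain ⟨ψ, hψ⟩ := exists_hom_Sg n F K (ModuleCat.ofHom π)
    have hepi : Epi ((H A n).map ψ) := by
      have h1 : (H A n).map ψ = (HSg n F).hom ≫ ModuleCat.ofHom π := by
        rw [← hψ]; simp
      rw [h1]
      haveI : Epi (ModuleCat.ofHom π) := (ModuleCat.epi_iff_surjective _).mpr hπ
      infer_instance
    have hconn : IsConn n ψ := by
      refine ⟨fun i hi => ?_, hepi⟩
      exact isIso_of_isZero_isZero _ (isZero_of_isLE (Sg n F) n i hi) (isZero_of_isLE K n i hi)
    obtain ⟨C, β, γ, hT⟩ := distinguished_cocone_triangle ψ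
    have hC : C.IsLE (n - 1) := (isConn_iff_isLE_cone hT n).mp hconn
    have hC' : C.IsLE (m - 1 + N) := by
      have e : n - 1 = m - 1 + N := by omega
      rw [← e]; exact hC
    have hT' := G.mapDerivedCategory.map_distinguished _ hT
    haveI : Module.Finite B (G.obj F) := hfin F inferInstance
    haveI : Module.Free B (G.obj F) := hfree F inferInstance
    have h1 : DRing.IsPseudoCoherent B (m + 1) (G.mapDerivedCategory.obj (Sg n F)) :=
      isPseudoCoherent_of_iso (mapDSgIso G n F).symm (isPseudoCoherent_Sg n (G.obj F) (m + 1))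
    have hresC : DRing.IsPseudoCoherent B m (G.mapDerivedCategory.obj C) :=
      isPseudoCoherent_obj₃ _ hT' m h1 hK
    have hCpc := ih C hC' hresC
    exact (isPseudoCoherent_triangle _ hT m).2.1 (isPseudoCoherent_Sg n F m) hCpc

include hzero hfinD hfin hfree in
theorem isPseudoCoherent_of_mapD (m : ℤ) (K : Dual.D A)
    (hK : DRing.IsPseudoCoherent B m (G.mapDerivedCategory.obj K)) :
    DRing.IsPseudoCoherent A m K := by
  obtain ⟨b, hb⟩ := exists_isLE_of_isPseudoCoherent hK
  have hb' : K.IsLE b := isLE_of_mapD G hzero K b hb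
  obtain ⟨N, hN⟩ : ∃ N : ℕ, b ≤ m - 1 + N := ⟨(b - m + 1).toNat, by omega⟩
  have : K.IsLE (m - 1 + N) := TStructure.t.isLE_of_le K b _ hN
  exact isPseudoCoherent_of_mapD_aux G hfinD hfin hfree m N K this hK

end general

section ff

variable {A B : Type u} [CommRing A] [CommRing B] [Algebra A B] [Module.FaithfullyFlat A B]

lemma isZero_of_isZero_extM (M : ModuleCat.{u} A)
    (h : IsZero ((extM (A := A) (B := B)).obj M)) : IsZero M := by
  haveI : Subsingleton ((extM (A := A) (B := B)).obj M) := ModuleCat.subsingleton_of_isZero h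
  haveI : Subsingleton (B ⊗[A] M) := (extMEquiv (B := B) M).symm.toEquiv.subsingleton
  haveI : Subsingleton M := (Module.FaithfullyFlat.subsingleton_tensorProduct_iff_right A B).1
    ‹Subsingleton (B ⊗[A] M)›
  exact ModuleCat.isZero_of_subsingleton _

lemma finite_of_finite_extM (M : ModuleCat.{u} A)
    (h : Module.Finite B ((extM (A := A) (B := B)).obj M)) : Module.Finite A M := by
  haveI : Module.Finite B (B ⊗[A] M) := Module.Finite.equiv (extMEquiv (B := B) M)
  exact Module.Finite.of_finite_tensorProduct_of_faithfullyFlat B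

theorem isPseudoCoherent_of_extD (m : ℤ) (K : Dual.D A)
    (hK : DRing.IsPseudoCoherent B m ((extD A B).obj K)) : DRing.IsPseudoCoherent A m K :=
  isPseudoCoherent_of_mapD extM isZero_of_isZero_extM finite_of_finite_extM
    (fun F _ => finite_extM F) (fun F _ => free_extM F) m K hK

/-- S6941 -/
theorem isPseudoCoherent_of_faithfullyFlat_baseChange (K : DRing.Cx A) (m : ℤ) :
    (DRing.IsPseudoCoherent B m (DRing.toD (((ModuleCat.extendScalars.{u, u, u}
        (algebraMap A B)).mapHomologicalComplex (ComplexShape.up ℤ)).obj K)) →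
          DRing.IsPseudoCoherent A m (DRing.toD K)) ∧
      (DRing.IsPseudoCoherent' B (DRing.toD (((ModuleCat.extendScalars.{u, u, u}
        (algebraMap A B)).mapHomologicalComplex (ComplexShape.up ℤ)).obj K)) →
          DRing.IsPseudoCoherent' A (DRing.toD K)) := by
  have key : ∀ m : ℤ, DRing.IsPseudoCoherent B m (DRing.toD (((ModuleCat.extendScalars.{u, u, u}
        (algebraMap A B)).mapHomologicalComplex (ComplexShape.up ℤ)).obj K)) →
          DRing.IsPseudoCoherent A m (DRing.toD K) := fun m h =>
    isPseudoCoherent_of_extD m _ (isPseudoCoherent_of_iso (mapDToDIso extM K).symm h)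
  refine ⟨key m, fun h => ?_⟩
  rw [← isPseudoCoherent'_iff_forall] at h ⊢
  exact fun m => key m (h m)

end ff

end Groth.Agent.Lib.Helper18.DR
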