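import Mathlib
import Groth.Agent.Lib.Helper2.DCoprod

/-!
# Coproducts in the derived category, with independent universe for the index type (helper18)

Universe-generalized copy of the last section of `Helper2/DCoprod.lean`.
-/

set_option autoImplicit false
universe w' w v u
open CategoryTheory CategoryTheory.Limits

namespace Groth.Agent.Lib.Helper18.DCoprodU

open Groth.Agent.Lib.Helper2.DCoprod DerivedCategory

variable {A : Type u} [Category.{v} A] [Abelian A] [HasDerivedCategory.{w} A]
variable {J : Type w'} [HasColimitsOfShape (Discrete J) A]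
  [HasExactColimitsOfShape (Discrete J) A]

lemma exists_desc (K : J → CochainComplex A ℤ) (L : CochainComplex A ℤ)
    (g : ∀ j, Q.obj (K j) ⟶ Q.obj L) :
    ∃ d : Q.obj (∐ K) ⟶ Q.obj L, ∀ j, Q.map (Limits.Sigma.ι K j) ≫ d = g j := by
  have ex := fun j => right_fac (g j)
  choose K' s hs f hg using ex
  haveI : ∀ j, QuasiIso (s j) := fun j => (isIso_Q_map_iff_quasiIso _ (s j)).1 (hs j)
  haveI : IsIso (Q.map (Limits.Sigma.map s)) := by
    rw [isIso_Q_map_iff_quasiIso]; infer_instance
  refine ⟨inv (Q.map (Limits.Sigma.map s)) ≫ Q.map (Limits.Sigma.desc f), fun j => ?_⟩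
  haveI := hs j
  rw [hg j, ← cancel_epi (Q.map (s j)), IsIso.hom_inv_id_assoc]
  have e1 : Q.map (s j) ≫ Q.map (Limits.Sigma.ι K j) =
      Q.map (Limits.Sigma.ι K' j) ≫ Q.map (Limits.Sigma.map s) := by
    rw [← Q.map_comp, ← Q.map_comp, Limits.Sigma.ι_map]
  rw [reassoc_of% e1, IsIso.hom_inv_id_assoc, ← Q.map_comp, Limits.Sigma.ι_desc]

lemma eq_zero_of_comp_ι (K : J → CochainComplex A ℤ) (L : CochainComplex A ℤ)
    (d : Q.obj (∐ K) ⟶ Q.obj L) (h : ∀ j, Q.map (Limits.Sigma.ι K j) ≫ d = 0) : d = 0 := by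
  obtain ⟨L', g, t, ht, rfl⟩ := left_fac d
  haveI := ht
  have hg : ∀ j, Q.map (Limits.Sigma.ι K j ≫ g) = 0 := fun j => by
    have := h j =≫ Q.map t
    simpa using this
  have ex := fun j => exists_quasiIso_comp_homotopy_zero _ (hg j)
  choose K'' u hu hH using ex
  haveI : ∀ j, QuasiIso (u j) := hu
  have hUg : Nonempty (Homotopy (Limits.Sigma.map u ≫ g) 0) := by
    apply homotopy_zero_of_sigma
    intro j
    obtain ⟨H⟩ := hH j
    exact ⟨(Homotopy.ofEq (by rw [Limits.Sigma.ι_map_assoc])).trans H⟩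
  obtain ⟨H⟩ := hUg
  have h0 : Q.map (Limits.Sigma.map u) ≫ Q.map g = 0 := by
    rw [← Q.map_comp, Q_map_eq_of_homotopy _ H, Q.map_zero]
  haveI : IsIso (Q.map (Limits.Sigma.map u)) := by
    rw [isIso_Q_map_iff_quasiIso]; infer_instance
  have : Q.map g = 0 := by rw [← cancel_epi (Q.map (Limits.Sigma.map u)), h0, comp_zero]
  rw [this, zero_comp]

/-- `Q` sends the coproduct of a family of cochain complexes to a coproduct in `D(A)`. -/
noncomputable def isColimitCofanQ (K : J → CochainComplex A ℤ) :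
    IsColimit (Cofan.mk (Q.obj (∐ K)) (fun j => Q.map (Limits.Sigma.ι K j))) :=
  mkCofanColimit _
    (fun s => (exists_desc K (Q.objPreimage s.pt)
      (fun j => s.inj j ≫ (Q.objObjPreimageIso s.pt).inv)).choose ≫ (Q.objObjPreimageIso s.pt).hom)
    (fun s j => by
      have := (exists_desc K (Q.objPreimage s.pt)
        (fun j => s.inj j ≫ (Q.objObjPreimageIso s.pt).inv)).choose_spec j
      dsimp only [Cofan.mk_pt, Cofan.mk_ι_app, Cofan.inj] at this ⊢
      rw [reassoc_of% this, Iso.inv_hom_id, Category.comp_id])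
    (fun s m hm => by
      have spec := (exists_desc K (Q.objPreimage s.pt)
        (fun j => s.inj j ≫ (Q.objObjPreimageIso s.pt).inv)).choose_spec
      rw [← cancel_mono (Q.objObjPreimageIso s.pt).inv, Category.assoc, Iso.hom_inv_id,
        Category.comp_id, ← sub_eq_zero]
      apply eq_zero_of_comp_ι K (Q.objPreimage s.pt)
      intro j
      rw [Preadditive.comp_sub, spec j, sub_eq_zero]
      have := hm j
      dsimp only [Cofan.mk_pt, Cofan.mk_ι_app, Cofan.inj] at this ⊢
      rw [← this, Category.assoc])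

theorem hasColimitsOfShape_discrete : HasColimitsOfShape (Discrete J) (DerivedCategory A) where
  has_colimit F := by
    let K : J → CochainComplex A ℤ := fun j => Q.objPreimage (F.obj ⟨j⟩)
    haveI : HasColimit (Discrete.functor (fun j => Q.obj (K j))) := ⟨⟨⟨_, isColimitCofanQ K⟩⟩⟩
    exact hasColimit_of_iso (Discrete.natIso (fun ⟨j⟩ => (Q.objObjPreimageIso (F.obj ⟨j⟩)).symm) :
      F ≅ Discrete.functor (fun j => Q.obj (K j)))

end Groth.Agent.Lib.Helper18.DCoprodU
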