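import Mathlib

/-!
# The counit of a right Kan extension along a localization at "cofibrant" objects (helper18)

Let `L : C ⥤ D` be a localization functor for `W`, `F : C ⥤ H` a functor, and `(R, α)` a right Kan
extension of `F` along `L` (e.g. a total left derived functor).  If `P : C` is such that
`L` induces bijections `(P ⟶ c) ≃ (L P ⟶ L c)` for all `c` (e.g. a K-projective complex in the
homotopy category), and `H` has coproducts indexed by the hom-types of `C`, then
`α.app P : R (L P) ⟶ F P` is an isomorphism.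
-/

set_option autoImplicit false
universe v₁ v₂ v₃ u₁ u₂ u₃
open CategoryTheory CategoryTheory.Limits

namespace Groth.Agent.Lib.Helper18.Kan

variable {C : Type u₁} {D : Type u₂} {H : Type u₃} [Category.{v₁} C] [Category.{v₂} D]
  [Category.{v₃} H]

section copower

variable [∀ J : Type v₁, HasColimitsOfShape (Discrete J) H] (P : C) (h : H)

/-- the copower functor `c ↦ ∐_{P ⟶ c} h` -/
noncomputable def cop : C ⥤ H where
  obj c := ∐ (fun _ : P ⟶ c => h)
  map {c c'} f := Sigma.desc (fun x : P ⟶ c => Sigma.ι (fun _ : P ⟶ c' => h) (x ≫ f))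
  map_id c := Sigma.hom_ext _ _ (fun x => by
    rw [Sigma.ι_desc, Category.comp_id, Category.comp_id])
  map_comp f g := Sigma.hom_ext _ _ (fun x => by
    rw [Sigma.ι_desc, Sigma.ι_desc_assoc, Sigma.ι_desc, Category.assoc])

/-- the inclusions of the copower -/
noncomputable def copι {c : C} (x : P ⟶ c) : h ⟶ (cop P h).obj c :=
  Sigma.ι (fun _ : P ⟶ c => h) x

/-- maps out of the copower -/
noncomputable def copDesc {c : C} {Z : H} (g : (P ⟶ c) → (h ⟶ Z)) : (cop P h).obj c ⟶ Z :=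
  Sigma.desc g

@[reassoc]
lemma copι_desc {c : C} {Z : H} (g : (P ⟶ c) → (h ⟶ Z)) (x : P ⟶ c) :
    copι P h x ≫ copDesc P h g = g x :=
  Sigma.ι_desc _ _

lemma cop_hom_ext {c : C} {Z : H} (u v : (cop P h).obj c ⟶ Z)
    (huv : ∀ x, copι P h x ≫ u = copι P h x ≫ v) : u = v :=
  Sigma.hom_ext _ _ (fun x => huv x)

@[reassoc]
lemma copι_map {c c' : C} (x : P ⟶ c) (f : c ⟶ c') :
    copι P h x ≫ (cop P h).map f = copι P h (x ≫ f) :=
  Sigma.ι_desc _ _

/-- Yoneda: maps `h ⟶ Φ P` give natural transformations out of the copower functor -/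
noncomputable def yon (Φ : C ⥤ H) (t : h ⟶ Φ.obj P) : cop P h ⟶ Φ where
  app c := copDesc P h (fun x => t ≫ Φ.map x)
  naturality c c' f := cop_hom_ext P h _ _ (fun x => by
    rw [copι_map_assoc, copι_desc, copι_desc_assoc, Category.assoc, Φ.map_comp])

lemma copι_yon (Φ : C ⥤ H) (t : h ⟶ Φ.obj P) {c : C} (x : P ⟶ c) :
    copι P h x ≫ (yon P h Φ t).app c = t ≫ Φ.map x :=
  copι_desc P h _ x

lemma copι_id_yon (Φ : C ⥤ H) (t : h ⟶ Φ.obj P) :
    copι P h (𝟙 P) ≫ (yon P h Φ t).app P = t := by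
  rw [copι_yon, Φ.map_id, Category.comp_id]

lemma yon_eq (Φ : C ⥤ H) (τ : cop P h ⟶ Φ) :
    τ = yon P h Φ (copι P h (𝟙 P) ≫ τ.app P) := by
  ext c
  apply cop_hom_ext
  intro x
  rw [copι_yon, Category.assoc, ← τ.naturality x, copι_map_assoc, Category.id_comp]

lemma cop_inverts (L : C ⥤ D) (W : MorphismProperty C) [L.IsLocalization W]
    (hP : ∀ c : C, Function.Bijective (fun f : P ⟶ c => L.map f)) :
    W.IsInvertedBy (cop P h) := by
  intro c c' w hw
  haveI : IsIso (L.map w) := Localization.inverts L W w hw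
  have hbij : Function.Bijective (fun x : P ⟶ c => x ≫ w) := by
    have h1 : (fun f : P ⟶ c' => L.map f) ∘ (fun x : P ⟶ c => x ≫ w) =
        (fun g : L.obj P ⟶ L.obj c => g ≫ L.map w) ∘ (fun f : P ⟶ c => L.map f) := by
      funext x
      simp
    have h2 : Function.Bijective ((fun g : L.obj P ⟶ L.obj c => g ≫ L.map w) ∘
        (fun f : P ⟶ c => L.map f)) :=
      Function.Bijective.comp ⟨fun g g' hg => (cancel_mono (L.map w)).1 hg,
        fun g => ⟨g ≫ inv (L.map w), by simp⟩⟩ (hP c)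
    rw [← h1] at h2
    exact (Function.Bijective.of_comp_iff' (hP c') _).1 h2
  let e := Equiv.ofBijective _ hbij
  have he : ∀ x, e x = x ≫ w := fun _ => rfl
  refine ⟨⟨copDesc P h (fun y => copι P h (e.symm y)), ?_, ?_⟩⟩
  · apply cop_hom_ext
    intro x
    rw [copι_map_assoc, copι_desc, Category.comp_id, ← he, e.symm_apply_apply]
  · apply cop_hom_ext
    intro y
    rw [copι_desc_assoc, copι_map, Category.comp_id, ← he, e.apply_symm_apply]

end copower

section lift

variable (L : C ⥤ D) (W : MorphismProperty C) [L.IsLocalization W] {F : C ⥤ H} (R : D ⥤ H)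
  (α : L ⋙ R ⟶ F) [R.IsRightKanExtension α]

include W in
lemma exists_lift (G₀ : C ⥤ H) (hG₀ : W.IsInvertedBy G₀) (β : G₀ ⟶ F) :
    ∃ γ₀ : G₀ ⟶ L ⋙ R, γ₀ ≫ α = β := by
  let G := Localization.lift G₀ hG₀ L
  let e : L ⋙ G ≅ G₀ := Localization.fac G₀ hG₀ L
  refine ⟨e.inv ≫ Functor.whiskerLeft L (R.liftOfIsRightKanExtension α G (e.hom ≫ β)), ?_⟩
  rw [Category.assoc, R.liftOfIsRightKanExtension_fac α G (e.hom ≫ β), Iso.inv_hom_id_assoc]

lemma lift_unique (G₀ : C ⥤ H) (hG₀ : W.IsInvertedBy G₀) (γ₁ γ₂ : G₀ ⟶ L ⋙ R)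
    (h : γ₁ ≫ α = γ₂ ≫ α) : γ₁ = γ₂ := by
  let G := Localization.lift G₀ hG₀ L
  let e : L ⋙ G ≅ G₀ := Localization.fac G₀ hG₀ L
  have hδ : ∀ γ : G₀ ⟶ L ⋙ R,
      Functor.whiskerLeft L (Localization.liftNatTrans L W G₀ (L ⋙ R) G R γ) = e.hom ≫ γ := by
    intro γ
    ext X
    simp only [Functor.whiskerLeft_app, Localization.liftNatTrans_app, NatTrans.comp_app]
    have : (Localization.Lifting.iso L W (L ⋙ R) R).inv.app X = 𝟙 _ := rfl
    rw [this, Category.comp_id]
    rfl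
  have hδ' : Localization.liftNatTrans L W G₀ (L ⋙ R) G R γ₁ =
      Localization.liftNatTrans L W G₀ (L ⋙ R) G R γ₂ :=
    R.hom_ext_of_isRightKanExtension α _ _ (by
      rw [hδ, hδ, Category.assoc, Category.assoc, h])
  have h2 : e.hom ≫ γ₁ = e.hom ≫ γ₂ := by rw [← hδ γ₁, ← hδ γ₂, hδ']
  exact (cancel_epi e.hom).1 h2

end lift

/-- the counit of a right Kan extension along a localization is an isomorphism at objects `P`
such that `L` is "fully faithful on maps out of `P`" -/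
theorem isIso_counit_app [∀ J : Type v₁, HasColimitsOfShape (Discrete J) H]
    (L : C ⥤ D) (W : MorphismProperty C) [L.IsLocalization W] {F : C ⥤ H} (R : D ⥤ H)
    (α : L ⋙ R ⟶ F) [R.IsRightKanExtension α] (P : C)
    (hP : ∀ c : C, Function.Bijective (fun f : P ⟶ c => L.map f)) : IsIso (α.app P) := by
  have hsurj : ∀ (h : H) (t : h ⟶ F.obj P), ∃ s : h ⟶ R.obj (L.obj P), s ≫ α.app P = t := by
    intro h t
    obtain ⟨γ₀, hγ₀⟩ := exists_lift L W R α (cop P h) (cop_inverts P h L W hP) (yon P h F t)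
    refine ⟨copι P h (𝟙 P) ≫ γ₀.app P, ?_⟩
    have h1 : γ₀.app P ≫ α.app P = (yon P h F t).app P := by
      rw [← hγ₀]
      rfl
    rw [Category.assoc, h1, copι_id_yon]
  have hinj : ∀ (h : H) (s₁ s₂ : h ⟶ R.obj (L.obj P)), s₁ ≫ α.app P = s₂ ≫ α.app P →
      s₁ = s₂ := by
    intro h s₁ s₂ hs
    have key : yon P h (L ⋙ R) s₁ = yon P h (L ⋙ R) s₂ := by
      apply lift_unique L W R α (cop P h) (cop_inverts P h L W hP)
      rw [yon_eq P h F (yon P h (L ⋙ R) s₁ ≫ α), yon_eq P h F (yon P h (L ⋙ R) s₂ ≫ α)]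
      congr 1
      rw [NatTrans.comp_app, NatTrans.comp_app, ← Category.assoc, ← Category.assoc,
        copι_id_yon, copι_id_yon]
      exact hs
    have h1 := copι_id_yon P h (L ⋙ R) s₁
    rw [key, copι_id_yon] at h1
    exact h1.symm
  obtain ⟨s, hs⟩ := hsurj _ (𝟙 (F.obj P))
  exact ⟨⟨s, hinj _ _ _ (by rw [Category.assoc, hs, Category.comp_id, Category.id_comp]), hs⟩⟩

end Groth.Agent.Lib.Helper18.Kan
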