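import Mathlib
import Groth.Agent.Lib.Helper18.Kan
import Groth.Agent.Lib.Helper18.DCoprodU
import Groth.Agent.Lib.Helper18.DRExt2

/-!
# Derived base change on K-projective complexes (helper18)

The abstract total left derived functor `DRing.LBaseChange φ` is computed termwise on K-projective
complexes; consequences for perfect and pseudo-coherent objects.
-/

set_option autoImplicit false
set_option linter.style.haveILetI false
universe u
open CategoryTheory CategoryTheory.Limits CategoryTheory.Pretriangulated DerivedCategory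

attribute [local instance] HasDerivedCategory.standard

namespace Groth.Agent.Lib.Helper18.DR

/-- coproducts (of size `u`) in `D(B)` -/
instance hasCoproducts_D (B : Type u) [CommRing B] (J : Type u) :
    HasColimitsOfShape (Discrete J) (Dual.D B) :=
  DCoprodU.hasColimitsOfShape_discrete

section additive

variable {A B : Type u} [CommRing A] [CommRing B]
  (G : ModuleCat.{u} A ⥤ ModuleCat.{u} B) [G.Additive]

lemma vanishesOutside_mapHC (E : DRing.Cx A) (a b : ℤ) (hE : DRing.VanishesOutside E a b) :
    DRing.VanishesOutside ((G.mapHomologicalComplex (ComplexShape.up ℤ)).obj E) a b :=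
  fun i hi => G.map_isZero (hE i hi)

lemma vanishesAbove_mapHC (E : DRing.Cx A) (b : ℤ) (hE : DRing.VanishesAbove E b) :
    DRing.VanishesAbove ((G.mapHomologicalComplex (ComplexShape.up ℤ)).obj E) b :=
  fun i hi => G.map_isZero (hE i hi)

end additive

lemma isLE_toD_of_vanishesAbove {A : Type u} [CommRing A] (X : DRing.Cx A) (n : ℤ)
    (h : DRing.VanishesAbove X n) : (DRing.toD X).IsLE n := by
  haveI := isStrictlyLE_of_vanishesAbove X n h
  infer_instance

/-- K-projective complexes which are isomorphic in the derived category are isomorphic in the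
homotopy category -/
lemma nonempty_homotopyIso_of_toD_iso {A : Type u} [CommRing A] (P P' : DRing.Cx A)
    [P.IsKProjective] [P'.IsKProjective] (e : DRing.toD P ≅ DRing.toD P') :
    Nonempty ((HomotopyCategory.quotient (ModuleCat.{u} A) (ComplexShape.up ℤ)).obj P ≅
      (HomotopyCategory.quotient (ModuleCat.{u} A) (ComplexShape.up ℤ)).obj P') := by
  let q := DerivedCategory.quotientCompQhIso (ModuleCat.{u} A)
  let e' : DerivedCategory.Qh.obj ((HomotopyCategory.quotient _ _).obj P) ≅
      DerivedCategory.Qh.obj ((HomotopyCategory.quotient _ _).obj P') :=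
    q.app P ≪≫ e ≪≫ (q.app P').symm
  obtain ⟨f, hf⟩ := (CochainComplex.IsKProjective.Qh_map_bijective P
    ((HomotopyCategory.quotient _ _).obj P')).surjective e'.hom
  obtain ⟨g, hg⟩ := (CochainComplex.IsKProjective.Qh_map_bijective P'
    ((HomotopyCategory.quotient _ _).obj P)).surjective e'.inv
  refine ⟨⟨f, g, ?_, ?_⟩⟩
  · apply (CochainComplex.IsKProjective.Qh_map_bijective P
      ((HomotopyCategory.quotient _ _).obj P)).injective
    change DerivedCategory.Qh.map (f ≫ g) = DerivedCategory.Qh.map (𝟙 _)
    rw [Functor.map_comp, hf, hg, e'.hom_inv_id, CategoryTheory.Functor.map_id]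
  · apply (CochainComplex.IsKProjective.Qh_map_bijective P'
      ((HomotopyCategory.quotient _ _).obj P')).injective
    change DerivedCategory.Qh.map (g ≫ f) = DerivedCategory.Qh.map (𝟙 _)
    rw [Functor.map_comp, hf, hg, e'.inv_hom_id, CategoryTheory.Functor.map_id]

variable {A B : Type u} [CommRing A] [CommRing B] (φ : A →+* B)

/-- the value of `baseChangeKh` on (the class of) a complex -/
noncomputable def baseChangeKhObjIso (X : DRing.Cx A) :
    (DRing.baseChangeKh φ).obj ((HomotopyCategory.quotient _ _).obj X) ≅
      DRing.toD (((ModuleCat.extendScalars.{u, u, u} φ).mapHomologicalComplex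
        (ComplexShape.up ℤ)).obj X) :=
  DerivedCategory.Qh.mapIso (((ModuleCat.extendScalars.{u, u, u} φ).mapHomotopyCategoryFactors
    (ComplexShape.up ℤ)).app X) ≪≫
    (DerivedCategory.quotientCompQhIso (ModuleCat.{u} B)).app _

section

variable [DRing.HasLBaseChange φ]

/-- the counit of derived base change is an isomorphism on K-projective complexes -/
theorem isIso_LBaseChange_counit (P : DRing.Cx A) [P.IsKProjective] :
    IsIso (((DRing.baseChangeKh φ).totalLeftDerivedCounit DerivedCategory.Qh
      (HomotopyCategory.quasiIso (ModuleCat.{u} A) (ComplexShape.up ℤ))).app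
        ((HomotopyCategory.quotient _ _).obj P)) := by
  haveI : (DRing.LBaseChange φ).IsRightKanExtension
      ((DRing.baseChangeKh φ).totalLeftDerivedCounit DerivedCategory.Qh
        (HomotopyCategory.quasiIso (ModuleCat.{u} A) (ComplexShape.up ℤ))) :=
    Functor.IsLeftDerivedFunctor.isRightKanExtension _ _
      (HomotopyCategory.quasiIso (ModuleCat.{u} A) (ComplexShape.up ℤ))
  exact Kan.isIso_counit_app DerivedCategory.Qh
    (HomotopyCategory.quasiIso (ModuleCat.{u} A) (ComplexShape.up ℤ)) _ _ _
    (fun c => CochainComplex.IsKProjective.Qh_map_bijective P c)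

/-- derived base change is computed termwise on K-projective complexes -/
noncomputable def LBaseChangeIso (P : DRing.Cx A) [P.IsKProjective] :
    (DRing.LBaseChange φ).obj (DRing.toD P) ≅
      DRing.toD (((ModuleCat.extendScalars.{u, u, u} φ).mapHomologicalComplex
        (ComplexShape.up ℤ)).obj P) :=
  haveI := isIso_LBaseChange_counit φ P
  (DRing.LBaseChange φ).mapIso
      ((DerivedCategory.quotientCompQhIso (ModuleCat.{u} A)).app P).symm ≪≫
    asIso (((DRing.baseChangeKh φ).totalLeftDerivedCounit DerivedCategory.Qh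
      (HomotopyCategory.quasiIso (ModuleCat.{u} A) (ComplexShape.up ℤ))).app
        ((HomotopyCategory.quotient _ _).obj P)) ≪≫
    baseChangeKhObjIso φ P

/-- S6957 -/
theorem isPerfect_LBaseChange (K : Dual.D A) (hK : DRing.IsPerfect A K) :
    DRing.IsPerfect B ((DRing.LBaseChange φ).obj K) := by
  letI : Algebra A B := φ.toAlgebra
  obtain ⟨E, a, b, hE, hfp, ⟨e⟩⟩ := hK
  haveI : E.IsKProjective :=
    isKProjective_of_vanishesAbove E b (VanishesOutside.above hE) (fun i => (hfp i).2)
  refine ⟨_, a, b, vanishesOutside_mapHC (ModuleCat.extendScalars.{u, u, u} φ) E a b hE,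
    fun i => ⟨?_, ?_⟩, ⟨(LBaseChangeIso φ E).symm ≪≫ (DRing.LBaseChange φ).mapIso e⟩⟩
  · haveI := (hfp i).1
    exact finite_extM (B := B) (E.X i)
  · haveI := (hfp i).2
    exact projective_extM (B := B) (E.X i)

/-- S2137 -/
theorem isPseudoCoherent_LBaseChange (K : Dual.D A) (m : ℤ)
    (hK : DRing.IsPseudoCoherent A m K) :
    DRing.IsPseudoCoherent B m ((DRing.LBaseChange φ).obj K) := by
  letI : Algebra A B := φ.toAlgebra
  obtain ⟨b, hb⟩ := exists_isLE_of_isPseudoCoherent hK
  haveI := hb
  obtain ⟨G, hGb, hGfree, ⟨eG⟩⟩ := exists_free_resolution K b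
  have hGproj : ∀ i, Module.Projective A (G.X i) := fun i => by
    haveI := hGfree i
    exact Module.Projective.of_free
  haveI : G.IsKProjective := isKProjective_of_vanishesAbove G b hGb hGproj
  refine isPseudoCoherent_of_iso ((LBaseChangeIso φ G).symm ≪≫ (DRing.LBaseChange φ).mapIso eG) ?_
  obtain ⟨E, a, b', α, hE, hff, hα⟩ := (isPseudoCoherent_iff m K).1 hK
  have hEproj : ∀ i, Module.Projective A (E.X i) := fun i => by
    haveI := (hff i).2
    exact Module.Projective.of_free
  haveI : E.IsKProjective :=
    isKProjective_of_vanishesAbove E b' (VanishesOutside.above hE) hEproj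
  obtain ⟨f, hf⟩ := exists_map_eq E G (α ≫ eG.inv)
  have hconn : IsConn m (DerivedCategory.Q.map f) := by
    rw [hf]
    exact hα.comp (IsConn.of_isIso _)
  -- the cone
  have hCle : (DRing.toD (CochainComplex.mappingCone f)).IsLE (m - 1) :=
    (isConn_iff_isLE_cone (DerivedCategory.mappingCone_triangle_distinguished f) m).1 hconn
  obtain ⟨b'', hb1, hb2⟩ : ∃ b'' : ℤ, b' ≤ b'' + 1 ∧ b ≤ b'' :=
    ⟨max b' b, by have := le_max_left b' b; omega, le_max_right b' b⟩
  have hCb : DRing.VanishesAbove (CochainComplex.mappingCone f) b'' :=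
    vanishesAbove_cone f (VanishesAbove.mono (VanishesOutside.above hE) hb1)
      (VanishesAbove.mono hGb hb2)
  have hCproj : ∀ i, Module.Projective A ((CochainComplex.mappingCone f).X i) :=
    fun i => (projProp A).cone f hEproj hGproj i
  haveI : (CochainComplex.mappingCone f).IsKProjective :=
    isKProjective_of_vanishesAbove _ b'' hCb hCproj
  -- replace the cone by a complex in degrees `≤ m - 1`
  haveI := hCle
  obtain ⟨C', hC'b, hC'free, ⟨eC⟩⟩ :=
    exists_free_resolution (DRing.toD (CochainComplex.mappingCone f)) (m - 1)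
  have hC'proj : ∀ i, Module.Projective A (C'.X i) := fun i => by
    haveI := hC'free i
    exact Module.Projective.of_free
  haveI : C'.IsKProjective := isKProjective_of_vanishesAbove C' (m - 1) hC'b hC'proj
  obtain ⟨eh⟩ := nonempty_homotopyIso_of_toD_iso C' (CochainComplex.mappingCone f) eC
  -- the image triangle
  have hT := (DRing.baseChangeKh φ).map_distinguished _
    (HomotopyCategory.mappingCone_triangleh_distinguished f)
  have hle3 : ((DRing.baseChangeKh φ).obj
      ((HomotopyCategory.quotient _ _).obj (CochainComplex.mappingCone f))).IsLE (m - 1) := by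
    haveI : (DRing.toD (((ModuleCat.extendScalars.{u, u, u} φ).mapHomologicalComplex
        (ComplexShape.up ℤ)).obj C')).IsLE (m - 1) :=
      isLE_toD_of_vanishesAbove _ _ (vanishesAbove_mapHC _ C' (m - 1) hC'b)
    exact TStructure.t.isLE_of_iso
      ((baseChangeKhObjIso φ C').symm ≪≫ (DRing.baseChangeKh φ).mapIso eh) (m - 1)
  have hconn' : IsConn m ((DRing.baseChangeKh φ).map
      ((HomotopyCategory.quotient _ _).map f)) :=
    (isConn_iff_isLE_cone hT m).2 hle3
  refine isPseudoCoherent_of_iso (baseChangeKhObjIso φ G) ?_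
  refine (isPseudoCoherent_iff m _).2 ⟨_, a, b',
    (baseChangeKhObjIso φ E).inv ≫ (DRing.baseChangeKh φ).map
      ((HomotopyCategory.quotient _ _).map f),
    vanishesOutside_mapHC (ModuleCat.extendScalars.{u, u, u} φ) E a b' hE, fun i => ⟨?_, ?_⟩,
    (IsConn.of_isIso _).comp hconn'⟩
  · haveI := (hff i).1
    exact finite_extM (B := B) (E.X i)
  · haveI := (hff i).2
    exact free_extM (B := B) (E.X i)

end

end Groth.Agent.Lib.Helper18.DR
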