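import Mathlib
import Groth.Prelude.Def_DRing2
import Groth.Agent.Lib.Helper18.DRProj
import Groth.Agent.Lib.Helper18.DRHom

/-!
# D(R) library: K-injective complexes and morphisms to a shifted injective module (helper18)
-/

set_option autoImplicit false
set_option linter.style.haveILetI false
universe u
open CategoryTheory CategoryTheory.Limits CategoryTheory.Pretriangulated DerivedCategory

attribute [local instance] HasDerivedCategory.standard

namespace Groth.Agent.Lib.Helper18.DR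

variable {R : Type u} [CommRing R]

lemma isKInjective_of_vanishesBelow (E : DRing.Cx R) (a : ℤ) (ha : ∀ i : ℤ, i < a → IsZero (E.X i))
    (hE : DRing.TermwiseInjective E) : E.IsKInjective := by
  haveI : E.IsStrictlyGE a := by
    rw [CochainComplex.isStrictlyGE_iff]
    exact ha
  haveI : ∀ n, Injective (E.X n) := fun n => by
    haveI := hE n
    exact Module.injective_object_of_injective_module R (E.X n)
  exact CochainComplex.isKInjective_of_injective E a

/-- Every morphism into a K-injective complex in `D(R)` is represented by a chain map. -/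
lemma exists_map_eq_inj (K E : DRing.Cx R) [E.IsKInjective] (φ : DRing.toD K ⟶ DRing.toD E) :
    ∃ f : K ⟶ E, DerivedCategory.Q.map f = φ := by
  obtain ⟨g, hg⟩ := (CochainComplex.IsKInjective.Qh_map_bijective
    ((HomotopyCategory.quotient _ _).obj K) E).surjective
      ((DerivedCategory.quotientCompQhIso _).hom.app K ≫ φ ≫
        (DerivedCategory.quotientCompQhIso _).inv.app E)
  obtain ⟨f, rfl⟩ := (HomotopyCategory.quotient _ _).map_surjective g
  refine ⟨f, ?_⟩
  have := DerivedCategory.quotientCompQhIso_hom_naturality (C := ModuleCat.{u} R) f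
  dsimp at this hg
  rw [hg] at this
  simpa using this.symm

/-- Two chain maps into a K-injective complex which agree in `D(R)` are homotopic. -/
lemma nonempty_homotopy_of_map_eq_inj (K E : DRing.Cx R) [E.IsKInjective] (f g : K ⟶ E)
    (h : DerivedCategory.Q.map f = DerivedCategory.Q.map g) : Nonempty (Homotopy f g) := by
  have hinj := (CochainComplex.IsKInjective.Qh_map_bijective
    ((HomotopyCategory.quotient _ _).obj K) E).injective
  have h1 := DerivedCategory.quotientCompQhIso_hom_naturality (C := ModuleCat.{u} R) f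
  have h2 := DerivedCategory.quotientCompQhIso_hom_naturality (C := ModuleCat.{u} R) g
  dsimp at h1 h2
  have : DerivedCategory.Qh.map ((HomotopyCategory.quotient _ _).map f) =
      DerivedCategory.Qh.map ((HomotopyCategory.quotient _ _).map g) := by
    rw [← cancel_mono ((DerivedCategory.quotientCompQhIso _).hom.app E), h1, h2, h]
  exact ⟨HomotopyCategory.homotopyOfEq _ _ (hinj this)⟩

/-- A morphism in `D(R)` from an object cohomologically in degrees `≥ m + 1` to a K-injective complex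
concentrated in degrees `≤ m` vanishes. -/
lemma hom_eq_zero_of_isGE (E : DRing.Cx R) [E.IsKInjective] (m : ℤ) [E.IsStrictlyLE m]
    (X : Dual.D R) [X.IsGE (m + 1)] (φ : X ⟶ DRing.toD E) : φ = 0 := by
  obtain ⟨K, hK, ⟨e⟩⟩ := DerivedCategory.exists_iso_Q_obj_of_isGE X (m + 1)
  obtain ⟨f, hf⟩ := exists_map_eq_inj K E (e.inv ≫ φ)
  have hf0 : f = 0 := by
    ext i : 1
    by_cases hi : i ≤ m
    · exact (K.isZero_of_isStrictlyGE (m + 1) i (by omega)).eq_of_src _ _
    · exact (E.isZero_of_isStrictlyLE m i (by omega)).eq_of_tgt _ _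
  rw [hf0, Functor.map_zero] at hf
  rw [← cancel_epi e.inv, comp_zero, ← hf]

instance isKInjective_single (n : ℤ) (I : ModuleCat.{u} R) [Injective I] :
    ((CochainComplex.singleFunctor (ModuleCat.{u} R) n).obj I).IsKInjective := by
  haveI : ∀ i, Injective (((CochainComplex.singleFunctor (ModuleCat.{u} R) n).obj I).X i) :=
    fun i => (inferInstance : Injective (((HomologicalComplex.single (ModuleCat.{u} R)
      (ComplexShape.up ℤ) n).obj I).X i))
  exact CochainComplex.isKInjective_of_injective _ n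

/-- a morphism `X ⟶ I[-n]` with `X` cohomologically `≥ n + 1` vanishes (`I` injective) -/
lemma hom_to_Sg_eq_zero_of_isGE (n : ℤ) (I : ModuleCat.{u} R) [Injective I] (X : Dual.D R)
    [X.IsGE (n + 1)] (φ : X ⟶ Sg n I) : φ = 0 :=
  hom_eq_zero_of_isGE ((CochainComplex.singleFunctor (ModuleCat.{u} R) n).obj I) n X φ

/-- a morphism `X ⟶ M[-n]` with `X` cohomologically `≤ n - 1` vanishes -/
lemma hom_to_Sg_eq_zero_of_isLE (n : ℤ) (M : ModuleCat.{u} R) (X : Dual.D R)
    [X.IsLE (n - 1)] (φ : X ⟶ Sg n M) : φ = 0 :=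
  TStructure.t.zero φ (n - 1) n

/-- every linear map `H^n(K) → I` to an injective module is induced by a morphism `K → I[-n]` -/
theorem exists_hom_to_Sg (n : ℤ) (I : ModuleCat.{u} R) [Injective I] (K : Dual.D R)
    (g : (H R n).obj K ⟶ I) : ∃ φ : K ⟶ Sg n I, (H R n).map φ ≫ (HSg n I).hom = g := by
  obtain ⟨A, B, hA, hB, f, p, δ, hT⟩ := TStructure.t.exists_triangle K (n - 1) n (by omega)
  haveI : A.IsLE (n - 1) := ⟨hA⟩
  haveI : B.IsGE n := ⟨hB⟩
  obtain ⟨C, B', hC, hB', f', p', δ', hT'⟩ := TStructure.t.exists_triangle B n (n + 1) rfl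
  haveI : C.IsLE n := ⟨hC⟩
  haveI : B'.IsGE (n + 1) := ⟨hB'⟩
  haveI : B'.IsGE (n - 1) := TStructure.t.isGE_of_ge _ (n - 1) (n + 1) (by omega)
  haveI : C.IsGE n := isGE_obj₁ hT' n (inferInstanceAs (B.IsGE n)) (inferInstanceAs (B'.IsGE (n - 1)))
  obtain ⟨M, ⟨e⟩⟩ := exists_iso_singleFunctor_obj_of_isGE_of_isLE C n
  have hp : IsIso ((H R n).map p) :=
    isIso_H_mor₂_of_isZero hT n (isZero_of_isLE A (n - 1) _ (by omega))
      (isZero_of_isLE A (n - 1) _ (by omega))
  have hf' : IsIso ((H R n).map f') :=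
    isIso_H_mor₁_of_isZero hT' (n - 1) n (by omega) (isZero_of_isGE B' (n + 1) _ (by omega))
      (isZero_of_isGE B' (n + 1) _ (by omega))
  -- the map `M → I`
  let g' : M ⟶ I := (HSg n M).inv ≫ (H R n).map e.inv ≫ (H R n).map f' ≫ inv ((H R n).map p) ≫ g
  -- extend `C → I[-n]` to `B`
  have hT'' := inv_rot_of_distTriang _ hT'
  have hz : (Triangle.mk f' p' δ').invRotate.mor₁ ≫
      (e.hom ≫ (singleFunctor (ModuleCat.{u} R) n).map g') = 0 := by
    haveI : ((shiftFunctor (Dual.D R) (-1 : ℤ)).obj B').IsGE (n + 1 + 1) :=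
      TStructure.t.isGE_shift B' (n + 1) (-1) (n + 1 + 1) (by omega)
    haveI : ((shiftFunctor (Dual.D R) (-1 : ℤ)).obj B').IsGE (n + 1) :=
      TStructure.t.isGE_of_ge _ (n + 1) (n + 1 + 1) (by omega)
    exact hom_to_Sg_eq_zero_of_isGE n I ((shiftFunctor (Dual.D R) (-1 : ℤ)).obj B') _
  obtain ⟨ψ, hψ⟩ : ∃ ψ : B ⟶ Sg n I, e.hom ≫ (singleFunctor (ModuleCat.{u} R) n).map g' = f' ≫ ψ :=
    Triangle.yoneda_exact₂ _ hT'' (e.hom ≫ (singleFunctor (ModuleCat.{u} R) n).map g') hz
  refine ⟨p ≫ ψ, ?_⟩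
  have h1 : (H R n).map f' ≫ (H R n).map ψ =
      (H R n).map e.hom ≫ (H R n).map ((singleFunctor (ModuleCat.{u} R) n).map g') := by
    rw [← Functor.map_comp, ← Functor.map_comp, hψ]
  have h2 : (H R n).map ψ = inv ((H R n).map f') ≫ (H R n).map e.hom ≫
      (H R n).map ((singleFunctor (ModuleCat.{u} R) n).map g') := by
    rw [← h1]; simp
  have h3 := HSg_naturality n g'
  rw [Functor.map_comp, h2]
  simp only [Category.assoc]
  rw [h3]
  simp only [g']
  rw [← Functor.map_comp_assoc]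
  simp

/-- a morphism `K → I[-n]` (`I` injective) inducing zero on `H^n` is zero -/
theorem hom_to_Sg_eq_zero (n : ℤ) (I : ModuleCat.{u} R) [Injective I] (K : Dual.D R)
    (φ : K ⟶ Sg n I) (h : (H R n).map φ = 0) : φ = 0 := by
  obtain ⟨A, B, hA, hB, f, p, δ, hT⟩ := TStructure.t.exists_triangle K (n - 1) n (by omega)
  haveI : A.IsLE (n - 1) := ⟨hA⟩
  haveI : B.IsGE n := ⟨hB⟩
  obtain ⟨C, B', hC, hB', f', p', δ', hT'⟩ := TStructure.t.exists_triangle B n (n + 1) rfl
  haveI : C.IsLE n := ⟨hC⟩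
  haveI : B'.IsGE (n + 1) := ⟨hB'⟩
  haveI : B'.IsGE (n - 1) := TStructure.t.isGE_of_ge _ (n - 1) (n + 1) (by omega)
  haveI : C.IsGE n := isGE_obj₁ hT' n (inferInstanceAs (B.IsGE n)) (inferInstanceAs (B'.IsGE (n - 1)))
  obtain ⟨M, ⟨e⟩⟩ := exists_iso_singleFunctor_obj_of_isGE_of_isLE C n
  have hp : IsIso ((H R n).map p) :=
    isIso_H_mor₂_of_isZero hT n (isZero_of_isLE A (n - 1) _ (by omega))
      (isZero_of_isLE A (n - 1) _ (by omega))
  -- factor through `B`
  obtain ⟨ψ, hψ⟩ : ∃ ψ : B ⟶ Sg n I, φ = p ≫ ψ :=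
    Triangle.yoneda_exact₂ _ hT φ (hom_to_Sg_eq_zero_of_isLE n I A _)
  have hψ0 : (H R n).map ψ = 0 := by
    rw [hψ, Functor.map_comp] at h
    rw [← cancel_epi ((H R n).map p), h, comp_zero]
  -- restrict to `C`
  have h1 : f' ≫ ψ = 0 := by
    rw [← cancel_epi e.inv, comp_zero]
    obtain ⟨g, hg⟩ := (singleFunctor (ModuleCat.{u} R) n).map_surjective (e.inv ≫ f' ≫ ψ)
    have h2 : (H R n).map ((singleFunctor (ModuleCat.{u} R) n).map g) = 0 := by
      rw [hg, Functor.map_comp, Functor.map_comp, hψ0, comp_zero, comp_zero]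
    have h3 := HSg_naturality n g
    rw [h2, zero_comp] at h3
    have h4 : g = 0 := by
      rw [← cancel_epi (HSg n M).hom, ← h3, comp_zero]
    rw [← hg, h4, Functor.map_zero]
  obtain ⟨χ, hχ⟩ : ∃ χ : B' ⟶ Sg n I, ψ = p' ≫ χ := Triangle.yoneda_exact₂ _ hT' ψ h1
  rw [hψ, hχ, hom_to_Sg_eq_zero_of_isGE n I B' χ, comp_zero, comp_zero]

end Groth.Agent.Lib.Helper18.DR
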