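import Mathlib
import Groth.Agent.Lib.Helper18.DRInj
import Groth.Agent.Lib.Helper18.DRTwo3

/-!
# Projective amplitude (helper18)
-/

set_option autoImplicit false
set_option linter.style.haveILetI false
universe u
open CategoryTheory CategoryTheory.Limits CategoryTheory.Pretriangulated DerivedCategory

attribute [local instance] HasDerivedCategory.standard

namespace Groth.Agent.Lib.Helper18.DR

variable {R : Type u} [CommRing R]

lemma toSgMap_zero (P : DRing.Cx R) (n : ℤ) (M : ModuleCat.{u} R) (h : P.d (n - 1) n ≫ (0 : P.X n ⟶ M) = 0) :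
    toSgMap P n M 0 h = 0 := by
  apply HomologicalComplex.to_single_hom_ext
  rw [toSgMap_f, zero_comp]
  rfl

/-- `Hom(K, N[i])` in terms of `Hom(K, N[-n])`, `n = -i` -/
lemma subsingleton_ext_iff (K : Dual.D R) (N : Type u) [AddCommGroup N] [Module R N] (i n : ℤ)
    (h : i + n = 0) :
    Subsingleton (DRing.ExtD R K (Dual.inD R N) i) ↔ Subsingleton (K ⟶ Sg n (ModuleCat.of R N)) := by
  have e : ((Sg 0 (ModuleCat.of R N))⟦i⟧) ≅ Sg n (ModuleCat.of R N) :=
    SgShiftIso i n 0 (by omega) (ModuleCat.of R N)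
  exact ⟨fun h' => ⟨fun x y => (cancel_mono e.inv).1 (h'.elim _ _)⟩,
    fun h' => ⟨fun x y => (cancel_mono e.hom).1 (h'.elim _ _)⟩⟩

/-- a complex of projectives in `[a, b]` has no `Ext` outside `[-b, -a]` -/
theorem subsingleton_ext_of_proj (K : Dual.D R) (a b : ℤ) (P : DRing.Cx R)
    (hP : DRing.VanishesOutside P a b) (hproj : ∀ i : ℤ, Module.Projective R (P.X i))
    (e : DRing.toD P ≅ K) (N : Type u) [AddCommGroup N] [Module R N] (i : ℤ)
    (hi : i < -b ∨ -a < i) : Subsingleton (DRing.ExtD R K (Dual.inD R N) i) := by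
  rw [subsingleton_ext_iff K N i (-i) (by omega)]
  haveI : P.IsKProjective := isKProjective_of_vanishesAbove P b (VanishesOutside.above hP) hproj
  suffices H : ∀ ξ : K ⟶ Sg (-i) (ModuleCat.of R N), ξ = 0 from ⟨fun x y => by rw [H x, H y]⟩
  intro ξ
  obtain ⟨φ, hφ, h⟩ := exists_hom_toSg P (-i) (ModuleCat.of R N) (e.hom ≫ ξ)
  have hz : φ = 0 := (hP (-i) (by omega)).eq_of_src _ _
  subst hz
  rw [toSgMap_zero, Functor.map_zero] at h
  rw [← cancel_epi e.hom, comp_zero]
  exact h

/-- if `Hom(K, I[-n]) = 0` for all (injective) modules then `H^n(K) = 0` -/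
theorem subsingleton_H_of_ext (K : Dual.D R) (n : ℤ)
    (h : ∀ (N : Type u) [AddCommGroup N] [Module R N],
      Subsingleton (DRing.ExtD R K (Dual.inD R N) (-n))) : Subsingleton (Dual.HD R K n) := by
  let I : ModuleCat.{u} R := Injective.under ((H R n).obj K)
  have h1 := (subsingleton_ext_iff K I (-n) n (by omega)).1 (h I)
  obtain ⟨φ, hφ⟩ := exists_hom_to_Sg n I K (Injective.ι ((H R n).obj K))
  have hφ0 : φ = 0 := h1.elim _ _
  rw [hφ0, Functor.map_zero, zero_comp] at hφ
  have hz : IsZero ((H R n).obj K) := by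
    rw [IsZero.iff_id_eq_zero, ← cancel_mono (Injective.ι ((H R n).obj K)), ← hφ]
    simp
  exact ModuleCat.subsingleton_of_isZero hz

/-- Stacks 0A5M (4)⇒(1) -/
theorem exists_proj_rep (K : Dual.D R) (j b : ℤ)
    (hH : ∀ n : ℤ, (n < j ∨ b < n) → Subsingleton (Dual.HD R K n))
    (hExt : ∀ (N : Type u) [AddCommGroup N] [Module R N],
      Subsingleton (DRing.ExtD R K (Dual.inD R N) (-j))) :
    ∃ P : DRing.Cx R, DRing.VanishesOutside P (j + 1) b ∧ (∀ i : ℤ, Module.Projective R (P.X i)) ∧
      Nonempty (DRing.toD P ≅ K) := by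
  haveI : K.IsLE b := by
    rw [DerivedCategory.isLE_iff]
    intro i hi
    haveI := hH i (Or.inr hi)
    exact ModuleCat.isZero_of_subsingleton _
  obtain ⟨P, hPb, hPfree, ⟨e⟩⟩ := exists_free_resolution K b
  haveI : P.IsStrictlyLE b := isStrictlyLE_of_vanishesAbove P b hPb
  have hPproj : ∀ i, Module.Projective R (P.X i) := fun i => by
    haveI := hPfree i
    exact Module.Projective.of_free
  haveI : P.IsKProjective := isKProjective_of_vanishesAbove P b hPb hPproj
  -- the class of the projection to opcycles vanishes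
  have hφ : P.d (j - 1) j ≫ P.pOpcycles j = 0 := P.d_pOpcycles _ _
  have h1 := (subsingleton_ext_iff K (P.opcycles j) (-j) j (by omega)).1 (hExt (P.opcycles j))
  have h2 : DerivedCategory.Q.map (toSgMap P j (P.opcycles j) (P.pOpcycles j) hφ) = 0 := by
    rw [← cancel_epi e.inv, comp_zero]
    exact h1.elim _ _
  rw [Q_map_toSgMap_eq_zero_iff] at h2
  obtain ⟨h, hh⟩ := h2
  -- `fromOpcycles` is a split mono
  have h3 : P.fromOpcycles j (j + 1) ≫ h = 𝟙 _ := by
    rw [← cancel_epi (P.pOpcycles j), ← Category.assoc, P.p_fromOpcycles, hh, Category.comp_id]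
  haveI : Mono (P.fromOpcycles j (j + 1)) := mono_of_mono_fac h3
  have h4 : IsZero (P.homology j) := by
    have h5 : P.homologyι j = 0 := by
      rw [← cancel_mono (P.fromOpcycles j (j + 1)), P.homologyι_comp_fromOpcycles, zero_comp]
    rw [IsZero.iff_id_eq_zero, ← cancel_mono (P.homologyι j), h5]
    simp
  haveI : P.IsGE (j + 1) := by
    rw [CochainComplex.isGE_iff]
    intro i hi
    by_cases hij : i = j
    · subst hij
      rw [HomologicalComplex.exactAt_iff_isZero_homology]
      exact h4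
    · rw [← isZero_H_toD_iff_exactAt]
      haveI := hH i (Or.inl (by omega))
      exact (ModuleCat.isZero_of_subsingleton ((H R i).obj K)).of_iso ((H R i).mapIso e)
  -- `opcycles (j+1)` is a retract of `P.X (j+1)`
  have h6 : P.fromOpcycles j (j + 1) ≫ P.pOpcycles (j + 1) = 0 := by
    rw [← cancel_epi (P.pOpcycles j), ← Category.assoc, P.p_fromOpcycles, P.d_pOpcycles, comp_zero]
  have h7 : P.d j (j + 1) ≫ (𝟙 (P.X (j + 1)) - h ≫ P.fromOpcycles j (j + 1)) = 0 := by
    rw [Preadditive.comp_sub, Category.comp_id, ← Category.assoc, hh, P.p_fromOpcycles, sub_self]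
  let s : P.opcycles (j + 1) ⟶ P.X (j + 1) :=
    P.descOpcycles (𝟙 (P.X (j + 1)) - h ≫ P.fromOpcycles j (j + 1)) j (by simp) h7
  have hs : s ≫ P.pOpcycles (j + 1) = 𝟙 _ := by
    rw [← cancel_epi (P.pOpcycles (j + 1)), ← Category.assoc, P.p_descOpcycles,
      Preadditive.sub_comp, Category.id_comp, Category.assoc, h6, comp_zero, sub_zero,
      Category.comp_id]
  haveI : Projective (P.X (j + 1)) :=
    (IsProjective.iff_projective (R := R) (P := P.X (j + 1))).mp (hPproj (j + 1))
  haveI : Projective (P.opcycles (j + 1)) :=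
    Retract.projective ⟨s, P.pOpcycles (j + 1), hs⟩
  refine ⟨P.truncGE (j + 1), ?_, ?_,
    ⟨(asIso (DerivedCategory.Q.map (P.πTruncGE (j + 1)))).symm ≪≫ e⟩⟩
  · rintro i (hi | hi)
    · exact (P.truncGE (j + 1)).isZero_of_isStrictlyGE (j + 1) i hi
    · exact (P.truncGE (j + 1)).isZero_of_isStrictlyLE b i hi
  · intro i
    by_cases hi : i < j + 1
    · haveI : Subsingleton ((P.truncGE (j + 1)).X i) :=
        ModuleCat.subsingleton_of_isZero ((P.truncGE (j + 1)).isZero_of_isStrictlyGE (j + 1) i hi)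
      infer_instance
    · by_cases hi' : i = j + 1
      · subst hi'
        have : Module.Projective R (P.opcycles (j + 1)) :=
          (IsProjective.iff_projective (R := R) (P := P.opcycles (j + 1))).mpr inferInstance
        exact Module.Projective.of_equiv (P.truncGEXIsoOpcycles (j + 1)).symm.toLinearEquiv
      · haveI := hPproj i
        exact Module.Projective.of_equiv (P.truncGEXIso (j + 1) i (by omega)).symm.toLinearEquiv

/-- Stacks 0A5M -/
theorem projAmp_tfae (K : Dual.D R) (a b : ℤ) :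
    [∃ P : DRing.Cx R, DRing.VanishesOutside P a b ∧ (∀ i : ℤ, Module.Projective R (P.X i)) ∧
        Nonempty (DRing.toD P ≅ K),
      ∀ (N : Type u) [AddCommGroup N] [Module R N] (i : ℤ), (i < -b ∨ -a < i) →
        Subsingleton (DRing.ExtD R K (Dual.inD R N) i),
      (∀ n : ℤ, b < n → Subsingleton (Dual.HD R K n)) ∧
        ∀ (N : Type u) [AddCommGroup N] [Module R N] (i : ℤ), -a < i →
          Subsingleton (DRing.ExtD R K (Dual.inD R N) i),
      (∀ n : ℤ, (n < a - 1 ∨ b < n) → Subsingleton (Dual.HD R K n)) ∧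
        ∀ (N : Type u) [AddCommGroup N] [Module R N],
          Subsingleton (DRing.ExtD R K (Dual.inD R N) (-a + 1))].TFAE := by
  tfae_have 1 → 2 := by
    rintro ⟨P, hP, hproj, ⟨e⟩⟩ N _ _ i hi
    exact subsingleton_ext_of_proj K a b P hP hproj e N i hi
  tfae_have 2 → 3 := by
    intro h
    refine ⟨fun n hn => subsingleton_H_of_ext K n (fun N _ _ => h N (-n) (Or.inl (by omega))),
      fun N _ _ i hi => h N i (Or.inr hi)⟩
  tfae_have 3 → 4 := by
    rintro ⟨h1, h2⟩
    refine ⟨fun n hn => ?_, fun N _ _ => h2 N (-a + 1) (by omega)⟩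
    rcases hn with hn | hn
    · exact subsingleton_H_of_ext K n (fun N _ _ => h2 N (-n) (by omega))
    · exact h1 n hn
  tfae_have 4 → 1 := by
    rintro ⟨h1, h2⟩
    have := exists_proj_rep K (a - 1) b (fun n hn => h1 n hn) (fun N _ _ => by
      have e : -(a - 1) = -a + 1 := by ring
      rw [e]
      exact h2 N)
    rwa [sub_add_cancel] at this
  tfae_finish

end Groth.Agent.Lib.Helper18.DR
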