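import Mathlib
import Groth.Agent.Lib.Helper18.DRProjAmp
import Groth.Agent.Lib.Helper18.DRSum
import Groth.Agent.Lib.Helper18.DRPerf

/-!
# Perfect complexes: projective amplitude with finiteness, direct summands (helper18)
-/

set_option autoImplicit false
set_option linter.style.haveILetI false
universe u
open CategoryTheory CategoryTheory.Limits CategoryTheory.Pretriangulated DerivedCategory

attribute [local instance] HasDerivedCategory.standard

namespace Groth.Agent.Lib.Helper18.DR

variable {R : Type u} [CommRing R]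

/-- Stacks 0A5M (4)⇒(1), for a given bounded above projective representative, keeping finiteness -/
theorem exists_proj_rep_of (K : Dual.D R) (j b : ℤ)
    (hH : ∀ n : ℤ, (n < j ∨ b < n) → Subsingleton (Dual.HD R K n))
    (hExt : ∀ (N : Type u) [AddCommGroup N] [Module R N],
      Subsingleton (DRing.ExtD R K (Dual.inD R N) (-j)))
    (P : DRing.Cx R) (hPb : DRing.VanishesAbove P b) (hPproj : ∀ i, Module.Projective R (P.X i))
    (e : DRing.toD P ≅ K) :
    ∃ P' : DRing.Cx R, DRing.VanishesOutside P' (j + 1) b ∧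
      (∀ i : ℤ, Module.Projective R (P'.X i)) ∧
      (∀ i : ℤ, Module.Finite R (P.X i) → Module.Finite R (P'.X i)) ∧
      Nonempty (DRing.toD P' ≅ K) := by
  haveI : P.IsStrictlyLE b := isStrictlyLE_of_vanishesAbove P b hPb
  haveI : P.IsKProjective := isKProjective_of_vanishesAbove P b hPb hPproj
  -- the class of the projection to opcycles vanishes
  have hφ : P.d (j - 1) j ≫ P.pOpcycles j = 0 := P.d_pOpcycles _ _
  have h1 := (subsingleton_ext_iff K (P.opcycles j) (-j) j (by omega)).1 (hExt (P.opcycles j))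
  have h2 : DerivedCategory.Q.map (toSgMap P j (P.opcycles j) (P.pOpcycles j) hφ) = 0 := by
    rw [← cancel_epi e.inv, comp_zero]
    exact h1.elim _ _
  rw [Q_map_toSgMap_eq_zero_iff] at h2
  obtain ⟨h, hh⟩ := h2
  -- `fromOpcycles` is a split mono
  have h3 : P.fromOpcycles j (j + 1) ≫ h = 𝟙 _ := by
    rw [← cancel_epi (P.pOpcycles j), ← Category.assoc, P.p_fromOpcycles, hh, Category.comp_id]
  haveI : Mono (P.fromOpcycles j (j + 1)) := mono_of_mono_fac h3
  have h4 : IsZero (P.homology j) := by
    have h5 : P.homologyι j = 0 := by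
      rw [← cancel_mono (P.fromOpcycles j (j + 1)), P.homologyι_comp_fromOpcycles, zero_comp]
    rw [IsZero.iff_id_eq_zero, ← cancel_mono (P.homologyι j), h5]
    simp
  haveI : P.IsGE (j + 1) := by
    rw [CochainComplex.isGE_iff]
    intro i hi
    by_cases hij : i = j
    · subst hij
      rw [HomologicalComplex.exactAt_iff_isZero_homology]
      exact h4
    · rw [← isZero_H_toD_iff_exactAt]
      haveI := hH i (Or.inl (by omega))
      exact (ModuleCat.isZero_of_subsingleton ((H R i).obj K)).of_iso ((H R i).mapIso e)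
  -- `opcycles (j+1)` is a retract of `P.X (j+1)`
  have h6 : P.fromOpcycles j (j + 1) ≫ P.pOpcycles (j + 1) = 0 := by
    rw [← cancel_epi (P.pOpcycles j), ← Category.assoc, P.p_fromOpcycles, P.d_pOpcycles, comp_zero]
  have h7 : P.d j (j + 1) ≫ (𝟙 (P.X (j + 1)) - h ≫ P.fromOpcycles j (j + 1)) = 0 := by
    rw [Preadditive.comp_sub, Category.comp_id, ← Category.assoc, hh, P.p_fromOpcycles, sub_self]
  let s : P.opcycles (j + 1) ⟶ P.X (j + 1) :=
    P.descOpcycles (𝟙 (P.X (j + 1)) - h ≫ P.fromOpcycles j (j + 1)) j (by simp) h7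
  have hs : s ≫ P.pOpcycles (j + 1) = 𝟙 _ := by
    rw [← cancel_epi (P.pOpcycles (j + 1)), ← Category.assoc, P.p_descOpcycles,
      Preadditive.sub_comp, Category.id_comp, Category.assoc, h6, comp_zero, sub_zero,
      Category.comp_id]
  haveI : Projective (P.X (j + 1)) :=
    (IsProjective.iff_projective (R := R) (P := P.X (j + 1))).mp (hPproj (j + 1))
  haveI : Projective (P.opcycles (j + 1)) :=
    Retract.projective ⟨s, P.pOpcycles (j + 1), hs⟩
  refine ⟨P.truncGE (j + 1), ?_, ?_, ?_,
    ⟨(asIso (DerivedCategory.Q.map (P.πTruncGE (j + 1)))).symm ≪≫ e⟩⟩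
  · rintro i (hi | hi)
    · exact (P.truncGE (j + 1)).isZero_of_isStrictlyGE (j + 1) i hi
    · exact (P.truncGE (j + 1)).isZero_of_isStrictlyLE b i hi
  · intro i
    by_cases hi : i < j + 1
    · haveI : Subsingleton ((P.truncGE (j + 1)).X i) :=
        ModuleCat.subsingleton_of_isZero ((P.truncGE (j + 1)).isZero_of_isStrictlyGE (j + 1) i hi)
      infer_instance
    · by_cases hi' : i = j + 1
      · subst hi'
        have : Module.Projective R (P.opcycles (j + 1)) :=
          (IsProjective.iff_projective (R := R) (P := P.opcycles (j + 1))).mpr inferInstance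
        exact Module.Projective.of_equiv (P.truncGEXIsoOpcycles (j + 1)).symm.toLinearEquiv
      · haveI := hPproj i
        exact Module.Projective.of_equiv (P.truncGEXIso (j + 1) i (by omega)).symm.toLinearEquiv
  · intro i hfin
    by_cases hi : i < j + 1
    · haveI : Subsingleton ((P.truncGE (j + 1)).X i) :=
        ModuleCat.subsingleton_of_isZero ((P.truncGE (j + 1)).isZero_of_isStrictlyGE (j + 1) i hi)
      infer_instance
    · by_cases hi' : i = j + 1
      · subst hi'
        have hsurj : Function.Surjective (P.pOpcycles (j + 1)).hom :=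
          (ModuleCat.epi_iff_surjective _).1 inferInstance
        haveI : Module.Finite R (P.opcycles (j + 1)) :=
          Module.Finite.of_surjective (P.pOpcycles (j + 1)).hom hsurj
        exact Module.Finite.equiv (P.truncGEXIsoOpcycles (j + 1)).symm.toLinearEquiv
      · exact Module.Finite.equiv (P.truncGEXIso (j + 1) i (by omega)).symm.toLinearEquiv

/-- a pseudo-coherent object with bounded `Ext`s against all modules is perfect -/
theorem isPerfect_of_pc_of_ext (K : Dual.D R) (hK : DRing.IsPseudoCoherent' R K) (a b : ℤ)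
    (hExt : ∀ (N : Type u) [AddCommGroup N] [Module R N] (i : ℤ), (i < -b ∨ -a < i) →
        Subsingleton (DRing.ExtD R K (Dual.inD R N) i)) : DRing.IsPerfect R K := by
  have h4 := ((projAmp_tfae K a b).out 1 3).1 hExt
  obtain ⟨F, b', hFb', hFff, ⟨e⟩⟩ := hK
  obtain ⟨b'', hb1, hb2⟩ : ∃ b'' : ℤ, b ≤ b'' ∧ b' ≤ b'' :=
    ⟨max b b', le_max_left _ _, le_max_right _ _⟩
  have hFb'' : DRing.VanishesAbove F b'' := VanishesAbove.mono hFb' hb2
  have hproj : ∀ i, Module.Projective R (F.X i) := fun i => by
    haveI := (hFff i).2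
    exact Module.Projective.of_free
  obtain ⟨P', hP', hP'proj, hP'fin, ⟨e'⟩⟩ := exists_proj_rep_of K (a - 1) b''
    (fun n hn => h4.1 n (by omega))
    (fun N _ _ => by
      have e : -(a - 1) = -a + 1 := by ring
      rw [e]
      exact h4.2 N) F hFb'' hproj e
  exact ⟨P', _, _, hP', fun i => ⟨hP'fin i (hFff i).1, hP'proj i⟩, ⟨e'⟩⟩

/-- `Ext` vanishing passes to direct summands -/
lemma subsingleton_ext_of_retract {K L : Dual.D R} (i : K ⟶ L) (r : L ⟶ K) (hir : i ≫ r = 𝟙 K)
    (M : Dual.D R) (h : Subsingleton (L ⟶ M)) : Subsingleton (K ⟶ M) :=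
  ⟨fun x y => by
    have h1 : r ≫ x = r ≫ y := h.elim _ _
    have h2 := congrArg (fun t => i ≫ t) h1
    simpa only [← Category.assoc, hir, Category.id_comp] using h2⟩

/-- perfect objects have bounded `Ext`s against modules -/
lemma exists_ext_bounds_of_isPerfect {K : Dual.D R} (hK : DRing.IsPerfect R K) :
    ∃ a b : ℤ, ∀ (N : Type u) [AddCommGroup N] [Module R N] (i : ℤ), (i < -b ∨ -a < i) →
        Subsingleton (DRing.ExtD R K (Dual.inD R N) i) := by
  obtain ⟨E, a, b, hE, hfp, ⟨e⟩⟩ := hK
  have h1 : ∃ P : DRing.Cx R, DRing.VanishesOutside P a b ∧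
      (∀ i : ℤ, Module.Projective R (P.X i)) ∧ Nonempty (DRing.toD P ≅ K) :=
    ⟨E, hE, fun i => (hfp i).2, ⟨e⟩⟩
  exact ⟨a, b, ((projAmp_tfae K a b).out 0 1).1 h1⟩

/-- Stacks 066U: direct summands of perfect objects are perfect -/
theorem isPerfect_of_retract {K L : Dual.D R} (i : K ⟶ L) (r : L ⟶ K) (hir : i ≫ r = 𝟙 K)
    (hK : DRing.IsPseudoCoherent' R K) (hL : DRing.IsPerfect R L) : DRing.IsPerfect R K := by
  obtain ⟨a, b, h⟩ := exists_ext_bounds_of_isPerfect hL
  exact isPerfect_of_pc_of_ext K hK a b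
    (fun N _ _ j hj => subsingleton_ext_of_retract i r hir _ (h N j hj))

/-- S7019 -/
theorem isPerfect_of_biprod (K L : Dual.D R) [HasBinaryBiproduct K L]
    (h : DRing.IsPerfect R (K ⊞ L)) : DRing.IsPerfect R K ∧ DRing.IsPerfect R L := by
  have hpc : DRing.IsPseudoCoherent' R (K ⊞ L) := by
    rw [← isPseudoCoherent'_iff_forall]
    exact fun m => isPseudoCoherent_of_isPerfect h m
  obtain ⟨hK, hL⟩ := isPseudoCoherent'_of_biprod K L hpc
  exact ⟨isPerfect_of_retract biprod.inl biprod.fst biprod.inl_fst hK h,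
    isPerfect_of_retract biprod.inr biprod.snd biprod.inr_snd hL h⟩

end Groth.Agent.Lib.Helper18.DR
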