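import Mathlib
import Groth.Agent.Lib.Helper18.DRPerf2
import Groth.Agent.Lib.Helper18.DRRes
import Groth.Agent.Lib.Helper18.DRFin
import Groth.Agent.Lib.Helper18.DRInd

/-!
# Tor amplitude I: flatness in short exact sequences, cycles of exact complexes, canonical
truncations (helper18)
-/

set_option autoImplicit false
set_option linter.style.haveILetI false
universe u
open CategoryTheory CategoryTheory.Limits CategoryTheory.Pretriangulated DerivedCategory TensorProduct ZeroObject

attribute [local instance] HasDerivedCategory.standard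

namespace Groth.Agent.Lib.Helper18.DR

variable {R : Type u} [CommRing R]

section Mod

variable {M N P : Type u} [AddCommGroup M] [Module R M] [AddCommGroup N] [Module R N]
  [AddCommGroup P] [Module R P]

/-- in a short exact sequence `0 → M → N → P → 0` with `N`, `P` flat, `M` is flat -/
lemma flat_of_exact_left (f : M →ₗ[R] N) (g : N →ₗ[R] P) (hf : Function.Injective f)
    (hg : Function.Surjective g) (hfg : Function.Exact f g) [Module.Flat R N] [Module.Flat R P] :
    Module.Flat R M := by
  rw [Module.Flat.iff_rTensor_injective']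
  intro I
  have h1 : Function.Injective (f.lTensor I) :=
    LinearMap.lTensor_injective_of_exact_of_flat g hg f hf hfg I
  have h2 : Function.Injective (I.subtype.rTensor N) :=
    Module.Flat.rTensor_preserves_injective_linearMap _ I.injective_subtype
  have h3 : (f.lTensor R) ∘ₗ (I.subtype.rTensor M) = (I.subtype.rTensor N) ∘ₗ (f.lTensor I) := by
    rw [LinearMap.lTensor_comp_rTensor, LinearMap.rTensor_comp_lTensor]
  intro x y hxy
  apply h1
  apply h2
  have := congrArg (f.lTensor R) hxy
  rw [← LinearMap.comp_apply, ← LinearMap.comp_apply, h3] at this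
  exact this

/-- in a short exact sequence `0 → M → N → P → 0` with `M`, `P` flat, `N` is flat -/
lemma flat_of_exact_mid (f : M →ₗ[R] N) (g : N →ₗ[R] P) (hf : Function.Injective f)
    (hg : Function.Surjective g) (hfg : Function.Exact f g) [Module.Flat R M] [Module.Flat R P] :
    Module.Flat R N := by
  rw [Module.Flat.iff_rTensor_injective']
  intro I
  rw [injective_iff_map_eq_zero]
  intro x hx
  have hP : Function.Injective (I.subtype.rTensor P) :=
    Module.Flat.rTensor_preserves_injective_linearMap _ I.injective_subtype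
  have hM : Function.Injective (I.subtype.rTensor M) :=
    Module.Flat.rTensor_preserves_injective_linearMap _ I.injective_subtype
  have h1 : g.lTensor I x = 0 := by
    apply hP
    rw [map_zero]
    have : (I.subtype.rTensor P) (g.lTensor I x) = (g.lTensor R) (I.subtype.rTensor N x) := by
      rw [← LinearMap.comp_apply, ← LinearMap.comp_apply, LinearMap.rTensor_comp_lTensor,
        LinearMap.lTensor_comp_rTensor]
    rw [this, hx, map_zero]
  obtain ⟨y, rfl⟩ := (lTensor_exact I hfg hg x).mp h1
  have h2 : (I.subtype.rTensor M) y = 0 := by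
    have hinj : Function.Injective (f.lTensor R) :=
      Module.Flat.lTensor_preserves_injective_linearMap f hf
    apply hinj
    rw [map_zero, ← hx, ← LinearMap.comp_apply, ← LinearMap.comp_apply,
      LinearMap.lTensor_comp_rTensor, LinearMap.rTensor_comp_lTensor]
  rw [hM (h2.trans (map_zero _).symm), map_zero]

end Mod

/-! ## Module properties stable under kernels of surjections -/

/-- a `ModProp` which is moreover stable under kernels of surjections -/
structure ModPropK (R : Type u) [CommRing R] extends ModProp R where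
  ker : ∀ {M N : ModuleCat.{u} R} (f : M ⟶ N), Function.Surjective f.hom → P M → P N →
    P (ModuleCat.of R (LinearMap.ker f.hom))

/-- flat modules -/
def flatPropK (R : Type u) [CommRing R] : ModPropK R :=
  { flatProp R with
    ker := fun {M N} f hf hM hN => by
      haveI : Module.Flat R M := hM
      haveI : Module.Flat R N := hN
      exact flat_of_exact_left (LinearMap.ker f.hom).subtype f.hom
        (LinearMap.ker f.hom).injective_subtype hf (LinearMap.exact_subtype_ker_map _) }

/-- finite projective modules -/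
def finProjProp (R : Type u) [CommRing R] : ModProp R where
  P M := Module.Finite R M ∧ Module.Projective R M
  iso e h := ⟨(finiteProp R).iso e h.1, (projProp R).iso e h.2⟩
  biprod hM hN := ⟨(finiteProp R).biprod hM.1 hN.1, (projProp R).biprod hM.2 hN.2⟩
  zero h := ⟨(finiteProp R).zero h, (projProp R).zero h⟩

/-- finite projective modules -/
def finProjPropK (R : Type u) [CommRing R] : ModPropK R :=
  { finProjProp R with
    ker := fun {M N} f hf hM hN => by
      haveI : Module.Finite R M := hM.1
      haveI : Module.Projective R M := hM.2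
      haveI : Module.Projective R N := hN.2
      exact ker_finite_projective_of_surjective f.hom hf }

/-- cycles of a bounded above complex, exact above degree `m`, whose terms in degrees `≥ m`
satisfy `mp`, satisfy `mp` in degrees `≥ m` -/
lemma mp_ker_d (mp : ModPropK R) (E : DRing.Cx R) (c m : ℤ) (hc : DRing.VanishesAbove E c)
    (hE : ∀ i, m ≤ i → mp.P (E.X i))
    (hex : ∀ i : ℤ, m < i → IsZero ((H R i).obj (DRing.toD E))) :
    ∀ i : ℤ, m ≤ i → mp.P (ModuleCat.of R (LinearMap.ker (E.d i (i + 1)).hom)) := by
  have key : ∀ n : ℕ, ∀ i : ℤ, i = c + 1 - n → m ≤ i →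
      mp.P (ModuleCat.of R (LinearMap.ker (E.d i (i + 1)).hom)) := by
    intro n
    induction n with
    | zero =>
      intro i hi _
      haveI : Subsingleton (E.X i) := ModuleCat.subsingleton_of_isZero (hc i (by omega))
      exact mp.zero (ModuleCat.isZero_of_subsingleton _)
    | succ n ih =>
      intro i hi hmi
      have h1 := ih (i + 1) (by push_cast at hi; omega) (by omega)
      have hexact := (isZero_H_toD_iff E i (i + 1) (i + 1 + 1) rfl rfl).mp (hex (i + 1) (by omega))
      let f : E.X i →ₗ[R] LinearMap.ker (E.d (i + 1) (i + 1 + 1)).hom :=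
        (E.d i (i + 1)).hom.codRestrict _ (fun x => by
          rw [LinearMap.mem_ker]
          exact (hexact _).mpr ⟨x, rfl⟩)
      have hf : Function.Surjective f := by
        rintro ⟨y, hy⟩
        obtain ⟨x, hx⟩ := (hexact y).mp (LinearMap.mem_ker.mp hy)
        exact ⟨x, Subtype.ext hx⟩
      have hker : LinearMap.ker f = LinearMap.ker (E.d i (i + 1)).hom := by
        ext x
        simp [f, LinearMap.mem_ker, Subtype.ext_iff]
      have h2 := mp.ker (ModuleCat.ofHom f) hf (hE i hmi) h1
      rw [← hker]
      exact h2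
  intro i hi
  by_cases h : i ≤ c + 1
  · exact key (c + 1 - i).toNat i (by omega) hi
  · haveI : Subsingleton (E.X i) := ModuleCat.subsingleton_of_isZero (hc i (by omega))
    exact mp.zero (ModuleCat.isZero_of_subsingleton _)

/-! ## Explicit cycles and cokernels -/

/-- explicit cokernel of the differential `K^i → K^j` -/
abbrev cok (K : DRing.Cx R) (i j : ℤ) : Type u := K.X j ⧸ LinearMap.range (K.d i j).hom

/-- `Z^i(K)` is the kernel of the differential -/
noncomputable def cyclesIsoKer (K : DRing.Cx R) (i j : ℤ) (hij : i + 1 = j) :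
    K.cycles i ≅ ModuleCat.of R (LinearMap.ker (K.d i j).hom) :=
  IsLimit.conePointUniqueUpToIso (K.cyclesIsKernel i j (by simp [← hij]))
    (ModuleCat.kernelIsLimit (K.d i j))

/-- `opcycles` is the cokernel of the differential -/
noncomputable def opcyclesIsoCok (K : DRing.Cx R) (i j : ℤ) (hij : i + 1 = j) :
    K.opcycles j ≅ ModuleCat.of R (cok K i j) :=
  IsColimit.coconePointUniqueUpToIso (K.opcyclesIsCokernel i j (by simp [← hij]))
    (ModuleCat.cokernelIsColimit (K.d i j))

/-- if `K` is exact at `j` and `k` then `coker (K^i → K^j) ≅ ker (K^k → K^l)` -/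
lemma flat_cok_of_exact (K : DRing.Cx R) (i j k l : ℤ)
    (h1 : Function.Exact (K.d i j).hom (K.d j k).hom)
    (h2 : Function.Exact (K.d j k).hom (K.d k l).hom)
    [Module.Flat R (LinearMap.ker (K.d k l).hom)] : Module.Flat R (cok K i j) := by
  let g : K.X j →ₗ[R] LinearMap.ker (K.d k l).hom :=
    (K.d j k).hom.codRestrict _ (fun x => by
      rw [LinearMap.mem_ker]
      exact (h2 _).mpr ⟨x, rfl⟩)
  have hg : Function.Surjective g := by
    rintro ⟨y, hy⟩
    obtain ⟨x, hx⟩ := (h2 y).mp (LinearMap.mem_ker.mp hy)
    exact ⟨x, Subtype.ext hx⟩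
  have hker : LinearMap.range (K.d i j).hom = LinearMap.ker g := by
    ext x
    rw [LinearMap.mem_ker, LinearMap.mem_range]
    constructor
    · rintro ⟨y, rfl⟩
      exact Subtype.ext ((h1 _).mpr ⟨y, rfl⟩)
    · intro hx
      exact (h1 x).mp (congrArg Subtype.val hx)
  exact Module.Flat.of_linearEquiv
    ((Submodule.quotEquivOfEq _ _ hker).trans (g.quotKerEquivOfSurjective hg))

/-! ## Basic properties of tor amplitude -/

lemma hasTorAmplitudeIn_mono {K : Dual.D R} {a a' b b' : ℤ} (h : DRing.HasTorAmplitudeIn R a b K)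
    (ha : a' ≤ a) (hb : b ≤ b') : DRing.HasTorAmplitudeIn R a' b' K := by
  obtain ⟨E, hE, hEf, e⟩ := h
  exact ⟨E, VanishesOutside.mono hE ha hb, hEf, e⟩

lemma hasTorAmplitudeIn_of_isZero (X : Dual.D R) (hX : IsZero X) (a b : ℤ) :
    DRing.HasTorAmplitudeIn R a b X := by
  refine ⟨0, fun i _ => ?_, fun i => ?_, ⟨?_⟩⟩
  · exact Functor.map_isZero (HomologicalComplex.eval _ _ i) (isZero_zero _)
  · haveI : Subsingleton ((0 : DRing.Cx R).X i) := ModuleCat.subsingleton_of_isZero
      (Functor.map_isZero (HomologicalComplex.eval _ _ i) (isZero_zero _))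
    infer_instance
  · exact (Functor.map_isZero DerivedCategory.Q (isZero_zero _)).iso hX

lemma isLE_of_hasTorAmplitudeIn {K : Dual.D R} {a b : ℤ} (h : DRing.HasTorAmplitudeIn R a b K) :
    K.IsLE b := by
  obtain ⟨E, hE, -, ⟨e⟩⟩ := h
  haveI := isStrictlyLE_of_vanishesAbove E b (VanishesOutside.above hE)
  exact TStructure.t.isLE_of_iso e b

lemma isGE_of_hasTorAmplitudeIn {K : Dual.D R} {a b : ℤ} (h : DRing.HasTorAmplitudeIn R a b K) :
    K.IsGE a := by
  obtain ⟨E, hE, -, ⟨e⟩⟩ := h
  haveI := isStrictlyGE_of_vanishesOutside E a b hE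
  exact TStructure.t.isGE_of_iso e a

lemma hasTorAmplitudeIn_of_shift {K : Dual.D R} {a b : ℤ} (n : ℤ)
    (h : DRing.HasTorAmplitudeIn R (a - n) (b - n) (K⟦n⟧)) : DRing.HasTorAmplitudeIn R a b K :=
  hasTorAmplitudeIn_mono
    (hasTorAmplitudeIn_of_iso ((shiftEquiv (Dual.D R) n).unitIso.symm.app K)
      (hasTorAmplitudeIn_shift h (-n))) (by omega) (by omega)

/-! ## Canonical truncations -/

/-- a bounded above complex with cohomology in `[a, b]`, terms in degrees `> a` satisfying `mp`
and `coker (C^{a-1} → C^a)` satisfying `mp`, is represented by a complex in `[a, b]` with terms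
satisfying `mp` -/
theorem exists_trunc_rep (mp : ModPropK R) (C : DRing.Cx R) (c a b : ℤ)
    (hc : DRing.VanishesAbove C c) (hC : ∀ i, a < i → mp.P (C.X i))
    (hlow : ∀ i, i < a → IsZero ((H R i).obj (DRing.toD C)))
    (hhigh : ∀ i, b < i → IsZero ((H R i).obj (DRing.toD C)))
    (hop : mp.P (C.opcycles a)) :
    ∃ E : DRing.Cx R, DRing.VanishesOutside E a b ∧ (∀ i, mp.P (E.X i)) ∧
      Nonempty (DRing.toD E ≅ DRing.toD C) := by
  haveI : C.IsStrictlyLE c := isStrictlyLE_of_vanishesAbove C c hc
  haveI : C.IsGE a := by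
    rw [CochainComplex.isGE_iff]
    intro i hi
    rw [← isZero_H_toD_iff_exactAt]
    exact hlow i hi
  have hDP : ∀ i, mp.P ((C.truncGE a).X i) := by
    intro i
    rcases lt_trichotomy i a with hi | rfl | hi
    · exact mp.zero ((C.truncGE a).isZero_of_isStrictlyGE a i hi)
    · exact mp.iso (C.truncGEXIsoOpcycles i).symm hop
    · exact mp.iso (C.truncGEXIso a i hi).symm (hC i hi)
  have hDc : DRing.VanishesAbove (C.truncGE a) c :=
    fun i hi => (C.truncGE a).isZero_of_isStrictlyLE c i hi
  let eD : DRing.toD C ≅ DRing.toD (C.truncGE a) :=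
    asIso (DerivedCategory.Q.map (C.πTruncGE a))
  have hDhigh : ∀ i, b < i → IsZero ((H R i).obj (DRing.toD (C.truncGE a))) :=
    fun i hi => (hhigh i hi).of_iso ((H R i).mapIso eD.symm)
  haveI : (C.truncGE a).IsLE b := by
    rw [CochainComplex.isLE_iff]
    intro i hi
    rw [← isZero_H_toD_iff_exactAt]
    exact hDhigh i hi
  have hker := mp_ker_d mp (C.truncGE a) c b hDc (fun i _ => hDP i) hDhigh b le_rfl
  refine ⟨(C.truncGE a).truncLE b, ?_, ?_,
    ⟨asIso (DerivedCategory.Q.map ((C.truncGE a).ιTruncLE b)) ≪≫ eD.symm⟩⟩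
  · rintro i (hi | hi)
    · exact ((C.truncGE a).truncLE b).isZero_of_isStrictlyGE a i hi
    · exact ((C.truncGE a).truncLE b).isZero_of_isStrictlyLE b i hi
  · intro i
    rcases lt_trichotomy i b with hi | rfl | hi
    · exact mp.iso ((C.truncGE a).truncLEXIso b i hi).symm (hDP i)
    · exact mp.iso (((C.truncGE a).truncLEXIsoCycles i).trans
        (cyclesIsoKer (C.truncGE a) i (i + 1) rfl)).symm hker
    · exact mp.zero (((C.truncGE a).truncLE b).isZero_of_isStrictlyLE b i hi)

end Groth.Agent.Lib.Helper18.DR
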