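import Mathlib
import Groth.Agent.Lib.Helper18.DRTorA

/-!
# Tor amplitude II: cokernels of mapping cones, the flatness criterion, triangles (helper18)
-/

set_option autoImplicit false
set_option linter.style.haveILetI false
universe u
open CategoryTheory CategoryTheory.Limits CategoryTheory.Pretriangulated DerivedCategory ZeroObject

attribute [local instance] HasDerivedCategory.standard

namespace Groth.Agent.Lib.Helper18.DR

variable {R : Type u} [CommRing R]

lemma hom_apply_eq {M N : ModuleCat.{u} R} {φ ψ : M ⟶ N} (h : φ = ψ) (x : M) :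
    φ.hom x = ψ.hom x := by rw [h]

section ConeCok
open CochainComplex

variable {X Y : DRing.Cx R} (f : X ⟶ Y)

local macro "mc_simp" " at " h:ident : tactic =>
  `(tactic| simp only [ModuleCat.hom_comp, ModuleCat.hom_add, ModuleCat.hom_sub, ModuleCat.hom_neg,
    ModuleCat.hom_id, ModuleCat.hom_zero, LinearMap.comp_apply, LinearMap.add_apply,
    LinearMap.sub_apply, LinearMap.neg_apply, LinearMap.id_coe, id_eq, LinearMap.zero_apply,
    map_neg] at $h:ident)

lemma cone_fst_inl (p q : ℤ) (hpq : q + 1 = p) (x : X.X p) :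
    ((mappingCone.fst f).1.v q p hpq).hom (((mappingCone.inl f).v p q (by omega)).hom x) = x := by
  have h := hom_apply_eq (mappingCone.inl_v_fst_v f p q hpq) x
  mc_simp at h
  exact h

lemma cone_fst_inr (p q : ℤ) (hpq : p + 1 = q) (y : Y.X p) :
    ((mappingCone.fst f).1.v p q hpq).hom (((mappingCone.inr f).f p).hom y) = 0 := by
  have h := hom_apply_eq (mappingCone.inr_f_fst_v f p q hpq) y
  mc_simp at h
  exact h

lemma cone_snd_inr (p : ℤ) (y : Y.X p) :
    ((mappingCone.snd f).v p p (add_zero p)).hom (((mappingCone.inr f).f p).hom y) = y := by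
  have h := hom_apply_eq (mappingCone.inr_f_snd_v f p) y
  mc_simp at h
  exact h

lemma cone_decomp (p q : ℤ) (hpq : p + 1 = q) (c : (mappingCone f).X p) :
    ((mappingCone.inl f).v q p (by omega)).hom (((mappingCone.fst f).1.v p q hpq).hom c) +
      ((mappingCone.inr f).f p).hom (((mappingCone.snd f).v p p (add_zero p)).hom c) = c := by
  have h := hom_apply_eq (mappingCone.id_X f p q hpq) c
  mc_simp at h
  exact h

lemma cone_fst_d (i j k : ℤ) (hij : i + 1 = j) (hjk : j + 1 = k) (c : (mappingCone f).X i) :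
    ((mappingCone.fst f).1.v j k hjk).hom (((mappingCone f).d i j).hom c) =
      -(X.d j k).hom (((mappingCone.fst f).1.v i j hij).hom c) := by
  have h := hom_apply_eq (mappingCone.d_fst_v f i j k hij hjk) c
  mc_simp at h
  exact h

lemma cone_d_inr (i j : ℤ) (y : Y.X i) :
    ((mappingCone f).d i j).hom (((mappingCone.inr f).f i).hom y) =
      ((mappingCone.inr f).f j).hom ((Y.d i j).hom y) := by
  have h := hom_apply_eq ((mappingCone.inr f).comm i j) y
  mc_simp at h
  exact h

lemma cone_d_d (i j k : ℤ) (c : (mappingCone f).X i) :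
    ((mappingCone f).d j k).hom (((mappingCone f).d i j).hom c) = 0 := by
  have h := hom_apply_eq ((mappingCone f).d_comp_d i j k) c
  mc_simp at h
  exact h


/-- `coker (Y^i → Y^j) → coker (C^i → C^j)` induced by `inr`, `C` the mapping cone -/
noncomputable def coneCokι (i j : ℤ) : cok Y i j →ₗ[R] cok (mappingCone f) i j :=
  Submodule.mapQ _ _ ((mappingCone.inr f).f j).hom (by
    rintro _ ⟨y, rfl⟩
    rw [Submodule.mem_comap]
    exact ⟨((mappingCone.inr f).f i).hom y, cone_d_inr f i j y⟩)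

/-- `coker (C^i → C^j) → coker (X^j → X^k)` induced by `fst`, `C` the mapping cone -/
noncomputable def coneCokπ (i j k : ℤ) (hij : i + 1 = j) (hjk : j + 1 = k) :
    cok (mappingCone f) i j →ₗ[R] cok X j k :=
  Submodule.mapQ _ _ ((mappingCone.fst f).1.v j k hjk).hom (by
    rintro _ ⟨c, rfl⟩
    rw [Submodule.mem_comap]
    refine ⟨-((mappingCone.fst f).1.v i j hij).hom c, ?_⟩
    rw [map_neg]
    exact (cone_fst_d f i j k hij hjk c).symm)

lemma coneCokπ_surjective (i j k : ℤ) (hij : i + 1 = j) (hjk : j + 1 = k) :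
    Function.Surjective (coneCokπ f i j k hij hjk) := by
  intro x
  obtain ⟨x, rfl⟩ := Submodule.Quotient.mk_surjective _ x
  refine ⟨Submodule.Quotient.mk (((mappingCone.inl f).v k j (by omega)).hom x), ?_⟩
  rw [coneCokπ, Submodule.mapQ_apply, cone_fst_inl]

lemma coneCok_exact (i j k : ℤ) (hij : i + 1 = j) (hjk : j + 1 = k) :
    Function.Exact (coneCokι f i j) (coneCokπ f i j k hij hjk) := by
  intro c
  constructor
  · intro hc
    obtain ⟨c, rfl⟩ := Submodule.Quotient.mk_surjective _ c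
    rw [coneCokπ, Submodule.mapQ_apply, Submodule.Quotient.mk_eq_zero] at hc
    obtain ⟨x, hx⟩ := hc
    obtain ⟨c', hc'⟩ : ∃ c', c' = c + ((mappingCone f).d i j).hom
        (((mappingCone.inl f).v j i (by omega)).hom x) := ⟨_, rfl⟩
    have h1 : ((mappingCone.fst f).1.v j k hjk).hom c' = 0 := by
      rw [hc', map_add, cone_fst_d f i j k hij hjk, cone_fst_inl, hx]
      abel
    have h2 := cone_decomp f j k hjk c'
    rw [h1, map_zero, zero_add] at h2
    refine ⟨Submodule.Quotient.mk (((mappingCone.snd f).v j j (add_zero j)).hom c'), ?_⟩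
    rw [coneCokι, Submodule.mapQ_apply, h2, hc', Submodule.Quotient.mk_add]
    have h3 : (Submodule.Quotient.mk (((mappingCone f).d i j).hom
        (((mappingCone.inl f).v j i (by omega)).hom x)) :
        cok (mappingCone f) i j) = 0 := (Submodule.Quotient.mk_eq_zero _).2 ⟨_, rfl⟩
    rw [h3, add_zero]
  · rintro ⟨y, rfl⟩
    obtain ⟨y, rfl⟩ := Submodule.Quotient.mk_surjective _ y
    rw [coneCokι, Submodule.mapQ_apply, coneCokπ, Submodule.mapQ_apply, cone_fst_inr,
      Submodule.Quotient.mk_zero]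

lemma coneCokι_injective (i j k : ℤ) (hij : i + 1 = j) (hjk : j + 1 = k)
    (hX : Function.Exact (X.d i j).hom (X.d j k).hom) :
    Function.Injective (coneCokι f i j) := by
  rw [injective_iff_map_eq_zero]
  intro y hy
  obtain ⟨y, rfl⟩ := Submodule.Quotient.mk_surjective _ y
  rw [coneCokι, Submodule.mapQ_apply, Submodule.Quotient.mk_eq_zero] at hy
  obtain ⟨c, hc⟩ := hy
  have h1 : (X.d j k).hom (((mappingCone.fst f).1.v i j hij).hom c) = 0 := by
    have e8 := cone_fst_d f i j k hij hjk c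
    rw [hc, cone_fst_inr] at e8
    exact neg_eq_zero.mp e8.symm
  obtain ⟨x', hx'⟩ := (hX _).mp h1
  obtain ⟨c'', hc''⟩ : ∃ c'', c'' = c + ((mappingCone f).d (i - 1) i).hom
      (((mappingCone.inl f).v i (i - 1) (by omega)).hom x') := ⟨_, rfl⟩
  have h2 : ((mappingCone.fst f).1.v i j hij).hom c'' = 0 := by
    rw [hc'', map_add, cone_fst_d f (i - 1) i j (by omega) hij, cone_fst_inl, hx']
    abel
  have h3 := cone_decomp f i j hij c''
  rw [h2, map_zero, zero_add] at h3
  have h4 : ((mappingCone f).d i j).hom c'' = ((mappingCone.inr f).f j).hom y := by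
    rw [hc'', map_add, hc, cone_d_d, add_zero]
  rw [← h3, cone_d_inr] at h4
  have h5 := congrArg ((mappingCone.snd f).v j j (add_zero j)).hom h4
  rw [cone_snd_inr, cone_snd_inr] at h5
  rw [Submodule.Quotient.mk_eq_zero]
  exact ⟨_, h5⟩

end ConeCok

/-! ## The flatness criterion -/

/-- Stacks 0BYL for a bounded above complex of projectives: if `G` has tor amplitude in `[a, b]`
then `coker (G^{a-1} → G^a)` is flat. -/
theorem flat_cok_of_hasTorAmplitudeIn (G : DRing.Cx R) (c : ℤ) (hGc : DRing.VanishesAbove G c)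
    (hG : ∀ i, Module.Projective R (G.X i)) (a b a' : ℤ) (ha' : a' + 1 = a)
    (h : DRing.HasTorAmplitudeIn R a b (DRing.toD G)) : Module.Flat R (cok G a' a) := by
  obtain ⟨E, hE, hEf, ⟨e⟩⟩ := h
  haveI : G.IsKProjective := isKProjective_of_vanishesAbove G c hGc hG
  obtain ⟨f, hf⟩ := exists_map_eq G E e.inv
  have hiso : IsIso (DerivedCategory.Q.map f) := by rw [hf]; infer_instance
  have hT := DerivedCategory.mappingCone_triangle_distinguished f
  have hzero : IsZero (DRing.toD (CochainComplex.mappingCone f)) :=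
    (Triangle.isZero₃_iff_isIso₁ _ hT).mpr hiso
  have hH : ∀ i, IsZero ((H R i).obj (DRing.toD (CochainComplex.mappingCone f))) :=
    fun i => (H R i).map_isZero hzero
  obtain ⟨c', hc1, hc2⟩ : ∃ c' : ℤ, c ≤ c' + 1 ∧ b ≤ c' :=
    ⟨max c b, by have := le_max_left c b; omega, le_max_right c b⟩
  have hCb : DRing.VanishesAbove (CochainComplex.mappingCone f) c' :=
    vanishesAbove_cone f (VanishesAbove.mono hGc hc1)
      (VanishesAbove.mono (VanishesOutside.above hE) hc2)
  have hGflat : DRing.TermwiseFlat G := fun i => by haveI := hG i; infer_instance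
  have hCflat := termwiseFlat_cone f hGflat hEf
  have hker := mp_ker_d (flatPropK R) _ c' a hCb (fun i _ => hCflat i) (fun i _ => hH i) a le_rfl
  have hex1 := (isZero_H_toD_iff (CochainComplex.mappingCone f) (a' - 1) a' a (by omega) ha').mp
    (hH a')
  have hex2 := (isZero_H_toD_iff (CochainComplex.mappingCone f) a' a (a + 1) ha' rfl).mp (hH a)
  haveI : Module.Flat R (LinearMap.ker ((CochainComplex.mappingCone f).d a (a + 1)).hom) := hker
  have hflatC : Module.Flat R (cok (CochainComplex.mappingCone f) (a' - 1) a') :=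
    flat_cok_of_exact _ (a' - 1) a' a (a + 1) hex1 hex2
  have hsurj := coneCokπ_surjective f (a' - 1) a' a (by omega) ha'
  have hinj : Function.Injective (coneCokπ f (a' - 1) a' a (by omega) ha') := by
    rw [injective_iff_map_eq_zero]
    intro x hx
    obtain ⟨y, rfl⟩ := (coneCok_exact f (a' - 1) a' a (by omega) ha' x).mp hx
    haveI : Subsingleton (E.X a') := ModuleCat.subsingleton_of_isZero (hE a' (Or.inl (by omega)))
    haveI : Subsingleton (cok E (a' - 1) a') :=
      (Submodule.Quotient.mk_surjective _).subsingleton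
    rw [Subsingleton.elim y 0, map_zero]
  exact Module.Flat.of_linearEquiv (LinearEquiv.ofBijective _ ⟨hinj, hsurj⟩).symm

/-- a bounded above complex of flat modules with cohomology in `[a, b]` and flat
`coker (C^{a-1} → C^a)` has tor amplitude in `[a, b]` -/
theorem hasTorAmplitudeIn_of_flat_cok (C : DRing.Cx R) (c a b a' : ℤ) (ha' : a' + 1 = a)
    (hc : DRing.VanishesAbove C c) (hC : DRing.TermwiseFlat C)
    (hlow : ∀ i, i < a → IsZero ((H R i).obj (DRing.toD C)))
    (hhigh : ∀ i, b < i → IsZero ((H R i).obj (DRing.toD C)))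
    (hop : Module.Flat R (cok C a' a)) : DRing.HasTorAmplitudeIn R a b (DRing.toD C) := by
  obtain ⟨E, hE, hEP, ⟨e⟩⟩ := exists_trunc_rep (flatPropK R) C c a b hc (fun i _ => hC i) hlow hhigh
    ((flatPropK R).iso (opcyclesIsoCok C a' a ha').symm hop)
  exact ⟨E, hE, hEP, ⟨e⟩⟩

/-! ## Triangles -/

/-- Stacks 0655 (1) -/
theorem hasTorAmplitudeIn_obj₃ (T : Triangle (Dual.D R)) (hT : T ∈ distTriang (Dual.D R))
    (a b : ℤ) (h1 : DRing.HasTorAmplitudeIn R (a + 1) (b + 1) T.obj₁)
    (h2 : DRing.HasTorAmplitudeIn R a b T.obj₂) : DRing.HasTorAmplitudeIn R a b T.obj₃ := by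
  haveI := isLE_of_hasTorAmplitudeIn h1
  haveI := isLE_of_hasTorAmplitudeIn h2
  haveI := isGE_of_hasTorAmplitudeIn h1
  haveI := isGE_of_hasTorAmplitudeIn h2
  obtain ⟨G₁, hG₁b, hG₁free, ⟨e₁⟩⟩ := exists_free_resolution T.obj₁ (b + 1)
  obtain ⟨G₂, hG₂b, hG₂free, ⟨e₂⟩⟩ := exists_free_resolution T.obj₂ b
  have hG₁proj : ∀ i, Module.Projective R (G₁.X i) := fun i => by
    haveI := hG₁free i; exact Module.Projective.of_free
  have hG₂proj : ∀ i, Module.Projective R (G₂.X i) := fun i => by
    haveI := hG₂free i; exact Module.Projective.of_free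
  haveI : G₁.IsKProjective := isKProjective_of_vanishesAbove G₁ (b + 1) hG₁b hG₁proj
  obtain ⟨g, e, -, -, -⟩ := exists_cone_triangle_iso T hT G₁ G₂ e₁ e₂
  have e₃ : DRing.toD (CochainComplex.mappingCone g) ≅ T.obj₃ := Triangle.π₃.mapIso e
  refine hasTorAmplitudeIn_of_iso e₃ ?_
  have hflat₁ : Module.Flat R (cok G₁ a (a + 1)) :=
    flat_cok_of_hasTorAmplitudeIn G₁ (b + 1) hG₁b hG₁proj (a + 1) (b + 1) a rfl
      (hasTorAmplitudeIn_of_iso e₁.symm h1)
  have hflat₂ : Module.Flat R (cok G₂ (a - 1) a) :=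
    flat_cok_of_hasTorAmplitudeIn G₂ b hG₂b hG₂proj a b (a - 1) (by omega)
      (hasTorAmplitudeIn_of_iso e₂.symm h2)
  have hexG₁ : Function.Exact (G₁.d (a - 1) a).hom (G₁.d a (a + 1)).hom := by
    rw [← isZero_H_toD_iff G₁ (a - 1) a (a + 1) (by omega) rfl]
    exact (DerivedCategory.isZero_of_isGE T.obj₁ (a + 1) a (by omega)).of_iso ((H R a).mapIso e₁)
  have hflat : Module.Flat R (cok (CochainComplex.mappingCone g) (a - 1) a) :=
    flat_of_exact_mid (coneCokι g (a - 1) a) (coneCokπ g (a - 1) a (a + 1) (by omega) rfl)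
      (coneCokι_injective g (a - 1) a (a + 1) (by omega) rfl hexG₁)
      (coneCokπ_surjective g (a - 1) a (a + 1) (by omega) rfl)
      (coneCok_exact g (a - 1) a (a + 1) (by omega) rfl)
  have hflatG₁ : DRing.TermwiseFlat G₁ := fun i => by haveI := hG₁proj i; infer_instance
  have hflatG₂ : DRing.TermwiseFlat G₂ := fun i => by haveI := hG₂proj i; infer_instance
  refine hasTorAmplitudeIn_of_flat_cok (CochainComplex.mappingCone g) b a b (a - 1) (by omega)
    (vanishesAbove_cone g hG₁b hG₂b) (termwiseFlat_cone g hflatG₁ hflatG₂) ?_ ?_ hflat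
  · intro i hi
    refine IsZero.of_iso ?_ ((H R i).mapIso e₃)
    refine (HomologySequence.exact₃ T hT i (i + 1) rfl).isZero_X₂ ?_ ?_
    · exact (DerivedCategory.isZero_of_isGE T.obj₂ a i hi).eq_of_src _ _
    · exact (DerivedCategory.isZero_of_isGE T.obj₁ (a + 1) (i + 1) (by omega)).eq_of_tgt _ _
  · intro i hi
    refine IsZero.of_iso ?_ ((H R i).mapIso e₃)
    refine (HomologySequence.exact₃ T hT i (i + 1) rfl).isZero_X₂ ?_ ?_
    · exact (DerivedCategory.isZero_of_isLE T.obj₂ b i hi).eq_of_src _ _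
    · exact (DerivedCategory.isZero_of_isLE T.obj₁ (b + 1) (i + 1) (by omega)).eq_of_tgt _ _

/-- S7027 -/
theorem hasTorAmplitudeIn_triangle (a b : ℤ) (T : Triangle (Dual.D R))
    (hT : T ∈ distTriang (Dual.D R)) :
    (DRing.HasTorAmplitudeIn R (a + 1) (b + 1) T.obj₁ → DRing.HasTorAmplitudeIn R a b T.obj₂ →
        DRing.HasTorAmplitudeIn R a b T.obj₃) ∧
      (DRing.HasTorAmplitudeIn R a b T.obj₁ → DRing.HasTorAmplitudeIn R a b T.obj₃ →
        DRing.HasTorAmplitudeIn R a b T.obj₂) ∧
      (DRing.HasTorAmplitudeIn R (a + 1) (b + 1) T.obj₂ → DRing.HasTorAmplitudeIn R a b T.obj₃ →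
        DRing.HasTorAmplitudeIn R (a + 1) (b + 1) T.obj₁) := by
  refine ⟨hasTorAmplitudeIn_obj₃ T hT a b, fun h1 h3 => ?_, fun h2 h3 => ?_⟩
  · exact hasTorAmplitudeIn_obj₃ T.invRotate (inv_rot_of_distTriang _ hT) a b
      (hasTorAmplitudeIn_mono (hasTorAmplitudeIn_shift h3 (-1)) (by omega) (by omega)) h1
  · refine hasTorAmplitudeIn_of_shift 1 ?_
    exact hasTorAmplitudeIn_mono
      (hasTorAmplitudeIn_obj₃ T.rotate (rot_of_distTriang _ hT) a b h2 h3) (by omega) (by omega)

/-! ## Perfect = pseudo-coherent + finite tor dimension -/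

/-- a complex represented by a bounded above complex of free modules, finite in degrees `≥ a - 1`,
with tor amplitude in `[a, b]`, is represented by a complex of finite projective modules in
`[a, b]` -/
theorem exists_finiteProjective_rep (K : Dual.D R) (F : DRing.Cx R) (c : ℤ)
    (hFc : DRing.VanishesAbove F c) (hFfree : ∀ i, Module.Free R (F.X i))
    (e : DRing.toD F ≅ K) (a b a' : ℤ) (ha' : a' + 1 = a)
    (hfin : ∀ i, a' ≤ i → Module.Finite R (F.X i)) (h : DRing.HasTorAmplitudeIn R a b K) :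
    ∃ E : DRing.Cx R, DRing.VanishesOutside E a b ∧ DRing.TermwiseFiniteProjective E ∧
      Nonempty (DRing.toD E ≅ K) := by
  have hproj : ∀ i, Module.Projective R (F.X i) := fun i => by
    haveI := hFfree i; exact Module.Projective.of_free
  have hF := hasTorAmplitudeIn_of_iso e.symm h
  haveI := flat_cok_of_hasTorAmplitudeIn F c hFc hproj a b a' ha' hF
  haveI := hfin a' le_rfl
  haveI := hfin a (by omega)
  haveI := hFfree a
  haveI : Module.FinitePresentation R (cok F a' a) :=
    Module.finitePresentation_of_free_of_surjective (LinearMap.range (F.d a' a).hom).mkQ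
      (Submodule.mkQ_surjective _) (by
        rw [Submodule.ker_mkQ, LinearMap.range_eq_map]
        exact (Module.Finite.fg_top).map _)
  have hprojcok : Module.Projective R (cok F a' a) := Module.Flat.projective_of_finitePresentation
  have hfincok : Module.Finite R (cok F a' a) :=
    Module.Finite.of_surjective (LinearMap.range (F.d a' a).hom).mkQ (Submodule.mkQ_surjective _)
  haveI := isGE_of_hasTorAmplitudeIn hF
  haveI := isLE_of_hasTorAmplitudeIn hF
  obtain ⟨E, hE, hEP, ⟨e'⟩⟩ := exists_trunc_rep (finProjPropK R) F c a b hFc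
    (fun i hi => ⟨hfin i (by omega), hproj i⟩)
    (fun i hi => DerivedCategory.isZero_of_isGE (DRing.toD F) a i hi)
    (fun i hi => DerivedCategory.isZero_of_isLE (DRing.toD F) b i hi)
    ((finProjPropK R).iso (opcyclesIsoCok F a' a ha').symm ⟨hfincok, hprojcok⟩)
  exact ⟨E, hE, hEP, ⟨e' ≪≫ e⟩⟩

/-- pseudo-coherent with tor amplitude in `[a, b]` implies perfect amplitude in `[a, b]` -/
theorem exists_finiteProjective_rep_of_pc (K : Dual.D R) (hK : DRing.IsPseudoCoherent' R K)
    (a b : ℤ) (h : DRing.HasTorAmplitudeIn R a b K) :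
    ∃ E : DRing.Cx R, DRing.VanishesOutside E a b ∧ DRing.TermwiseFiniteProjective E ∧
      Nonempty (DRing.toD E ≅ K) := by
  obtain ⟨F, c, hFc, hFff, ⟨e⟩⟩ := hK
  exact exists_finiteProjective_rep K F c hFc (fun i => (hFff i).2) e a b (a - 1) (by omega)
    (fun i _ => (hFff i).1) h

lemma hasTorAmplitudeIn_of_isPerfect_rep (K : Dual.D R) (E : DRing.Cx R) (a b : ℤ)
    (hE : DRing.VanishesOutside E a b) (hproj : ∀ i, Module.Projective R (E.X i))
    (e : DRing.toD E ≅ K) : DRing.HasTorAmplitudeIn R a b K :=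
  ⟨E, hE, fun i => by haveI := hproj i; infer_instance, ⟨e⟩⟩

/-- S6954 -/
theorem isPerfect_iff_pc_and_finiteTorDim (K : Dual.D R) :
    DRing.IsPerfect R K ↔ DRing.IsPseudoCoherent' R K ∧ DRing.HasFiniteTorDimCx R K := by
  constructor
  · intro h
    refine ⟨?_, ?_⟩
    · rw [← isPseudoCoherent'_iff_forall]
      exact fun m => isPseudoCoherent_of_isPerfect h m
    · obtain ⟨E, a, b, hE, hfp, ⟨e⟩⟩ := h
      exact ⟨a, b, hasTorAmplitudeIn_of_isPerfect_rep K E a b hE (fun i => (hfp i).2) e⟩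
  · rintro ⟨hpc, a, b, hTA⟩
    obtain ⟨E, hE, hfp, e⟩ := exists_finiteProjective_rep_of_pc K hpc a b hTA
    exact ⟨E, a, b, hE, hfp, e⟩

/-- S6976 -/
theorem projAmp_iff_isPerfect_and_torAmp (K : Dual.D R) (hK : DRing.IsPseudoCoherent' R K)
    (a b : ℤ) :
    (∃ P : DRing.Cx R, DRing.VanishesOutside P a b ∧ (∀ i : ℤ, Module.Projective R (P.X i)) ∧
        Nonempty (DRing.toD P ≅ K)) ↔ DRing.IsPerfect R K ∧ DRing.HasTorAmplitudeIn R a b K := by
  constructor
  · rintro ⟨P, hP, hproj, ⟨e⟩⟩
    have hTA := hasTorAmplitudeIn_of_isPerfect_rep K P a b hP hproj e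
    obtain ⟨E, hE, hfp, e'⟩ := exists_finiteProjective_rep_of_pc K hK a b hTA
    exact ⟨⟨E, a, b, hE, hfp, e'⟩, hTA⟩
  · rintro ⟨-, hTA⟩
    obtain ⟨E, hE, hfp, e'⟩ := exists_finiteProjective_rep_of_pc K hK a b hTA
    exact ⟨E, hE, fun i => (hfp i).2, e'⟩

end Groth.Agent.Lib.Helper18.DR
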