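import Mathlib
import Groth.Agent.Lib.Helper18.DRTorB

/-!
# Tor amplitude III: direct summands, bounded complexes, the cokernel criterion, perfect
amplitude (helper18)
-/

set_option autoImplicit false
set_option linter.style.haveILetI false
universe u
open CategoryTheory CategoryTheory.Limits CategoryTheory.Pretriangulated DerivedCategory ZeroObject

attribute [local instance] HasDerivedCategory.standard

namespace Groth.Agent.Lib.Helper18.DR

variable {R : Type u} [CommRing R]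

/-! ## Direct summands -/

lemma isZero_biprod_of_isZero {M N : ModuleCat.{u} R} (hM : IsZero M) (hN : IsZero N) :
    IsZero (M ⊞ N) := by
  rw [IsZero.iff_id_eq_zero]
  apply biprod.hom_ext
  · simp [hM.eq_of_tgt _ 0]
  · simp [hN.eq_of_tgt _ 0]

lemma hasTorAmplitudeIn_of_biprod_left (a b : ℤ) (K L : Dual.D R)
    (h : DRing.HasTorAmplitudeIn R a b (K ⊞ L)) : DRing.HasTorAmplitudeIn R a b K := by
  haveI := isLE_of_hasTorAmplitudeIn h
  haveI := isGE_of_hasTorAmplitudeIn h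
  haveI : K.IsLE b := isLE_of_isSplitMono (biprod.inl : K ⟶ K ⊞ L) b
  haveI : L.IsLE b := isLE_of_isSplitMono (biprod.inr : L ⟶ K ⊞ L) b
  obtain ⟨G₁, hG₁b, hG₁free, ⟨e₁⟩⟩ := exists_free_resolution K b
  obtain ⟨G₂, hG₂b, hG₂free, ⟨e₂⟩⟩ := exists_free_resolution L b
  have hG₁proj : ∀ i, Module.Projective R (G₁.X i) := fun i => by
    haveI := hG₁free i; exact Module.Projective.of_free
  have hG₂proj : ∀ i, Module.Projective R (G₂.X i) := fun i => by
    haveI := hG₂free i; exact Module.Projective.of_free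
  haveI := preservesBinaryBiproducts_of_preservesBiproducts
    (DerivedCategory.Q (C := ModuleCat.{u} R))
  let e : DRing.toD (G₁ ⊞ G₂) ≅ K ⊞ L :=
    (DerivedCategory.Q (C := ModuleCat.{u} R)).mapBiprod G₁ G₂ ≪≫ biprod.mapIso e₁ e₂
  have hGb : DRing.VanishesAbove (G₁ ⊞ G₂) b := fun i hi =>
    (isZero_biprod_of_isZero (hG₁b i hi) (hG₂b i hi)).of_iso (HomologicalComplex.biprodXIso G₁ G₂ i)
  have hGproj : ∀ i, Module.Projective R ((G₁ ⊞ G₂).X i) := fun i =>
    (projProp R).iso (HomologicalComplex.biprodXIso G₁ G₂ i).symm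
      ((projProp R).biprod (hG₁proj i) (hG₂proj i))
  haveI := flat_cok_of_hasTorAmplitudeIn (G₁ ⊞ G₂) b hGb hGproj a b (a - 1) (by omega)
    (hasTorAmplitudeIn_of_iso e.symm h)
  -- the retraction
  have hιρ : (biprod.inl : G₁ ⟶ G₁ ⊞ G₂) ≫ biprod.fst = 𝟙 G₁ := biprod.inl_fst
  have hιρ' : ∀ (j : ℤ) (x : G₁.X j),
      ((biprod.fst : G₁ ⊞ G₂ ⟶ G₁).f j).hom (((biprod.inl : G₁ ⟶ G₁ ⊞ G₂).f j).hom x) = x := by
    intro j x
    have h1 := congrArg (fun φ => φ.f j) hιρ
    exact hom_apply_eq h1 x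
  let ι : cok G₁ (a - 1) a →ₗ[R] cok (G₁ ⊞ G₂) (a - 1) a :=
    Submodule.mapQ _ _ ((biprod.inl : G₁ ⟶ G₁ ⊞ G₂).f a).hom (by
      rintro _ ⟨y, rfl⟩
      rw [Submodule.mem_comap]
      exact ⟨((biprod.inl : G₁ ⟶ G₁ ⊞ G₂).f (a - 1)).hom y,
        hom_apply_eq ((biprod.inl : G₁ ⟶ G₁ ⊞ G₂).comm (a - 1) a) y⟩)
  let ρ : cok (G₁ ⊞ G₂) (a - 1) a →ₗ[R] cok G₁ (a - 1) a :=
    Submodule.mapQ _ _ ((biprod.fst : G₁ ⊞ G₂ ⟶ G₁).f a).hom (by
      rintro _ ⟨y, rfl⟩
      rw [Submodule.mem_comap]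
      exact ⟨((biprod.fst : G₁ ⊞ G₂ ⟶ G₁).f (a - 1)).hom y,
        hom_apply_eq ((biprod.fst : G₁ ⊞ G₂ ⟶ G₁).comm (a - 1) a) y⟩)
  have hρι : ρ.comp ι = LinearMap.id := by
    apply LinearMap.ext
    intro x
    obtain ⟨x, rfl⟩ := Submodule.Quotient.mk_surjective _ x
    change Submodule.Quotient.mk (((biprod.fst : G₁ ⊞ G₂ ⟶ G₁).f a).hom
      (((biprod.inl : G₁ ⟶ G₁ ⊞ G₂).f a).hom x)) = _
    rw [hιρ']
    rfl
  have hflat : Module.Flat R (cok G₁ (a - 1) a) := Module.Flat.of_retract ι ρ hρι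
  have hG₁flat : DRing.TermwiseFlat G₁ := fun i => by haveI := hG₁proj i; infer_instance
  refine hasTorAmplitudeIn_of_iso e₁ (hasTorAmplitudeIn_of_flat_cok G₁ b a b (a - 1) (by omega)
    hG₁b hG₁flat ?_ ?_ hflat)
  · intro i hi
    refine IsZero.of_iso ?_ ((H R i).mapIso e₁)
    exact IsZero.of_mono ((H R i).map (biprod.inl : K ⟶ K ⊞ L))
      (DerivedCategory.isZero_of_isGE (K ⊞ L) a i hi)
  · intro i hi
    refine IsZero.of_iso ?_ ((H R i).mapIso e₁)
    exact IsZero.of_mono ((H R i).map (biprod.inl : K ⟶ K ⊞ L))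
      (DerivedCategory.isZero_of_isLE (K ⊞ L) b i hi)

/-- S7018 -/
theorem hasTorAmplitudeIn_of_biprod (a b : ℤ) (K L : Dual.D R) [inst : HasBinaryBiproduct K L]
    (h : DRing.HasTorAmplitudeIn R a b (@biprod _ _ _ K L inst)) :
    DRing.HasTorAmplitudeIn R a b K ∧ DRing.HasTorAmplitudeIn R a b L := by
  have h' : DRing.HasTorAmplitudeIn R a b (K ⊞ L) :=
    hasTorAmplitudeIn_of_iso
      (biprod.uniqueUpToIso K L (@BinaryBiproduct.isBilimit _ _ _ K L inst)) h
  exact ⟨hasTorAmplitudeIn_of_biprod_left a b K L h',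
    hasTorAmplitudeIn_of_biprod_left a b L K (hasTorAmplitudeIn_of_iso (biprod.braiding K L) h')⟩

/-! ## Bounded complexes and bounded cohomology -/

lemma hasTorAmplitudeIn_Sg {a b : ℤ} (M : ModuleCat.{u} R) (i : ℤ)
    (h : DRing.HasTorAmplitudeIn R (a - i) (b - i) (Sg 0 M)) :
    DRing.HasTorAmplitudeIn R a b (Sg i M) :=
  hasTorAmplitudeIn_of_iso (SgShiftIso (-i) i 0 (by omega) M)
    (hasTorAmplitudeIn_mono (hasTorAmplitudeIn_shift h (-i)) (by omega) (by omega))

/-- S7032 -/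
theorem hasTorAmplitudeIn_of_terms (a b : ℤ) (K : DRing.Cx R) (c d : ℤ)
    (hcd : DRing.VanishesOutside K c d)
    (hK : ∀ i : ℤ, DRing.HasTorAmplitudeIn R (a - i) (b - i) (Dual.inD R (K.X i))) :
    DRing.HasTorAmplitudeIn R a b (DRing.toD K) :=
  bounded_induction (fun X => DRing.HasTorAmplitudeIn R a b X)
    (fun e h => hasTorAmplitudeIn_of_iso e h)
    (fun X hX => hasTorAmplitudeIn_of_isZero X hX a b)
    (fun T hT h1 h3 => (hasTorAmplitudeIn_triangle a b T hT).2.1 h1 h3) K c d hcd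
    (fun i _ _ => hasTorAmplitudeIn_Sg (K.X i) i (hK i))

/-- S7033 -/
theorem hasTorAmplitudeIn_of_cohomology (a b : ℤ) (K : Dual.D R)
    (hb : ∃ c d : ℤ, ∀ i : ℤ, (i < c ∨ d < i) → Subsingleton (Dual.HD R K i))
    (hK : ∀ i : ℤ, DRing.HasTorAmplitudeIn R (a - i) (b - i) (Dual.inD R (Dual.HD R K i))) :
    DRing.HasTorAmplitudeIn R a b K := by
  obtain ⟨c, d, hcd⟩ := hb
  exact cohomological_induction (fun X => DRing.HasTorAmplitudeIn R a b X)
    (fun e h => hasTorAmplitudeIn_of_iso e h)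
    (fun X hX => hasTorAmplitudeIn_of_isZero X hX a b)
    (fun T hT h1 h3 => (hasTorAmplitudeIn_triangle a b T hT).2.1 h1 h3) K c d
    (fun i hi => isZero_H_of_subsingleton K i (hcd i hi))
    (fun i _ _ => hasTorAmplitudeIn_Sg ((H R i).obj K) i (hK i))

/-! ## The cokernel criterion for bounded above complexes of flat modules -/

/-- if `X` has tor amplitude in `[a, b]` and cohomology in degrees `≤ a` then `H^a(X)` is flat -/
lemma flat_H_of_hasTorAmplitudeIn (X : Dual.D R) (a b : ℤ) (h : DRing.HasTorAmplitudeIn R a b X)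
    [X.IsLE a] : Module.Flat R ((H R a).obj X) := by
  obtain ⟨Q, hQ, hQf, ⟨e⟩⟩ := h
  have hex : ∀ i : ℤ, a < i → IsZero ((H R i).obj (DRing.toD Q)) := fun i hi =>
    (DerivedCategory.isZero_of_isLE X a i hi).of_iso ((H R i).mapIso e)
  have hker := mp_ker_d (flatPropK R) Q b a (VanishesOutside.above hQ) (fun i _ => hQf i) hex a
    le_rfl
  haveI : Module.Flat R (LinearMap.ker (Q.d a (a + 1)).hom) := hker
  haveI : Subsingleton (Q.X (a - 1)) := ModuleCat.subsingleton_of_isZero (hQ _ (Or.inl (by omega)))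
  have hbot : LinearMap.range (toCyc Q (a - 1) a (a + 1)) = ⊥ := by
    rw [LinearMap.range_eq_bot]
    apply LinearMap.ext
    intro x
    rw [Subsingleton.elim x 0, map_zero]
    rfl
  have e1 := HtoDLinearEquiv' Q (a - 1) a (a + 1) (by omega) rfl
  have e2 := Submodule.quotEquivOfEqBot _ hbot
  have e3 := ((H R a).mapIso e).toLinearEquiv
  exact Module.Flat.of_linearEquiv (e3.symm.trans (e1.trans e2))

/-- `coker (E^{m-1} → E^m) ≅ H^m(σ_{≤ m} E)` -/
lemma nonempty_cokEquivH (E : DRing.Cx R) (m : ℤ) :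
    Nonempty (cok E (m - 1) m ≃ₗ[R] (H R m).obj (DRing.toD (sigmaLT E (m + 1)))) := by
  have e := HtoDLinearEquiv' (sigmaLT E (m + 1)) (m - 1) m (m + 1) (by omega) rfl
  haveI : Subsingleton ((sigmaLT E (m + 1)).X (m + 1)) :=
    ModuleCat.subsingleton_of_isZero (isZero_sigmaLT_X E (m + 1) le_rfl)
  let p₀ : E.X m →ₗ[R] LinearMap.ker ((sigmaLT E (m + 1)).d m (m + 1)).hom :=
    LinearMap.codRestrict _ ((sigmaLTπ E (m + 1)).f m).hom (fun x => Subsingleton.elim _ _)
  let q : E.X m →ₗ[R] (LinearMap.ker ((sigmaLT E (m + 1)).d m (m + 1)).hom ⧸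
      LinearMap.range (toCyc (sigmaLT E (m + 1)) (m - 1) m (m + 1))) :=
    (LinearMap.range (toCyc (sigmaLT E (m + 1)) (m - 1) m (m + 1))).mkQ ∘ₗ p₀
  have hq : Function.Surjective q := by
    intro a
    obtain ⟨z, rfl⟩ := Submodule.Quotient.mk_surjective _ a
    obtain ⟨x, hx⟩ := sigmaLTπ_f_surjective E (m + 1) m z.1
    exact ⟨x, congrArg _ (Subtype.ext hx)⟩
  have hcomm : ∀ y' : E.X (m - 1),
      ((sigmaLT E (m + 1)).d (m - 1) m).hom (((sigmaLTπ E (m + 1)).f (m - 1)).hom y') =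
        ((sigmaLTπ E (m + 1)).f m).hom ((E.d (m - 1) m).hom y') := fun y' =>
    (hom_apply_eq ((sigmaLTπ E (m + 1)).comm (m - 1) m) y').symm
  have hker : LinearMap.range (E.d (m - 1) m).hom = LinearMap.ker q := by
    ext x
    rw [LinearMap.mem_ker, LinearMap.comp_apply, Submodule.mkQ_apply,
      Submodule.Quotient.mk_eq_zero]
    constructor
    · rintro ⟨y', rfl⟩
      refine ⟨((sigmaLTπ E (m + 1)).f (m - 1)).hom y', Subtype.ext ?_⟩
      exact hcomm y'
    · rintro ⟨y, hy⟩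
      obtain ⟨y', rfl⟩ := sigmaLTπ_f_surjective E (m + 1) (m - 1) y
      have h1 : ((sigmaLT E (m + 1)).d (m - 1) m).hom (((sigmaLTπ E (m + 1)).f (m - 1)).hom y') =
          ((sigmaLTπ E (m + 1)).f m).hom x := congrArg Subtype.val hy
      rw [hcomm] at h1
      exact ⟨y', sigmaLTπ_f_injective E (m + 1) (show m < m + 1 by omega) h1⟩
  exact ⟨((Submodule.quotEquivOfEq _ _ hker).trans (q.quotKerEquivOfSurjective hq)).trans e.symm⟩

/-- S6944 (Stacks 0BYL) -/
theorem flat_cok_of_flat_of_hasTorAmplitudeIn (K : DRing.Cx R) (b : ℤ)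
    (hb : DRing.VanishesAbove K b) (hflat : DRing.TermwiseFlat K) (a c : ℤ)
    (hamp : DRing.HasTorAmplitudeIn R a c (DRing.toD K)) :
    Module.Flat R ((K.X a) ⧸ LinearMap.range (K.d (a - 1) a).hom) := by
  obtain ⟨b', hb1, hb2⟩ : ∃ b' : ℤ, b ≤ b' + 1 ∧ c ≤ b' :=
    ⟨max b c, by have := le_max_left b c; omega, le_max_right b c⟩
  have h1 : DRing.HasTorAmplitudeIn R (a + 1) (b' + 1) (DRing.toD (sigmaGE K (a + 1))) :=
    ⟨sigmaGE K (a + 1), VanishesOutside.mono (vanishesOutside_sigmaGE K (a + 1) hb) le_rfl hb1,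
      termwiseFlat_sigmaGE K (a + 1) hflat, ⟨Iso.refl _⟩⟩
  have h2 : DRing.HasTorAmplitudeIn R a b' (DRing.toD K) := hasTorAmplitudeIn_mono hamp le_rfl hb2
  have h3 : DRing.HasTorAmplitudeIn R a b' (DRing.toD (sigmaLT K (a + 1))) :=
    hasTorAmplitudeIn_obj₃ (sigmaTriangle K (a + 1)) (sigmaTriangle_distinguished K (a + 1)) a b'
      h1 h2
  haveI : (sigmaLT K (a + 1)).IsStrictlyLE a := by
    have : (sigmaLT K (a + 1)).IsStrictlyLE (a + 1 - 1) := inferInstance
    rwa [show a + 1 - 1 = a by omega] at this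
  haveI : (DRing.toD (sigmaLT K (a + 1))).IsLE a := inferInstance
  haveI := flat_H_of_hasTorAmplitudeIn (DRing.toD (sigmaLT K (a + 1))) a b' h3
  obtain ⟨e⟩ := nonempty_cokEquivH K a
  exact Module.Flat.of_linearEquiv e

/-! ## Perfect amplitude -/

/-- if `K₁` is `m₀`-pseudo-coherent, the terms of the free resolution are finite in degrees
`≥ m₀` -/
theorem finite_resE_of_isPseudoCoherent (K₁ : DRing.Cx R) (b : ℤ) [K₁.IsStrictlyLE b] (m₀ : ℤ)
    (hK : DRing.IsPseudoCoherent R m₀ (DRing.toD K₁)) (i : ℤ) (hi : m₀ ≤ i) :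
    Module.Finite R ((resE K₁ b).X i) := by
  have hE : ∀ m, m₀ ≤ m → DRing.IsPseudoCoherent R m (DRing.toD (resE K₁ b)) := fun m hm =>
    isPseudoCoherent_of_iso (asIso (DerivedCategory.Q.map (resα K₁ b))).symm
      (isPseudoCoherent_mono hm hK)
  have key : ∀ n : ℕ, ∀ i : ℤ, b - n < i → m₀ ≤ i → Module.Finite R ((resE K₁ b).X i) := by
    intro n
    induction n with
    | zero =>
      intro i hi _
      haveI : Subsingleton ((resE K₁ b).X i) :=
        ModuleCat.subsingleton_of_isZero (vanishesAbove_resE K₁ b i (by simpa using hi))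
      infer_instance
    | succ n ih =>
      intro i hi hmi
      by_cases h : b - n < i
      · exact ih i h hmi
      · obtain rfl : i = b - n := by push_cast at hi; omega
        apply finite_resE_of_finite_coker K₁ b (b - n - 1) (b - n) (by omega)
        apply finite_coker_of_finite_H
        have htff : DRing.TermwiseFiniteFree (sigmaGE (resE K₁ b) (b - n + 1)) := by
          intro i
          by_cases h' : b - n + 1 ≤ i
          · haveI := ih i (by omega) (by omega)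
            haveI := free_resE K₁ b i
            exact ⟨Module.Finite.equiv (sigmaGEXIso (resE K₁ b) (b - n + 1) h').symm.toLinearEquiv,
              Module.Free.of_equiv (sigmaGEXIso (resE K₁ b) (b - n + 1) h').symm.toLinearEquiv⟩
          · haveI : Subsingleton ((sigmaGE (resE K₁ b) (b - n + 1)).X i) :=
              ModuleCat.subsingleton_of_isZero (isZero_sigmaGE_X (resE K₁ b) (b - n + 1) (by omega))
            exact ⟨inferInstance, inferInstance⟩
        have hF : DRing.IsPseudoCoherent R (b - n)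
            (DRing.toD (sigmaLT (resE K₁ b) (b - n + 1))) :=
          isPseudoCoherent_obj₃ (sigmaTriangle (resE K₁ b) (b - n + 1))
            (sigmaTriangle_distinguished (resE K₁ b) (b - n + 1)) (b - n)
            (isPseudoCoherent_toD_of_bdd (sigmaGE (resE K₁ b) (b - n + 1)) (b - n + 1) b
              (vanishesOutside_sigmaGE (resE K₁ b) (b - n + 1) (vanishesAbove_resE K₁ b)) htff _)
            (hE _ hmi)
        refine finite_H_of_isPseudoCoherent _ _ hF (fun i hi => ?_)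
        rw [isZero_H_toD_iff_exactAt]
        exact HomologicalComplex.ExactAt.of_isZero
          (isZero_sigmaLT_X (resE K₁ b) (b - n + 1) (by omega))
  exact key (b - i + 1).toNat i (by omega) hi

/-- S5611 -/
theorem perfAmp_iff (K : Dual.D R) (m n : ℤ) :
    (DRing.IsPseudoCoherent R (m - 1) K ∧ DRing.HasTorAmplitudeIn R m n K) ↔
      ∃ E : DRing.Cx R, DRing.VanishesOutside E m n ∧ DRing.TermwiseFiniteProjective E ∧
        Nonempty (DRing.toD E ≅ K) := by
  constructor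
  · rintro ⟨hpc, hTA⟩
    haveI := isLE_of_hasTorAmplitudeIn hTA
    obtain ⟨K₁, _, ⟨e⟩⟩ := DerivedCategory.exists_iso_Q_obj_of_isLE K n
    exact exists_finiteProjective_rep K (resE K₁ n) n (vanishesAbove_resE K₁ n) (free_resE K₁ n)
      (asIso (DerivedCategory.Q.map (resα K₁ n)) ≪≫ e.symm) m n (m - 1) (by omega)
      (fun i hi => finite_resE_of_isPseudoCoherent K₁ n (m - 1) (isPseudoCoherent_of_iso e hpc) i hi)
      hTA
  · rintro ⟨E, hE, hfp, ⟨e⟩⟩
    exact ⟨isPseudoCoherent_of_isPerfect ⟨E, m, n, hE, hfp, ⟨e⟩⟩ (m - 1),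
      hasTorAmplitudeIn_of_isPerfect_rep K E m n hE (fun i => (hfp i).2) e⟩

end Groth.Agent.Lib.Helper18.DR
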