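import Mathlib
import Groth.Agent.Lib.Helper18.DRTorC
import Groth.Agent.Lib.Helper18.DRLBC

/-!
# Tor amplitude IV: tensoring quasi-isomorphisms of bounded above flat complexes; derived base
change preserves tor amplitude (helper18)
-/

set_option autoImplicit false
set_option linter.style.haveILetI false
universe u
open CategoryTheory CategoryTheory.Limits CategoryTheory.Pretriangulated DerivedCategory ZeroObject
  TensorProduct

attribute [local instance] HasDerivedCategory.standard

namespace Groth.Agent.Lib.Helper18.DR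

/-! ## Tensoring exact sequences with flat cokernel -/

section T0

variable {A : Type u} [CommRing A] {M₁ M₂ M₃ : Type u} [AddCommGroup M₁] [Module A M₁]
  [AddCommGroup M₂] [Module A M₂] [AddCommGroup M₃] [Module A M₃]

lemma lTensor_exact_of_flat_cok (f : M₁ →ₗ[A] M₂) (g : M₂ →ₗ[A] M₃) (h : Function.Exact f g)
    [Module.Flat A (M₃ ⧸ LinearMap.range g)] (N : Type u) [AddCommGroup N] [Module A N] :
    Function.Exact (f.lTensor N) (g.lTensor N) := by
  have h' : Function.Exact f g.rangeRestrict := by
    intro y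
    rw [← h y]
    constructor
    · intro hy
      exact congrArg Subtype.val hy
    · intro hy
      exact Subtype.ext hy
  have hsurj : Function.Surjective g.rangeRestrict := g.surjective_rangeRestrict
  have hex := lTensor_exact N h' hsurj
  have hinj : Function.Injective ((LinearMap.range g).subtype.lTensor N) :=
    LinearMap.lTensor_injective_of_exact_of_flat (LinearMap.range g).mkQ
      (Submodule.mkQ_surjective _) (LinearMap.range g).subtype
      (LinearMap.range g).injective_subtype (LinearMap.exact_subtype_mkQ _) N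
  have hcomp : g.lTensor N = ((LinearMap.range g).subtype.lTensor N) ∘ₗ
      (g.rangeRestrict.lTensor N) := by
    rw [← LinearMap.lTensor_comp]
    rfl
  intro y
  rw [← hex y, hcomp, LinearMap.comp_apply]
  constructor
  · intro hy
    apply hinj
    rw [hy, map_zero]
  · intro hy
    rw [hy, map_zero]

end T0

/-! ## Functors which are "tensoring with `N`" -/

lemma isZero_of_forall_isZero_H {B : Type u} [CommRing B] (X : Dual.D B) (h : ∀ i, IsZero ((H B i).obj X)) : IsZero X := by
  haveI : X.IsLE 0 := by
    rw [DerivedCategory.isLE_iff]; intro i _; exact h i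
  haveI : X.IsGE 1 := by
    rw [DerivedCategory.isGE_iff]; intro i _; exact h i
  exact TStructure.t.isZero X 0 1 (by omega)


section TL

variable {A B : Type u} [CommRing A] [CommRing B]

/-- a functor `Φ : A-Mod ⥤ B-Mod` which on underlying additive groups is `N ⊗_A -` -/
structure TensorLike (Φ : ModuleCat.{u} A ⥤ ModuleCat.{u} B) (N : Type u) [AddCommGroup N]
    [Module A N] where
  ε : ∀ M : ModuleCat.{u} A, Φ.obj M ≃+ (N ⊗[A] M)
  nat : ∀ {M M' : ModuleCat.{u} A} (f : M ⟶ M') (x : Φ.obj M),
    ε M' ((Φ.map f).hom x) = (f.hom.lTensor N) (ε M x)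

variable {Φ : ModuleCat.{u} A ⥤ ModuleCat.{u} B} {N : Type u} [AddCommGroup N] [Module A N]
  (t : TensorLike Φ N)

include t

lemma TensorLike.exact_iff {M₁ M₂ M₃ : ModuleCat.{u} A} (f : M₁ ⟶ M₂) (g : M₂ ⟶ M₃) :
    Function.Exact (Φ.map f).hom (Φ.map g).hom ↔
      Function.Exact (f.hom.lTensor N) (g.hom.lTensor N) := by
  constructor
  · intro h y
    constructor
    · intro hy
      obtain ⟨y', rfl⟩ := (t.ε M₂).surjective y
      have h1 : (Φ.map g).hom y' = 0 := by
        apply (t.ε M₃).injective
        rw [t.nat, hy, map_zero]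
      obtain ⟨x', rfl⟩ := (h y').mp h1
      exact ⟨t.ε M₁ x', (t.nat f x').symm⟩
    · rintro ⟨x, rfl⟩
      obtain ⟨x', rfl⟩ := (t.ε M₁).surjective x
      rw [← t.nat, ← t.nat, h.apply_apply_eq_zero, map_zero]
  · intro h y
    constructor
    · intro hy
      have h1 : (g.hom.lTensor N) (t.ε M₂ y) = 0 := by
        rw [← t.nat, hy, map_zero]
      obtain ⟨x, hx⟩ := (h _).mp h1
      obtain ⟨x', rfl⟩ := (t.ε M₁).surjective x
      refine ⟨x', (t.ε M₂).injective ?_⟩
      rw [t.nat, hx]
    · rintro ⟨x, rfl⟩
      apply (t.ε M₃).injective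
      rw [t.nat, t.nat, h.apply_apply_eq_zero, map_zero]

variable [Φ.Additive]

/-- `Φ` preserves acyclicity of bounded above complexes of flat modules -/
theorem TensorLike.isZero_H_of_acyclic (Q : DRing.Cx A) (c : ℤ) (hc : DRing.VanishesAbove Q c)
    (hQ : DRing.TermwiseFlat Q) (hex : ∀ i, IsZero ((H A i).obj (DRing.toD Q))) (j : ℤ) :
    IsZero ((H B j).obj (DRing.toD ((Φ.mapHomologicalComplex (ComplexShape.up ℤ)).obj Q))) := by
  rw [isZero_H_toD_iff _ (j - 1) j (j + 1) (by omega) rfl]
  change Function.Exact (Φ.map (Q.d (j - 1) j)).hom (Φ.map (Q.d j (j + 1))).hom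
  rw [t.exact_iff]
  have h0 := (isZero_H_toD_iff Q (j - 1) j (j + 1) (by omega) rfl).mp (hex j)
  have h1 := (isZero_H_toD_iff Q j (j + 1) (j + 2) rfl (by omega)).mp (hex (j + 1))
  have h2 := (isZero_H_toD_iff Q (j + 1) (j + 2) (j + 2 + 1) (by omega) rfl).mp (hex (j + 2))
  have hker := mp_ker_d (flatPropK A) Q c (j + 2) hc (fun i _ => hQ i) (fun i _ => hex i) (j + 2)
    le_rfl
  haveI : Module.Flat A (LinearMap.ker (Q.d (j + 2) (j + 2 + 1)).hom) := hker
  haveI : Module.Flat A (Q.X (j + 1) ⧸ LinearMap.range (Q.d j (j + 1)).hom) :=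
    flat_cok_of_exact Q j (j + 1) (j + 2) (j + 2 + 1) h1 h2
  exact lTensor_exact_of_flat_cok _ _ h0 N

/-- `Φ` preserves quasi-isomorphisms between bounded above complexes of flat modules -/
theorem TensorLike.isIso_Q_map (G E : DRing.Cx A) (f : G ⟶ E) (c : ℤ)
    (hGc : DRing.VanishesAbove G (c + 1)) (hEc : DRing.VanishesAbove E c)
    (hG : DRing.TermwiseFlat G) (hE : DRing.TermwiseFlat E)
    (hf : IsIso (DerivedCategory.Q.map f)) :
    IsIso (DerivedCategory.Q.map ((Φ.mapHomologicalComplex (ComplexShape.up ℤ)).map f)) := by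
  have hT := DerivedCategory.mappingCone_triangle_distinguished f
  have hzero : IsZero (DRing.toD (CochainComplex.mappingCone f)) :=
    (Triangle.isZero₃_iff_isIso₁ _ hT).mpr hf
  have hH : ∀ i, IsZero ((H A i).obj (DRing.toD (CochainComplex.mappingCone f))) :=
    fun i => (H A i).map_isZero hzero
  have h1 := t.isZero_H_of_acyclic (CochainComplex.mappingCone f) c (vanishesAbove_cone f hGc hEc)
    (termwiseFlat_cone f hG hE) hH
  have h2 : IsZero (DRing.toD ((Φ.mapHomologicalComplex (ComplexShape.up ℤ)).obj
      (CochainComplex.mappingCone f))) := isZero_of_forall_isZero_H _ h1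
  have h3 : IsZero (DRing.toD (CochainComplex.mappingCone
      ((Φ.mapHomologicalComplex (ComplexShape.up ℤ)).map f))) :=
    h2.of_iso (DerivedCategory.Q.mapIso
      (CochainComplex.mappingCone.mapHomologicalComplexIso f Φ)).symm
  exact (Triangle.isZero₃_iff_isIso₁ _ (DerivedCategory.mappingCone_triangle_distinguished
    ((Φ.mapHomologicalComplex (ComplexShape.up ℤ)).map f))).mp h3

end TL

/-! ## Extension of scalars -/

section ext

variable {A B : Type u} [CommRing A] [CommRing B] [Algebra A B]

lemma extMEquiv_naturality {M M' : ModuleCat.{u} A} (f : M ⟶ M')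
    (x : (extM (A := A) (B := B)).obj M) :
    extMEquiv (B := B) M' (((extM (A := A) (B := B)).map f).hom x) =
      (f.hom.lTensor B) (extMEquiv (B := B) M x) := by
  induction x using TensorProduct.induction_on with
  | zero =>
    have h1 : ((extM (A := A) (B := B)).map f).hom 0 = 0 := map_zero _
    have h2 : extMEquiv (B := B) M (0 : (extM (A := A) (B := B)).obj M) = 0 := map_zero _
    have h3 : extMEquiv (B := B) M' (0 : (extM (A := A) (B := B)).obj M') = 0 := map_zero _
    exact (congrArg _ h1).trans (h3.trans ((map_zero _).symm.trans (congrArg _ h2.symm)))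
  | tmul b m => rfl
  | add x y hx hy =>
    have h1 : ((extM (A := A) (B := B)).map f).hom (x + y) =
      ((extM (A := A) (B := B)).map f).hom x + ((extM (A := A) (B := B)).map f).hom y :=
      map_add _ x y
    have h2 : extMEquiv (B := B) M (x + y) = extMEquiv (B := B) M x + extMEquiv (B := B) M y :=
      map_add _ x y
    exact (congrArg _ h1).trans ((map_add (extMEquiv (B := B) M') _ _).trans
      ((congrArg₂ (· + ·) hx hy).trans ((map_add (f.hom.lTensor B) _ _).symm.trans
        (congrArg _ h2.symm))))

/-- extension of scalars is tensoring with `B` -/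
noncomputable def tensorLike_extM : TensorLike (extM (A := A) (B := B)) B where
  ε M := (extMEquiv (B := B) M).toAddEquiv
  nat f x := extMEquiv_naturality f x

end ext

/-- S6948 -/
theorem hasTorAmplitudeIn_LBaseChange {A B : Type u} [CommRing A] [CommRing B] (φ : A →+* B)
    [DRing.HasLBaseChange φ] (K : Dual.D A) (a b : ℤ) (hK : DRing.HasTorAmplitudeIn A a b K) :
    DRing.HasTorAmplitudeIn B a b ((DRing.LBaseChange φ).obj K) := by
  letI : Algebra A B := φ.toAlgebra
  haveI := isLE_of_hasTorAmplitudeIn hK
  obtain ⟨E, hE, hEf, ⟨e⟩⟩ := hK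
  obtain ⟨G, hGb, hGfree, ⟨eG⟩⟩ := exists_free_resolution K b
  have hGproj : ∀ i, Module.Projective A (G.X i) := fun i => by
    haveI := hGfree i; exact Module.Projective.of_free
  have hGflat : DRing.TermwiseFlat G := fun i => by haveI := hGproj i; infer_instance
  haveI : G.IsKProjective := isKProjective_of_vanishesAbove G b hGb hGproj
  obtain ⟨f, hf⟩ := exists_map_eq G E (eG.hom ≫ e.inv)
  have hiso : IsIso (DerivedCategory.Q.map f) := by rw [hf]; infer_instance
  haveI := (tensorLike_extM (A := A) (B := B)).isIso_Q_map G E f b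
    (VanishesAbove.mono hGb (by omega)) (VanishesOutside.above hE) hGflat hEf hiso
  refine ⟨((extM (A := A) (B := B)).mapHomologicalComplex (ComplexShape.up ℤ)).obj E,
    vanishesOutside_mapHC _ E a b hE, fun i => ?_, ⟨?_⟩⟩
  · haveI := hEf i
    exact flat_extM (B := B) (E.X i)
  · exact (asIso (DerivedCategory.Q.map (((extM (A := A) (B := B)).mapHomologicalComplex
      (ComplexShape.up ℤ)).map f))).symm ≪≫ (LBaseChangeIso φ G).symm ≪≫
      (DRing.LBaseChange φ).mapIso eG

end Groth.Agent.Lib.Helper18.DR
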