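import Mathlib
import Groth.Agent.Lib.Helper18.DRTorD

/-!
# Perfectness from vanishing of the derived fibre over a local ring (helper18)
-/

set_option autoImplicit false
set_option linter.style.haveILetI false
universe u
open CategoryTheory CategoryTheory.Limits CategoryTheory.Pretriangulated DerivedCategory ZeroObject
  TensorProduct

attribute [local instance] HasDerivedCategory.standard

namespace Groth.Agent.Lib.Helper18.DR

section NK

variable {R : Type u} [CommRing R] [IsLocalRing R] {M₀ M₁ M₂ : Type u} [AddCommGroup M₀]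
  [Module R M₀] [AddCommGroup M₁] [Module R M₁] [AddCommGroup M₂] [Module R M₂]

/-- Nakayama: if `M₀ → M₁ → M₂` (finite modules, `M₂` free) becomes exact after tensoring with
the residue field, then it is exact and the cokernel of `M₁ → M₂` is projective -/
lemma exact_and_projective_of_residue_exact (d₀ : M₀ →ₗ[R] M₁) (d₁ : M₁ →ₗ[R] M₂)
    (hd : d₁ ∘ₗ d₀ = 0) [Module.Finite R M₁] [Module.Finite R M₂] [Module.Free R M₂]
    (h : Function.Exact (d₀.lTensor (IsLocalRing.ResidueField R))
      (d₁.lTensor (IsLocalRing.ResidueField R))) :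
    Function.Exact d₀ d₁ ∧ Module.Projective R (M₂ ⧸ LinearMap.range d₁) := by
  have hle : LinearMap.range d₀ ≤ LinearMap.ker d₁ := by
    rintro _ ⟨x, rfl⟩
    exact LinearMap.congr_fun hd x
  let l : (M₁ ⧸ LinearMap.range d₀) →ₗ[R] M₂ := (LinearMap.range d₀).liftQ d₁ hle
  have hlπ : l ∘ₗ (LinearMap.range d₀).mkQ = d₁ := Submodule.liftQ_mkQ _ _ _
  have hπd : (LinearMap.range d₀).mkQ ∘ₗ d₀ = 0 := LinearMap.range_mkQ_comp d₀
  have hl : Function.Injective (l.lTensor (IsLocalRing.ResidueField R)) := by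
    rw [injective_iff_map_eq_zero]
    intro x hx
    obtain ⟨x', rfl⟩ := LinearMap.lTensor_surjective (IsLocalRing.ResidueField R)
      (Submodule.mkQ_surjective (LinearMap.range d₀)) x
    have h1 : (d₁.lTensor (IsLocalRing.ResidueField R)) x' = 0 := by
      rw [← hlπ, LinearMap.lTensor_comp, LinearMap.comp_apply]
      exact hx
    obtain ⟨w, rfl⟩ := (h x').mp h1
    rw [← LinearMap.comp_apply, ← LinearMap.lTensor_comp, hπd, LinearMap.lTensor_zero,
      LinearMap.zero_apply]
  obtain ⟨l', hl'⟩ := (IsLocalRing.split_injective_iff_lTensor_residueField_injective l).mpr hl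
  have hl'' : ∀ z, l' (l z) = z := fun z => LinearMap.congr_fun hl' z
  have hlmk : ∀ x, l ((LinearMap.range d₀).mkQ x) = d₁ x := fun x => LinearMap.congr_fun hlπ x
  refine ⟨?_, ?_⟩
  · intro y
    constructor
    · intro hy
      have h1 : l ((LinearMap.range d₀).mkQ y) = 0 := by rw [hlmk]; exact hy
      have h2 : (LinearMap.range d₀).mkQ y = 0 := by
        rw [← hl'' ((LinearMap.range d₀).mkQ y), h1, map_zero]
      exact (Submodule.Quotient.mk_eq_zero _).mp h2
    · rintro ⟨x, rfl⟩
      exact LinearMap.congr_fun hd x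
  · let s₀ : M₂ →ₗ[R] M₂ := LinearMap.id - l ∘ₗ l'
    have hs₀ : LinearMap.range d₁ ≤ LinearMap.ker s₀ := by
      rintro _ ⟨x, rfl⟩
      rw [LinearMap.mem_ker]
      change d₁ x - l (l' (d₁ x)) = 0
      rw [← hlmk x, hl'', sub_self]
    let s : (M₂ ⧸ LinearMap.range d₁) →ₗ[R] M₂ := (LinearMap.range d₁).liftQ s₀ hs₀
    have hrange : ∀ z, l z ∈ LinearMap.range d₁ := by
      intro z
      obtain ⟨x, rfl⟩ := Submodule.mkQ_surjective _ z
      exact ⟨x, (hlmk x).symm⟩
    have hs : (LinearMap.range d₁).mkQ ∘ₗ s = LinearMap.id := by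
      apply LinearMap.ext
      intro y
      obtain ⟨y, rfl⟩ := Submodule.mkQ_surjective _ y
      change Submodule.Quotient.mk (y - l (l' y)) = Submodule.Quotient.mk y
      rw [Submodule.Quotient.mk_sub, (Submodule.Quotient.mk_eq_zero _).mpr (hrange _), sub_zero]
    exact Module.Projective.of_split s (LinearMap.range d₁).mkQ hs

end NK

/-- S6975 -/
theorem isPerfect_of_residue_vanishing (R : Type u) [CommRing R] [IsLocalRing R]
    [DRing.HasLBaseChange (IsLocalRing.residue R)] (K : Dual.D R)
    (hK : DRing.IsPseudoCoherent' R K) (a : ℤ)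
    (h : ∀ i : ℤ, i < a → Subsingleton (Dual.HD (IsLocalRing.ResidueField R)
      ((DRing.LBaseChange (IsLocalRing.residue R)).obj K) i)) :
    DRing.IsPerfect R K := by
  obtain ⟨a', rfl⟩ : ∃ a', a = a' + 1 := ⟨a - 1, by omega⟩
  obtain ⟨F, c, hFc, hFff, ⟨e⟩⟩ := hK
  have hFproj : ∀ i, Module.Projective R (F.X i) := fun i => by
    haveI := (hFff i).2; exact Module.Projective.of_free
  haveI : F.IsKProjective := isKProjective_of_vanishesAbove F c hFc hFproj
  let eB : (DRing.LBaseChange (IsLocalRing.residue R)).obj K ≅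
      DRing.toD (((extM (A := R) (B := IsLocalRing.ResidueField R)).mapHomologicalComplex
        (ComplexShape.up ℤ)).obj F) :=
    (DRing.LBaseChange _).mapIso e.symm ≪≫ LBaseChangeIso (IsLocalRing.residue R) F
  have hexκ : ∀ i, i < a' + 1 →
      Function.Exact ((F.d (i - 1) i).hom.lTensor (IsLocalRing.ResidueField R))
        ((F.d i (i + 1)).hom.lTensor (IsLocalRing.ResidueField R)) := by
    intro i hi
    rw [← (tensorLike_extM (A := R) (B := IsLocalRing.ResidueField R)).exact_iff]
    have h1 : IsZero ((H (IsLocalRing.ResidueField R) i).obj (DRing.toD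
        (((extM (A := R) (B := IsLocalRing.ResidueField R)).mapHomologicalComplex
          (ComplexShape.up ℤ)).obj F))) :=
      (isZero_H_of_subsingleton _ i (h i hi)).of_iso ((H _ i).mapIso eB.symm)
    exact (isZero_H_toD_iff _ (i - 1) i (i + 1) (by omega) rfl).mp h1
  have key : ∀ i, i < a' + 1 → Function.Exact (F.d (i - 1) i).hom (F.d i (i + 1)).hom ∧
      Module.Projective R (cok F i (i + 1)) := by
    intro i hi
    haveI := (hFff i).1
    haveI := (hFff (i + 1)).1
    haveI := (hFff (i + 1)).2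
    exact exact_and_projective_of_residue_exact (F.d (i - 1) i).hom (F.d i (i + 1)).hom
      (by rw [← ModuleCat.hom_comp, F.d_comp_d]; rfl) (hexκ i hi)
  haveI := (hFff (a' + 1)).1
  obtain ⟨E, hE, hEP, ⟨e'⟩⟩ := exists_trunc_rep (finProjPropK R) F c (a' + 1) c hFc
    (fun i _ => ⟨(hFff i).1, hFproj i⟩)
    (fun i hi => (isZero_H_toD_iff F (i - 1) i (i + 1) (by omega) rfl).mpr (key i hi).1)
    (fun i hi => by
      rw [isZero_H_toD_iff_exactAt]
      exact HomologicalComplex.ExactAt.of_isZero (hFc i hi))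
    ((finProjPropK R).iso (opcyclesIsoCok F a' (a' + 1) rfl).symm
      ⟨Module.Finite.of_surjective (LinearMap.range (F.d a' (a' + 1)).hom).mkQ
        (Submodule.mkQ_surjective _), (key a' (by omega)).2⟩)
  exact ⟨E, a' + 1, c, hE, hEP, ⟨e' ≪≫ e⟩⟩

end Groth.Agent.Lib.Helper18.DR
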