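import Mathlib
import Groth.Agent.Lib.Helper18.DRTorE
import Groth.Agent.Lib.Helper18.DRExt3

/-!
# Descent of tor amplitude, pseudo-coherence and perfectness along finite flat families
(faithfully flat maps, Zariski coverings) (helper18)
-/

set_option autoImplicit false
set_option linter.style.haveILetI false
universe u
open CategoryTheory CategoryTheory.Limits CategoryTheory.Pretriangulated DerivedCategory ZeroObject
  TensorProduct

attribute [local instance] HasDerivedCategory.standard

namespace Groth.Agent.Lib.Helper18.DR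

/-! ## Cokernels commute with base change -/

section cokBC

variable {A B : Type u} [CommRing A] [CommRing B] [Algebra A B]

/-- cokernels commute with base change -/
noncomputable def cokBaseChangeEquiv {M N : Type u} [AddCommGroup M] [Module A M]
    [AddCommGroup N] [Module A N] (f : M →ₗ[A] N) :
    ((B ⊗[A] N) ⧸ LinearMap.range (f.baseChange B)) ≃ₗ[B] B ⊗[A] (N ⧸ LinearMap.range f) := by
  have hex : Function.Exact (f.baseChange B) ((LinearMap.range f).mkQ.baseChange B) :=
    lTensor_exact B (LinearMap.exact_map_mkQ_range f) (Submodule.mkQ_surjective _)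
  have hsurj : Function.Surjective ((LinearMap.range f).mkQ.baseChange B) :=
    LinearMap.lTensor_surjective B (Submodule.mkQ_surjective _)
  exact (Submodule.quotEquivOfEq _ _ (LinearMap.exact_iff.mp hex).symm) ≪≫ₗ
    LinearMap.quotKerEquivOfSurjective _ hsurj

lemma range_extM_map {M M' : ModuleCat.{u} A} (f : M ⟶ M') :
    (LinearMap.range ((extM (A := A) (B := B)).map f).hom).map
      ((extMEquiv (B := B) M' : _ ≃ₗ[B] _) : _ →ₗ[B] _) =
      LinearMap.range (f.hom.baseChange B) := by
  ext y
  constructor
  · rintro ⟨_, ⟨x, rfl⟩, rfl⟩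
    exact ⟨extMEquiv (B := B) M x, (extMEquiv_naturality f x).symm⟩
  · rintro ⟨z, rfl⟩
    obtain ⟨x, rfl⟩ := (extMEquiv (B := B) M).surjective z
    exact ⟨_, ⟨x, rfl⟩, extMEquiv_naturality f x⟩

/-- the cokernel of a differential of the base change of a complex -/
noncomputable def cokExtMEquiv (G : DRing.Cx A) (i j : ℤ) :
    cok (((extM (A := A) (B := B)).mapHomologicalComplex (ComplexShape.up ℤ)).obj G) i j ≃ₗ[B]
      B ⊗[A] cok G i j :=
  (Submodule.Quotient.equiv _ _ (extMEquiv (B := B) (G.X j)) (range_extM_map (G.d i j))) ≪≫ₗ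
    cokBaseChangeEquiv (B := B) (G.d i j).hom

end cokBC

/-! ## Families along which things descend -/

section fam

variable (A : Type u) [CommRing A] {ι : Type} (B : ι → Type u) [∀ i, CommRing (B i)]
  [∀ i, Algebra A (B i)]

/-- a family of `A`-algebras along which vanishing, flatness and finiteness of modules descend -/
structure DescFam : Prop where
  zero : ∀ (M : Type u) [AddCommGroup M] [Module A M],
    (∀ i, Subsingleton (B i ⊗[A] M)) → Subsingleton M
  flat : ∀ (M : Type u) [AddCommGroup M] [Module A M],
    (∀ i, Module.Flat (B i) (B i ⊗[A] M)) → Module.Flat A M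
  fin : ∀ (M : Type u) [AddCommGroup M] [Module A M],
    (∀ i, Module.Finite (B i) (B i ⊗[A] M)) → Module.Finite A M

variable {A B} [∀ i, Module.Flat A (B i)] (hd : DescFam A B)
include hd

lemma DescFam.isZero_of_extM (M : ModuleCat.{u} A)
    (h : ∀ i, IsZero ((extM (A := A) (B := B i)).obj M)) : IsZero M := by
  haveI : Subsingleton M := hd.zero M (fun i => by
    haveI : Subsingleton ((extM (A := A) (B := B i)).obj M) :=
      ModuleCat.subsingleton_of_isZero (h i)
    exact (extMEquiv (B := B i) M).symm.toEquiv.subsingleton)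
  exact ModuleCat.isZero_of_subsingleton _

lemma DescFam.isZero_H (K : Dual.D A) (j : ℤ)
    (h : ∀ i, IsZero ((H (B i) j).obj ((extD A (B i)).obj K))) : IsZero ((H A j).obj K) :=
  hd.isZero_of_extM _ (fun i => (h i).of_iso (homologyMapDIso extM K j).symm)

lemma DescFam.isLE (K : Dual.D A) (n : ℤ) (h : ∀ i, ((extD A (B i)).obj K).IsLE n) :
    K.IsLE n := by
  rw [DerivedCategory.isLE_iff]
  intro j hj
  exact hd.isZero_H K j (fun i => by haveI := h i; exact isZero_of_isLE _ n j hj)

lemma DescFam.isGE (K : Dual.D A) (n : ℤ) (h : ∀ i, ((extD A (B i)).obj K).IsGE n) :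
    K.IsGE n := by
  rw [DerivedCategory.isGE_iff]
  intro j hj
  exact hd.isZero_H K j (fun i => by haveI := h i; exact isZero_of_isGE _ n j hj)

/-- tor amplitude descends -/
theorem DescFam.hasTorAmplitudeIn (K : Dual.D A) (a b : ℤ)
    (h : ∀ i, DRing.HasTorAmplitudeIn (B i) a b ((extD A (B i)).obj K)) :
    DRing.HasTorAmplitudeIn A a b K := by
  haveI : K.IsLE b := hd.isLE K b (fun i => isLE_of_hasTorAmplitudeIn (h i))
  haveI : K.IsGE a := hd.isGE K a (fun i => isGE_of_hasTorAmplitudeIn (h i))
  obtain ⟨G, hGb, hGfree, ⟨eG⟩⟩ := exists_free_resolution K b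
  have hGproj : ∀ j, Module.Projective A (G.X j) := fun j => by
    haveI := hGfree j; exact Module.Projective.of_free
  have hGflat : DRing.TermwiseFlat G := fun j => by haveI := hGproj j; infer_instance
  have hflat : Module.Flat A (cok G (a - 1) a) := by
    refine hd.flat (cok G (a - 1) a) (fun i => ?_)
    have h1 : DRing.HasTorAmplitudeIn (B i) a b (DRing.toD
        (((extM (A := A) (B := B i)).mapHomologicalComplex (ComplexShape.up ℤ)).obj G)) :=
      hasTorAmplitudeIn_of_iso ((extD A (B i)).mapIso eG.symm ≪≫ mapDToDIso extM G) (h i)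
    haveI := flat_cok_of_hasTorAmplitudeIn _ b (vanishesAbove_mapCx extM G b hGb)
      (fun j => by haveI := hGproj j; exact projective_extM (B := B i) (G.X j)) a b (a - 1)
      (by omega) h1
    exact Module.Flat.of_linearEquiv (cokExtMEquiv (B := B i) G (a - 1) a).symm
  refine hasTorAmplitudeIn_of_iso eG
    (hasTorAmplitudeIn_of_flat_cok G b a b (a - 1) (by omega) hGb hGflat ?_ ?_ hflat)
  · intro j hj
    exact (isZero_of_isGE K a j hj).of_iso ((H A j).mapIso eG)
  · intro j hj
    exact (isZero_of_isLE K b j hj).of_iso ((H A j).mapIso eG)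

lemma DescFam.isPseudoCoherent_aux (m : ℤ) : ∀ (N : ℕ) (K : Dual.D A),
    K.IsLE (m - 1 + N) → (∀ i, DRing.IsPseudoCoherent (B i) m ((extD A (B i)).obj K)) →
      DRing.IsPseudoCoherent A m K := by
  intro N
  induction N with
  | zero =>
    intro K hK _
    haveI : K.IsLE (m - 1) := by simpa using hK
    exact isPseudoCoherent_of_isLE K (m - 1) m (by omega)
  | succ N ih =>
    intro K hKle hK
    obtain ⟨n, hn⟩ : ∃ n : ℤ, n = m + N := ⟨_, rfl⟩
    haveI : K.IsLE n := by
      have e : m - 1 + ((N + 1 : ℕ) : ℤ) = n := by push_cast; omega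
      rw [← e]; exact hKle
    have hfinA : Module.Finite A ((H A n).obj K) := by
      refine hd.fin _ (fun i => ?_)
      haveI : ((extD A (B i)).obj K).IsLE n := isLE_mapD extM K n
      have hfinB : Module.Finite (B i) ((H (B i) n).obj ((extD A (B i)).obj K)) :=
        finite_H_of_isPseudoCoherent _ n (isPseudoCoherent_mono (by omega) (hK i))
          (fun j hj => isZero_of_isLE _ n j hj)
      have hfinB' : Module.Finite (B i) ((extM (A := A) (B := B i)).obj ((H A n).obj K)) :=
        Module.Finite.equiv (homologyMapDIso extM K n).toLinearEquiv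
      exact Module.Finite.equiv (extMEquiv (B := B i) ((H A n).obj K))
    obtain ⟨r, π, hπ⟩ := Module.Finite.exists_fin' A ((H A n).obj K)
    let F : ModuleCat.{u} A := ModuleCat.of A (Fin r → A)
    haveI : Projective F := inferInstance
    haveI : Module.Finite A F := inferInstanceAs (Module.Finite A (Fin r → A))
    haveI : Module.Free A F := inferInstanceAs (Module.Free A (Fin r → A))
    obtain ⟨ψ, hψ⟩ := exists_hom_Sg n F K (ModuleCat.ofHom π)
    have hepi : Epi ((H A n).map ψ) := by
      have h1 : (H A n).map ψ = (HSg n F).hom ≫ ModuleCat.ofHom π := by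
        rw [← hψ]; simp
      rw [h1]
      haveI : Epi (ModuleCat.ofHom π) := (ModuleCat.epi_iff_surjective _).mpr hπ
      infer_instance
    have hconn : IsConn n ψ := by
      refine ⟨fun i hi => ?_, hepi⟩
      exact isIso_of_isZero_isZero _ (isZero_of_isLE (Sg n F) n i hi) (isZero_of_isLE K n i hi)
    obtain ⟨C, β, γ, hT⟩ := distinguished_cocone_triangle ψ
    have hC : C.IsLE (n - 1) := (isConn_iff_isLE_cone hT n).mp hconn
    have hC' : C.IsLE (m - 1 + N) := by
      have e : n - 1 = m - 1 + N := by omega
      rw [← e]; exact hC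
    have hresC : ∀ i, DRing.IsPseudoCoherent (B i) m ((extD A (B i)).obj C) := by
      intro i
      have hT' := (extD A (B i)).map_distinguished _ hT
      haveI : Module.Finite (B i) ((extM (A := A) (B := B i)).obj F) := finite_extM F
      haveI : Module.Free (B i) ((extM (A := A) (B := B i)).obj F) := free_extM F
      have h1 : DRing.IsPseudoCoherent (B i) (m + 1) ((extD A (B i)).obj (Sg n F)) :=
        isPseudoCoherent_of_iso (mapDSgIso extM n F).symm
          (isPseudoCoherent_Sg n ((extM (A := A) (B := B i)).obj F) (m + 1))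
      exact isPseudoCoherent_obj₃ _ hT' m h1 (hK i)
    have hCpc := ih C hC' hresC
    exact (isPseudoCoherent_triangle _ hT m).2.1 (isPseudoCoherent_Sg n F m) hCpc

/-- pseudo-coherence descends -/
theorem DescFam.isPseudoCoherent [Finite ι] (m : ℤ) (K : Dual.D A)
    (hK : ∀ i, DRing.IsPseudoCoherent (B i) m ((extD A (B i)).obj K)) :
    DRing.IsPseudoCoherent A m K := by
  choose bi hbi using fun i => exists_isLE_of_isPseudoCoherent (hK i)
  obtain ⟨b, hb⟩ := Finite.exists_le bi
  have hb' : K.IsLE b := hd.isLE K b (fun i => by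
    haveI := hbi i
    exact TStructure.t.isLE_of_le _ (bi i) b (hb i))
  obtain ⟨N, hN⟩ : ∃ N : ℕ, b ≤ m - 1 + N := ⟨(b - m + 1).toNat, by omega⟩
  have : K.IsLE (m - 1 + N) := TStructure.t.isLE_of_le K b _ hN
  exact hd.isPseudoCoherent_aux m N K this hK

theorem DescFam.isPseudoCoherent' [Finite ι] (K : Dual.D A)
    (hK : ∀ i, DRing.IsPseudoCoherent' (B i) ((extD A (B i)).obj K)) :
    DRing.IsPseudoCoherent' A K := by
  rw [← isPseudoCoherent'_iff_forall]
  intro m
  refine hd.isPseudoCoherent m K (fun i => ?_)
  have h1 := hK i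
  rw [← isPseudoCoherent'_iff_forall] at h1
  exact h1 m

/-- perfectness descends -/
theorem DescFam.isPerfect [Finite ι] (K : Dual.D A)
    (hK : ∀ i, DRing.IsPerfect (B i) ((extD A (B i)).obj K)) : DRing.IsPerfect A K := by
  rw [isPerfect_iff_pc_and_finiteTorDim]
  have h1 := fun i => (isPerfect_iff_pc_and_finiteTorDim _).mp (hK i)
  refine ⟨hd.isPseudoCoherent' K (fun i => (h1 i).1), ?_⟩
  choose ai bi hab using fun i =>
    (show ∃ a b : ℤ, DRing.HasTorAmplitudeIn (B i) a b ((extD A (B i)).obj K) from (h1 i).2)
  obtain ⟨a, ha⟩ := Finite.exists_ge ai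
  obtain ⟨b, hb⟩ := Finite.exists_le bi
  exact ⟨a, b, hd.hasTorAmplitudeIn K a b
    (fun i => hasTorAmplitudeIn_mono (hab i) (ha i) (hb i))⟩

end fam

/-! ## The two basic families -/

section inst

lemma descFam_of_faithfullyFlat (A B : Type u) [CommRing A] [CommRing B] [Algebra A B]
    [Module.FaithfullyFlat A B] : DescFam A (fun _ : Unit => B) where
  zero M _ _ h := by
    haveI := h ()
    exact (Module.FaithfullyFlat.subsingleton_tensorProduct_iff_right A B).1 inferInstance
  flat M _ _ h := by
    haveI := h ()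
    exact Module.Flat.of_flat_tensorProduct A M B
  fin M _ _ h := by
    haveI := h ()
    exact Module.Finite.of_finite_tensorProduct_of_faithfullyFlat B

lemma descFam_away {R : Type u} [CommRing R] {r : ℕ} (f : Fin r → R)
    (hf : Ideal.span (Set.range f) = ⊤) : DescFam R (fun i => Localization.Away (f i)) where
  zero M _ _ h := by
    refine ⟨fun x y => ?_⟩
    refine Module.eq_of_isLocalized_span (Set.range f) hf
      (fun g => Localization.Away g.1 ⊗[R] M)
      (fun g => TensorProduct.mk R (Localization.Away g.1) M 1) x y ?_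
    rintro ⟨_, i, rfl⟩
    haveI := h i
    exact Subsingleton.elim _ _
  flat M _ _ h := by
    refine Module.flat_of_isLocalized_span R M (Set.range f) hf
      (fun g => Localization.Away g.1 ⊗[R] M)
      (fun g => TensorProduct.mk R (Localization.Away g.1) M 1) ?_
    rintro ⟨_, i, rfl⟩
    haveI := h i
    exact Module.Flat.trans R (Localization.Away (f i)) _
  fin M _ _ h := by
    refine Module.Finite.of_localizationSpan' (Set.range f) hf
      (Rₚ := fun g => Localization.Away g.1)
      (fun g => TensorProduct.mk R (Localization.Away g.1) M 1) ?_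
    rintro ⟨_, i, rfl⟩
    exact h i

end inst

/-! ## The statements -/

section stmts

variable {R R' : Type u} [CommRing R] [CommRing R'] [Algebra R R'] [Module.FaithfullyFlat R R']

/-- S6950 -/
theorem hasTorAmplitudeIn_of_faithfullyFlat (K : DRing.Cx R) (a b : ℤ)
    (hK : DRing.HasTorAmplitudeIn R' a b (DRing.toD (((ModuleCat.extendScalars.{u, u, u}
      (algebraMap R R')).mapHomologicalComplex (ComplexShape.up ℤ)).obj K))) :
    DRing.HasTorAmplitudeIn R a b (DRing.toD K) :=
  (descFam_of_faithfullyFlat R R').hasTorAmplitudeIn (DRing.toD K) a b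
    (fun _ => hasTorAmplitudeIn_of_iso (mapDToDIso extM K).symm hK)

/-- S6961 -/
theorem isPerfect_of_faithfullyFlat (K : DRing.Cx R)
    (hK : DRing.IsPerfect R' (DRing.toD (((ModuleCat.extendScalars.{u, u, u}
      (algebraMap R R')).mapHomologicalComplex (ComplexShape.up ℤ)).obj K))) :
    DRing.IsPerfect R (DRing.toD K) :=
  (descFam_of_faithfullyFlat R R').isPerfect (DRing.toD K)
    (fun _ => isPerfect_of_iso (mapDToDIso extM K).symm hK)

end stmts

section stmts2

variable {R : Type u} [CommRing R] {r : ℕ} (f : Fin r → R) (hf : Ideal.span (Set.range f) = ⊤)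
include hf

/-- S6949 -/
theorem hasTorAmplitudeIn_of_away (K : DRing.Cx R) (a b : ℤ)
    (hK : ∀ i, DRing.HasTorAmplitudeIn (Localization.Away (f i)) a b
      (DRing.toD (((ModuleCat.extendScalars.{u, u, u}
        (algebraMap R (Localization.Away (f i)))).mapHomologicalComplex
        (ComplexShape.up ℤ)).obj K))) :
    DRing.HasTorAmplitudeIn R a b (DRing.toD K) :=
  (descFam_away f hf).hasTorAmplitudeIn (DRing.toD K) a b
    (fun i => hasTorAmplitudeIn_of_iso (mapDToDIso extM K).symm (hK i))

/-- S6960 -/
theorem isPerfect_of_away (K : DRing.Cx R)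
    (hK : ∀ i, DRing.IsPerfect (Localization.Away (f i))
      (DRing.toD (((ModuleCat.extendScalars.{u, u, u}
        (algebraMap R (Localization.Away (f i)))).mapHomologicalComplex
        (ComplexShape.up ℤ)).obj K))) :
    DRing.IsPerfect R (DRing.toD K) :=
  (descFam_away f hf).isPerfect (DRing.toD K)
    (fun i => isPerfect_of_iso (mapDToDIso extM K).symm (hK i))

end stmts2

end Groth.Agent.Lib.Helper18.DR
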