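import Mathlib
import Groth.Agent.Lib.Helper18.DRTorD

/-!
# Tor amplitude via the derived tensor product (helper18)

`K` has tor amplitude in `[a, b]` iff `H^i(K ⊗^L M) = 0` for all modules `M` and all `i` outside
`[a, b]` (for the abstract total left derived functor `DRing.LTensor`).
-/

set_option autoImplicit false
set_option linter.style.haveILetI false
universe u
open CategoryTheory CategoryTheory.Limits CategoryTheory.Pretriangulated DerivedCategory ZeroObject
  TensorProduct MonoidalCategory

attribute [local instance] HasDerivedCategory.standard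

namespace Groth.Agent.Lib.Helper18.DR

variable {R : Type u} [CommRing R]

/-! ## Two flatness criteria -/

section Crit

/-- if `Z ∩ IF ⊆ IZ` for all ideals `I` and `F` is flat then `F / Z` is flat -/
lemma flat_quotient_of_inf_smul_le {F : Type u} [AddCommGroup F] [Module R F] [Module.Flat R F]
    (Z : Submodule R F) (h : ∀ I : Ideal R, Z ⊓ (I • (⊤ : Submodule R F)) ≤ I • Z) :
    Module.Flat R (F ⧸ Z) := by
  rw [Module.Flat.iff_rTensor_injective']
  intro I
  rw [injective_iff_map_eq_zero]
  intro t ht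
  obtain ⟨t₀, rfl⟩ := LinearMap.lTensor_surjective I (Submodule.mkQ_surjective Z) t
  have injF : Function.Injective ((TensorProduct.lid R F).comp (I.subtype.rTensor F)) := by
    simpa using Module.Flat.iff_rTensor_injective'.mp ‹_› I
  have comm1 : ((TensorProduct.lid R (F ⧸ Z)).comp (I.subtype.rTensor (F ⧸ Z))).comp
      (Z.mkQ.lTensor I) = Z.mkQ.comp ((TensorProduct.lid R F).comp (I.subtype.rTensor F)) := by
    ext
    simp
  have hs1 : ((TensorProduct.lid R F).comp (I.subtype.rTensor F)) t₀ ∈ Z := by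
    have h1 := LinearMap.congr_fun comm1 t₀
    rw [LinearMap.comp_apply, LinearMap.comp_apply, ht, map_zero, LinearMap.comp_apply] at h1
    exact (Submodule.Quotient.mk_eq_zero Z).mp h1.symm
  have hs2 : ((TensorProduct.lid R F).comp (I.subtype.rTensor F)) t₀ ∈
      I • (⊤ : Submodule R F) := by
    rw [← Ideal.subtype_rTensor_range]
    exact ⟨t₀, rfl⟩
  have hs3 := h I ⟨hs1, hs2⟩
  have hs4 := (Submodule.mem_smul_top_iff I Z ⟨_, hs1⟩).mpr hs3
  rw [← Ideal.subtype_rTensor_range] at hs4
  obtain ⟨u, hu⟩ := hs4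
  have comm2 : ((TensorProduct.lid R F).comp (I.subtype.rTensor F)).comp (Z.subtype.lTensor I) =
      Z.subtype.comp ((TensorProduct.lid R Z).comp (I.subtype.rTensor Z)) := by
    ext
    simp
  have h5 : t₀ = (Z.subtype.lTensor I) u := by
    apply injF
    have h6 : ((TensorProduct.lid R F).comp (I.subtype.rTensor F)) ((Z.subtype.lTensor I) u) =
        Z.subtype (((TensorProduct.lid R Z).comp (I.subtype.rTensor Z)) u) :=
      LinearMap.congr_fun comm2 u
    rw [h6, hu]
    rfl
  have h7 : (Z.mkQ.lTensor I) ((Z.subtype.lTensor I) u) = 0 := by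
    have h8 : Z.mkQ.comp Z.subtype = 0 := by
      ext x
      simp
    rw [← LinearMap.comp_apply, ← LinearMap.lTensor_comp, h8, LinearMap.lTensor_zero,
      LinearMap.zero_apply]
  first | (rw [h5, h7, map_zero]) | (rw [h5, h7])

/-- exactness of `F₀/I → F₁/I → F/I` implies `d(F₁) ∩ IF ⊆ I d(F₁)` -/
lemma inf_smul_le_of_exact {F₀ F₁ F : Type u} [AddCommGroup F₀] [Module R F₀] [AddCommGroup F₁]
    [Module R F₁] [AddCommGroup F] [Module R F] (d₀ : F₀ →ₗ[R] F₁) (d : F₁ →ₗ[R] F)
    (hd : d ∘ₗ d₀ = 0) (I : Ideal R)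
    (hex : Function.Exact (d₀.lTensor (R ⧸ I)) (d.lTensor (R ⧸ I))) :
    LinearMap.range d ⊓ (I • (⊤ : Submodule R F)) ≤ I • LinearMap.range d := by
  rintro z ⟨⟨g, rfl⟩, hz⟩
  have h1 : (d.lTensor (R ⧸ I)) ((1 : R ⧸ I) ⊗ₜ[R] g) = 0 := by
    rw [LinearMap.lTensor_tmul]
    apply (TensorProduct.quotTensorEquivQuotSMul F I).injective
    rw [TensorProduct.quotTensorEquivQuotSMul_mk_one_tmul, map_zero,
      Submodule.Quotient.mk_eq_zero]
    exact hz
  obtain ⟨t, ht⟩ := (hex _).mp h1
  obtain ⟨g₀, hg₀⟩ : ∃ g₀ : F₀, t = (1 : R ⧸ I) ⊗ₜ[R] g₀ := by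
    obtain ⟨g₀, hg₀⟩ := Submodule.Quotient.mk_surjective _
      (TensorProduct.quotTensorEquivQuotSMul F₀ I t)
    refine ⟨g₀, ?_⟩
    apply (TensorProduct.quotTensorEquivQuotSMul F₀ I).injective
    rw [TensorProduct.quotTensorEquivQuotSMul_mk_one_tmul, hg₀]
  rw [hg₀, LinearMap.lTensor_tmul] at ht
  have h2 : g - d₀ g₀ ∈ (I • ⊤ : Submodule R F₁) := by
    rw [← Submodule.Quotient.mk_eq_zero, Submodule.Quotient.mk_sub, sub_eq_zero]
    have h3 := congrArg (TensorProduct.quotTensorEquivQuotSMul F₁ I) ht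
    rw [TensorProduct.quotTensorEquivQuotSMul_mk_one_tmul,
      TensorProduct.quotTensorEquivQuotSMul_mk_one_tmul] at h3
    exact h3.symm
  have h3 : d g = d (g - d₀ g₀) := by
    rw [map_sub, ← LinearMap.comp_apply, hd, LinearMap.zero_apply, sub_zero]
  have h4 : Submodule.map d (I • ⊤) = I • LinearMap.range d := by
    rw [Submodule.map_smul'', Submodule.map_top]
  rw [h3, ← h4]
  exact Submodule.mem_map_of_mem h2

end Crit

/-! ## `- ⊗ M` -/

section TR

variable (M : ModuleCat.{u} R)

/-- `- ⊗ M` is tensoring with `M` -/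
noncomputable def tensorLike_tensorRight : TensorLike (tensorRight M) M where
  ε X := (TensorProduct.comm R X M).toAddEquiv
  nat {X X'} f x := by
    change (TensorProduct.comm R X' M) ((f.hom.rTensor M) x) =
      (f.hom.lTensor M) ((TensorProduct.comm R X M) x)
    induction x using TensorProduct.induction_on with
    | zero => simp
    | tmul x m => rfl
    | add x y hx hy => rw [map_add, map_add, hx, hy, map_add, map_add]

/-- the value of `tensorKh` on (the class of) a complex -/
noncomputable def tensorKhObjIso (X : DRing.Cx R) :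
    (DRing.tensorKh R M).obj ((HomotopyCategory.quotient _ _).obj X) ≅
      DRing.toD (((tensorRight M).mapHomologicalComplex (ComplexShape.up ℤ)).obj X) :=
  DerivedCategory.Qh.mapIso (((tensorRight M).mapHomotopyCategoryFactors
    (ComplexShape.up ℤ)).app X) ≪≫
    (DerivedCategory.quotientCompQhIso (ModuleCat.{u} R)).app _

variable [DRing.HasLTensor R M]

instance isRightKanExtension_LTensor :
    (DRing.LTensor R M).IsRightKanExtension
      ((DRing.tensorKh R M).totalLeftDerivedCounit DerivedCategory.Qh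
        (HomotopyCategory.quasiIso (ModuleCat.{u} R) (ComplexShape.up ℤ))) :=
  Functor.IsLeftDerivedFunctor.isRightKanExtension _ _
    (HomotopyCategory.quasiIso (ModuleCat.{u} R) (ComplexShape.up ℤ))

/-- the counit of the derived tensor product is an isomorphism on K-projective complexes -/
theorem isIso_LTensor_counit (P : DRing.Cx R) [P.IsKProjective] :
    IsIso (((DRing.tensorKh R M).totalLeftDerivedCounit DerivedCategory.Qh
      (HomotopyCategory.quasiIso (ModuleCat.{u} R) (ComplexShape.up ℤ))).app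
        ((HomotopyCategory.quotient _ _).obj P)) :=
  Kan.isIso_counit_app DerivedCategory.Qh
    (HomotopyCategory.quasiIso (ModuleCat.{u} R) (ComplexShape.up ℤ)) _ _ _
    (fun c => CochainComplex.IsKProjective.Qh_map_bijective P c)

/-- the derived tensor product is computed termwise on K-projective complexes -/
noncomputable def LTensorIso (P : DRing.Cx R) [P.IsKProjective] :
    (DRing.LTensor R M).obj (DRing.toD P) ≅
      DRing.toD (((tensorRight M).mapHomologicalComplex (ComplexShape.up ℤ)).obj P) :=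
  haveI := isIso_LTensor_counit M P
  (DRing.LTensor R M).mapIso
      ((DerivedCategory.quotientCompQhIso (ModuleCat.{u} R)).app P).symm ≪≫
    asIso (((DRing.tensorKh R M).totalLeftDerivedCounit DerivedCategory.Qh
      (HomotopyCategory.quasiIso (ModuleCat.{u} R) (ComplexShape.up ℤ))).app
        ((HomotopyCategory.quotient _ _).obj P)) ≪≫
    tensorKhObjIso M P

end TR

/-! ## The unit -/

section Unit

/-- the chain map `K → K ⊗ 𝟙` -/
noncomputable def rightUnitorInvCx (K : DRing.Cx R) :
    K ⟶ ((tensorRight (𝟙_ (ModuleCat.{u} R))).mapHomologicalComplex (ComplexShape.up ℤ)).obj K where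
  f i := (ρ_ (K.X i)).inv
  comm' i j _ := (rightUnitor_inv_naturality (K.d i j)).symm

instance (K : DRing.Cx R) : IsIso (rightUnitorInvCx K) := by
  haveI : ∀ n, IsIso ((rightUnitorInvCx K).f n) := fun n => by
    dsimp [rightUnitorInvCx]; infer_instance
  exact HomologicalComplex.Hom.isIso_of_components _

set_option backward.isDefEq.respectTransparency false in
/-- `𝟭 ⟶ (- ⊗ 𝟙)` on the homotopy category -/
noncomputable def unitNatTrans :
    𝟭 (HomotopyCategory (ModuleCat.{u} R) (ComplexShape.up ℤ)) ⟶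
      (tensorRight (𝟙_ (ModuleCat.{u} R))).mapHomotopyCategory (ComplexShape.up ℤ) where
  app C := (HomotopyCategory.quotient _ _).map (rightUnitorInvCx C.as)
  naturality := by
    rintro ⟨C⟩ ⟨D⟩ ⟨f : C ⟶ D⟩
    have h1 : f ≫ rightUnitorInvCx D = rightUnitorInvCx C ≫
        ((tensorRight (𝟙_ (ModuleCat.{u} R))).mapHomologicalComplex (ComplexShape.up ℤ)).map f := by
      apply HomologicalComplex.hom_ext
      intro i
      exact rightUnitor_inv_naturality (f.f i)
    simp only [HomotopyCategory.quot_mk_eq_quotient_map, Functor.mapHomotopyCategory_map,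
      Functor.id_map, ← Functor.map_comp, h1]

instance (C : HomotopyCategory (ModuleCat.{u} R) (ComplexShape.up ℤ)) :
    IsIso ((unitNatTrans (R := R)).app C) := by
  haveI : IsIso (rightUnitorInvCx C.as) := inferInstance
  exact Functor.map_isIso (HomotopyCategory.quotient (ModuleCat.{u} R) (ComplexShape.up ℤ))
    (rightUnitorInvCx C.as)

variable [DRing.HasLTensor R (𝟙_ (ModuleCat.{u} R))]

/-- `Qh ⋙ 𝟭 ⟶ tensorKh 𝟙` -/
noncomputable def unitβ :
    DerivedCategory.Qh ⋙ 𝟭 (Dual.D R) ⟶ DRing.tensorKh R (𝟙_ (ModuleCat.{u} R)) :=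
  (Functor.rightUnitor _).hom ≫ (Functor.leftUnitor _).inv ≫
    Functor.whiskerRight unitNatTrans DerivedCategory.Qh

instance (C : HomotopyCategory (ModuleCat.{u} R) (ComplexShape.up ℤ)) :
    IsIso ((unitβ (R := R)).app C) := by
  dsimp [unitβ]
  infer_instance

/-- `K` is a retract of `K ⊗^L R` -/
lemma isZero_H_of_isZero_H_LTensor_unit (K : Dual.D R) (i : ℤ)
    (h : IsZero ((H R i).obj ((DRing.LTensor R (𝟙_ (ModuleCat.{u} R))).obj K))) :
    IsZero ((H R i).obj K) := by
  let α := (DRing.tensorKh R (𝟙_ (ModuleCat.{u} R))).totalLeftDerivedCounit DerivedCategory.Qh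
    (HomotopyCategory.quasiIso (ModuleCat.{u} R) (ComplexShape.up ℤ))
  let η : 𝟭 (Dual.D R) ⟶ DRing.LTensor R (𝟙_ (ModuleCat.{u} R)) :=
    (DRing.LTensor R (𝟙_ (ModuleCat.{u} R))).liftOfIsRightKanExtension α (𝟭 _) unitβ
  let X := DerivedCategory.Qh.objPreimage K
  let e : DerivedCategory.Qh.obj X ≅ K := DerivedCategory.Qh.objObjPreimageIso K
  have hfac : η.app (DerivedCategory.Qh.obj X) ≫ α.app X = unitβ.app X :=
    (DRing.LTensor R (𝟙_ (ModuleCat.{u} R))).liftOfIsRightKanExtension_fac_app α (𝟭 _) unitβ X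
  have hretr : η.app (DerivedCategory.Qh.obj X) ≫ (α.app X ≫ inv (unitβ.app X)) = 𝟙 _ := by
    rw [← Category.assoc, hfac, IsIso.hom_inv_id]
  have hmono : Mono ((H R i).map (η.app (DerivedCategory.Qh.obj X))) := by
    have h1 : (H R i).map (η.app (DerivedCategory.Qh.obj X)) ≫
        (H R i).map (α.app X ≫ inv (unitβ.app X)) = 𝟙 _ := by
      rw [← Functor.map_comp, hretr, CategoryTheory.Functor.map_id]
    exact mono_of_mono_fac h1
  have h2 : IsZero ((H R i).obj ((DRing.LTensor R (𝟙_ (ModuleCat.{u} R))).obj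
      (DerivedCategory.Qh.obj X))) :=
    h.of_iso ((H R i).mapIso ((DRing.LTensor R (𝟙_ (ModuleCat.{u} R))).mapIso e))
  have h3 : IsZero ((H R i).obj (DerivedCategory.Qh.obj X)) :=
    IsZero.of_mono ((H R i).map (η.app (DerivedCategory.Qh.obj X))) h2
  exact h3.of_iso ((H R i).mapIso e.symm)

end Unit

/-! ## The main theorem -/

/-- S6945 -/
theorem hasTorAmplitudeIn_iff_LTensor [∀ M : ModuleCat.{u} R, DRing.HasLTensor R M]
    (K : Dual.D R) (a b : ℤ) :
    DRing.HasTorAmplitudeIn R a b K ↔
      ∀ (M : ModuleCat.{u} R) (i : ℤ), (i < a ∨ b < i) →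
        Subsingleton (Dual.HD R ((DRing.LTensor R M).obj K) i) := by
  constructor
  · intro hK M i hi
    haveI := isLE_of_hasTorAmplitudeIn hK
    obtain ⟨E, hE, hEf, ⟨e⟩⟩ := hK
    obtain ⟨G, hGb, hGfree, ⟨eG⟩⟩ := exists_free_resolution K b
    have hGproj : ∀ i, Module.Projective R (G.X i) := fun i => by
      haveI := hGfree i; exact Module.Projective.of_free
    have hGflat : DRing.TermwiseFlat G := fun i => by haveI := hGproj i; infer_instance
    haveI : G.IsKProjective := isKProjective_of_vanishesAbove G b hGb hGproj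
    obtain ⟨f, hf⟩ := exists_map_eq G E (eG.hom ≫ e.inv)
    have hiso : IsIso (DerivedCategory.Q.map f) := by rw [hf]; infer_instance
    haveI := (tensorLike_tensorRight M).isIso_Q_map G E f b
      (VanishesAbove.mono hGb (by omega)) (VanishesOutside.above hE) hGflat hEf hiso
    let e' : (DRing.LTensor R M).obj K ≅
        DRing.toD (((tensorRight M).mapHomologicalComplex (ComplexShape.up ℤ)).obj E) :=
      (DRing.LTensor R M).mapIso eG.symm ≪≫ LTensorIso M G ≪≫
        asIso (DerivedCategory.Q.map (((tensorRight M).mapHomologicalComplex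
          (ComplexShape.up ℤ)).map f))
    have hz : IsZero ((H R i).obj (DRing.toD (((tensorRight M).mapHomologicalComplex
        (ComplexShape.up ℤ)).obj E))) := by
      rw [isZero_H_toD_iff_exactAt]
      exact HomologicalComplex.ExactAt.of_isZero
        (vanishesOutside_mapHC (tensorRight M) E a b hE i hi)
    exact ModuleCat.subsingleton_of_isZero (hz.of_iso ((H R i).mapIso e'))
  · intro h
    have hH : ∀ i : ℤ, (i < a ∨ b < i) → IsZero ((H R i).obj K) := fun i hi =>
      isZero_H_of_isZero_H_LTensor_unit K i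
        (isZero_H_of_subsingleton _ i (h (𝟙_ (ModuleCat.{u} R)) i hi))
    haveI : K.IsLE b := by
      rw [DerivedCategory.isLE_iff]; intro i hi; exact hH i (Or.inr hi)
    obtain ⟨G, hGb, hGfree, ⟨eG⟩⟩ := exists_free_resolution K b
    have hGproj : ∀ i, Module.Projective R (G.X i) := fun i => by
      haveI := hGfree i; exact Module.Projective.of_free
    have hGflat : DRing.TermwiseFlat G := fun i => by haveI := hGproj i; infer_instance
    haveI : G.IsKProjective := isKProjective_of_vanishesAbove G b hGb hGproj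
    refine hasTorAmplitudeIn_of_iso eG (hasTorAmplitudeIn_of_flat_cok G b a b (a - 1) (by omega)
      hGb hGflat (fun i hi => (hH i (Or.inl hi)).of_iso ((H R i).mapIso eG))
      (fun i hi => (hH i (Or.inr hi)).of_iso ((H R i).mapIso eG)) ?_)
    haveI := hGflat a
    apply flat_quotient_of_inf_smul_le
    intro I
    refine inf_smul_le_of_exact (G.d (a - 1 - 1) (a - 1)).hom (G.d (a - 1) a).hom
      (by rw [← ModuleCat.hom_comp, G.d_comp_d]; rfl) I ?_
    rw [← (tensorLike_tensorRight (ModuleCat.of R (R ⧸ I))).exact_iff]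
    have e' : (DRing.LTensor R (ModuleCat.of R (R ⧸ I))).obj K ≅
        DRing.toD (((tensorRight (ModuleCat.of R (R ⧸ I))).mapHomologicalComplex
          (ComplexShape.up ℤ)).obj G) :=
      (DRing.LTensor R _).mapIso eG.symm ≪≫ LTensorIso _ G
    have hz : IsZero ((H R (a - 1)).obj (DRing.toD (((tensorRight
        (ModuleCat.of R (R ⧸ I))).mapHomologicalComplex (ComplexShape.up ℤ)).obj G))) :=
      (isZero_H_of_subsingleton _ (a - 1) (h _ (a - 1) (Or.inl (by omega)))).of_iso
        ((H R (a - 1)).mapIso e'.symm)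
    exact (isZero_H_toD_iff _ (a - 1 - 1) (a - 1) a (by omega) (by omega)).mp hz

end Groth.Agent.Lib.Helper18.DR
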