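import Mathlib
import Groth.Agent.Lib.Helper18.DRDesc
import Groth.Agent.Lib.Helper18.DRTorF

/-!
# Non-local Nakayama for bounded above complexes of finite free modules: tor amplitude from
vanishing of the fibres at all maximal ideals (helper18)
-/

set_option autoImplicit false
set_option linter.style.haveILetI false
universe u
open CategoryTheory CategoryTheory.Limits CategoryTheory.Pretriangulated DerivedCategory ZeroObject
  TensorProduct

attribute [local instance] HasDerivedCategory.standard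

namespace Groth.Agent.Lib.Helper18.DR

/-! ## Ladders -/

lemma exact_of_ladder' {X₁ X₂ X₃ Y₁ Y₂ Y₃ : Type*} [AddCommGroup X₁] [AddCommGroup X₂]
    [AddCommGroup X₃] [AddCommGroup Y₁] [AddCommGroup Y₂] [AddCommGroup Y₃]
    {f : X₁ → X₂} {g : X₂ → X₃} {f' : Y₁ → Y₂} {g' : Y₂ → Y₃}
    (e₁ : X₁ ≃+ Y₁) (e₂ : X₂ ≃+ Y₂) (e₃ : X₃ ≃+ Y₃)
    (h₁ : ∀ x, e₂ (f x) = f' (e₁ x)) (h₂ : ∀ x, e₃ (g x) = g' (e₂ x))
    (h : Function.Exact f' g') : Function.Exact f g := by
  intro y
  constructor
  · intro hy
    have h1 : g' (e₂ y) = 0 := by rw [← h₂, hy, map_zero]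
    obtain ⟨x', hx'⟩ := (h _).mp h1
    obtain ⟨x, rfl⟩ := e₁.surjective x'
    refine ⟨x, e₂.injective ?_⟩
    rw [h₁, hx']
  · rintro ⟨x, rfl⟩
    apply e₃.injective
    rw [h₂, h₁, h.apply_apply_eq_zero, map_zero]

section nat

variable {R : Type u} [CommRing R] {S : Type u} [CommRing S] [Algebra R S] (κ : Type u)
  [CommRing κ] [Algebra S κ] [Algebra R κ] [IsScalarTower R S κ]

lemma cancelBaseChange_naturality {M M' : Type u} [AddCommGroup M] [Module R M] [AddCommGroup M']
    [Module R M'] (f : M →ₗ[R] M') (z : κ ⊗[S] (S ⊗[R] M)) :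
    AlgebraTensorModule.cancelBaseChange R S S κ M' (((f.baseChange S).lTensor κ) z) =
      (f.lTensor κ) (AlgebraTensorModule.cancelBaseChange R S S κ M z) := by
  induction z using TensorProduct.induction_on with
  | zero => simp
  | add x y hx hy => simp only [map_add, hx, hy]
  | tmul k y =>
    induction y using TensorProduct.induction_on with
    | zero => simp
    | add x y hx hy => simp only [tmul_add, map_add, hx, hy]
    | tmul s x => simp

omit [Algebra R S] in
lemma congr_lTensor_naturality {N N' M M' : Type u} [AddCommGroup N] [Module R N]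
    [AddCommGroup N'] [Module R N'] [AddCommGroup M] [Module R M] [AddCommGroup M']
    [Module R M'] (e : N ≃ₗ[R] N') (f : M →ₗ[R] M') (z : N ⊗[R] M) :
    (TensorProduct.congr e (LinearEquiv.refl R M')) ((f.lTensor N) z) =
      (f.lTensor N') ((TensorProduct.congr e (LinearEquiv.refl R M)) z) := by
  induction z using TensorProduct.induction_on with
  | zero => simp
  | tmul n x => simp
  | add x y hx hy => simp only [map_add, hx, hy]

/-- exactness of `κ ⊗_S (S ⊗_R -)` gives exactness of `κ ⊗_R -` -/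
lemma lTensor_exact_of_extM {M₀ M₁ M₂ : ModuleCat.{u} R} (f : M₀ ⟶ M₁) (g : M₁ ⟶ M₂)
    (h : Function.Exact (((extM (A := R) (B := S)).map f).hom.lTensor κ)
      (((extM (A := R) (B := S)).map g).hom.lTensor κ)) :
    Function.Exact (f.hom.lTensor κ) (g.hom.lTensor κ) := by
  have hnat : ∀ {M M' : ModuleCat.{u} R} (f : M ⟶ M'),
      ((extMEquiv (B := S) M' : _ ≃ₗ[S] _) : _ →ₗ[S] _) ∘ₗ ((extM (A := R) (B := S)).map f).hom =
        (f.hom.baseChange S) ∘ₗ ((extMEquiv (B := S) M : _ ≃ₗ[S] _) : _ →ₗ[S] _) := by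
    intro M M' f
    apply LinearMap.ext
    intro x
    exact extMEquiv_naturality f x
  have step1 : ∀ {M M' : ModuleCat.{u} R} (f : M ⟶ M')
      (z : κ ⊗[S] ((extM (A := R) (B := S)).obj M)),
      (LinearEquiv.lTensor κ (extMEquiv (B := S) M'))
        ((((extM (A := R) (B := S)).map f).hom.lTensor κ) z) =
      ((f.hom.baseChange S).lTensor κ) ((LinearEquiv.lTensor κ (extMEquiv (B := S) M)) z) := by
    intro M M' f z
    have h1 := LinearMap.congr_fun (congrArg (LinearMap.lTensor κ) (hnat f)) z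
    rw [LinearMap.lTensor_comp, LinearMap.lTensor_comp] at h1
    exact h1
  let E : ∀ M : ModuleCat.{u} R, κ ⊗[S] ((extM (A := R) (B := S)).obj M) ≃+ κ ⊗[R] M :=
    fun M => (LinearEquiv.lTensor κ (extMEquiv (B := S) M)).toAddEquiv.trans
      (AlgebraTensorModule.cancelBaseChange R S S κ M).toAddEquiv
  have hE : ∀ {M M' : ModuleCat.{u} R} (f : M ⟶ M')
      (z : κ ⊗[S] ((extM (A := R) (B := S)).obj M)),
      E M' ((((extM (A := R) (B := S)).map f).hom.lTensor κ) z) = (f.hom.lTensor κ) (E M z) := by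
    intro M M' f z
    change AlgebraTensorModule.cancelBaseChange R S S κ M'
      ((LinearEquiv.lTensor κ (extMEquiv (B := S) M'))
        ((((extM (A := R) (B := S)).map f).hom.lTensor κ) z)) = _
    rw [step1, cancelBaseChange_naturality]
    rfl
  exact exact_of_ladder' (E M₀).symm (E M₁).symm (E M₂).symm
    (fun x => by
      apply (E M₁).injective
      rw [AddEquiv.apply_symm_apply, hE, AddEquiv.apply_symm_apply])
    (fun x => by
      apply (E M₂).injective
      rw [AddEquiv.apply_symm_apply, hE, AddEquiv.apply_symm_apply]) h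

end nat

/-! ## Module level statements -/

section mod

variable {R : Type u} [CommRing R]

/-- a finite module all of whose fibres at maximal ideals vanish is zero -/
lemma subsingleton_of_forall_maximal (M : Type u) [AddCommGroup M] [Module R M]
    [Module.Finite R M]
    (h : ∀ m : Ideal R, m.IsMaximal → Subsingleton ((R ⧸ m) ⊗[R] M)) : Subsingleton M := by
  by_contra hM
  rw [not_subsingleton_iff_nontrivial] at hM
  have hann : Module.annihilator R M ≠ ⊤ := by
    intro htop
    have h1 : (1 : R) ∈ Module.annihilator R M := htop ▸ Submodule.mem_top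
    obtain ⟨x, y, hxy⟩ := exists_pair_ne M
    apply hxy
    rw [← one_smul R x, ← one_smul R y, Module.mem_annihilator.mp h1 x,
      Module.mem_annihilator.mp h1 y]
  obtain ⟨m, hm, hle⟩ := Ideal.exists_le_maximal _ hann
  haveI := h m hm
  have htop : (⊤ : Submodule R M) ≤ m • ⊤ := by
    haveI : Subsingleton (M ⧸ (m • ⊤ : Submodule R M)) :=
      (TensorProduct.quotTensorEquivQuotSMul M m).symm.toEquiv.subsingleton
    intro x _
    exact (Submodule.Quotient.mk_eq_zero _).mp (Subsingleton.elim _ _)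
  obtain ⟨r, hr1, hr2⟩ := Submodule.exists_sub_one_mem_and_smul_eq_zero_of_fg_of_le_smul m ⊤
    Module.Finite.fg_top htop
  have hrm : r ∈ m := hle (Module.mem_annihilator.mpr (fun x => hr2 x Submodule.mem_top))
  exact hm.ne_top ((Ideal.eq_top_iff_one _).mpr (by simpa using m.sub_mem hrm hr1))

lemma surjective_of_forall_maximal {M N : Type u} [AddCommGroup M] [Module R M]
    [AddCommGroup N] [Module R N] [Module.Finite R N] (f : M →ₗ[R] N)
    (h : ∀ m : Ideal R, m.IsMaximal → Function.Surjective (f.lTensor (R ⧸ m))) :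
    Function.Surjective f := by
  haveI : Subsingleton (N ⧸ LinearMap.range f) := by
    refine subsingleton_of_forall_maximal (R := R) (N ⧸ LinearMap.range f) (fun m hm => ?_)
    have key : ∀ z : (R ⧸ m) ⊗[R] (N ⧸ LinearMap.range f), z = 0 := by
      intro z
      obtain ⟨y, rfl⟩ := LinearMap.lTensor_surjective (R ⧸ m)
        (Submodule.mkQ_surjective (LinearMap.range f)) z
      obtain ⟨x, rfl⟩ := h m hm y
      rw [← LinearMap.comp_apply, ← LinearMap.lTensor_comp, LinearMap.range_mkQ_comp,
        LinearMap.lTensor_zero, LinearMap.zero_apply]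
    exact ⟨fun z z' => by rw [key z, key z']⟩
  intro y
  have h1 : (LinearMap.range f).mkQ y = 0 := Subsingleton.elim _ _
  exact (Submodule.Quotient.mk_eq_zero _).mp h1

variable {M₀ M₁ M₂ : Type u} [AddCommGroup M₀] [Module R M₀] [AddCommGroup M₁] [Module R M₁]
  [AddCommGroup M₂] [Module R M₂]

/-- descending step: if `d₁` is von Neumann regular and the fibres are exact then the sequence is
exact and `d₀` is von Neumann regular -/
lemma regular_step (d₀ : M₀ →ₗ[R] M₁) (d₁ : M₁ →ₗ[R] M₂) (hd : d₁ ∘ₗ d₀ = 0)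
    [Module.Finite R M₁] [Module.Projective R M₁]
    (σ : M₂ →ₗ[R] M₁) (hσ : d₁ ∘ₗ σ ∘ₗ d₁ = d₁)
    (h : ∀ m : Ideal R, m.IsMaximal →
      Function.Exact (d₀.lTensor (R ⧸ m)) (d₁.lTensor (R ⧸ m))) :
    Function.Exact d₀ d₁ ∧ ∃ σ' : M₁ →ₗ[R] M₀, d₀ ∘ₗ σ' ∘ₗ d₀ = d₀ := by
  have hd' : ∀ x, d₁ (d₀ x) = 0 := fun x => LinearMap.congr_fun hd x
  have hσ' : ∀ y, d₁ (σ (d₁ y)) = d₁ y := fun y => LinearMap.congr_fun hσ y
  let p : M₁ →ₗ[R] M₁ := LinearMap.id - σ ∘ₗ d₁
  have hp : ∀ y, p y ∈ LinearMap.ker d₁ := by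
    intro y
    change d₁ (y - σ (d₁ y)) = 0
    rw [map_sub, hσ', sub_self]
  let pZ : M₁ →ₗ[R] LinearMap.ker d₁ := p.codRestrict (LinearMap.ker d₁) hp
  have hpZ : ∀ z : LinearMap.ker d₁, pZ z = z := by
    intro z
    apply Subtype.ext
    change (z : M₁) - σ (d₁ z) = z
    rw [LinearMap.mem_ker.mp z.2, map_zero, sub_zero]
  have hpZs : pZ ∘ₗ (LinearMap.ker d₁).subtype = LinearMap.id := LinearMap.ext hpZ
  haveI : Module.Projective R (LinearMap.ker d₁) :=
    Module.Projective.of_split (LinearMap.ker d₁).subtype pZ hpZs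
  haveI : Module.Finite R (LinearMap.ker d₁) :=
    Module.Finite.of_surjective pZ (fun z => ⟨z, hpZ z⟩)
  let d₀Z : M₀ →ₗ[R] LinearMap.ker d₁ := d₀.codRestrict (LinearMap.ker d₁) hd'
  have hpd : pZ ∘ₗ d₀ = d₀Z := by
    apply LinearMap.ext
    intro x
    apply Subtype.ext
    change d₀ x - σ (d₁ (d₀ x)) = d₀ x
    rw [hd', map_zero, sub_zero]
  have hsd : d₁ ∘ₗ (LinearMap.ker d₁).subtype = 0 := by
    apply LinearMap.ext
    intro z
    exact LinearMap.mem_ker.mp z.2
  have hsurj : Function.Surjective d₀Z := by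
    refine surjective_of_forall_maximal d₀Z (fun m hm z => ?_)
    have h1 : (d₁.lTensor (R ⧸ m)) (((LinearMap.ker d₁).subtype.lTensor (R ⧸ m)) z) = 0 := by
      rw [← LinearMap.comp_apply, ← LinearMap.lTensor_comp, hsd, LinearMap.lTensor_zero,
        LinearMap.zero_apply]
    obtain ⟨w, hw⟩ := (h m hm _).mp h1
    refine ⟨w, ?_⟩
    have e1 : (pZ.lTensor (R ⧸ m)) ((d₀.lTensor (R ⧸ m)) w) = (d₀Z.lTensor (R ⧸ m)) w := by
      rw [← LinearMap.comp_apply, ← LinearMap.lTensor_comp, hpd]
    have e2 : (pZ.lTensor (R ⧸ m)) (((LinearMap.ker d₁).subtype.lTensor (R ⧸ m)) z) = z := by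
      rw [← LinearMap.comp_apply, ← LinearMap.lTensor_comp, hpZs, LinearMap.lTensor_id,
        LinearMap.id_apply]
    rw [← e1, hw, e2]
  refine ⟨?_, ?_⟩
  · intro y
    constructor
    · intro hy
      obtain ⟨x, hx⟩ := hsurj ⟨y, hy⟩
      exact ⟨x, congrArg Subtype.val hx⟩
    · rintro ⟨x, rfl⟩
      exact hd' x
  · obtain ⟨τ, hτ⟩ := Module.projective_lifting_property d₀Z LinearMap.id hsurj
    refine ⟨τ ∘ₗ pZ, ?_⟩
    apply LinearMap.ext
    intro x
    have h1 : d₀Z (τ (pZ (d₀ x))) = pZ (d₀ x) := LinearMap.congr_fun hτ (pZ (d₀ x))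
    have h2 : pZ (d₀ x) = d₀Z x := LinearMap.congr_fun hpd x
    have h3 : d₀ (τ (pZ (d₀ x))) = ((d₀Z (τ (pZ (d₀ x))) : LinearMap.ker d₁) : M₁) := rfl
    change d₀ (τ (pZ (d₀ x))) = d₀ x
    rw [h3, h1, h2]
    rfl

end mod

/-! ## Localization at a maximal ideal -/

section loc

variable {R : Type u} [CommRing R] (m : Ideal R) [hm : m.IsMaximal]

/-- `R ⧸ m` is the residue field of `R_m` -/
noncomputable def quotEquivResidueField :
    (R ⧸ m) ≃ₗ[R] IsLocalRing.ResidueField (Localization.AtPrime m) :=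
  { (IsLocalization.AtPrime.equivQuotMaximalIdeal m (Localization.AtPrime m)).toAddEquiv with
    map_smul' := fun r x => by
      obtain ⟨x, rfl⟩ := Ideal.Quotient.mk_surjective x
      change (IsLocalization.AtPrime.equivQuotMaximalIdeal m (Localization.AtPrime m))
        (Ideal.Quotient.mk m (r • x)) = r • (IsLocalization.AtPrime.equivQuotMaximalIdeal m
          (Localization.AtPrime m)) (Ideal.Quotient.mk m x)
      rw [smul_eq_mul, IsLocalization.AtPrime.equivQuotMaximalIdeal_apply_mk,
        IsLocalization.AtPrime.equivQuotMaximalIdeal_apply_mk, map_mul, map_mul, Algebra.smul_def]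
      rfl }

/-- the fibre of the localization is the fibre -/
noncomputable def fibreEquiv (M : Type u) [AddCommGroup M] [Module R M] :
    (IsLocalRing.ResidueField (Localization.AtPrime m)) ⊗[Localization.AtPrime m]
      ((Localization.AtPrime m) ⊗[R] M) ≃+ (R ⧸ m) ⊗[R] M :=
  (AlgebraTensorModule.cancelBaseChange R (Localization.AtPrime m) (Localization.AtPrime m)
    (IsLocalRing.ResidueField (Localization.AtPrime m)) M).toAddEquiv.trans
    (TensorProduct.congr (quotEquivResidueField m).symm (LinearEquiv.refl R M)).toAddEquiv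

lemma fibreEquiv_naturality {M M' : Type u} [AddCommGroup M] [Module R M] [AddCommGroup M']
    [Module R M'] (f : M →ₗ[R] M')
    (z : (IsLocalRing.ResidueField (Localization.AtPrime m)) ⊗[Localization.AtPrime m]
      ((Localization.AtPrime m) ⊗[R] M)) :
    fibreEquiv m M' (((f.baseChange (Localization.AtPrime m)).lTensor
      (IsLocalRing.ResidueField (Localization.AtPrime m))) z) =
      (f.lTensor (R ⧸ m)) (fibreEquiv m M z) := by
  change (TensorProduct.congr (quotEquivResidueField m).symm (LinearEquiv.refl R M'))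
    (AlgebraTensorModule.cancelBaseChange R (Localization.AtPrime m) (Localization.AtPrime m)
      (IsLocalRing.ResidueField (Localization.AtPrime m)) M'
      (((f.baseChange (Localization.AtPrime m)).lTensor
        (IsLocalRing.ResidueField (Localization.AtPrime m))) z)) = _
  rw [cancelBaseChange_naturality, congr_lTensor_naturality]
  rfl

end loc

lemma isLocalizedModule_map_mk {R : Type u} [CommRing R] (p : Submonoid R) (S : Type u)
    [CommRing S] [Algebra R S] [IsLocalization p S]
    {M N : Type u} [AddCommGroup M] [Module R M] [AddCommGroup N] [Module R N] (F : M →ₗ[R] N) :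
    IsLocalizedModule.map p (TensorProduct.mk R S M 1) (TensorProduct.mk R S N 1) F =
      (F.baseChange S).restrictScalars R := by
  apply IsLocalizedModule.linearMap_ext p (TensorProduct.mk R S M 1) (TensorProduct.mk R S N 1)
  rw [IsLocalizedModule.map_comp]
  ext x
  simp

section mod2

variable {R : Type u} [CommRing R] {M₀ M₁ M₂ : Type u} [AddCommGroup M₀] [Module R M₀]
  [AddCommGroup M₁] [Module R M₁] [AddCommGroup M₂] [Module R M₂]

/-- non-local Nakayama: if `M₀ → M₁ → M₂` (finite modules, `M₂` free) becomes exact after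
tensoring with `R ⧸ m` for every maximal ideal `m`, then it is exact and the cokernel of
`M₁ → M₂` is flat -/
theorem exact_and_flat_of_fibres (d₀ : M₀ →ₗ[R] M₁) (d₁ : M₁ →ₗ[R] M₂) (hd : d₁ ∘ₗ d₀ = 0)
    [Module.Finite R M₁] [Module.Finite R M₂] [Module.Free R M₂]
    (h : ∀ m : Ideal R, m.IsMaximal →
      Function.Exact (d₀.lTensor (R ⧸ m)) (d₁.lTensor (R ⧸ m))) :
    Function.Exact d₀ d₁ ∧ Module.Flat R (M₂ ⧸ LinearMap.range d₁) := by
  have loc : ∀ (m : Ideal R) [m.IsMaximal],
      Function.Exact (d₀.baseChange (Localization.AtPrime m))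
        (d₁.baseChange (Localization.AtPrime m)) ∧
      Module.Projective (Localization.AtPrime m) ((Localization.AtPrime m ⊗[R] M₂) ⧸
        LinearMap.range (d₁.baseChange (Localization.AtPrime m))) := by
    intro m hm
    refine exact_and_projective_of_residue_exact (d₀.baseChange (Localization.AtPrime m))
      (d₁.baseChange (Localization.AtPrime m)) ?_ ?_
    · rw [← LinearMap.baseChange_comp, hd, LinearMap.baseChange_zero]
    · exact exact_of_ladder' (fibreEquiv m M₀) (fibreEquiv m M₁) (fibreEquiv m M₂)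
        (fibreEquiv_naturality m d₀) (fibreEquiv_naturality m d₁) (h m hm)
  constructor
  · refine exact_of_isLocalized_maximal
      (fun P _ => Localization.AtPrime P ⊗[R] M₀)
      (fun P _ => TensorProduct.mk R (Localization.AtPrime P) M₀ 1)
      (fun P _ => Localization.AtPrime P ⊗[R] M₁)
      (fun P _ => TensorProduct.mk R (Localization.AtPrime P) M₁ 1)
      (fun P _ => Localization.AtPrime P ⊗[R] M₂)
      (fun P _ => TensorProduct.mk R (Localization.AtPrime P) M₂ 1) d₀ d₁ (fun J hJ => ?_)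
    rw [isLocalizedModule_map_mk, isLocalizedModule_map_mk]
    exact (loc J).1
  · refine Module.flat_of_isLocalized_maximal R (M₂ ⧸ LinearMap.range d₁)
      (fun P _ => Localization.AtPrime P ⊗[R] (M₂ ⧸ LinearMap.range d₁))
      (fun P _ => TensorProduct.mk R (Localization.AtPrime P) (M₂ ⧸ LinearMap.range d₁) 1)
      (fun P hP => ?_)
    haveI := (loc P).2
    haveI : Module.Flat (Localization.AtPrime P)
        (Localization.AtPrime P ⊗[R] (M₂ ⧸ LinearMap.range d₁)) :=
      Module.Flat.of_linearEquiv (cokBaseChangeEquiv (B := Localization.AtPrime P) d₁).symm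
    exact Module.Flat.trans R (Localization.AtPrime P) _

end mod2

/-! ## Complexes -/

section cx

variable {R : Type u} [CommRing R]

/-- `F.d i j` is von Neumann regular -/
def RegD (F : DRing.Cx R) (i j : ℤ) : Prop :=
  ∃ σ : F.X j →ₗ[R] F.X i, (F.d i j).hom ∘ₗ σ ∘ₗ (F.d i j).hom = (F.d i j).hom

lemma d_comp_d_hom (F : DRing.Cx R) (i j k : ℤ) : (F.d j k).hom ∘ₗ (F.d i j).hom = 0 := by
  rw [← ModuleCat.hom_comp, F.d_comp_d]; rfl

/-- a bounded above complex of finite projective modules whose fibres at maximal ideals are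
exact above `b` is exact above `b` -/
lemma exact_above_of_fibres (F : DRing.Cx R) (c b : ℤ) (hFc : DRing.VanishesAbove F c)
    (hFfp : ∀ i, Module.Finite R (F.X i) ∧ Module.Projective R (F.X i))
    (h : ∀ m : Ideal R, m.IsMaximal → ∀ i j k : ℤ, i + 1 = j → j + 1 = k → b < j →
      Function.Exact ((F.d i j).hom.lTensor (R ⧸ m)) ((F.d j k).hom.lTensor (R ⧸ m)))
    (i j k : ℤ) (hij : i + 1 = j) (hjk : j + 1 = k) (hj : b < j) :
    Function.Exact (F.d i j).hom (F.d j k).hom := by
  have key : ∀ n : ℕ, ∀ i j : ℤ, i + 1 = j → i + n = c → b ≤ i → RegD F i j := by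
    intro n
    induction n with
    | zero =>
      intro i j hij hic _
      have hz : IsZero (F.X j) := hFc j (by omega)
      have h0 : (F.d i j).hom = 0 := by
        rw [hz.eq_of_tgt (F.d i j) 0]; rfl
      exact ⟨0, by rw [h0]; simp⟩
    | succ n ih =>
      intro i j hij hic hbi
      obtain ⟨σ, hσ⟩ := ih j (j + 1) rfl (by push_cast at hic; omega) (by omega)
      haveI := (hFfp j).1
      haveI := (hFfp j).2
      exact (regular_step (F.d i j).hom (F.d j (j + 1)).hom (d_comp_d_hom F i j (j + 1)) σ hσ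
        (fun m hm => h m hm i j (j + 1) hij rfl (by omega))).2
  by_cases hjc : j ≤ c
  · obtain ⟨σ, hσ⟩ := key (c - j).toNat j k hjk (by omega) (by omega)
    haveI := (hFfp j).1
    haveI := (hFfp j).2
    exact (regular_step (F.d i j).hom (F.d j k).hom (d_comp_d_hom F i j k) σ hσ
      (fun m hm => h m hm i j k hij hjk hj)).1
  · have hz : IsZero (F.X j) := hFc j (by omega)
    haveI : Subsingleton (F.X j) := ModuleCat.subsingleton_of_isZero hz
    intro y
    constructor
    · intro _
      exact ⟨0, Subsingleton.elim _ _⟩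
    · intro _
      rw [Subsingleton.elim y 0, map_zero]

/-- tor amplitude from the vanishing of the fibres at all maximal ideals -/
theorem hasTorAmplitudeIn_of_fibres (F : DRing.Cx R) (c : ℤ) (hFc : DRing.VanishesAbove F c)
    (hFff : DRing.TermwiseFiniteFree F) (a b : ℤ)
    (h : ∀ m : Ideal R, m.IsMaximal → ∀ i j k : ℤ, i + 1 = j → j + 1 = k → (j < a ∨ b < j) →
      Function.Exact ((F.d i j).hom.lTensor (R ⧸ m)) ((F.d j k).hom.lTensor (R ⧸ m))) :
    DRing.HasTorAmplitudeIn R a b (DRing.toD F) := by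
  have hFflat : DRing.TermwiseFlat F := fun i => by haveI := (hFff i).2; infer_instance
  have hhigh : ∀ i, b < i → IsZero ((H R i).obj (DRing.toD F)) := by
    intro i hi
    rw [isZero_H_toD_iff F (i - 1) i (i + 1) (by omega) rfl]
    exact exact_above_of_fibres F c b hFc
      (fun j => ⟨(hFff j).1, by haveI := (hFff j).2; exact Module.Projective.of_free⟩)
      (fun m hm i j k hij hjk hj => h m hm i j k hij hjk (Or.inr hj)) (i - 1) i (i + 1)
      (by omega) rfl hi
  have key : ∀ i j k : ℤ, i + 1 = j → j + 1 = k → j < a →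
      Function.Exact (F.d i j).hom (F.d j k).hom ∧ Module.Flat R (cok F j k) := by
    intro i j k hij hjk hj
    haveI := (hFff j).1
    haveI := (hFff k).1
    haveI := (hFff k).2
    exact exact_and_flat_of_fibres (F.d i j).hom (F.d j k).hom (d_comp_d_hom F i j k)
      (fun m hm => h m hm i j k hij hjk (Or.inl hj))
  have hlow : ∀ i, i < a → IsZero ((H R i).obj (DRing.toD F)) := by
    intro i hi
    rw [isZero_H_toD_iff F (i - 1) i (i + 1) (by omega) rfl]
    exact (key (i - 1) i (i + 1) (by omega) rfl hi).1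
  exact hasTorAmplitudeIn_of_flat_cok F c a b (a - 1) (by omega) hFc hFflat hlow hhigh
    (key (a - 1 - 1) (a - 1) a (by omega) (by omega) (by omega)).2

end cx

/-! ## Tensoring a complex of tor amplitude `[a, b]` -/

theorem TensorLike.isZero_H_of_hasTorAmplitudeIn {A B : Type u} [CommRing A] [CommRing B]
    {Φ : ModuleCat.{u} A ⥤ ModuleCat.{u} B} {N : Type u} [AddCommGroup N] [Module A N]
    (t : TensorLike Φ N) [Φ.Additive] (G : DRing.Cx A) (c : ℤ) (hGc : DRing.VanishesAbove G c)
    (hGproj : ∀ i, Module.Projective A (G.X i)) (a b : ℤ)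
    (hTA : DRing.HasTorAmplitudeIn A a b (DRing.toD G)) (j : ℤ) (hj : j < a ∨ b < j) :
    IsZero ((H B j).obj (DRing.toD ((Φ.mapHomologicalComplex (ComplexShape.up ℤ)).obj G))) := by
  obtain ⟨E, hE, hEf, ⟨e⟩⟩ := hTA
  haveI : G.IsKProjective := isKProjective_of_vanishesAbove G c hGc hGproj
  have hGflat : DRing.TermwiseFlat G := fun i => by haveI := hGproj i; infer_instance
  obtain ⟨f, hf⟩ := exists_map_eq G E e.inv
  have hiso : IsIso (DerivedCategory.Q.map f) := by rw [hf]; infer_instance
  haveI := t.isIso_Q_map G E f (max c b) (VanishesAbove.mono hGc (by omega))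
    (VanishesAbove.mono (VanishesOutside.above hE) (le_max_right c b)) hGflat hEf hiso
  have hz : IsZero ((H B j).obj (DRing.toD
      ((Φ.mapHomologicalComplex (ComplexShape.up ℤ)).obj E))) := by
    rw [isZero_H_toD_iff_exactAt]
    exact HomologicalComplex.ExactAt.of_isZero (vanishesOutside_mapHC Φ E a b hE j hj)
  exact hz.of_iso ((H B j).mapIso (asIso (DerivedCategory.Q.map
    ((Φ.mapHomologicalComplex (ComplexShape.up ℤ)).map f))))

/-! ## The statements -/

/-- S6974 -/
theorem isPerfect_of_fibres_vanishing (R : Type u) [CommRing R]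
    [∀ m : Ideal R, DRing.HasLBaseChange (Ideal.Quotient.mk m)] (K : Dual.D R)
    (hK : DRing.IsPseudoCoherent' R K) (a b : ℤ)
    (h : ∀ (m : Ideal R), m.IsMaximal → ∀ i : ℤ, (i < a ∨ b < i) →
      Subsingleton (Dual.HD (R ⧸ m) ((DRing.LBaseChange (Ideal.Quotient.mk m)).obj K) i)) :
    DRing.IsPerfect R K ∧ DRing.HasTorAmplitudeIn R a b K := by
  have hTA : DRing.HasTorAmplitudeIn R a b K := by
    obtain ⟨F, c, hFc, hFff, ⟨e⟩⟩ := hK
    have hFproj : ∀ i, Module.Projective R (F.X i) := fun i => by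
      haveI := (hFff i).2; exact Module.Projective.of_free
    haveI : F.IsKProjective := isKProjective_of_vanishesAbove F c hFc hFproj
    refine hasTorAmplitudeIn_of_iso e (hasTorAmplitudeIn_of_fibres F c hFc hFff a b ?_)
    intro m hm i j k hij hjk hj
    rw [← (tensorLike_extM (A := R) (B := R ⧸ m)).exact_iff]
    let eB : (DRing.LBaseChange (Ideal.Quotient.mk m)).obj K ≅
        DRing.toD (((extM (A := R) (B := R ⧸ m)).mapHomologicalComplex
          (ComplexShape.up ℤ)).obj F) :=
      (DRing.LBaseChange _).mapIso e.symm ≪≫ LBaseChangeIso (Ideal.Quotient.mk m) F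
    have h1 : IsZero ((H (R ⧸ m) j).obj (DRing.toD
        (((extM (A := R) (B := R ⧸ m)).mapHomologicalComplex (ComplexShape.up ℤ)).obj F))) :=
      (isZero_H_of_subsingleton _ j (h m hm j hj)).of_iso ((H _ j).mapIso eB.symm)
    exact (isZero_H_toD_iff _ i j k hij hjk).mp h1
  exact ⟨(isPerfect_iff_pc_and_finiteTorDim K).mpr ⟨hK, a, b, hTA⟩, hTA⟩

/-- S15232 (the noetherian hypothesis is not needed) -/
theorem hasTorAmplitudeIn_of_LBaseChange_quotient_le_jacobson (R : Type u) [CommRing R]
    (I : Ideal R) (hI : I ≤ Ideal.jacobson (⊥ : Ideal R))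
    [DRing.HasLBaseChange (Ideal.Quotient.mk I)]
    (P : Dual.D R) (hP : DRing.IsPseudoCoherent' R P) (a b : ℤ)
    (h : DRing.HasTorAmplitudeIn (R ⧸ I) a b ((DRing.LBaseChange (Ideal.Quotient.mk I)).obj P)) :
    DRing.HasTorAmplitudeIn R a b P := by
  obtain ⟨F, c, hFc, hFff, ⟨e⟩⟩ := hP
  have hFproj : ∀ i, Module.Projective R (F.X i) := fun i => by
    haveI := (hFff i).2; exact Module.Projective.of_free
  haveI : F.IsKProjective := isKProjective_of_vanishesAbove F c hFc hFproj
  have hF' : DRing.HasTorAmplitudeIn (R ⧸ I) a b (DRing.toD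
      (((extM (A := R) (B := R ⧸ I)).mapHomologicalComplex (ComplexShape.up ℤ)).obj F)) :=
    hasTorAmplitudeIn_of_iso ((DRing.LBaseChange _).mapIso e.symm ≪≫
      LBaseChangeIso (Ideal.Quotient.mk I) F) h
  refine hasTorAmplitudeIn_of_iso e (hasTorAmplitudeIn_of_fibres F c hFc hFff a b ?_)
  intro m hm i j k hij hjk hj
  have hIm : I ≤ m := hI.trans (sInf_le ⟨bot_le, hm⟩)
  letI : Algebra (R ⧸ I) (R ⧸ m) := (Ideal.Quotient.factor hIm).toAlgebra
  haveI : IsScalarTower R (R ⧸ I) (R ⧸ m) := IsScalarTower.of_algebraMap_eq (fun r => rfl)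
  apply lTensor_exact_of_extM (S := R ⧸ I) (R ⧸ m)
  rw [← (tensorLike_tensorRight (ModuleCat.of (R ⧸ I) (R ⧸ m))).exact_iff]
  have h1 := (tensorLike_tensorRight (ModuleCat.of (R ⧸ I) (R ⧸ m))).isZero_H_of_hasTorAmplitudeIn
    (((extM (A := R) (B := R ⧸ I)).mapHomologicalComplex (ComplexShape.up ℤ)).obj F) c
    (vanishesAbove_mapHC extM F c hFc)
    (fun j => by haveI := hFproj j; exact projective_extM (B := R ⧸ I) (F.X j)) a b hF' j hj
  exact (isZero_H_toD_iff _ i j k hij hjk).mp h1

end Groth.Agent.Lib.Helper18.DR
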