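import Mathlib
import Groth.Agent.Lib.Helper18.DRPCRestr

/-!
# `R` is a pseudo-coherent `R[X]`-module via `X ↦ 0` (helper18)
-/

set_option autoImplicit false
set_option linter.style.haveILetI false
universe u
open CategoryTheory CategoryTheory.Limits CategoryTheory.Pretriangulated DerivedCategory Polynomial

attribute [local instance] HasDerivedCategory.standard

namespace Groth.Agent.Lib.Helper18.DR

variable (R : Type u) [CommRing R]

/-- evaluation at `0` as an `R[X]`-linear map to `R` regarded as an `R[X]`-module -/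
noncomputable def ev0Lin :
    R[X] →ₗ[R[X]] resM (Polynomial.evalRingHom (0 : R)) (ModuleCat.of R R) where
  toFun p := ((Polynomial.evalRingHom (0 : R)) p : R)
  map_add' p q := map_add (Polynomial.evalRingHom (0 : R)) p q
  map_smul' q p := (map_mul (Polynomial.evalRingHom (0 : R)) q p).trans rfl

lemma ev0Lin_apply (p : R[X]) : ev0Lin R p = p.eval 0 := rfl

/-- `0 → R[X] → R[X] → R → 0` -/
noncomputable def ev0SC : ShortComplex (ModuleCat.{u} R[X]) :=
  ShortComplex.mk (ModuleCat.ofHom (LinearMap.mulLeft R[X] (X : R[X])))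
    (ModuleCat.ofHom (ev0Lin R)) (by
      ext
      have : (X * (1 : R[X])).eval 0 = 0 := by simp
      exact this)

lemma ev0SC_g_apply (p : R[X]) : (ev0SC R).g p = p.eval 0 := rfl
lemma ev0SC_f_apply (p : R[X]) : (ev0SC R).f p = X * p := rfl

lemma ev0SC_shortExact : (ev0SC R).ShortExact := by
  apply ModuleCat.shortComplex_shortExact
  · intro (p : R[X])
    constructor
    · intro hp
      rw [ev0SC_g_apply] at hp
      have h1 : (X : R[X]) ∣ p := by
        rw [Polynomial.X_dvd_iff, Polynomial.coeff_zero_eq_eval_zero]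
        exact hp
      obtain ⟨q, rfl⟩ := h1
      exact ⟨q, rfl⟩
    · rintro ⟨(q : R[X]), rfl⟩
      rw [ev0SC_f_apply, ev0SC_g_apply]
      have : (X * (q : R[X])).eval 0 = 0 := by simp
      exact this
  · intro (p : R[X]) (q : R[X]) h
    rw [ev0SC_f_apply, ev0SC_f_apply] at h
    apply Polynomial.ext
    intro n
    have h' : (X : R[X]) * p = X * q := h
    have := congrArg (fun f : R[X] => Polynomial.coeff f (n + 1)) h'
    beta_reduce at this
    rw [Polynomial.coeff_X_mul, Polynomial.coeff_X_mul] at this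
    exact this
  · intro (r : R)
    refine ⟨Polynomial.C r, ?_⟩
    rw [ev0SC_g_apply]
    exact Polynomial.eval_C (R := R)

lemma isPseudoCoherent_ev0 (m : ℤ) :
    DRing.IsPseudoCoherent R[X] m
      (Sg 0 (resM (Polynomial.evalRingHom (0 : R)) (ModuleCat.of R R))) := by
  have hT := (ev0SC_shortExact R).singleTriangle_distinguished
  haveI : Module.Finite R[X] (ModuleCat.of R[X] R[X]) := inferInstanceAs (Module.Finite R[X] R[X])
  haveI : Module.Free R[X] (ModuleCat.of R[X] R[X]) := inferInstanceAs (Module.Free R[X] R[X])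
  exact isPseudoCoherent_obj₃ _ hT m (isPseudoCoherent_Sg 0 (ModuleCat.of R[X] R[X]) (m + 1))
    (isPseudoCoherent_Sg 0 (ModuleCat.of R[X] R[X]) m)

theorem isPseudoCoherent_ev0_iff (K : Dual.D R) (m : ℤ) :
    DRing.IsPseudoCoherent R m K ↔ DRing.IsPseudoCoherent R[X] m
      ((DRing.restrictD (Polynomial.evalRingHom (0 : R))).obj K) :=
  (isPseudoCoherent_restrictD_iff (Polynomial.evalRingHom (0 : R)) (isPseudoCoherent_ev0 R) m K).1

end Groth.Agent.Lib.Helper18.DR
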