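import Mathlib
import Groth.Agent.Lib.Helper18.DRPCRestr2

/-!
# Ring maps making the target a pseudo-coherent module; composition (helper18)
-/

set_option autoImplicit false
set_option linter.style.haveILetI false
universe u
open CategoryTheory CategoryTheory.Limits CategoryTheory.Pretriangulated DerivedCategory

attribute [local instance] HasDerivedCategory.standard

namespace Groth.Agent.Lib.Helper18.DR

section comp

variable {P Q S : Type u} [CommRing P] [CommRing Q] [CommRing S] (π : P →+* Q) (ψ : Q →+* S)

/-- restriction along a composite, objectwise -/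
noncomputable def restrictDCompIso (K : Dual.D S) :
    (DRing.restrictD (ψ.comp π)).obj K ≅ (DRing.restrictD π).obj ((DRing.restrictD ψ).obj K) :=
  let X := DerivedCategory.Q.objPreimage K
  let e : DerivedCategory.Q.obj X ≅ K := DerivedCategory.Q.objObjPreimageIso K
  (DRing.restrictD (ψ.comp π)).mapIso e.symm ≪≫
    (ModuleCat.restrictScalars.{u} (ψ.comp π)).mapDerivedCategoryFactors.app X ≪≫
    DerivedCategory.Q.mapIso ((Functor.mapHomologicalComplexCompIso
      (ModuleCat.restrictScalarsComp.{u} π ψ).symm (ComplexShape.up ℤ)).symm.app X) ≪≫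
    ((ModuleCat.restrictScalars.{u} π).mapDerivedCategoryFactors.app _).symm ≪≫
    (DRing.restrictD π).mapIso
      ((ModuleCat.restrictScalars.{u} ψ).mapDerivedCategoryFactors.app X).symm ≪≫
    (DRing.restrictD π).mapIso ((DRing.restrictD ψ).mapIso e)

end comp

/-- the ring map `π : P → Q` makes `Q` a pseudo-coherent `P`-module -/
def PCHom {P Q : Type u} [CommRing P] [CommRing Q] (π : P →+* Q) : Prop :=
  ∀ m : ℤ, DRing.IsPseudoCoherent P m (Sg 0 (resM π (ModuleCat.of Q Q)))

section

variable {P Q S : Type u} [CommRing P] [CommRing Q] [CommRing S]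

/-- Lemma C -/
theorem PCHom.isPseudoCoherent_iff {π : P →+* Q} (hπ : PCHom π) (ψ : Q →+* S) (K : Dual.D S)
    (m : ℤ) :
    DRing.IsPseudoCoherent Q m ((DRing.restrictD ψ).obj K) ↔
      DRing.IsPseudoCoherent P m ((DRing.restrictD (ψ.comp π)).obj K) := by
  rw [(isPseudoCoherent_restrictD_iff π hπ m ((DRing.restrictD ψ).obj K)).1]
  exact ⟨fun h => isPseudoCoherent_of_iso (restrictDCompIso π ψ K).symm h,
    fun h => isPseudoCoherent_of_iso (restrictDCompIso π ψ K) h⟩

/-- ring isomorphisms -/
theorem PCHom.of_ringEquiv (e : P ≃+* Q) : PCHom (e : P →+* Q) := by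
  intro m
  let l : P ≃ₗ[P] resM (e : P →+* Q) (ModuleCat.of Q Q) :=
    { toFun := fun p => (e p : Q)
      invFun := fun q => e.symm q
      map_add' := fun p q => map_add e p q
      map_smul' := fun p q => (map_mul e p q).trans rfl
      left_inv := fun p => e.symm_apply_apply p
      right_inv := fun q => e.apply_symm_apply q }
  haveI : Module.Finite P (ModuleCat.of P P) := inferInstanceAs (Module.Finite P P)
  haveI : Module.Free P (ModuleCat.of P P) := inferInstanceAs (Module.Free P P)
  exact isPseudoCoherent_of_iso ((singleFunctor (ModuleCat.{u} P) 0).mapIso l.toModuleIso)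
    (isPseudoCoherent_Sg 0 (ModuleCat.of P P) m)

/-- composition -/
theorem PCHom.comp {π : P →+* Q} (hπ : PCHom π) {ψ : Q →+* S} (hψ : PCHom ψ) :
    PCHom (ψ.comp π) := by
  intro m
  have h1 := isPseudoCoherent_restrictD π hπ m _ (hψ m)
  have e1 := ((ModuleCat.restrictScalars.{u} π).mapDerivedCategorySingleFunctor 0).app
    (resM ψ (ModuleCat.of S S))
  have h2 : DRing.IsPseudoCoherent P m (Sg 0 (resM π (resM ψ (ModuleCat.of S S)))) :=
    isPseudoCoherent_of_iso e1 h1
  have e2 : resM (ψ.comp π) (ModuleCat.of S S) ≅ resM π (resM ψ (ModuleCat.of S S)) :=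
    ModuleCat.restrictScalarsComp'App π ψ _ rfl _
  exact isPseudoCoherent_of_iso ((singleFunctor (ModuleCat.{u} P) 0).mapIso e2.symm) h2

end

end Groth.Agent.Lib.Helper18.DR
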