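import Mathlib
import Groth.Agent.Lib.Helper18.DRRel1

/-!
# Evaluation maps on polynomial rings are pseudo-coherent; independence of presentation (helper18)
-/

set_option autoImplicit false
set_option linter.style.haveILetI false
universe u
open CategoryTheory CategoryTheory.Limits CategoryTheory.Pretriangulated DerivedCategory

attribute [local instance] HasDerivedCategory.standard

namespace Groth.Agent.Lib.Helper18.DR

section ev

open Polynomial

variable (R : Type u) [CommRing R] (c : R)

/-- evaluation at `c` as an `R[X]`-linear map to `R` regarded as an `R[X]`-module -/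
noncomputable def evLin :
    R[X] →ₗ[R[X]] resM (Polynomial.evalRingHom c) (ModuleCat.of R R) where
  toFun p := ((Polynomial.evalRingHom c) p : R)
  map_add' p q := map_add (Polynomial.evalRingHom c) p q
  map_smul' q p := (map_mul (Polynomial.evalRingHom c) q p).trans rfl

/-- `0 → R[X] → R[X] → R → 0` with the first map multiplication by `X - c` -/
noncomputable def evSC : ShortComplex (ModuleCat.{u} R[X]) :=
  ShortComplex.mk (ModuleCat.ofHom (LinearMap.mulLeft R[X] (X - C c : R[X])))
    (ModuleCat.ofHom (evLin R c)) (by
      ext
      have : ((X - C c) * (1 : R[X])).eval c = 0 := by simp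
      exact this)

lemma evSC_g_apply (p : R[X]) : (evSC R c).g p = p.eval c := rfl
lemma evSC_f_apply (p : R[X]) : (evSC R c).f p = (X - C c) * p := rfl

lemma evSC_shortExact : (evSC R c).ShortExact := by
  apply ModuleCat.shortComplex_shortExact
  · intro (p : R[X])
    constructor
    · intro hp
      rw [evSC_g_apply] at hp
      have h1 : (X - C c : R[X]) ∣ p := by
        rw [Polynomial.dvd_iff_isRoot, Polynomial.IsRoot.def]
        exact hp
      obtain ⟨q, rfl⟩ := h1
      exact ⟨q, rfl⟩
    · rintro ⟨(q : R[X]), rfl⟩
      rw [evSC_f_apply, evSC_g_apply]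
      have : ((X - C c) * (q : R[X])).eval c = 0 := by simp
      exact this
  · intro (p : R[X]) (q : R[X]) h
    have h' : (X - C c : R[X]) * p = (X - C c) * q := h
    exact (Polynomial.monic_X_sub_C c).isRegular.left h'
  · intro (r : R)
    refine ⟨Polynomial.C r, ?_⟩
    rw [evSC_g_apply]
    exact Polynomial.eval_C (R := R)

theorem PCHom.evalRingHom : PCHom (Polynomial.evalRingHom c) := by
  intro m
  have hT := (evSC_shortExact R c).singleTriangle_distinguished
  haveI : Module.Finite R[X] (ModuleCat.of R[X] R[X]) := inferInstanceAs (Module.Finite R[X] R[X])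
  haveI : Module.Free R[X] (ModuleCat.of R[X] R[X]) := inferInstanceAs (Module.Free R[X] R[X])
  exact isPseudoCoherent_obj₃ _ hT m (isPseudoCoherent_Sg 0 (ModuleCat.of R[X] R[X]) (m + 1))
    (isPseudoCoherent_Sg 0 (ModuleCat.of R[X] R[X]) m)

end ev

section mv

open MvPolynomial

/-- every retraction `S[y₁, …, y_k] → S` of the inclusion makes `S` pseudo-coherent -/
theorem PCHom.of_eval {S : Type u} [CommRing S] : ∀ (k : ℕ) (π : MvPolynomial (Fin k) S →+* S),
    π.comp MvPolynomial.C = RingHom.id S → PCHom π := by
  intro k
  induction k with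
  | zero =>
    intro π hπ
    have h : π = ((MvPolynomial.isEmptyRingEquiv S (Fin 0) : MvPolynomial (Fin 0) S ≃+* S) :
        MvPolynomial (Fin 0) S →+* S) := by
      apply MvPolynomial.ringHom_ext
      · intro r
        have h1 := RingHom.congr_fun hπ r
        simp only [RingHom.comp_apply, RingHom.id_apply] at h1
        rw [h1]
        have h2 : (MvPolynomial.isEmptyRingEquiv S (Fin 0)) (C r) = r := by
          rw [← MvPolynomial.isEmptyRingEquiv_symm_apply (R := S) (Fin 0) r]
          exact RingEquiv.apply_symm_apply _ _
        exact h2.symm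
      · intro i
        exact i.elim0
    rw [h]
    exact PCHom.of_ringEquiv _
  | succ k ih =>
    intro π hπ
    have hπC : ∀ s, π (C s) = s := fun s => RingHom.congr_fun hπ s
    let e : MvPolynomial (Fin (k + 1)) S ≃+* Polynomial (MvPolynomial (Fin k) S) :=
      (MvPolynomial.finSuccEquiv S k).toRingEquiv
    have he : ∀ p, e p = MvPolynomial.finSuccEquiv S k p := fun p => rfl
    let c : S := π (X 0)
    let π' : MvPolynomial (Fin k) S →+* S :=
      π.comp ((e.symm : _ →+* MvPolynomial (Fin (k + 1)) S).comp Polynomial.C)
    have hπ'C : ∀ s, π' (C s) = s := by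
      intro s
      have h1 : e (C s) = Polynomial.C (C s) := by
        rw [he, MvPolynomial.finSuccEquiv_apply, MvPolynomial.eval₂Hom_C]
        rfl
      have h2 : e.symm (Polynomial.C (C s)) = C s := by rw [← h1, e.symm_apply_apply]
      change π (e.symm (Polynomial.C (C s))) = s
      rw [h2, hπC]
    have hπ'X : ∀ j : Fin k, π' (X j) = π (X j.succ) := by
      intro j
      have h1 : e (X j.succ) = Polynomial.C (X j) := by
        rw [he, MvPolynomial.finSuccEquiv_X_succ]
      have h2 : e.symm (Polynomial.C (X j)) = X j.succ := by rw [← h1, e.symm_apply_apply]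
      change π (e.symm (Polynomial.C (X j))) = _
      rw [h2]
    have hfact : π = (π'.comp (Polynomial.evalRingHom (C c))).comp (e : _ →+* _) := by
      apply MvPolynomial.ringHom_ext
      · intro s
        have h1 : e (C s) = Polynomial.C (C s) := by
          rw [he, MvPolynomial.finSuccEquiv_apply, MvPolynomial.eval₂Hom_C]
          rfl
        change π (C s) = π' (Polynomial.eval (C c) (e (C s)))
        rw [h1, Polynomial.eval_C, hπ'C, hπC]
      · intro i
        change π (X i) = π' (Polynomial.eval (C c) (e (X i)))
        refine Fin.cases ?_ (fun j => ?_) i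
        · have h1 : e (X 0) = Polynomial.X := by
            rw [he, MvPolynomial.finSuccEquiv_X_zero]
          rw [h1, Polynomial.eval_X, hπ'C]
        · have h1 : e (X j.succ) = Polynomial.C (X j) := by
            rw [he, MvPolynomial.finSuccEquiv_X_succ]
          rw [h1, Polynomial.eval_C, hπ'X]
    rw [hfact]
    refine PCHom.comp (PCHom.of_ringEquiv e) (PCHom.comp (PCHom.evalRingHom _ (C c)) (ih π' ?_))
    ext s
    exact hπ'C s

/-- Lemma D: adding polynomial variables does not change pseudo-coherence of restrictions -/
theorem isPseudoCoherent_restrictD_iff_of_extends {S A : Type u} [CommRing S] [CommRing A]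
    (α : S →+* A) (hα : Function.Surjective α) (k : ℕ) (γ : MvPolynomial (Fin k) S →+* A)
    (hγ : γ.comp MvPolynomial.C = α) (K : Dual.D A) (m : ℤ) :
    DRing.IsPseudoCoherent S m ((DRing.restrictD α).obj K) ↔
      DRing.IsPseudoCoherent (MvPolynomial (Fin k) S) m ((DRing.restrictD γ).obj K) := by
  choose f hf using fun j : Fin k => hα (γ (X j))
  let π : MvPolynomial (Fin k) S →+* S := MvPolynomial.eval₂Hom (RingHom.id S) f
  have hπ : π.comp MvPolynomial.C = RingHom.id S := by
    ext s
    simp [π]
  have hcomp : α.comp π = γ := by
    apply MvPolynomial.ringHom_ext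
    · intro s
      have := RingHom.congr_fun hγ s
      simp only [RingHom.comp_apply] at this
      simp [π, this]
    · intro j
      simp [π, hf j]
  have := (PCHom.of_eval k π hπ).isPseudoCoherent_iff α K m
  rw [hcomp] at this
  exact this

end mv

end Groth.Agent.Lib.Helper18.DR
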