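import Mathlib
import Groth.Prelude.Def_DerCA
import Groth.Agent.Lib.Helper18.DRRel2

/-!
# Relative pseudo-coherence is independent of the presentation (helper18)
-/

set_option autoImplicit false
set_option linter.style.haveILetI false
universe u
open CategoryTheory CategoryTheory.Limits CategoryTheory.Pretriangulated DerivedCategory
open MvPolynomial

attribute [local instance] HasDerivedCategory.standard

namespace Groth.Agent.Lib.Helper18.DR

variable {R A : Type u} [CommRing R] [CommRing A] [Algebra R A]

/-- Stacks 0677 -/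
theorem relPC_via_iff {n k : ℕ}
    (α : MvPolynomial (Fin n) R →ₐ[R] A) (hα : Function.Surjective α)
    (β : MvPolynomial (Fin k) R →ₐ[R] A) (hβ : Function.Surjective β) (K : Dual.D A) (m : ℤ) :
    DerCA.IsRelPseudoCoherentVia α m K ↔ DerCA.IsRelPseudoCoherentVia β m K := by
  let γ : MvPolynomial (Fin k) (MvPolynomial (Fin n) R) →+* A :=
    MvPolynomial.eval₂Hom (α : MvPolynomial (Fin n) R →+* A) (fun j => β (X j))
  have hγ : γ.comp C = (α : MvPolynomial (Fin n) R →+* A) :=
    RingHom.ext fun p => MvPolynomial.eval₂Hom_C _ _ p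
  have h1 := isPseudoCoherent_restrictD_iff_of_extends (α : MvPolynomial (Fin n) R →+* A) hα k γ
    hγ K m
  let ε : MvPolynomial (Fin n) (MvPolynomial (Fin k) R) ≃+*
      MvPolynomial (Fin k) (MvPolynomial (Fin n) R) :=
    (MvPolynomial.commAlgEquiv R (Fin n) (Fin k)).toRingEquiv
  have hε : ∀ p, ε p = MvPolynomial.commAlgEquiv R (Fin n) (Fin k) p := fun p => rfl
  let γ' : MvPolynomial (Fin n) (MvPolynomial (Fin k) R) →+* A := γ.comp (ε : _ →+* _)
  have hγ' : γ'.comp C = (β : MvPolynomial (Fin k) R →+* A) := by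
    apply MvPolynomial.ringHom_ext
    · intro r
      change γ (ε (C (C r))) = β (C r)
      rw [hε, MvPolynomial.commAlgEquiv_C, MvPolynomial.map_C]
      change MvPolynomial.eval₂Hom _ _ (C (C r)) = _
      rw [MvPolynomial.eval₂Hom_C]
      change α (C r) = β (C r)
      rw [← MvPolynomial.algebraMap_eq, ← MvPolynomial.algebraMap_eq, α.commutes, β.commutes]
    · intro j
      change γ (ε (C (X j))) = β (X j)
      rw [hε, MvPolynomial.commAlgEquiv_C_X]
      change MvPolynomial.eval₂Hom _ _ (X j) = _
      rw [MvPolynomial.eval₂Hom_X']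
  have h2 := isPseudoCoherent_restrictD_iff_of_extends (β : MvPolynomial (Fin k) R →+* A) hβ n γ'
    hγ' K m
  have h3 := (PCHom.of_ringEquiv ε).isPseudoCoherent_iff γ K m
  exact h1.trans (h3.trans h2.symm)

end Groth.Agent.Lib.Helper18.DR
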