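import Mathlib
import Groth.Agent.Lib.Helper18.DRRel3
import Groth.Agent.Lib.Helper18.DRNoeth

/-!
# Relative pseudo-coherence: formal consequences (helper18)
-/

set_option autoImplicit false
set_option linter.style.haveILetI false
universe u
open CategoryTheory CategoryTheory.Limits CategoryTheory.Pretriangulated DerivedCategory
open MvPolynomial

attribute [local instance] HasDerivedCategory.standard

namespace Groth.Agent.Lib.Helper18.DR

variable {R A : Type u} [CommRing R] [CommRing A] [Algebra R A]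

lemma exists_presentation [Algebra.FiniteType R A] :
    ∃ (n : ℕ) (α : MvPolynomial (Fin n) R →ₐ[R] A), Function.Surjective α :=
  Algebra.FiniteType.iff_quotient_mvPolynomial''.1 inferInstance

/-- relative pseudo-coherence can be tested on any presentation -/
lemma relPC_iff_via {n : ℕ} (α : MvPolynomial (Fin n) R →ₐ[R] A) (hα : Function.Surjective α)
    (m : ℤ) (K : Dual.D A) :
    DerCA.IsRelPseudoCoherent R A m K ↔
      DRing.IsPseudoCoherent (MvPolynomial (Fin n) R) m
        ((DRing.restrictD (α : MvPolynomial (Fin n) R →+* A)).obj K) :=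
  ⟨fun ⟨_, α', hα', h⟩ => (relPC_via_iff α' hα' α hα K m).1 h, fun h => ⟨_, α, hα, h⟩⟩

/-- S7020 -/
theorem relPC_triangle [Algebra.FiniteType R A] (m : ℤ) (T : Triangle (Dual.D A))
    (hT : T ∈ distinguishedTriangles) :
    (DerCA.IsRelPseudoCoherent R A (m + 1) T.obj₁ → DerCA.IsRelPseudoCoherent R A m T.obj₂ →
        DerCA.IsRelPseudoCoherent R A m T.obj₃) ∧
      (DerCA.IsRelPseudoCoherent R A m T.obj₁ → DerCA.IsRelPseudoCoherent R A m T.obj₃ →
        DerCA.IsRelPseudoCoherent R A m T.obj₂) ∧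
      (DerCA.IsRelPseudoCoherent R A (m + 1) T.obj₂ → DerCA.IsRelPseudoCoherent R A m T.obj₃ →
        DerCA.IsRelPseudoCoherent R A (m + 1) T.obj₁) ∧
      ((DerCA.IsRelPseudoCoherentAll R A T.obj₁ → DerCA.IsRelPseudoCoherentAll R A T.obj₂ →
          DerCA.IsRelPseudoCoherentAll R A T.obj₃) ∧
        (DerCA.IsRelPseudoCoherentAll R A T.obj₁ → DerCA.IsRelPseudoCoherentAll R A T.obj₃ →
          DerCA.IsRelPseudoCoherentAll R A T.obj₂) ∧
        (DerCA.IsRelPseudoCoherentAll R A T.obj₂ → DerCA.IsRelPseudoCoherentAll R A T.obj₃ →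
          DerCA.IsRelPseudoCoherentAll R A T.obj₁)) := by
  obtain ⟨n, α, hα⟩ := exists_presentation (R := R) (A := A)
  have hT' := (DRing.restrictD (α : MvPolynomial (Fin n) R →+* A)).map_distinguished _ hT
  have key : ∀ m' : ℤ, _ := fun m' => isPseudoCoherent_triangle _ hT' m'
  simp only [DerCA.IsRelPseudoCoherentAll, relPC_iff_via α hα]
  refine ⟨(key m).1, (key m).2.1, (key m).2.2, fun h1 h2 m' => (key m').1 (h1 _) (h2 _),
    fun h1 h3 m' => (key m').2.1 (h1 _) (h3 _), fun h2 h3 m' => ?_⟩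
  have := (key (m' - 1)).2.2 (by rw [sub_add_cancel]; exact h2 m') (h3 _)
  rw [sub_add_cancel] at this
  exact this

/-- S7022 -/
theorem relPC_biprod [Algebra.FiniteType R A] (m : ℤ) (K L : Dual.D A)
    [HasBinaryBiproduct K L] :
    (DerCA.IsRelPseudoCoherent R A m (K ⊞ L) →
        DerCA.IsRelPseudoCoherent R A m K ∧ DerCA.IsRelPseudoCoherent R A m L) ∧
      (DerCA.IsRelPseudoCoherentAll R A (K ⊞ L) →
        DerCA.IsRelPseudoCoherentAll R A K ∧ DerCA.IsRelPseudoCoherentAll R A L) := by
  obtain ⟨n, α, hα⟩ := exists_presentation (R := R) (A := A)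
  have key : ∀ m' : ℤ, DerCA.IsRelPseudoCoherent R A m' (K ⊞ L) →
      DerCA.IsRelPseudoCoherent R A m' K ∧ DerCA.IsRelPseudoCoherent R A m' L := by
    intro m' h
    rw [relPC_iff_via α hα] at h ⊢
    rw [relPC_iff_via α hα]
    apply isPseudoCoherent_of_biprod_aux
    haveI : PreservesBiproductsOfShape WalkingPair
        (DRing.restrictD (α : MvPolynomial (Fin n) R →+* A)) :=
      PreservesFiniteBiproducts.preserves
    haveI : PreservesBinaryBiproducts (DRing.restrictD (α : MvPolynomial (Fin n) R →+* A)) :=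
      preservesBinaryBiproducts_of_preservesBiproducts _
    exact isPseudoCoherent_of_iso
      ((DRing.restrictD (α : MvPolynomial (Fin n) R →+* A)).mapBiprod K L) h
  exact ⟨key m, fun h => ⟨fun m' => (key m' (h m')).1, fun m' => (key m' (h m')).2⟩⟩

/-- restriction of a module placed in degree zero -/
noncomputable def restrictDSgIso {P : Type u} [CommRing P] (φ : P →+* A) (n : ℤ)
    (M : ModuleCat.{u} A) : (DRing.restrictD φ).obj (Sg n M) ≅ Sg n (resM φ M) :=
  ((ModuleCat.restrictScalars.{u} φ).mapDerivedCategorySingleFunctor n).app M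

/-- relative pseudo-coherence of a module via a presentation -/
lemma relPCModule_iff_via {n : ℕ} (α : MvPolynomial (Fin n) R →ₐ[R] A)
    (hα : Function.Surjective α) (m : ℤ) (M : ModuleCat.{u} A) :
    DerCA.IsRelPseudoCoherentModule R A m M ↔
      DRing.IsPseudoCoherentModule (MvPolynomial (Fin n) R) m
        (resM (α : MvPolynomial (Fin n) R →+* A) M) := by
  change DerCA.IsRelPseudoCoherent R A m (Sg 0 M) ↔ _
  rw [relPC_iff_via α hα]
  exact ⟨fun h => isPseudoCoherent_of_iso (restrictDSgIso _ 0 M) h,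
    fun h => isPseudoCoherent_of_iso (restrictDSgIso _ 0 M).symm h⟩

/-- S7023 -/
theorem relPC_of_terms [Algebra.FiniteType R A] (m : ℤ) (K : DRing.Cx A) (b : ℤ)
    (hb : DRing.VanishesAbove K b) :
    ((∀ i : ℤ, DerCA.IsRelPseudoCoherentModule R A (m - i) (K.X i)) →
        DerCA.IsRelPseudoCoherent R A m (DRing.toD K)) ∧
      ((∀ i : ℤ, DerCA.IsRelPseudoCoherentModuleAll R A (K.X i)) →
        DerCA.IsRelPseudoCoherentAll R A (DRing.toD K)) := by
  obtain ⟨n, α, hα⟩ := exists_presentation (R := R) (A := A)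
  have key : ∀ m' : ℤ, (∀ i : ℤ, DerCA.IsRelPseudoCoherentModule R A (m' - i) (K.X i)) →
      DerCA.IsRelPseudoCoherent R A m' (DRing.toD K) := by
    intro m' h
    rw [relPC_iff_via α hα]
    let K' : DRing.Cx (MvPolynomial (Fin n) R) :=
      (DRing.restrictCx (α : MvPolynomial (Fin n) R →+* A)).obj K
    have e : (DRing.restrictD (α : MvPolynomial (Fin n) R →+* A)).obj (DRing.toD K) ≅
        DRing.toD K' :=
      (ModuleCat.restrictScalars.{u} (α : MvPolynomial (Fin n) R →+* A)).mapDerivedCategoryFactors.app K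
    refine isPseudoCoherent_of_iso e.symm ?_
    refine isPseudoCoherent_of_terms m' K' b (fun i hi => ?_) (fun i => ?_)
    · exact (ModuleCat.restrictScalars.{u} (α : MvPolynomial (Fin n) R →+* A)).map_isZero (hb i hi)
    · exact (relPCModule_iff_via α hα (m' - i) (K.X i)).1 (h i)
  exact ⟨key m, fun h m' => key m' (fun i => h i (m' - i))⟩

/-- S7024 -/
theorem relPC_of_cohomology [Algebra.FiniteType R A] (m : ℤ) (K : Dual.D A)
    (hb : ∃ b : ℤ, ∀ i : ℤ, b < i → Subsingleton (Dual.HD A K i)) :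
    ((∀ i : ℤ, DerCA.IsRelPseudoCoherentModule R A (m - i) (Dual.HD A K i)) →
        DerCA.IsRelPseudoCoherent R A m K) ∧
      ((∀ i : ℤ, DerCA.IsRelPseudoCoherentModuleAll R A (Dual.HD A K i)) →
        DerCA.IsRelPseudoCoherentAll R A K) := by
  obtain ⟨n, α, hα⟩ := exists_presentation (R := R) (A := A)
  obtain ⟨b, hb⟩ := hb
  have key : ∀ m' : ℤ, (∀ i : ℤ, DerCA.IsRelPseudoCoherentModule R A (m' - i) (Dual.HD A K i)) →
      DerCA.IsRelPseudoCoherent R A m' K := by
    intro m' h
    rw [relPC_iff_via α hα]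
    refine isPseudoCoherent_of_cohomology m' _ ⟨b, fun i hi => ?_⟩ (fun i => ?_)
    · haveI : Subsingleton (resM (α : MvPolynomial (Fin n) R →+* A) ((H A i).obj K)) := hb i hi
      exact (homologyRestrictIso (α : MvPolynomial (Fin n) R →+* A) K i).toLinearEquiv.subsingleton
    · have h1 := (relPCModule_iff_via α hα (m' - i) ((H A i).obj K)).1 (h i)
      exact isPseudoCoherent_of_iso ((singleFunctor _ 0).mapIso
        (homologyRestrictIso (α : MvPolynomial (Fin n) R →+* A) K i).symm) h1
  exact ⟨key m, fun h m' => key m' (fun i => h i (m' - i))⟩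

end Groth.Agent.Lib.Helper18.DR
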