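import Mathlib
import Groth.Agent.Lib.Helper18.DRTorC

/-!
# Tor amplitude over rings of finite global dimension (helper18)
-/

set_option autoImplicit false
set_option linter.style.haveILetI false
universe u
open CategoryTheory CategoryTheory.Limits CategoryTheory.Pretriangulated DerivedCategory ZeroObject

attribute [local instance] HasDerivedCategory.standard

namespace Groth.Agent.Lib.Helper18.DR

variable {R : Type u} [CommRing R]

/-- a module of projective dimension `≤ d` has tor amplitude in `[-d, 0]` -/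
theorem hasTorAmplitudeIn_inD_of_hasProjectiveDimensionLT (d : ℕ) (M : Type u) [AddCommGroup M]
    [Module R M] [HasProjectiveDimensionLT (ModuleCat.of R M) (d + 1)] :
    DRing.HasTorAmplitudeIn R (-(d : ℤ)) 0 (Dual.inD R M) := by
  have h3 : (∀ n : ℤ, 0 < n → Subsingleton (Dual.HD R (Dual.inD R M) n)) ∧
      ∀ (N : Type u) [AddCommGroup N] [Module R N] (i : ℤ), -(-(d : ℤ)) < i →
        Subsingleton (DRing.ExtD R (Dual.inD R M) (Dual.inD R N) i) := by
    refine ⟨fun n hn => ?_, fun N _ _ i hi => ?_⟩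
    · exact ModuleCat.subsingleton_of_isZero (isZero_of_isLE (Dual.inD R M) 0 n hn)
    · obtain ⟨j, rfl⟩ : ∃ j : ℕ, i = j := ⟨i.toNat, by omega⟩
      haveI : Subsingleton (Abelian.Ext (ModuleCat.of R M) (ModuleCat.of R N) j) :=
        HasProjectiveDimensionLT.subsingleton (ModuleCat.of R M) (d + 1) j (by omega)
          (ModuleCat.of R N)
      exact (Abelian.Ext.homEquiv (X := ModuleCat.of R M) (Y := ModuleCat.of R N)
        (n := j)).symm.subsingleton
  obtain ⟨P, hP, hproj, ⟨e⟩⟩ := ((projAmp_tfae (Dual.inD R M) (-(d : ℤ)) 0).out 2 0).1 h3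
  exact hasTorAmplitudeIn_of_isPerfect_rep _ P _ _ hP hproj e

/-- S7034 -/
theorem torAmplitude_of_finite_globalDimension (R : Type u) [CommRing R] (d : ℕ)
    (hgl : ∀ (M : Type u) [AddCommGroup M] [Module R M],
      HasProjectiveDimensionLT (ModuleCat.of R M) (d + 1)) :
    (∀ (M : Type u) [AddCommGroup M] [Module R M],
      DRing.HasTorAmplitudeIn R (-(d : ℤ)) 0 (Dual.inD R M)) ∧
      (∀ (K : Dual.D R) (a b : ℤ), (∀ i : ℤ, (i < a ∨ b < i) → Subsingleton (Dual.HD R K i)) →
        DRing.HasTorAmplitudeIn R (a - d) b K) := by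
  have part1 : ∀ (M : Type u) [AddCommGroup M] [Module R M],
      DRing.HasTorAmplitudeIn R (-(d : ℤ)) 0 (Dual.inD R M) := fun M _ _ => by
    haveI := hgl M
    exact hasTorAmplitudeIn_inD_of_hasProjectiveDimensionLT d M
  refine ⟨part1, fun K a b hK => ?_⟩
  refine hasTorAmplitudeIn_of_cohomology (a - d) b K ⟨a, b, hK⟩ (fun i => ?_)
  by_cases hi : i < a ∨ b < i
  · haveI := hK i hi
    exact hasTorAmplitudeIn_of_isZero _ ((singleFunctor (ModuleCat.{u} R) 0).map_isZero
      (ModuleCat.isZero_of_subsingleton _)) _ _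
  · exact hasTorAmplitudeIn_mono (part1 (Dual.HD R K i)) (by omega) (by omega)

end Groth.Agent.Lib.Helper18.DR
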