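import Mathlib
import Groth.Agent.S0563
import Groth.Agent.S5804
import Groth.Agent.Lib.Helper26.SerreReg

/-!
# Regular rings: projective dimension of finite modules (helper18)
-/

set_option autoImplicit false
set_option linter.style.haveILetI false
universe u
open CategoryTheory CategoryTheory.Limits

namespace Groth.Agent.Lib.Helper18.DR

section Reg

variable {R : Type u} [CommRing R]

/-- the locus where a finite module has projective dimension `≤ 0` is the free locus -/
lemma pdLE_zero_iff_mem_freeLocus [IsNoetherianRing R] (M : ModuleCat.{u} R) [Module.Finite R M]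
    (p : PrimeSpectrum R) :
    HasProjectiveDimensionLE (M.localizedModule p.asIdeal.primeCompl) 0 ↔
      p ∈ Module.freeLocus R M := by
  rw [Module.mem_freeLocus_of_isLocalization p (Localization.AtPrime p.asIdeal)
    (M.localizedModule p.asIdeal.primeCompl) (M.localizedModuleMkLinearMap p.asIdeal.primeCompl)]
  simp only [HasProjectiveDimensionLE, zero_add, ← projective_iff_hasProjectiveDimensionLT_one]
  rw [← IsProjective.iff_projective]
  haveI : Module.Finite (Localization.AtPrime p.asIdeal)
      (M.localizedModule p.asIdeal.primeCompl) :=
    Module.Finite.of_isLocalizedModule p.asIdeal.primeCompl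
      (M.localizedModuleMkLinearMap p.asIdeal.primeCompl)
  constructor
  · intro h
    haveI := h
    exact Module.free_of_flat_of_isLocalRing
  · intro h
    haveI := h
    exact Module.Projective.of_free

/-- the locus where a finite module over a Noetherian ring has projective dimension `≤ n`
is open -/
lemma isOpen_pdLE [IsNoetherianRing R] (n : ℕ) (M : ModuleCat.{u} R) [Module.Finite R M] :
    IsOpen {p : PrimeSpectrum R |
      HasProjectiveDimensionLE (M.localizedModule p.asIdeal.primeCompl) n} := by
  induction n generalizing M with
  | zero =>
    have : {p : PrimeSpectrum R |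
        HasProjectiveDimensionLE (M.localizedModule p.asIdeal.primeCompl) 0} =
        Module.freeLocus R M := by
      ext p
      exact pdLE_zero_iff_mem_freeLocus M p
    rw [this]
    haveI : Module.FinitePresentation R M := Module.finitePresentation_of_finite R M
    exact Module.isOpen_freeLocus
  | succ n ih =>
    rcases Module.exists_finite_presentation R M with ⟨P, _, _, _, _, f, surjf⟩
    let S := f.shortComplexKer
    have S_exact := LinearMap.shortExact_shortComplexKer surjf
    have proj := ModuleCat.projective_of_categoryTheory_projective S.X₂
    let Sp (p : PrimeSpectrum R) := S.map (ModuleCat.localizedModuleFunctor p.1.primeCompl)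
    have Sp_exact (p : PrimeSpectrum R) : (Sp p).ShortExact :=
      S_exact.map_of_exact (ModuleCat.localizedModuleFunctor p.asIdeal.primeCompl)
    have projp (p : PrimeSpectrum R) : Projective (Sp p).X₂ :=
      (ModuleCat.localizedModuleFunctor.{u} p.1.primeCompl).projective_obj_of_projective proj
    have key := ih (ModuleCat.of R (LinearMap.ker f))
    convert key using 1
    ext p
    simp only [HasProjectiveDimensionLE, Set.mem_setOf_eq]
    exact (Sp_exact p).hasProjectiveDimensionLT_X₃_iff n (projp p)

/-- a finite module over a regular ring has finite projective dimension -/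
theorem exists_hasProjectiveDimensionLE_of_regular [IsNoetherianRing R]
    (hreg : ∀ p : PrimeSpectrum R, IsRegularLocalRing (Localization.AtPrime p.asIdeal))
    (M : ModuleCat.{u} R) [Module.Finite R M] : ∃ n : ℕ, HasProjectiveDimensionLE M n := by
  let V : ℕ → Set (PrimeSpectrum R) := fun n => {p : PrimeSpectrum R |
      HasProjectiveDimensionLE (M.localizedModule p.asIdeal.primeCompl) n}
  have hVo : ∀ n, IsOpen (V n) := fun n => isOpen_pdLE n M
  have hmono : Monotone V := by
    intro m n hmn p hp
    simp only [V, Set.mem_setOf_eq, HasProjectiveDimensionLE] at hp ⊢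
    exact hasProjectiveDimensionLT_of_ge _ (m + 1) (n + 1) (by omega)
  have hcover : (Set.univ : Set (PrimeSpectrum R)) ⊆ ⋃ n, V n := by
    intro p _
    haveI := hreg p
    obtain ⟨d, hd⟩ := Groth.Agent.Lib.Helper26.SerreReg.exists_nat_ringKrullDim
      (Localization.AtPrime p.asIdeal)
    have := Groth.Agent.S0563.result (Localization.AtPrime p.asIdeal) d hd
      (M.localizedModule p.asIdeal.primeCompl)
    exact Set.mem_iUnion.2 ⟨d, this⟩
  obtain ⟨n, hn⟩ := isCompact_univ.elim_directed_cover V hVo hcover
    (directed_of_isDirected_le hmono)
  refine ⟨n, ?_⟩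
  rw [ModuleCat.hasProjectiveDimensionLE_iff_forall_primeSpectrum n M]
  exact fun p => hn (Set.mem_univ p)

end Reg

end Groth.Agent.Lib.Helper18.DR
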