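import Mathlib
import Groth.Agent.Lib.Helper18.DRProjAmp

/-!
# Splitting off a projective part (helper18)
-/

set_option autoImplicit false
set_option linter.style.haveILetI false
universe u
open CategoryTheory CategoryTheory.Limits CategoryTheory.Pretriangulated DerivedCategory

attribute [local instance] HasDerivedCategory.standard

namespace Groth.Agent.Lib.Helper18.DR

variable {R : Type u} [CommRing R]

/-- the standard t-structure on `D(R)` -/
noncomputable abbrev tS (R : Type u) [CommRing R] : Triangulated.TStructure (Dual.D R) :=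
  DerivedCategory.TStructure.t

lemma hom_truncGE_eq_zero (K : Dual.D R) (a : ℤ) (N : ModuleCat.{u} R)
    (y : ((tS R).truncGE (a + 1)).obj K ⟶ Sg a N) (h : ((tS R).truncGEπ (a + 1)).app K ≫ y = 0) : y = 0 := by
  have hT := (tS R).triangleLTGE_distinguished (a + 1) K
  obtain ⟨z, hz⟩ : ∃ z : (((tS R).truncLT (a + 1)).obj K)⟦(1 : ℤ)⟧ ⟶ Sg a N,
      y = ((tS R).truncGEδLT (a + 1)).app K ≫ z := Triangle.yoneda_exact₃ _ hT y h
  haveI : ((((tS R).truncLT (a + 1)).obj K)⟦(1 : ℤ)⟧).IsLE (a - 1) :=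
    (tS R).isLE_shift _ a 1 (a - 1) (by omega)
  rw [hz, hom_to_Sg_eq_zero_of_isLE a N _ z, comp_zero]

lemma isIso_H_truncGEπ (K : Dual.D R) (a n : ℤ) (hn : a + 1 ≤ n) :
    IsIso ((H R n).map (((tS R).truncGEπ (a + 1)).app K)) :=
  isIso_H_mor₂_of_isZero ((tS R).triangleLTGE_distinguished (a + 1) K) n
    (isZero_of_isLE (((tS R).truncLT (a + 1)).obj K) a n (by omega))
    (isZero_of_isLE (((tS R).truncLT (a + 1)).obj K) a (n + 1) (by omega))

lemma isIso_H_truncLTι (K : Dual.D R) (a n : ℤ) (hn : n < a) :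
    IsIso ((H R n).map (((tS R).truncLTι a).app K)) :=
  isIso_H_mor₁_of_isZero ((tS R).triangleLTGE_distinguished a K) (n - 1) n (by omega)
    (isZero_of_isGE (((tS R).truncGE a).obj K) a (n - 1) (by omega))
    (isZero_of_isGE (((tS R).truncGE a).obj K) a n (by omega))

/-- the projective part -/
theorem exists_split_proj (K : Dual.D R) (a : ℤ)
    (hKb : ∃ b : ℤ, ∀ i : ℤ, b < i → Subsingleton (Dual.HD R K i))
    (h0 : ∀ (N : ModuleCat.{u} R) (y : ((tS R).truncGE (a + 1)).obj K ⟶ Sg a N), y = 0) :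
    ((tS R).truncGEδLT (a + 1)).app K = 0 ∧
      ∃ (P : DRing.Cx R) (b : ℤ), DRing.VanishesOutside P (a + 1) b ∧
        (∀ i : ℤ, Module.Projective R (P.X i)) ∧
        Nonempty (DRing.toD P ≅ ((tS R).truncGE (a + 1)).obj K) := by
  obtain ⟨b, hb⟩ := hKb
  obtain ⟨P, hP, hproj, ⟨e⟩⟩ := exists_proj_rep (((tS R).truncGE (a + 1)).obj K) a b
    (fun n hn => by
      by_cases hna : n < a + 1
      · exact ModuleCat.subsingleton_of_isZero
          (isZero_of_isGE (((tS R).truncGE (a + 1)).obj K) (a + 1) n hna)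
      · haveI := isIso_H_truncGEπ K a n (by omega)
        haveI := hb n (by omega)
        have hz : IsZero ((H R n).obj K) := ModuleCat.isZero_of_subsingleton _
        exact ModuleCat.subsingleton_of_isZero
          (hz.of_iso (asIso ((H R n).map (((tS R).truncGEπ (a + 1)).app K))).symm))
    (fun N _ _ => by
      rw [subsingleton_ext_iff _ N (-a) a (by omega)]
      exact ⟨fun x y => by rw [h0 _ x, h0 _ y]⟩)
  refine ⟨?_, P, b, hP, hproj, ⟨e⟩⟩
  haveI : P.IsKProjective := isKProjective_of_vanishesAbove P b (VanishesOutside.above hP) hproj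
  haveI : P.IsStrictlyGE (a + 1) := by
    rw [CochainComplex.isStrictlyGE_iff]
    intro i hi
    exact hP i (Or.inl hi)
  haveI : ((((tS R).truncLT (a + 1)).obj K)⟦(1 : ℤ)⟧).IsLE (a - 1) :=
    (tS R).isLE_shift _ a 1 (a - 1) (by omega)
  haveI : ((((tS R).truncLT (a + 1)).obj K)⟦(1 : ℤ)⟧).IsLE (a + 1 - 1) :=
    (tS R).isLE_of_le _ (a - 1) (a + 1 - 1) (by omega)
  rw [← cancel_epi e.hom, comp_zero]
  exact hom_eq_zero_of_isLE P (a + 1) ((((tS R).truncLT (a + 1)).obj K)⟦(1 : ℤ)⟧) _

/-- the splitting, complementary truncations -/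
theorem exists_split_iso (K : Dual.D R) (a : ℤ) (hδ : ((tS R).truncGEδLT (a + 1)).app K = 0)
    [HasBinaryBiproduct (((tS R).truncLT (a + 1)).obj K) (((tS R).truncGE (a + 1)).obj K)] :
    ∃ e : K ≅ ((tS R).truncLT (a + 1)).obj K ⊞ ((tS R).truncGE (a + 1)).obj K,
      ((tS R).truncLTι (a + 1)).app K ≫ e.hom = biprod.inl ∧
        e.hom ≫ biprod.snd = ((tS R).truncGEπ (a + 1)).app K := by
  obtain ⟨e, h1, h2⟩ := exists_iso_binaryBiproduct_of_distTriang _
    ((tS R).triangleLTGE_distinguished (a + 1) K) hδ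
  exact ⟨e, h1, h2.symm⟩

lemma isIso_natTransTruncLTOfLE (K : Dual.D R) (a : ℤ) (hH : IsZero ((H R a).obj K)) :
    IsIso (((tS R).natTransTruncLTOfLE a (a + 1) (by omega)).app K) := by
  rw [DerivedCategory.isIso_iff]
  intro n
  by_cases hn : n < a
  · haveI := isIso_H_truncLTι K a n hn
    haveI := isIso_H_truncLTι K (a + 1) n (by omega)
    have h1 : (H R n).map (((tS R).natTransTruncLTOfLE a (a + 1) (by omega)).app K) ≫
        (H R n).map (((tS R).truncLTι (a + 1)).app K) = (H R n).map (((tS R).truncLTι a).app K) := by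
      rw [← Functor.map_comp, (tS R).natTransTruncLTOfLE_ι_app]
    exact IsIso.of_isIso_fac_right h1
  · have hs : IsZero ((H R n).obj (((tS R).truncLT a).obj K)) :=
      isZero_of_isLE (((tS R).truncLT a).obj K) (a - 1) n (by omega)
    have ht : IsZero ((H R n).obj (((tS R).truncLT (a + 1)).obj K)) := by
      by_cases hna : n = a
      · subst hna
        haveI := isIso_H_truncLTι K (n + 1) n (by omega)
        exact hH.of_iso (asIso ((H R n).map (((tS R).truncLTι (n + 1)).app K)))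
      · exact isZero_of_isLE (((tS R).truncLT (a + 1)).obj K) a n (by omega)
    exact ⟨0, hs.eq_of_src _ _, ht.eq_of_src _ _⟩

/-- the splitting with a gap -/
theorem exists_split_iso_gap (K : Dual.D R) (a : ℤ) (hδ : ((tS R).truncGEδLT (a + 1)).app K = 0)
    (hH : IsZero ((H R a).obj K))
    [HasBinaryBiproduct (((tS R).truncLT a).obj K) (((tS R).truncGE (a + 1)).obj K)] :
    ∃ e : K ≅ ((tS R).truncLT a).obj K ⊞ ((tS R).truncGE (a + 1)).obj K,
      ((tS R).truncLTι a).app K ≫ e.hom = biprod.inl ∧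
        e.hom ≫ biprod.snd = ((tS R).truncGEπ (a + 1)).app K := by
  obtain ⟨e₀, h1, h2⟩ := exists_split_iso K a hδ
  haveI := isIso_natTransTruncLTOfLE K a hH
  have haa : a ≤ a + 1 := by omega
  let φ := asIso (((tS R).natTransTruncLTOfLE a (a + 1) haa).app K)
  refine ⟨e₀ ≪≫ biprod.mapIso φ.symm (Iso.refl _), ?_, ?_⟩
  · have h3 : ((tS R).truncLTι a).app K = φ.hom ≫ ((tS R).truncLTι (a + 1)).app K :=
      ((tS R).natTransTruncLTOfLE_ι_app a (a + 1) (by omega) K).symm
    rw [h3]
    simp only [Iso.trans_hom, Category.assoc, biprod.mapIso_hom, Iso.symm_hom, Iso.refl_hom]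
    rw [reassoc_of% h1, biprod.inl_map, Iso.hom_inv_id_assoc]
  · simp only [Iso.trans_hom, Category.assoc, biprod.mapIso_hom, Iso.symm_hom, Iso.refl_hom,
      biprod.map_snd, Category.comp_id]
    exact h2

end Groth.Agent.Lib.Helper18.DR
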