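import Mathlib
import Groth.Agent.Lib.Helper18.DRReg
import Groth.Agent.Lib.Helper18.DRGlDim
import Groth.Agent.Lib.Helper18.DRNoeth
import Groth.Agent.Lib.Helper18.DRSplit

/-!
# Perfect complexes over regular rings (helper18)
-/

set_option autoImplicit false
set_option linter.style.haveILetI false
universe u
open CategoryTheory CategoryTheory.Limits CategoryTheory.Pretriangulated DerivedCategory

attribute [local instance] HasDerivedCategory.standard

namespace Groth.Agent.Lib.Helper18.DR

variable {R : Type u} [CommRing R]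

/-- finite modules over regular rings have finite projective dimension -/
theorem exists_pd_of_regular [IsNoetherianRing R]
    (hreg : ∀ p : PrimeSpectrum R, IsRegularLocalRing (Localization.AtPrime p.asIdeal))
    (M : Type u) [AddCommGroup M] [Module R M] [Module.Finite R M] :
    ∃ n : ℕ, HasProjectiveDimensionLT (ModuleCat.of R M) (n + 1) := by
  haveI : Module.Finite R (ModuleCat.of R M) := ‹Module.Finite R M›
  exact exists_hasProjectiveDimensionLE_of_regular hreg (ModuleCat.of R M)

/-- S6962 -/
theorem isPerfectModule_iff_finite_of_regular (R : Type u) [CommRing R] [IsNoetherianRing R]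
    (hreg : ∀ p : PrimeSpectrum R, IsRegularLocalRing (Localization.AtPrime p.asIdeal))
    (M : Type u) [AddCommGroup M] [Module R M] :
    DRing.IsPerfectModule R M ↔ Module.Finite R M := by
  constructor
  · intro h
    exact (isPseudoCoherentModule'_iff_of_noetherian M).1
      ((isPerfect_iff_pc_and_finiteTorDim _).1 h).1
  · intro hfin
    obtain ⟨n, hn⟩ := exists_pd_of_regular hreg M
    exact (isPerfect_iff_pc_and_finiteTorDim _).2
      ⟨(isPseudoCoherentModule'_iff_of_noetherian M).2 hfin, -(n : ℤ), 0,
        hasTorAmplitudeIn_inD_of_hasProjectiveDimensionLT n M⟩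

/-- S7031 -/
theorem isPerfect_iff_bounded_finite_homology_of_regular (R : Type u) [CommRing R]
    [IsNoetherianRing R]
    (hreg : ∀ p : PrimeSpectrum R, IsRegularLocalRing (Localization.AtPrime p.asIdeal))
    (K : Dual.D R) :
    DRing.IsPerfect R K ↔
      (∃ a b : ℤ, ∀ i : ℤ, (i < a ∨ b < i) → Subsingleton (Dual.HD R K i)) ∧
        ∀ i : ℤ, Module.Finite R (Dual.HD R K i) := by
  constructor
  · intro h
    refine ⟨?_, fun i => ?_⟩
    · obtain ⟨E, a, b, hE, -, ⟨e⟩⟩ := h
      refine ⟨a, b, fun i hi => ?_⟩
      have hz : IsZero ((H R i).obj (DRing.toD E)) := by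
        rw [isZero_H_toD_iff_exactAt]
        exact HomologicalComplex.ExactAt.of_isZero (hE i hi)
      exact ModuleCat.subsingleton_of_isZero (hz.of_iso ((H R i).mapIso e.symm))
    · exact ((isPseudoCoherent_iff_of_noetherian i K).1 (isPseudoCoherent_of_isPerfect h i)).2 i
        le_rfl
  · rintro ⟨⟨a, b, hab⟩, hfin⟩
    rw [isPerfect_iff_pc_and_finiteTorDim]
    refine ⟨?_, ?_⟩
    · rw [← isPseudoCoherent'_iff_forall]
      exact fun m => (isPseudoCoherent_iff_of_noetherian m K).2
        ⟨⟨b, fun i hi => hab i (Or.inr hi)⟩, fun i _ => hfin i⟩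
    · have hpd : ∀ i : ℤ, ∃ n : ℕ,
          HasProjectiveDimensionLT (ModuleCat.of R (Dual.HD R K i)) (n + 1) := fun i => by
        haveI := hfin i
        exact exists_pd_of_regular hreg _
      choose n hn using hpd
      let N : ℕ := (Finset.Icc a b).sup n
      refine ⟨a - N, b, hasTorAmplitudeIn_of_cohomology (a - N) b K ⟨a, b, hab⟩ (fun i => ?_)⟩
      by_cases hi : i < a ∨ b < i
      · haveI := hab i hi
        exact hasTorAmplitudeIn_of_isZero _ ((singleFunctor (ModuleCat.{u} R) 0).map_isZero
          (ModuleCat.isZero_of_subsingleton _)) _ _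
      · have hle : n i ≤ N := Finset.le_sup (f := n) (Finset.mem_Icc.2 ⟨by omega, by omega⟩)
        haveI := hn i
        exact hasTorAmplitudeIn_mono
          (hasTorAmplitudeIn_inD_of_hasProjectiveDimensionLT (n i) (Dual.HD R K i))
          (by omega) (by omega)

end Groth.Agent.Lib.Helper18.DR
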