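import Mathlib
import Groth.Agent.Lib.Helper18.DRReg2

/-!
# Regular rings of finite Krull dimension: vanishing of morphisms and splitting (helper18)
-/

set_option autoImplicit false
set_option linter.style.haveILetI false
universe u
open CategoryTheory CategoryTheory.Limits CategoryTheory.Pretriangulated DerivedCategory

attribute [local instance] HasDerivedCategory.standard

namespace Groth.Agent.Lib.Helper18.DR

variable {R : Type u} [CommRing R]

/-- a regular ring of Krull dimension `d` has global dimension `≤ d` -/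
theorem globalDim_le_of_regular [IsNoetherianRing R]
    (hreg : ∀ p : PrimeSpectrum R, IsRegularLocalRing (Localization.AtPrime p.asIdeal))
    (d : ℕ) (hd : ringKrullDim R = d) (M : Type u) [AddCommGroup M] [Module R M] :
    HasProjectiveDimensionLT (ModuleCat.of R M) (d + 1) := by
  refine Groth.Agent.S5804.result R d (fun I => ?_) M
  haveI : Module.Finite R (ModuleCat.of R (R ⧸ I)) := inferInstanceAs (Module.Finite R (R ⧸ I))
  change HasProjectiveDimensionLE (ModuleCat.of R (R ⧸ I)) d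
  rw [ModuleCat.hasProjectiveDimensionLE_iff_forall_primeSpectrum d (ModuleCat.of R (R ⧸ I))]
  intro p
  haveI := hreg p
  obtain ⟨dp, hdp⟩ := Groth.Agent.Lib.Helper26.SerreReg.exists_nat_ringKrullDim
    (Localization.AtPrime p.asIdeal)
  have hle : dp ≤ d := by
    have h1 := IsLocalization.AtPrime.ringKrullDim_eq_height p.asIdeal
      (Localization.AtPrime p.asIdeal)
    have h2 : (p.asIdeal.height : WithBot ℕ∞) ≤ ringKrullDim R :=
      Ideal.height_le_ringKrullDim_of_isPrime
    have h3 : ((dp : ℕ) : WithBot ℕ∞) ≤ (d : WithBot ℕ∞) := by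
      rw [← hdp, h1, ← hd]
      exact h2
    exact_mod_cast h3
  haveI := Groth.Agent.S0563.result (Localization.AtPrime p.asIdeal) dp hdp
    ((ModuleCat.of R (R ⧸ I)).localizedModule p.asIdeal.primeCompl)
  exact hasProjectiveDimensionLT_of_ge _ (dp + 1) (d + 1) (by omega)

/-- a module of projective dimension `≤ d` has a projective representative in `[-d, 0]` -/
lemma exists_proj_rep_Sg_zero (d : ℕ) (M : ModuleCat.{u} R) [HasProjectiveDimensionLT M (d + 1)] :
    ∃ P : DRing.Cx R, DRing.VanishesOutside P (-(d : ℤ)) 0 ∧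
      (∀ i : ℤ, Module.Projective R (P.X i)) ∧ Nonempty (DRing.toD P ≅ Sg 0 M) := by
  have h3 : (∀ n : ℤ, 0 < n → Subsingleton (Dual.HD R (Sg 0 M) n)) ∧
      ∀ (N : Type u) [AddCommGroup N] [Module R N] (i : ℤ), -(-(d : ℤ)) < i →
        Subsingleton (DRing.ExtD R (Sg 0 M) (Dual.inD R N) i) := by
    refine ⟨fun n hn => ?_, fun N _ _ i hi => ?_⟩
    · exact ModuleCat.subsingleton_of_isZero (isZero_of_isLE (Sg 0 M) 0 n hn)
    · obtain ⟨j, rfl⟩ : ∃ j : ℕ, i = j := ⟨i.toNat, by omega⟩
      haveI : Subsingleton (Abelian.Ext M (ModuleCat.of R N) j) :=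
        HasProjectiveDimensionLT.subsingleton M (d + 1) j (by omega) (ModuleCat.of R N)
      exact (Abelian.Ext.homEquiv (X := M) (Y := ModuleCat.of R N)
        (n := j)).symm.subsingleton
  exact ((projAmp_tfae (Sg 0 M) (-(d : ℤ)) 0).out 2 0).1 h3

/-- no morphisms from a module of projective dimension `≤ d` to `D^{≤ -d-1}` -/
lemma hom_Sg_zero_eq_zero_of_pd (d : ℕ) (M : ModuleCat.{u} R) [HasProjectiveDimensionLT M (d + 1)]
    (X : Dual.D R) [X.IsLE (-(d : ℤ) - 1)] (φ : Sg 0 M ⟶ X) : φ = 0 := by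
  obtain ⟨P, hP, hproj, ⟨e⟩⟩ := exists_proj_rep_Sg_zero d M
  haveI : P.IsKProjective := isKProjective_of_vanishesAbove P 0 (VanishesOutside.above hP) hproj
  haveI : P.IsStrictlyGE (-(d : ℤ)) := isStrictlyGE_of_vanishesOutside P _ _ hP
  rw [← cancel_epi e.hom, comp_zero]
  exact hom_eq_zero_of_isLE P (-(d : ℤ)) X _

/-- no morphisms from `M[-j]`, `M` of projective dimension `≤ d`, to `D^{≤ j-d-1}` -/
lemma hom_Sg_eq_zero_of_pd (d : ℕ) (j : ℤ) (M : ModuleCat.{u} R)
    [HasProjectiveDimensionLT M (d + 1)]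
    (L : Dual.D R) [L.IsLE (j - d - 1)] (φ : Sg j M ⟶ L) : φ = 0 := by
  let e : (Sg 0 M)⟦-j⟧ ≅ Sg j M := SgShiftIso (-j) j 0 (by omega) M
  haveI : (L⟦j⟧).IsLE (-(d : ℤ) - 1) := (tS R).isLE_shift L (j - d - 1) j _ (by omega)
  have h1 : (shiftFunctorCompIsoId (Dual.D R) (-j) j (by omega)).inv.app (Sg 0 M) ≫
      (shiftFunctor (Dual.D R) j).map (e.hom ≫ φ) = 0 := hom_Sg_zero_eq_zero_of_pd d M _ _
  have h2 : (shiftFunctor (Dual.D R) j).map (e.hom ≫ φ) = 0 := by
    rw [← cancel_epi ((shiftFunctorCompIsoId (Dual.D R) (-j) j (by omega)).inv.app (Sg 0 M)), h1,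
      comp_zero]
  have h3 : e.hom ≫ φ = 0 := by
    apply (shiftFunctor (Dual.D R) j).map_injective
    rw [h2, Functor.map_zero]
  rw [← cancel_epi e.hom, h3, comp_zero]

/-- S6994 -/
theorem hom_subsingleton_of_regular_finite_dim_gap (R : Type u) [CommRing R] [IsNoetherianRing R]
    (hreg : ∀ p : PrimeSpectrum R, IsRegularLocalRing (Localization.AtPrime p.asIdeal)) (d : ℕ)
    (hd : ringKrullDim R = d) (K L : Dual.D R)
    (hKb : ∃ b : ℤ, ∀ i : ℤ, b < i → Subsingleton (Dual.HD R K i)) (k : ℤ)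
    (hK : ∀ i : ℤ, i ≤ k → Subsingleton (Dual.HD R K i))
    (hL : ∀ i : ℤ, k - d + 1 ≤ i → Subsingleton (Dual.HD R L i)) :
    Subsingleton (K ⟶ L) := by
  obtain ⟨b, hb⟩ := hKb
  haveI : L.IsLE (k - d) := by
    rw [DerivedCategory.isLE_iff]
    intro i hi
    exact isZero_H_of_subsingleton L i (hL i (by omega))
  suffices H : ∀ f : K ⟶ L, f = 0 from ⟨fun x y => by rw [H x, H y]⟩
  refine cohomological_induction (fun X => ∀ f : X ⟶ L, f = 0) ?_ ?_ ?_ K (k + 1) b ?_ ?_
  · intro X Y e h f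
    rw [← cancel_epi e.hom, comp_zero]
    exact h _
  · intro X hX f
    exact hX.eq_of_src _ _
  · intro T hT h1 h3 f
    obtain ⟨g, hg⟩ := Triangle.yoneda_exact₂ T hT f (h1 _)
    rw [hg, h3 g, comp_zero]
  · intro i hi
    rcases hi with hi | hi
    · exact isZero_H_of_subsingleton K i (hK i (by omega))
    · exact isZero_H_of_subsingleton K i (hb i hi)
  · intro i hi1 hi2 f
    haveI := globalDim_le_of_regular hreg d hd ((H R i).obj K)
    haveI : L.IsLE (i - d - 1) := (tS R).isLE_of_le L (k - d) (i - d - 1) (by omega)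
    exact hom_Sg_eq_zero_of_pd d i _ L f

/-- truncations agree across a cohomological gap -/
lemma isIso_natTransTruncLTOfLE_gap (K : Dual.D R) (a b : ℤ) (hab : a ≤ b)
    (hH : ∀ i : ℤ, a ≤ i → i < b → IsZero ((H R i).obj K)) :
    IsIso (((tS R).natTransTruncLTOfLE a b hab).app K) := by
  rw [DerivedCategory.isIso_iff]
  intro n
  by_cases hn : n < a
  · haveI := isIso_H_truncLTι K a n hn
    haveI := isIso_H_truncLTι K b n (by omega)
    have h1 : (H R n).map (((tS R).natTransTruncLTOfLE a b hab).app K) ≫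
        (H R n).map (((tS R).truncLTι b).app K) = (H R n).map (((tS R).truncLTι a).app K) := by
      rw [← Functor.map_comp, (tS R).natTransTruncLTOfLE_ι_app]
    exact IsIso.of_isIso_fac_right h1
  · have hs : IsZero ((H R n).obj (((tS R).truncLT a).obj K)) :=
      isZero_of_isLE (((tS R).truncLT a).obj K) (a - 1) n (by omega)
    have ht : IsZero ((H R n).obj (((tS R).truncLT b).obj K)) := by
      by_cases hnb : n < b
      · haveI := isIso_H_truncLTι K b n hnb
        exact (hH n (by omega) hnb).of_iso (asIso ((H R n).map (((tS R).truncLTι b).app K)))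
      · exact isZero_of_isLE (((tS R).truncLT b).obj K) (b - 1) n (by omega)
    exact ⟨0, hs.eq_of_src _ _, ht.eq_of_src _ _⟩

/-- S6995 -/
theorem perfect_splits_across_cohomology_gap_of_regular (R : Type u) [CommRing R]
    [IsNoetherianRing R]
    (hreg : ∀ p : PrimeSpectrum R, IsRegularLocalRing (Localization.AtPrime p.asIdeal)) (d : ℕ)
    (hd1 : 1 ≤ d) (hd : ringKrullDim R = d) (K : Dual.D R) (hK : DRing.IsPerfect R K) (k : ℤ)
    (hgap : ∀ i : ℤ, k - d + 2 ≤ i → i ≤ k → Subsingleton (Dual.HD R K i))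
    [HasBinaryBiproduct (((tS R).truncLT (k - d + 2)).obj K) (((tS R).truncGE (k + 1)).obj K)] :
    ∃ e : K ≅ ((tS R).truncLT (k - d + 2)).obj K ⊞ ((tS R).truncGE (k + 1)).obj K,
      ((tS R).truncLTι (k - d + 2)).app K ≫ e.hom = biprod.inl ∧
        e.hom ≫ biprod.snd = ((tS R).truncGEπ (k + 1)).app K := by
  have hab : k - d + 2 ≤ k + 1 := by omega
  obtain ⟨⟨a, b, hKab⟩, -⟩ := (isPerfect_iff_bounded_finite_homology_of_regular R hreg K).1 hK
  haveI := isIso_natTransTruncLTOfLE_gap K (k - d + 2) (k + 1) hab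
    (fun i h1 h2 => isZero_H_of_subsingleton K i (hgap i h1 (by omega)))
  let φ := asIso (((tS R).natTransTruncLTOfLE (k - d + 2) (k + 1) hab).app K)
  have hδ : ((tS R).truncGEδLT (k + 1)).app K = 0 := by
    haveI : ((((tS R).truncLT (k - d + 2)).obj K)⟦(1 : ℤ)⟧).IsLE (k - d) :=
      (tS R).isLE_shift _ (k - d + 2 - 1) 1 (k - d) (by omega)
    haveI : ((((tS R).truncLT (k + 1)).obj K)⟦(1 : ℤ)⟧).IsLE (k - d) :=
      (tS R).isLE_of_iso ((shiftFunctor (Dual.D R) (1 : ℤ)).mapIso φ) (k - d)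
    have hsub : Subsingleton (((tS R).truncGE (k + 1)).obj K ⟶
        (((tS R).truncLT (k + 1)).obj K)⟦(1 : ℤ)⟧) := by
      refine hom_subsingleton_of_regular_finite_dim_gap R hreg d hd _ _ ⟨max b k, fun i hi => ?_⟩ k
        (fun i hi => ?_) (fun i hi => ?_)
      · haveI := isIso_H_truncGEπ K k i (by omega)
        have hz : IsZero ((H R i).obj K) :=
          isZero_H_of_subsingleton K i (hKab i (Or.inr (by omega)))
        exact ModuleCat.subsingleton_of_isZero
          (hz.of_iso (asIso ((H R i).map (((tS R).truncGEπ (k + 1)).app K))).symm)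
      · exact ModuleCat.subsingleton_of_isZero
          (isZero_of_isGE (((tS R).truncGE (k + 1)).obj K) (k + 1) i (by omega))
      · exact ModuleCat.subsingleton_of_isZero
          (isZero_of_isLE ((((tS R).truncLT (k + 1)).obj K)⟦(1 : ℤ)⟧) (k - d) i (by omega))
    exact hsub.elim _ _
  obtain ⟨e₀, h1, h2⟩ := exists_split_iso K k hδ
  refine ⟨e₀ ≪≫ biprod.mapIso φ.symm (Iso.refl _), ?_, ?_⟩
  · have h3 : ((tS R).truncLTι (k - d + 2)).app K = φ.hom ≫ ((tS R).truncLTι (k + 1)).app K :=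
      ((tS R).natTransTruncLTOfLE_ι_app (k - d + 2) (k + 1) hab K).symm
    rw [h3]
    simp only [Iso.trans_hom, Category.assoc, biprod.mapIso_hom, Iso.symm_hom, Iso.refl_hom]
    rw [reassoc_of% h1, biprod.inl_map, Iso.hom_inv_id_assoc]
  · simp only [Iso.trans_hom, Category.assoc, biprod.mapIso_hom, Iso.symm_hom, Iso.refl_hom,
      biprod.map_snd, Category.comp_id]
    exact h2

end Groth.Agent.Lib.Helper18.DR
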