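import Mathlib
import Groth.Agent.Lib.Helper14.TorVanish
import Groth.Agent.Lib.Helper18.DRReg3
import Groth.Prelude.Def_MoreMor

/-!
# `Tor` vanishing from projective dimension (helper18)
-/

set_option autoImplicit false
set_option linter.style.haveILetI false
universe u
open CategoryTheory CategoryTheory.Limits
open Groth.Agent.Lib.Helper14.TorKer

namespace Groth.Agent.Lib.Helper18.DR

variable {A : Type u} [CommRing A]

/-- `Tor_p(M, N) = 0` for `p > d` when `M` has projective dimension `≤ d` -/
theorem torZ_of_pd (d : ℕ) : ∀ (M : Type u) [AddCommGroup M] [Module A M]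
    [HasProjectiveDimensionLT (ModuleCat.of A M) (d + 1)] (N : Type u) [AddCommGroup N]
    [Module A N] (p : ℕ), d < p → TorZ A p M N := by
  induction d with
  | zero =>
    intro M _ _ hM N _ _ p hp
    have hproj : Projective (ModuleCat.of A M) := by
      rw [projective_iff_hasProjectiveDimensionLT_one]
      exact hM
    rw [← IsProjective.iff_projective] at hproj
    haveI : Module.Projective A M := hproj
    obtain ⟨q, rfl⟩ : ∃ q, p = q + 1 := ⟨p - 1, by omega⟩
    exact torZ_of_flat_left q
  | succ d ih =>
    intro M _ _ hM N _ _ p hp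
    let f : (M →₀ A) →ₗ[A] M := Finsupp.linearCombination A (id : M → M)
    have hf : Function.Surjective f := Finsupp.linearCombination_id_surjective A M
    let S := f.shortComplexKer
    have S_exact := LinearMap.shortExact_shortComplexKer hf
    have proj : Projective S.X₂ := by
      rw [← IsProjective.iff_projective]
      exact (inferInstance : Module.Projective A (M →₀ A))
    haveI : HasProjectiveDimensionLT (ModuleCat.of A (LinearMap.ker f)) (d + 1) :=
      (S_exact.hasProjectiveDimensionLT_X₃_iff d proj).1 hM
    obtain ⟨q, rfl⟩ : ∃ q, p = q + 1 := ⟨p - 1, by omega⟩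
    have h1 : TorZ A q (LinearMap.ker f) N := ih (LinearMap.ker f) N q (by omega)
    have h2 : TorZ A (q + 1) (M →₀ A) N := torZ_of_flat_left q
    exact torZ_quot_left (LinearMap.ker f).subtype f (LinearMap.exact_subtype_ker_map f)
      (LinearMap.ker f).injective_subtype hf q h2 h1

/-- S7069 -/
theorem isPerfectHom_of_finiteType_of_isRegularRing (A B : Type u) [CommRing A] [CommRing B]
    [Algebra A B] [IsRegularRing A] (hdim : ringKrullDim A < ⊤) [Algebra.FiniteType A B] :
    MoreMor.IsPerfectHom A B := by
  refine ⟨?_, ?_⟩
  · obtain ⟨n, φ, hφ⟩ := Algebra.FiniteType.iff_quotient_mvPolynomial''.1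
      (inferInstance : Algebra.FiniteType A B)
    refine ⟨n, φ, hφ, ?_⟩
    letI := φ.toRingHom.toAlgebra
    haveI : Module.Finite (MvPolynomial (Fin n) A) B :=
      Module.Finite.of_surjective (Algebra.linearMap (MvPolynomial (Fin n) A) B) hφ
    exact isPseudoCoherentModule'_of_finite_noetherian B
  · rcases subsingleton_or_nontrivial A with hA | hA
    · refine ⟨0, fun N _ _ p _ => ?_⟩
      haveI : Subsingleton B := Module.subsingleton A B
      haveI : Module.Flat A B := inferInstance
      obtain ⟨q, rfl⟩ : ∃ q, p = q + 1 := ⟨p - 1, by omega⟩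
      exact torZ_of_flat_left q
    · obtain ⟨D, hD⟩ : ∃ D : ℕ, ringKrullDim A = (D : WithBot ℕ∞) := by
        have hbot : ringKrullDim A ≠ ⊥ := fun h =>
          absurd (h ▸ ringKrullDim_nonneg_of_nontrivial (R := A)) (by simp)
        generalize ringKrullDim A = x at hdim hbot
        induction x with
        | bot => exact absurd rfl hbot
        | coe y =>
          induction y with
          | top => exact absurd hdim (lt_irrefl _)
          | coe n => exact ⟨n, rfl⟩
      refine ⟨D, fun N _ _ p hp => ?_⟩
      haveI := globalDim_le_of_regular (R := A)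
        (fun p => IsRegularRing.isRegularLocalRing_localization p.asIdeal) D hD B
      exact torZ_of_pd D B N p hp

end Groth.Agent.Lib.Helper18.DR
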