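import Mathlib
import Groth.Agent.Lib.Helper18.DRTorZ
import Groth.Agent.Lib.Helper18.DRRes

/-!
# Tor dimension of a module versus tor amplitude of `M[0]` (helper18)
-/

set_option autoImplicit false
set_option linter.style.haveILetI false
universe u
open CategoryTheory CategoryTheory.Limits DerivedCategory
open Groth.Agent.Lib.Helper14.TorKer

attribute [local instance] HasDerivedCategory.standard

namespace Groth.Agent.Lib.Helper18.DR

variable {R : Type u} [CommRing R]

section Shift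

variable (G : DRing.Cx R) (i j k : ℤ)

/-- the map `coker (G^i → G^j) → G^k` induced by the differential -/
noncomputable def cokToNext : cok G i j →ₗ[R] G.X k :=
  (LinearMap.range (G.d i j).hom).liftQ (G.d j k).hom (by
    rintro _ ⟨x, rfl⟩
    rw [LinearMap.mem_ker]
    have h : (G.d j k).hom ∘ₗ (G.d i j).hom = 0 := by
      rw [← ModuleCat.hom_comp, G.d_comp_d]; rfl
    exact LinearMap.congr_fun h x)

lemma cokToNext_mk (x : G.X j) :
    cokToNext G i j k (Submodule.Quotient.mk x) = (G.d j k).hom x := rfl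

variable {G i j k}

lemma cokToNext_injective (hex : Function.Exact (G.d i j).hom (G.d j k).hom) :
    Function.Injective (cokToNext G i j k) := by
  rw [injective_iff_map_eq_zero]
  intro x hx
  obtain ⟨x, rfl⟩ := Submodule.Quotient.mk_surjective _ x
  rw [cokToNext_mk] at hx
  obtain ⟨y, rfl⟩ := (hex x).mp hx
  exact (Submodule.Quotient.mk_eq_zero _).mpr ⟨y, rfl⟩

lemma cokToNext_exact : Function.Exact (cokToNext G i j k)
    (LinearMap.range (G.d j k).hom).mkQ := by
  intro y
  rw [Submodule.mkQ_apply, Submodule.Quotient.mk_eq_zero]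
  constructor
  · rintro ⟨x, rfl⟩
    exact ⟨Submodule.Quotient.mk x, rfl⟩
  · rintro ⟨x, rfl⟩
    obtain ⟨x, rfl⟩ := Submodule.Quotient.mk_surjective _ x
    exact ⟨x, rfl⟩

/-- dimension shifting along an exact spot of a complex of flat modules -/
lemma torZ_cok_shift (hex : Function.Exact (G.d i j).hom (G.d j k).hom) [Module.Flat R (G.X k)]
    (N : Type u) [AddCommGroup N] [Module R N] (n : ℕ) :
    TorZ R (n + 1) (cok G i j) N ↔ TorZ R (n + 2) (cok G j k) N := by
  constructor
  · intro h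
    exact torZ_quot_left (cokToNext G i j k) (LinearMap.range (G.d j k).hom).mkQ cokToNext_exact
      (cokToNext_injective hex) (Submodule.mkQ_surjective _) (n + 1) (torZ_of_flat_left (n + 1)) h
  · intro h
    exact torZ_sub_left (cokToNext G i j k) (LinearMap.range (G.d j k).hom).mkQ cokToNext_exact
      (cokToNext_injective hex) (Submodule.mkQ_surjective _) (n + 1) h (torZ_of_flat_left n)

end Shift

/-- iterated dimension shifting -/
lemma torZ_cok_iff (G : DRing.Cx R) (hflat : ∀ i, Module.Flat R (G.X i))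
    (hex : ∀ i j k : ℤ, i + 1 = j → j + 1 = k → j < 0 →
      Function.Exact (G.d i j).hom (G.d j k).hom)
    (N : Type u) [AddCommGroup N] [Module R N] (n : ℕ) :
    ∀ (d : ℕ) (a : ℤ), a = -(d : ℤ) →
      (TorZ R (n + 1) (cok G (a - 1) a) N ↔ TorZ R (n + 1 + d) (cok G (-1) 0) N) := by
  intro d
  induction d generalizing n with
  | zero =>
    intro a ha
    obtain rfl : a = 0 := by simpa using ha
    simp
  | succ d ih =>
    intro a ha
    haveI := hflat (a + 1)
    rw [torZ_cok_shift (hex (a - 1) a (a + 1) (by omega) rfl (by push_cast at ha; omega)) N n]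
    have h1 := ih (n + 1) (a + 1) (by push_cast at ha ⊢; omega)
    rw [show a + 1 - 1 = a by omega] at h1
    rw [h1]
    rw [show n + 1 + 1 + d = n + 1 + (d + 1) by omega]

/-- a flat resolution of `M` -/
lemma exists_flat_resolution (M : Type u) [AddCommGroup M] [Module R M] :
    ∃ P : DRing.Cx R, DRing.VanishesAbove P 0 ∧ (∀ i, Module.Free R (P.X i)) ∧
      Nonempty (DRing.toD P ≅ Dual.inD R M) ∧
      (∀ i j k : ℤ, i + 1 = j → j + 1 = k → j < 0 →
        Function.Exact (P.d i j).hom (P.d j k).hom) ∧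
      Nonempty (cok P (-1) 0 ≃ₗ[R] M) := by
  obtain ⟨P, hP, hfree, ⟨e⟩⟩ := exists_free_resolution (Sg 0 (ModuleCat.of R M)) 0
  refine ⟨P, hP, hfree, ⟨e⟩, ?_, ?_⟩
  · intro i j k hij hjk hj
    rw [← isZero_H_toD_iff P i j k hij hjk]
    exact (isZero_of_isGE (Sg 0 (ModuleCat.of R M)) 0 j hj).of_iso ((H R j).mapIso e)
  · have hd : P.d 0 1 = 0 := (hP 1 (by norm_num)).eq_of_tgt _ _
    let e1 : (H R 0).obj (DRing.toD P) ≅ P.homology 0 :=
      (DerivedCategory.homologyFunctorFactors (ModuleCat.{u} R) 0).app P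
    let e2 : P.homology 0 ≅ P.opcycles 0 := P.isoHomologyι 0 1 (by simp) hd
    let e3 : P.opcycles 0 ≅ ModuleCat.of R (cok P (-1) 0) := opcyclesIsoCok P (-1) 0 (by norm_num)
    let e4 : (H R 0).obj (DRing.toD P) ≅ ModuleCat.of R M :=
      (H R 0).mapIso e ≪≫ HSg 0 (ModuleCat.of R M)
    exact ⟨(e3.symm ≪≫ e2.symm ≪≫ e1.symm ≪≫ e4).toLinearEquiv⟩

/-- S6946 -/
theorem hasTorDimLE_iff_hasTorAmplitudeIn_single (R : Type u) [CommRing R] (M : Type u)
    [AddCommGroup M] [Module R M] (d : ℕ) :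
    (DRing.HasTorDimLE R d M ↔ DRing.HasTorAmplitudeIn R (-(d : ℤ)) 0 (Dual.inD R M)) ∧
      (DRing.HasTorDimLE R 0 M ↔ Module.Flat R M) := by
  refine ⟨?_, ?_⟩
  · obtain ⟨P, hP, hfree, ⟨e⟩, hex, ⟨eM⟩⟩ := exists_flat_resolution (R := R) M
    have hflat : ∀ i, Module.Flat R (P.X i) := fun i => by haveI := hfree i; infer_instance
    constructor
    · intro h
      have hcok : Module.Flat R (cok P (-(d : ℤ) - 1) (-(d : ℤ))) := by
        apply flat_of_torZ
        intro I
        rw [torZ_cok_iff P hflat hex (R ⧸ I) 0 d (-(d : ℤ)) rfl]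
        exact torZ_of_equiv_left eM.symm (h (R ⧸ I) (0 + 1 + d) (by omega))
      refine hasTorAmplitudeIn_of_iso e
        (hasTorAmplitudeIn_of_flat_cok P 0 (-(d : ℤ)) 0 (-(d : ℤ) - 1) (by omega) hP hflat
          (fun i hi => ?_) (fun i hi => ?_) hcok)
      · exact (isZero_of_isGE (Sg 0 (ModuleCat.of R M)) 0 i (by omega)).of_iso ((H R i).mapIso e)
      · exact (isZero_of_isLE (Sg 0 (ModuleCat.of R M)) 0 i hi).of_iso ((H R i).mapIso e)
    · intro h N _ _ p hp
      have h1 : DRing.HasTorAmplitudeIn R (-(d : ℤ)) 0 (DRing.toD P) :=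
        hasTorAmplitudeIn_of_iso e.symm h
      haveI : Module.Flat R (cok P (-(d : ℤ) - 1) (-(d : ℤ))) :=
        flat_cok_of_flat_of_hasTorAmplitudeIn P 0 hP hflat (-(d : ℤ)) 0 h1
      obtain ⟨n, rfl⟩ : ∃ n, p = n + 1 + d := ⟨p - 1 - d, by omega⟩
      have h2 : TorZ R (n + 1 + d) (cok P (-1) 0) N :=
        (torZ_cok_iff P hflat hex N n d (-(d : ℤ)) rfl).1 (torZ_of_flat_left n)
      exact torZ_of_equiv_left eM h2
  · constructor
    · intro h
      apply flat_of_torZ
      intro I
      exact h (R ⧸ I) 1 zero_lt_one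
    · intro h N _ _ p hp
      obtain ⟨n, rfl⟩ : ∃ n, p = n + 1 := ⟨p - 1, by omega⟩
      exact torZ_of_flat_left n

end Groth.Agent.Lib.Helper18.DR

namespace Groth.Agent.Lib.Helper18.DR

variable {R : Type u} [CommRing R]

/-- S5612 -/
theorem finiteTorDim_iff_bounded_of_forall_module_finiteTorDim {A : Type u} [CommRing A]
    (hA : ∀ (M : Type u) [AddCommGroup M] [Module A M], DRing.HasFiniteTorDim A M)
    (K : Dual.D A) :
    (DRing.HasFiniteTorDimCx A K ↔
        ∃ a b : ℤ, ∀ i : ℤ, i < a ∨ b < i → Subsingleton (Dual.HD A K i)) ∧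
      (DRing.IsPerfect A K ↔
        (∃ a b : ℤ, ∀ i : ℤ, i < a ∨ b < i → Subsingleton (Dual.HD A K i)) ∧
          DRing.IsPseudoCoherent' A K) := by
  have part1 : DRing.HasFiniteTorDimCx A K ↔
      ∃ a b : ℤ, ∀ i : ℤ, i < a ∨ b < i → Subsingleton (Dual.HD A K i) := by
    constructor
    · rintro ⟨a, b, E, hE, -, ⟨e⟩⟩
      refine ⟨a, b, fun i hi => ?_⟩
      have hz : IsZero ((H A i).obj (DRing.toD E)) := by
        rw [isZero_H_toD_iff_exactAt]
        exact HomologicalComplex.ExactAt.of_isZero (hE i hi)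
      exact ModuleCat.subsingleton_of_isZero (hz.of_iso ((H A i).mapIso e.symm))
    · rintro ⟨a, b, hab⟩
      have hpd : ∀ i : ℤ, ∃ n : ℕ,
          DRing.HasTorAmplitudeIn A (-(n : ℤ)) 0 (Dual.inD A (Dual.HD A K i)) := fun i => by
        obtain ⟨n, hn⟩ := hA (Dual.HD A K i)
        exact ⟨n, (hasTorDimLE_iff_hasTorAmplitudeIn_single A _ n).1.1 hn⟩
      choose n hn using hpd
      let N : ℕ := (Finset.Icc a b).sup n
      refine ⟨a - N, b, hasTorAmplitudeIn_of_cohomology (a - N) b K ⟨a, b, hab⟩ (fun i => ?_)⟩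
      by_cases hi : i < a ∨ b < i
      · haveI := hab i hi
        exact hasTorAmplitudeIn_of_isZero _ ((singleFunctor (ModuleCat.{u} A) 0).map_isZero
          (ModuleCat.isZero_of_subsingleton _)) _ _
      · have hle : n i ≤ N := Finset.le_sup (f := n) (Finset.mem_Icc.2 ⟨by omega, by omega⟩)
        exact hasTorAmplitudeIn_mono (hn i) (by omega) (by omega)
  refine ⟨part1, ?_⟩
  rw [isPerfect_iff_pc_and_finiteTorDim, part1]
  exact and_comm

end Groth.Agent.Lib.Helper18.DR
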