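import Mathlib
import Groth.Agent.Lib.Helper18.DRTorZ2
import Groth.Agent.Lib.Helper18.DRRel4
import Groth.Agent.Lib.Helper18.DRNak

/-!
# Tor dimension of flat modules over an algebra of finite tor dimension (helper18)
-/

set_option autoImplicit false
set_option linter.style.haveILetI false
universe u
open CategoryTheory CategoryTheory.Limits CategoryTheory.Pretriangulated DerivedCategory TensorProduct
open Groth.Agent.Lib.Helper14.TorKer

attribute [local instance] HasDerivedCategory.standard

namespace Groth.Agent.Lib.Helper18.DR

section LA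

variable {A B : Type u} [CommRing A] [CommRing B] [Algebra A B]
  (F : Type u) [AddCommGroup F] [Module A F] [Module B F] [IsScalarTower A B F]

lemma cancelBaseChange_naturality_module {M M' : Type u} [AddCommGroup M] [Module A M]
    [AddCommGroup M'] [Module A M'] (f : M →ₗ[A] M') (z : F ⊗[B] (B ⊗[A] M)) :
    AlgebraTensorModule.cancelBaseChange A B B F M' (((f.baseChange B).lTensor F) z) =
      (f.lTensor F) (AlgebraTensorModule.cancelBaseChange A B B F M z) := by
  induction z using TensorProduct.induction_on with
  | zero => simp
  | add x y hx hy => simp only [map_add, hx, hy]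
  | tmul k y =>
    induction y using TensorProduct.induction_on with
    | zero => simp
    | add x y hx hy => simp only [tmul_add, map_add, hx, hy]
    | tmul s x => simp

/-- exactness after `B ⊗_A -` implies exactness after `F ⊗_A -` for a flat `B`-module `F` -/
lemma lTensor_exact_of_flat_algebra [Module.Flat B F] {X Y Z : Type u} [AddCommGroup X]
    [Module A X] [AddCommGroup Y] [Module A Y] [AddCommGroup Z] [Module A Z]
    (f : X →ₗ[A] Y) (g : Y →ₗ[A] Z) (h : Function.Exact (f.lTensor B) (g.lTensor B)) :
    Function.Exact (f.lTensor F) (g.lTensor F) := by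
  have h1 : Function.Exact (f.baseChange B) (g.baseChange B) := h
  have h2 := Module.Flat.lTensor_exact F h1
  exact exact_of_ladder'
    (AlgebraTensorModule.cancelBaseChange A B B F X).symm.toAddEquiv
    (AlgebraTensorModule.cancelBaseChange A B B F Y).symm.toAddEquiv
    (AlgebraTensorModule.cancelBaseChange A B B F Z).symm.toAddEquiv
    (fun x => by
      apply (AlgebraTensorModule.cancelBaseChange A B B F Y).injective
      change _ = (AlgebraTensorModule.cancelBaseChange A B B F Y)
        (((f.baseChange B).lTensor F) ((AlgebraTensorModule.cancelBaseChange A B B F X).symm x))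
      rw [cancelBaseChange_naturality_module]
      simp)
    (fun x => by
      apply (AlgebraTensorModule.cancelBaseChange A B B F Z).injective
      change _ = (AlgebraTensorModule.cancelBaseChange A B B F Z)
        (((g.baseChange B).lTensor F) ((AlgebraTensorModule.cancelBaseChange A B B F Y).symm x))
      rw [cancelBaseChange_naturality_module]
      simp) h2

omit [Algebra A B] [Module B F] [IsScalarTower A B F] in
lemma comm_rTensor {X Y : Type u} [AddCommGroup X] [Module A X] [AddCommGroup Y] [Module A Y]
    (f : X →ₗ[A] Y) (z : X ⊗[A] F) :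
    TensorProduct.comm A Y F ((f.rTensor F) z) = (f.lTensor F) (TensorProduct.comm A X F z) := by
  induction z using TensorProduct.induction_on with
  | zero => simp
  | add x y hx hy => simp only [map_add, hx, hy]
  | tmul x m => simp

lemma rTensor_exact_of_flat_algebra [Module.Flat B F] {X Y Z : Type u} [AddCommGroup X]
    [Module A X] [AddCommGroup Y] [Module A Y] [AddCommGroup Z] [Module A Z]
    (f : X →ₗ[A] Y) (g : Y →ₗ[A] Z) (h : Function.Exact (f.rTensor B) (g.rTensor B)) :
    Function.Exact (f.rTensor F) (g.rTensor F) := by
  have h1 : Function.Exact (f.lTensor B) (g.lTensor B) :=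
    exact_of_ladder' (TensorProduct.comm A B X).toAddEquiv
      (TensorProduct.comm A B Y).toAddEquiv (TensorProduct.comm A B Z).toAddEquiv
      (fun x => by
        induction x using TensorProduct.induction_on with
        | zero => simp
        | add x y hx hy => simp only [map_add, hx, hy]
        | tmul x m => simp)
      (fun x => by
        induction x using TensorProduct.induction_on with
        | zero => simp
        | add x y hx hy => simp only [map_add, hx, hy]
        | tmul x m => simp) h
  have h2 := lTensor_exact_of_flat_algebra F f g h1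
  exact exact_of_ladder' (TensorProduct.comm A X F).toAddEquiv
    (TensorProduct.comm A Y F).toAddEquiv (TensorProduct.comm A Z F).toAddEquiv
    (fun x => comm_rTensor F f x) (fun x => comm_rTensor F g x) h2

end LA

section TD

variable {A : Type u} [CommRing A]

lemma isZero_T_iff (Q : ChainComplex (ModuleCat.{u} A) ℕ) (M : ModuleCat.{u} A) (n : ℕ) :
    IsZero (CohIII.T Q (n + 1) M) ↔
      Function.Exact ((Q.d (n + 2) (n + 1)).hom.rTensor M) ((Q.d (n + 1) n).hom.rTensor M) := by
  rw [← HomologicalComplex.exactAt_iff_isZero_homology,
    HomologicalComplex.exactAt_iff' _ (n + 2) (n + 1) n (by simp) (by simp)]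
  exact ShortComplex.ShortExact.moduleCat_exact_iff_function_exact _

/-- a flat module over an algebra of tor dimension `≤ d` has tor dimension `≤ d` -/
theorem hasTorDimLE_of_flat_algebra {B : Type u} [CommRing B] [Algebra A B] (d : ℕ)
    (hB : DRing.HasTorDimLE A d B) (F : Type u) [AddCommGroup F] [Module A F] [Module B F]
    [IsScalarTower A B F] [Module.Flat B F] : DRing.HasTorDimLE A d F := by
  intro N _ _ p hp
  obtain ⟨n, rfl⟩ : ∃ n, p = n + 1 := ⟨p - 1, by omega⟩
  let Q := ProjectiveResolution.of (ModuleCat.of A N)
  have h1 : TorZ A (n + 1) B N := hB N (n + 1) hp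
  change TorZ A (n + 1) F N
  rw [torZ_iff_isZero Q, isZero_T_iff] at h1 ⊢
  exact rTensor_exact_of_flat_algebra F _ _ h1

/-- S6947 -/
theorem hasTorAmplitudeIn_restrictScalars_of_torDim_algebra {A B : Type u} [CommRing A]
    [CommRing B] [Algebra A B] (d : ℕ)
    (hB : DRing.HasTorAmplitudeIn A (-(d : ℤ)) 0 (Dual.inD A B)) (K : Dual.D B)
    (a b : ℤ) (hK : DRing.HasTorAmplitudeIn B a b K) :
    DRing.HasTorAmplitudeIn A (a - d) b ((DRing.restrictD (algebraMap A B)).obj K) := by
  obtain ⟨E, hE, hEf, ⟨e⟩⟩ := hK
  have hBd : DRing.HasTorDimLE A d B := (hasTorDimLE_iff_hasTorAmplitudeIn_single A B d).1.2 hB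
  refine hasTorAmplitudeIn_of_iso ((DRing.restrictD (algebraMap A B)).mapIso e) ?_
  refine bounded_induction (fun X => DRing.HasTorAmplitudeIn A (a - d) b
    ((DRing.restrictD (algebraMap A B)).obj X)) ?_ ?_ ?_ E a b hE ?_
  · intro X Y e h
    exact hasTorAmplitudeIn_of_iso ((DRing.restrictD _).mapIso e) h
  · intro X hX
    exact hasTorAmplitudeIn_of_isZero _ ((DRing.restrictD _).map_isZero hX) _ _
  · intro T hT h1 h3
    exact (hasTorAmplitudeIn_triangle (a - d) b _
      ((DRing.restrictD (algebraMap A B)).map_distinguished _ hT)).2.1 h1 h3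
  · intro i hi1 hi2
    refine hasTorAmplitudeIn_of_iso (restrictDSgIso (algebraMap A B) i (E.X i)).symm ?_
    apply hasTorAmplitudeIn_Sg
    haveI : Module.Flat B (E.X i) := hEf i
    letI : Module A (E.X i) := Module.compHom (E.X i) (algebraMap A B)
    haveI : IsScalarTower A B (E.X i) := IsScalarTower.of_algebraMap_smul (fun r x => rfl)
    have h1 := hasTorDimLE_of_flat_algebra d hBd (E.X i)
    have h2 := (hasTorDimLE_iff_hasTorAmplitudeIn_single A (E.X i) d).1.1 h1
    let e' : (E.X i) ≃ₗ[A] resM (algebraMap A B) (E.X i) :=
      { toFun := fun x => x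
        invFun := fun x => x
        map_add' := fun _ _ => rfl
        map_smul' := fun _ _ => rfl
        left_inv := fun _ => rfl
        right_inv := fun _ => rfl }
    exact hasTorAmplitudeIn_mono (hasTorAmplitudeIn_of_iso
      ((singleFunctor (ModuleCat.{u} A) 0).mapIso e'.toModuleIso) h2) (by omega) (by omega)

end TD

end Groth.Agent.Lib.Helper18.DR
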