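import Mathlib

/-!
# Primes of `Ω ⊗[k] κ` for a finite extension `κ / k` and an algebraically closed `Ω`
(helper18, for helper22's S6556)
-/

set_option autoImplicit false
universe u

open TensorProduct

namespace Groth.Agent.Lib.Helper18.TensorPrimes

variable (k κ Ω : Type u) [Field k] [Field κ] [Algebra k κ] [Field Ω] [Algebra k Ω]

/-- evaluation `a ⊗ x ↦ a * φ x` -/
noncomputable def ev (φ : κ →ₐ[k] Ω) : Ω ⊗[k] κ →ₐ[Ω] Ω :=
  Algebra.TensorProduct.lift (AlgHom.id Ω Ω) φ (fun _ _ => Commute.all _ _)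

@[simp] lemma ev_tmul (φ : κ →ₐ[k] Ω) (a : Ω) (x : κ) : ev k κ Ω φ (a ⊗ₜ x) = a * φ x := by
  simp [ev]

/-- the prime attached to an embedding -/
noncomputable def toPrime (φ : κ →ₐ[k] Ω) : PrimeSpectrum (Ω ⊗[k] κ) :=
  ⟨RingHom.ker (ev k κ Ω φ).toRingHom, RingHom.ker_isPrime _⟩

lemma toPrime_injective : Function.Injective (toPrime k κ Ω) := by
  intro φ ψ h
  ext x
  have h1 : ((1 : Ω) ⊗ₜ[k] x - (φ x) ⊗ₜ[k] (1 : κ)) ∈ (toPrime k κ Ω φ).asIdeal := by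
    change _ ∈ RingHom.ker (ev k κ Ω φ).toRingHom
    rw [RingHom.mem_ker]
    change ev k κ Ω φ _ = 0
    rw [map_sub, ev_tmul, ev_tmul, map_one, one_mul, mul_one, sub_self]
  rw [h] at h1
  change _ ∈ RingHom.ker (ev k κ Ω ψ).toRingHom at h1
  rw [RingHom.mem_ker] at h1
  change ev k κ Ω ψ _ = 0 at h1
  rw [map_sub, ev_tmul, ev_tmul, map_one, one_mul, mul_one, sub_eq_zero] at h1
  exact h1.symm

variable [FiniteDimensional k κ] [IsAlgClosed Ω]

lemma toPrime_surjective : Function.Surjective (toPrime k κ Ω) := by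
  intro Q
  haveI : Module.Finite Ω (Ω ⊗[k] κ) := inferInstance
  haveI : IsArtinianRing (Ω ⊗[k] κ) := IsArtinianRing.of_finite Ω _
  haveI hmax : Q.asIdeal.IsMaximal := IsArtinianRing.isMaximal_of_isPrime Q.asIdeal
  letI : Field ((Ω ⊗[k] κ) ⧸ Q.asIdeal) := Ideal.Quotient.field Q.asIdeal
  haveI : Module.Finite Ω ((Ω ⊗[k] κ) ⧸ Q.asIdeal) :=
    Module.Finite.of_surjective (Ideal.Quotient.mkₐ Ω Q.asIdeal).toLinearMap
      (Ideal.Quotient.mkₐ_surjective Ω Q.asIdeal)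
  haveI : Algebra.IsIntegral Ω ((Ω ⊗[k] κ) ⧸ Q.asIdeal) := Algebra.IsIntegral.of_finite _ _
  have hbij : Function.Bijective (algebraMap Ω ((Ω ⊗[k] κ) ⧸ Q.asIdeal)) :=
    IsAlgClosed.algebraMap_bijective_of_isIntegral
  let e : Ω ≃ₐ[Ω] ((Ω ⊗[k] κ) ⧸ Q.asIdeal) :=
    AlgEquiv.ofBijective (Algebra.ofId Ω _) hbij
  let π : Ω ⊗[k] κ →ₐ[Ω] Ω := (e.symm : _ →ₐ[Ω] Ω).comp (Ideal.Quotient.mkₐ Ω Q.asIdeal)
  let φ : κ →ₐ[k] Ω := (π.restrictScalars k).comp Algebra.TensorProduct.includeRight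
  have hπ : ev k κ Ω φ = π := by
    apply Algebra.TensorProduct.ext'
    intro a x
    rw [ev_tmul]
    have h1 : a ⊗ₜ[k] x = a • ((1 : Ω) ⊗ₜ[k] x) := by
      rw [TensorProduct.smul_tmul', smul_eq_mul, mul_one]
    rw [h1, map_smul, smul_eq_mul]
    rfl
  refine ⟨φ, PrimeSpectrum.ext ?_⟩
  change RingHom.ker (ev k κ Ω φ).toRingHom = Q.asIdeal
  rw [hπ]
  ext z
  rw [RingHom.mem_ker]
  change e.symm (Ideal.Quotient.mk Q.asIdeal z) = 0 ↔ _
  rw [map_eq_zero_iff _ e.symm.injective, Ideal.Quotient.eq_zero_iff_mem]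

theorem card_primeSpectrum_tensor [Algebra.IsAlgebraic k Ω] :
    Nat.card (PrimeSpectrum (Ω ⊗[k] κ)) = Field.finSepDegree k κ := by
  rw [Field.finSepDegree_eq_of_isAlgClosed k κ Ω]
  exact (Nat.card_congr (Equiv.ofBijective (toPrime k κ Ω)
    ⟨toPrime_injective k κ Ω, toPrime_surjective k κ Ω⟩)).symm

instance finite_primeSpectrum_tensor : Finite (PrimeSpectrum (Ω ⊗[k] κ)) := by
  haveI : Finite (κ →ₐ[k] Ω) := inferInstance
  exact Finite.of_surjective _ (toPrime_surjective k κ Ω)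

end Groth.Agent.Lib.Helper18.TensorPrimes
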