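import Mathlib

/-!
# Weakly associated maximal ideal of a reduced local ring
-/

namespace Groth.Agent.Lib.Helper18.ReducedLocalAss

variable {R : Type*} [CommRing R] [IsLocalRing R]

/-- In a reduced local ring, the maximal ideal is the radical of the annihilator of some element
iff it is the only prime ideal. -/
theorem exists_radical_ann_eq_maximalIdeal_iff [IsReduced R] :
    (∃ b : R, Ideal.radical (LinearMap.ker (LinearMap.toSpanSingleton R R b)) =
      IsLocalRing.maximalIdeal R) ↔
      ∀ q : Ideal R, q.IsPrime → q = IsLocalRing.maximalIdeal R := by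
  constructor
  · rintro ⟨b, hb⟩ q hq
    have hmem : ∀ a : R, a ∈ LinearMap.ker (LinearMap.toSpanSingleton R R b) ↔ a * b = 0 := by
      intro a
      rw [LinearMap.mem_ker, LinearMap.toSpanSingleton_apply, smul_eq_mul]
    -- b ≠ 0
    have hb0 : b ≠ 0 := by
      intro h0
      have : (1 : R) ∈ Ideal.radical (LinearMap.ker (LinearMap.toSpanSingleton R R b)) :=
        Ideal.le_radical ((hmem 1).mpr (by rw [h0, mul_zero]))
      rw [hb] at this
      exact (IsLocalRing.maximalIdeal.isMaximal R).ne_top
        ((Ideal.eq_top_iff_one _).mpr this)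
    -- some minimal prime avoids b
    have hnil : b ∉ nilradical R := by
      rw [nilradical_eq_zero R]
      exact hb0
    rw [nilradical_eq_sInf, Ideal.mem_sInf] at hnil
    push Not at hnil
    obtain ⟨P, hP, hbP⟩ := hnil
    have hPprime : P.IsPrime := hP
    -- ann b ⊆ P
    have hle : LinearMap.ker (LinearMap.toSpanSingleton R R b) ≤ P := by
      intro a ha
      have h0 : a * b ∈ P := by rw [(hmem a).mp ha]; exact P.zero_mem
      exact (hPprime.mem_or_mem h0).resolve_right hbP
    have hmP : IsLocalRing.maximalIdeal R ≤ P := by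
      rw [← hb]
      exact hPprime.radical_le_iff.mpr hle
    have hPm : P = IsLocalRing.maximalIdeal R :=
      le_antisymm (IsLocalRing.le_maximalIdeal hPprime.ne_top) hmP
    -- so the nilradical ... every prime contains a minimal prime; show q = m
    -- the maximal ideal is contained in every prime containing ann b; use b ∉ q?
    -- Instead: m = P is a prime with b ∉ m. For arbitrary prime q: q ≤ m.
    -- show m ≤ q: take a ∈ m; a^n * b = 0 ∈ q; b ∉ q? not nec.
    -- use: m ⊆ radical(ann b) and b ∉ m means b is a unit, so ann b = 0, so m = nilradical = 0.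
    have hbunit : IsUnit b := by
      by_contra hnu
      exact hbP (hPm ▸ (IsLocalRing.mem_maximalIdeal b).mpr hnu)
    have hann : LinearMap.ker (LinearMap.toSpanSingleton R R b) = ⊥ := by
      rw [eq_bot_iff]
      intro a ha
      have := (hmem a).mp ha
      rw [Submodule.mem_bot]
      exact (hbunit.mul_left_eq_zero).mp this
    have hm0 : IsLocalRing.maximalIdeal R = ⊥ := by
      rw [← hb, hann]
      exact (Ideal.radical_eq_iff.mpr (Ideal.isRadical_bot (R := R)) )
    apply le_antisymm (IsLocalRing.le_maximalIdeal hq.ne_top)
    rw [hm0]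
    exact bot_le
  · intro h
    refine ⟨1, ?_⟩
    have hker : LinearMap.ker (LinearMap.toSpanSingleton R R (1 : R)) = ⊥ := by
      rw [eq_bot_iff]
      intro a ha
      rw [LinearMap.mem_ker, LinearMap.toSpanSingleton_apply, smul_eq_mul, mul_one] at ha
      rw [Submodule.mem_bot]; exact ha
    rw [hker]
    -- radical ⊥ = nilradical = sInf primes = m
    change (⊥ : Ideal R).radical = _
    rw [Ideal.radical_eq_sInf]
    apply le_antisymm
    · apply sInf_le
      exact ⟨bot_le, (IsLocalRing.maximalIdeal.isMaximal R).isPrime⟩
    · apply le_sInf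
      rintro q ⟨-, hq⟩
      rw [h q hq]

end Groth.Agent.Lib.Helper18.ReducedLocalAss
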