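import Mathlib

/-!
# Formal exponential and logarithm: basic identities

* `eq_of_derivative_eq_mul`: uniqueness for the ODE `y' = y * c`.
* `exp_subst_log`, `log_subst_exp_sub_one`.
* `exp_subst_add`: `exp(a + b) = exp(a) exp(b)`.
-/

namespace Groth.Agent.Lib.Helper18.ExpLog

open PowerSeries

/-- ODE uniqueness: `y' = y * c` with the same constant coefficient. -/
theorem eq_of_derivative_eq_mul {K : Type*} [Field K] [CharZero K] (c y1 y2 : K⟦X⟧)
    (h1 : d⁄dX K y1 = y1 * c) (h2 : d⁄dX K y2 = y2 * c)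
    (h0 : constantCoeff y1 = constantCoeff y2) : y1 = y2 := by
  suffices h : ∀ n, coeff n (y1 - y2) = 0 by
    ext n
    have := h n
    rwa [map_sub, sub_eq_zero] at this
  have hd' : d⁄dX K (y1 - y2) = (y1 - y2) * c := by rw [map_sub, h1, h2, sub_mul]
  intro n
  induction n using Nat.strong_induction_on with
  | _ n ih =>
    cases n with
    | zero => rw [coeff_zero_eq_constantCoeff_apply, map_sub, h0, sub_self]
    | succ n =>
      have h3 := congrArg (coeff n) hd'
      rw [coeff_derivative, coeff_mul] at h3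
      have h4 : ∑ p ∈ Finset.HasAntidiagonal.antidiagonal n,
          coeff p.1 (y1 - y2) * coeff p.2 c = 0 := by
        refine Finset.sum_eq_zero fun p hp => ?_
        rw [ih p.1 (by have := Finset.HasAntidiagonal.mem_antidiagonal.mp hp; omega), zero_mul]
      rw [h4] at h3
      have h5 : ((n : K) + 1) ≠ 0 := by exact_mod_cast Nat.succ_ne_zero n
      exact (mul_eq_zero.mp h3).resolve_right h5

theorem one_subst {K : Type*} [Field K] {a : K⟦X⟧} (ha : HasSubst a) :
    (1 : K⟦X⟧).subst a = 1 := by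
  rw [← coe_substAlgHom ha, map_one]

/-- `(log)' * (1 + X) = 1`. -/
theorem deriv_log_mul : d⁄dX ℚ (log ℚ) * (1 + X) = 1 := by
  rw [deriv_log]
  ext n
  rw [mul_add, mul_one, map_add]
  cases n with
  | zero => simp
  | succ k =>
    rw [coeff_succ_mul_X, coeff_mk, coeff_mk, coeff_one, if_neg (Nat.succ_ne_zero k)]
    simp [pow_succ]

theorem constantCoeff_exp_subst {a : ℚ⟦X⟧} (ha : constantCoeff a = 0) :
    constantCoeff ((exp ℚ).subst a) = 1 := by
  have hsa : HasSubst a := HasSubst.of_constantCoeff_zero' ha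
  have h : (exp ℚ).subst a = (exp ℚ - 1).subst a + 1 := by
    rw [subst_sub hsa, one_subst hsa, sub_add_cancel]
  rw [h, map_add, map_one]
  have := constantCoeff_subst_eq_zero (a := a) ha (exp ℚ - 1) (by simp)
  rw [show constantCoeff ((exp ℚ - 1).subst a) = 0 from this, zero_add]

theorem exp_subst_log : (exp ℚ).subst (log ℚ) = 1 + X := by
  have hlog : HasSubst (log ℚ) := HasSubst.log
  apply eq_of_derivative_eq_mul (d⁄dX ℚ (log ℚ))
  · rw [derivative_subst hlog, derivative_exp]
  · rw [map_add, derivative_one, derivative_X, zero_add, mul_comm, deriv_log_mul]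
  · rw [constantCoeff_exp_subst constantCoeff_log]
    simp

theorem log_subst_exp_sub_one : (log ℚ).subst (exp ℚ - 1) = X := by
  have he : HasSubst (exp ℚ - 1) := HasSubst.exp_sub_one
  apply derivative.ext
  · rw [derivative_subst he, derivative_X, map_sub, derivative_exp, derivative_one, sub_zero]
    have h := congrArg (subst (exp ℚ - 1)) deriv_log_mul
    rw [subst_mul he, subst_add he, subst_X he, one_subst he, add_sub_cancel] at h
    exact h
  · rw [constantCoeff_X]
    have hc : constantCoeff (exp ℚ - 1) = 0 := by simp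
    exact constantCoeff_subst_eq_zero hc _ constantCoeff_log

/-- `exp (a + b) = exp a * exp b` -/
theorem exp_subst_add {a b : ℚ⟦X⟧} (ha : constantCoeff a = 0) (hb : constantCoeff b = 0) :
    (exp ℚ).subst (a + b) = (exp ℚ).subst a * (exp ℚ).subst b := by
  have hsa : HasSubst a := HasSubst.of_constantCoeff_zero' ha
  have hsb : HasSubst b := HasSubst.of_constantCoeff_zero' hb
  have hab : constantCoeff (a + b) = 0 := by rw [map_add, ha, hb, add_zero]
  have hsab : HasSubst (a + b) := HasSubst.of_constantCoeff_zero' hab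
  apply eq_of_derivative_eq_mul (d⁄dX ℚ (a + b))
  · rw [derivative_subst hsab, derivative_exp]
  · rw [Derivation.leibniz, derivative_subst hsa, derivative_subst hsb, derivative_exp, map_add,
      smul_eq_mul, smul_eq_mul]
    ring
  · rw [map_mul, constantCoeff_exp_subst hab, constantCoeff_exp_subst ha,
      constantCoeff_exp_subst hb, mul_one]

/-- `exp 0 = 1` -/
theorem exp_subst_zero : (exp ℚ).subst (0 : ℚ⟦X⟧) = 1 := by
  have h0 : constantCoeff (0 : ℚ⟦X⟧) = 0 := map_zero _
  have h := exp_subst_add h0 h0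
  rw [add_zero] at h
  have hu : IsUnit ((exp ℚ).subst (0 : ℚ⟦X⟧)) := by
    rw [isUnit_iff_constantCoeff, constantCoeff_exp_subst h0]
    exact isUnit_one
  have h2 : (exp ℚ).subst (0 : ℚ⟦X⟧) * 1 = (exp ℚ).subst (0 : ℚ⟦X⟧) * (exp ℚ).subst (0 : ℚ⟦X⟧) := by
    rw [mul_one]; exact h
  exact (hu.mul_left_cancel h2).symm

/-- `exp (Σ a_i) = Π exp (a_i)` -/
theorem exp_subst_sum {ι : Type*} (s : Finset ι) (a : ι → ℚ⟦X⟧)
    (ha : ∀ i ∈ s, constantCoeff (a i) = 0) :
    (exp ℚ).subst (∑ i ∈ s, a i) = ∏ i ∈ s, (exp ℚ).subst (a i) := by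
  classical
  induction s using Finset.induction_on with
  | empty => rw [Finset.sum_empty, Finset.prod_empty, exp_subst_zero]
  | insert i s hi ih =>
    rw [Finset.sum_insert hi, Finset.prod_insert hi, exp_subst_add (ha i (Finset.mem_insert_self i s)),
      ih (fun j hj => ha j (Finset.mem_insert_of_mem hj))]
    rw [map_sum]
    exact Finset.sum_eq_zero fun j hj => ha j (Finset.mem_insert_of_mem hj)

/-- `exp (n • a) = (exp a)^n` -/
theorem exp_subst_nsmul (n : ℕ) {a : ℚ⟦X⟧} (ha : constantCoeff a = 0) :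
    (exp ℚ).subst (n • a) = ((exp ℚ).subst a) ^ n := by
  induction n with
  | zero => rw [zero_smul, pow_zero, exp_subst_zero]
  | succ n ih =>
    have hn : constantCoeff (n • a) = 0 := by rw [map_nsmul, ha, smul_zero]
    rw [succ_nsmul, exp_subst_add hn ha, ih, pow_succ]

/-- if `y` has constant coefficient one and `y' = y * a'`, then `exp a = y`. -/
theorem exp_subst_eq_of_derivative {a y : ℚ⟦X⟧} (ha : constantCoeff a = 0)
    (hy : constantCoeff y = 1) (hd : d⁄dX ℚ y = y * d⁄dX ℚ a) : (exp ℚ).subst a = y := by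
  have hsa : HasSubst a := HasSubst.of_constantCoeff_zero' ha
  apply eq_of_derivative_eq_mul (d⁄dX ℚ a)
  · rw [derivative_subst hsa, derivative_exp]
  · exact hd
  · rw [constantCoeff_exp_subst ha, hy]

/-- general-field version of `constantCoeff_exp_subst`. -/
theorem constantCoeff_exp_subst' {K : Type*} [Field K] [CharZero K] {a : K⟦X⟧}
    (ha : constantCoeff a = 0) : constantCoeff ((exp K).subst a) = 1 := by
  have hsa : HasSubst a := HasSubst.of_constantCoeff_zero' ha
  have h : (exp K).subst a = (exp K - 1).subst a + 1 := by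
    rw [subst_sub hsa, one_subst hsa, sub_add_cancel]
  rw [h, map_add, map_one]
  have := constantCoeff_subst_eq_zero (a := a) ha (exp K - 1) (by simp)
  rw [show constantCoeff ((exp K - 1).subst a) = 0 from this, zero_add]

/-- general-field version of `exp_subst_eq_of_derivative`: if `y` has constant coefficient one
and `y' = y * a'`, then `exp a = y`. -/
theorem exp_subst_eq_of_derivative' {K : Type*} [Field K] [CharZero K] {a y : K⟦X⟧}
    (ha : constantCoeff a = 0) (hy : constantCoeff y = 1) (hd : d⁄dX K y = y * d⁄dX K a) :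
    (exp K).subst a = y := by
  have hsa : HasSubst a := HasSubst.of_constantCoeff_zero' ha
  apply eq_of_derivative_eq_mul (d⁄dX K a)
  · rw [derivative_subst hsa, derivative_exp]
  · exact hd
  · rw [constantCoeff_exp_subst' ha, hy]

/-- the series `Σ_{m ≥ 1} c^m t^m / m = - log (1 - c t)` -/
noncomputable def lam (c : ℚ) : ℚ⟦X⟧ := mk fun m => c ^ m / m

theorem constantCoeff_lam (c : ℚ) : constantCoeff (lam c) = 0 := by
  rw [← coeff_zero_eq_constantCoeff_apply, lam, coeff_mk]
  simp

/-- `exp (- lam c) = 1 - c t` -/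
theorem exp_subst_neg_lam (c : ℚ) : (exp ℚ).subst (-lam c) = 1 - C c * X := by
  apply exp_subst_eq_of_derivative
  · rw [map_neg, constantCoeff_lam, neg_zero]
  · simp
  · have hd : d⁄dX ℚ (lam c) = mk fun m => c ^ (m + 1) := by
      ext m
      rw [coeff_derivative, lam, coeff_mk, coeff_mk]
      have : ((m : ℚ) + 1) ≠ 0 := by exact_mod_cast Nat.succ_ne_zero m
      push_cast
      field_simp
    have h1 : d⁄dX ℚ (1 - C c * X) = -C c := by
      rw [map_sub, derivative_one, zero_sub, Derivation.leibniz, derivative_X, derivative_C,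
        smul_zero, add_zero, smul_eq_mul, mul_one]
    have h2 : (1 - C c * X) * (mk fun m => c ^ (m + 1) : ℚ⟦X⟧) = C c := by
      ext m
      rw [sub_mul, one_mul, map_sub, mul_assoc, coeff_C_mul, coeff_mk, coeff_C]
      cases m with
      | zero => rw [coeff_zero_X_mul, if_pos rfl]; ring
      | succ k =>
        rw [coeff_succ_X_mul, coeff_mk, if_neg (Nat.succ_ne_zero k)]
        ring
    rw [h1, map_neg, hd, mul_neg, h2]


/-- the series `Σ_{j ≥ 1} t^{rj} / j = - log (1 - t^r)` -/
noncomputable def mu (r : ℕ) : ℚ⟦X⟧ := mk fun m => if r ∣ m ∧ m ≠ 0 then (r : ℚ) / m else 0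

theorem constantCoeff_mu (r : ℕ) : constantCoeff (mu r) = 0 := by
  rw [← coeff_zero_eq_constantCoeff_apply, mu, coeff_mk]
  simp

/-- `exp (- mu r) = 1 - t^r` -/
theorem exp_subst_neg_mu (r : ℕ) (hr : 1 ≤ r) : (exp ℚ).subst (-mu r) = 1 - X ^ r := by
  apply exp_subst_eq_of_derivative
  · rw [map_neg, constantCoeff_mu, neg_zero]
  · rw [map_sub, map_one, map_pow, constantCoeff_X, zero_pow (by omega), sub_zero]
  · have hd : d⁄dX ℚ (mu r) = mk fun m => if r ∣ m + 1 then (r : ℚ) else 0 := by
      ext m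
      rw [coeff_derivative, mu, coeff_mk, coeff_mk]
      have hm : ((m : ℚ) + 1) ≠ 0 := by exact_mod_cast Nat.succ_ne_zero m
      by_cases h : r ∣ m + 1
      · rw [if_pos ⟨h, Nat.succ_ne_zero m⟩, if_pos h]
        push_cast
        field_simp
      · rw [if_neg (fun h' => h h'.1), if_neg h, zero_mul]
    have h1 : d⁄dX ℚ (1 - X ^ r) = -(C (r : ℚ) * X ^ (r - 1)) := by
      rw [map_sub, derivative_one, zero_sub, derivative_pow, derivative_X, mul_one]
      congr 2
    have h2 : (1 - X ^ r) * (mk fun m => if r ∣ m + 1 then (r : ℚ) else 0 : ℚ⟦X⟧) =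
        C (r : ℚ) * X ^ (r - 1) := by
      ext m
      rw [sub_mul, one_mul, map_sub, coeff_X_pow_mul', coeff_mk, coeff_C_mul, coeff_X_pow]
      by_cases hmr : r ≤ m
      · rw [if_pos hmr, coeff_mk]
        have hne : m ≠ r - 1 := by omega
        rw [if_neg hne, mul_zero]
        have hiff : r ∣ m + 1 ↔ r ∣ m - r + 1 := by
          have : m + 1 = (m - r + 1) + r := by omega
          rw [this, Nat.dvd_add_self_right]
        by_cases h : r ∣ m + 1
        · rw [if_pos h, if_pos (hiff.mp h), sub_self]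
        · rw [if_neg h, if_neg (fun h' => h (hiff.mpr h')), sub_self]
      · rw [if_neg hmr, sub_zero]
        by_cases h : m = r - 1
        · have hd : r ∣ m + 1 := by rw [h, Nat.sub_add_cancel hr]
          rw [if_pos hd, if_pos h, mul_one]
        · have hd : ¬ r ∣ m + 1 := by
            intro hd
            have := Nat.le_of_dvd (Nat.succ_pos m) hd
            omega
          rw [if_neg hd, if_neg h, mul_zero]
    rw [h1, map_neg, hd, mul_neg, h2]

/-- If `W` vanishes to order `> n`, then `exp W` agrees with `1` up to order `n`. -/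
theorem coeff_exp_subst_of_coeff_eq_zero {W : ℚ⟦X⟧} (n : ℕ) (hW : ∀ m, m < n + 1 → coeff m W = 0)
    (m : ℕ) (hm : m < n + 1) : coeff m ((exp ℚ).subst W) = coeff m (1 : ℚ⟦X⟧) := by
  have hW0 : constantCoeff W = 0 := by
    rw [← coeff_zero_eq_constantCoeff_apply]; exact hW 0 (Nat.succ_pos n)
  have hsW : HasSubst W := HasSubst.of_constantCoeff_zero' hW0
  have hdvd : (X : ℚ⟦X⟧) ^ (n + 1) ∣ W := X_pow_dvd_iff.mpr hW
  obtain ⟨ψ, hψ⟩ : (X : ℚ⟦X⟧) ∣ exp ℚ - 1 := X_dvd_iff.mpr (by simp)
  have h1 : (exp ℚ).subst W - 1 = W * ψ.subst W := by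
    rw [← one_subst hsW, ← subst_sub hsW, hψ, subst_mul hsW, subst_X hsW]
  have h2 : (X : ℚ⟦X⟧) ^ (n + 1) ∣ (exp ℚ).subst W - 1 := by
    rw [h1]; exact Dvd.dvd.mul_right hdvd _
  have h3 := X_pow_dvd_iff.mp h2 m hm
  rw [map_sub, sub_eq_zero] at h3
  exact h3


end Groth.Agent.Lib.Helper18.ExpLog
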