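import Mathlib
import Groth.Prelude.Def_ArtFun4
import Groth.Agent.Lib.Helper28.Thick.Affine
import Groth.Agent.Lib.Helper19.SmObsLift

/-!
# Affine deformations over `Art Λ k` as algebraic data (helper18)

The dictionary of `Groth.Agent.Lib.Helper19.AffDef` (written for `Λ = k`), for a general base ring `Λ`:
`algebraize`, `AData`, `AData.toDefSch`, `exists_adata`, `bc_iso_of_isPushout`.
-/

set_option autoImplicit false
set_option linter.style.haveILetI false
set_option linter.unusedSectionVars false
universe u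

open CategoryTheory CategoryTheory.Limits AlgebraicGeometry

namespace Groth.Agent.Lib.Helper18.DefLam

section Alg

variable {k A B₀ : Type u} [Field k] [CommRing A] [IsLocalRing A] [IsArtinianRing A]
  (e : A →+* k) (he : Function.Surjective e) [CommRing B₀] [Algebra k B₀]

include he in
lemma ker_e : RingHom.ker e = IsLocalRing.maximalIdeal A :=
  IsLocalRing.eq_maximalIdeal (RingHom.ker_isMaximal_of_surjective e he)

include he in
lemma specE_closedImmersion : IsClosedImmersion (Spec.map (CommRingCat.ofHom e)) :=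
  IsClosedImmersion.spec_of_surjective _ he

variable (A) in
lemma subsingleton_spec : Subsingleton (PrimeSpectrum A) := by
  refine ⟨fun p q => ?_⟩
  ext1
  have hp := IsLocalRing.eq_maximalIdeal (IsArtinianRing.isMaximal_of_isPrime p.asIdeal)
  have hq := IsLocalRing.eq_maximalIdeal (IsArtinianRing.isMaximal_of_isPrime q.asIdeal)
  rw [hp, hq]

lemma specE_surjective : Surjective (Spec.map (CommRingCat.ofHom e)) := by
  constructor
  intro y
  haveI := subsingleton_spec A
  obtain ⟨x⟩ : Nonempty (PrimeSpectrum k) := inferInstance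
  exact ⟨x, Subsingleton.elim (α := PrimeSpectrum A) _ _⟩

variable (A) in
lemma isNilpotent_max : IsNilpotent (IsLocalRing.maximalIdeal A) := by
  rw [← IsLocalRing.jacobson_eq_maximalIdeal ⊥ bot_ne_top]
  exact IsArtinianRing.isNilpotent_jacobson_bot

include he in
/-- Algebraization of an affine deformation. -/
theorem algebraize {X' : Scheme.{u}} (g : X' ⟶ Spec (CommRingCat.of A)) [Flat g]
    (i : Spec (CommRingCat.of B₀) ⟶ X')
    (hsq : IsPullback i (Spec.map (CommRingCat.ofHom (algebraMap k B₀))) g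
      (Spec.map (CommRingCat.ofHom e))) :
    ∃ (R : Type u) (_ : CommRing R) (_ : Algebra A R) (_ : Module.Flat A R) (π : R →+* B₀)
      (α : X' ≅ Spec (CommRingCat.of R)),
      (∀ a, π (algebraMap A R a) = algebraMap k B₀ (e a)) ∧ Function.Surjective π ∧
      RingHom.ker π = (IsLocalRing.maximalIdeal A).map (algebraMap A R) ∧
      α.inv ≫ g = Spec.map (CommRingCat.ofHom (algebraMap A R)) ∧
      i ≫ α.hom = Spec.map (CommRingCat.ofHom π) := by
  haveI hci : IsClosedImmersion i :=
    MorphismProperty.of_isPullback (P := @IsClosedImmersion) hsq.flip (specE_closedImmersion e he)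
  haveI hsj : Surjective i :=
    MorphismProperty.of_isPullback (P := @Surjective) hsq.flip (specE_surjective e)
  haveI : IsAffine X' := Groth.Agent.Lib.Helper28.Thick.isAffine_of_thickening i hsj.surj
  let α : X' ≅ Spec (CommRingCat.of Γ(X', ⊤)) := X'.isoSpec
  let φ : CommRingCat.of A ⟶ CommRingCat.of Γ(X', ⊤) := Spec.preimage (α.inv ≫ g)
  have hφ : Spec.map φ = α.inv ≫ g := Spec.map_preimage _
  let π : CommRingCat.of Γ(X', ⊤) ⟶ CommRingCat.of B₀ := Spec.preimage (i ≫ α.hom)
  have hπ : Spec.map π = i ≫ α.hom := Spec.map_preimage _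
  have hcomp : φ ≫ π = CommRingCat.ofHom e ≫ CommRingCat.ofHom (algebraMap k B₀) := by
    apply Spec.map_injective
    rw [Spec.map_comp, Spec.map_comp, hφ, hπ, Category.assoc, Iso.hom_inv_id_assoc, hsq.w]
  have hflat : φ.hom.Flat := by
    rw [← HasRingHomProperty.Spec_iff (P := @Flat), hφ]
    infer_instance
  have h1 : ∀ a, π.hom (φ.hom a) = algebraMap k B₀ (e a) := fun a =>
    congrArg (fun f : CommRingCat.of A ⟶ CommRingCat.of B₀ => f.hom a) hcomp
  have hsurj : Function.Surjective π.hom := by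
    haveI : IsClosedImmersion (Spec.map π) := by rw [hπ]; infer_instance
    have h2 := (IsClosedImmersion.isAffine_surjective_of_isAffine (Spec.map π)).2
    have hnat : π = (Scheme.ΓSpecIso _).inv ≫ (Spec.map π).appTop ≫ (Scheme.ΓSpecIso _).hom := by
      rw [Scheme.ΓSpecIso_naturality, Iso.inv_hom_id_assoc]
    rw [hnat]
    simp only [CommRingCat.hom_comp, RingHom.coe_comp]
    exact ((ConcreteCategory.bijective_of_isIso (Scheme.ΓSpecIso _).hom).2.comp h2).comp
      (ConcreteCategory.bijective_of_isIso (Scheme.ΓSpecIso _).inv).2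
  refine ⟨Γ(X', ⊤), inferInstance, φ.hom.toAlgebra, hflat, π.hom, α, h1, hsurj, ?_, ?_, ?_⟩
  · -- kernel
    letI : Algebra A Γ(X', ⊤) := φ.hom.toAlgebra
    apply le_antisymm
    · intro r hr
      let I : Ideal Γ(X', ⊤) := (IsLocalRing.maximalIdeal A).map φ.hom
      let mk : CommRingCat.of Γ(X', ⊤) ⟶ CommRingCat.of (Γ(X', ⊤) ⧸ I) :=
        CommRingCat.ofHom (Ideal.Quotient.mk I)
      have hk : RingHom.ker e ≤ RingHom.ker ((Ideal.Quotient.mk I).comp φ.hom) := by
        intro a ha
        rw [ker_e e he] at ha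
        rw [RingHom.mem_ker, RingHom.comp_apply, Ideal.Quotient.eq_zero_iff_mem]
        exact Ideal.mem_map_of_mem _ ha
      let θ₀' : k →+* (Γ(X', ⊤) ⧸ I) :=
        RingHom.liftOfSurjective e he ⟨(Ideal.Quotient.mk I).comp φ.hom, hk⟩
      have hθ₀' : ∀ a, θ₀' (e a) = Ideal.Quotient.mk I (φ.hom a) := fun a =>
        RingHom.liftOfSurjective_comp_apply e he ⟨(Ideal.Quotient.mk I).comp φ.hom, hk⟩ a
      let θ₀ : CommRingCat.of k ⟶ CommRingCat.of (Γ(X', ⊤) ⧸ I) := CommRingCat.ofHom θ₀'
      have hcomm : φ ≫ mk = CommRingCat.ofHom e ≫ θ₀ := by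
        ext a
        change Ideal.Quotient.mk I (φ.hom a) = θ₀' (e a)
        rw [hθ₀']
      have w : (Spec.map mk ≫ α.inv) ≫ g = Spec.map θ₀ ≫ Spec.map (CommRingCat.ofHom e) := by
        rw [Category.assoc, ← hφ, ← Spec.map_comp, ← Spec.map_comp, hcomm]
      let u := hsq.lift (Spec.map mk ≫ α.inv) (Spec.map θ₀) w
      have hu : u ≫ i = Spec.map mk ≫ α.inv := hsq.lift_fst _ _ _
      let θ : CommRingCat.of B₀ ⟶ CommRingCat.of (Γ(X', ⊤) ⧸ I) := Spec.preimage u
      have hθ : Spec.map θ = u := Spec.map_preimage _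
      have hfac : π ≫ θ = mk := by
        apply Spec.map_injective
        rw [Spec.map_comp, hθ, hπ, ← Category.assoc, hu, Category.assoc, Iso.inv_hom_id,
          Category.comp_id]
      have h0 : mk.hom r = 0 := by
        rw [← hfac]
        change θ.hom (π.hom r) = 0
        rw [RingHom.mem_ker.mp hr, map_zero]
      exact Ideal.Quotient.eq_zero_iff_mem.mp h0
    · rw [Ideal.map_le_iff_le_comap]
      intro a ha
      rw [Ideal.mem_comap, RingHom.mem_ker]
      change π.hom (φ.hom a) = 0
      rw [h1]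
      rw [← ker_e e he, RingHom.mem_ker] at ha
      rw [ha, map_zero]
  · rw [← hφ]; rfl
  · rw [← hπ]; rfl

end Alg

open ArtFun ArtFun.Art

variable {Λ k : Type u} [CommRing Λ] [Field k] [Algebra Λ k] (A : Art Λ k) (B₀ : Type u)
  [CommRing B₀] [Algebra k B₀]

/-- algebraic form of a deformation of `Spec B₀` over `A`. -/
structure AData where
  R : Type u
  [cr : CommRing R]
  [alg : Algebra A R]
  [flat : Module.Flat A R]
  π : R →+* B₀
  h1 : ∀ a : A, π (algebraMap A R a) = algebraMap k B₀ (A.res a)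
  h2 : Function.Surjective π
  h3 : RingHom.ker π = (IsLocalRing.maximalIdeal A).map (algebraMap A R)

attribute [instance] AData.cr AData.alg AData.flat

variable {A B₀}

lemma ker_res : RingHom.ker A.res.toRingHom = IsLocalRing.maximalIdeal A :=
  ker_e A.res.toRingHom A.res_surjective

theorem AData.isPushout (D : AData A B₀) :
    IsPushout (CommRingCat.ofHom (algebraMap A D.R)) (CommRingCat.ofHom A.res.toRingHom)
      (CommRingCat.ofHom D.π) (CommRingCat.ofHom (algebraMap k B₀)) := by
  refine Groth.Agent.Lib.Helper19.SmObs.isPushout_of_surjective A.res.toRingHom A.res_surjective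
    (algebraMap A D.R) (algebraMap k B₀) D.π D.h2 D.h1 (fun r hr => ?_)
  rw [ker_res, ← D.h3]
  exact hr

/-- the deformation attached to an algebraic datum. -/
noncomputable def AData.toDefSch (D : AData A B₀) :
    DefSch (Spec (CommRingCat.of B₀)) (Spec.map (CommRingCat.ofHom (algebraMap k B₀))) A where
  total := Spec (CommRingCat.of D.R)
  f := Spec.map (CommRingCat.ofHom (algebraMap A D.R))
  flat := Flat.SpecMap_iff.mpr (RingHom.flat_algebraMap_iff.mpr D.flat)
  i := Spec.map (CommRingCat.ofHom D.π)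
  isPullback := isPullback_SpecMap_of_isPushout _ _ _ _ D.isPushout

theorem exists_adata
    (ξ : DefSch (Spec (CommRingCat.of B₀)) (Spec.map (CommRingCat.ofHom (algebraMap k B₀))) A) :
    ∃ D : AData A B₀, Nonempty (DefSch.Iso D.toDefSch ξ) := by
  obtain ⟨R, _, _, _, π, α, h1, h2, h3, h4, h5⟩ :=
    algebraize A.res.toRingHom A.res_surjective ξ.f ξ.i ξ.isPullback
  refine ⟨⟨R, π, h1, h2, h3⟩, ⟨{ iso := α.symm, hom_f := h4, i_hom := ?_ }⟩⟩
  change Spec.map (CommRingCat.ofHom π) ≫ α.inv = ξ.i
  rw [← h5, Category.assoc, Iso.hom_inv_id, Category.comp_id]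

theorem bc_iso_of_isPushout {A' A : Art Λ k} (p : A' ⟶ A) (D' : AData A' B₀) (D : AData A B₀)
    (β : D'.R →+* D.R)
    (hP : IsPushout (CommRingCat.ofHom (algebraMap A' D'.R))
      (CommRingCat.ofHom p.toAlgHom.toRingHom)
      (CommRingCat.ofHom β) (CommRingCat.ofHom (algebraMap A D.R)))
    (hπ : D.π.comp β = D'.π) :
    Nonempty (DefSch.Iso (D'.toDefSch.baseChange p) D.toDefSch) := by
  have hPB : IsPullback (Spec.map (CommRingCat.ofHom β)) D.toDefSch.f D'.toDefSch.f
      (specMap p) :=
    isPullback_SpecMap_of_isPushout _ _ _ _ hP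
  refine ⟨{ iso := (IsPullback.of_hasPullback D'.toDefSch.f (specMap p)).isoIsPullback _ _ hPB
            hom_f := IsPullback.isoIsPullback_hom_snd _ _ _ _
            i_hom := ?_ }⟩
  apply hPB.hom_ext
  · refine (Category.assoc _ _ _).trans ?_
    refine (congrArg (fun t => (D'.toDefSch.baseChange p).i ≫ t)
      (IsPullback.isoIsPullback_hom_fst _ _ (IsPullback.of_hasPullback _ _) hPB)).trans ?_
    refine (DefSch.baseChange_i_fst D'.toDefSch p).trans ?_
    change Spec.map (CommRingCat.ofHom D'.π) =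
      Spec.map (CommRingCat.ofHom D.π) ≫ Spec.map (CommRingCat.ofHom β)
    rw [← Spec.map_comp, ← CommRingCat.ofHom_comp, hπ]
  · refine (Category.assoc _ _ _).trans ?_
    refine (congrArg (fun t => (D'.toDefSch.baseChange p).i ≫ t)
      (IsPullback.isoIsPullback_hom_snd _ _ (IsPullback.of_hasPullback _ _) hPB)).trans ?_
    exact (DefSch.baseChange_i_f D'.toDefSch p).trans (DefSch.i_f D.toDefSch).symm

end Groth.Agent.Lib.Helper18.DefLam
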