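import Mathlib
import Groth.Agent.Lib.Helper27.NilpFree

/-!
# Bases of flat modules over local rings with nilpotent maximal ideal; base change via bases;
coordinates of fibre products (helper18)
-/

set_option autoImplicit false
set_option linter.style.haveILetI false
universe u

open CategoryTheory CategoryTheory.Limits TensorProduct

namespace Groth.Agent.Lib.Helper18.HullA

section Lift

variable {A R B₀ k : Type u} [CommRing A] [IsLocalRing A] [Field k]
  [AddCommGroup R] [Module A R] [Module.Flat A R] [AddCommGroup B₀] [Module k B₀]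

/-- lifting a basis of the closed fibre of a flat module over a local ring with nilpotent
maximal ideal. -/
theorem basis_of_lift (hnil : IsNilpotent (IsLocalRing.maximalIdeal A))
    (res : A →+* k) (hres : ∀ a, res a = 0 ↔ a ∈ IsLocalRing.maximalIdeal A)
    (hress : Function.Surjective res)
    (π : R →+ B₀) (hπ : ∀ (a : A) (x : R), π (a • x) = res a • π x)
    (hker : ∀ x, π x = 0 → x ∈ IsLocalRing.maximalIdeal A • (⊤ : Submodule A R))
    {ι : Type u} (b : Module.Basis ι k B₀) (e : ι → R) (he : ∀ i, π (e i) = b i) :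
    LinearIndependent A e ∧ Submodule.span A (Set.range e) = ⊤ := by
  classical
  have hsum : ∀ (s : Finset ι) (a : ι → A), π (∑ i ∈ s, a i • e i) = ∑ i ∈ s, res (a i) • b i := by
    intro s a
    rw [map_sum]
    exact Finset.sum_congr rfl fun i _ => by rw [hπ, he]
  constructor
  · apply Module.IsLocalRing.linearIndependent_of_flat
    rw [linearIndependent_iff']
    intro s c hc i hi
    choose a ha using fun i => Ideal.Quotient.mk_surjective (c i)
    have h1 : TensorProduct.mk A (IsLocalRing.ResidueField A) R 1 (∑ i ∈ s, a i • e i) = 0 := by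
      have key : ∀ i, ((1 : IsLocalRing.ResidueField A) ⊗ₜ[A] (a i • e i)) =
          c i • ((1 : IsLocalRing.ResidueField A) ⊗ₜ[A] e i) := by
        intro i
        rw [TensorProduct.tmul_smul, TensorProduct.smul_tmul', TensorProduct.smul_tmul', ← ha i]
        congr 1
      rw [map_sum, ← hc]
      refine Finset.sum_congr rfl fun i _ => ?_
      exact key i
    have h2 : ∑ i ∈ s, a i • e i ∈ IsLocalRing.maximalIdeal A • (⊤ : Submodule A R) := by
      rw [← LinearMap.ker_tensorProductMk]
      exact h1
    have h3 : π (∑ i ∈ s, a i • e i) = 0 := by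
      refine Submodule.smul_induction_on h2 ?_ ?_
      · intro m hm x _
        rw [hπ, (hres m).mpr hm, zero_smul]
      · intro x y hx hy
        rw [map_add, hx, hy, add_zero]
    rw [hsum] at h3
    have h4 := (linearIndependent_iff'.mp b.linearIndependent) s (fun i => res (a i)) h3 i hi
    rw [← ha i]
    exact (Ideal.Quotient.eq_zero_iff_mem).mpr ((hres _).mp h4)
  · apply Groth.Agent.Lib.Helper27.NilpFree.nakayama_nilpotent hnil
    rw [eq_top_iff]
    intro x _
    have hx := b.linearCombination_repr (π x)
    rw [Finsupp.linearCombination_apply, Finsupp.sum] at hx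
    choose a ha using fun i => hress (b.repr (π x) i)
    have h1 : π (x - ∑ i ∈ (b.repr (π x)).support, a i • e i) = 0 := by
      rw [map_sub, hsum, sub_eq_zero]
      conv_lhs => rw [← hx]
      exact Finset.sum_congr rfl fun i _ => by rw [ha]
    have h2 := hker _ h1
    have h3 : x = ∑ i ∈ (b.repr (π x)).support, a i • e i +
        (x - ∑ i ∈ (b.repr (π x)).support, a i • e i) := by abel
    rw [h3]
    refine Submodule.add_mem_sup ?_ h2
    exact Submodule.sum_mem _ fun i _ =>
      Submodule.smul_mem _ _ (Submodule.subset_span ⟨i, rfl⟩)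

end Lift

section Pushout

variable {A A' R R' : Type u} [CommRing A] [CommRing A'] [CommRing R] [CommRing R']
  [Algebra A R] [Algebra A' R']

/-- a ring map over `p : A → A'` sending an `A`-basis to an `A'`-basis is a base change. -/
theorem isPushout_of_basis (p : A →+* A') (ψ : R →+* R')
    (hcomm : ∀ a, ψ (algebraMap A R a) = algebraMap A' R' (p a))
    {ι : Type u} (b : Module.Basis ι A R) (b' : Module.Basis ι A' R') (hb : ∀ i, ψ (b i) = b' i) :
    IsPushout (CommRingCat.ofHom (algebraMap A R)) (CommRingCat.ofHom p)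
      (CommRingCat.ofHom ψ) (CommRingCat.ofHom (algebraMap A' R')) := by
  letI : Algebra A A' := p.toAlgebra
  letI : Algebra R R' := ψ.toAlgebra
  letI : Algebra A R' := ((algebraMap A' R').comp p).toAlgebra
  haveI : IsScalarTower A A' R' := IsScalarTower.of_algebraMap_eq (fun _ => rfl)
  haveI : IsScalarTower A R R' := IsScalarTower.of_algebraMap_eq (fun a => (hcomm a).symm)
  let e : A' ⊗[A] R ≃ₗ[A'] R' := (b.baseChange A').equiv b' (Equiv.refl ι)
  have he : ∀ x, e ((1 : A') ⊗ₜ[A] x) = (IsScalarTower.toAlgHom A R R').toLinearMap x := by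
    intro x
    have h1 : (e.toLinearMap.restrictScalars A) ∘ₗ (TensorProduct.mk A A' R 1) =
        (IsScalarTower.toAlgHom A R R').toLinearMap := by
      refine b.ext fun i => ?_
      change e ((1 : A') ⊗ₜ[A] b i) = ψ (b i)
      rw [hb]
      have h2 : (1 : A') ⊗ₜ[A] b i = (b.baseChange A') i := (Module.Basis.baseChange_apply A' b i).symm
      rw [h2]
      change ((b.baseChange A').equiv b' (Equiv.refl ι)) ((b.baseChange A') i) = b' i
      rw [Module.Basis.equiv_apply]
      rfl
    exact LinearMap.congr_fun h1 x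
  haveI hP : Algebra.IsPushout A A' R R' := ⟨IsBaseChange.of_equiv e he⟩
  haveI hP' : Algebra.IsPushout A R A' R' := hP.symm
  exact CommRingCat.isPushout_of_isPushout A R A' R'

end Pushout

section Coord

/-- semilinear ring maps and linear combinations -/
theorem map_linearCombination {A₁ A₂ R₁ R₂ : Type u} [CommRing A₁] [CommRing A₂] [CommRing R₁]
    [CommRing R₂] [Algebra A₁ R₁] [Algebra A₂ R₂] (p : A₁ →+* A₂) (q : R₁ →+* R₂)
    (hq : ∀ a, q (algebraMap A₁ R₁ a) = algebraMap A₂ R₂ (p a)) {ι : Type u} (n : ι → R₁)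
    (c : ι →₀ A₁) :
    q (Finsupp.linearCombination A₁ n c) =
      Finsupp.linearCombination A₂ (fun i => q (n i)) (c.mapRange p (map_zero p)) := by
  rw [Finsupp.linearCombination_apply, Finsupp.linearCombination_apply,
    Finsupp.sum_mapRange_index (by intro i; simp), map_finsuppSum]
  refine Finsupp.sum_congr fun i _ => ?_
  rw [Algebra.smul_def, map_mul, hq, ← Algebra.smul_def]

variable {B A' A'' A : Type u} [CommRing B] [CommRing A'] [CommRing A''] [CommRing A]
  (p' : B →+* A') (p'' : B →+* A'') (f' : A' →+* A) (f'' : A'' →+* A)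
variable {N R' R'' R : Type u} [CommRing N] [Algebra B N] [CommRing R'] [Algebra A' R']
  [CommRing R''] [Algebra A'' R''] [CommRing R] [Algebra A R]
  (q' : N →+* R') (q'' : N →+* R'') (β' : R' →+* R) (β'' : R'' →+* R)

include p' p'' q' q'' in
theorem coord_inj (hinj : ∀ b, p' b = 0 → p'' b = 0 → b = 0)
    (hq' : ∀ b, q' (algebraMap B N b) = algebraMap A' R' (p' b))
    (hq'' : ∀ b, q'' (algebraMap B N b) = algebraMap A'' R'' (p'' b))
    {ι : Type u} (n : ι → N) (bs' : Module.Basis ι A' R') (bs'' : Module.Basis ι A'' R'')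
    (h1 : ∀ i, q' (n i) = bs' i) (h2 : ∀ i, q'' (n i) = bs'' i)
    (c : ι →₀ B) (hc' : q' (Finsupp.linearCombination B n c) = 0)
    (hc'' : q'' (Finsupp.linearCombination B n c) = 0) : c = 0 := by
  rw [map_linearCombination p' q' hq', show (fun i => q' (n i)) = bs' from funext h1] at hc'
  rw [map_linearCombination p'' q'' hq'', show (fun i => q'' (n i)) = bs'' from funext h2] at hc''
  have e' : c.mapRange p' (map_zero p') = 0 :=
    bs'.linearIndependent (hc'.trans (map_zero _).symm)
  have e'' : c.mapRange p'' (map_zero p'') = 0 :=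
    bs''.linearIndependent (hc''.trans (map_zero _).symm)
  ext i
  have a' := DFunLike.congr_fun e' i
  have a'' := DFunLike.congr_fun e'' i
  rw [Finsupp.mapRange_apply, Finsupp.zero_apply] at a' a''
  exact hinj _ a' a''

include p' p'' f' f'' q' q'' β' β'' in
theorem coord_surj (hinj : ∀ b, p' b = 0 → p'' b = 0 → b = 0)
    (hsurj : ∀ a' a'', f' a' = f'' a'' → ∃ b, p' b = a' ∧ p'' b = a'')
    (hq' : ∀ b, q' (algebraMap B N b) = algebraMap A' R' (p' b))
    (hq'' : ∀ b, q'' (algebraMap B N b) = algebraMap A'' R'' (p'' b))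
    (hβ' : ∀ a, β' (algebraMap A' R' a) = algebraMap A R (f' a))
    (hβ'' : ∀ a, β'' (algebraMap A'' R'' a) = algebraMap A R (f'' a))
    {ι : Type u} (n : ι → N) (bs' : Module.Basis ι A' R') (bs'' : Module.Basis ι A'' R'')
    (bs : Module.Basis ι A R)
    (h1 : ∀ i, q' (n i) = bs' i) (h2 : ∀ i, q'' (n i) = bs'' i)
    (h3 : ∀ i, β' (bs' i) = bs i) (h4 : ∀ i, β'' (bs'' i) = bs i)
    (r' : R') (r'' : R'') (h : β' r' = β'' r'') :
    ∃ c : ι →₀ B, q' (Finsupp.linearCombination B n c) = r' ∧
      q'' (Finsupp.linearCombination B n c) = r'' := by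
  classical
  set c' := bs'.repr r' with hc'
  set c'' := bs''.repr r'' with hc''
  have hr' : Finsupp.linearCombination A' bs' c' = r' := bs'.linearCombination_repr r'
  have hr'' : Finsupp.linearCombination A'' bs'' c'' = r'' := bs''.linearCombination_repr r''
  have e1 : β' r' = Finsupp.linearCombination A bs (c'.mapRange f' (map_zero f')) := by
    conv_lhs => rw [← hr']
    rw [map_linearCombination f' β' hβ', show (fun i => β' (bs' i)) = bs from funext h3]
  have e2 : β'' r'' = Finsupp.linearCombination A bs (c''.mapRange f'' (map_zero f'')) := by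
    conv_lhs => rw [← hr'']
    rw [map_linearCombination f'' β'' hβ'', show (fun i => β'' (bs'' i)) = bs from funext h4]
  have e3 : c'.mapRange f' (map_zero f') = c''.mapRange f'' (map_zero f'') :=
    bs.linearIndependent (e1.symm.trans (h.trans e2))
  have hi : ∀ i, f' (c' i) = f'' (c'' i) := by
    intro i
    have := DFunLike.congr_fun e3 i
    rwa [Finsupp.mapRange_apply, Finsupp.mapRange_apply] at this
  choose b hb using fun i => hsurj (c' i) (c'' i) (hi i)
  let c : ι →₀ B := Finsupp.onFinset (c'.support ∪ c''.support) b (by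
    intro i hbi
    by_contra hni
    rw [Finset.mem_union, not_or, Finsupp.notMem_support_iff, Finsupp.notMem_support_iff] at hni
    exact hbi (hinj _ ((hb i).1.trans hni.1) ((hb i).2.trans hni.2)))
  have hcm' : c.mapRange p' (map_zero p') = c' := by
    ext i
    rw [Finsupp.mapRange_apply]
    exact (hb i).1
  have hcm'' : c.mapRange p'' (map_zero p'') = c'' := by
    ext i
    rw [Finsupp.mapRange_apply]
    exact (hb i).2
  refine ⟨c, ?_, ?_⟩
  · rw [map_linearCombination p' q' hq', show (fun i => q' (n i)) = bs' from funext h1, hcm', hr']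
  · rw [map_linearCombination p'' q'' hq'', show (fun i => q'' (n i)) = bs'' from funext h2,
      hcm'', hr'']

end Coord

end Groth.Agent.Lib.Helper18.HullA
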