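import Mathlib
import Groth.Prelude.Def_ArtFun4
import Groth.Agent.Lib.Helper18.DefLam
import Groth.Agent.Lib.Helper18.HullA

/-!
# Affine deformations over `Art Λ k`: isomorphisms, base change maps, bases (helper18)
-/

set_option autoImplicit false
set_option linter.style.haveILetI false
set_option linter.unusedSectionVars false
universe u

open CategoryTheory CategoryTheory.Limits AlgebraicGeometry

namespace Groth.Agent.Lib.Helper18.HullB

open ArtFun ArtFun.Art Groth.Agent.Lib.Helper18.DefLam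

section Alg

lemma isPushout_of_isPullback_SpecMap {A B C P : CommRingCat.{u}} (f : A ⟶ B) (g : A ⟶ C)
    (inl : B ⟶ P) (inr : C ⟶ P)
    (h : IsPullback (Spec.map inl) (Spec.map inr) (Spec.map f) (Spec.map g)) :
    IsPushout f g inl inr := by
  have h' : IsPullback (Scheme.Spec.map inl.op) (Scheme.Spec.map inr.op) (Scheme.Spec.map f.op)
      (Scheme.Spec.map g.op) := h
  exact (IsPullback.of_map_of_faithful Scheme.Spec h').unop.flip

theorem surj_ker_of_isPushout {A' A R' R : Type u} [CommRing A'] [CommRing A] [CommRing R']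
    [CommRing R] (p : A' →+* A) (hp : Function.Surjective p) (a1 : A' →+* R') (a2 : A →+* R)
    (β : R' →+* R)
    (hP : IsPushout (CommRingCat.ofHom a1) (CommRingCat.ofHom p) (CommRingCat.ofHom β)
      (CommRingCat.ofHom a2)) :
    Function.Surjective β ∧ RingHom.ker β = (RingHom.ker p).map a1 := by
  let I : Ideal R' := (RingHom.ker p).map a1
  have hk : RingHom.ker p ≤ RingHom.ker ((Ideal.Quotient.mk I).comp a1) := by
    intro x hx
    rw [RingHom.mem_ker, RingHom.comp_apply, Ideal.Quotient.eq_zero_iff_mem]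
    exact Ideal.mem_map_of_mem _ hx
  let a2' : A →+* R' ⧸ I := RingHom.liftOfSurjective p hp ⟨(Ideal.Quotient.mk I).comp a1, hk⟩
  have ha2' : ∀ a, a2' (p a) = Ideal.Quotient.mk I (a1 a) := fun a =>
    RingHom.liftOfSurjective_comp_apply p hp ⟨(Ideal.Quotient.mk I).comp a1, hk⟩ a
  have hP2 := Groth.Agent.Lib.Helper19.SmObs.isPushout_of_surjective p hp a1 a2'
    (Ideal.Quotient.mk I)
    Ideal.Quotient.mk_surjective (fun a => (ha2' a).symm)
    (fun r hr => Ideal.Quotient.eq_zero_iff_mem.1 hr)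
  let e := hP.isoIsPushout _ _ hP2
  have he : ∀ r, e.hom.hom (β r) = Ideal.Quotient.mk I r := fun r =>
    congrArg (fun f : CommRingCat.of R' ⟶ CommRingCat.of (R' ⧸ I) => f.hom r)
      (hP.inl_isoIsPushout_hom _ _ hP2)
  have hinj : Function.Injective e.hom.hom := by
    intro x y hxy
    have hx : e.inv.hom (e.hom.hom x) = x :=
      congrArg (fun f : CommRingCat.of R ⟶ CommRingCat.of R => f.hom x) e.hom_inv_id
    have hy : e.inv.hom (e.hom.hom y) = y :=
      congrArg (fun f : CommRingCat.of R ⟶ CommRingCat.of R => f.hom y) e.hom_inv_id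
    rw [← hx, ← hy, hxy]
  constructor
  · intro d
    obtain ⟨r, hr⟩ := Ideal.Quotient.mk_surjective (e.hom.hom d)
    exact ⟨r, hinj ((he r).trans hr)⟩
  · ext r
    rw [RingHom.mem_ker]
    constructor
    · intro hr
      have h0 : Ideal.Quotient.mk I r = 0 := by rw [← he, hr, map_zero]
      exact Ideal.Quotient.eq_zero_iff_mem.1 h0
    · intro hr
      apply hinj
      rw [he, map_zero]
      exact Ideal.Quotient.eq_zero_iff_mem.2 hr

end Alg

variable {Λ k : Type u} [CommRing Λ] [Field k] [Algebra Λ k] {B₀ : Type u}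
  [CommRing B₀] [Algebra k B₀]

theorem iso_iff {A : Art Λ k} (D₁ D₂ : AData A B₀) :
    Nonempty (DefSch.Iso D₁.toDefSch D₂.toDefSch) ↔
      ∃ θ : D₁.R ≃+* D₂.R, (∀ a : A, θ (algebraMap A D₁.R a) = algebraMap A D₂.R a) ∧
        ∀ r, D₂.π (θ r) = D₁.π r := by
  constructor
  · rintro ⟨I⟩
    let θ₂₁ : CommRingCat.of D₂.R ⟶ CommRingCat.of D₁.R := Spec.preimage I.iso.hom
    let θ₁₂ : CommRingCat.of D₁.R ⟶ CommRingCat.of D₂.R := Spec.preimage I.iso.inv
    have h21 : Spec.map θ₂₁ = I.iso.hom := Spec.map_preimage _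
    have h12 : Spec.map θ₁₂ = I.iso.inv := Spec.map_preimage _
    have c1 : θ₂₁ ≫ θ₁₂ = 𝟙 _ := by
      apply Spec.map_injective
      rw [Spec.map_comp, h21, h12, Iso.inv_hom_id, Spec.map_id]
    have c2 : θ₁₂ ≫ θ₂₁ = 𝟙 _ := by
      apply Spec.map_injective
      rw [Spec.map_comp, h21, h12, Iso.hom_inv_id, Spec.map_id]
    have hf : CommRingCat.ofHom (algebraMap A D₂.R) ≫ θ₂₁ = CommRingCat.ofHom (algebraMap A D₁.R) := by
      apply Spec.map_injective
      rw [Spec.map_comp, h21]
      exact I.hom_f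
    have hi : θ₂₁ ≫ CommRingCat.ofHom D₁.π = CommRingCat.ofHom D₂.π := by
      apply Spec.map_injective
      rw [Spec.map_comp, h21]
      exact I.i_hom
    have e1 : ∀ r, θ₁₂.hom (θ₂₁.hom r) = r := fun r =>
      congrArg (fun f : CommRingCat.of D₂.R ⟶ CommRingCat.of D₂.R => f.hom r) c1
    have e2 : ∀ r, θ₂₁.hom (θ₁₂.hom r) = r := fun r =>
      congrArg (fun f : CommRingCat.of D₁.R ⟶ CommRingCat.of D₁.R => f.hom r) c2
    have e3 : ∀ a : A, θ₂₁.hom (algebraMap A D₂.R a) = algebraMap A D₁.R a := fun a =>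
      congrArg (fun f : CommRingCat.of A ⟶ CommRingCat.of D₁.R => f.hom a) hf
    have e4 : ∀ r, D₁.π (θ₂₁.hom r) = D₂.π r := fun r =>
      congrArg (fun f : CommRingCat.of D₂.R ⟶ CommRingCat.of B₀ => f.hom r) hi
    refine ⟨RingEquiv.ofRingHom θ₁₂.hom θ₂₁.hom (RingHom.ext e1) (RingHom.ext e2), ?_, ?_⟩
    · intro a
      change θ₁₂.hom (algebraMap A D₁.R a) = _
      rw [← e3, e1]
    · intro r
      change D₂.π (θ₁₂.hom r) = _
      rw [← e4, e2]
  · rintro ⟨θ, hθA, hθπ⟩
    have hsymmA : ∀ a : A, θ.symm (algebraMap A D₂.R a) = algebraMap A D₁.R a := by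
      intro a
      rw [← hθA, RingEquiv.symm_apply_apply]
    have hsymmπ : ∀ r, D₁.π (θ.symm r) = D₂.π r := by
      intro r
      rw [← hθπ, RingEquiv.apply_symm_apply]
    let γ : Spec (CommRingCat.of D₁.R) ≅ Spec (CommRingCat.of D₂.R) :=
      ⟨Spec.map (CommRingCat.ofHom θ.symm.toRingHom), Spec.map (CommRingCat.ofHom θ.toRingHom),
        by
          rw [← Spec.map_comp, ← Spec.map_id]
          congr 1
          ext r
          exact θ.symm_apply_apply r,
        by
          rw [← Spec.map_comp, ← Spec.map_id]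
          congr 1
          ext r
          exact θ.apply_symm_apply r⟩
    refine ⟨{ iso := γ, hom_f := ?_, i_hom := ?_ }⟩
    · change Spec.map _ ≫ Spec.map _ = Spec.map _
      rw [← Spec.map_comp]
      congr 1
      ext a
      exact hsymmA a
    · change Spec.map _ ≫ Spec.map _ = Spec.map _
      rw [← Spec.map_comp]
      congr 1
      ext r
      exact hsymmπ r

/-- the ring map underlying an isomorphism of a base change with another datum -/
theorem exists_hom_of_bc_iso {A' A : Art Λ k} (p : A' ⟶ A) (D' : AData A' B₀) (D : AData A B₀)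
    (h : Nonempty (DefSch.Iso (D'.toDefSch.baseChange p) D.toDefSch)) :
    ∃ β : D'.R →+* D.R, (∀ a, β (algebraMap A' D'.R a) = algebraMap A D.R (p a)) ∧
      D.π.comp β = D'.π ∧
      IsPushout (CommRingCat.ofHom (algebraMap A' D'.R))
        (CommRingCat.ofHom p.toAlgHom.toRingHom)
        (CommRingCat.ofHom β) (CommRingCat.ofHom (algebraMap A D.R)) := by
  obtain ⟨I⟩ := h
  let g : Spec (CommRingCat.of D.R) ⟶ Spec (CommRingCat.of D'.R) :=
    I.iso.inv ≫ pullback.fst D'.toDefSch.f (specMap p)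
  let β : CommRingCat.of D'.R ⟶ CommRingCat.of D.R := Spec.preimage g
  have hβ : Spec.map β = g := Spec.map_preimage _
  have hPB : IsPullback g D.toDefSch.f D'.toDefSch.f (specMap p) := by
    refine IsPullback.of_iso (IsPullback.of_hasPullback D'.toDefSch.f (specMap p)) I.iso
      (Iso.refl _) (Iso.refl _) (Iso.refl _) ?_ ?_ ?_ ?_
    · change pullback.fst _ _ ≫ 𝟙 _ = I.iso.hom ≫ I.iso.inv ≫ pullback.fst _ _
      rw [Iso.hom_inv_id_assoc, Category.comp_id]
    · change pullback.snd _ _ ≫ 𝟙 _ = I.iso.hom ≫ D.toDefSch.f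
      rw [Category.comp_id]
      exact I.hom_f.symm
    · change _ ≫ 𝟙 _ = 𝟙 _ ≫ _
      rw [Category.comp_id, Category.id_comp]
    · change _ ≫ 𝟙 _ = 𝟙 _ ≫ _
      rw [Category.comp_id, Category.id_comp]
  have hPB' : IsPullback (Spec.map β) (Spec.map (CommRingCat.ofHom (algebraMap A D.R)))
      (Spec.map (CommRingCat.ofHom (algebraMap A' D'.R)))
      (Spec.map (CommRingCat.ofHom p.toAlgHom.toRingHom)) := by
    rw [hβ]
    exact hPB
  have hPO := isPushout_of_isPullback_SpecMap _ _ _ _ hPB'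
  refine ⟨β.hom, ?_, ?_, hPO⟩
  · intro a
    exact congrArg (fun f : CommRingCat.of A' ⟶ CommRingCat.of D.R => f.hom a) hPO.w
  · have h1 : D.toDefSch.i ≫ g = D'.toDefSch.i := by
      change D.toDefSch.i ≫ I.iso.inv ≫ pullback.fst _ _ = _
      rw [← I.i_hom, Category.assoc, Iso.hom_inv_id_assoc]
      exact DefSch.baseChange_i_fst D'.toDefSch p
    have h2 : β ≫ CommRingCat.ofHom D.π = CommRingCat.ofHom D'.π := by
      apply Spec.map_injective
      rw [Spec.map_comp, hβ]
      exact h1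
    ext r
    exact congrArg (fun f : CommRingCat.of D'.R ⟶ CommRingCat.of B₀ => f.hom r) h2

/-- lifts of a basis of `B₀` form a basis of a deformation. -/
theorem AData.exists_basis {A : Art Λ k} (D : AData A B₀) {ι : Type u}
    (b : Module.Basis ι k B₀) (e : ι → D.R) (he : ∀ i, D.π (e i) = b i) :
    ∃ bs : Module.Basis ι A D.R, ∀ i, bs i = e i := by
  have hπ : ∀ (a : A) (x : D.R), D.π (a • x) = A.res a • D.π x := by
    intro a x
    rw [Algebra.smul_def, map_mul, D.h1, Algebra.smul_def]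
  have hker : ∀ x, D.π x = 0 → x ∈ IsLocalRing.maximalIdeal A • (⊤ : Submodule A D.R) := by
    intro x hx
    have h1 : x ∈ (IsLocalRing.maximalIdeal A).map (algebraMap A D.R) := by
      rw [← D.h3]; exact hx
    rw [Ideal.smul_top_eq_map]
    exact h1
  obtain ⟨h1, h2⟩ := Groth.Agent.Lib.Helper18.HullA.basis_of_lift (isNilpotent_max A)
    A.res.toRingHom (fun a => (mem_maximalIdeal_iff A a).symm) A.res_surjective
    D.π.toAddMonoidHom hπ hker b e he
  exact ⟨Module.Basis.mk h1 h2.ge, fun i => Module.Basis.mk_apply h1 h2.ge i⟩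

end Groth.Agent.Lib.Helper18.HullB
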