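import Mathlib
import Groth.Agent.Lib.Helper18.DRProjAmp

/-!
# Injective amplitude (helper18)
-/

set_option autoImplicit false
set_option linter.style.haveILetI false
universe u
open CategoryTheory CategoryTheory.Limits CategoryTheory.Pretriangulated DerivedCategory
open CochainComplex.HomComplex ZeroObject

attribute [local instance] HasDerivedCategory.standard

namespace Groth.Agent.Lib.Helper18.DR

section algebra

variable {R : Type u} [CommRing R] {A B C : Type u} [AddCommGroup A] [Module R A]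
  [AddCommGroup B] [Module R B] [AddCommGroup C] [Module R C]

/-- Baer's criterion for the kernel of a map out of an injective module -/
theorem baer_ker (d : A →ₗ[R] B) (d' : B →ₗ[R] C) (hdd : d' ∘ₗ d = 0) [Module.Injective R A]
    (H : ∀ (I : Ideal R) (g : (R ⧸ I) →ₗ[R] B), d' ∘ₗ g = 0 →
      ∃ h : (R ⧸ I) →ₗ[R] A, d ∘ₗ h = g) :
    Module.Baer R (LinearMap.ker d) := by
  intro I f
  obtain ⟨F, hF⟩ := Module.Baer.of_injective (inferInstance : Module.Injective R A) I
    ((LinearMap.ker d).subtype ∘ₗ f)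
  have hI : I ≤ LinearMap.ker (d ∘ₗ F) := by
    intro x hx
    rw [LinearMap.mem_ker, LinearMap.comp_apply, hF x hx]
    exact (f ⟨x, hx⟩).2
  obtain ⟨h, hh⟩ := H I (Submodule.liftQ I (d ∘ₗ F) hI) (by
    apply Submodule.linearMap_qext
    ext
    simp only [LinearMap.comp_apply, Submodule.mkQ_apply, Submodule.liftQ_apply,
      LinearMap.zero_apply]
    exact LinearMap.congr_fun hdd _)
  have hmem : ∀ x, (F - h ∘ₗ Submodule.mkQ I) x ∈ LinearMap.ker d := by
    intro x
    rw [LinearMap.mem_ker, LinearMap.sub_apply, map_sub, LinearMap.comp_apply,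
      ← LinearMap.comp_apply d h, hh, Submodule.mkQ_apply, Submodule.liftQ_apply,
      LinearMap.comp_apply, sub_self]
  refine ⟨LinearMap.codRestrict (LinearMap.ker d) (F - h ∘ₗ Submodule.mkQ I) hmem, fun x hx => ?_⟩
  apply Subtype.ext
  have h0 : (h ∘ₗ Submodule.mkQ I) x = 0 := by
    rw [LinearMap.comp_apply, Submodule.mkQ_apply, (Submodule.Quotient.mk_eq_zero I).2 hx,
      map_zero]
  rw [LinearMap.codRestrict_apply, LinearMap.sub_apply, hF x hx, h0, sub_zero]
  rfl

end algebra

variable {R : Type u} [CommRing R]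

lemma Q_map_eq_zero_iff_inj (L E : DRing.Cx R) [E.IsKInjective] (f : L ⟶ E) :
    DerivedCategory.Q.map f = 0 ↔ Nonempty (Homotopy f 0) := by
  constructor
  · intro h
    exact nonempty_homotopy_of_map_eq_inj L E f 0 (by rw [h, Functor.map_zero])
  · rintro ⟨h⟩
    rw [Q_map_eq_of_homotopy h, Functor.map_zero]

section

variable (E : DRing.Cx R) (n : ℤ) (M : ModuleCat.{u} R)

/-- the chain map `M[-n] ⟶ E` given by `φ : M ⟶ E^n` with `d ∘ φ = 0` -/
noncomputable def fromSgMap (n' : ℤ) (hn' : n + 1 = n') (φ : M ⟶ E.X n) (hφ : φ ≫ E.d n n' = 0) :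
    (CochainComplex.singleFunctor (ModuleCat.{u} R) n).obj M ⟶ E :=
  Cocycle.homOf (Cocycle.fromSingleMk φ (add_zero n) n' hn' hφ)

lemma ofHom_fromSgMap (n' : ℤ) (hn' : n + 1 = n') (φ : M ⟶ E.X n) (hφ : φ ≫ E.d n n' = 0) :
    Cocycle.ofHom (fromSgMap E n M n' hn' φ hφ) =
      Cocycle.fromSingleMk φ (add_zero n) n' hn' hφ :=
  Cocycle.ofHom_homOf_eq_self _

/-- the morphism `M[-n] ⟶ E` in `D(R)` defined by `φ` vanishes iff `φ` factors through `d^{n-1}` -/
theorem Q_map_fromSgMap_eq_zero_iff [E.IsKInjective] (n' : ℤ) (hn' : n + 1 = n') (φ : M ⟶ E.X n)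
    (hφ : φ ≫ E.d n n' = 0) (n'' : ℤ) (hn'' : n'' + 1 = n) :
    DerivedCategory.Q.map (fromSgMap E n M n' hn' φ hφ) = 0 ↔
      ∃ g : M ⟶ E.X n'', g ≫ E.d n'' n = φ := by
  rw [Q_map_eq_zero_iff_inj, nonempty_homotopy_zero_iff, ofHom_fromSgMap,
    Cocycle.fromSingleMk_mem_coboundaries_iff φ (add_zero n) n' hn' hφ n'' hn'']

end

/-- `Hom(N[0], K[i])` in terms of `Hom(N[-i], K)` -/
lemma subsingleton_extD_iff (N : ModuleCat.{u} R) (K : Dual.D R) (i : ℤ) :
    Subsingleton (Sg 0 N ⟶ K⟦i⟧) ↔ Subsingleton (Sg i N ⟶ K) := by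
  constructor
  · intro h
    refine ⟨fun α β => ?_⟩
    have e : (Sg i N)⟦i⟧ ≅ Sg 0 N := SgShiftIso i 0 i (by omega) N
    have h1 : e.inv ≫ α⟦i⟧' = e.inv ≫ β⟦i⟧' := h.elim _ _
    exact (shiftFunctor (Dual.D R) i).map_injective ((cancel_epi e.inv).1 h1)
  · intro h
    refine ⟨fun φ ψ => ?_⟩
    have e : (Sg 0 N)⟦-i⟧ ≅ Sg i N := SgShiftIso (-i) i 0 (by omega) N
    have h1 : e.inv ≫ φ⟦-i⟧' ≫ (shiftFunctorCompIsoId (Dual.D R) i (-i) (by omega)).hom.app K =
        e.inv ≫ ψ⟦-i⟧' ≫ (shiftFunctorCompIsoId (Dual.D R) i (-i) (by omega)).hom.app K :=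
      h.elim _ _
    exact (shiftFunctor (Dual.D R) (-i)).map_injective
      ((cancel_mono _).1 ((cancel_epi e.inv).1 h1))

/-- (1)⇒(2) -/
theorem hom_Sg_eq_zero_of_injAmp (K : Dual.D R) (a b : ℤ) (E : DRing.Cx R)
    (hE : DRing.VanishesOutside E a b) (hinj : DRing.TermwiseInjective E) (e : DRing.toD E ≅ K)
    (N : ModuleCat.{u} R) (i : ℤ) (hi : i < a ∨ b < i) (ξ : Sg i N ⟶ K) : ξ = 0 := by
  haveI : E.IsKInjective :=
    isKInjective_of_vanishesBelow E a (fun j hj => hE j (Or.inl hj)) hinj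
  obtain ⟨f, hf⟩ := exists_map_eq_inj
    ((CochainComplex.singleFunctor (ModuleCat.{u} R) i).obj N) E (ξ ≫ e.inv)
  have hf0 : f = 0 := by
    apply HomologicalComplex.from_single_hom_ext
    exact (hE i hi).eq_of_tgt _ _
  rw [hf0, Functor.map_zero] at hf
  rw [← cancel_mono e.inv, zero_comp]
  exact hf.symm

lemma isZero_H_of_subsingleton_hom (K : Dual.D R) (i : ℤ)
    (h : Subsingleton (Sg i (ModuleCat.of R R) ⟶ K)) : IsZero ((H R i).obj K) := by
  haveI : Subsingleton ((H R i).obj K) := by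
    refine ⟨fun x y => ?_⟩
    have key : ∀ z : (H R i).obj K, z = 0 := by
      intro z
      obtain ⟨φ, hφ⟩ := exists_hom_Sg i (ModuleCat.of R R) K
        (ModuleCat.ofHom (LinearMap.toSpanSingleton R _ z))
      have hφ0 : φ = 0 := h.elim _ _
      rw [hφ0, Functor.map_zero, comp_zero] at hφ
      have := congrArg (fun g => g.hom (1 : R)) hφ
      simpa using this.symm
    rw [key x, key y]
  exact ModuleCat.isZero_of_subsingleton _

/-- (3)⇒(1) -/
theorem hasInjAmplitudeIn_of_ext (K : Dual.D R) (a b : ℤ)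
    (h : ∀ (I : Ideal R) (i : ℤ), (i < a ∨ b < i) →
      Subsingleton (Sg i (ModuleCat.of R (R ⧸ I)) ⟶ K)) :
    DRing.HasInjAmplitudeIn R a b K := by
  -- cohomology vanishing
  have hH : ∀ i, (i < a ∨ b < i) → IsZero ((H R i).obj K) := by
    intro i hi
    apply isZero_H_of_subsingleton_hom
    let e0 : ModuleCat.of R (R ⧸ (⊥ : Ideal R)) ≅ ModuleCat.of R R :=
      (Submodule.quotEquivOfEqBot (⊥ : Ideal R) rfl).toModuleIso
    have e1 : Sg i (ModuleCat.of R (R ⧸ (⊥ : Ideal R))) ≅ Sg i (ModuleCat.of R R) :=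
      (singleFunctor (ModuleCat.{u} R) i).mapIso e0
    have := h ⊥ i hi
    exact ⟨fun x y => (cancel_epi e1.hom).1 (this.elim _ _)⟩
  by_cases hab : a ≤ b
  swap
  · have hK : IsZero K := by
      haveI : K.IsLE b := by
        rw [DerivedCategory.isLE_iff]
        intro i hi
        exact hH i (Or.inr hi)
      haveI : K.IsGE (b + 1) := by
        rw [DerivedCategory.isGE_iff]
        intro i hi
        exact hH i (Or.inl (by omega))
      exact TStructure.t.isZero K b (b + 1) (by omega)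
    have hz : ∀ i, IsZero ((0 : DRing.Cx R).X i) := fun i =>
      Functor.map_isZero (HomologicalComplex.eval _ _ i) (isZero_zero _)
    refine ⟨0, fun i _ => hz i, fun i => ?_, ⟨?_⟩⟩
    · haveI : Injective ((0 : DRing.Cx R).X i) := (hz i).injective
      exact Module.injective_module_of_injective_object R ((0 : DRing.Cx R).X i)
    · exact (Functor.map_isZero DerivedCategory.Q (isZero_zero _)).iso hK
  haveI : K.IsGE a := by
    rw [DerivedCategory.isGE_iff]
    intro i hi
    exact hH i (Or.inl hi)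
  haveI : K.IsLE b := by
    rw [DerivedCategory.isLE_iff]
    intro i hi
    exact hH i (Or.inr hi)
  obtain ⟨L, hL, ⟨e⟩⟩ := DerivedCategory.exists_iso_Q_obj_of_isGE K a
  obtain ⟨E, j, hj, hEinj, hEge⟩ :=
    CochainComplex.Plus.modelCategoryQuillen.exists_quasiIso_injective L a
  let e' : DRing.toD E ≅ K := (asIso (DerivedCategory.Q.map j)).symm ≪≫ e.symm
  haveI : E.IsKInjective := CochainComplex.isKInjective_of_injective E a
  haveI : E.IsLE b := by
    rw [← DerivedCategory.isLE_Q_obj_iff]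
    exact TStructure.t.isLE_of_iso e'.symm b
  -- injectivity of the cycles
  have hcyc : Injective (E.cycles b) := by
    have hB : Module.Baer R (LinearMap.ker (E.d b (b + 1)).hom) := by
      haveI : Module.Injective R (E.X b) := Module.injective_module_of_injective_object R (E.X b)
      apply baer_ker (E.d b (b + 1)).hom (E.d (b + 1) (b + 2)).hom
      · have := E.d_comp_d b (b + 1) (b + 2)
        rw [← ModuleCat.hom_comp, this]
        rfl
      · intro I g hg
        have hg' : ModuleCat.ofHom g ≫ E.d (b + 1) (b + 2) = 0 := by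
          ext : 1
          rw [ModuleCat.hom_comp]
          exact hg
        have h0 : DerivedCategory.Q.map (fromSgMap E (b + 1) (ModuleCat.of R (R ⧸ I)) (b + 2)
            (by omega) (ModuleCat.ofHom g) hg') = 0 := by
          rw [← cancel_mono e'.hom, zero_comp]
          exact (h I (b + 1) (Or.inr (by omega))).elim _ _
        obtain ⟨hh, hhh⟩ := (Q_map_fromSgMap_eq_zero_iff E (b + 1) _ (b + 2) (by omega) _ hg' b
          rfl).1 h0
        refine ⟨hh.hom, ?_⟩
        rw [← ModuleCat.hom_comp, hhh]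
        rfl
    haveI := hB.injective
    have e2 : E.cycles b ≅ ModuleCat.of R (LinearMap.ker (E.d b (b + 1)).hom) :=
      IsLimit.conePointUniqueUpToIso (E.cyclesIsKernel b (b + 1) (by simp))
        (ModuleCat.kernelIsLimit _)
    exact Injective.of_iso e2.symm
      (Module.injective_object_of_injective_module R (LinearMap.ker (E.d b (b + 1)).hom))
  refine ⟨E.truncLE b, ?_, ?_, ⟨asIso (DerivedCategory.Q.map (E.ιTruncLE b)) ≪≫ e'⟩⟩
  · intro i hi
    rcases hi with hi | hi
    · exact (E.isZero_of_isStrictlyGE a i hi).of_iso (E.truncLEXIso b i (by omega))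
    · exact (E.truncLE b).isZero_of_isStrictlyLE b i hi
  · intro i
    haveI : Injective ((E.truncLE b).X i) := by
      rcases lt_trichotomy i b with hi | hi | hi
      · exact Injective.of_iso (E.truncLEXIso b i hi).symm (hEinj i)
      · subst hi
        exact Injective.of_iso (E.truncLEXIsoCycles i).symm hcyc
      · exact ((E.truncLE b).isZero_of_isStrictlyLE b i hi).injective
    exact Module.injective_module_of_injective_object R ((E.truncLE b).X i)

/-- Stacks 0A5T -/
theorem injAmp_tfae (K : Dual.D R) (a b : ℤ) :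
    [DRing.HasInjAmplitudeIn R a b K,
      ∀ (N : Type u) [AddCommGroup N] [Module R N] (i : ℤ), (i < a ∨ b < i) →
        Subsingleton (DRing.ExtD R (Dual.inD R N) K i),
      ∀ (I : Ideal R) (i : ℤ), (i < a ∨ b < i) →
        Subsingleton (DRing.ExtD R (Dual.inD R (R ⧸ I)) K i)].TFAE := by
  tfae_have 1 → 2 := by
    rintro ⟨E, hE, hinj, ⟨e⟩⟩ N _ _ i hi
    rw [subsingleton_extD_iff]
    exact ⟨fun x y => by
      rw [hom_Sg_eq_zero_of_injAmp K a b E hE hinj e _ i hi x,
        hom_Sg_eq_zero_of_injAmp K a b E hE hinj e _ i hi y]⟩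
  tfae_have 2 → 3 := fun h I i hi => h (R ⧸ I) i hi
  tfae_have 3 → 1 := fun h => hasInjAmplitudeIn_of_ext K a b
    (fun I i hi => (subsingleton_extD_iff _ K i).1 (h I i hi))
  tfae_finish

end Groth.Agent.Lib.Helper18.DR
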