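import Mathlib
import Groth.Agent.Lib.Helper18.DRHomSg
import Groth.Agent.Lib.Helper18.DRPerf

/-!
# A cocycle model for `Hom(K, M[p])` and Artin–Rees for `Ext` (helper18)
-/

set_option autoImplicit false
set_option linter.style.haveILetI false
universe u
open CategoryTheory CategoryTheory.Limits CategoryTheory.Pretriangulated DerivedCategory

attribute [local instance] HasDerivedCategory.standard

namespace Groth.Agent.Lib.Helper18.DR

variable {A : Type u} [CommRing A]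

section Model

variable (F : DRing.Cx A) (q : ℤ)

/-- cocycles of degree `-q` of `Hom(F, X)`: maps `F^q → X` killing the image of `d^{q-1}` -/
def Zc (X : ModuleCat.{u} A) : Submodule A (F.X q →ₗ[A] X) :=
  LinearMap.ker (LinearMap.lcomp A X (F.d (q - 1) q).hom)

lemma mem_Zc {X : ModuleCat.{u} A} (φ : F.X q →ₗ[A] X) :
    φ ∈ Zc F q X ↔ φ ∘ₗ (F.d (q - 1) q).hom = 0 := Iff.rfl

lemma Zc_cond {X : ModuleCat.{u} A} (φ : Zc F q X) :
    F.d (q - 1) q ≫ ModuleCat.ofHom φ.1 = 0 := by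
  ext x
  exact LinearMap.congr_fun ((mem_Zc F q φ.1).1 φ.2) x

lemma add_toSgMap (M : ModuleCat.{u} A) (φ ψ : F.X q ⟶ M) (hφ : F.d (q - 1) q ≫ φ = 0)
    (hψ : F.d (q - 1) q ≫ ψ = 0) :
    toSgMap F q M φ hφ + toSgMap F q M ψ hψ =
      toSgMap F q M (φ + ψ) (by rw [Preadditive.comp_add, hφ, hψ, add_zero]) := by
  apply HomologicalComplex.to_single_hom_ext
  rw [HomologicalComplex.add_f_apply, toSgMap_f, toSgMap_f, toSgMap_f, Preadditive.add_comp]
  rfl

lemma toSgMap_comp {M N : ModuleCat.{u} A} (g : M ⟶ N) (φ : F.X q ⟶ M)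
    (hφ : F.d (q - 1) q ≫ φ = 0) :
    toSgMap F q M φ hφ ≫ (CochainComplex.singleFunctor (ModuleCat.{u} A) q).map g =
      toSgMap F q N (φ ≫ g) (by rw [← Category.assoc, hφ, zero_comp]) := by
  apply HomologicalComplex.to_single_hom_ext
  rw [HomologicalComplex.comp_f, toSgMap_f, toSgMap_f]
  change _ ≫ ((HomologicalComplex.single (ModuleCat.{u} A) (ComplexShape.up ℤ) q).map g).f q = _
  rw [HomologicalComplex.single_map_f_self]
  simp

/-- the class of a cocycle in `Hom(F, X[-q])` -/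
noncomputable def clsSg (X : ModuleCat.{u} A) (φ : Zc F q X) : DRing.toD F ⟶ Sg q X :=
  DerivedCategory.Q.map (toSgMap F q X (ModuleCat.ofHom φ.1) (Zc_cond F q φ))

lemma clsSg_add (X : ModuleCat.{u} A) (φ ψ : Zc F q X) :
    clsSg F q X (φ + ψ) = clsSg F q X φ + clsSg F q X ψ := by
  have h : toSgMap F q X (ModuleCat.ofHom (φ + ψ).1) (Zc_cond F q (φ + ψ)) =
      toSgMap F q X (ModuleCat.ofHom φ.1) (Zc_cond F q φ) +
        toSgMap F q X (ModuleCat.ofHom ψ.1) (Zc_cond F q ψ) := by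
    rw [add_toSgMap]
    rfl
  exact (congrArg (fun t => DerivedCategory.Q.map t) h).trans (Functor.map_add _)

lemma clsSg_smul (X : ModuleCat.{u} A) (a : A) (φ : Zc F q X) :
    clsSg F q X (a • φ) = a • clsSg F q X φ := by
  have h : toSgMap F q X (ModuleCat.ofHom (a • φ).1) (Zc_cond F q (a • φ)) =
      a • toSgMap F q X (ModuleCat.ofHom φ.1) (Zc_cond F q φ) := by
    rw [smul_toSgMap]
    rfl
  exact (congrArg (fun t => DerivedCategory.Q.map t) h).trans (Functor.map_smul _ _ _)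

lemma clsSg_surjective [F.IsKProjective] (X : ModuleCat.{u} A) (ξ : DRing.toD F ⟶ Sg q X) :
    ∃ φ : Zc F q X, clsSg F q X φ = ξ := by
  obtain ⟨φ, hφ, h⟩ := exists_hom_toSg F q X ξ
  have hmem : φ.hom ∈ Zc F q X := by
    rw [mem_Zc]
    exact congrArg ModuleCat.Hom.hom hφ
  exact ⟨⟨φ.hom, hmem⟩, h.symm⟩

lemma clsSg_eq_zero_iff [F.IsKProjective] (X : ModuleCat.{u} A) (φ : Zc F q X) :
    clsSg F q X φ = 0 ↔ ∃ g : F.X (q + 1) →ₗ[A] X, g ∘ₗ (F.d q (q + 1)).hom = φ.1 := by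
  have h1 : clsSg F q X φ = 0 ↔
      DerivedCategory.Q.map (toSgMap F q X (ModuleCat.ofHom φ.1) (Zc_cond F q φ)) = 0 := Iff.rfl
  rw [h1, Q_map_toSgMap_eq_zero_iff]
  constructor
  · rintro ⟨g, hg⟩
    exact ⟨g.hom, congrArg ModuleCat.Hom.hom hg⟩
  · rintro ⟨g, hg⟩
    exact ⟨ModuleCat.ofHom g, by ext x; exact LinearMap.congr_fun hg x⟩

/-- postcomposition on cocycles -/
def ZcMap {X Y : ModuleCat.{u} A} (g : X ⟶ Y) (φ : Zc F q X) : Zc F q Y :=
  ⟨g.hom ∘ₗ φ.1, by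
    rw [mem_Zc, LinearMap.comp_assoc, (mem_Zc F q φ.1).1 φ.2, LinearMap.comp_zero]⟩

lemma clsSg_comp {X Y : ModuleCat.{u} A} (g : X ⟶ Y) (φ : Zc F q X) :
    clsSg F q X φ ≫ (singleFunctor (ModuleCat.{u} A) q).map g = clsSg F q Y (ZcMap F q g φ) := by
  change DerivedCategory.Q.map _ ≫ DerivedCategory.Q.map
    ((CochainComplex.singleFunctor (ModuleCat.{u} A) q).map g) = DerivedCategory.Q.map _
  rw [← Functor.map_comp, toSgMap_comp]
  rfl

variable {K : Dual.D A} (e : DRing.toD F ≅ K) (p : ℤ) (hpq : p + q = 0)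

/-- the class of a cocycle in `Hom(K, X[p])` -/
noncomputable def theta (X : ModuleCat.{u} A) : Zc F q X →ₗ[A] (K ⟶ (Sg 0 X)⟦p⟧) where
  toFun φ := e.inv ≫ clsSg F q X φ ≫ (SgShiftIso p q 0 hpq X).inv
  map_add' φ ψ := by
    rw [clsSg_add, Preadditive.add_comp, Preadditive.comp_add]
  map_smul' a φ := by
    rw [clsSg_smul, Linear.smul_comp, Linear.comp_smul]
    rfl

lemma theta_apply (X : ModuleCat.{u} A) (φ : Zc F q X) :
    theta F q e p hpq X φ = e.inv ≫ clsSg F q X φ ≫ (SgShiftIso p q 0 hpq X).inv := rfl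

lemma theta_surjective [F.IsKProjective] (X : ModuleCat.{u} A) :
    Function.Surjective (theta F q e p hpq X) := by
  intro ξ
  obtain ⟨φ, hφ⟩ := clsSg_surjective F q X (e.hom ≫ ξ ≫ (SgShiftIso p q 0 hpq X).hom)
  refine ⟨φ, ?_⟩
  rw [theta_apply, hφ]
  simp

lemma theta_eq_zero_iff [F.IsKProjective] (X : ModuleCat.{u} A) (φ : Zc F q X) :
    theta F q e p hpq X φ = 0 ↔ ∃ g : F.X (q + 1) →ₗ[A] X, g ∘ₗ (F.d q (q + 1)).hom = φ.1 := by
  rw [theta_apply, ← clsSg_eq_zero_iff]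
  constructor
  · intro h
    have h2 := congrArg (fun t => e.hom ≫ t ≫ (SgShiftIso p q 0 hpq X).hom) h
    simpa using h2
  · intro h
    rw [h, zero_comp, comp_zero]

lemma theta_comp {X Y : ModuleCat.{u} A} (g : X ⟶ Y) (φ : Zc F q X) :
    theta F q e p hpq X φ ≫ ((singleFunctor (ModuleCat.{u} A) 0).map g)⟦p⟧' =
      theta F q e p hpq Y (ZcMap F q g φ) := by
  rw [theta_apply, theta_apply]
  have hnat : (SgShiftIso p q 0 hpq X).inv ≫ ((singleFunctor (ModuleCat.{u} A) 0).map g)⟦p⟧' =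
      (singleFunctor (ModuleCat.{u} A) q).map g ≫ (SgShiftIso p q 0 hpq Y).inv := by
    have := ((singleFunctors (ModuleCat.{u} A)).shiftIso p q 0 hpq).inv.naturality g
    exact this.symm
  simp only [Category.assoc]
  rw [hnat, ← clsSg_comp, Category.assoc]

end Model

end Groth.Agent.Lib.Helper18.DR

namespace Groth.Agent.Lib.Helper18.DR

variable {A : Type u} [CommRing A]

section AR

lemma map_mem_smul_top {V W : Type*} [AddCommGroup V] [Module A V] [AddCommGroup W] [Module A W]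
    (J : Ideal A) (f : V →ₗ[A] W) {x : V} (hx : x ∈ J • (⊤ : Submodule A V)) :
    f x ∈ J • (⊤ : Submodule A W) := by
  have h1 : f x ∈ Submodule.map f (J • (⊤ : Submodule A V)) := Submodule.mem_map_of_mem hx
  rw [Submodule.map_smul''] at h1
  exact Submodule.smul_mono le_rfl le_top h1

/-- a map from a finite free module into `J M` lies in `J Hom(F₀, M)` -/
lemma comp_subtype_mem_smul_top (F₀ M : Type u) [AddCommGroup F₀] [Module A F₀] [Module.Free A F₀]
    [Module.Finite A F₀] [AddCommGroup M] [Module A M] (J : Ideal A)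
    (ψ : F₀ →ₗ[A] M) (hψ : ∀ x, ψ x ∈ J • (⊤ : Submodule A M)) :
    ψ ∈ J • (⊤ : Submodule A (F₀ →ₗ[A] M)) := by
  classical
  let b := Module.Free.chooseBasis A F₀
  have hsum : ψ = ∑ j, LinearMap.smulRightₗ (b.coord j) (ψ (b j)) := by
    apply b.ext
    intro k
    rw [LinearMap.sum_apply]
    simp only [LinearMap.smulRightₗ_apply, Module.Basis.coord_apply, Module.Basis.repr_self]
    rw [Finset.sum_eq_single k]
    · simp
    · intro j _ hj
      simp [Finsupp.single_apply, Ne.symm hj]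
    · intro h
      exact absurd (Finset.mem_univ k) h
  rw [hsum]
  exact Submodule.sum_mem _ (fun j _ => map_mem_smul_top J _ (hψ (b j)))

variable [IsNoetherianRing A] (I : Ideal A)

/-- S7149 -/
theorem ext_from_pseudoCoherent_into_pow_mul_image (K : Dual.D A)
    (hK : DRing.IsPseudoCoherent' A K) (M : Type u) [AddCommGroup M] [Module A M]
    [Module.Finite A M] (p : ℤ) :
    ∃ c : ℕ, ∀ n : ℕ, c ≤ n →
      ∀ e : K ⟶ (Dual.inD A ↥(I ^ n • ⊤ : Submodule A M))⟦p⟧,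
        e ≫ ((DerivedCategory.singleFunctor (ModuleCat.{u} A) 0).map
              (ModuleCat.ofHom (I ^ n • ⊤ : Submodule A M).subtype))⟦p⟧' ∈
          (I ^ (n - c) • ⊤ : Submodule A (K ⟶ (Dual.inD A M)⟦p⟧)) := by
  obtain ⟨F, c₀, hFc, hFff, ⟨e₀⟩⟩ := hK
  have hFproj : ∀ i, Module.Projective A (F.X i) := fun i => by
    haveI := (hFff i).2; exact Module.Projective.of_free
  haveI : F.IsKProjective := isKProjective_of_vanishesAbove F c₀ hFc hFproj
  obtain ⟨q, hpq⟩ : ∃ q : ℤ, p + q = 0 := ⟨-p, by omega⟩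
  haveI := (hFff q).1
  haveI := (hFff q).2
  haveI : Module.Finite A (F.X q →ₗ[A] M) := Module.Finite.linearMap _ _ _ _
  obtain ⟨k, hk⟩ := Ideal.exists_pow_inf_eq_pow_smul I (Zc F q (ModuleCat.of A M))
  refine ⟨k, fun n hn ξ => ?_⟩
  obtain ⟨φ, rfl⟩ := theta_surjective F q e₀ p hpq
    (ModuleCat.of A ↥(I ^ n • ⊤ : Submodule A M)) ξ
  rw [theta_comp]
  set ψ := ZcMap F q (ModuleCat.ofHom (I ^ n • ⊤ : Submodule A M).subtype) φ with hψdef
  have h1 : ψ.1 ∈ I ^ n • (⊤ : Submodule A (F.X q →ₗ[A] M)) :=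
    comp_subtype_mem_smul_top (F.X q) M (I ^ n) ψ.1 (fun x => (φ.1 x).2)
  have h2 : ψ.1 ∈ I ^ (n - k) • Zc F q (ModuleCat.of A M) := by
    have h3 : ψ.1 ∈ I ^ n • (⊤ : Submodule A (F.X q →ₗ[A] M)) ⊓ Zc F q (ModuleCat.of A M) :=
      ⟨h1, ψ.2⟩
    rw [hk n hn] at h3
    exact Submodule.smul_mono le_rfl inf_le_right h3
  have h4 : ψ ∈ I ^ (n - k) • (⊤ : Submodule A (Zc F q (ModuleCat.of A M))) :=
    (Submodule.mem_smul_top_iff (I ^ (n - k)) (Zc F q (ModuleCat.of A M)) ψ).mpr h2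
  exact map_mem_smul_top (I ^ (n - k)) (theta F q e₀ p hpq (ModuleCat.of A M)) h4

end AR

end Groth.Agent.Lib.Helper18.DR
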