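import Mathlib
import Groth.Agent.Lib.Helper18.DRExtAR

/-!
# `Ext` from a pseudo-coherent complex into the quotients `M / I^n M` (helper18)
-/

set_option autoImplicit false
set_option linter.style.haveILetI false
universe u
open CategoryTheory CategoryTheory.Limits CategoryTheory.Pretriangulated DerivedCategory

attribute [local instance] HasDerivedCategory.standard

namespace Groth.Agent.Lib.Helper18.DR

variable {A : Type u} [CommRing A]

section Model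

variable (F : DRing.Cx A) (q : ℤ) {K : Dual.D A} (e : DRing.toD F ≅ K) (p : ℤ) (hpq : p + q = 0)

lemma theta_eq_zero_iff' [F.IsKProjective] (r : ℤ) (hr : q + 1 = r) (X : ModuleCat.{u} A)
    (φ : Zc F q X) :
    theta F q e p hpq X φ = 0 ↔ ∃ g : F.X r →ₗ[A] X, g ∘ₗ (F.d q r).hom = φ.1 := by
  subst hr
  exact theta_eq_zero_iff F q e p hpq X φ

lemma theta_of_comp_d [F.IsKProjective] (r : ℤ) (hr : q + 1 = r) (X : ModuleCat.{u} A)
    (g : F.X r →ₗ[A] X) (h : g ∘ₗ (F.d q r).hom ∈ Zc F q X) :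
    theta F q e p hpq X ⟨g ∘ₗ (F.d q r).hom, h⟩ = 0 :=
  (theta_eq_zero_iff' F q e p hpq r hr X _).2 ⟨g, rfl⟩

end Model

section Tors

variable [IsNoetherianRing A] (I : Ideal A)

/-- `Hom(K, M[p])` is a finite module for `K` pseudo-coherent and `M` finite -/
lemma finite_hom_of_isPseudoCoherent' (K : Dual.D A) (hK : DRing.IsPseudoCoherent' A K)
    (M : Type u) [AddCommGroup M] [Module A M] [Module.Finite A M] (p : ℤ) :
    Module.Finite A (K ⟶ (Dual.inD A M)⟦p⟧) := by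
  obtain ⟨F, c₀, hFc, hFff, ⟨e₀⟩⟩ := hK
  have hFproj : ∀ i, Module.Projective A (F.X i) := fun i => by
    haveI := (hFff i).2; exact Module.Projective.of_free
  haveI : F.IsKProjective := isKProjective_of_vanishesAbove F c₀ hFc hFproj
  obtain ⟨q, hpq⟩ : ∃ q : ℤ, p + q = 0 := ⟨-p, by omega⟩
  haveI := (hFff q).1
  haveI := (hFff q).2
  haveI : Module.Finite A (F.X q →ₗ[A] M) := Module.Finite.linearMap _ _ _ _
  haveI : IsNoetherian A (F.X q →ₗ[A] M) := inferInstance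
  haveI : Module.Finite A (Zc F q (ModuleCat.of A M)) := Module.IsNoetherian.finite A _
  exact Module.Finite.of_surjective (theta F q e₀ p hpq (ModuleCat.of A M))
    (theta_surjective F q e₀ p hpq (ModuleCat.of A M))

/-- uniform torsion exponent on a finite module -/
lemma exists_pow_smul_eq_zero_of_finite (V : Type*) [AddCommGroup V] [Module A V]
    [Module.Finite A V] (h : ∀ v : V, ∃ n : ℕ, ∀ x ∈ I ^ n, x • v = 0) :
    ∃ t : ℕ, ∀ x ∈ I ^ t, ∀ v : V, x • v = 0 := by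
  obtain ⟨r, s, hs⟩ := Module.Finite.exists_fin (R := A) (M := V)
  choose n hn using fun k => h (s k)
  refine ⟨Finset.univ.sup n, fun x hx v => ?_⟩
  have hv : v ∈ Submodule.span A (Set.range s) := by rw [hs]; trivial
  induction hv using Submodule.span_induction with
  | mem v hv =>
    obtain ⟨k, rfl⟩ := hv
    exact hn k x (Ideal.pow_le_pow_right (Finset.le_sup (f := n) (Finset.mem_univ k)) hx)
  | zero => exact smul_zero x
  | add v w _ _ hv hw => rw [smul_add, hv, hw, add_zero]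
  | smul a v _ hv => rw [smul_comm, hv, smul_zero]

/-- the maps `Ext^p(K, I^n M) → Ext^p(K, M)` eventually vanish when `Ext^p(K, M)` is
`I`-power torsion -/
lemma exists_forall_comp_eq_zero (K : Dual.D A) (hK : DRing.IsPseudoCoherent' A K)
    (M : Type u) [AddCommGroup M] [Module A M] [Module.Finite A M] (p : ℤ)
    (htors : ∀ e : K ⟶ (Dual.inD A M)⟦p⟧, ∃ n : ℕ, ∀ x ∈ I ^ n, x • e = 0) :
    ∃ N₀ : ℕ, ∀ n : ℕ, N₀ ≤ n →
      ∀ e : K ⟶ (Dual.inD A ↥(I ^ n • ⊤ : Submodule A M))⟦p⟧,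
        e ≫ ((DerivedCategory.singleFunctor (ModuleCat.{u} A) 0).map
              (ModuleCat.ofHom (I ^ n • ⊤ : Submodule A M).subtype))⟦p⟧' = 0 := by
  haveI := finite_hom_of_isPseudoCoherent' K hK M p
  obtain ⟨t, ht⟩ := exists_pow_smul_eq_zero_of_finite I (K ⟶ (Dual.inD A M)⟦p⟧) htors
  obtain ⟨c, hc⟩ := ext_from_pseudoCoherent_into_pow_mul_image I K hK M p
  refine ⟨c + t, fun n hn e => ?_⟩
  have h1 := hc n (by omega) e
  have hle : I ^ (n - c) ≤ I ^ t := Ideal.pow_le_pow_right (by omega)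
  refine Submodule.smul_induction_on h1 (fun x hx v _ => ht x (hle hx) v) ?_
  intro v w hv hw
  rw [hv, hw, add_zero]

end Tors

end Groth.Agent.Lib.Helper18.DR

namespace Groth.Agent.Lib.Helper18.DR

variable {A : Type u} [CommRing A]

section Main

variable [IsNoetherianRing A] (I : Ideal A)

/-- S7164, injectivity part -/
theorem exists_injective_comp_mkQ (K : Dual.D A) (hK : DRing.IsPseudoCoherent' A K)
    (M : Type u) [AddCommGroup M] [Module A M] [Module.Finite A M] (i : ℤ)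
    (htors : ∀ e : K ⟶ (Dual.inD A M)⟦i⟧, ∃ n : ℕ, ∀ x ∈ I ^ n, x • e = 0) :
    ∃ m : ℕ, Function.Injective (fun e : K ⟶ (Dual.inD A M)⟦i⟧ =>
      e ≫ ((DerivedCategory.singleFunctor (ModuleCat.{u} A) 0).map
        (ModuleCat.ofHom (I ^ m • ⊤ : Submodule A M).mkQ))⟦i⟧') := by
  obtain ⟨N₀, hN₀⟩ := exists_forall_comp_eq_zero I K hK M i htors
  obtain ⟨F, c₀, hFc, hFff, ⟨e₀⟩⟩ := hK
  have hFproj : ∀ j, Module.Projective A (F.X j) := fun j => by
    haveI := (hFff j).2; exact Module.Projective.of_free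
  haveI : F.IsKProjective := isKProjective_of_vanishesAbove F c₀ hFc hFproj
  obtain ⟨q, hiq⟩ : ∃ q : ℤ, i + q = 0 := ⟨-i, by omega⟩
  refine ⟨N₀, ?_⟩
  intro e₁ e₂ h12
  rw [← sub_eq_zero]
  have h0 : (e₁ - e₂) ≫ ((DerivedCategory.singleFunctor (ModuleCat.{u} A) 0).map
      (ModuleCat.ofHom (I ^ N₀ • ⊤ : Submodule A M).mkQ))⟦i⟧' = 0 := by
    rw [Preadditive.sub_comp]
    exact sub_eq_zero.2 h12
  obtain ⟨φ, hφ⟩ := theta_surjective F q e₀ i hiq (ModuleCat.of A M) (e₁ - e₂)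
  rw [← hφ] at h0 ⊢
  rw [theta_comp] at h0
  obtain ⟨gbar, hgbar⟩ := (theta_eq_zero_iff' F q e₀ i hiq (q + 1) rfl _ _).1 h0
  haveI := hFproj (q + 1)
  obtain ⟨g, hg⟩ := Module.projective_lifting_property (I ^ N₀ • ⊤ : Submodule A M).mkQ gbar
    (Submodule.mkQ_surjective _)
  have hdd : ∀ x, (F.d q (q + 1)).hom ((F.d (q - 1) q).hom x) = 0 := fun x => by
    have h := congrArg (fun f => f.hom x) (F.d_comp_d (q - 1) q (q + 1))
    exact h
  have hgdZ : g ∘ₗ (F.d q (q + 1)).hom ∈ Zc F q (ModuleCat.of A M) := by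
    rw [mem_Zc]
    apply LinearMap.ext
    intro x
    change g ((F.d q (q + 1)).hom ((F.d (q - 1) q).hom x)) = 0
    rw [hdd, map_zero]
  let φ' : Zc F q (ModuleCat.of A M) := φ - ⟨g ∘ₗ (F.d q (q + 1)).hom, hgdZ⟩
  have hφ'mem : ∀ x, φ'.1 x ∈ (I ^ N₀ • ⊤ : Submodule A M) := by
    intro x
    rw [← Submodule.Quotient.mk_eq_zero]
    change (I ^ N₀ • ⊤ : Submodule A M).mkQ (φ.1 x - g ((F.d q (q + 1)).hom x)) = 0
    rw [map_sub]
    have h1 : (I ^ N₀ • ⊤ : Submodule A M).mkQ (g ((F.d q (q + 1)).hom x)) =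
        gbar ((F.d q (q + 1)).hom x) := LinearMap.congr_fun hg _
    have h2 : gbar ((F.d q (q + 1)).hom x) = (I ^ N₀ • ⊤ : Submodule A M).mkQ (φ.1 x) :=
      LinearMap.congr_fun hgbar x
    rw [h1, h2, sub_self]
  let φ'' : F.X q →ₗ[A] ↥(I ^ N₀ • ⊤ : Submodule A M) :=
    LinearMap.codRestrict (I ^ N₀ • ⊤ : Submodule A M) φ'.1 hφ'mem
  have hφ''Z : φ'' ∈ Zc F q (ModuleCat.of A ↥(I ^ N₀ • ⊤ : Submodule A M)) := by
    rw [mem_Zc]
    apply LinearMap.ext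
    intro x
    apply Subtype.ext
    change φ'.1 ((F.d (q - 1) q).hom x) = 0
    exact LinearMap.congr_fun ((mem_Zc F q φ'.1).1 φ'.2) x
  have h1 := hN₀ N₀ le_rfl (theta F q e₀ i hiq _ ⟨φ'', hφ''Z⟩)
  rw [theta_comp] at h1
  have h2 : ZcMap F q (ModuleCat.ofHom (I ^ N₀ • ⊤ : Submodule A M).subtype) ⟨φ'', hφ''Z⟩ = φ' :=
    Subtype.ext (LinearMap.ext fun x => rfl)
  rw [h2] at h1
  have h3 : φ = φ' + ⟨g ∘ₗ (F.d q (q + 1)).hom, hgdZ⟩ := by simp [φ']
  have h4 := theta_of_comp_d F q e₀ i hiq (q + 1) rfl (ModuleCat.of A M) g hgdZ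
  rw [h3, map_add, h1, h4, add_zero]

/-- S7164, Mittag-Leffler part -/
theorem exists_range_subset_range (K : Dual.D A) (hK : DRing.IsPseudoCoherent' A K)
    (M : Type u) [AddCommGroup M] [Module A M] [Module.Finite A M] (i : ℤ) (n : ℕ)
    (htors : ∀ e : K ⟶ (Dual.inD A ↥(I ^ n • ⊤ : Submodule A M))⟦i + 1⟧,
      ∃ k : ℕ, ∀ x ∈ I ^ k, x • e = 0) :
    ∃ (m' : ℕ) (hnm : n ≤ m'),
      Set.range (fun e : K ⟶ (Dual.inD A (M ⧸ (I ^ m' • ⊤ : Submodule A M)))⟦i⟧ =>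
        e ≫ ((DerivedCategory.singleFunctor (ModuleCat.{u} A) 0).map (ModuleCat.ofHom
          (Submodule.mapQ (I ^ m' • ⊤ : Submodule A M) (I ^ n • ⊤ : Submodule A M)
            (LinearMap.id : M →ₗ[A] M)
            (Submodule.smul_mono_left (Ideal.pow_le_pow_right hnm)))))⟦i⟧') ⊆
      Set.range (fun e : K ⟶ (Dual.inD A M)⟦i⟧ =>
        e ≫ ((DerivedCategory.singleFunctor (ModuleCat.{u} A) 0).map
          (ModuleCat.ofHom (I ^ n • ⊤ : Submodule A M).mkQ))⟦i⟧') := by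
  haveI : Module.Finite A ↥(I ^ n • ⊤ : Submodule A M) := Module.IsNoetherian.finite A _
  obtain ⟨N₁, hN₁⟩ := exists_forall_comp_eq_zero I K hK ↥(I ^ n • ⊤ : Submodule A M) (i + 1) htors
  obtain ⟨F, c₀, hFc, hFff, ⟨e₀⟩⟩ := hK
  have hFproj : ∀ j, Module.Projective A (F.X j) := fun j => by
    haveI := (hFff j).2; exact Module.Projective.of_free
  haveI : F.IsKProjective := isKProjective_of_vanishesAbove F c₀ hFc hFproj
  obtain ⟨q, hiq⟩ : ∃ q : ℤ, i + q = 0 := ⟨-i, by omega⟩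
  have hiq' : i + 1 + (q - 1) = 0 := by omega
  refine ⟨n + N₁, Nat.le_add_right n N₁, ?_⟩
  rintro y ⟨ξ, rfl⟩
  obtain ⟨ξb, rfl⟩ := theta_surjective F q e₀ i hiq
    (ModuleCat.of A (M ⧸ (I ^ (n + N₁) • ⊤ : Submodule A M))) ξ
  haveI := hFproj q
  obtain ⟨ζ, hζ⟩ := Module.projective_lifting_property (I ^ (n + N₁) • ⊤ : Submodule A M).mkQ
    ξb.1 (Submodule.mkQ_surjective _)
  have hdd : ∀ x, (F.d (q - 1) q).hom ((F.d (q - 1 - 1) (q - 1)).hom x) = 0 := fun x => by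
    have h := congrArg (fun f => f.hom x) (F.d_comp_d (q - 1 - 1) (q - 1) q)
    exact h
  have hβmem : ∀ x, ζ ((F.d (q - 1) q).hom x) ∈ (I ^ (n + N₁) • ⊤ : Submodule A M) := by
    intro x
    rw [← Submodule.Quotient.mk_eq_zero]
    have h1 : (I ^ (n + N₁) • ⊤ : Submodule A M).mkQ (ζ ((F.d (q - 1) q).hom x)) =
        ξb.1 ((F.d (q - 1) q).hom x) := LinearMap.congr_fun hζ _
    have h2 : ξb.1 ((F.d (q - 1) q).hom x) = 0 :=
      LinearMap.congr_fun ((mem_Zc F q ξb.1).1 ξb.2) x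
    exact h1.trans h2
  have hMq : (I ^ (n + N₁) • ⊤ : Submodule A M) = I ^ N₁ • (I ^ n • ⊤ : Submodule A M) := by
    rw [← Submodule.mul_smul, ← pow_add, add_comm]
  have hβmem' : ∀ x, ζ ((F.d (q - 1) q).hom x) ∈ (I ^ n • ⊤ : Submodule A M) := fun x =>
    Submodule.smul_mono_left (Ideal.pow_le_pow_right (Nat.le_add_right n N₁)) (hβmem x)
  let β' : F.X (q - 1) →ₗ[A] ↥(I ^ n • ⊤ : Submodule A M) :=
    LinearMap.codRestrict (I ^ n • ⊤ : Submodule A M) (ζ ∘ₗ (F.d (q - 1) q).hom) hβmem'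
  have hβ'mem : ∀ x, β' x ∈ (I ^ N₁ • ⊤ : Submodule A ↥(I ^ n • ⊤ : Submodule A M)) := by
    intro x
    rw [Submodule.mem_smul_top_iff, ← hMq]
    exact hβmem x
  let β'' : F.X (q - 1) →ₗ[A] ↥(I ^ N₁ • ⊤ : Submodule A ↥(I ^ n • ⊤ : Submodule A M)) :=
    LinearMap.codRestrict _ β' hβ'mem
  have hβ''Z : β'' ∈ Zc F (q - 1)
      (ModuleCat.of A ↥(I ^ N₁ • ⊤ : Submodule A ↥(I ^ n • ⊤ : Submodule A M))) := by
    rw [mem_Zc]
    apply LinearMap.ext
    intro x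
    apply Subtype.ext
    apply Subtype.ext
    change ζ ((F.d (q - 1) q).hom ((F.d (q - 1 - 1) (q - 1)).hom x)) = 0
    rw [hdd, map_zero]
  have h1 := hN₁ N₁ le_rfl (theta F (q - 1) e₀ (i + 1) hiq' _ ⟨β'', hβ''Z⟩)
  rw [theta_comp] at h1
  obtain ⟨η, hη⟩ := (theta_eq_zero_iff' F (q - 1) e₀ (i + 1) hiq' q (by omega) _ _).1 h1
  have hη' : ∀ x, (η ((F.d (q - 1) q).hom x) : M) = ζ ((F.d (q - 1) q).hom x) := fun x =>
    congrArg Subtype.val (LinearMap.congr_fun hη x)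
  let ζ' : F.X q →ₗ[A] M := ζ - (I ^ n • ⊤ : Submodule A M).subtype ∘ₗ η
  have hζ'Z : ζ' ∈ Zc F q (ModuleCat.of A M) := by
    rw [mem_Zc]
    apply LinearMap.ext
    intro x
    change ζ ((F.d (q - 1) q).hom x) - (η ((F.d (q - 1) q).hom x) : M) = 0
    rw [hη', sub_self]
  refine ⟨theta F q e₀ i hiq (ModuleCat.of A M) ⟨ζ', hζ'Z⟩, ?_⟩
  change theta F q e₀ i hiq (ModuleCat.of A M) ⟨ζ', hζ'Z⟩ ≫ _ = theta F q e₀ i hiq _ ξb ≫ _
  rw [theta_comp, theta_comp]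
  congr 1
  apply Subtype.ext
  apply LinearMap.ext
  intro x
  change (I ^ n • ⊤ : Submodule A M).mkQ (ζ x - (η x : M)) =
    Submodule.mapQ (I ^ (n + N₁) • ⊤ : Submodule A M) (I ^ n • ⊤ : Submodule A M)
      (LinearMap.id : M →ₗ[A] M)
      (Submodule.smul_mono_left (Ideal.pow_le_pow_right (Nat.le_add_right n N₁))) (ξb.1 x)
  have h3 : ξb.1 x = (I ^ (n + N₁) • ⊤ : Submodule A M).mkQ (ζ x) :=
    (LinearMap.congr_fun hζ x).symm
  rw [h3, map_sub]
  have h4 : (I ^ n • ⊤ : Submodule A M).mkQ (η x : M) = 0 := by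
    rw [Submodule.mkQ_apply, Submodule.Quotient.mk_eq_zero]
    exact (η x).2
  rw [h4, sub_zero]
  rfl

end Main

end Groth.Agent.Lib.Helper18.DR
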