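import Mathlib
import Groth.Agent.Lib.Helper18.DRInjAmp
import Groth.Agent.Lib.Helper18.DRInd
import Groth.Agent.Lib.Helper18.DRDC1

/-!
# Finite injective dimension: two-out-of-three and dévissage (helper18)
-/

set_option autoImplicit false
set_option linter.style.haveILetI false
universe u
open CategoryTheory CategoryTheory.Limits CategoryTheory.Pretriangulated DerivedCategory

attribute [local instance] HasDerivedCategory.standard

namespace Groth.Agent.Lib.Helper18.DR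

variable {R : Type u} [CommRing R]

lemma hasFiniteInjDim_iff (K : Dual.D R) :
    DRing.HasFiniteInjDim R K ↔ ∃ a b : ℤ, ∀ (N : Type u) [AddCommGroup N] [Module R N] (i : ℤ),
      (i < a ∨ b < i) → Subsingleton (DRing.ExtD R (Dual.inD R N) K i) := by
  constructor
  · rintro ⟨a, b, h⟩
    exact ⟨a, b, ((injAmp_tfae K a b).out 0 1).1 h⟩
  · rintro ⟨a, b, h⟩
    exact ⟨a, b, ((injAmp_tfae K a b).out 0 1).2 h⟩

lemma hasFiniteInjDim_of_iso {X Y : Dual.D R} (e : X ≅ Y) (h : DRing.HasFiniteInjDim R X) :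
    DRing.HasFiniteInjDim R Y := by
  obtain ⟨a, b, E, hE, hinj, ⟨e'⟩⟩ := h
  exact ⟨a, b, E, hE, hinj, ⟨e' ≪≫ e⟩⟩

lemma hasFiniteInjDim_of_isZero (X : Dual.D R) (hX : IsZero X) : DRing.HasFiniteInjDim R X := by
  rw [hasFiniteInjDim_iff]
  refine ⟨0, 0, fun N _ _ i _ => ?_⟩
  have hz : IsZero (X⟦i⟧) := (shiftFunctor (Dual.D R) i).map_isZero hX
  exact ⟨fun x y => hz.eq_of_tgt _ _⟩

lemma hasFiniteInjDim_obj₂ (T : Triangle (Dual.D R)) (hT : T ∈ distTriang (Dual.D R))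
    (h1 : DRing.HasFiniteInjDim R T.obj₁) (h3 : DRing.HasFiniteInjDim R T.obj₃) :
    DRing.HasFiniteInjDim R T.obj₂ := by
  rw [hasFiniteInjDim_iff] at h1 h3 ⊢
  obtain ⟨a1, b1, h1⟩ := h1
  obtain ⟨a3, b3, h3⟩ := h3
  refine ⟨min a1 a3, max b1 b3, fun N _ _ i hi => ?_⟩
  exact Groth.Agent.Lib.Helper11.subsingleton_hom_shift_obj₂ T hT _ i
    (h1 N i (by omega)) (h3 N i (by omega))

lemma hasFiniteInjDim_shift (X : Dual.D R) (n : ℤ) (h : DRing.HasFiniteInjDim R X) :
    DRing.HasFiniteInjDim R (X⟦n⟧) := by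
  rw [hasFiniteInjDim_iff] at h ⊢
  obtain ⟨a, b, h⟩ := h
  refine ⟨a - n, b - n, fun N _ _ i hi => ?_⟩
  have := h N (n + i) (by omega)
  exact subsingleton_hom_of_iso ((shiftFunctorAdd' (Dual.D R) n i (n + i) rfl).app X) this

lemma hasFiniteInjDim_Sg (M : ModuleCat.{u} R) (i : ℤ)
    (h : DRing.HasFiniteInjDim R (Dual.inD R M)) : DRing.HasFiniteInjDim R (Sg i M) :=
  hasFiniteInjDim_of_iso (SgShiftIso (-i) i 0 (by omega) M) (hasFiniteInjDim_shift _ (-i) h)

/-- Stacks 0A5U -/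
theorem hasFiniteInjDim_devissage :
    (∀ (K : Dual.D R), (∃ a b : ℤ, ∀ i : ℤ, (i < a ∨ b < i) → Subsingleton (Dual.HD R K i)) →
        (∀ i : ℤ, DRing.HasFiniteInjDim R (Dual.inD R (Dual.HD R K i))) →
          DRing.HasFiniteInjDim R K) ∧
      (∀ (K : DRing.Cx R) (a b : ℤ), DRing.VanishesOutside K a b →
        (∀ i : ℤ, DRing.HasFiniteInjDim R (Dual.inD R (K.X i))) →
          DRing.HasFiniteInjDim R (DRing.toD K)) := by
  constructor
  · rintro K ⟨a, b, hK⟩ h
    refine cohomological_induction (DRing.HasFiniteInjDim R) (fun e h => hasFiniteInjDim_of_iso e h)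
      hasFiniteInjDim_of_isZero hasFiniteInjDim_obj₂ K a b (fun i hi => ?_) (fun i _ _ => ?_)
    · haveI := hK i hi
      exact ModuleCat.isZero_of_subsingleton _
    · exact hasFiniteInjDim_Sg _ i (h i)
  · intro K a b hK h
    exact bounded_induction (DRing.HasFiniteInjDim R) (fun e h => hasFiniteInjDim_of_iso e h)
      hasFiniteInjDim_of_isZero hasFiniteInjDim_obj₂ K a b hK
      (fun i _ _ => hasFiniteInjDim_Sg _ i (h i))

end Groth.Agent.Lib.Helper18.DR
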