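import Mathlib
import Groth.Agent.Lib.Helper18.DRInjAmp2
import Groth.Agent.Lib.Helper18.DRExtAR2
import Groth.Agent.Lib.Helper18.DRNoeth

/-!
# Finiteness of `Hom(K, L[i])` for `L` of finite injective dimension (helper18)
-/

set_option autoImplicit false
set_option linter.style.haveILetI false
universe u
open CategoryTheory CategoryTheory.Limits CategoryTheory.Pretriangulated DerivedCategory

attribute [local instance] HasDerivedCategory.standard

namespace Groth.Agent.Lib.Helper18.DR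

variable {A : Type u} [CommRing A]

/-- no maps from `D^{≤ a-1}` to a complex of injectives living in degrees `≥ a` -/
lemma hom_eq_zero_of_isLE_of_injAmp (E : DRing.Cx A) (a b : ℤ) (hE : DRing.VanishesOutside E a b)
    (hinj : DRing.TermwiseInjective E) (X : Dual.D A) [X.IsLE (a - 1)] (f : X ⟶ DRing.toD E) :
    f = 0 := by
  haveI : E.IsKInjective :=
    isKInjective_of_vanishesBelow E a (fun j hj => hE j (Or.inl hj)) hinj
  obtain ⟨X', _, ⟨eX⟩⟩ := DerivedCategory.exists_iso_Q_obj_of_isLE X (a - 1)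
  obtain ⟨φ, hφ⟩ := exists_map_eq_inj X' E (eX.inv ≫ f)
  have hφ0 : φ = 0 := by
    ext j : 1
    by_cases hj : j < a
    · exact (hE j (Or.inl hj)).eq_of_tgt _ _
    · exact (X'.isZero_of_isStrictlyLE (a - 1) j (by omega)).eq_of_src _ _
  rw [hφ0, Functor.map_zero] at hφ
  rw [← cancel_epi eX.inv, comp_zero]
  exact hφ.symm

/-- no maps from `D^{≥ b+1}` to a complex of injectives living in degrees `≤ b` -/
lemma hom_eq_zero_of_isGE_of_injAmp (E : DRing.Cx A) (a b : ℤ) (hE : DRing.VanishesOutside E a b)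
    (hinj : DRing.TermwiseInjective E) (X : Dual.D A) [X.IsGE (b + 1)] (f : X ⟶ DRing.toD E) :
    f = 0 := by
  haveI : E.IsKInjective :=
    isKInjective_of_vanishesBelow E a (fun j hj => hE j (Or.inl hj)) hinj
  obtain ⟨X', _, ⟨eX⟩⟩ := DerivedCategory.exists_iso_Q_obj_of_isGE X (b + 1)
  obtain ⟨φ, hφ⟩ := exists_map_eq_inj X' E (eX.inv ≫ f)
  have hφ0 : φ = 0 := by
    ext j : 1
    by_cases hj : b < j
    · exact (hE j (Or.inr hj)).eq_of_tgt _ _
    · exact (X'.isZero_of_isStrictlyGE (b + 1) j (by omega)).eq_of_src _ _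
  rw [hφ0, Functor.map_zero] at hφ
  rw [← cancel_epi eX.inv, comp_zero]
  exact hφ.symm

variable [IsNoetherianRing A]

/-- `Hom(P, Y)` is finite for `P` pseudo-coherent and `Y` bounded with finite cohomology -/
theorem finite_hom_of_isPseudoCoherent'_of_bounded (P : Dual.D A)
    (hP : DRing.IsPseudoCoherent' A P) (Y : Dual.D A) (a b : ℤ)
    (hYz : ∀ j : ℤ, (j < a ∨ b < j) → IsZero ((H A j).obj Y))
    (hY : ∀ j : ℤ, Module.Finite A (Dual.HD A Y j)) : Module.Finite A (P ⟶ Y) := by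
  refine cohomological_induction (fun Z : Dual.D A => Module.Finite A (P ⟶ Z)) ?_ ?_ ?_ Y a b hYz ?_
  · intro X Y' e h
    haveI := h
    exact Module.Finite.of_surjective (Linear.rightComp A P e.hom)
      (fun g => ⟨g ≫ e.inv, by simp⟩)
  · intro X hX
    haveI : Subsingleton (P ⟶ X) := ⟨fun f g => hX.eq_of_tgt f g⟩
    exact Module.Finite.of_finite
  · intro T hT h1 h3
    haveI := h1
    haveI := h3
    haveI : IsNoetherian A (P ⟶ T.obj₁) := isNoetherian_of_isNoetherianRing_of_finite A _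
    haveI : IsNoetherian A (P ⟶ T.obj₃) := isNoetherian_of_isNoetherianRing_of_finite A _
    haveI : IsNoetherian A (P ⟶ T.obj₂) :=
      isNoetherian_of_range_eq_ker (Linear.rightComp A P T.mor₁) (Linear.rightComp A P T.mor₂) (by
        ext g
        constructor
        · rintro ⟨g', rfl⟩
          change (g' ≫ T.mor₁) ≫ T.mor₂ = 0
          rw [Category.assoc, comp_distTriang_mor_zero₁₂ _ hT, comp_zero]
        · intro hg
          obtain ⟨g', hg'⟩ := Triangle.coyoneda_exact₂ _ hT g hg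
          exact ⟨g', hg'.symm⟩)
    exact Module.IsNoetherian.finite A _
  · intro j _ _
    haveI := hY j
    haveI : Module.Finite A ((H A j).obj Y) := hY j
    have h1 := finite_hom_of_isPseudoCoherent' P hP ((H A j).obj Y) (-j)
    haveI := h1
    exact Module.Finite.of_surjective
      (Linear.rightComp A P (SgShiftIso (-j) j 0 (by omega) ((H A j).obj Y)).hom)
      (fun g => ⟨g ≫ (SgShiftIso (-j) j 0 (by omega) ((H A j).obj Y)).inv, by simp⟩)

/-- `Hom(K, Y)` is finite when `K` and `Y` have finite cohomology modules and `Y` has finite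
injective dimension -/
theorem finite_hom_of_finiteInjDim (K Y : Dual.D A)
    (hK : ∀ i : ℤ, Module.Finite A (Dual.HD A K i)) (hY : ∀ i : ℤ, Module.Finite A (Dual.HD A Y i))
    (hYi : DRing.HasFiniteInjDim A Y) : Module.Finite A (K ⟶ Y) := by
  obtain ⟨a, b₀, E, hE₀, hinj, ⟨e⟩⟩ := hYi
  obtain ⟨b, hab, hE⟩ : ∃ b : ℤ, a ≤ b ∧ DRing.VanishesOutside E a b :=
    ⟨max a b₀, le_max_left _ _, VanishesOutside.mono hE₀ le_rfl (le_max_right _ _)⟩
  -- reduce to `Y = toD E`
  suffices h : Module.Finite A (K ⟶ DRing.toD E) by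
    haveI := h
    exact Module.Finite.of_surjective (Linear.rightComp A K e.hom)
      (fun g => ⟨g ≫ e.inv, by simp⟩)
  have hEfin : ∀ j : ℤ, Module.Finite A (Dual.HD A (DRing.toD E) j) := fun j => by
    haveI := hY j
    exact Module.Finite.equiv ((H A j).mapIso e).toLinearEquiv.symm
  have hEz : ∀ j : ℤ, (j < a ∨ b < j) → IsZero ((H A j).obj (DRing.toD E)) := fun j hj => by
    rw [isZero_H_toD_iff_exactAt]
    exact HomologicalComplex.ExactAt.of_isZero (hE j hj)
  -- first truncation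
  obtain ⟨A₀, B₀, hA₀, hB₀, f₀, p₀, δ₀, hT₀⟩ := TStructure.t.exists_triangle K (a - 1) a (by omega)
  haveI : A₀.IsLE (a - 1) := ⟨hA₀⟩
  haveI : B₀.IsGE a := ⟨hB₀⟩
  have hB₀fin : ∀ j : ℤ, Module.Finite A (Dual.HD A B₀ j) := by
    intro j
    by_cases hj : j < a
    · haveI : Subsingleton (Dual.HD A B₀ j) :=
        ModuleCat.subsingleton_of_isZero (isZero_of_isGE B₀ a j hj)
      exact Module.Finite.of_finite
    · haveI : IsIso ((H A j).map p₀) :=
        isIso_H_mor₂_of_isZero hT₀ j (isZero_of_isLE A₀ (a - 1) j (by omega))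
          (isZero_of_isLE A₀ (a - 1) (j + 1) (by omega))
      haveI := hK j
      exact Module.Finite.equiv (asIso ((H A j).map p₀)).toLinearEquiv
  suffices h : Module.Finite A (B₀ ⟶ DRing.toD E) by
    haveI := h
    refine Module.Finite.of_surjective (Linear.leftComp A (DRing.toD E) p₀) (fun g => ?_)
    have h0 : f₀ ≫ g = 0 := hom_eq_zero_of_isLE_of_injAmp E a b hE hinj A₀ _
    obtain ⟨g', hg'⟩ := Triangle.yoneda_exact₂ _ hT₀ g h0
    exact ⟨g', hg'.symm⟩
  -- second truncation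
  obtain ⟨A₁, B₁, hA₁, hB₁, f₁, p₁, δ₁, hT₁⟩ := TStructure.t.exists_triangle B₀ b (b + 1) rfl
  haveI : A₁.IsLE b := ⟨hA₁⟩
  haveI : B₁.IsGE (b + 1) := ⟨hB₁⟩
  haveI : B₁.IsGE (a - 1) := TStructure.t.isGE_of_ge B₁ (a - 1) (b + 1) (by omega)
  haveI : A₁.IsGE a := isGE_obj₁ hT₁ a (by change B₀.IsGE a; infer_instance)
    (by change B₁.IsGE (a - 1); infer_instance)
  have hA₁fin : ∀ j : ℤ, Module.Finite A (Dual.HD A A₁ j) := by
    intro j
    by_cases hj : b < j
    · haveI : Subsingleton (Dual.HD A A₁ j) :=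
        ModuleCat.subsingleton_of_isZero (isZero_of_isLE A₁ b j hj)
      exact Module.Finite.of_finite
    · haveI : IsIso ((H A j).map f₁) :=
        isIso_H_mor₁_of_isZero hT₁ (j - 1) j (by omega) (isZero_of_isGE B₁ (b + 1) (j - 1) (by omega))
          (isZero_of_isGE B₁ (b + 1) j (by omega))
      haveI := hB₀fin j
      exact Module.Finite.equiv (asIso ((H A j).map f₁)).toLinearEquiv.symm
  have hA₁pc : DRing.IsPseudoCoherent' A A₁ :=
    (isPseudoCoherent'_iff_forall A₁).1 (fun n => (isPseudoCoherent_iff_of_noetherian n A₁).2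
      ⟨⟨b, fun j hj => ModuleCat.subsingleton_of_isZero (isZero_of_isLE A₁ b j hj)⟩,
        fun j _ => hA₁fin j⟩)
  haveI : Module.Finite A (A₁ ⟶ DRing.toD E) :=
    finite_hom_of_isPseudoCoherent'_of_bounded A₁ hA₁pc (DRing.toD E) a b hEz hEfin
  haveI : IsNoetherian A (A₁ ⟶ DRing.toD E) := isNoetherian_of_isNoetherianRing_of_finite A _
  refine Module.Finite.of_injective (Linear.leftComp A (DRing.toD E) f₁) ?_
  rw [← LinearMap.ker_eq_bot, LinearMap.ker_eq_bot']
  intro g hg
  have hg' : f₁ ≫ g = 0 := hg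
  obtain ⟨g'', hg''⟩ := Triangle.yoneda_exact₂ _ hT₁ g hg'
  have h0 : g'' = 0 := hom_eq_zero_of_isGE_of_injAmp E a b hE hinj B₁ g''
  rw [hg'', h0]
  exact comp_zero

/-- S1746 -/
theorem finite_hom_shift_of_finiteInjDim (K L : Dual.D A)
    (hK : ∀ i : ℤ, Module.Finite A (Dual.HD A K i)) (hL : ∀ i : ℤ, Module.Finite A (Dual.HD A L i))
    (hLi : DRing.HasFiniteInjDim A L) (i : ℤ) : Module.Finite A (K ⟶ L⟦i⟧) := by
  refine finite_hom_of_finiteInjDim K (L⟦i⟧) hK (fun j => ?_) (hasFiniteInjDim_shift L i hLi)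
  haveI := hL (i + j)
  exact Module.Finite.equiv ((HShiftIso A i j (i + j) rfl).app L).toLinearEquiv.symm

end Groth.Agent.Lib.Helper18.DR
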