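import Mathlib
import Groth.Agent.Lib.Helper18.DRInjFin
import Groth.Agent.Lib.Helper18.DRExt2

/-!
# Finiteness for the right adjoint of restriction along a finite ring map (helper18)
-/

set_option autoImplicit false
set_option linter.style.haveILetI false
universe u
open CategoryTheory CategoryTheory.Limits CategoryTheory.Pretriangulated DerivedCategory

attribute [local instance] HasDerivedCategory.standard

namespace Groth.Agent.Lib.Helper18.DR

section homSg

variable {B : Type u} [CommRing B]

/-- evaluation `Hom(B[-i], X) → H^i(X)` -/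
noncomputable def homSgToH (i : ℤ) (X : Dual.D B) :
    (Sg i (ModuleCat.of B B) ⟶ X) →ₗ[B] (H B i).obj X where
  toFun φ := ((H B i).map φ).hom ((HSg i (ModuleCat.of B B)).inv.hom (1 : B))
  map_add' φ ψ := by
    rw [Functor.map_add]
    rfl
  map_smul' b φ := by
    have h1 : b • φ = (singleFunctor (ModuleCat.{u} B) i).map (b • 𝟙 (ModuleCat.of B B)) ≫ φ := by
      rw [Functor.map_smul, CategoryTheory.Functor.map_id, Linear.smul_comp, Category.id_comp]
    have h2 := HSg_naturality i (b • 𝟙 (ModuleCat.of B B))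
    have h3 : (H B i).map ((singleFunctor (ModuleCat.{u} B) i).map (b • 𝟙 (ModuleCat.of B B))) =
        (HSg i (ModuleCat.of B B)).hom ≫ (b • 𝟙 (ModuleCat.of B B)) ≫
          (HSg i (ModuleCat.of B B)).inv := by
      rw [← Category.assoc, ← h2, Category.assoc, Iso.hom_inv_id, Category.comp_id]
    rw [RingHom.id_apply, h1, Functor.map_comp, h3]
    change ((H B i).map φ).hom ((HSg i (ModuleCat.of B B)).inv.hom
      (b • ((HSg i (ModuleCat.of B B)).hom.hom ((HSg i (ModuleCat.of B B)).inv.hom (1 : B))))) = _
    rw [map_smul, map_smul]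
    have h4 : (HSg i (ModuleCat.of B B)).hom.hom ((HSg i (ModuleCat.of B B)).inv.hom (1 : B)) =
        (1 : B) := by
      have := congrArg (fun g => g.hom (1 : B)) (HSg i (ModuleCat.of B B)).inv_hom_id
      exact this
    rw [h4]

lemma homSgToH_surjective (i : ℤ) (X : Dual.D B) : Function.Surjective (homSgToH i X) := by
  intro x
  obtain ⟨φ, hφ⟩ := exists_hom_Sg i (ModuleCat.of B B) X
    (ModuleCat.ofHom (LinearMap.toSpanSingleton B _ x))
  refine ⟨φ, ?_⟩
  calc homSgToH i X φ = ((HSg i (ModuleCat.of B B)).inv ≫ (H B i).map φ).hom (1 : B) := rfl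
    _ = x := by rw [hφ]; simp

end homSg

section restr

variable {A B : Type u} [CommRing A] [CommRing B] [Algebra A B]

lemma restrictD_map_smul_id (a : A) (Y : Dual.D B) :
    (DRing.restrictD (algebraMap A B)).map ((algebraMap A B a) • 𝟙 Y) = a • 𝟙 _ := by
  let K' := DerivedCategory.Q.objPreimage Y
  let e : DerivedCategory.Q.obj K' ≅ Y := DerivedCategory.Q.objObjPreimageIso Y
  have h1 : (algebraMap A B a) • 𝟙 Y = e.inv ≫ DerivedCategory.Q.map ((algebraMap A B a) • 𝟙 K') ≫
      e.hom := by
    rw [Functor.map_smul, CategoryTheory.Functor.map_id, Linear.smul_comp, Linear.comp_smul,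
      Category.id_comp, Iso.inv_hom_id]
  have h2 : ((ModuleCat.restrictScalars.{u} (algebraMap A B)).mapHomologicalComplex
      (ComplexShape.up ℤ)).map ((algebraMap A B a) • 𝟙 K') = a • 𝟙 _ := by
    ext i x
    rfl
  have h3 := (ModuleCat.restrictScalars.{u} (algebraMap A B)).mapDerivedCategoryFactors_hom_naturality
    ((algebraMap A B a) • 𝟙 K')
  rw [h2] at h3
  have h5 : DerivedCategory.Q.map (a • 𝟙 (((ModuleCat.restrictScalars.{u}
      (algebraMap A B)).mapHomologicalComplex (ComplexShape.up ℤ)).obj K')) = a • 𝟙 _ := by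
    rw [Functor.map_smul, CategoryTheory.Functor.map_id]
  rw [h5, Linear.comp_smul] at h3
  erw [Category.comp_id] at h3
  have h4 : (DRing.restrictD (algebraMap A B)).map
      (DerivedCategory.Q.map ((algebraMap A B a) • 𝟙 K')) = a • 𝟙 _ := by
    rw [← cancel_mono ((ModuleCat.restrictScalars.{u}
      (algebraMap A B)).mapDerivedCategoryFactors.hom.app K')]
    rw [Linear.smul_comp, Category.id_comp]
    exact h3
  rw [h1, Functor.map_comp, Functor.map_comp, h4, Linear.smul_comp, Linear.comp_smul,
    Category.id_comp, ← Functor.map_comp, Iso.inv_hom_id, CategoryTheory.Functor.map_id]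

end restr

section fin

variable {A : Type u} [CommRing A] [IsNoetherianRing A]

/-- `Hom(P, K)` is finite for `P` pseudo-coherent and `K` bounded below with finite cohomology -/
theorem finite_hom_of_isPseudoCoherent'_of_boundedBelow (P : Dual.D A)
    (hP : DRing.IsPseudoCoherent' A P) (n : ℤ) [P.IsLE n] (K : Dual.D A) (a : ℤ)
    (hKa : ∀ i : ℤ, i < a → Subsingleton (Dual.HD A K i))
    (hK : ∀ i : ℤ, Module.Finite A (Dual.HD A K i)) : Module.Finite A (P ⟶ K) := by
  obtain ⟨A₀, B₀, hA₀, hB₀, f₀, p₀, δ₀, hT₀⟩ := TStructure.t.exists_triangle K n (n + 1) rfl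
  haveI : A₀.IsLE n := ⟨hA₀⟩
  haveI : B₀.IsGE (n + 1) := ⟨hB₀⟩
  have hiso : ∀ j : ℤ, j ≤ n → IsIso ((H A j).map f₀) := fun j hj =>
    isIso_H_mor₁_of_isZero hT₀ (j - 1) j (by omega)
      (isZero_of_isGE B₀ (n + 1) (j - 1) (by omega)) (isZero_of_isGE B₀ (n + 1) j (by omega))
  have hA₀z : ∀ j : ℤ, (j < a ∨ n < j) → IsZero ((H A j).obj A₀) := by
    rintro j (hj | hj)
    · by_cases hjn : j ≤ n
      · haveI := hiso j hjn
        haveI := hKa j hj
        exact (ModuleCat.isZero_of_subsingleton ((H A j).obj K)).of_iso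
          (asIso ((H A j).map f₀))
      · exact isZero_of_isLE A₀ n j (by omega)
    · exact isZero_of_isLE A₀ n j hj
  have hA₀fin : ∀ j : ℤ, Module.Finite A (Dual.HD A A₀ j) := by
    intro j
    by_cases hjn : j ≤ n
    · haveI := hiso j hjn
      haveI := hK j
      exact Module.Finite.equiv (asIso ((H A j).map f₀)).toLinearEquiv.symm
    · haveI : Subsingleton (Dual.HD A A₀ j) :=
        ModuleCat.subsingleton_of_isZero (isZero_of_isLE A₀ n j (by omega))
      exact Module.Finite.of_finite
  haveI := finite_hom_of_isPseudoCoherent'_of_bounded P hP A₀ a n hA₀z hA₀fin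
  refine Module.Finite.of_surjective (Linear.rightComp A P f₀) (fun g => ?_)
  have h0 : g ≫ p₀ = 0 := TStructure.t.zero _ n (n + 1)
  obtain ⟨g', hg'⟩ := Triangle.coyoneda_exact₂ _ hT₀ g h0
  exact ⟨g', hg'.symm⟩

end fin

section main

variable (A B : Type u) [CommRing A] [CommRing B] [Algebra A B] [IsNoetherianRing A]
  [Module.Finite A B]

/-- S1774 -/
theorem finite_HD_rightAdjoint_restrictD (R : Dual.D A ⥤ Dual.D B)
    (adj : DRing.restrictD (algebraMap A B) ⊣ R) (K : Dual.D A) (a : ℤ)
    (hKa : ∀ i : ℤ, i < a → Subsingleton (Dual.HD A K i))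
    (hK : ∀ i : ℤ, Module.Finite A (Dual.HD A K i)) (i : ℤ) :
    Module.Finite B (Dual.HD B (R.obj K) i) := by
  let S : Dual.D B := Sg i (ModuleCat.of B B)
  let P : Dual.D A := (DRing.restrictD (algebraMap A B)).obj S
  haveI : P.IsLE i := isLE_mapD (ModuleCat.restrictScalars.{u} (algebraMap A B)) S i
  -- cohomology of `P`
  have hPfin : ∀ j : ℤ, Module.Finite A (Dual.HD A P j) := by
    intro j
    have e1 := homologyMapDIso (ModuleCat.restrictScalars.{u} (algebraMap A B)) S j
    by_cases hj : j = i
    · subst hj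
      have e2 : (H A j).obj P ≅ (ModuleCat.restrictScalars.{u} (algebraMap A B)).obj
          (ModuleCat.of B B) :=
        e1 ≪≫ (ModuleCat.restrictScalars.{u} (algebraMap A B)).mapIso (HSg j (ModuleCat.of B B))
      haveI : Module.Finite A ((ModuleCat.restrictScalars.{u} (algebraMap A B)).obj
          (ModuleCat.of B B)) := Module.Finite.equiv (resBEquiv (A := A) (B := B)).symm
      exact Module.Finite.equiv e2.toLinearEquiv.symm
    · have hz : IsZero ((H B j).obj S) := by
        rcases lt_or_gt_of_ne hj with h | h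
        · exact isZero_of_isGE S i j h
        · exact isZero_of_isLE S i j h
      haveI : Subsingleton (Dual.HD A P j) := ModuleCat.subsingleton_of_isZero
        (((ModuleCat.restrictScalars.{u} (algebraMap A B)).map_isZero hz).of_iso e1)
      exact Module.Finite.of_finite
  have hPpc : DRing.IsPseudoCoherent' A P :=
    (isPseudoCoherent'_iff_forall P).1 (fun n => (isPseudoCoherent_iff_of_noetherian n P).2
      ⟨⟨i, fun j hj => ModuleCat.subsingleton_of_isZero (isZero_of_isLE P i j hj)⟩,
        fun j _ => hPfin j⟩)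
  haveI hfinA : Module.Finite A (P ⟶ K) :=
    finite_hom_of_isPseudoCoherent'_of_boundedBelow P hPpc i K a hKa hK
  -- transport along the adjunction
  letI mA : Module A (S ⟶ R.obj K) := Module.compHom (S ⟶ R.obj K) (algebraMap A B)
  haveI : IsScalarTower A B (S ⟶ R.obj K) :=
    ⟨fun a b v => by rw [Algebra.smul_def, mul_smul]; rfl⟩
  haveI : (DRing.restrictD (algebraMap A B)).Additive := inferInstance
  let ε : (P ⟶ K) →ₗ[A] (S ⟶ R.obj K) :=
    { toFun := fun w => adj.homEquiv S K w
      map_add' := fun w w' => adj.homAddEquiv_add S K w w'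
      map_smul' := fun a w => by
        change adj.homEquiv S K (a • w) = (algebraMap A B a) • adj.homEquiv S K w
        have h1 : a • w = (DRing.restrictD (algebraMap A B)).map ((algebraMap A B a) • 𝟙 S) ≫ w := by
          rw [restrictD_map_smul_id, Linear.smul_comp, Category.id_comp]
        rw [h1, Adjunction.homEquiv_naturality_left, Linear.smul_comp, Category.id_comp] }
  haveI : Module.Finite A (S ⟶ R.obj K) :=
    Module.Finite.of_surjective ε (adj.homEquiv S K).surjective
  haveI : Module.Finite B (S ⟶ R.obj K) := Module.Finite.of_restrictScalars_finite A B _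
  exact Module.Finite.of_surjective (homSgToH i (R.obj K)) (homSgToH_surjective i (R.obj K))

end main

end Groth.Agent.Lib.Helper18.DR
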