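import Mathlib
import Groth.Agent.Lib.Helper18.DRNak
import Groth.Agent.Lib.Helper18.DRGlDim
import Groth.Agent.Lib.Helper18.DRReg3
import Groth.Agent.Lib.Helper26.RegularRing

/-!
# Perfectness from tor amplitude over the base and finite global dimension of the fibres (helper18)
-/

set_option autoImplicit false
set_option linter.style.haveILetI false
universe u
open CategoryTheory CategoryTheory.Limits CategoryTheory.Pretriangulated DerivedCategory
open TensorProduct

attribute [local instance] HasDerivedCategory.standard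
attribute [local instance] Algebra.TensorProduct.rightAlgebra

namespace Groth.Agent.Lib.Helper18.DR

/-- `TensorLike.isZero_H_of_hasTorAmplitudeIn` for termwise flat complexes -/
theorem TensorLike.isZero_H_of_hasTorAmplitudeIn_flat {A B : Type u} [CommRing A] [CommRing B]
    {Φ : ModuleCat.{u} A ⥤ ModuleCat.{u} B} {N : Type u} [AddCommGroup N] [Module A N]
    (t : TensorLike Φ N) [Φ.Additive] (G : DRing.Cx A) (c : ℤ) (hGc : DRing.VanishesAbove G c)
    (hGflat : DRing.TermwiseFlat G) (a b : ℤ)
    (hTA : DRing.HasTorAmplitudeIn A a b (DRing.toD G)) (j : ℤ) (hj : j < a ∨ b < j) :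
    IsZero ((H B j).obj (DRing.toD ((Φ.mapHomologicalComplex (ComplexShape.up ℤ)).obj G))) := by
  haveI : (DRing.toD G).IsLE c := isLE_toD_of_vanishesAbove G c hGc
  obtain ⟨E, hEb, hEfree, ⟨eE⟩⟩ := exists_free_resolution (DRing.toD G) c
  have hEproj : ∀ i, Module.Projective A (E.X i) := fun i => by
    haveI := hEfree i; exact Module.Projective.of_free
  have hEflat : DRing.TermwiseFlat E := fun i => by haveI := hEproj i; infer_instance
  haveI : E.IsKProjective := isKProjective_of_vanishesAbove E c hEb hEproj
  obtain ⟨f, hf⟩ := exists_map_eq E G eE.hom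
  have hiso : IsIso (DerivedCategory.Q.map f) := by rw [hf]; infer_instance
  haveI := t.isIso_Q_map E G f c (VanishesAbove.mono hEb (by omega)) hGc hEflat hGflat hiso
  have h1 := t.isZero_H_of_hasTorAmplitudeIn E c hEb hEproj a b
    (hasTorAmplitudeIn_of_iso eE.symm hTA) j hj
  exact h1.of_iso ((H B j).mapIso (asIso (DerivedCategory.Q.map
    ((Φ.mapHomologicalComplex (ComplexShape.up ℤ)).map f))).symm)

section restr

variable {A B : Type u} [CommRing A] [CommRing B] [Algebra A B]

lemma isScalarTower_restrictScalars (M : ModuleCat.{u} B) :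
    IsScalarTower A B ((ModuleCat.restrictScalars.{u} (algebraMap A B)).obj M) :=
  ⟨fun a b x => by
    change (a • b) • (show M from x) = (algebraMap A B a) • (b • (show M from x))
    rw [Algebra.smul_def, mul_smul]⟩

lemma flat_restrictScalars [Module.Flat A B] (M : ModuleCat.{u} B) [Module.Flat B M] :
    Module.Flat A ((ModuleCat.restrictScalars.{u} (algebraMap A B)).obj M) := by
  haveI := isScalarTower_restrictScalars (A := A) M
  haveI : Module.Flat B ((ModuleCat.restrictScalars.{u} (algebraMap A B)).obj M) :=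
    inferInstanceAs (Module.Flat B M)
  exact Module.Flat.trans A B _

/-- tor amplitude over `A` of a bounded above complex of flat `B`-modules (`B` flat over `A`)
gives exactness of the `A`-tensor products -/
theorem exact_lTensor_restrict_of_hasTorAmplitudeIn [Module.Flat A B] (F : DRing.Cx B) (c : ℤ)
    (hFc : DRing.VanishesAbove F c) (hFflat : DRing.TermwiseFlat F) (a b : ℤ)
    (hTA : DRing.HasTorAmplitudeIn A a b
      ((DRing.restrictD (algebraMap A B)).obj (DRing.toD F)))
    (κ : Type u) [AddCommGroup κ] [Module A κ] (i j k : ℤ) (hij : i + 1 = j) (hjk : j + 1 = k)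
    (hj : j < a ∨ b < j) :
    Function.Exact
      (((ModuleCat.restrictScalars.{u} (algebraMap A B)).map (F.d i j)).hom.lTensor κ)
      (((ModuleCat.restrictScalars.{u} (algebraMap A B)).map (F.d j k)).hom.lTensor κ) := by
  let G : DRing.Cx A := ((ModuleCat.restrictScalars.{u} (algebraMap A B)).mapHomologicalComplex
    (ComplexShape.up ℤ)).obj F
  have hGc : DRing.VanishesAbove G c :=
    vanishesAbove_mapHC (ModuleCat.restrictScalars.{u} (algebraMap A B)) F c hFc
  have hGflat : DRing.TermwiseFlat G := fun i => by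
    haveI := hFflat i
    exact flat_restrictScalars (F.X i)
  have hTA' : DRing.HasTorAmplitudeIn A a b (DRing.toD G) :=
    hasTorAmplitudeIn_of_iso
      ((ModuleCat.restrictScalars.{u} (algebraMap A B)).mapDerivedCategoryFactors.app F) hTA
  have h1 := (tensorLike_tensorRight (ModuleCat.of A κ)).isZero_H_of_hasTorAmplitudeIn_flat
    G c hGc hGflat a b hTA' j hj
  have h2 := (isZero_H_toD_iff _ i j k hij hjk).mp h1
  exact ((tensorLike_tensorRight (ModuleCat.of A κ)).exact_iff (G.d i j) (G.d j k)).mp h2

end restr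

section LBC

variable {A κ : Type u} [CommRing A] [CommRing κ] [Algebra A κ]
  [DRing.HasLBaseChange (algebraMap A κ)]

/-- derived base change of a bounded above complex of flat modules is computed termwise -/
theorem nonempty_LBaseChange_iso_of_flat (G : DRing.Cx A) (c : ℤ) (hGc : DRing.VanishesAbove G c)
    (hGflat : DRing.TermwiseFlat G) :
    Nonempty ((DRing.LBaseChange (algebraMap A κ)).obj (DRing.toD G) ≅
      DRing.toD (((extM (A := A) (B := κ)).mapHomologicalComplex (ComplexShape.up ℤ)).obj G)) := by
  haveI : (DRing.toD G).IsLE c := isLE_toD_of_vanishesAbove G c hGc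
  obtain ⟨E, hEb, hEfree, ⟨eE⟩⟩ := exists_free_resolution (DRing.toD G) c
  have hEproj : ∀ i, Module.Projective A (E.X i) := fun i => by
    haveI := hEfree i; exact Module.Projective.of_free
  have hEflat : DRing.TermwiseFlat E := fun i => by haveI := hEproj i; infer_instance
  haveI : E.IsKProjective := isKProjective_of_vanishesAbove E c hEb hEproj
  obtain ⟨f, hf⟩ := exists_map_eq E G eE.hom
  have hiso : IsIso (DerivedCategory.Q.map f) := by rw [hf]; infer_instance
  haveI := (tensorLike_extM (A := A) (B := κ)).isIso_Q_map E G f c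
    (VanishesAbove.mono hEb (by omega)) hGc hEflat hGflat hiso
  exact ⟨(DRing.LBaseChange (algebraMap A κ)).mapIso eE.symm ≪≫
    LBaseChangeIso (algebraMap A κ) E ≪≫
    asIso (DerivedCategory.Q.map
      (((extM (A := A) (B := κ)).mapHomologicalComplex (ComplexShape.up ℤ)).map f))⟩

theorem exact_lTensor_of_isZero_H_LBaseChange (G : DRing.Cx A) (c : ℤ)
    (hGc : DRing.VanishesAbove G c) (hGflat : DRing.TermwiseFlat G) (j : ℤ)
    (hH : IsZero ((H κ j).obj ((DRing.LBaseChange (algebraMap A κ)).obj (DRing.toD G))))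
    (i k : ℤ) (hij : i + 1 = j) (hjk : j + 1 = k) :
    Function.Exact ((G.d i j).hom.lTensor κ) ((G.d j k).hom.lTensor κ) := by
  obtain ⟨e⟩ := nonempty_LBaseChange_iso_of_flat (κ := κ) G c hGc hGflat
  have h1 : IsZero ((H κ j).obj (DRing.toD
      (((extM (A := A) (B := κ)).mapHomologicalComplex (ComplexShape.up ℤ)).obj G))) :=
    hH.of_iso ((H κ j).mapIso e.symm)
  have h2 := (isZero_H_toD_iff _ i j k hij hjk).mp h1
  exact ((tensorLike_extM (A := A) (B := κ)).exact_iff (G.d i j) (G.d j k)).mp h2

end LBC

section pushout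

variable {A B κ C : Type u} [CommRing A] [CommRing B] [CommRing κ] [CommRing C]
  [Algebra A B] [Algebra A κ] [Algebra A C] [Algebra κ C] [Algebra B C]
  [IsScalarTower A κ C] [IsScalarTower A B C] [Algebra.IsPushout A κ B C]

lemma cancelBaseChange_symm_naturality {M M' : Type u} [AddCommGroup M] [Module A M] [Module B M]
    [IsScalarTower A B M] [AddCommGroup M'] [Module A M'] [Module B M'] [IsScalarTower A B M']
    (f : M →ₗ[B] M') (fA : M →ₗ[A] M') (hf : ∀ x, fA x = f x) (z : κ ⊗[A] M) :
    (Algebra.IsPushout.cancelBaseChange A κ B C M').symm ((fA.lTensor κ) z) =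
      (f.lTensor C) ((Algebra.IsPushout.cancelBaseChange A κ B C M).symm z) := by
  induction z using TensorProduct.induction_on with
  | zero => simp
  | add x y hx hy => simp only [map_add, hx, hy]
  | tmul s m =>
    rw [LinearMap.lTensor_tmul, Algebra.IsPushout.cancelBaseChange_symm_tmul,
      Algebra.IsPushout.cancelBaseChange_symm_tmul, LinearMap.lTensor_tmul, hf]

lemma cancelBaseChange_naturality' {M M' : Type u} [AddCommGroup M] [Module A M] [Module B M]
    [IsScalarTower A B M] [AddCommGroup M'] [Module A M'] [Module B M'] [IsScalarTower A B M']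
    (f : M →ₗ[B] M') (fA : M →ₗ[A] M') (hf : ∀ x, fA x = f x) (z : C ⊗[B] M) :
    (Algebra.IsPushout.cancelBaseChange A κ B C M') ((f.lTensor C) z) =
      (fA.lTensor κ) ((Algebra.IsPushout.cancelBaseChange A κ B C M) z) := by
  apply (Algebra.IsPushout.cancelBaseChange A κ B C M').symm.injective
  rw [LinearEquiv.symm_apply_apply, cancelBaseChange_symm_naturality f fA hf,
    LinearEquiv.symm_apply_apply]

/-- exactness of `κ ⊗_A -` gives exactness of `C ⊗_B -` when `C = κ ⊗_A B` -/
lemma lTensor_exact_of_pushout {M₁ M₂ M₃ : ModuleCat.{u} B} (f : M₁ ⟶ M₂) (g : M₂ ⟶ M₃)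
    (h : Function.Exact
      (((ModuleCat.restrictScalars.{u} (algebraMap A B)).map f).hom.lTensor κ)
      (((ModuleCat.restrictScalars.{u} (algebraMap A B)).map g).hom.lTensor κ)) :
    Function.Exact (f.hom.lTensor C) (g.hom.lTensor C) := by
  letI i₁ : Module A M₁ := Module.compHom M₁ (algebraMap A B)
  letI i₂ : Module A M₂ := Module.compHom M₂ (algebraMap A B)
  letI i₃ : Module A M₃ := Module.compHom M₃ (algebraMap A B)
  haveI : IsScalarTower A B M₁ := ⟨fun a b x => by rw [Algebra.smul_def, mul_smul]; rfl⟩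
  haveI : IsScalarTower A B M₂ := ⟨fun a b x => by rw [Algebra.smul_def, mul_smul]; rfl⟩
  haveI : IsScalarTower A B M₃ := ⟨fun a b x => by rw [Algebra.smul_def, mul_smul]; rfl⟩
  let fA : M₁ →ₗ[A] M₂ := ((ModuleCat.restrictScalars.{u} (algebraMap A B)).map f).hom
  let gA : M₂ →ₗ[A] M₃ := ((ModuleCat.restrictScalars.{u} (algebraMap A B)).map g).hom
  exact exact_of_ladder'
    (Algebra.IsPushout.cancelBaseChange A κ B C M₁).toAddEquiv
    (Algebra.IsPushout.cancelBaseChange A κ B C M₂).toAddEquiv
    (Algebra.IsPushout.cancelBaseChange A κ B C M₃).toAddEquiv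
    (fun x => cancelBaseChange_naturality' f.hom fA (fun _ => rfl) x)
    (fun x => cancelBaseChange_naturality' g.hom gA (fun _ => rfl) x) h

variable {κ' : Type u} [CommRing κ'] [Algebra C κ'] [Algebra B κ'] [IsScalarTower B C κ']

/-- the key step: fibrewise exactness over `A` outside `[a, b]` gives exactness of
`κ' ⊗_B F` outside `[a - d, b]` when the fibre ring `C` has global dimension `≤ d` -/
theorem lTensor_exact_of_pushout_fibre (d : ℕ)
    (hgl : ∀ (M : Type u) [AddCommGroup M] [Module C M],
      HasProjectiveDimensionLT (ModuleCat.of C M) (d + 1))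
    (F : DRing.Cx B) (c : ℤ) (hFc : DRing.VanishesAbove F c)
    (hFproj : ∀ i, Module.Projective B (F.X i)) (a b : ℤ)
    (hex : ∀ i j k : ℤ, i + 1 = j → j + 1 = k → (j < a ∨ b < j) →
      Function.Exact
        (((ModuleCat.restrictScalars.{u} (algebraMap A B)).map (F.d i j)).hom.lTensor κ)
        (((ModuleCat.restrictScalars.{u} (algebraMap A B)).map (F.d j k)).hom.lTensor κ))
    (i j k : ℤ) (hij : i + 1 = j) (hjk : j + 1 = k) (hj : j < a - d ∨ b < j) :
    Function.Exact ((F.d i j).hom.lTensor κ') ((F.d j k).hom.lTensor κ') := by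
  let G : DRing.Cx C :=
    ((extM (A := B) (B := C)).mapHomologicalComplex (ComplexShape.up ℤ)).obj F
  have hGc : DRing.VanishesAbove G c := vanishesAbove_mapHC extM F c hFc
  have hGproj : ∀ j, Module.Projective C (G.X j) := fun j => by
    haveI := hFproj j; exact projective_extM (B := C) (F.X j)
  have hGH : ∀ j' : ℤ, (j' < a ∨ b < j') → Subsingleton (Dual.HD C (DRing.toD G) j') := by
    intro j' hj'
    apply ModuleCat.subsingleton_of_isZero
    rw [isZero_H_toD_iff G (j' - 1) j' (j' + 1) (by omega) rfl]
    change Function.Exact ((extM (A := B) (B := C)).map (F.d (j' - 1) j')).hom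
      ((extM (A := B) (B := C)).map (F.d j' (j' + 1))).hom
    rw [(tensorLike_extM (A := B) (B := C)).exact_iff]
    exact lTensor_exact_of_pushout (A := A) (κ := κ) (C := C) (F.d (j' - 1) j') (F.d j' (j' + 1))
      (hex (j' - 1) j' (j' + 1) (by omega) rfl hj')
  have hTA : DRing.HasTorAmplitudeIn C (a - d) b (DRing.toD G) :=
    (torAmplitude_of_finite_globalDimension C d hgl).2 (DRing.toD G) a b hGH
  apply lTensor_exact_of_extM (S := C) κ'
  rw [← (tensorLike_tensorRight (ModuleCat.of C κ')).exact_iff]
  have h1 := (tensorLike_tensorRight (ModuleCat.of C κ')).isZero_H_of_hasTorAmplitudeIn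
    G c hGc hGproj (a - d) b hTA j hj
  exact (isZero_H_toD_iff _ i j k hij hjk).mp h1

end pushout

end Groth.Agent.Lib.Helper18.DR
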