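import Mathlib
import Groth.Prelude.Def_DRing2
import Groth.Agent.Lib.Helper2.DCoprod
import Groth.Agent.Lib.Helper18.DRBase

/-!
# Unbounded K-projective resolutions, part A (helper18)

Closure of K-projective complexes under coproducts and mapping cones; elements of mapping cones of
complexes of modules; the explicit countable direct sum of complexes of modules.
-/

set_option autoImplicit false
set_option linter.style.haveILetI false
universe u
open CategoryTheory CategoryTheory.Limits CategoryTheory.Pretriangulated DerivedCategory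

attribute [local instance] HasDerivedCategory.standard

namespace Groth.Agent.Lib.Helper18.DR

variable {A : Type u} [CommRing A]

/-! ## Closure properties -/

/-- the mapping cone of a morphism between K-projective complexes is K-projective -/
lemma isKProjective_mappingCone {X Y : DRing.Cx A} (f : X ⟶ Y) [X.IsKProjective]
    [Y.IsKProjective] : (CochainComplex.mappingCone f).IsKProjective := by
  rw [CochainComplex.isKProjective_iff_leftOrthogonal]
  exact ObjectProperty.ext_of_isTriangulatedClosed₃ _ _
    (HomotopyCategory.mappingCone_triangleh_distinguished f)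
    (CochainComplex.IsKProjective.leftOrthogonal X) (CochainComplex.IsKProjective.leftOrthogonal Y)

/-- a morphism from the point of a colimit cofan of complexes is null-homotopic as soon as all
its components are -/
lemma homotopy_zero_of_isColimit {K : ℕ → DRing.Cx A} (c : Cofan K) (hc : IsColimit c)
    {L : DRing.Cx A} (φ : c.pt ⟶ L) (h : ∀ j, Nonempty (Homotopy (c.inj j ≫ φ) 0)) :
    Nonempty (Homotopy φ 0) := by
  let e : ∐ K ≅ c.pt := (colimit.isColimit (Discrete.functor K)).coconePointUniqueUpToIso hc
  have he : ∀ j, Limits.Sigma.ι K j ≫ e.hom = c.inj j := fun j =>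
    IsColimit.comp_coconePointUniqueUpToIso_hom (colimit.isColimit _) hc ⟨j⟩
  obtain ⟨H⟩ := Groth.Agent.Lib.Helper2.DCoprod.homotopy_zero_of_sigma (e.hom ≫ φ) (fun j => by
    obtain ⟨Hj⟩ := h j
    exact ⟨(Homotopy.ofEq (by rw [← Category.assoc, he j])).trans Hj⟩)
  exact ⟨(Homotopy.ofEq (by rw [Iso.inv_hom_id_assoc])).trans
    ((H.compLeft e.inv).trans (Homotopy.ofEq (by simp)))⟩

/-! ## Elements of mapping cones -/

namespace ConeE

open CochainComplex HomComplex mappingCone

variable {F G : DRing.Cx A} (f : F ⟶ G)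

/-- first component of an element of the mapping cone -/
noncomputable def fstE (i k : ℤ) (h : i + 1 = k) (c : (mappingCone f).X i) : F.X k :=
  ((fst f).1.v i k h).hom c

/-- second component of an element of the mapping cone -/
noncomputable def sndE (i : ℤ) (c : (mappingCone f).X i) : G.X i :=
  ((snd f).v i i (add_zero i)).hom c

/-- the element of the mapping cone with given components -/
noncomputable def mkE (i k : ℤ) (h : i + 1 = k) (x : F.X k) (y : G.X i) : (mappingCone f).X i :=
  ((inl f).v k i (by omega)).hom x + ((inr f).f i).hom y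

variable (i k : ℤ) (h : i + 1 = k)

@[simp] lemma fstE_add (c c' : (mappingCone f).X i) :
    fstE f i k h (c + c') = fstE f i k h c + fstE f i k h c' := map_add _ _ _

@[simp] lemma sndE_add (c c' : (mappingCone f).X i) :
    sndE f i (c + c') = sndE f i c + sndE f i c' := map_add _ _ _

@[simp] lemma fstE_sub (c c' : (mappingCone f).X i) :
    fstE f i k h (c - c') = fstE f i k h c - fstE f i k h c' := map_sub _ _ _

@[simp] lemma sndE_sub (c c' : (mappingCone f).X i) :
    sndE f i (c - c') = sndE f i c - sndE f i c' := map_sub _ _ _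

@[simp] lemma fstE_zero : fstE f i k h 0 = 0 := map_zero _

@[simp] lemma sndE_zero : sndE f i 0 = 0 := map_zero _

@[simp] lemma fstE_mkE (x : F.X k) (y : G.X i) : fstE f i k h (mkE f i k h x y) = x := by
  have h1 := congrArg (fun g => g.hom x) (inl_v_fst_v f k i h)
  have h2 := congrArg (fun g => g.hom y) (inr_f_fst_v f i k h)
  simp only [ModuleCat.hom_comp, LinearMap.comp_apply, ModuleCat.hom_id, LinearMap.id_apply,
    ModuleCat.hom_zero, LinearMap.zero_apply] at h1 h2
  unfold fstE mkE
  rw [map_add, h1, h2, add_zero]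

@[simp] lemma sndE_mkE (x : F.X k) (y : G.X i) : sndE f i (mkE f i k h x y) = y := by
  have h1 := congrArg (fun g => g.hom x) (inl_v_snd_v f k i (by omega))
  have h2 := congrArg (fun g => g.hom y) (inr_f_snd_v f i)
  simp only [ModuleCat.hom_comp, LinearMap.comp_apply, ModuleCat.hom_id, LinearMap.id_apply,
    ModuleCat.hom_zero, LinearMap.zero_apply] at h1 h2
  unfold sndE mkE
  rw [map_add, h1, h2, zero_add]

lemma mkE_fstE_sndE (c : (mappingCone f).X i) :
    mkE f i k h (fstE f i k h c) (sndE f i c) = c := by
  have h1 := congrArg (fun g => g.hom c) (id_X f i k h)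
  simp only [ModuleCat.hom_comp, LinearMap.comp_apply, ModuleCat.hom_id, LinearMap.id_apply,
    ModuleCat.hom_add, LinearMap.add_apply] at h1
  exact h1

lemma ext {c c' : (mappingCone f).X i} (h1 : fstE f i k h c = fstE f i k h c')
    (h2 : sndE f i c = sndE f i c') : c = c' := by
  rw [← mkE_fstE_sndE f i k h c, ← mkE_fstE_sndE f i k h c', h1, h2]

lemma fstE_d (l : ℤ) (hkl : k + 1 = l) (c : (mappingCone f).X i) :
    fstE f k l hkl (((mappingCone f).d i k).hom c) = -(F.d k l).hom (fstE f i k h c) := by
  have h1 := congrArg (fun g => g.hom c) (d_fst_v f i k l h hkl)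
  simp only [ModuleCat.hom_comp, LinearMap.comp_apply, ModuleCat.hom_neg, LinearMap.neg_apply]
    at h1
  exact h1

lemma sndE_d (c : (mappingCone f).X i) :
    sndE f k (((mappingCone f).d i k).hom c) =
      (f.f k).hom (fstE f i k h c) + (G.d i k).hom (sndE f i c) := by
  have h1 := congrArg (fun g => g.hom c) (d_snd_v f i k h)
  simp only [ModuleCat.hom_comp, LinearMap.comp_apply, ModuleCat.hom_add, LinearMap.add_apply]
    at h1
  exact h1

lemma desc_apply {K : DRing.Cx A} (α : Cochain F K (-1)) (β : G ⟶ K)
    (eq : δ (-1) 0 α = Cochain.ofHom (f ≫ β)) (c : (mappingCone f).X i) :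
    ((desc f α β eq).f i).hom c =
      (α.v k i (by omega)).hom (fstE f i k h c) + (β.f i).hom (sndE f i c) := by
  have h1 := congrArg (fun g => g.hom c) (desc_f f α β eq i k h)
  simp only [ModuleCat.hom_comp, LinearMap.comp_apply, ModuleCat.hom_add, LinearMap.add_apply]
    at h1
  exact h1

end ConeE

/-! ## The explicit countable direct sum of complexes of modules -/

section Sum

open DirectSum

variable (P : ℕ → DRing.Cx A)

/-- the direct sum of a sequence of complexes of modules -/
noncomputable def SumCx : DRing.Cx A where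
  X i := ModuleCat.of A (⨁ n, ((P n).X i : Type u))
  d i k := ModuleCat.ofHom (DirectSum.lmap (fun n => ((P n).d i k).hom))
  shape i k hik := by
    refine ModuleCat.hom_ext (LinearMap.ext fun x => DFinsupp.ext fun n => ?_)
    have h1 : ((ModuleCat.ofHom (DirectSum.lmap (fun n => ((P n).d i k).hom))).hom x) n =
        ((P n).d i k).hom (x n) := rfl
    rw [h1, (P n).shape i k hik]
    rfl
  d_comp_d' i k l _ _ := by
    refine ModuleCat.hom_ext (LinearMap.ext fun x => DFinsupp.ext fun n => ?_)
    have h1 : ((ModuleCat.ofHom (DirectSum.lmap (fun n => ((P n).d i k).hom)) ≫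
        ModuleCat.ofHom (DirectSum.lmap (fun n => ((P n).d k l).hom))).hom x) n =
        ((P n).d i k ≫ (P n).d k l).hom (x n) := rfl
    rw [h1, (P n).d_comp_d]
    rfl

variable {P} in
/-- the `n`-th component of an element of the direct sum -/
def sumComp {i : ℤ} (s : (SumCx P).X i) (n : ℕ) : (P n).X i :=
  (show ⨁ n, ((P n).X i : Type u) from s) n

lemma sumComp_d (i k : ℤ) (x : (SumCx P).X i) (n : ℕ) :
    sumComp (((SumCx P).d i k).hom x) n = ((P n).d i k).hom (sumComp x n) := rfl

variable {P} in
lemma sum_ext {i : ℤ} {s s' : (SumCx P).X i} (h : ∀ n, sumComp s n = sumComp s' n) : s = s' :=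
  DFinsupp.ext h

variable {P} in
@[simp] lemma sumComp_add {i : ℤ} (s s' : (SumCx P).X i) (n : ℕ) :
    sumComp (s + s') n = sumComp s n + sumComp s' n := rfl

variable {P} in
@[simp] lemma sumComp_sub {i : ℤ} (s s' : (SumCx P).X i) (n : ℕ) :
    sumComp (s - s') n = sumComp s n - sumComp s' n := rfl

variable {P} in
@[simp] lemma sumComp_neg {i : ℤ} (s : (SumCx P).X i) (n : ℕ) :
    sumComp (-s) n = -sumComp s n := rfl

variable {P} in
@[simp] lemma sumComp_zero {i : ℤ} (n : ℕ) : sumComp (0 : (SumCx P).X i) n = 0 := rfl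

/-- the inclusion of a summand -/
noncomputable def sumι (n : ℕ) : P n ⟶ SumCx P where
  f i := ModuleCat.ofHom (DirectSum.lof A ℕ (fun m => ((P m).X i : Type u)) n)
  comm' i k _ := by
    refine ModuleCat.hom_ext (LinearMap.ext fun x => ?_)
    exact DirectSum.lmap_lof (fun m => ((P m).d i k).hom) n x

lemma sumι_f_apply (n : ℕ) (i : ℤ) (x : (P n).X i) :
    ((sumι P n).f i).hom x = DirectSum.lof A ℕ (fun m => ((P m).X i : Type u)) n x := rfl

variable {P}

/-- the morphism from the direct sum induced by a family of morphisms -/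
noncomputable def sumDesc {L : DRing.Cx A} (f : ∀ n, P n ⟶ L) : SumCx P ⟶ L where
  f i := ModuleCat.ofHom (DirectSum.toModule A ℕ (L.X i) (fun n => ((f n).f i).hom))
  comm' i k _ := by
    refine ModuleCat.hom_ext (DirectSum.linearMap_ext A fun n => LinearMap.ext fun x => ?_)
    change (L.d i k).hom (DirectSum.toModule A ℕ (L.X i) (fun n => ((f n).f i).hom)
        (DirectSum.lof A ℕ (fun m => ((P m).X i : Type u)) n x)) =
      DirectSum.toModule A ℕ (L.X k) (fun n => ((f n).f k).hom)
        (DirectSum.lmap (fun m => ((P m).d i k).hom)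
          (DirectSum.lof A ℕ (fun m => ((P m).X i : Type u)) n x))
    rw [DirectSum.toModule_lof, DirectSum.lmap_lof, DirectSum.toModule_lof]
    exact congrArg (fun g => g.hom x) ((f n).comm i k)

lemma sumDesc_f_apply {L : DRing.Cx A} (f : ∀ n, P n ⟶ L) (i : ℤ) (s : (SumCx P).X i) :
    ((sumDesc f).f i).hom s =
      DirectSum.toModule A ℕ (L.X i) (fun n => ((f n).f i).hom) s := rfl

lemma sumDesc_f_lof {L : DRing.Cx A} (f : ∀ n, P n ⟶ L) (i : ℤ) (n : ℕ) (x : (P n).X i) :
    ((sumDesc f).f i).hom (DirectSum.lof A ℕ (fun m => ((P m).X i : Type u)) n x) =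
      ((f n).f i).hom x := by
  rw [sumDesc_f_apply, DirectSum.toModule_lof]

@[reassoc (attr := simp)]
lemma sumι_desc {L : DRing.Cx A} (f : ∀ n, P n ⟶ L) (n : ℕ) : sumι P n ≫ sumDesc f = f n := by
  refine HomologicalComplex.hom_ext _ _ fun i => ModuleCat.hom_ext (LinearMap.ext fun x => ?_)
  exact sumDesc_f_lof f i n x

lemma sum_hom_ext {L : DRing.Cx A} {g g' : SumCx P ⟶ L}
    (h : ∀ n, sumι P n ≫ g = sumι P n ≫ g') : g = g' := by
  refine HomologicalComplex.hom_ext _ _ fun i =>
    ModuleCat.hom_ext (DirectSum.linearMap_ext A fun n => LinearMap.ext fun x => ?_)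
  exact congrArg (fun (t : P n ⟶ L) => (t.f i).hom x) (h n)

variable (P)

/-- the cofan of the explicit direct sum -/
noncomputable def sumCofan : Cofan P := Cofan.mk (SumCx P) (sumι P)

/-- the explicit direct sum is a coproduct -/
noncomputable def isColimitSumCofan : IsColimit (sumCofan P) :=
  mkCofanColimit _ (fun s => sumDesc (fun n => s.inj n))
    (fun s n => sumι_desc (fun n => s.inj n) n)
    (fun s m hm => sum_hom_ext (fun n => by
      rw [sumι_desc]
      exact hm n))

/-- the direct sum of K-projective complexes is K-projective -/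
lemma isKProjective_sumCx (h : ∀ n, (P n).IsKProjective) : (SumCx P).IsKProjective :=
  ⟨fun {L} f hL => homotopy_zero_of_isColimit (sumCofan P) (isColimitSumCofan P) f
    (fun n => (h n).nonempty_homotopy_zero _ hL)⟩

lemma projective_sumCx (i : ℤ) (h : ∀ n, Module.Projective A ((P n).X i)) :
    Module.Projective A ((SumCx P).X i) := by
  haveI := h
  change Module.Projective A (⨁ n, ((P n).X i : Type u))
  infer_instance

/-- a componentwise boundary is a boundary -/
lemma sum_boundary (i k : ℤ) (s : (SumCx P).X k)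
    (h : ∀ n, ∃ t : (P n).X i, ((P n).d i k).hom t = sumComp s n) :
    ∃ t : (SumCx P).X i, ((SumCx P).d i k).hom t = s := by
  classical
  choose t ht using h
  let s' : ⨁ n, ((P n).X k : Type u) := s
  refine ⟨(show ⨁ n, ((P n).X i : Type u) from ∑ n ∈ DFinsupp.support s',
    DirectSum.lof A ℕ (fun m => ((P m).X i : Type u)) n (t n)), ?_⟩
  change DirectSum.lmap (fun n => ((P n).d i k).hom) (∑ n ∈ DFinsupp.support s',
    DirectSum.lof A ℕ (fun m => ((P m).X i : Type u)) n (t n)) = s'
  rw [map_sum]
  conv_rhs => rw [← DirectSum.sum_support_of s']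
  refine Finset.sum_congr rfl fun n _ => ?_
  rw [DirectSum.lmap_lof, ht n, DirectSum.lof_eq_of]
  rfl

/-- a boundary is a componentwise boundary -/
lemma sum_boundary_apply (i k : ℤ) (s : (SumCx P).X k) (t : (SumCx P).X i)
    (h : ((SumCx P).d i k).hom t = s) (n : ℕ) :
    ((P n).d i k).hom (sumComp t n) = sumComp s n := by
  rw [← h]
  rfl

/-- a cycle is a componentwise cycle -/
lemma sum_cycle_apply (i k : ℤ) (s : (SumCx P).X i) (hs : ((SumCx P).d i k).hom s = 0) (n : ℕ) :
    ((P n).d i k).hom (sumComp s n) = 0 := by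
  rw [← sumComp_d, hs]
  rfl

/-- a componentwise cycle is a cycle -/
lemma sum_cycle_of_apply (i k : ℤ) (s : (SumCx P).X i)
    (hs : ∀ n, ((P n).d i k).hom (sumComp s n) = 0) :
    ((SumCx P).d i k).hom s = 0 := by
  refine sum_ext fun n => ?_
  rw [sumComp_d, hs n]
  rfl

end Sum

end Groth.Agent.Lib.Helper18.DR
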