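import Mathlib
import Groth.Agent.Lib.Helper18.KProjA
import Groth.Agent.Lib.Helper18.DRQis

/-!
# Unbounded K-projective resolutions, part B (helper18)

The telescope of a sequence of complexes of modules and the comparison map to a target complex.
-/

set_option autoImplicit false
set_option linter.style.haveILetI false
universe u
open CategoryTheory CategoryTheory.Limits CategoryTheory.Pretriangulated DerivedCategory

attribute [local instance] HasDerivedCategory.standard

namespace Groth.Agent.Lib.Helper18.DR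

/-! ## The algebra of telescopes -/

section TelAlg

open DirectSum

variable {A : Type u} [CommRing A] {M : ℕ → Type u} [∀ n, AddCommGroup (M n)]
  [∀ n, Module A (M n)] (j : ∀ n, M n →ₗ[A] M (n + 1))

/-- the shift endomorphism of a direct sum of a sequence of modules -/
noncomputable def telσ : (⨁ n, M n) →ₗ[A] (⨁ n, M n) :=
  DirectSum.toModule A ℕ _ (fun n => (DirectSum.lof A ℕ M (n + 1)).comp (j n))

lemma telσ_lof (n : ℕ) (x : M n) :
    telσ j (DirectSum.lof A ℕ M n x) = DirectSum.lof A ℕ M (n + 1) (j n x) := by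
  unfold telσ
  rw [DirectSum.toModule_lof]
  rfl

lemma telσ_apply_zero (s : ⨁ n, M n) : (telσ j s) 0 = 0 := by
  induction s using DirectSum.induction_on with
  | zero => rw [map_zero]; rfl
  | of m x =>
    rw [← DirectSum.lof_eq_of A, telσ_lof, DirectSum.lof_eq_of]
    exact DirectSum.of_eq_of_ne _ _ _ (by omega)
  | add x y hx hy => rw [map_add, DirectSum.add_apply, hx, hy, add_zero]

lemma telσ_apply_succ (s : ⨁ n, M n) (n : ℕ) : (telσ j s) (n + 1) = j n (s n) := by
  induction s using DirectSum.induction_on with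
  | zero => rw [map_zero, DirectSum.zero_apply, DirectSum.zero_apply, map_zero]
  | of m x =>
    rw [← DirectSum.lof_eq_of A, telσ_lof, DirectSum.lof_eq_of, DirectSum.lof_eq_of]
    by_cases hmn : m = n
    · subst hmn
      rw [DirectSum.of_eq_same, DirectSum.of_eq_same]
    · rw [DirectSum.of_eq_of_ne _ _ _ (by omega), DirectSum.of_eq_of_ne _ _ _ (Ne.symm hmn),
        map_zero]
  | add x y hx hy => rw [map_add, DirectSum.add_apply, DirectSum.add_apply, hx, hy, map_add]

/-- `1 - shift` reflects componentwise membership in a compatible family of submodules -/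
lemma tel_inj (B : ∀ n, Submodule A (M n)) (hjB : ∀ n (x : M n), x ∈ B n → j n x ∈ B (n + 1))
    (s : ⨁ n, M n) (h : ∀ n, (s - telσ j s) n ∈ B n) : ∀ n, s n ∈ B n := by
  intro n
  induction n with
  | zero =>
    have h0 := h 0
    rwa [DirectSum.sub_apply, telσ_apply_zero, sub_zero] at h0
  | succ n ih =>
    have h1 := h (n + 1)
    rw [DirectSum.sub_apply, telσ_apply_succ] at h1
    have h2 := (B (n + 1)).add_mem h1 (hjB n _ ih)
    rwa [sub_add_cancel] at h2

/-- the cokernel of `1 - shift` is computed by the colimit -/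
lemma tel_coker {T : Type u} [AddCommGroup T] [Module A T] (Z B : ∀ n, Submodule A (M n))
    (BT : Submodule A T) (hjZ : ∀ n (x : M n), x ∈ Z n → j n x ∈ Z (n + 1))
    (π : ∀ n, M n →ₗ[A] T) (hπ : ∀ n (x : M n), x ∈ Z n → π (n + 1) (j n x) - π n x ∈ BT)
    (N₀ : ℕ) (hN₀ : ∀ N, N₀ ≤ N → ∀ x : M N, x ∈ Z N → π N x ∈ BT → x ∈ B N)
    (s : ⨁ n, M n) (hs : ∀ n, s n ∈ Z n) (hπs : DirectSum.toModule A ℕ T π s ∈ BT) :
    ∃ r : ⨁ n, M n, (∀ n, r n ∈ Z n) ∧ ∀ n, (s - (r - telσ j r)) n ∈ B n := by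
  classical
  have key : ∀ (N : ℕ) (s : ⨁ n, M n), (∀ n, s n ∈ Z n) → (∀ n, N < n → s n = 0) →
      ∃ (r : ⨁ n, M n) (z : M N), (∀ n, r n ∈ Z n) ∧ z ∈ Z N ∧
        s = (r - telσ j r) + DirectSum.lof A ℕ M N z ∧
        DirectSum.toModule A ℕ T π s - π N z ∈ BT := by
    intro N
    induction N with
    | zero =>
      intro s hs hsupp
      have hs0 : s = DirectSum.lof A ℕ M 0 (s 0) := by
        refine DFinsupp.ext fun n => ?_
        rw [DirectSum.lof_eq_of]
        rcases Nat.eq_zero_or_pos n with rfl | hn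
        · rw [DirectSum.of_eq_same]
        · rw [DirectSum.of_eq_of_ne _ _ _ (by omega), hsupp n hn]
      refine ⟨0, s 0, fun n => ?_, hs 0, ?_, ?_⟩
      · rw [DirectSum.zero_apply]; exact (Z n).zero_mem
      · rw [map_zero, sub_zero, zero_add]; exact hs0
      · have h1 : DirectSum.toModule A ℕ T π s = π 0 (s 0) := by
          conv_lhs => rw [hs0]
          rw [DirectSum.toModule_lof]
        rw [h1, sub_self]; exact BT.zero_mem
    | succ N ih =>
      intro s hs hsupp
      obtain ⟨w, hw⟩ : ∃ w, w = s (N + 1) := ⟨_, rfl⟩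
      obtain ⟨s', hs'⟩ : ∃ s' : ⨁ n, M n, s' = s - DirectSum.lof A ℕ M (N + 1) w := ⟨_, rfl⟩
      have hs'apply : ∀ n, s' n = if n = N + 1 then 0 else s n := by
        intro n
        rw [hs', DirectSum.sub_apply, DirectSum.lof_eq_of]
        split_ifs with hn
        · subst hn; rw [DirectSum.of_eq_same, hw]; exact sub_self _
        · rw [DirectSum.of_eq_of_ne _ _ _ hn, sub_zero]
      have hss' : s = s' + DirectSum.lof A ℕ M (N + 1) w := by
        rw [hs', sub_add_cancel]
      obtain ⟨r', z', hr', hz', hs'eq, hπ'⟩ := ih s' (fun n => by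
          rw [hs'apply]; split_ifs
          · exact (Z n).zero_mem
          · exact hs n) (fun n hn => by
          rw [hs'apply]; split_ifs
          · rfl
          · exact hsupp n (by omega))
      refine ⟨r' + DirectSum.lof A ℕ M N z', j N z' + w, fun n => ?_, ?_, ?_, ?_⟩
      · rw [DirectSum.add_apply, DirectSum.lof_eq_of]
        refine (Z n).add_mem (hr' n) ?_
        by_cases hn : n = N
        · subst hn; rw [DirectSum.of_eq_same]; exact hz'
        · rw [DirectSum.of_eq_of_ne _ _ _ hn]; exact (Z n).zero_mem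
      · rw [hw]; exact (Z (N + 1)).add_mem (hjZ N z' hz') (hs (N + 1))
      · rw [map_add, map_add, telσ_lof]
        conv_lhs => rw [hss', hs'eq]
        abel
      · have h1 : DirectSum.toModule A ℕ T π s =
            DirectSum.toModule A ℕ T π s' + π (N + 1) w := by
          conv_lhs => rw [hss']
          rw [map_add, DirectSum.toModule_lof]
        have h2 : DirectSum.toModule A ℕ T π s - π (N + 1) (j N z' + w) =
            (DirectSum.toModule A ℕ T π s' - π N z') - (π (N + 1) (j N z') - π N z') := by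
          rw [h1, map_add]; abel
        rw [h2]
        exact BT.sub_mem hπ' (hπ N z' hz')
  -- conclusion
  obtain ⟨s₀, hs₀⟩ : ∃ s₀ : Π₀ n, M n, s₀ = s := ⟨_, rfl⟩
  obtain ⟨N, hN⟩ : ∃ N : ℕ, N = max N₀ (s₀.support.sup id) := ⟨_, rfl⟩
  have hsupp : ∀ n, N < n → s n = 0 := by
    intro n hn
    by_contra hne
    have hmem : n ∈ s₀.support := by
      rw [DFinsupp.mem_support_iff, hs₀]; exact hne
    have h2 : id n ≤ s₀.support.sup id := Finset.le_sup (f := id) hmem
    have h3 : n ≤ N := by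
      rw [hN]; exact le_trans h2 (le_max_right _ _)
    omega
  obtain ⟨r, z, hr, hz, hseq, hπz⟩ := key N s hs hsupp
  refine ⟨r, hr, fun n => ?_⟩
  have hzB : z ∈ B N := by
    refine hN₀ N (by rw [hN]; exact le_max_left _ _) z hz ?_
    have h5 := BT.sub_mem hπs hπz
    rwa [sub_sub_cancel] at h5
  have h4 : s - (r - telσ j r) = DirectSum.lof A ℕ M N z := by
    conv_lhs => rw [hseq]
    abel
  rw [h4, DirectSum.lof_eq_of]
  by_cases hn : n = N
  · subst hn; rw [DirectSum.of_eq_same]; exact hzB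
  · rw [DirectSum.of_eq_of_ne _ _ _ hn]; exact (B n).zero_mem

end TelAlg

/-! ## The telescope of a sequence of complexes -/

section Tel

open DirectSum CochainComplex HomComplex

variable {A : Type u} [CommRing A] (P : ℕ → DRing.Cx A) (j : ∀ n, P n ⟶ P (n + 1))

/-- `1 - shift` on the direct sum of a sequence of complexes -/
noncomputable def telφ : SumCx P ⟶ SumCx P :=
  sumDesc (fun n => sumι P n - j n ≫ sumι P (n + 1))

/-- the shift endomorphism of the direct sum, in degree `i` -/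
noncomputable def sumσ (i : ℤ) : (SumCx P).X i →ₗ[A] (SumCx P).X i :=
  telσ (M := fun n => ((P n).X i : Type u)) (fun n => ((j n).f i).hom)

lemma telφ_f_apply (i : ℤ) (s : (SumCx P).X i) :
    ((telφ P j).f i).hom s = s - sumσ P j i s := by
  have key : ∀ t : ⨁ n, ((P n).X i : Type u),
      DirectSum.toModule A ℕ ((SumCx P).X i)
        (fun n => ((sumι P n - j n ≫ sumι P (n + 1)).f i).hom) t =
      t - telσ (fun n => ((j n).f i).hom) t := by
    intro t
    induction t using DirectSum.induction_on with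
    | zero => rw [map_zero, map_zero, sub_zero]; rfl
    | of n x =>
      rw [← DirectSum.lof_eq_of A, DirectSum.toModule_lof, telσ_lof]
      rfl
    | add x y hx hy => rw [map_add, map_add, hx, hy]; abel
  exact key s

lemma comm_apply {K L : DRing.Cx A} (f : K ⟶ L) (i k : ℤ) (x : K.X i) :
    (L.d i k).hom ((f.f i).hom x) = (f.f k).hom ((K.d i k).hom x) :=
  congrArg (fun g => g.hom x) (f.comm i k)

/-- `1 - shift` reflects boundaries -/
lemma tel_boundary_of_boundary (i k : ℤ) (x : (SumCx P).X k) (y : (SumCx P).X i)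
    (h : ((telφ P j).f k).hom x = ((SumCx P).d i k).hom y) :
    ∃ t : (SumCx P).X i, ((SumCx P).d i k).hom t = x := by
  apply sum_boundary
  have h1 := tel_inj (M := fun n => ((P n).X k : Type u)) (fun n => ((j n).f k).hom)
    (fun n => LinearMap.range ((P n).d i k).hom) (fun n z hz => by
      obtain ⟨t, rfl⟩ := hz
      exact ⟨((j n).f i).hom t, comm_apply (j n) i k t⟩)
    (show ⨁ n, ((P n).X k : Type u) from x) (fun n => by
      refine ⟨sumComp y n, ?_⟩
      have h2 := telφ_f_apply P j k x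
      rw [h] at h2
      exact congrArg (fun s => sumComp s n) h2)
  exact fun n => h1 n

/-- the cokernel of `1 - shift` on cohomology -/
lemma tel_coker_sum {K₀ : DRing.Cx A} (p : ∀ n, P n ⟶ K₀) (h i k : ℤ)
    (hcompat : ∀ n (x : (P n).X i), ((P n).d i k).hom x = 0 →
      ∃ w : K₀.X h, ((p (n + 1)).f i).hom (((j n).f i).hom x) - ((p n).f i).hom x =
        (K₀.d h i).hom w)
    (N₀ : ℕ) (hN₀ : ∀ N, N₀ ≤ N → ∀ x : (P N).X i, ((P N).d i k).hom x = 0 →
      (∃ w : K₀.X h, (K₀.d h i).hom w = ((p N).f i).hom x) →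
        ∃ t : (P N).X h, ((P N).d h i).hom t = x)
    (y : (SumCx P).X i) (hy : ((SumCx P).d i k).hom y = 0)
    (hpy : ∃ w : K₀.X h, (K₀.d h i).hom w = ((sumDesc p).f i).hom y) :
    ∃ (r : (SumCx P).X i) (t : (SumCx P).X h), ((SumCx P).d i k).hom r = 0 ∧
      y = ((telφ P j).f i).hom r + ((SumCx P).d h i).hom t := by
  obtain ⟨r, hr, hB⟩ := tel_coker (M := fun n => ((P n).X i : Type u)) (T := K₀.X i)
    (fun n => ((j n).f i).hom)
    (fun n => LinearMap.ker ((P n).d i k).hom) (fun n => LinearMap.range ((P n).d h i).hom)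
    (LinearMap.range (K₀.d h i).hom)
    (fun n x hx => by
      rw [LinearMap.mem_ker] at hx ⊢
      rw [comm_apply (j n) i k x, hx, map_zero])
    (fun n => ((p n).f i).hom)
    (fun n x hx => by
      obtain ⟨w, hw⟩ := hcompat n x (LinearMap.mem_ker.mp hx)
      exact ⟨w, hw.symm⟩)
    N₀
    (fun N hN x hx hpx => by
      obtain ⟨w, hw⟩ := hpx
      obtain ⟨t, ht⟩ := hN₀ N hN x (LinearMap.mem_ker.mp hx) ⟨w, hw⟩
      exact ⟨t, ht⟩)
    (show ⨁ n, ((P n).X i : Type u) from y)
    (fun n => LinearMap.mem_ker.mpr (sum_cycle_apply P i k y hy n))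
    (by
      obtain ⟨w, hw⟩ := hpy
      exact ⟨w, hw⟩)
  have hr' : ((SumCx P).d i k).hom r = 0 :=
    sum_cycle_of_apply P i k r (fun n => LinearMap.mem_ker.mp (hr n))
  obtain ⟨t, ht⟩ := sum_boundary P h i (y - ((telφ P j).f i).hom r) (fun n => by
    obtain ⟨t, ht⟩ := hB n
    refine ⟨t, ?_⟩
    rw [ht, telφ_f_apply]
    rfl)
  exact ⟨r, t, hr', by rw [ht]; abel⟩

lemma quasiIsoAt_elementwise_inj {K L : DRing.Cx A} (α : K ⟶ L) (i j k : ℤ) (hij : i + 1 = j)
    (hjk : j + 1 = k) [QuasiIsoAt α j] (x : K.X j) (hx : (K.d j k).hom x = 0) (y : L.X i)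
    (hy : (L.d i j).hom y = (α.f j).hom x) : ∃ x' : K.X i, (K.d i j).hom x' = x := by
  have h := (quasiIsoAt_iff' α i j k (by simp [← hij]) (by simp [← hjk])).mp inferInstance
  exact (shortComplex_elementwise_of_quasiIso _ h).1 x hx ⟨y, hy⟩

lemma quasiIsoAt_elementwise_surj {K L : DRing.Cx A} (α : K ⟶ L) (i j k : ℤ) (hij : i + 1 = j)
    (hjk : j + 1 = k) [QuasiIsoAt α j] (y : L.X j) (hy : (L.d j k).hom y = 0) :
    ∃ (x : K.X j) (y' : L.X i), (K.d j k).hom x = 0 ∧ (α.f j).hom x = y + (L.d i j).hom y' := by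
  have h := (quasiIsoAt_iff' α i j k (by simp [← hij]) (by simp [← hjk])).mp inferInstance
  exact (shortComplex_elementwise_of_quasiIso _ h).2 y hy

/-- the homotopies `p (n+1) ∘ j n ≃ p n` assemble to a null-homotopy of `p ∘ (1 - shift)` -/
lemma exists_telCochain {K₀ : DRing.Cx A} (p : ∀ n, P n ⟶ K₀)
    (hcompat : ∀ n, Nonempty (Homotopy (j n ≫ p (n + 1)) (p n))) :
    ∃ α : Cochain (SumCx P) K₀ (-1), δ (-1) 0 α = Cochain.ofHom (telφ P j ≫ sumDesc p) := by
  have h0 : Nonempty (Homotopy (telφ P j ≫ sumDesc p) 0) := by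
    apply homotopy_zero_of_isColimit (sumCofan P) (isColimitSumCofan P)
    intro n
    obtain ⟨H⟩ := hcompat n
    have e : (sumCofan P).inj n ≫ telφ P j ≫ sumDesc p = p n - j n ≫ p (n + 1) := by
      change sumι P n ≫ telφ P j ≫ sumDesc p = _
      rw [telφ, sumι_desc_assoc, Preadditive.sub_comp, sumι_desc, Category.assoc, sumι_desc]
    exact ⟨(Homotopy.ofEq e).trans (Homotopy.equivSubZero H.symm)⟩
  obtain ⟨H⟩ := h0
  obtain ⟨z, hz⟩ := Cochain.equivHomotopy _ _ H
  exact ⟨z, by rw [hz, Cochain.ofHom_zero, add_zero]⟩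

open ConeE in
/-- the comparison map from the telescope is a quasi-isomorphism in each degree where the
`p N` eventually are -/
theorem quasiIsoAt_telDesc {K₀ : DRing.Cx A} (p : ∀ n, P n ⟶ K₀)
    (α : Cochain (SumCx P) K₀ (-1))
    (hα : δ (-1) 0 α = Cochain.ofHom (telφ P j ≫ sumDesc p)) (i : ℤ)
    (hcompat : ∀ n, Nonempty (Homotopy (j n ≫ p (n + 1)) (p n)))
    (N₀ : ℕ) (hN₀ : ∀ N, N₀ ≤ N → QuasiIsoAt (p N) i) :
    QuasiIsoAt (mappingCone.desc (telφ P j) α (sumDesc p) hα) i := by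
  have hcompat' : ∀ n (x : (P n).X i), ((P n).d i (i + 1)).hom x = 0 →
      ∃ w : K₀.X (i - 1), ((p (n + 1)).f i).hom (((j n).f i).hom x) - ((p n).f i).hom x =
        (K₀.d (i - 1) i).hom w := by
    intro n x hx
    obtain ⟨H⟩ := hcompat n
    have h1 := H.comm i
    rw [dNext_eq H.hom (show (ComplexShape.up ℤ).Rel i (i + 1) from rfl),
      prevD_eq H.hom (show (ComplexShape.up ℤ).Rel (i - 1) i by simp)] at h1
    have h2 := congrArg (fun g => g.hom x) h1
    simp only [HomologicalComplex.comp_f, ModuleCat.hom_comp, LinearMap.comp_apply,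
      ModuleCat.hom_add, LinearMap.add_apply] at h2
    rw [hx, map_zero, zero_add] at h2
    exact ⟨(H.hom i (i - 1)).hom x, by rw [h2]; abel⟩
  have hN₀' : ∀ N, N₀ ≤ N → ∀ x : (P N).X i, ((P N).d i (i + 1)).hom x = 0 →
      (∃ w : K₀.X (i - 1), (K₀.d (i - 1) i).hom w = ((p N).f i).hom x) →
        ∃ t : (P N).X (i - 1), ((P N).d (i - 1) i).hom t = x := by
    intro N hN x hx hw
    obtain ⟨w, hw⟩ := hw
    haveI := hN₀ N hN
    exact quasiIsoAt_elementwise_inj (p N) (i - 1) i (i + 1) (by omega) rfl x hx w hw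
  obtain ⟨φ, hφ⟩ : ∃ φ : SumCx P ⟶ SumCx P, φ = telφ P j := ⟨_, rfl⟩
  subst hφ
  obtain ⟨G, hG⟩ : ∃ G : mappingCone (telφ P j) ⟶ K₀,
    G = mappingCone.desc (telφ P j) α (sumDesc p) hα := ⟨_, rfl⟩
  rw [← hG]
  rw [quasiIsoAt_iff' G (i - 1) i (i + 1) (by simp) (by simp)]
  apply shortComplex_quasiIso_of_elementwise
  · -- injectivity
    intro (c : (mappingCone (telφ P j)).X i) hc hyy
    obtain ⟨(y₁ : K₀.X (i - 1)), hy₁⟩ := hyy
    have hc' : ((mappingCone (telφ P j)).d i (i + 1)).hom c = 0 := hc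
    have hy₁' : (K₀.d (i - 1) i).hom y₁ = (G.f i).hom c := hy₁
    obtain ⟨x, hx⟩ : ∃ x, x = fstE (telφ P j) i (i + 1) rfl c := ⟨_, rfl⟩
    obtain ⟨y, hy⟩ : ∃ y, y = sndE (telφ P j) i c := ⟨_, rfl⟩
    have hdy : ((telφ P j).f (i + 1)).hom x + ((SumCx P).d i (i + 1)).hom y = 0 := by
      have h3 := sndE_d (telφ P j) i (i + 1) rfl c
      rw [hc', sndE_zero] at h3
      rw [hx, hy]
      exact h3.symm
    obtain ⟨t, ht⟩ := tel_boundary_of_boundary P j i (i + 1) x (-y) (by
      rw [map_neg]; exact eq_neg_of_add_eq_zero_left hdy)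
    obtain ⟨c₁, hc₁⟩ : ∃ c₁ : (mappingCone (telφ P j)).X (i - 1),
      c₁ = mkE (telφ P j) (i - 1) i (by omega) (-t) 0 := ⟨_, rfl⟩
    have hfst₁ : fstE (telφ P j) i (i + 1) rfl
        (((mappingCone (telφ P j)).d (i - 1) i).hom c₁) = x := by
      rw [fstE_d (telφ P j) (i - 1) i (by omega) (i + 1) rfl, hc₁, fstE_mkE, map_neg, neg_neg, ht]
    have hsnd₁ : sndE (telφ P j) i (((mappingCone (telφ P j)).d (i - 1) i).hom c₁) =
        -((telφ P j).f i).hom t := by
      rw [sndE_d (telφ P j) (i - 1) i (by omega), hc₁, fstE_mkE, sndE_mkE, map_zero, add_zero,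
        map_neg]
    obtain ⟨y', hy'⟩ : ∃ y', y' = y + ((telφ P j).f i).hom t := ⟨_, rfl⟩
    have hy'cycle : ((SumCx P).d i (i + 1)).hom y' = 0 := by
      rw [hy', map_add, comm_apply (telφ P j) i (i + 1) t, ht]
      exact (add_comm _ _).trans hdy
    have hGy' : ((sumDesc p).f i).hom y' =
        (K₀.d (i - 1) i).hom (y₁ - (G.f (i - 1)).hom c₁) := by
      have h1 := desc_apply (telφ P j) i (i + 1) rfl α (sumDesc p) hα
        (c - ((mappingCone (telφ P j)).d (i - 1) i).hom c₁)
      rw [fstE_sub, sndE_sub, hfst₁, hsnd₁, ← hx, ← hy, sub_self, map_zero, zero_add,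
        sub_neg_eq_add, ← hy', ← hG] at h1
      calc ((sumDesc p).f i).hom y'
          = (G.f i).hom (c - ((mappingCone (telφ P j)).d (i - 1) i).hom c₁) := h1.symm
        _ = (G.f i).hom c - (G.f i).hom (((mappingCone (telφ P j)).d (i - 1) i).hom c₁) :=
            map_sub _ _ _
        _ = (K₀.d (i - 1) i).hom y₁ - (K₀.d (i - 1) i).hom ((G.f (i - 1)).hom c₁) := by
            rw [hy₁', comm_apply G (i - 1) i c₁]
        _ = _ := (map_sub _ _ _).symm
    obtain ⟨r, t', hr, hyr⟩ := tel_coker_sum P j p (i - 1) i (i + 1) hcompat' N₀ hN₀' y'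
      hy'cycle ⟨_, hGy'.symm⟩
    obtain ⟨c₂, hc₂⟩ : ∃ c₂ : (mappingCone (telφ P j)).X (i - 1),
      c₂ = mkE (telφ P j) (i - 1) i (by omega) r t' := ⟨_, rfl⟩
    refine ⟨c₁ + c₂, ?_⟩
    change ((mappingCone (telφ P j)).d (i - 1) i).hom (c₁ + c₂) = c
    apply ConeE.ext (telφ P j) i (i + 1) rfl
    · rw [map_add, fstE_add, hfst₁, fstE_d (telφ P j) (i - 1) i (by omega) (i + 1) rfl, hc₂,
        fstE_mkE, hr, neg_zero, add_zero, hx]
    · rw [map_add, sndE_add, hsnd₁, sndE_d (telφ P j) (i - 1) i (by omega), hc₂, fstE_mkE,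
        sndE_mkE, ← hyr, hy', ← hy]
      abel
  · -- surjectivity
    intro (z : K₀.X i) hz
    have hz' : (K₀.d i (i + 1)).hom z = 0 := hz
    haveI := hN₀ N₀ le_rfl
    obtain ⟨xN, y', hxN, hpx⟩ :=
      quasiIsoAt_elementwise_surj (p N₀) (i - 1) i (i + 1) (by omega) rfl z hz'
    have hd : ((SumCx P).d i (i + 1)).hom (((sumι P N₀).f i).hom xN) = 0 := by
      rw [comm_apply (sumι P N₀) i (i + 1) xN, hxN, map_zero]
    refine ⟨mkE (telφ P j) i (i + 1) rfl 0 (((sumι P N₀).f i).hom xN), y', ?_, ?_⟩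
    · change ((mappingCone (telφ P j)).d i (i + 1)).hom _ = 0
      apply ConeE.ext (telφ P j) (i + 1) (i + 1 + 1) rfl
      · rw [fstE_d (telφ P j) i (i + 1) rfl (i + 1 + 1) rfl, fstE_mkE, map_zero, neg_zero,
          fstE_zero]
      · rw [sndE_d (telφ P j) i (i + 1) rfl, fstE_mkE, sndE_mkE, map_zero, zero_add, sndE_zero,
          hd]
    · change (G.f i).hom _ = z + (K₀.d (i - 1) i).hom y'
      rw [hG, desc_apply (telφ P j) i (i + 1) rfl α (sumDesc p) hα, fstE_mkE, sndE_mkE, map_zero,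
        zero_add, ← hpx]
      exact congrArg (fun (g : P N₀ ⟶ K₀) => (g.f i).hom xN) (sumι_desc p N₀)

/-- the telescope of K-projective complexes is K-projective -/
lemma isKProjective_tel (h : ∀ n, (P n).IsKProjective) :
    (mappingCone (telφ P j)).IsKProjective := by
  haveI := isKProjective_sumCx P h
  exact isKProjective_mappingCone _

lemma projective_tel (h : ∀ n i, Module.Projective A ((P n).X i)) (i : ℤ) :
    Module.Projective A ((mappingCone (telφ P j)).X i) :=
  (projProp A).cone (telφ P j) (fun i => projective_sumCx P i (fun n => h n i))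
    (fun i => projective_sumCx P i (fun n => h n i)) i

end Tel

end Groth.Agent.Lib.Helper18.DR
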