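import Mathlib
import Groth.Agent.Lib.Helper18.KProjB
import Groth.Agent.Lib.Helper18.DRSplit
import Groth.Agent.Lib.Helper18.DRRes

/-!
# Unbounded K-projective resolutions, part C (helper18)

Every object of `D(A)` is represented by a K-projective complex of projective modules.
-/

set_option autoImplicit false
set_option linter.style.haveILetI false
universe u
open CategoryTheory CategoryTheory.Limits CategoryTheory.Pretriangulated DerivedCategory

attribute [local instance] HasDerivedCategory.standard

namespace Groth.Agent.Lib.Helper18.DR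

open CochainComplex HomComplex

variable {A : Type u} [CommRing A]

/-- every object of `D(A)` is represented by a K-projective complex of projective modules -/
theorem exists_kprojective_resolution (X : Dual.D A) :
    ∃ P : DRing.Cx A, P.IsKProjective ∧ (∀ i, Module.Projective A (P.X i)) ∧
      Nonempty (DRing.toD P ≅ X) := by
  obtain ⟨K₀, ⟨eK⟩⟩ : ∃ K₀ : DRing.Cx A, Nonempty (DRing.toD K₀ ≅ X) :=
    ⟨DerivedCategory.Q.objPreimage X, ⟨DerivedCategory.Q.objObjPreimageIso X⟩⟩
  have hres : ∀ n : ℕ, ∃ G : DRing.Cx A, DRing.VanishesAbove G ((n : ℤ) - 1) ∧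
      (∀ i, Module.Free A (G.X i)) ∧
      Nonempty (DRing.toD G ≅ ((tS A).truncLT (n : ℤ)).obj X) := fun n => by
    haveI : (((tS A).truncLT (n : ℤ)).obj X).IsLE ((n : ℤ) - 1) := by
      change (tS A).IsLE _ _
      infer_instance
    exact exists_free_resolution _ _
  choose P hPb hPfree hPe using hres
  have e : ∀ n, DRing.toD (P n) ≅ ((tS A).truncLT (n : ℤ)).obj X := fun n => (hPe n).some
  have hproj : ∀ n i, Module.Projective A ((P n).X i) := fun n i => by
    haveI := hPfree n i
    exact Module.Projective.of_free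
  haveI hKP : ∀ n, (P n).IsKProjective := fun n =>
    isKProjective_of_vanishesAbove (P n) _ (hPb n) (hproj n)
  have hp : ∀ n, ∃ f : P n ⟶ K₀, DerivedCategory.Q.map f =
      (e n).hom ≫ ((tS A).truncLTι (n : ℤ)).app X ≫ eK.inv := fun n => exists_map_eq (P n) K₀ _
  choose p hp using hp
  have hj : ∀ n : ℕ, ∃ f : P n ⟶ P (n + 1), DerivedCategory.Q.map f =
      (e n).hom ≫ ((tS A).natTransTruncLTOfLE (n : ℤ) ((n + 1 : ℕ) : ℤ)
        (by push_cast; omega)).app X ≫ (e (n + 1)).inv :=
    fun n => exists_map_eq (P n) (P (n + 1)) _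
  choose j hj using hj
  have hcompat : ∀ n, Nonempty (Homotopy (j n ≫ p (n + 1)) (p n)) := fun n => by
    apply nonempty_homotopy_of_map_eq
    rw [Functor.map_comp, hj n, hp (n + 1), hp n]
    simp only [Category.assoc, Iso.inv_hom_id_assoc,
      Triangulated.TStructure.natTransTruncLTOfLE_ι_app_assoc]
  have hq : ∀ (i : ℤ) (N : ℕ), i < (N : ℤ) → QuasiIsoAt (p N) i := by
    intro i N hiN
    rw [quasiIsoAt_iff_isIso_homologyMap]
    have h1 : IsIso ((H A i).map (DerivedCategory.Q.map (p N))) := by
      rw [hp N]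
      haveI := isIso_H_truncLTι X (N : ℤ) i hiN
      rw [Functor.map_comp, Functor.map_comp]
      infer_instance
    exact (NatIso.isIso_map_iff
      (DerivedCategory.homologyFunctorFactors (ModuleCat.{u} A) i) (p N)).mp h1
  obtain ⟨α, hα⟩ := exists_telCochain P j p hcompat
  haveI : QuasiIso (mappingCone.desc (telφ P j) α (sumDesc p) hα) :=
    ⟨fun i => quasiIsoAt_telDesc P j p α hα i hcompat (i + 1).toNat
      (fun N hN => hq i N (by omega))⟩
  haveI : IsIso (DerivedCategory.Q.map (mappingCone.desc (telφ P j) α (sumDesc p) hα)) := by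
    rw [DerivedCategory.isIso_Q_map_iff_quasiIso]
    infer_instance
  exact ⟨mappingCone (telφ P j), isKProjective_tel P j hKP, projective_tel P j hproj,
    ⟨asIso (DerivedCategory.Q.map (mappingCone.desc (telφ P j) α (sumDesc p) hα)) ≪≫ eK⟩⟩

end Groth.Agent.Lib.Helper18.DR
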