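import Mathlib
import Groth.Agent.Lib.Helper18.KProjC
import Groth.Agent.Lib.Helper18.DRFib

/-!
# Unbounded K-projective complexes: base change, tensor products, nilpotent dévissage (helper18)
-/

set_option autoImplicit false
set_option linter.style.haveILetI false
universe u
open CategoryTheory CategoryTheory.Limits CategoryTheory.Pretriangulated DerivedCategory
open TensorProduct MonoidalCategory

attribute [local instance] HasDerivedCategory.standard

namespace Groth.Agent.Lib.Helper18.DR

/-! ## Additive functors and K-projective complexes -/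

section additive

variable {A B : Type u} [CommRing A] [CommRing B]

/-- an additive functor preserves quasi-isomorphisms between K-projective complexes -/
lemma isIso_Q_map_mapHC_of_isKProjective (Φ : ModuleCat.{u} A ⥤ ModuleCat.{u} B) [Φ.Additive]
    {E G : DRing.Cx A} [E.IsKProjective] [G.IsKProjective] (f : E ⟶ G)
    (hf : IsIso (DerivedCategory.Q.map f)) :
    IsIso (DerivedCategory.Q.map ((Φ.mapHomologicalComplex (ComplexShape.up ℤ)).map f)) := by
  obtain ⟨g, hg⟩ := exists_map_eq G E (inv (DerivedCategory.Q.map f))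
  obtain ⟨h1⟩ := nonempty_homotopy_of_map_eq E E (f ≫ g) (𝟙 E)
    (by rw [Functor.map_comp, hg, IsIso.hom_inv_id, CategoryTheory.Functor.map_id])
  obtain ⟨h2⟩ := nonempty_homotopy_of_map_eq G G (g ≫ f) (𝟙 G)
    (by rw [Functor.map_comp, hg, IsIso.inv_hom_id, CategoryTheory.Functor.map_id])
  have e1 := Q_map_eq_of_homotopy (Φ.mapHomotopy h1)
  have e2 := Q_map_eq_of_homotopy (Φ.mapHomotopy h2)
  refine ⟨⟨DerivedCategory.Q.map ((Φ.mapHomologicalComplex _).map g), ?_, ?_⟩⟩
  · rw [← Functor.map_comp, ← Functor.map_comp, e1, CategoryTheory.Functor.map_id,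
      CategoryTheory.Functor.map_id]
  · rw [← Functor.map_comp, ← Functor.map_comp, e2, CategoryTheory.Functor.map_id,
      CategoryTheory.Functor.map_id]

/-- `TensorLike.isZero_H_of_hasTorAmplitudeIn` for (possibly unbounded) K-projective complexes -/
theorem TensorLike.isZero_H_of_hasTorAmplitudeIn_kproj
    {Φ : ModuleCat.{u} A ⥤ ModuleCat.{u} B} {N : Type u} [AddCommGroup N] [Module A N]
    (t : TensorLike Φ N) [Φ.Additive] (G : DRing.Cx A) [G.IsKProjective] (a b : ℤ)
    (hTA : DRing.HasTorAmplitudeIn A a b (DRing.toD G)) (j : ℤ) (hj : j < a ∨ b < j) :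
    IsZero ((H B j).obj (DRing.toD ((Φ.mapHomologicalComplex (ComplexShape.up ℤ)).obj G))) := by
  haveI : (DRing.toD G).IsLE b := isLE_of_hasTorAmplitudeIn hTA
  obtain ⟨E, hEb, hEfree, ⟨eE⟩⟩ := exists_free_resolution (DRing.toD G) b
  have hEproj : ∀ i, Module.Projective A (E.X i) := fun i => by
    haveI := hEfree i; exact Module.Projective.of_free
  haveI : E.IsKProjective := isKProjective_of_vanishesAbove E b hEb hEproj
  obtain ⟨f, hf⟩ := exists_map_eq E G eE.hom
  have hiso : IsIso (DerivedCategory.Q.map f) := by rw [hf]; infer_instance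
  haveI := isIso_Q_map_mapHC_of_isKProjective Φ f hiso
  have h1 := t.isZero_H_of_hasTorAmplitudeIn E b hEb hEproj a b
    (hasTorAmplitudeIn_of_iso eE.symm hTA) j hj
  exact h1.of_iso ((H B j).mapIso (asIso (DerivedCategory.Q.map
    ((Φ.mapHomologicalComplex (ComplexShape.up ℤ)).map f))).symm)

/-- extension of scalars preserves K-projective complexes -/
theorem isKProjective_extendScalars (φ : A →+* B) (P : DRing.Cx A) [P.IsKProjective] :
    CochainComplex.IsKProjective (((ModuleCat.extendScalars.{u, u, u} φ).mapHomologicalComplex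
      (ComplexShape.up ℤ)).obj P) := by
  let adj := ModuleCat.extendRestrictScalarsAdj.{u, u, u} φ
  have hadd : ∀ {X : ModuleCat.{u} A} {Y : ModuleCat.{u} B}
      (s t : (ModuleCat.extendScalars.{u, u, u} φ).obj X ⟶ Y),
      adj.homEquiv X Y (s + t) = adj.homEquiv X Y s + adj.homEquiv X Y t := by
    intro X Y s t
    rw [Adjunction.homEquiv_unit, Adjunction.homEquiv_unit, Adjunction.homEquiv_unit,
      Functor.map_add, Preadditive.comp_add]
  refine ⟨fun {L} f hL => ?_⟩
  let f' : P ⟶ ((ModuleCat.restrictScalars.{u} φ).mapHomologicalComplex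
      (ComplexShape.up ℤ)).obj L :=
    { f := fun i => adj.homEquiv _ _ (f.f i)
      comm' := fun i k _ => by
        change adj.homEquiv _ _ (f.f i) ≫ (ModuleCat.restrictScalars.{u} φ).map (L.d i k) =
          P.d i k ≫ adj.homEquiv _ _ (f.f k)
        rw [← Adjunction.homEquiv_naturality_right, ← Adjunction.homEquiv_naturality_left]
        congr 1
        exact f.comm i k }
  have hL' : (((ModuleCat.restrictScalars.{u} φ).mapHomologicalComplex
      (ComplexShape.up ℤ)).obj L).Acyclic := by
    intro i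
    rw [exactAt_iff_function_exact _ (i - 1) i (i + 1) (by omega) rfl]
    have h1 := (exactAt_iff_function_exact L (i - 1) i (i + 1) (by omega) rfl).mp (hL i)
    exact h1
  obtain ⟨h⟩ := CochainComplex.IsKProjective.nonempty_homotopy_zero f' hL'
  have hz : ∀ (X : ModuleCat.{u} A) (Y : ModuleCat.{u} B)
      (g : X ⟶ (ModuleCat.restrictScalars.{u} φ).obj Y), g = 0 →
      (adj.homEquiv X Y).symm g = 0 := by
    intro X Y g hg
    subst hg
    apply (adj.homEquiv X Y).injective
    rw [Equiv.apply_symm_apply, Adjunction.homEquiv_unit, Functor.map_zero, comp_zero]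
  have hcomm : ∀ (X X' : ModuleCat.{u} A) (Y Y' : ModuleCat.{u} B) (dX : X ⟶ X') (dY : Y' ⟶ Y)
      (s : (ModuleCat.extendScalars.{u, u, u} φ).obj X ⟶ Y)
      (a : X' ⟶ (ModuleCat.restrictScalars.{u} φ).obj Y)
      (b : X ⟶ (ModuleCat.restrictScalars.{u} φ).obj Y'),
      adj.homEquiv X Y s = dX ≫ a + b ≫ (ModuleCat.restrictScalars.{u} φ).map dY →
      s = (ModuleCat.extendScalars.{u, u, u} φ).map dX ≫ (adj.homEquiv X' Y).symm a +
        (adj.homEquiv X Y').symm b ≫ dY := by
    intro X X' Y Y' dX dY s a b hs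
    apply (adj.homEquiv X Y).injective
    rw [hs, hadd, Adjunction.homEquiv_naturality_left, Adjunction.homEquiv_naturality_right,
      Equiv.apply_symm_apply, Equiv.apply_symm_apply]
  refine ⟨{ hom := fun i k => (adj.homEquiv _ _).symm (h.hom i k), zero := ?_, comm := ?_ }⟩
  · intro i k hik
    exact hz _ _ _ (h.zero i k hik)
  · intro i
    have hc := h.comm i
    rw [dNext_eq _ (show (ComplexShape.up ℤ).Rel i (i + 1) from rfl),
      prevD_eq _ (show (ComplexShape.up ℤ).Rel (i - 1) i by simp),
      HomologicalComplex.zero_f, add_zero] at hc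
    rw [dNext_eq _ (show (ComplexShape.up ℤ).Rel i (i + 1) from rfl),
      prevD_eq _ (show (ComplexShape.up ℤ).Rel (i - 1) i by simp),
      HomologicalComplex.zero_f, add_zero]
    exact hcomm _ _ _ _ (P.d i (i + 1)) (L.d (i - 1) i) (f.f i) (h.hom (i + 1) i)
      (h.hom i (i - 1)) hc

end additive

/-! ## Algebra -/

section alg

variable {R : Type u} [CommRing R]

lemma rTensor_lTensor_comm {M M' X Y : Type u} [AddCommGroup M] [Module R M] [AddCommGroup M']
    [Module R M'] [AddCommGroup X] [Module R X] [AddCommGroup Y] [Module R Y]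
    (v : M →ₗ[R] M') (d : X →ₗ[R] Y) (z : M ⊗[R] X) :
    (v.rTensor Y) ((d.lTensor M) z) = (d.lTensor M') ((v.rTensor X) z) := by
  rw [← LinearMap.comp_apply, ← LinearMap.comp_apply, LinearMap.rTensor_comp_lTensor,
    LinearMap.lTensor_comp_rTensor]

/-- the functor `M ↦ H(M ⊗ (X → Y → Z))` is half exact when `Z` is flat -/
lemma exact_lTensor_middle {M₁ M₂ M₃ X Y Z : Type u} [AddCommGroup M₁] [Module R M₁]
    [AddCommGroup M₂] [Module R M₂] [AddCommGroup M₃] [Module R M₃] [AddCommGroup X] [Module R X]
    [AddCommGroup Y] [Module R Y] [AddCommGroup Z] [Module R Z]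
    (s : M₁ →ₗ[R] M₂) (v : M₂ →ₗ[R] M₃) (hs : Function.Injective s) (hsv : Function.Exact s v)
    (hv : Function.Surjective v) (d : X →ₗ[R] Y) (d' : Y →ₗ[R] Z) (hdd : d' ∘ₗ d = 0)
    [Module.Flat R Z]
    (h₁ : Function.Exact (d.lTensor M₁) (d'.lTensor M₁))
    (h₃ : Function.Exact (d.lTensor M₃) (d'.lTensor M₃)) :
    Function.Exact (d.lTensor M₂) (d'.lTensor M₂) := by
  intro x
  constructor
  · intro hx
    have hx3 : (d'.lTensor M₃) ((v.rTensor Y) x) = 0 := by
      rw [← rTensor_lTensor_comm, hx, map_zero]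
    obtain ⟨y', hy'⟩ := (h₃ _).mp hx3
    obtain ⟨y, rfl⟩ := LinearMap.rTensor_surjective X hv y'
    have h4 : (v.rTensor Y) (x - (d.lTensor M₂) y) = 0 := by
      rw [map_sub, rTensor_lTensor_comm, hy', sub_self]
    obtain ⟨w, hw⟩ := (rTensor_exact Y hsv hv _).mp h4
    have h5 : (s.rTensor Z) ((d'.lTensor M₁) w) = 0 := by
      rw [rTensor_lTensor_comm, hw, map_sub, hx, ← LinearMap.comp_apply, ← LinearMap.lTensor_comp,
        hdd, LinearMap.lTensor_zero, LinearMap.zero_apply, sub_zero]
    have h6 : (d'.lTensor M₁) w = 0 :=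
      (Module.Flat.rTensor_preserves_injective_linearMap s hs) (by rw [h5, map_zero])
    obtain ⟨w', hw'⟩ := (h₁ _).mp h6
    refine ⟨y + (s.rTensor X) w', ?_⟩
    rw [map_add, ← rTensor_lTensor_comm, hw', hw]
    abel
  · rintro ⟨y, rfl⟩
    rw [← LinearMap.comp_apply, ← LinearMap.lTensor_comp, hdd, LinearMap.lTensor_zero,
      LinearMap.zero_apply]

lemma exact_of_exact_lTensor_self {X Y Z : Type u} [AddCommGroup X] [Module R X]
    [AddCommGroup Y] [Module R Y] [AddCommGroup Z] [Module R Z] (d : X →ₗ[R] Y) (d' : Y →ₗ[R] Z)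
    (h : Function.Exact (d.lTensor R) (d'.lTensor R)) : Function.Exact d d' :=
  exact_of_ladder' (TensorProduct.lid R X).symm.toAddEquiv (TensorProduct.lid R Y).symm.toAddEquiv
    (TensorProduct.lid R Z).symm.toAddEquiv (fun x => by simp) (fun x => by simp) h

lemma exact_lTensor_of_subsingleton {M X Y Z : Type u} [AddCommGroup M] [Module R M]
    [Subsingleton M] [AddCommGroup X] [Module R X] [AddCommGroup Y] [Module R Y] [AddCommGroup Z]
    [Module R Z] (d : X →ₗ[R] Y) (d' : Y →ₗ[R] Z) :
    Function.Exact (d.lTensor M) (d'.lTensor M) := by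
  have h0 : ∀ (W : Type u) [AddCommGroup W] [Module R W] (z : M ⊗[R] W), z = 0 := by
    intro W _ _ z
    induction z using TensorProduct.induction_on with
    | zero => rfl
    | tmul m w => rw [Subsingleton.elim m 0, TensorProduct.zero_tmul]
    | add x y hx hy => rw [hx, hy, add_zero]
  intro y
  constructor
  · intro _
    exact ⟨0, by rw [map_zero, h0 Y y]⟩
  · intro _
    exact h0 Z _

end alg

section ext

variable {R S : Type u} [CommRing R] [CommRing S] [Algebra R S] (N : Type u) [AddCommGroup N]
  [Module S N] [Module R N] [IsScalarTower R S N]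

lemma cancelBaseChange_naturality_mod {M M' : Type u} [AddCommGroup M] [Module R M]
    [AddCommGroup M'] [Module R M'] (f : M →ₗ[R] M') (z : N ⊗[S] (S ⊗[R] M)) :
    AlgebraTensorModule.cancelBaseChange R S S N M' (((f.baseChange S).lTensor N) z) =
      (f.lTensor N) (AlgebraTensorModule.cancelBaseChange R S S N M z) := by
  induction z using TensorProduct.induction_on with
  | zero => simp
  | add x y hx hy => simp only [map_add, hx, hy]
  | tmul k y =>
    induction y using TensorProduct.induction_on with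
    | zero => simp
    | add x y hx hy => simp only [tmul_add, map_add, hx, hy]
    | tmul s x => simp

/-- exactness of `N ⊗_S (S ⊗_R -)` gives exactness of `N ⊗_R -` -/
lemma lTensor_exact_of_extM_module {M₀ M₁ M₂ : ModuleCat.{u} R} (f : M₀ ⟶ M₁) (g : M₁ ⟶ M₂)
    (h : Function.Exact (((extM (A := R) (B := S)).map f).hom.lTensor N)
      (((extM (A := R) (B := S)).map g).hom.lTensor N)) :
    Function.Exact (f.hom.lTensor N) (g.hom.lTensor N) := by
  have hnat : ∀ {M M' : ModuleCat.{u} R} (f : M ⟶ M'),
      ((extMEquiv (B := S) M' : _ ≃ₗ[S] _) : _ →ₗ[S] _) ∘ₗ ((extM (A := R) (B := S)).map f).hom =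
        (f.hom.baseChange S) ∘ₗ ((extMEquiv (B := S) M : _ ≃ₗ[S] _) : _ →ₗ[S] _) := by
    intro M M' f
    apply LinearMap.ext
    intro x
    exact extMEquiv_naturality f x
  have step1 : ∀ {M M' : ModuleCat.{u} R} (f : M ⟶ M')
      (z : N ⊗[S] ((extM (A := R) (B := S)).obj M)),
      (LinearEquiv.lTensor N (extMEquiv (B := S) M'))
        ((((extM (A := R) (B := S)).map f).hom.lTensor N) z) =
      ((f.hom.baseChange S).lTensor N) ((LinearEquiv.lTensor N (extMEquiv (B := S) M)) z) := by
    intro M M' f z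
    have h1 := LinearMap.congr_fun (congrArg (LinearMap.lTensor N) (hnat f)) z
    rw [LinearMap.lTensor_comp, LinearMap.lTensor_comp] at h1
    exact h1
  let E : ∀ M : ModuleCat.{u} R, N ⊗[S] ((extM (A := R) (B := S)).obj M) ≃+ N ⊗[R] M :=
    fun M => (LinearEquiv.lTensor N (extMEquiv (B := S) M)).toAddEquiv.trans
      (AlgebraTensorModule.cancelBaseChange R S S N M).toAddEquiv
  have hE : ∀ {M M' : ModuleCat.{u} R} (f : M ⟶ M')
      (z : N ⊗[S] ((extM (A := R) (B := S)).obj M)),
      E M' ((((extM (A := R) (B := S)).map f).hom.lTensor N) z) = (f.hom.lTensor N) (E M z) := by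
    intro M M' f z
    change AlgebraTensorModule.cancelBaseChange R S S N M'
      ((LinearEquiv.lTensor N (extMEquiv (B := S) M'))
        ((((extM (A := R) (B := S)).map f).hom.lTensor N) z)) = _
    rw [step1, cancelBaseChange_naturality_mod]
    rfl
  exact exact_of_ladder' (E M₀).symm (E M₁).symm (E M₂).symm
    (fun x => by
      apply (E M₁).injective
      rw [AddEquiv.apply_symm_apply, hE, AddEquiv.apply_symm_apply])
    (fun x => by
      apply (E M₂).injective
      rw [AddEquiv.apply_symm_apply, hE, AddEquiv.apply_symm_apply]) h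

end ext

section ses

variable {A B : Type u} [CommRing A] [CommRing B] [Algebra A B]
  (hsurj : Function.Surjective (algebraMap A B)) (M : Type u) [AddCommGroup M] [Module A M]

include hsurj

lemma mk_one_surjective : Function.Surjective (TensorProduct.mk A B M 1) := by
  intro z
  induction z using TensorProduct.induction_on with
  | zero => exact ⟨0, map_zero _⟩
  | tmul b m =>
    obtain ⟨a, rfl⟩ := hsurj b
    refine ⟨a • m, ?_⟩
    rw [TensorProduct.mk_apply, TensorProduct.tmul_smul, TensorProduct.smul_tmul', Algebra.smul_def,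
      mul_one]
  | add x y hx hy =>
    obtain ⟨x', rfl⟩ := hx
    obtain ⟨y', rfl⟩ := hy
    exact ⟨x' + y', map_add _ _ _⟩

lemma mk_one_eq_zero_iff (m : M) :
    (1 : B) ⊗ₜ[A] m = 0 ↔ m ∈ (RingHom.ker (algebraMap A B)) • (⊤ : Submodule A M) := by
  constructor
  · intro hm
    have hex : Function.Exact (RingHom.ker (algebraMap A B)).subtype (Algebra.linearMap A B) := by
      intro a
      rw [Algebra.linearMap_apply]
      constructor
      · intro ha
        exact ⟨⟨a, (RingHom.mem_ker).mpr ha⟩, rfl⟩
      · rintro ⟨x, rfl⟩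
        exact (RingHom.mem_ker).mp x.2
    have hsurj' : Function.Surjective (Algebra.linearMap A B) := hsurj
    have h1 : ((Algebra.linearMap A B).rTensor M) ((1 : A) ⊗ₜ[A] m) = 0 := by
      rw [LinearMap.rTensor_tmul, Algebra.linearMap_apply, map_one, hm]
    obtain ⟨t, ht⟩ := (rTensor_exact M hex hsurj' _).mp h1
    have h2 : ((TensorProduct.lid A M).comp ((RingHom.ker (algebraMap A B)).subtype.rTensor M)) t
        = m := by
      rw [LinearMap.comp_apply, ht]
      simp
    rw [← Ideal.subtype_rTensor_range, ← h2]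
    exact ⟨t, rfl⟩
  · intro hm
    refine Submodule.smul_induction_on hm (fun a ha m _ => ?_) (fun x y hx hy => ?_)
    · rw [TensorProduct.tmul_smul, TensorProduct.smul_tmul', Algebra.smul_def, mul_one,
        (RingHom.mem_ker).mp ha, TensorProduct.zero_tmul]
    · rw [TensorProduct.tmul_add, hx, hy, add_zero]

lemma exact_subtype_mk_one :
    Function.Exact ((RingHom.ker (algebraMap A B)) • (⊤ : Submodule A M)).subtype
      (TensorProduct.mk A B M 1) := by
  intro m
  rw [TensorProduct.mk_apply, mk_one_eq_zero_iff hsurj M m]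
  constructor
  · intro hm
    exact ⟨⟨m, hm⟩, rfl⟩
  · rintro ⟨x, rfl⟩
    exact x.2

end ses

section dev

variable {A B : Type u} [CommRing A] [CommRing B] [Algebra A B]

/-- dévissage along a surjection with nilpotent kernel -/
theorem exact_lTensor_of_nilpotent_ker (hsurj : Function.Surjective (algebraMap A B))
    (hnil : IsNilpotent (RingHom.ker (algebraMap A B)))
    {X Y Z : Type u} [AddCommGroup X] [Module A X] [AddCommGroup Y] [Module A Y] [AddCommGroup Z]
    [Module A Z] (d : X →ₗ[A] Y) (d' : Y →ₗ[A] Z) (hdd : d' ∘ₗ d = 0) [Module.Flat A Z]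
    (h : ∀ (N : Type u) [AddCommGroup N] [Module B N] [Module A N] [IsScalarTower A B N],
      Function.Exact (d.lTensor N) (d'.lTensor N))
    (M : Type u) [AddCommGroup M] [Module A M] :
    Function.Exact (d.lTensor M) (d'.lTensor M) := by
  obtain ⟨n, hn⟩ := hnil
  have key : ∀ (k : ℕ) (M : Type u) [AddCommGroup M] [Module A M],
      (RingHom.ker (algebraMap A B)) ^ k • (⊤ : Submodule A M) = ⊥ →
      Function.Exact (d.lTensor M) (d'.lTensor M) := by
    intro k
    induction k with
    | zero =>
      intro M _ _ hM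
      rw [pow_zero, Ideal.one_eq_top, Submodule.top_smul] at hM
      haveI : Subsingleton M := by
        refine ⟨fun x y => ?_⟩
        have hx : x ∈ (⊤ : Submodule A M) := Submodule.mem_top
        have hy : y ∈ (⊤ : Submodule A M) := Submodule.mem_top
        rw [hM, Submodule.mem_bot] at hx hy
        rw [hx, hy]
      exact exact_lTensor_of_subsingleton d d'
    | succ k ih =>
      intro M _ _ hM
      have hM' : (RingHom.ker (algebraMap A B)) ^ k •
          (⊤ : Submodule A ↥((RingHom.ker (algebraMap A B)) • (⊤ : Submodule A M))) = ⊥ := by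
        rw [eq_bot_iff]
        refine Submodule.smul_le.mpr fun a ha m' _ => ?_
        rw [Submodule.mem_bot]
        apply Subtype.ext
        have h1 : a • (m' : M) ∈ (RingHom.ker (algebraMap A B)) ^ k •
            ((RingHom.ker (algebraMap A B)) • (⊤ : Submodule A M)) :=
          Submodule.smul_mem_smul ha m'.2
        rw [← Submodule.smul_assoc, Ideal.smul_eq_mul, ← pow_succ, hM, Submodule.mem_bot] at h1
        exact h1
      exact exact_lTensor_middle _ _ (Submodule.subtype_injective _)
        (exact_subtype_mk_one hsurj M) (mk_one_surjective hsurj M) d d' hdd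
        (ih _ hM') (h (B ⊗[A] M))
  refine key n M ?_
  rw [hn, Ideal.zero_eq_bot, Submodule.bot_smul]

end dev

/-! ## Tor amplitude from exactness of tensor products -/

section crit

variable {R : Type u} [CommRing R]

theorem hasTorAmplitudeIn_of_exact_lTensor (G : DRing.Cx R) (a b : ℤ)
    (hGb : DRing.VanishesAbove G b) (hGflat : DRing.TermwiseFlat G)
    (h : ∀ (M : Type u) [AddCommGroup M] [Module R M] (i j k : ℤ), i + 1 = j → j + 1 = k →
      (j < a ∨ b < j) → Function.Exact ((G.d i j).hom.lTensor M) ((G.d j k).hom.lTensor M)) :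
    DRing.HasTorAmplitudeIn R a b (DRing.toD G) := by
  have hH : ∀ i : ℤ, (i < a ∨ b < i) → IsZero ((H R i).obj (DRing.toD G)) := fun i hi => by
    rw [isZero_H_toD_iff G (i - 1) i (i + 1) (by omega) rfl]
    exact exact_of_exact_lTensor_self _ _ (h R (i - 1) i (i + 1) (by omega) rfl hi)
  refine hasTorAmplitudeIn_of_flat_cok G b a b (a - 1) (by omega) hGb hGflat
    (fun i hi => hH i (Or.inl hi)) (fun i hi => hH i (Or.inr hi)) ?_
  haveI := hGflat a
  apply flat_quotient_of_inf_smul_le
  intro I
  refine inf_smul_le_of_exact (G.d (a - 1 - 1) (a - 1)).hom (G.d (a - 1) a).hom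
    (by rw [← ModuleCat.hom_comp, G.d_comp_d]; rfl) I ?_
  exact h (R ⧸ I) (a - 1 - 1) (a - 1) a (by omega) (by omega) (Or.inl (by omega))

end crit

/-! ## Tor amplitude and nilpotent thickenings -/

/-- S6952, the nontrivial direction -/
theorem hasTorAmplitudeIn_of_LBaseChange_nilpotent {R' R : Type u} [CommRing R'] [CommRing R]
    (φ : R' →+* R) (hφ : Function.Surjective φ) (hnil : IsNilpotent (RingHom.ker φ))
    [DRing.HasLBaseChange φ] (K' : Dual.D R') (a b : ℤ)
    (h : DRing.HasTorAmplitudeIn R a b ((DRing.LBaseChange φ).obj K')) :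
    DRing.HasTorAmplitudeIn R' a b K' := by
  letI : Algebra R' R := φ.toAlgebra
  obtain ⟨P, hPK, hPproj, ⟨eP⟩⟩ := exists_kprojective_resolution K'
  haveI := hPK
  haveI hPRK : CochainComplex.IsKProjective (((extM (A := R') (B := R)).mapHomologicalComplex
      (ComplexShape.up ℤ)).obj P) := isKProjective_extendScalars φ P
  have hTA : DRing.HasTorAmplitudeIn R a b (DRing.toD
      (((extM (A := R') (B := R)).mapHomologicalComplex (ComplexShape.up ℤ)).obj P)) :=
    hasTorAmplitudeIn_of_iso ((DRing.LBaseChange φ).mapIso eP.symm ≪≫ LBaseChangeIso φ P) h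
  have hN : ∀ (i j k : ℤ), i + 1 = j → j + 1 = k → (j < a ∨ b < j) →
      ∀ (N : Type u) [AddCommGroup N] [Module R N] [Module R' N] [IsScalarTower R' R N],
      Function.Exact ((P.d i j).hom.lTensor N) ((P.d j k).hom.lTensor N) := by
    intro i j k hij hjk hj N _ _ _ _
    apply lTensor_exact_of_extM_module (S := R) N
    rw [← (tensorLike_tensorRight (ModuleCat.of R N)).exact_iff]
    have h1 := (tensorLike_tensorRight (ModuleCat.of R N)).isZero_H_of_hasTorAmplitudeIn_kproj
      (((extM (A := R') (B := R)).mapHomologicalComplex (ComplexShape.up ℤ)).obj P) a b hTA j hj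
    exact (isZero_H_toD_iff _ i j k hij hjk).mp h1
  have hM : ∀ (M : Type u) [AddCommGroup M] [Module R' M] (i j k : ℤ), i + 1 = j → j + 1 = k →
      (j < a ∨ b < j) →
      Function.Exact ((P.d i j).hom.lTensor M) ((P.d j k).hom.lTensor M) := by
    intro M _ _ i j k hij hjk hj
    haveI : Module.Flat R' (P.X k) := by haveI := hPproj k; infer_instance
    exact exact_lTensor_of_nilpotent_ker hφ hnil (P.d i j).hom (P.d j k).hom
      (d_comp_d_hom P i j k) (fun N _ _ _ _ => hN i j k hij hjk hj N) M
  have hH : ∀ j : ℤ, (j < a ∨ b < j) → IsZero ((H R' j).obj (DRing.toD P)) := fun j hj => by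
    rw [isZero_H_toD_iff P (j - 1) j (j + 1) (by omega) rfl]
    exact exact_of_exact_lTensor_self _ _ (hM R' (j - 1) j (j + 1) (by omega) rfl hj)
  haveI : (DRing.toD P).IsLE b := by
    rw [DerivedCategory.isLE_iff]; intro i hi; exact hH i (Or.inr hi)
  obtain ⟨G, hGb, hGfree, ⟨eG⟩⟩ := exists_free_resolution (DRing.toD P) b
  have hGproj : ∀ i, Module.Projective R' (G.X i) := fun i => by
    haveI := hGfree i; exact Module.Projective.of_free
  have hGflat : DRing.TermwiseFlat G := fun i => by haveI := hGproj i; infer_instance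
  haveI : G.IsKProjective := isKProjective_of_vanishesAbove G b hGb hGproj
  obtain ⟨f, hf⟩ := exists_map_eq G P eG.hom
  have hiso : IsIso (DerivedCategory.Q.map f) := by rw [hf]; infer_instance
  refine hasTorAmplitudeIn_of_iso (eG ≪≫ eP)
    (hasTorAmplitudeIn_of_exact_lTensor G a b hGb hGflat ?_)
  intro M _ _ i j k hij hjk hj
  haveI := isIso_Q_map_mapHC_of_isKProjective (tensorRight (ModuleCat.of R' M)) f hiso
  have h1 : IsZero ((H R' j).obj (DRing.toD (((tensorRight (ModuleCat.of R' M)).mapHomologicalComplex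
      (ComplexShape.up ℤ)).obj P))) :=
    (isZero_H_toD_iff _ i j k hij hjk).mpr
      (((tensorLike_tensorRight (ModuleCat.of R' M)).exact_iff _ _).mpr (hM M i j k hij hjk hj))
  have h2 : IsZero ((H R' j).obj (DRing.toD (((tensorRight (ModuleCat.of R' M)).mapHomologicalComplex
      (ComplexShape.up ℤ)).obj G))) :=
    h1.of_iso ((H R' j).mapIso (asIso (DerivedCategory.Q.map
      (((tensorRight (ModuleCat.of R' M)).mapHomologicalComplex (ComplexShape.up ℤ)).map f))))
  exact ((tensorLike_tensorRight (ModuleCat.of R' M)).exact_iff _ _).mp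
    ((isZero_H_toD_iff _ i j k hij hjk).mp h2)

end Groth.Agent.Lib.Helper18.DR
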