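import Mathlib
import Groth.Agent.Lib.Helper18.Kan

/-!
# The counit of a right Kan extension along a localization at "cofibrant" objects, II (helper18)

Variant of `Kan.isIso_counit_app` where `L` is only *surjective* on maps out of `P`, and `F`
identifies maps out of `P` having the same image under `L` (e.g. `P` a (tuple of) K-projective
complexes in the category of complexes, `L` the localization to the derived category, and `F` a
functor which is invariant under homotopy).
-/

set_option autoImplicit false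
universe v₁ v₂ v₃ u₁ u₂ u₃
open CategoryTheory CategoryTheory.Limits

namespace Groth.Agent.Lib.Helper18.Kan2

open Groth.Agent.Lib.Helper18.Kan

variable {C : Type u₁} {D : Type u₂} {H : Type u₃} [Category.{v₁} C] [Category.{v₂} D]
  [Category.{v₃} H]

section copower

variable (L : C ⥤ D) (P : C)

/-- maps out of `P` with the same image under `L` -/
def Rel (c : C) (f g : P ⟶ c) : Prop := L.map f = L.map g

/-- maps out of `P` modulo having the same image under `L` -/
def J (c : C) : Type v₁ := Quot (Rel L P c)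

variable {L P}

/-- the class of a map -/
def Jmk {c : C} (f : P ⟶ c) : J L P c := Quot.mk _ f

lemma J_ind {c : C} {motive : J L P c → Prop} (h : ∀ f : P ⟶ c, motive (Jmk f))
    (x : J L P c) : motive x := Quot.ind h x

lemma Jmk_eq {c : C} {f g : P ⟶ c} (h : L.map f = L.map g) : (Jmk f : J L P c) = Jmk g :=
  Quot.sound h

/-- functoriality -/
def Jmap {c c' : C} (f : c ⟶ c') : J L P c → J L P c' :=
  Quot.map (fun x => x ≫ f) (fun x y (hxy : L.map x = L.map y) => by
    change L.map (x ≫ f) = L.map (y ≫ f)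
    rw [L.map_comp, L.map_comp, hxy])

@[simp] lemma Jmap_mk {c c' : C} (f : c ⟶ c') (x : P ⟶ c) :
    Jmap f (Jmk x : J L P c) = Jmk (x ≫ f) := rfl

/-- the value in `D` -/
def Jval {c : C} : J L P c → (L.obj P ⟶ L.obj c) :=
  Quot.lift (fun f => L.map f) (fun _ _ h => h)

@[simp] lemma Jval_mk {c : C} (x : P ⟶ c) : Jval (Jmk x : J L P c) = L.map x := rfl

lemma Jval_injective {c : C} : Function.Injective (Jval : J L P c → _) := by
  rintro ⟨f⟩ ⟨g⟩ h
  exact Quot.sound h

lemma Jval_map {c c' : C} (f : c ⟶ c') (x : J L P c) : Jval (Jmap f x) = Jval x ≫ L.map f := by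
  induction x using J_ind with | h x => ?_
  exact L.map_comp x f

variable (L P)
variable [∀ J : Type v₁, HasColimitsOfShape (Discrete J) H] (h : H)

/-- the copower functor `c ↦ ∐_{[P ⟶ c]} h` -/
noncomputable def cop : C ⥤ H where
  obj c := ∐ (fun _ : J L P c => h)
  map {c c'} f := Sigma.desc (fun x : J L P c => Sigma.ι (fun _ : J L P c' => h) (Jmap f x))
  map_id c := Sigma.hom_ext _ _ (fun x => by
    induction x using J_ind with | h x => ?_
    rw [Sigma.ι_desc, Category.comp_id, Jmap_mk, Category.comp_id])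
  map_comp {c c' c''} f g := Sigma.hom_ext _ _ (fun x => by
    induction x using J_ind with | h x => ?_
    rw [Sigma.ι_desc, Sigma.ι_desc_assoc, Sigma.ι_desc, Jmap_mk, Jmap_mk, Jmap_mk,
      Category.assoc])

/-- the inclusions of the copower -/
noncomputable def copι {c : C} (x : J L P c) : h ⟶ (cop L P h).obj c :=
  Sigma.ι (fun _ : J L P c => h) x

/-- maps out of the copower -/
noncomputable def copDesc {c : C} {Z : H} (g : J L P c → (h ⟶ Z)) : (cop L P h).obj c ⟶ Z :=
  Sigma.desc g

@[reassoc]
lemma copι_desc {c : C} {Z : H} (g : J L P c → (h ⟶ Z)) (x : J L P c) :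
    copι L P h x ≫ copDesc L P h g = g x :=
  Sigma.ι_desc _ _

lemma cop_hom_ext {c : C} {Z : H} (u v : (cop L P h).obj c ⟶ Z)
    (huv : ∀ x, copι L P h x ≫ u = copι L P h x ≫ v) : u = v :=
  Sigma.hom_ext _ _ (fun x => huv x)

@[reassoc]
lemma copι_map {c c' : C} (x : J L P c) (f : c ⟶ c') :
    copι L P h x ≫ (cop L P h).map f = copι L P h (Jmap f x) :=
  Sigma.ι_desc _ _

/-- a functor identifies maps out of `P` with the same image under `L` -/
def Respects (Φ : C ⥤ H) : Prop :=
  ∀ (c : C) (f g : P ⟶ c), L.map f = L.map g → Φ.map f = Φ.map g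

variable {L P}

/-- the action of a respectful functor on classes of maps -/
def Respects.act {Φ : C ⥤ H} (hΦ : Respects L P Φ) {c : C} (x : J L P c) :
    Φ.obj P ⟶ Φ.obj c :=
  Quot.lift (fun f => Φ.map f) (fun f g hfg => hΦ c f g hfg) x

@[simp] lemma Respects.act_mk {Φ : C ⥤ H} (hΦ : Respects L P Φ) {c : C} (x : P ⟶ c) :
    hΦ.act (Jmk x) = Φ.map x := rfl

lemma Respects.act_map {Φ : C ⥤ H} (hΦ : Respects L P Φ) {c c' : C} (x : J L P c)
    (f : c ⟶ c') : hΦ.act (Jmap f x) = hΦ.act x ≫ Φ.map f := by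
  induction x using J_ind with | h x => ?_
  exact Φ.map_comp x f

lemma respects_comp (R : D ⥤ H) : Respects L P (L ⋙ R) := fun c f g hfg => by
  change R.map (L.map f) = R.map (L.map g)
  rw [hfg]

variable (L P)

/-- Yoneda: maps `h ⟶ Φ P` give natural transformations out of the copower functor -/
noncomputable def yon {Φ : C ⥤ H} (hΦ : Respects L P Φ) (t : h ⟶ Φ.obj P) : cop L P h ⟶ Φ where
  app c := copDesc L P h (fun x => t ≫ hΦ.act x)
  naturality c c' f := cop_hom_ext L P h _ _ (fun x => by
    rw [copι_map_assoc, copι_desc, copι_desc_assoc, Category.assoc, hΦ.act_map])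

lemma copι_yon {Φ : C ⥤ H} (hΦ : Respects L P Φ) (t : h ⟶ Φ.obj P) {c : C} (x : J L P c) :
    copι L P h x ≫ (yon L P h hΦ t).app c = t ≫ hΦ.act x :=
  copι_desc L P h _ x

lemma copι_id_yon {Φ : C ⥤ H} (hΦ : Respects L P Φ) (t : h ⟶ Φ.obj P) :
    copι L P h (Jmk (𝟙 P)) ≫ (yon L P h hΦ t).app P = t := by
  rw [copι_yon, Respects.act_mk, Φ.map_id, Category.comp_id]

lemma yon_eq {Φ : C ⥤ H} (hΦ : Respects L P Φ) (τ : cop L P h ⟶ Φ) :
    τ = yon L P h hΦ (copι L P h (Jmk (𝟙 P)) ≫ τ.app P) := by
  ext c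
  apply cop_hom_ext
  intro x
  induction x using J_ind with | h x => ?_
  rw [copι_yon, Respects.act_mk, Category.assoc, ← τ.naturality x, copι_map_assoc, Jmap_mk,
    Category.id_comp]

lemma cop_inverts (W : MorphismProperty C) [L.IsLocalization W]
    (hs : ∀ c : C, Function.Surjective (fun f : P ⟶ c => L.map f)) :
    W.IsInvertedBy (cop L P h) := by
  intro c c' w hw
  haveI : IsIso (L.map w) := Localization.inverts L W w hw
  have hval : ∀ c : C, Function.Bijective (Jval : J L P c → _) := fun c =>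
    ⟨Jval_injective, fun g => by
      obtain ⟨f, hf⟩ := hs c g
      exact ⟨Jmk f, hf⟩⟩
  have hbij : Function.Bijective (Jmap w : J L P c → J L P c') := by
    have h1 : (Jval : J L P c' → _) ∘ (Jmap w : J L P c → J L P c') =
        (fun g : L.obj P ⟶ L.obj c => g ≫ L.map w) ∘ (Jval : J L P c → _) := by
      funext x
      exact Jval_map w x
    have h2 : Function.Bijective ((fun g : L.obj P ⟶ L.obj c => g ≫ L.map w) ∘
        (Jval : J L P c → _)) :=
      Function.Bijective.comp ⟨fun g g' hg => (cancel_mono (L.map w)).1 hg,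
        fun g => ⟨g ≫ inv (L.map w), by simp⟩⟩ (hval c)
    rw [← h1] at h2
    exact (Function.Bijective.of_comp_iff' (hval c') _).1 h2
  let e := Equiv.ofBijective _ hbij
  have he : ∀ x, e x = Jmap w x := fun _ => rfl
  refine ⟨⟨copDesc L P h (fun y => copι L P h (e.symm y)), ?_, ?_⟩⟩
  · apply cop_hom_ext
    intro x
    rw [copι_map_assoc, copι_desc, Category.comp_id, ← he, e.symm_apply_apply]
  · apply cop_hom_ext
    intro y
    rw [copι_desc_assoc, copι_map, Category.comp_id, ← he, e.apply_symm_apply]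

end copower

/-- the counit of a right Kan extension along a localization is an isomorphism at objects `P`
such that `L` is surjective on maps out of `P` and `F` identifies maps out of `P` with the same
image under `L` -/
theorem isIso_counit_app [∀ J : Type v₁, HasColimitsOfShape (Discrete J) H]
    (L : C ⥤ D) (W : MorphismProperty C) [L.IsLocalization W] {F : C ⥤ H} (R : D ⥤ H)
    (α : L ⋙ R ⟶ F) [R.IsRightKanExtension α] (P : C)
    (hs : ∀ c : C, Function.Surjective (fun f : P ⟶ c => L.map f))
    (hF : ∀ (c : C) (f g : P ⟶ c), L.map f = L.map g → F.map f = F.map g) :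
    IsIso (α.app P) := by
  have hF' : Respects L P F := hF
  have hLR : Respects L P (L ⋙ R) := respects_comp R
  have hsurj : ∀ (h : H) (t : h ⟶ F.obj P), ∃ s : h ⟶ R.obj (L.obj P), s ≫ α.app P = t := by
    intro h t
    obtain ⟨γ₀, hγ₀⟩ := exists_lift L W R α (cop L P h) (cop_inverts L P h W hs)
      (yon L P h hF' t)
    refine ⟨copι L P h (Jmk (𝟙 P)) ≫ γ₀.app P, ?_⟩
    have h1 : γ₀.app P ≫ α.app P = (yon L P h hF' t).app P := by
      rw [← hγ₀]
      rfl
    rw [Category.assoc, h1, copι_id_yon]
  have hinj : ∀ (h : H) (s₁ s₂ : h ⟶ R.obj (L.obj P)), s₁ ≫ α.app P = s₂ ≫ α.app P →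
      s₁ = s₂ := by
    intro h s₁ s₂ hs'
    have key : yon L P h hLR s₁ = yon L P h hLR s₂ := by
      apply lift_unique L W R α (cop L P h) (cop_inverts L P h W hs)
      rw [yon_eq L P h hF' (yon L P h hLR s₁ ≫ α), yon_eq L P h hF' (yon L P h hLR s₂ ≫ α)]
      congr 1
      rw [NatTrans.comp_app, NatTrans.comp_app, ← Category.assoc, ← Category.assoc,
        copι_id_yon, copι_id_yon]
      exact hs'
    have h1 := copι_id_yon L P h hLR s₁
    rw [key, copι_id_yon] at h1
    exact h1.symm
  obtain ⟨s, hs'⟩ := hsurj _ (𝟙 (F.obj P))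
  exact ⟨⟨s, hinj _ _ _ (by rw [Category.assoc, hs', Category.comp_id, Category.id_comp]), hs'⟩⟩

end Groth.Agent.Lib.Helper18.Kan2
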