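import Mathlib

/-!
# Left derived functors computed by resolutions are right Kan extensions (helper18)

Let `L : C ⥤ D` be a localization functor for `W`, and `α : L ⋙ G' ⟶ Φ`.  Assume that every object
`X` of `C` admits a morphism `P ⟶ X` in `W` from an object `P` of a class `PP` such that `L` is
bijective on morphisms out of `P` and `α.app P` is an isomorphism.  Then `(G', α)` is a right Kan
extension of `Φ` along `L`, i.e. `G'` is a total left derived functor of `Φ`.
-/

set_option autoImplicit false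
universe v₁ v₂ v₃ u₁ u₂ u₃
open CategoryTheory CategoryTheory.Limits

namespace Groth.Agent.Lib.Helper18.Kan

variable {C : Type u₁} {D : Type u₂} {E : Type u₃} [Category.{v₁} C] [Category.{v₂} D]
  [Category.{v₃} E]
  (L : C ⥤ D) (W : MorphismProperty C) [L.IsLocalization W]
  {Φ : C ⥤ E} (G' : D ⥤ E) (α : L ⋙ G' ⟶ Φ) (PP : C → Prop)

omit [L.IsLocalization W] in
lemma uniq_aux (H : D ⥤ E) (γ : L ⋙ H ⟶ Φ) (μ : H ⟶ G')
    (hm : ∀ Z, μ.app (L.obj Z) ≫ α.app Z = γ.app Z) (X P : C) (w : P ⟶ X)
    [IsIso (L.map w)] [IsIso (α.app P)] :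
    μ.app (L.obj X) = inv (H.map (L.map w)) ≫ γ.app P ≫ inv (α.app P) ≫ G'.map (L.map w) := by
  have h1 : μ.app (L.obj P) = γ.app P ≫ inv (α.app P) := by
    rw [IsIso.eq_comp_inv]
    exact hm P
  have h2 : H.map (L.map w) ≫ μ.app (L.obj X) = μ.app (L.obj P) ≫ G'.map (L.map w) :=
    μ.naturality (L.map w)
  rw [IsIso.eq_inv_comp, h2, h1, Category.assoc]

theorem isRightKanExtension_of_resolutions
    (hres : ∀ X : C, ∃ (P : C) (w : P ⟶ X), PP P ∧ W w)
    (hbij : ∀ P, PP P → ∀ c : C, Function.Bijective (fun f : P ⟶ c => L.map f))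
    (hα : ∀ P, PP P → IsIso (α.app P)) : G'.IsRightKanExtension α := by
  choose P w hP hw using hres
  haveI : ∀ X, IsIso (L.map (w X)) := fun X => Localization.inverts L W _ (hw X)
  haveI : ∀ X, IsIso (α.app (P X)) := fun X => hα _ (hP X)
  have hlift : ∀ {X Y : C} (f : X ⟶ Y), ∃ g : P X ⟶ P Y, g ≫ w Y = w X ≫ f := by
    intro X Y f
    obtain ⟨g, hg⟩ := (hbij _ (hP X) (P Y)).2 (L.map (w X ≫ f) ≫ inv (L.map (w Y)))
    replace hg : L.map g = L.map (w X ≫ f) ≫ inv (L.map (w Y)) := hg
    refine ⟨g, (hbij _ (hP X) Y).1 ?_⟩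
    change L.map (g ≫ w Y) = L.map (w X ≫ f)
    rw [L.map_comp, hg, Category.assoc, IsIso.inv_hom_id, Category.comp_id]
  -- the candidate transformation
  have key : ∀ (H : D ⥤ E) (γ : L ⋙ H ⟶ Φ),
      ∃ δ : H ⟶ G', (∀ X, δ.app (L.obj X) = inv (H.map (L.map (w X))) ≫ γ.app (P X) ≫
        inv (α.app (P X)) ≫ G'.map (L.map (w X))) := by
    intro H γ
    let δ' : L ⋙ H ⟶ L ⋙ G' :=
      { app := fun X => inv (H.map (L.map (w X))) ≫ γ.app (P X) ≫
          inv (α.app (P X)) ≫ G'.map (L.map (w X))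
        naturality := by
          intro X Y f
          obtain ⟨g, hg⟩ := hlift f
          have h1 : H.map (L.map f) ≫ inv (H.map (L.map (w Y))) =
              inv (H.map (L.map (w X))) ≫ H.map (L.map g) := by
            rw [IsIso.eq_inv_comp, ← Category.assoc, IsIso.comp_inv_eq, ← H.map_comp,
              ← H.map_comp, ← L.map_comp, ← L.map_comp, hg]
          have h2 : H.map (L.map g) ≫ γ.app (P Y) = γ.app (P X) ≫ Φ.map g := γ.naturality g
          have h3 : Φ.map g ≫ inv (α.app (P Y)) = inv (α.app (P X)) ≫ G'.map (L.map g) := by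
            rw [IsIso.eq_inv_comp, ← Category.assoc, IsIso.comp_inv_eq]
            exact (α.naturality g).symm
          have h4 : G'.map (L.map g) ≫ G'.map (L.map (w Y)) =
              G'.map (L.map (w X)) ≫ G'.map (L.map f) := by
            rw [← G'.map_comp, ← G'.map_comp, ← L.map_comp, ← L.map_comp, hg]
          change H.map (L.map f) ≫ (inv (H.map (L.map (w Y))) ≫ γ.app (P Y) ≫
            inv (α.app (P Y)) ≫ G'.map (L.map (w Y))) =
            (inv (H.map (L.map (w X))) ≫ γ.app (P X) ≫ inv (α.app (P X)) ≫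
              G'.map (L.map (w X))) ≫ G'.map (L.map f)
          rw [← Category.assoc, h1, Category.assoc, ← Category.assoc (H.map (L.map g)), h2,
            Category.assoc, ← Category.assoc (Φ.map g), h3, Category.assoc, h4]
          simp only [Category.assoc] }
    refine ⟨Localization.liftNatTrans L W (L ⋙ H) (L ⋙ G') H G' δ', fun X => ?_⟩
    rw [Localization.liftNatTrans_app]
    change 𝟙 _ ≫ δ'.app X ≫ 𝟙 _ = _
    rw [Category.id_comp, Category.comp_id]
  refine ⟨⟨IsTerminal.ofUniqueHom (fun Y => ?_) (fun Y m => ?_)⟩⟩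
  · obtain ⟨δ, hδ⟩ := Classical.indefiniteDescription _ (key Y.left Y.hom)
    refine CostructuredArrow.homMk δ ?_
    ext X
    change δ.app (L.obj X) ≫ α.app X = Y.hom.app X
    rw [hδ X]
    have h1 : G'.map (L.map (w X)) ≫ α.app X = α.app (P X) ≫ Φ.map (w X) := α.naturality (w X)
    have h2 : Y.left.map (L.map (w X)) ≫ Y.hom.app X = Y.hom.app (P X) ≫ Φ.map (w X) :=
      Y.hom.naturality (w X)
    rw [Category.assoc, Category.assoc, Category.assoc, h1, IsIso.inv_hom_id_assoc, ← h2,
      IsIso.inv_hom_id_assoc]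
  · apply CostructuredArrow.hom_ext
    change m.left = (Classical.indefiniteDescription _ (key Y.left Y.hom)).1
    apply Localization.natTrans_ext L W
    intro X
    rw [(Classical.indefiniteDescription _ (key Y.left Y.hom)).2 X]
    exact uniq_aux L G' α Y.left Y.hom m.left
      (fun Z => congr_app (CostructuredArrow.w m) Z) X (P X) (w X)

end Groth.Agent.Lib.Helper18.Kan
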