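import Mathlib
import Groth.Agent.Lib.Helper18.KanRes
import Groth.Agent.Lib.Helper18.KProjC
import Groth.Agent.Lib.Helper18.DRLBC

/-!
# Derived base change is left adjoint to restriction of scalars (helper18)
-/

set_option autoImplicit false
set_option linter.style.haveILetI false
universe u
open CategoryTheory CategoryTheory.Limits CategoryTheory.Pretriangulated DerivedCategory

attribute [local instance] HasDerivedCategory.standard

namespace Groth.Agent.Lib.Helper18.DR

namespace LBCAdj

section general

variable {V W : Type*} [Category V] [Category W] [Preadditive V] [Preadditive W] {ι : Type*}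
  (c : ComplexShape ι) {G : V ⥤ W} {F : W ⥤ V} [G.Additive] [F.Additive] (adj : G ⊣ F)

/-- an adjunction between additive functors induces an adjunction on complexes -/
noncomputable def adjCx : G.mapHomologicalComplex c ⊣ F.mapHomologicalComplex c :=
  Adjunction.mkOfUnitCounit
    { unit :=
        { app := fun K =>
            { f := fun i => adj.unit.app (K.X i)
              comm' := fun i j _ => (adj.unit.naturality (K.d i j)).symm }
          naturality := fun K K' f => by
            ext i
            exact adj.unit.naturality (f.f i) }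
      counit :=
        { app := fun K =>
            { f := fun i => adj.counit.app (K.X i)
              comm' := fun i j _ => (adj.counit.naturality (K.d i j)).symm }
          naturality := fun K K' f => by
            ext i
            exact adj.counit.naturality (f.f i) }
      left_triangle := by
        ext K i
        simp
        exact adj.left_triangle_components (K.X i)
      right_triangle := by
        ext K i
        simp
        exact adj.right_triangle_components (K.X i) }

end general

section main

variable {R A : Type u} [CommRing R] [CommRing A] (φ : R →+* A)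

noncomputable instance catCommSqExt :
    CatCommSq ((ModuleCat.extendScalars.{u, u, u} φ).mapHomologicalComplex (ComplexShape.up ℤ))
      (HomotopyCategory.quotient (ModuleCat.{u} R) (ComplexShape.up ℤ))
      (HomotopyCategory.quotient (ModuleCat.{u} A) (ComplexShape.up ℤ))
      ((ModuleCat.extendScalars.{u, u, u} φ).mapHomotopyCategory (ComplexShape.up ℤ)) :=
  ⟨((ModuleCat.extendScalars.{u, u, u} φ).mapHomotopyCategoryFactors (ComplexShape.up ℤ)).symm⟩

noncomputable instance catCommSqRes :
    CatCommSq ((ModuleCat.restrictScalars.{u} φ).mapHomologicalComplex (ComplexShape.up ℤ))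
      (HomotopyCategory.quotient (ModuleCat.{u} A) (ComplexShape.up ℤ))
      (HomotopyCategory.quotient (ModuleCat.{u} R) (ComplexShape.up ℤ))
      ((ModuleCat.restrictScalars.{u} φ).mapHomotopyCategory (ComplexShape.up ℤ)) :=
  ⟨((ModuleCat.restrictScalars.{u} φ).mapHomotopyCategoryFactors (ComplexShape.up ℤ)).symm⟩

/-- extension ⊣ restriction on homotopy categories -/
noncomputable def adjK :
    (ModuleCat.extendScalars.{u, u, u} φ).mapHomotopyCategory (ComplexShape.up ℤ) ⊣
      (ModuleCat.restrictScalars.{u} φ).mapHomotopyCategory (ComplexShape.up ℤ) :=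
  (adjCx (ComplexShape.up ℤ) (ModuleCat.extendRestrictScalarsAdj.{u, u, u} φ)).localization
    (HomotopyCategory.quotient (ModuleCat.{u} R) (ComplexShape.up ℤ))
    (HomologicalComplex.homotopyEquivalences (ModuleCat.{u} R) (ComplexShape.up ℤ))
    (HomotopyCategory.quotient (ModuleCat.{u} A) (ComplexShape.up ℤ))
    (HomologicalComplex.homotopyEquivalences (ModuleCat.{u} A) (ComplexShape.up ℤ))
    ((ModuleCat.extendScalars.{u, u, u} φ).mapHomotopyCategory (ComplexShape.up ℤ))
    ((ModuleCat.restrictScalars.{u} φ).mapHomotopyCategory (ComplexShape.up ℤ))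

section derived

variable [DRing.HasLBaseChange φ]

/-- the counit of derived base change -/
noncomputable def alphaK :
    DerivedCategory.Qh ⋙ DRing.LBaseChange φ ⟶
      (ModuleCat.extendScalars.{u, u, u} φ).mapHomotopyCategory (ComplexShape.up ℤ) ⋙
        DerivedCategory.Qh :=
  (DRing.baseChangeKh φ).totalLeftDerivedCounit DerivedCategory.Qh
    (HomotopyCategory.quasiIso (ModuleCat.{u} R) (ComplexShape.up ℤ))

/-- restriction of scalars on derived categories is induced from homotopy categories -/
noncomputable def betaK :
    (ModuleCat.restrictScalars.{u} φ).mapHomotopyCategory (ComplexShape.up ℤ) ⋙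
        DerivedCategory.Qh ⟶
      DerivedCategory.Qh ⋙ DRing.restrictD φ :=
  (ModuleCat.restrictScalars.{u} φ).mapDerivedCategoryFactorsh.inv

instance isLeftDerived_alphaK :
    (DRing.LBaseChange φ).IsLeftDerivedFunctor (alphaK φ)
      (HomotopyCategory.quasiIso (ModuleCat.{u} R) (ComplexShape.up ℤ)) := by
  unfold alphaK
  infer_instance

instance isRightDerived_betaK :
    (DRing.restrictD φ).IsRightDerivedFunctor (betaK φ)
      (HomotopyCategory.quasiIso (ModuleCat.{u} A) (ComplexShape.up ℤ)) :=
  Functor.isRightDerivedFunctor_of_inverts _ _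
    (ModuleCat.restrictScalars.{u} φ).mapDerivedCategoryFactorsh

instance isRightDerived_comp :
    (DRing.restrictD φ ⋙ DRing.LBaseChange φ).IsRightDerivedFunctor
      (Functor.whiskerRight (betaK φ) (DRing.LBaseChange φ) ≫ (Functor.associator _ _ _).hom)
      (HomotopyCategory.quasiIso (ModuleCat.{u} A) (ComplexShape.up ℤ)) :=
  Functor.isRightDerivedFunctor_of_inverts _ _
    ((Functor.associator _ _ _).symm ≪≫
      Functor.isoWhiskerRight (ModuleCat.restrictScalars.{u} φ).mapDerivedCategoryFactorsh
        (DRing.LBaseChange φ))

instance isLeftDerived_comp :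
    (DRing.LBaseChange φ ⋙ DRing.restrictD φ).IsLeftDerivedFunctor
      ((Functor.associator _ _ _).inv ≫ Functor.whiskerRight (alphaK φ) (DRing.restrictD φ))
      (HomotopyCategory.quasiIso (ModuleCat.{u} R) (ComplexShape.up ℤ)) := by
  refine ⟨Kan.isRightKanExtension_of_resolutions DerivedCategory.Qh
    (HomotopyCategory.quasiIso (ModuleCat.{u} R) (ComplexShape.up ℤ)) _ _
    (fun X => ∃ P : DRing.Cx R, P.IsKProjective ∧
      X = (HomotopyCategory.quotient (ModuleCat.{u} R) (ComplexShape.up ℤ)).obj P) ?_ ?_ ?_⟩
  · intro X
    obtain ⟨K, rfl⟩ : ∃ K : DRing.Cx R,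
        X = (HomotopyCategory.quotient (ModuleCat.{u} R) (ComplexShape.up ℤ)).obj K :=
      ⟨X.as, rfl⟩
    obtain ⟨P, hPK, -, ⟨e⟩⟩ := exists_kprojective_resolution (DRing.toD K)
    obtain ⟨f, hf⟩ := exists_map_eq P K e.hom
    refine ⟨(HomotopyCategory.quotient _ _).obj P, (HomotopyCategory.quotient _ _).map f,
      ⟨P, hPK, rfl⟩, ?_⟩
    rw [HomotopyCategory.quotient_map_mem_quasiIso_iff, HomologicalComplex.mem_quasiIso_iff,
      ← DerivedCategory.isIso_Q_map_iff_quasiIso, hf]
    infer_instance
  · rintro _ ⟨P, hPK, rfl⟩ c
    exact CochainComplex.IsKProjective.Qh_map_bijective P c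
  · rintro _ ⟨P, hPK, rfl⟩
    haveI := isIso_LBaseChange_counit φ P
    haveI : IsIso ((alphaK φ).app ((HomotopyCategory.quotient _ _).obj P)) := by
      unfold alphaK
      infer_instance
    change IsIso (𝟙 _ ≫ (DRing.restrictD φ).map
      ((alphaK φ).app ((HomotopyCategory.quotient _ _).obj P)))
    infer_instance

/-- derived base change is left adjoint to restriction of scalars -/
noncomputable def adjD : DRing.LBaseChange φ ⊣ DRing.restrictD φ :=
  (adjK φ).derived (HomotopyCategory.quasiIso (ModuleCat.{u} R) (ComplexShape.up ℤ))
    (HomotopyCategory.quasiIso (ModuleCat.{u} A) (ComplexShape.up ℤ)) (alphaK φ) (betaK φ)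

end derived

end main

end LBCAdj

end Groth.Agent.Lib.Helper18.DR
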