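import Mathlib
import Groth.Prelude.Def_DTen4
import Groth.Agent.Lib.Helper18.Kan2
import Groth.Agent.Lib.Helper18.KProjD
import Groth.Agent.Lib.Helper18.DRLBC
import Groth.Agent.Lib.Helper18.LBCAdj

/-!
# The derived tensor products of `Def_DTen*` are computed by K-projective complexes (helper18)

* `isIso_ε_app`: the counit `QP₁ ⊗^L QP₂ ⟶ Q(P₁ ⊗ P₂)` is an isomorphism for K-projective `P₁`, `P₂`.
* `isIso_εMix_app`: same for the mixed derived tensor product.
* `isIso_baseCmp_app`: `(QP) ⊗^L_R A ⟶ Q(P ⊗_R A)` is an isomorphism for K-projective `P`.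
* `isIso_split_app`: `(E ⊗^L_R A) ⊗^L_A N ⟶ E ⊗^L_R N` is an isomorphism.
-/

set_option autoImplicit false
set_option linter.style.haveILetI false
universe u
open CategoryTheory CategoryTheory.Limits MonoidalCategory DerivedCategory

attribute [local instance] HasDerivedCategory.standard

namespace Groth.Agent.Lib.Helper18.DR

namespace DTenA

open DTen

section tensor

variable {A : Type u} [CommRing A]

lemma Q_map_tensorHom_eq {K K' L L' : DRing.Cx A} {f f' : K ⟶ K'} {g g' : L ⟶ L'}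
    (hf : Homotopy f f') (hg : Homotopy g g') :
    (DerivedCategory.Q.map (f ⊗ₘ g) : DerivedCategory.Q.obj (K ⊗ L) ⟶ _) =
      DerivedCategory.Q.map (f' ⊗ₘ g') := by
  have H : Homotopy (f ⊗ₘ g) (f' ⊗ₘ g') :=
    (HomologicalComplex.mapBifunctorMapHomotopy₁ hf g (curriedTensor (ModuleCat.{u} A))
      (ComplexShape.up ℤ)).trans
      (HomologicalComplex.mapBifunctorMapHomotopy₂ f' hg (curriedTensor (ModuleCat.{u} A))
        (ComplexShape.up ℤ))
  exact DerivedCategory.Q_map_eq_of_homotopy _ H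

lemma QQ_map_surjective (P₁ P₂ : DRing.Cx A) [P₁.IsKProjective] [P₂.IsKProjective]
    (c : DRing.Cx A × DRing.Cx A) :
    Function.Surjective (fun f : (P₁, P₂) ⟶ c => (QQ A).map f) := by
  intro g
  obtain ⟨f₁, hf₁⟩ := exists_map_eq P₁ c.1 g.1
  obtain ⟨f₂, hf₂⟩ := exists_map_eq P₂ c.2 g.2
  exact ⟨(f₁, f₂), Prod.ext hf₁ hf₂⟩

lemma tensor₂_map_eq (P₁ P₂ : DRing.Cx A) [P₁.IsKProjective] [P₂.IsKProjective]
    (c : DRing.Cx A × DRing.Cx A) (f g : (P₁, P₂) ⟶ c) (h : (QQ A).map f = (QQ A).map g) :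
    (tensor₂ A).map f = (tensor₂ A).map g := by
  have h1 : DerivedCategory.Q.map f.1 = DerivedCategory.Q.map g.1 := congrArg Prod.fst h
  have h2 : DerivedCategory.Q.map f.2 = DerivedCategory.Q.map g.2 := congrArg Prod.snd h
  obtain ⟨H1⟩ := nonempty_homotopy_of_map_eq P₁ c.1 f.1 g.1 h1
  obtain ⟨H2⟩ := nonempty_homotopy_of_map_eq P₂ c.2 f.2 g.2 h2
  change DerivedCategory.Q.map (f.1 ▷ P₂ ≫ c.1 ◁ f.2) = DerivedCategory.Q.map (g.1 ▷ P₂ ≫ c.1 ◁ g.2)
  rw [← MonoidalCategory.tensorHom_def, ← MonoidalCategory.tensorHom_def]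
  exact Q_map_tensorHom_eq H1 H2

/-- the counit of the derived tensor product is an isomorphism on pairs of K-projective
complexes -/
theorem isIso_ε_app [HasLTen A] (P₁ P₂ : DRing.Cx A) [P₁.IsKProjective] [P₂.IsKProjective] :
    IsIso ((ε A).app (P₁, P₂)) := by
  haveI : (LTen₂ A).IsRightKanExtension (ε A) :=
    (Functor.isLeftDerivedFunctor_iff_isRightKanExtension (LTen₂ A) (ε A) (qis₂ A)).1 inferInstance
  exact Kan2.isIso_counit_app (QQ A) (qis₂ A) (LTen₂ A) (ε A) (P₁, P₂)
    (QQ_map_surjective P₁ P₂) (tensor₂_map_eq P₁ P₂)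

end tensor

section mixed

variable {R A : Type u} [CommRing R] [CommRing A] (φ : R →+* A)

lemma QMix_map_surjective (P : DRing.Cx R) (P' : DRing.Cx A) [P.IsKProjective] [P'.IsKProjective]
    (c : DRing.Cx R × DRing.Cx A) :
    Function.Surjective (fun f : (P, P') ⟶ c => (QMix R A).map f) := by
  intro g
  obtain ⟨f₁, hf₁⟩ := exists_map_eq P c.1 g.1
  obtain ⟨f₂, hf₂⟩ := exists_map_eq P' c.2 g.2
  exact ⟨(f₁, f₂), Prod.ext hf₁ hf₂⟩

lemma mix₂_map_eq (P : DRing.Cx R) (P' : DRing.Cx A) [P.IsKProjective] [P'.IsKProjective]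
    (c : DRing.Cx R × DRing.Cx A) (f g : (P, P') ⟶ c) (h : (QMix R A).map f = (QMix R A).map g) :
    (mix₂ φ).map f = (mix₂ φ).map g := by
  have h1 : DerivedCategory.Q.map f.1 = DerivedCategory.Q.map g.1 := congrArg Prod.fst h
  have h2 : DerivedCategory.Q.map f.2 = DerivedCategory.Q.map g.2 := congrArg Prod.snd h
  obtain ⟨H1⟩ := nonempty_homotopy_of_map_eq P c.1 f.1 g.1 h1
  obtain ⟨H2⟩ := nonempty_homotopy_of_map_eq P' c.2 f.2 g.2 h2
  change DerivedCategory.Q.map ((extCx φ).map f.1 ▷ P' ≫ (extCx φ).obj c.1 ◁ f.2) =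
    DerivedCategory.Q.map ((extCx φ).map g.1 ▷ P' ≫ (extCx φ).obj c.1 ◁ g.2)
  rw [← MonoidalCategory.tensorHom_def, ← MonoidalCategory.tensorHom_def]
  exact Q_map_tensorHom_eq ((ModuleCat.extendScalars.{u, u, u} φ).mapHomotopy H1) H2

/-- the counit of the mixed derived tensor product is an isomorphism on pairs of K-projective
complexes -/
theorem isIso_εMix_app [HasLTenMix φ] (P : DRing.Cx R) (P' : DRing.Cx A) [P.IsKProjective]
    [P'.IsKProjective] : IsIso ((εMix φ).app (P, P')) := by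
  haveI : (LTenMix φ).IsRightKanExtension (εMix φ) :=
    (Functor.isLeftDerivedFunctor_iff_isRightKanExtension (LTenMix φ) (εMix φ) (qisMix R A)).1
      inferInstance
  exact Kan2.isIso_counit_app (QMix R A) (qisMix R A) (LTenMix φ) (εMix φ) (P, P')
    (QMix_map_surjective P P') (mix₂_map_eq φ P P')

/-- the chain-level adjunction between extension and restriction of scalars -/
noncomputable abbrev cxAdj : extCx φ ⊣ resCx φ :=
  LBCAdj.adjCx (ComplexShape.up ℤ) (ModuleCat.extendRestrictScalarsAdj.{u, u, u} φ)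

lemma cxAdj_unit_app (K : DRing.Cx R) : (cxAdj φ).unit.app K = (unitCx φ).app K := rfl

variable [HasLBase φ]

/-- `baseγ` followed by restriction of a map `Q g₀` -/
lemma baseγ_comp_map (K : DRing.Cx R) (N₀ : DRing.Cx A) (g₀ : (extCx φ).obj K ⟶ N₀) :
    (baseγ φ).app K ≫ (DRing.restrictD φ).map (DerivedCategory.Q.map g₀) =
      DerivedCategory.Q.map ((cxAdj φ).homEquiv K N₀ g₀) ≫ (resFactors φ).inv.app N₀ := by
  have hn := (resFactors φ).inv.naturality g₀
  dsimp at hn
  rw [Adjunction.homEquiv_unit, cxAdj_unit_app, Functor.map_comp, Category.assoc, hn]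
  dsimp [baseγ]
  rw [Category.assoc]

lemma baseγ_bijective_Q (P : DRing.Cx R) [P.IsKProjective] (N₀ : DRing.Cx A) :
    Function.Bijective (fun g : DerivedCategory.Q.obj ((extCx φ).obj P) ⟶ DerivedCategory.Q.obj N₀ =>
      (baseγ φ).app P ≫ (DRing.restrictD φ).map g) := by
  haveI : ((extCx φ).obj P).IsKProjective := isKProjective_extendScalars φ P
  constructor
  · intro g g' hgg'
    obtain ⟨g₀, rfl⟩ := exists_map_eq ((extCx φ).obj P) N₀ g
    obtain ⟨g₀', rfl⟩ := exists_map_eq ((extCx φ).obj P) N₀ g'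
    replace hgg' : (baseγ φ).app P ≫ (DRing.restrictD φ).map (DerivedCategory.Q.map g₀) =
      (baseγ φ).app P ≫ (DRing.restrictD φ).map (DerivedCategory.Q.map g₀') := hgg'
    rw [baseγ_comp_map, baseγ_comp_map, cancel_mono] at hgg'
    obtain ⟨H⟩ := nonempty_homotopy_of_map_eq P _ _ _ hgg'
    have e1 : ∀ g : (extCx φ).obj P ⟶ N₀,
        g = (extCx φ).map ((cxAdj φ).homEquiv P N₀ g) ≫ (cxAdj φ).counit.app N₀ := fun g => by
      have := ((cxAdj φ).homEquiv P N₀).symm_apply_apply g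
      rw [Adjunction.homEquiv_counit] at this
      exact this.symm
    have H' : Homotopy g₀ g₀' :=
      (Homotopy.ofEq (e1 g₀)).trans
        ((((ModuleCat.extendScalars.{u, u, u} φ).mapHomotopy H).compRight
          ((cxAdj φ).counit.app N₀)).trans (Homotopy.ofEq (e1 g₀').symm))
    exact DerivedCategory.Q_map_eq_of_homotopy _ H'
  · intro ψ
    obtain ⟨ψ₀, hψ₀⟩ := exists_map_eq P ((resCx φ).obj N₀) (ψ ≫ (resFactors φ).hom.app N₀)
    refine ⟨DerivedCategory.Q.map (((cxAdj φ).homEquiv P N₀).symm ψ₀), ?_⟩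
    change (baseγ φ).app P ≫ (DRing.restrictD φ).map (DerivedCategory.Q.map _) = ψ
    rw [baseγ_comp_map, Equiv.apply_symm_apply, hψ₀, Category.assoc, Iso.hom_inv_id_app]
    exact Category.comp_id ψ

lemma baseγ_bijective (P : DRing.Cx R) [P.IsKProjective] (T : Dual.D A) :
    Function.Bijective (fun g : DerivedCategory.Q.obj ((extCx φ).obj P) ⟶ T =>
      (baseγ φ).app P ≫ (DRing.restrictD φ).map g) := by
  let N₀ : DRing.Cx A := DerivedCategory.Q.objPreimage T
  let e : DerivedCategory.Q.obj N₀ ≅ T := DerivedCategory.Q.objObjPreimageIso T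
  have hb := baseγ_bijective_Q φ P N₀
  have key : ∀ g : DerivedCategory.Q.obj ((extCx φ).obj P) ⟶ T,
      (baseγ φ).app P ≫ (DRing.restrictD φ).map g =
        ((baseγ φ).app P ≫ (DRing.restrictD φ).map (g ≫ e.inv)) ≫
          (DRing.restrictD φ).map e.hom := fun g => by
    rw [Category.assoc, ← Functor.map_comp, Category.assoc, Iso.inv_hom_id, Category.comp_id]
  constructor
  · intro g g' hgg'
    replace hgg' : (baseγ φ).app P ≫ (DRing.restrictD φ).map g =
      (baseγ φ).app P ≫ (DRing.restrictD φ).map g' := hgg'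
    rw [key g, key g', cancel_mono] at hgg'
    have := hb.1 hgg'
    exact (cancel_mono e.inv).1 this
  · intro ψ
    obtain ⟨x', hx'⟩ := hb.2 (ψ ≫ (DRing.restrictD φ).map e.inv)
    replace hx' : (baseγ φ).app P ≫ (DRing.restrictD φ).map x' =
      ψ ≫ (DRing.restrictD φ).map e.inv := hx'
    refine ⟨x' ≫ e.hom, ?_⟩
    change (baseγ φ).app P ≫ (DRing.restrictD φ).map (x' ≫ e.hom) = ψ
    rw [Functor.map_comp, ← Category.assoc, hx', Category.assoc, ← Functor.map_comp,
      Iso.inv_hom_id, CategoryTheory.Functor.map_id, Category.comp_id]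

/-- derived base change is computed termwise on K-projective complexes -/
theorem isIso_baseCmp_app (P : DRing.Cx R) [P.IsKProjective] : IsIso ((baseCmp φ).app P) := by
  apply isIso_of_coyoneda_map_bijective
  intro T
  have hb := baseγ_bijective φ P T
  have key : (fun g : DerivedCategory.Q.obj ((extCx φ).obj P) ⟶ T =>
      (baseγ φ).app P ≫ (DRing.restrictD φ).map g) =
      ((baseAdj φ).homEquiv (DerivedCategory.Q.obj P) T) ∘
        (fun x : DerivedCategory.Q.obj ((extCx φ).obj P) ⟶ T => (baseCmp φ).app P ≫ x) := by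
    funext g
    change _ = (baseAdj φ).homEquiv _ _ ((baseCmp φ).app P ≫ g)
    rw [Adjunction.homEquiv_unit, Functor.map_comp, ← Category.assoc, baseCmp_fac]
  rw [key] at hb
  exact (Function.Bijective.of_comp_iff' ((baseAdj φ).homEquiv _ T).bijective _).1 hb

/-- the comparison `(E ⊗^L_R A) ⊗^L_A N ⟶ E ⊗^L_R N` is an isomorphism -/
theorem isIso_split_app [HasLTen A] [HasLTenMix φ] (E : Dual.D R) (N : Dual.D A) :
    IsIso ((split φ).app (E, N)) := by
  obtain ⟨P, hP, -, ⟨e⟩⟩ := exists_kprojective_resolution E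
  obtain ⟨P', hP', -, ⟨e'⟩⟩ := exists_kprojective_resolution N
  haveI := hP
  haveI := hP'
  have e2 : ((QMix R A).obj (P, P')) ≅ (E, N) := Iso.prod e e'
  rw [← NatTrans.isIso_app_iff_of_iso (split φ) e2]
  have hfac := split_fac φ (P, P')
  haveI := isIso_εMix_app φ P P'
  haveI : IsIso ((splitβ φ).app (P, P')) := by
    haveI := isIso_baseCmp_app φ P
    haveI : ((extCx φ).obj P).IsKProjective := isKProjective_extendScalars φ P
    haveI := isIso_ε_app ((extCx φ).obj P) P'
    change IsIso ((LTen₂ A).map (Prod.mkHom ((baseCmp φ).app P) (𝟙 (DerivedCategory.Q.obj P'))) ≫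
      (ε A).app ((extCx φ).obj P, P'))
    haveI : IsIso (Prod.mkHom ((baseCmp φ).app P) (𝟙 (DerivedCategory.Q.obj P'))) :=
      (isIso_prod_iff _ _).2 ⟨inferInstance, inferInstance⟩
    infer_instance
  exact IsIso.of_isIso_fac_right hfac

end mixed

end DTenA

end Groth.Agent.Lib.Helper18.DR
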