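import Mathlib
import Groth.Agent.Lib.Helper18.DRDC6
import Groth.Agent.Lib.Helper18.DRDC4

/-!
# Derived completion kills complexes on which `f ∈ I` acts bijectively (helper18)
-/

set_option autoImplicit false
set_option linter.style.haveILetI false
universe u
open CategoryTheory CategoryTheory.Limits CategoryTheory.Pretriangulated DerivedCategory

attribute [local instance] HasDerivedCategory.standard

namespace Groth.Agent.Lib.Helper18.DR

variable {A : Type u} [CommRing A]


lemma homologyMap_smul_id (a : A) (i : ℤ) (K' : DRing.Cx A) : HomologicalComplex.homologyMap (a • 𝟙 K') i = a • 𝟙 (K'.homology i) := by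
    have : HomologicalComplex.homologyMap (a • 𝟙 K') i =
        ShortComplex.homologyMap (a • 𝟙 (K'.sc i)) := rfl
    rw [this, ShortComplex.homologyMap_smul, ShortComplex.homologyMap_id]
    rfl

lemma H_map_Q_smul_id_apply (a : A) (i : ℤ) (K' : DRing.Cx A) (x : (H A i).obj (DerivedCategory.Q.obj K')) : ((H A i).map (DerivedCategory.Q.map (a • 𝟙 K'))).hom x = a • x := by
  have h3 : (H A i).map (DerivedCategory.Q.map (a • 𝟙 K')) ≫
      (DerivedCategory.homologyFunctorFactors (ModuleCat.{u} A) i).hom.app K' =
      (DerivedCategory.homologyFunctorFactors (ModuleCat.{u} A) i).hom.app K' ≫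
        HomologicalComplex.homologyMap (a • 𝟙 K') i :=
    (DerivedCategory.homologyFunctorFactors (ModuleCat.{u} A) i).hom.naturality (a • 𝟙 K')
  have h5 : ((DerivedCategory.homologyFunctorFactors (ModuleCat.{u} A) i).hom.app K').hom
      (((H A i).map (DerivedCategory.Q.map (a • 𝟙 K'))).hom x) =
      (HomologicalComplex.homologyMap (a • 𝟙 K') i).hom
        (((DerivedCategory.homologyFunctorFactors (ModuleCat.{u} A) i).hom.app K').hom x) :=
    congrArg (fun g => g.hom x) h3
  rw [homologyMap_smul_id] at h5
  have h6 : ((DerivedCategory.homologyFunctorFactors (ModuleCat.{u} A) i).hom.app K').hom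
      (((H A i).map (DerivedCategory.Q.map (a • 𝟙 K'))).hom x) =
      ((DerivedCategory.homologyFunctorFactors (ModuleCat.{u} A) i).hom.app K').hom (a • x) := by
    rw [h5, map_smul]
    rfl
  have hinj : Function.Injective
      ((DerivedCategory.homologyFunctorFactors (ModuleCat.{u} A) i).hom.app K').hom :=
    ((ConcreteCategory.isIso_iff_bijective
      ((DerivedCategory.homologyFunctorFactors (ModuleCat.{u} A) i).hom.app K')).1 inferInstance).1
  exact hinj h6

lemma H_map_smul_id_apply (a : A) (i : ℤ) (Y : Dual.D A) (x : (H A i).obj Y) :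
    ((H A i).map (a • 𝟙 Y)).hom x = a • x := by
  let K' := DerivedCategory.Q.objPreimage Y
  let e : DerivedCategory.Q.obj K' ≅ Y := DerivedCategory.Q.objObjPreimageIso Y
  have h1 : a • 𝟙 Y = e.inv ≫ DerivedCategory.Q.map (a • 𝟙 K') ≫ e.hom := by
    rw [Functor.map_smul, CategoryTheory.Functor.map_id, Linear.smul_comp, Linear.comp_smul,
      Category.id_comp, Iso.inv_hom_id]
  rw [h1, Functor.map_comp, Functor.map_comp]
  change ((H A i).map e.hom).hom (((H A i).map (DerivedCategory.Q.map (a • 𝟙 K'))).hom
    (((H A i).map e.inv).hom x)) = a • x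
  rw [H_map_Q_smul_id_apply, map_smul]
  congr 1
  have := congrArg (fun g => g.hom x) ((H A i).mapIso e).inv_hom_id
  exact this

/-- a derived `f`-complete object on which `f` acts invertibly vanishes -/
theorem isZero_of_fc_of_isIso_smul (f : A) (Y : Dual.D A) (hfc : FC f Y)
    (hiso : IsIso (f • 𝟙 Y)) : IsZero Y := by
  suffices h : ∀ i, IsZero ((H A i).obj Y) by
    haveI : Y.IsLE 0 := by
      rw [DerivedCategory.isLE_iff]; intro i _; exact h i
    haveI : Y.IsGE 1 := by
      rw [DerivedCategory.isGE_iff]; intro i _; exact h i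
    exact TStructure.t.isZero Y 0 1 (by omega)
  intro i
  have hM : FC f (Sg 0 ((H A i).obj Y)) := (fc_iff_cohomology f Y).1 hfc i
  haveI : IsIso ((H A i).map (f • 𝟙 Y)) := inferInstance
  have hsurj : Function.Surjective (fun x : (H A i).obj Y => f • x) := by
    intro y
    obtain ⟨x, hx⟩ := ((ConcreteCategory.isIso_iff_bijective ((H A i).map (f • 𝟙 Y))).1
      inferInstance).2 y
    refine ⟨x, ?_⟩
    exact (H_map_smul_id_apply f i Y x).symm.trans hx
  haveI : Subsingleton ((H A i).obj Y) :=
    subsingleton_of_seqInj (seqInj_of_fc hM) (fun m => by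
      obtain ⟨m', hm'⟩ := hsurj m
      exact ⟨m', hm'⟩)
  exact ModuleCat.isZero_of_subsingleton _

/-- S7058 -/
theorem isZero_derivedCompletion_of_smul_bijective (I : Ideal A) [DRing.HasDerivedCompletion I]
    (K : DRing.Cx A) (f : A) (hf : f ∈ I)
    (hK : ∀ i : ℤ, Function.Bijective (fun x : K.X i => f • x)) :
    IsZero ((DRing.derivedCompletion I).obj (DRing.toD K)).obj := by
  haveI h1 : IsIso (f • 𝟙 K) := by
    haveI : ∀ i, IsIso ((f • 𝟙 K).f i) := fun i =>
      (ConcreteCategory.isIso_iff_bijective ((f • 𝟙 K).f i)).2 (hK i)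
    exact HomologicalComplex.Hom.isIso_of_components _
  have h2 : IsIso (f • 𝟙 (DRing.toD K)) := by
    have : f • 𝟙 (DRing.toD K) = DerivedCategory.Q.map (f • 𝟙 K) := by
      rw [Functor.map_smul, CategoryTheory.Functor.map_id]
    rw [this]
    infer_instance
  let X := (DRing.derivedCompletion I).obj (DRing.toD K)
  let adj := DRing.derivedCompletionAdj I
  let g : X ⟶ X := (DRing.derivedCompletion I).map (f • 𝟙 (DRing.toD K))
  haveI hg : IsIso g := by
    haveI := h2
    exact Functor.map_isIso _ _
  have hnat : (f • 𝟙 (DRing.toD K)) ≫ adj.unit.app (DRing.toD K) =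
      adj.unit.app (DRing.toD K) ≫ g.hom := adj.unit.naturality (f • 𝟙 (DRing.toD K))
  have key : g = ObjectProperty.homMk (f • 𝟙 X.obj) := by
    apply (adj.homEquiv (DRing.toD K) X).injective
    rw [Adjunction.homEquiv_unit, Adjunction.homEquiv_unit]
    change adj.unit.app (DRing.toD K) ≫ g.hom = adj.unit.app (DRing.toD K) ≫ (f • 𝟙 X.obj)
    rw [← hnat, Linear.smul_comp, Linear.comp_smul, Category.id_comp]
    erw [Category.comp_id]
  have hiso : IsIso (f • 𝟙 X.obj) := by
    have : (f • 𝟙 X.obj) = g.hom := by rw [key]; rfl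
    rw [this]
    infer_instance
  exact isZero_of_fc_of_isIso_smul f X.obj (X.property f hf) hiso

end Groth.Agent.Lib.Helper18.DR
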