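import Mathlib
import Groth.Agent.Lib.Helper18.DRInd
import Groth.Agent.Lib.Helper18.DRPerf
import Groth.Agent.Lib.Helper18.DRTrunc
import Groth.Agent.Lib.Helper18.DRLBC
import Groth.Agent.Lib.Helper18.DRDC12

/-!
# Hom out of a pseudo-coherent object commutes with localization (helper18)

Let `η : L ⟶ L'` be a morphism of `D(A)` inducing an `S`-localization on every cohomology module,
with `L` and `L'` bounded below.  Then for every pseudo-coherent `N`, the map
`Hom(N, L) ⟶ Hom(N, L')` is an `S`-localization, in the sense of `LocProp`.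
-/

set_option autoImplicit false
set_option linter.style.haveILetI false
universe u
open CategoryTheory CategoryTheory.Limits CategoryTheory.Pretriangulated DerivedCategory

attribute [local instance] HasDerivedCategory.standard

namespace Groth.Agent.Lib.Helper18.DR

namespace HomLoc

variable {A : Type u} [CommRing A] (S : Submonoid A)

omit S in
lemma H_map_smul (a : A) (n : ℤ) {X Y : Dual.D A} (f : X ⟶ Y) :
    (H A n).map (a • f) = a • (H A n).map f := by
  have h1 : a • f = f ≫ (a • 𝟙 Y) := by rw [Linear.comp_smul, Category.comp_id]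
  rw [h1, Functor.map_comp]
  ext x
  exact H_map_smul_id_apply a n Y (((H A n).map f).hom x)

/-- `η` induces an `S`-localization on every cohomology module -/
def SLoc {L L' : Dual.D A} (η : L ⟶ L') : Prop :=
  ∀ n : ℤ, IsLocalizedModule S ((H A n).map η).hom

/-- `Hom(N, L) ⟶ Hom(N, L')` is an `S`-localization -/
structure LocProp {L L' : Dual.D A} (η : L ⟶ L') (N : Dual.D A) : Prop where
  surj : ∀ g : N ⟶ L', ∃ s ∈ S, ∃ ψ : N ⟶ L, s • g = ψ ≫ η
  inj : ∀ ψ : N ⟶ L, ψ ≫ η = 0 → ∃ s ∈ S, s • ψ = 0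

variable {S} {L L' : Dual.D A} {η : L ⟶ L'}

lemma LocProp.of_iso {N N' : Dual.D A} (e : N ≅ N') (h : LocProp S η N) : LocProp S η N' := by
  constructor
  · intro g
    obtain ⟨s, hs, ψ, hψ⟩ := h.surj (e.hom ≫ g)
    refine ⟨s, hs, e.inv ≫ ψ, ?_⟩
    rw [Category.assoc, ← hψ, Linear.comp_smul, Iso.inv_hom_id_assoc]
  · intro ψ hψ
    obtain ⟨s, hs, h1⟩ := h.inj (e.hom ≫ ψ) (by rw [Category.assoc, hψ, comp_zero])
    refine ⟨s, hs, ?_⟩
    rw [← cancel_epi e.hom, Linear.comp_smul, h1, comp_zero]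

lemma LocProp.of_isZero {N : Dual.D A} (hN : IsZero N) : LocProp S η N := by
  constructor
  · intro g
    exact ⟨1, S.one_mem, 0, hN.eq_of_src _ _⟩
  · intro ψ _
    exact ⟨1, S.one_mem, hN.eq_of_src _ _⟩

omit [CommRing A] in
lemma invRotate_exact {C : Type*} [Category C] [Preadditive C] [HasZeroObject C] [HasShift C ℤ]
    [∀ n : ℤ, (shiftFunctor C n).Additive] [Pretriangulated C] (T : Triangle C)
    (hT : T ∈ distTriang C) :
    ∃ w' : T.obj₃⟦(-1 : ℤ)⟧ ⟶ T.obj₁, w' ≫ T.mor₁ = 0 ∧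
      ∀ {X : C} (f : T.obj₁ ⟶ X), w' ≫ f = 0 → ∃ g : T.obj₂ ⟶ X, f = T.mor₁ ≫ g := by
  have hT' := inv_rot_of_distTriang _ hT
  exact ⟨T.invRotate.mor₁, comp_distTriang_mor_zero₁₂ _ hT',
    fun f hf => Triangle.yoneda_exact₂ _ hT' f hf⟩

theorem LocProp.of_triangle (T : Triangle (Dual.D A)) (hT : T ∈ distTriang (Dual.D A))
    (h₁ : LocProp S η T.obj₁) (h₁' : LocProp S η (T.obj₁⟦(1 : ℤ)⟧))
    (h₃ : LocProp S η T.obj₃) (h₃' : LocProp S η (T.obj₃⟦(-1 : ℤ)⟧)) :
    LocProp S η T.obj₂ := by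
  constructor
  · intro g
    obtain ⟨s₁, hs₁, ψ₁, h1⟩ := h₁.surj (T.mor₁ ≫ g)
    obtain ⟨w', hw'u, hw'ex⟩ := invRotate_exact T hT
    have h2 : (w' ≫ ψ₁) ≫ η = 0 := by
      rw [Category.assoc, ← h1, Linear.comp_smul, ← Category.assoc, hw'u, zero_comp, smul_zero]
    obtain ⟨s₂, hs₂, h3⟩ := h₃'.inj (w' ≫ ψ₁) h2
    have h4 : w' ≫ (s₂ • ψ₁) = 0 := by rw [Linear.comp_smul]; exact h3
    obtain ⟨ψ₂, hψ₂⟩ := hw'ex (s₂ • ψ₁) h4
    have h5 : T.mor₁ ≫ ((s₂ * s₁) • g - ψ₂ ≫ η) = 0 := by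
      rw [Preadditive.comp_sub, Linear.comp_smul, mul_smul, h1, ← Linear.smul_comp, hψ₂,
        Category.assoc, sub_self]
    obtain ⟨h, hh⟩ := Triangle.yoneda_exact₂ T hT _ h5
    obtain ⟨s₃, hs₃, ψ₃, h6⟩ := h₃.surj h
    refine ⟨s₃ * (s₂ * s₁), S.mul_mem hs₃ (S.mul_mem hs₂ hs₁), s₃ • ψ₂ + T.mor₂ ≫ ψ₃, ?_⟩
    have h7 : (s₂ * s₁) • g = ψ₂ ≫ η + T.mor₂ ≫ h := by
      rw [← hh]; abel
    rw [mul_smul, h7, smul_add, Preadditive.add_comp, Linear.smul_comp, Category.assoc, ← h6,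
      Linear.comp_smul]
  · intro ψ hψ
    obtain ⟨s₁, hs₁, h1⟩ := h₁.inj (T.mor₁ ≫ ψ) (by rw [Category.assoc, hψ, comp_zero])
    obtain ⟨χ, hχ⟩ := Triangle.yoneda_exact₂ T hT (s₁ • ψ) (by rw [Linear.comp_smul]; exact h1)
    have h2 : T.mor₂ ≫ (χ ≫ η) = 0 := by
      rw [← Category.assoc, ← hχ, Linear.smul_comp, hψ, smul_zero]
    obtain ⟨g, hg⟩ := Triangle.yoneda_exact₃ T hT (χ ≫ η) h2
    obtain ⟨s₂, hs₂, θ, h3⟩ := h₁'.surj g
    have h4 : (s₂ • χ - T.mor₃ ≫ θ) ≫ η = 0 := by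
      rw [Preadditive.sub_comp, Linear.smul_comp, hg, Category.assoc, ← h3, Linear.comp_smul,
        sub_self]
    obtain ⟨s₃, hs₃, h5⟩ := h₃.inj _ h4
    refine ⟨s₃ * (s₂ * s₁), S.mul_mem hs₃ (S.mul_mem hs₂ hs₁), ?_⟩
    have h6 : s₃ • (s₂ • χ) = s₃ • (T.mor₃ ≫ θ) := by
      rw [smul_sub, sub_eq_zero] at h5
      exact h5
    rw [mul_smul, mul_smul, hχ, ← Linear.comp_smul, ← Linear.comp_smul, h6, Linear.comp_smul,
      ← Category.assoc, comp_distTriang_mor_zero₂₃ _ hT, zero_comp, smul_zero]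

/-- the base case: a finite free module in a single degree -/
theorem locProp_Sg (hη : SLoc S η) (n : ℤ) (F : ModuleCat.{u} A) [Module.Finite A F]
    [Module.Free A F] : LocProp S η (Sg n F) := by
  haveI : Module.Projective A F := Module.Projective.of_free
  haveI : Projective F := (IsProjective.iff_projective (R := A) (P := F)).mp inferInstance
  haveI := hη n
  haveI : Module.FinitePresentation A F := Module.finitePresentation_of_projective A F
  constructor
  · intro g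
    let gH : F ⟶ (H A n).obj L' := (HSg n F).inv ≫ (H A n).map g
    obtain ⟨h, s, hh⟩ := Module.FinitePresentation.exists_lift_of_isLocalizedModule S
      ((H A n).map η).hom gH.hom
    obtain ⟨ψ, hψ⟩ := exists_hom_Sg n F L (ModuleCat.ofHom h)
    refine ⟨(s : A), s.2, ψ, ?_⟩
    rw [← sub_eq_zero]
    apply hom_Sg_eq_zero
    rw [← cancel_epi (HSg n F).inv, comp_zero, Functor.map_sub, Preadditive.comp_sub,
      sub_eq_zero, H_map_smul, Linear.comp_smul, Functor.map_comp, ← Category.assoc, hψ]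
    ext x
    have := LinearMap.congr_fun hh x
    exact this.symm
  · intro ψ hψ
    let ψH : F ⟶ (H A n).obj L := (HSg n F).inv ≫ (H A n).map ψ
    have h1 : ((H A n).map η).hom.comp ψH.hom =
        ((H A n).map η).hom.comp (0 : F →ₗ[A] (H A n).obj L) := by
      rw [LinearMap.comp_zero]
      have : ψH ≫ (H A n).map η = 0 := by
        rw [Category.assoc, ← Functor.map_comp, hψ, Functor.map_zero, comp_zero]
      exact congrArg ModuleCat.Hom.hom this
    obtain ⟨s, hs⟩ := Module.Finite.exists_smul_of_comp_eq_of_isLocalizedModule S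
      ((H A n).map η).hom ψH.hom (0 : F →ₗ[A] (H A n).obj L) h1
    refine ⟨(s : A), s.2, ?_⟩
    apply hom_Sg_eq_zero
    rw [← cancel_epi (HSg n F).inv, comp_zero, H_map_smul, Linear.comp_smul]
    ext x
    have := LinearMap.congr_fun hs x
    rw [Submonoid.smul_def, Submonoid.smul_def, smul_zero] at this
    exact this

/-- bounded complexes of finite free modules, and their shifts -/
theorem locProp_of_bounded (hη : SLoc S η) (E : DRing.Cx A) (a b : ℤ)
    (hE : DRing.VanishesOutside E a b) (hfree : DRing.TermwiseFiniteFree E) (j : ℤ) :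
    LocProp S η ((DRing.toD E)⟦j⟧) := by
  revert j
  refine bounded_induction (fun N : Dual.D A => ∀ j : ℤ, LocProp S η (N⟦j⟧)) ?_ ?_ ?_ E a b hE ?_
  · intro X Y e hX j
    exact (hX j).of_iso ((shiftFunctor (Dual.D A) j).mapIso e)
  · intro X hX j
    exact LocProp.of_isZero ((shiftFunctor (Dual.D A) j).map_isZero hX)
  · intro T hT h1 h3 j
    have hTj := Triangle.shift_distinguished T hT j
    refine LocProp.of_triangle _ hTj (h1 j) ?_ (h3 j) ?_
    · exact (h1 (j + 1)).of_iso ((shiftFunctorAdd' (Dual.D A) j 1 (j + 1) rfl).app T.obj₁)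
    · exact (h3 (j - 1)).of_iso ((shiftFunctorAdd' (Dual.D A) j (-1) (j - 1) (by omega)).app T.obj₃)
  · intro i _ _ j
    haveI := (hfree i).1
    haveI := (hfree i).2
    exact (locProp_Sg hη (i - j) (E.X i)).of_iso (SgShiftIso j (i - j) i (by omega) (E.X i)).symm

section restr

variable (F : DRing.Cx A) (m n₀ : ℤ) (hm : m < n₀) (X : Dual.D A) [X.IsGE n₀]

include hm

lemma restr_injective (ψ : DRing.toD F ⟶ X)
    (h : DerivedCategory.Q.map (sigmaGEι F m) ≫ ψ = 0) : ψ = 0 := by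
  obtain ⟨χ, hχ⟩ := Triangle.yoneda_exact₂ _ (sigmaTriangle_distinguished F m) ψ h
  haveI : (DRing.toD (sigmaLT F m)).IsLE (m - 1) := inferInstance
  have : χ = 0 := TStructure.t.zero (X := DRing.toD (sigmaLT F m)) χ (m - 1) n₀ (by omega)
  rw [hχ, this]
  exact comp_zero

lemma restr_surjective (ψ₁ : DRing.toD (sigmaGE F m) ⟶ X) :
    ∃ ψ : DRing.toD F ⟶ X, DerivedCategory.Q.map (sigmaGEι F m) ≫ ψ = ψ₁ := by
  have hT' := inv_rot_of_distTriang _ (sigmaTriangle_distinguished F m)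
  haveI : (DRing.toD (sigmaLT F m)).IsLE (m - 1) := inferInstance
  haveI : ((DRing.toD (sigmaLT F m))⟦(-1 : ℤ)⟧).IsLE m :=
    TStructure.t.isLE_shift _ (m - 1) (-1) m (by omega)
  have h0 : (sigmaTriangle F m).invRotate.mor₁ ≫ ψ₁ = 0 :=
    TStructure.t.zero (X := (DRing.toD (sigmaLT F m))⟦(-1 : ℤ)⟧) _ m n₀ hm
  obtain ⟨ψ, hψ⟩ := Triangle.yoneda_exact₂ _ hT' ψ₁ h0
  exact ⟨ψ, hψ.symm⟩

end restr

/-- the main theorem -/
theorem locProp_of_isPseudoCoherent' (hη : SLoc S η) (n₀ : ℤ) [L.IsGE n₀] [L'.IsGE n₀]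
    (N : Dual.D A) (hN : DRing.IsPseudoCoherent' A N) : LocProp S η N := by
  obtain ⟨F, b, hFb, hFfree, ⟨e⟩⟩ := hN
  refine LocProp.of_iso e ?_
  let m : ℤ := n₀ - 1
  have hm : m < n₀ := by omega
  have hb : LocProp S η (DRing.toD (sigmaGE F m)) :=
    (locProp_of_bounded hη (sigmaGE F m) m b (vanishesOutside_sigmaGE F m hFb)
      (termwiseFiniteFree_sigmaGE F m hFfree) 0).of_iso
      ((shiftFunctorZero (Dual.D A) ℤ).app _)
  constructor
  · intro g
    obtain ⟨s, hs, ψ₁, h1⟩ := hb.surj (DerivedCategory.Q.map (sigmaGEι F m) ≫ g)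
    obtain ⟨ψ, hψ⟩ := restr_surjective F m n₀ hm L ψ₁
    refine ⟨s, hs, ψ, ?_⟩
    rw [← sub_eq_zero]
    apply restr_injective F m n₀ hm L'
    rw [Preadditive.comp_sub, Linear.comp_smul, h1, ← Category.assoc, hψ, sub_self]
  · intro ψ hψ
    obtain ⟨s, hs, h1⟩ := hb.inj (DerivedCategory.Q.map (sigmaGEι F m) ≫ ψ)
      (by rw [Category.assoc, hψ, comp_zero])
    refine ⟨s, hs, ?_⟩
    apply restr_injective F m n₀ hm L
    rw [Linear.comp_smul, h1]

end HomLoc

end Groth.Agent.Lib.Helper18.DR
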