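import Mathlib
import Groth.Agent.Lib.Helper18.HomLoc1

/-!
# Homology of a termwise localization is a localization (helper18)
-/

set_option autoImplicit false
set_option linter.style.haveILetI false
universe u v
open CategoryTheory CategoryTheory.Limits

namespace Groth.Agent.Lib.Helper18.DR

namespace HomLoc

section shortComplex

variable {A : Type u} [CommRing A] (S : Submonoid A)

lemma smul_bijective_of_isLocalizedModule {M M' : Type v} [AddCommGroup M] [AddCommGroup M']
    [Module A M] [Module A M'] (f : M →ₗ[A] M') [IsLocalizedModule S f] (s : S) :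
    Function.Bijective (fun y : M' => (s : A) • y) := by
  have := (Module.End.isUnit_iff _).1 (IsLocalizedModule.map_units f s)
  exact this

/-- the map induced on homology by a termwise localization of short complexes of modules is a
localization -/
theorem isLocalizedModule_leftHomologyMap' {S₁ S₂ : ShortComplex (ModuleCat.{v} A)} (φ : S₁ ⟶ S₂)
    [IsLocalizedModule S φ.τ₁.hom] [IsLocalizedModule S φ.τ₂.hom]
    [IsLocalizedModule S φ.τ₃.hom] :
    IsLocalizedModule S (ShortComplex.leftHomologyMap' φ S₁.moduleCatLeftHomologyData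
      S₂.moduleCatLeftHomologyData).hom := by
  have hK : ∀ z : LinearMap.ker S₁.g.hom,
      (S₂.moduleCatLeftHomologyData.i ((ShortComplex.cyclesMap' φ S₁.moduleCatLeftHomologyData
        S₂.moduleCatLeftHomologyData) z) : S₂.X₂) = φ.τ₂ z.1 := by
    intro z
    have := ShortComplex.cyclesMap'_i φ S₁.moduleCatLeftHomologyData S₂.moduleCatLeftHomologyData
    exact congr($this z)
  have hH : ∀ z : LinearMap.ker S₁.g.hom,
      (ShortComplex.leftHomologyMap' φ S₁.moduleCatLeftHomologyData S₂.moduleCatLeftHomologyData)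
        (S₁.moduleCatLeftHomologyData.π z) =
      S₂.moduleCatLeftHomologyData.π ((ShortComplex.cyclesMap' φ S₁.moduleCatLeftHomologyData
        S₂.moduleCatLeftHomologyData) z) := by
    intro z
    have := ShortComplex.leftHomologyπ_naturality' φ S₁.moduleCatLeftHomologyData
      S₂.moduleCatLeftHomologyData
    exact congr($this z)
  have hπ₁ : Function.Surjective S₁.moduleCatLeftHomologyData.π := Submodule.mkQ_surjective _
  have hπ₂ : Function.Surjective S₂.moduleCatLeftHomologyData.π := Submodule.mkQ_surjective _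
  have hb₁ := smul_bijective_of_isLocalizedModule S φ.τ₁.hom
  have hb₂ := smul_bijective_of_isLocalizedModule S φ.τ₂.hom
  have hb₃ := smul_bijective_of_isLocalizedModule S φ.τ₃.hom
  have hcomm₁₂ : ∀ x : S₁.X₁, φ.τ₂ (S₁.f x) = S₂.f (φ.τ₁ x) := fun x => by
    have := φ.comm₁₂
    exact congr($this x).symm
  have hcomm₂₃ : ∀ x : S₁.X₂, φ.τ₃ (S₁.g x) = S₂.g (φ.τ₂ x) := fun x => by
    have := φ.comm₂₃
    exact congr($this x).symm
  refine ⟨fun s => ?_, fun y => ?_, fun {y₁ y₂} hy => ?_⟩
  · -- units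
    rw [Module.End.isUnit_iff]
    change Function.Bijective (fun y : S₂.moduleCatLeftHomologyData.H => (s : A) • y)
    constructor
    · intro y y' hyy'
      obtain ⟨z, rfl⟩ := hπ₂ y
      obtain ⟨z', rfl⟩ := hπ₂ y'
      replace hyy' : (s : A) • S₂.moduleCatLeftHomologyData.π z =
        (s : A) • S₂.moduleCatLeftHomologyData.π z' := hyy'
      rw [← map_smul, ← map_smul] at hyy'
      obtain ⟨x₁', hx₁'⟩ := (Submodule.Quotient.eq _).mp hyy'
      obtain ⟨x₁'', rfl⟩ := (hb₁ s).2 x₁'
      have h1 : (s : A) • S₂.f x₁'' = (s : A) • (z.1 - z'.1) := by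
        have := congrArg Subtype.val hx₁'
        change S₂.f ((s : A) • x₁'') = ((s : A) • z - (s : A) • z').1 at this
        rw [map_smul] at this
        rw [this, smul_sub]
        rfl
      have h2 : S₂.f x₁'' = z.1 - z'.1 := (hb₂ s).1 h1
      exact (Submodule.Quotient.eq _).mpr ⟨x₁'', Subtype.ext h2⟩
    · intro y
      obtain ⟨z, rfl⟩ := hπ₂ y
      obtain ⟨w, hw⟩ := (hb₂ s).2 z.1
      replace hw : (s : A) • w = z.1 := hw
      have hgw : S₂.g w = 0 := by
        apply (hb₃ s).1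
        change (s : A) • S₂.g w = (s : A) • 0
        rw [← map_smul, hw, smul_zero]
        exact LinearMap.mem_ker.mp z.2
      refine ⟨S₂.moduleCatLeftHomologyData.π ⟨w, LinearMap.mem_ker.mpr hgw⟩, ?_⟩
      change (s : A) • S₂.moduleCatLeftHomologyData.π ⟨w, LinearMap.mem_ker.mpr hgw⟩ = _
      rw [← map_smul]
      congr 1
      exact Subtype.ext hw
  · -- surj
    obtain ⟨z', rfl⟩ := hπ₂ y
    obtain ⟨⟨x, s⟩, hx⟩ := IsLocalizedModule.surj S φ.τ₂.hom z'.1
    replace hx : (s : A) • z'.1 = φ.τ₂ x := hx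
    have h1 : φ.τ₃ (S₁.g x) = φ.τ₃ 0 := by
      rw [hcomm₂₃, ← hx, map_smul, map_zero]
      have : S₂.g z'.1 = 0 := LinearMap.mem_ker.mp z'.2
      rw [this, smul_zero]
    obtain ⟨t, ht⟩ := IsLocalizedModule.exists_of_eq (S := S) (f := φ.τ₃.hom) h1
    rw [smul_zero, Submonoid.smul_def] at ht
    have hx' : S₁.g ((t : A) • x) = 0 := by rw [map_smul]; exact ht
    refine ⟨⟨S₁.moduleCatLeftHomologyData.π ⟨(t : A) • x, LinearMap.mem_ker.mpr hx'⟩, t * s⟩, ?_⟩
    change ((t * s : S) : A) • S₂.moduleCatLeftHomologyData.π z' = _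
    rw [hH, ← map_smul]
    congr 1
    apply Subtype.ext
    refine Eq.trans ?_ (hK _).symm
    change (((t : A) * (s : A)) • z').1 = φ.τ₂ ((t : A) • x)
    rw [map_smul, ← hx, mul_smul]
    rfl
  · -- exists_of_eq
    obtain ⟨z₁, rfl⟩ := hπ₁ y₁
    obtain ⟨z₂, rfl⟩ := hπ₁ y₂
    have h0 : (ShortComplex.leftHomologyMap' φ S₁.moduleCatLeftHomologyData
        S₂.moduleCatLeftHomologyData) (S₁.moduleCatLeftHomologyData.π (z₁ - z₂)) = 0 := by
      rw [map_sub, map_sub, sub_eq_zero]
      exact hy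
    rw [hH] at h0
    obtain ⟨y', hy'⟩ := (Submodule.Quotient.mk_eq_zero _).mp h0
    have hy'' : S₂.f y' = φ.τ₂ (z₁ - z₂).1 := by
      rw [← hK]
      exact congrArg Subtype.val hy'
    obtain ⟨⟨x, s⟩, hx⟩ := IsLocalizedModule.surj S φ.τ₁.hom y'
    replace hx : (s : A) • y' = φ.τ₁ x := hx
    have h1 : φ.τ₂ ((s : A) • (z₁ - z₂).1) = φ.τ₂ (S₁.f x) := by
      rw [map_smul, ← hy'', ← map_smul, hx, hcomm₁₂]
    obtain ⟨t, ht⟩ := IsLocalizedModule.exists_of_eq (S := S) (f := φ.τ₂.hom) h1
    rw [Submonoid.smul_def, Submonoid.smul_def] at ht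
    refine ⟨t * s, ?_⟩
    change ((t : A) * (s : A)) • S₁.moduleCatLeftHomologyData.π z₁ =
      ((t : A) * (s : A)) • S₁.moduleCatLeftHomologyData.π z₂
    rw [← sub_eq_zero, ← smul_sub, ← map_sub, ← map_smul]
    refine (Submodule.Quotient.mk_eq_zero _).mpr ⟨(t : A) • x, Subtype.ext ?_⟩
    change S₁.f ((t : A) • x) = (((t : A) * (s : A)) • (z₁ - z₂)).1
    rw [map_smul, ← ht, mul_smul]
    rfl

end shortComplex

end HomLoc

end Groth.Agent.Lib.Helper18.DR
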