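import Mathlib
import Groth.Agent.Lib.Helper18.HomLoc2
import Groth.Agent.Lib.Helper18.DTenA
import Groth.Agent.Lib.Helper18.DRPC

/-!
# The unit `K ⟶ (K ⊗_A B)|_A` for a localization `B = S⁻¹A` (helper18)

* `sloc_Q_map`: a chain map which is termwise a localization induces localizations on cohomology.
* `γ`: the explicit unit `Q K ⟶ (Q (K ⊗_A B))|_A`, and the adjunction bijection for K-projective `K`.
* `sloc_γ`: `γ` induces localizations on cohomology when `B = S⁻¹A`.
-/

set_option autoImplicit false
set_option linter.style.haveILetI false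
universe u
open CategoryTheory CategoryTheory.Limits CategoryTheory.Pretriangulated DerivedCategory

attribute [local instance] HasDerivedCategory.standard

namespace Groth.Agent.Lib.Helper18.DR

namespace HomLoc

section general

variable {A : Type u} [CommRing A] (S : Submonoid A)

lemma isLocalizedModule_comp_iso {M₁ M₂ M₃ M₄ : ModuleCat.{u} A} (e : M₁ ≅ M₂) (f : M₂ ⟶ M₃)
    (e' : M₃ ≅ M₄) (hf : IsLocalizedModule S f.hom) :
    IsLocalizedModule S (e.hom ≫ f ≫ e'.hom).hom := by
  have h1 : IsLocalizedModule S (e'.toLinearEquiv.toLinearMap ∘ₗ f.hom) :=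
    IsLocalizedModule.of_linearEquiv S f.hom e'.toLinearEquiv
  have h2 := IsLocalizedModule.of_linearEquiv_right S
    (e'.toLinearEquiv.toLinearMap ∘ₗ f.hom) e.toLinearEquiv
  exact h2

lemma isLocalizedModule_map_of_natIso {F₁ F₂ : Dual.D A ⥤ ModuleCat.{u} A} (e : F₁ ≅ F₂)
    {X Y : Dual.D A} (η : X ⟶ Y) (h : IsLocalizedModule S (F₁.map η).hom) :
    IsLocalizedModule S (F₂.map η).hom := by
  have : F₂.map η = (e.app X).symm.hom ≫ F₁.map η ≫ (e.app Y).hom := by simp
  rw [this]
  exact isLocalizedModule_comp_iso S _ _ _ h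

variable {S}

lemma SLoc.shift {L L' : Dual.D A} {η : L ⟶ L'} (hη : SLoc S η) (i : ℤ) : SLoc S (η⟦i⟧') :=
  fun n => isLocalizedModule_map_of_natIso S (HShiftIso A i n (i + n) rfl).symm η (hη (i + n))

lemma SLoc.comp_iso {L L' L'' : Dual.D A} {η : L ⟶ L'} (hη : SLoc S η) (e : L' ≅ L'') :
    SLoc S (η ≫ e.hom) := fun n => by
  have := isLocalizedModule_comp_iso S (Iso.refl _) ((H A n).map η) ((H A n).mapIso e) (hη n)
  rw [Functor.map_comp]
  simpa using this

lemma SLoc.iso_comp {L₀ L L' : Dual.D A} {η : L ⟶ L'} (hη : SLoc S η) (e : L₀ ≅ L) :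
    SLoc S (e.hom ≫ η) := fun n => by
  have := isLocalizedModule_comp_iso S ((H A n).mapIso e) ((H A n).map η) (Iso.refl _) (hη n)
  rw [Functor.map_comp]
  simpa using this

variable (S)

theorem isLocalizedModule_homologyMap {K K' : DRing.Cx A} (u : K ⟶ K')
    (hu : ∀ i, IsLocalizedModule S (u.f i).hom) (n : ℤ) :
    IsLocalizedModule S (HomologicalComplex.homologyMap u n).hom := by
  let φ := (HomologicalComplex.shortComplexFunctor (ModuleCat.{u} A) (ComplexShape.up ℤ) n).map u
  haveI : IsLocalizedModule S φ.τ₁.hom := hu _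
  haveI : IsLocalizedModule S φ.τ₂.hom := hu _
  haveI : IsLocalizedModule S φ.τ₃.hom := hu _
  have h := isLocalizedModule_leftHomologyMap' S φ
  have heq : HomologicalComplex.homologyMap u n = ShortComplex.homologyMap φ := rfl
  rw [heq, (ShortComplex.leftHomologyMapData φ (K.sc n).moduleCatLeftHomologyData
    (K'.sc n).moduleCatLeftHomologyData).homologyMap_eq]
  exact isLocalizedModule_comp_iso S _ _
    ((K'.sc n).moduleCatLeftHomologyData.homologyIso).symm h

theorem sloc_Q_map {K K' : DRing.Cx A} (u : K ⟶ K')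
    (hu : ∀ i, IsLocalizedModule S (u.f i).hom) : SLoc S (DerivedCategory.Q.map u) := fun n => by
  have h := isLocalizedModule_homologyMap S u hu n
  have hn := (DerivedCategory.homologyFunctorFactors (ModuleCat.{u} A) n).hom.naturality u
  have : (H A n).map (DerivedCategory.Q.map u) =
      ((DerivedCategory.homologyFunctorFactors (ModuleCat.{u} A) n).app K).hom ≫
        HomologicalComplex.homologyMap u n ≫
          ((DerivedCategory.homologyFunctorFactors (ModuleCat.{u} A) n).app K').symm.hom := by
    rw [← Category.assoc]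
    exact (Iso.eq_comp_inv _).2 hn
  rw [this]
  exact isLocalizedModule_comp_iso S _ _ _ h

end general

section unit

variable {A : Type u} [CommRing A] (S : Submonoid A) (B : Type u) [CommRing B] [Algebra A B]
  [IsLocalization S B]

open TensorProduct in
/-- the unit `M ⟶ (B ⊗_A M)|_A` is a localization -/
lemma isLocalizedModule_unit_app (M : ModuleCat.{u} A) :
    IsLocalizedModule S
      ((ModuleCat.extendRestrictScalarsAdj.{u, u, u} (algebraMap A B)).unit.app M).hom := by
  letI : Module A ((extM (A := A) (B := B)).obj M) := Module.compHom _ (algebraMap A B)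
  haveI : IsScalarTower A B ((extM (A := A) (B := B)).obj M) :=
    ⟨fun a b y => by rw [Algebra.smul_def, mul_smul]; rfl⟩
  have h0 : IsLocalizedModule S (TensorProduct.mk A B M 1) :=
    (isLocalizedModule_iff_isBaseChange S B _).2 (TensorProduct.isBaseChange A M B)
  let e : B ⊗[A] M ≃ₗ[A] ((extM (A := A) (B := B)).obj M) :=
    (extMEquiv (B := B) M).symm.restrictScalars A
  have h1 := IsLocalizedModule.of_linearEquiv S (TensorProduct.mk A B M 1) e
  have h2 : e.toLinearMap ∘ₗ (TensorProduct.mk A B M 1) =
      ((ModuleCat.extendRestrictScalarsAdj.{u, u, u} (algebraMap A B)).unit.app M).hom := by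
    ext m
    rfl
  rw [← h2]
  exact h1

end unit

end HomLoc

end Groth.Agent.Lib.Helper18.DR
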