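import Mathlib
import Groth.Agent.Lib.Helper18.HomLoc3
import Groth.Agent.Lib.Helper18.DualFin

/-!
# The explicit unit `γ : Q K ⟶ (Q (K ⊗_A B))|_A` and its universal property (helper18)
-/

set_option autoImplicit false
set_option linter.style.haveILetI false
universe u
open CategoryTheory CategoryTheory.Limits CategoryTheory.Pretriangulated DerivedCategory

attribute [local instance] HasDerivedCategory.standard

namespace Groth.Agent.Lib.Helper18.DR

namespace HomLoc

open DTen

section gamma

variable {A B : Type u} [CommRing A] [CommRing B] (φ : A →+* B)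

/-- the unit `Q K ⟶ (Q (K ⊗_A B))|_A` -/
noncomputable def γ (K : DRing.Cx A) :
    DerivedCategory.Q.obj K ⟶
      (DRing.restrictD φ).obj (DerivedCategory.Q.obj ((extCx φ).obj K)) :=
  DerivedCategory.Q.map ((unitCx φ).app K) ≫ (resFactors φ).inv.app ((extCx φ).obj K)

lemma γ_comp_map (K : DRing.Cx A) (N₀ : DRing.Cx B) (g₀ : (extCx φ).obj K ⟶ N₀) :
    γ φ K ≫ (DRing.restrictD φ).map (DerivedCategory.Q.map g₀) =
      DerivedCategory.Q.map ((DTenA.cxAdj φ).homEquiv K N₀ g₀) ≫ (resFactors φ).inv.app N₀ := by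
  have hn := (resFactors φ).inv.naturality g₀
  dsimp at hn
  rw [Adjunction.homEquiv_unit, DTenA.cxAdj_unit_app, Functor.map_comp, Category.assoc, hn]
  dsimp [γ]
  rw [Category.assoc]

lemma γ_bijective_Q (P : DRing.Cx A) [P.IsKProjective] (N₀ : DRing.Cx B) :
    Function.Bijective
      (fun g : DerivedCategory.Q.obj ((extCx φ).obj P) ⟶ DerivedCategory.Q.obj N₀ =>
        γ φ P ≫ (DRing.restrictD φ).map g) := by
  haveI : ((extCx φ).obj P).IsKProjective := isKProjective_extendScalars φ P
  constructor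
  · intro g g' hgg'
    obtain ⟨g₀, rfl⟩ := exists_map_eq ((extCx φ).obj P) N₀ g
    obtain ⟨g₀', rfl⟩ := exists_map_eq ((extCx φ).obj P) N₀ g'
    replace hgg' : γ φ P ≫ (DRing.restrictD φ).map (DerivedCategory.Q.map g₀) =
      γ φ P ≫ (DRing.restrictD φ).map (DerivedCategory.Q.map g₀') := hgg'
    rw [γ_comp_map, γ_comp_map, cancel_mono] at hgg'
    obtain ⟨H⟩ := nonempty_homotopy_of_map_eq P _ _ _ hgg'
    have e1 : ∀ g : (extCx φ).obj P ⟶ N₀,
        g = (extCx φ).map ((DTenA.cxAdj φ).homEquiv P N₀ g) ≫ (DTenA.cxAdj φ).counit.app N₀ :=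
      fun g => by
        have := ((DTenA.cxAdj φ).homEquiv P N₀).symm_apply_apply g
        rw [Adjunction.homEquiv_counit] at this
        exact this.symm
    have H' : Homotopy g₀ g₀' :=
      (Homotopy.ofEq (e1 g₀)).trans
        ((((ModuleCat.extendScalars.{u, u, u} φ).mapHomotopy H).compRight
          ((DTenA.cxAdj φ).counit.app N₀)).trans (Homotopy.ofEq (e1 g₀').symm))
    exact DerivedCategory.Q_map_eq_of_homotopy _ H'
  · intro ψ
    obtain ⟨ψ₀, hψ₀⟩ := exists_map_eq P ((resCx φ).obj N₀) (ψ ≫ (resFactors φ).hom.app N₀)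
    refine ⟨DerivedCategory.Q.map (((DTenA.cxAdj φ).homEquiv P N₀).symm ψ₀), ?_⟩
    change γ φ P ≫ (DRing.restrictD φ).map (DerivedCategory.Q.map _) = ψ
    rw [γ_comp_map, Equiv.apply_symm_apply, hψ₀, Category.assoc, Iso.hom_inv_id_app]
    exact Category.comp_id ψ

/-- the universal property of `γ` -/
theorem γ_bijective (P : DRing.Cx A) [P.IsKProjective] (T : Dual.D B) :
    Function.Bijective (fun g : DerivedCategory.Q.obj ((extCx φ).obj P) ⟶ T =>
      γ φ P ≫ (DRing.restrictD φ).map g) := by
  let N₀ : DRing.Cx B := DerivedCategory.Q.objPreimage T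
  let e : DerivedCategory.Q.obj N₀ ≅ T := DerivedCategory.Q.objObjPreimageIso T
  have hb := γ_bijective_Q φ P N₀
  have key : ∀ g : DerivedCategory.Q.obj ((extCx φ).obj P) ⟶ T,
      γ φ P ≫ (DRing.restrictD φ).map g =
        (γ φ P ≫ (DRing.restrictD φ).map (g ≫ e.inv)) ≫
          (DRing.restrictD φ).map e.hom := fun g => by
    rw [Category.assoc, ← Functor.map_comp, Category.assoc, Iso.inv_hom_id, Category.comp_id]
  constructor
  · intro g g' hgg'
    replace hgg' : γ φ P ≫ (DRing.restrictD φ).map g =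
      γ φ P ≫ (DRing.restrictD φ).map g' := hgg'
    rw [key g, key g', cancel_mono] at hgg'
    have := hb.1 hgg'
    exact (cancel_mono e.inv).1 this
  · intro ψ
    obtain ⟨x', hx'⟩ := hb.2 (ψ ≫ (DRing.restrictD φ).map e.inv)
    replace hx' : γ φ P ≫ (DRing.restrictD φ).map x' =
      ψ ≫ (DRing.restrictD φ).map e.inv := hx'
    refine ⟨x' ≫ e.hom, ?_⟩
    change γ φ P ≫ (DRing.restrictD φ).map (x' ≫ e.hom) = ψ
    rw [Functor.map_comp, ← Category.assoc, hx', Category.assoc, ← Functor.map_comp,
      Iso.inv_hom_id, CategoryTheory.Functor.map_id, Category.comp_id]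

end gamma

section loc

variable {A : Type u} [CommRing A] (S : Submonoid A) (B : Type u) [CommRing B] [Algebra A B]
  [IsLocalization S B]

/-- `γ` induces localizations on cohomology -/
theorem sloc_γ (K : DRing.Cx A) : SLoc S (γ (algebraMap A B) K) :=
  SLoc.comp_iso (sloc_Q_map S ((unitCx (algebraMap A B)).app K)
    (fun i => isLocalizedModule_unit_app S B (K.X i)))
    ((resFactors (algebraMap A B)).symm.app ((extCx (algebraMap A B)).obj K))

variable {B}

omit [IsLocalization S B] in
lemma γ_comp_map_smul (K : DRing.Cx A) {T : Dual.D B} (a : A)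
    (g : DerivedCategory.Q.obj ((extCx (algebraMap A B)).obj K) ⟶ T) :
    γ (algebraMap A B) K ≫ (DRing.restrictD (algebraMap A B)).map ((algebraMap A B a) • g) =
      a • (γ (algebraMap A B) K ≫ (DRing.restrictD (algebraMap A B)).map g) := by
  have h1 : (algebraMap A B a) • g = g ≫ ((algebraMap A B a) • 𝟙 T) := by
    rw [Linear.comp_smul, Category.comp_id]
  rw [h1, Functor.map_comp, restrictD_map_smul_id, Linear.comp_smul, Category.comp_id,
    Linear.comp_smul]

/-- elements of `S` act invertibly on restricted objects -/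
lemma isIso_smul_restrictD (Y : Dual.D B) (s : S) :
    IsIso ((s : A) • 𝟙 ((DRing.restrictD (algebraMap A B)).obj Y)) := by
  rw [← restrictD_map_smul_id]
  have hu : IsUnit (algebraMap A B (s : A)) := IsLocalization.map_units B s
  obtain ⟨u, hu'⟩ := hu
  haveI : IsIso ((algebraMap A B (s : A)) • 𝟙 Y) := by
    refine ⟨(↑u⁻¹ : B) • 𝟙 Y, ?_, ?_⟩
    · rw [Linear.smul_comp, Linear.comp_smul, Category.id_comp, smul_smul, ← hu',
        Units.mul_inv, one_smul]
    · rw [Linear.smul_comp, Linear.comp_smul, Category.id_comp, smul_smul, ← hu',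
        Units.inv_mul, one_smul]
  infer_instance

/-- a morphism into a restricted object killed by an element of `S` vanishes -/
lemma eq_zero_of_smul_eq_zero {X : Dual.D A} (Y : Dual.D B) (s : S)
    (g : X ⟶ (DRing.restrictD (algebraMap A B)).obj Y) (h : (s : A) • g = 0) : g = 0 := by
  haveI := isIso_smul_restrictD S Y s
  have h1 : g ≫ ((s : A) • 𝟙 _) = 0 := by rw [Linear.comp_smul, Category.comp_id, h]
  rw [← cancel_mono ((s : A) • 𝟙 ((DRing.restrictD (algebraMap A B)).obj Y)), h1, zero_comp]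

end loc

end HomLoc

end Groth.Agent.Lib.Helper18.DR
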