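import Mathlib
import Groth.Agent.Lib.Helper18.HomLoc4
import Groth.Agent.Lib.Helper18.DRExt2
import Groth.Agent.Lib.Helper18.DRInjAmp
import Groth.Agent.Lib.Helper18.KProjC

/-!
# Localization data for objects of `D(A)` (helper18)
-/

set_option autoImplicit false
set_option linter.style.haveILetI false
universe u
open CategoryTheory CategoryTheory.Limits CategoryTheory.Pretriangulated DerivedCategory

attribute [local instance] HasDerivedCategory.standard

namespace Groth.Agent.Lib.Helper18.DR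

namespace HomLoc

open DTen

section basic

variable {A : Type u} [CommRing A] (S : Submonoid A) (B : Type u) [CommRing B] [Algebra A B]
  [IsLocalization S B]

/-- `ωB` is "the localization of `ω`" -/
def IsLocOf (ω : Dual.D A) (ωB : Dual.D B) : Prop :=
  ∃ η : ω ⟶ (DRing.restrictD (algebraMap A B)).obj ωB, SLoc S η ∧
    ∀ T : Dual.D B, Function.Bijective
      (fun g : ωB ⟶ T => η ≫ (DRing.restrictD (algebraMap A B)).map g)

lemma isLocOf_Q (P : DRing.Cx A) [P.IsKProjective] :
    IsLocOf S B (DerivedCategory.Q.obj P)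
      (DerivedCategory.Q.obj ((extCx (algebraMap A B)).obj P)) :=
  ⟨γ _ P, sloc_γ S B P, γ_bijective _ P⟩

variable {S B}

lemma IsLocOf.of_iso {ω ω' : Dual.D A} {ωB ωB' : Dual.D B} (h : IsLocOf S B ω ωB)
    (e : ω ≅ ω') (e' : ωB ≅ ωB') : IsLocOf S B ω' ωB' := by
  obtain ⟨η, hη, hb⟩ := h
  refine ⟨e.inv ≫ η ≫ (DRing.restrictD (algebraMap A B)).map e'.hom,
    SLoc.iso_comp (SLoc.comp_iso hη ((DRing.restrictD (algebraMap A B)).mapIso e')) e.symm,
    fun T => ?_⟩
  have key : ∀ g : ωB' ⟶ T,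
      (e.inv ≫ η ≫ (DRing.restrictD (algebraMap A B)).map e'.hom) ≫
        (DRing.restrictD (algebraMap A B)).map g =
      e.inv ≫ (η ≫ (DRing.restrictD (algebraMap A B)).map (e'.hom ≫ g)) := fun g => by
    rw [Functor.map_comp, Category.assoc, Category.assoc]
  constructor
  · intro g g' hgg'
    replace hgg' : (e.inv ≫ η ≫ (DRing.restrictD (algebraMap A B)).map e'.hom) ≫
        (DRing.restrictD (algebraMap A B)).map g =
      (e.inv ≫ η ≫ (DRing.restrictD (algebraMap A B)).map e'.hom) ≫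
        (DRing.restrictD (algebraMap A B)).map g' := hgg'
    rw [key, key, cancel_epi] at hgg'
    exact (cancel_epi e'.hom).1 ((hb T).1 hgg')
  · intro ψ
    obtain ⟨x, hx⟩ := (hb T).2 (e.hom ≫ ψ)
    replace hx : η ≫ (DRing.restrictD (algebraMap A B)).map x = e.hom ≫ ψ := hx
    refine ⟨e'.inv ≫ x, ?_⟩
    change (e.inv ≫ η ≫ (DRing.restrictD (algebraMap A B)).map e'.hom) ≫
        (DRing.restrictD (algebraMap A B)).map (e'.inv ≫ x) = ψ
    rw [key, Iso.hom_inv_id_assoc, hx, Iso.inv_hom_id_assoc]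

variable (S B)

lemma isLocOf_LBC [DRing.HasLBaseChange (algebraMap A B)] (ω : Dual.D A) :
    IsLocOf S B ω ((DRing.LBaseChange (algebraMap A B)).obj ω) := by
  obtain ⟨P, hP, -, ⟨e⟩⟩ := exists_kprojective_resolution ω
  haveI := hP
  exact (isLocOf_Q S B P).of_iso e
    ((LBaseChangeIso (algebraMap A B) P).symm ≪≫ (DRing.LBaseChange (algebraMap A B)).mapIso e)

end basic


section lemmaX

variable {A B : Type u} [CommRing A] [CommRing B] [Algebra A B] [Module.Flat A B]

/-- `Hom_B(B ⊗ M[-i], T) ≃ Hom_A(M[-i], T|_A)` for `B` flat over `A` -/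
lemma nonempty_homSg_equiv (M : ModuleCat.{u} A) (i : ℤ) (T : Dual.D B) :
    Nonempty ((Sg i ((extM (A := A) (B := B)).obj M) ⟶ T) ≃
      (Sg i M ⟶ (DRing.restrictD (algebraMap A B)).obj T)) := by
  obtain ⟨P, hP, -, ⟨e⟩⟩ := exists_kprojective_resolution (Sg i M)
  haveI := hP
  let e1 : DerivedCategory.Q.obj ((extCx (algebraMap A B)).obj P) ≅
      Sg i ((extM (A := A) (B := B)).obj M) :=
    (mapDToDIso (extM (A := A) (B := B)) P).symm ≪≫ (extD A B).mapIso e ≪≫
      mapDSgIso (extM (A := A) (B := B)) i M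
  exact ⟨(e1.homFromEquiv).symm.trans
    ((Equiv.ofBijective _ (γ_bijective (algebraMap A B) P T)).trans e.homFromEquiv)⟩

end lemmaX


section cohomology

variable {A : Type u} [CommRing A] (S : Submonoid A) {B : Type u} [CommRing B] [Algebra A B]
  [IsLocalization S B] {ω : Dual.D A} {ωB : Dual.D B}
  (η : ω ⟶ (DRing.restrictD (algebraMap A B)).obj ωB)

/-- the comparison map `H^j(ω) ⟶ H^j(ωB)|_A` -/
noncomputable def Hη (j : ℤ) : (H A j).obj ω ⟶
    (ModuleCat.restrictScalars.{u} (algebraMap A B)).obj ((H B j).obj ωB) :=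
  (H A j).map η ≫ (homologyMapDIso (ModuleCat.restrictScalars.{u} (algebraMap A B)) ωB j).hom

variable {η}

lemma isLocalizedModule_Hη (hη : SLoc S η) (j : ℤ) : IsLocalizedModule S (Hη η j).hom := by
  have := isLocalizedModule_comp_iso S (Iso.refl _) ((H A j).map η)
    (homologyMapDIso (ModuleCat.restrictScalars.{u} (algebraMap A B)) ωB j) (hη j)
  simpa [Hη] using this

lemma finite_HD_of_sloc (hη : SLoc S η) (j : ℤ) [Module.Finite A (Dual.HD A ω j)] :
    Module.Finite B (Dual.HD B ωB j) := by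
  have hloc : IsLocalizedModule S (Hη η j).hom := isLocalizedModule_Hη S hη j
  let Mp : Type u := ((ModuleCat.restrictScalars.{u} (algebraMap A B)).obj ((H B j).obj ωB))
  letI iB : Module B Mp := inferInstanceAs (Module B ((H B j).obj ωB))
  haveI : IsScalarTower A B Mp :=
    ⟨fun a b v => by
      rw [Algebra.smul_def, mul_smul]
      rfl⟩
  exact Module.Finite.of_isLocalizedModule S (Rₚ := B) (Mₚ := Mp) (Hη η j).hom

omit [IsLocalization S B] in
lemma subsingleton_HD_of_sloc (hη : SLoc S η) (j : ℤ) [Subsingleton (Dual.HD A ω j)] :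
    Subsingleton (Dual.HD A ((DRing.restrictD (algebraMap A B)).obj ωB) j) :=
  haveI := hη j
  IsLocalizedModule.subsingleton_of_subsingleton S ((H A j).map η).hom

omit [IsLocalization S B] in
lemma isGE_restrict_of_sloc (hη : SLoc S η) (n : ℤ) [ω.IsGE n] :
    ((DRing.restrictD (algebraMap A B)).obj ωB).IsGE n := by
  rw [DerivedCategory.isGE_iff]
  intro i hi
  haveI : Subsingleton (Dual.HD A ω i) :=
    ModuleCat.subsingleton_of_isZero (isZero_of_isGE ω n i hi)
  haveI := subsingleton_HD_of_sloc S hη i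
  exact ModuleCat.isZero_of_subsingleton _

omit [IsLocalization S B] S in
/-- semilinearity of `g ↦ η ≫ g|_A` -/
lemma comp_map_smul (η : ω ⟶ (DRing.restrictD (algebraMap A B)).obj ωB) {T : Dual.D B} (a : A)
    (g : ωB ⟶ T) :
    η ≫ (DRing.restrictD (algebraMap A B)).map ((algebraMap A B a) • g) =
      a • (η ≫ (DRing.restrictD (algebraMap A B)).map g) := by
  have h1 : (algebraMap A B a) • g = g ≫ ((algebraMap A B a) • 𝟙 T) := by
    rw [Linear.comp_smul, Category.comp_id]
  rw [h1, Functor.map_comp, restrictD_map_smul_id, Linear.comp_smul, Category.comp_id,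
    Linear.comp_smul]

end cohomology

end HomLoc

end Groth.Agent.Lib.Helper18.DR
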