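import Mathlib
import Groth.Agent.Lib.Helper18.HomLoc5
import Groth.Agent.Lib.Helper18.DRNoeth

/-!
# Dualizing complexes localize (helper18)
-/

set_option autoImplicit false
set_option linter.style.haveILetI false
universe u
open CategoryTheory CategoryTheory.Limits CategoryTheory.Pretriangulated DerivedCategory

attribute [local instance] HasDerivedCategory.standard

namespace Groth.Agent.Lib.Helper18.DR

namespace HomLoc

open DTen

section prelim

variable {A : Type u} [CommRing A]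

/-- the "finite injective dimension" clause of `Dual.IsDualizing` -/
def FidIn (ω : Dual.D A) (a b : ℤ) : Prop :=
  ∀ (M : Type u) [AddCommGroup M] [Module A M] (i : ℤ),
    (i < a ∨ b < i) → Subsingleton (Dual.inD A M ⟶ ω⟦i⟧)

lemma FidIn.hom_Sg_eq_zero {ω : Dual.D A} {a b : ℤ} (h : FidIn ω a b) (M : ModuleCat.{u} A)
    (i : ℤ) (hi : i < a ∨ b < i) (ψ : Sg i M ⟶ ω) : ψ = 0 := by
  have h1 : Subsingleton (Sg 0 M ⟶ ω⟦i⟧) := h M i hi
  have h2 := (subsingleton_extD_iff M ω i).1 h1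
  exact h2.elim _ _

lemma FidIn.isZero_H {ω : Dual.D A} {a b : ℤ} (h : FidIn ω a b) (i : ℤ) (hi : i < a ∨ b < i) :
    IsZero ((H A i).obj ω) :=
  isZero_H_of_subsingleton_hom ω i ⟨fun x y => by
    rw [h.hom_Sg_eq_zero _ i hi x, h.hom_Sg_eq_zero _ i hi y]⟩

lemma FidIn.isGE {ω : Dual.D A} {a b : ℤ} (h : FidIn ω a b) : ω.IsGE a := by
  rw [DerivedCategory.isGE_iff]
  exact fun i hi => h.isZero_H i (Or.inl hi)

lemma FidIn.isLE {ω : Dual.D A} {a b : ℤ} (h : FidIn ω a b) : ω.IsLE b := by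
  rw [DerivedCategory.isLE_iff]
  exact fun i hi => h.isZero_H i (Or.inr hi)

lemma isPseudoCoherent'_of_isLE_of_finite [IsNoetherianRing A] (ω : Dual.D A) (b : ℤ) [ω.IsLE b]
    (hfin : ∀ i : ℤ, Module.Finite A (Dual.HD A ω i)) : DRing.IsPseudoCoherent' A ω :=
  (isPseudoCoherent'_iff_forall ω).1 (fun n => (isPseudoCoherent_iff_of_noetherian n ω).2
    ⟨⟨b, fun j hj => ModuleCat.subsingleton_of_isZero (isZero_of_isLE ω b j hj)⟩,
      fun j _ => hfin j⟩)

lemma isPseudoCoherent'_Sg_of_finite [IsNoetherianRing A] (M : ModuleCat.{u} A)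
    [Module.Finite A M] (i : ℤ) : DRing.IsPseudoCoherent' A (Sg i M) :=
  isPseudoCoherent'_of_iso (SgShiftIso (-i) i 0 (by omega) M)
    (isPseudoCoherent'_shift (isPseudoCoherentModule'_of_finite_noetherian M) (-i))

end prelim

section quot

variable {A B : Type u} [CommRing A] [CommRing B] [Algebra A B]

/-- `B ⊗_A A/I ≅ B / IB` -/
noncomputable def extMQuotIso (I : Ideal A) :
    (extM (A := A) (B := B)).obj (ModuleCat.of A (A ⧸ I)) ≅
      ModuleCat.of B (B ⧸ I.map (algebraMap A B)) :=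
  ((extMEquiv (B := B) (ModuleCat.of A (A ⧸ I))).trans
    (Algebra.TensorProduct.quotIdealMapEquivTensorQuot B I).symm.toLinearEquiv).toModuleIso

end quot

section vanish

variable {A : Type u} [CommRing A] (S : Submonoid A) {B : Type u} [CommRing B] [Algebra A B]
  [IsLocalization S B] {ω : Dual.D A} {ωB : Dual.D B}
  {η : ω ⟶ (DRing.restrictD (algebraMap A B)).obj ωB}

lemma eq_zero_of_locProp_surj {N : Dual.D A} (h : LocProp S η N) (hvan : ∀ ψ : N ⟶ ω, ψ = 0)
    (g : N ⟶ (DRing.restrictD (algebraMap A B)).obj ωB) : g = 0 := by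
  obtain ⟨s, hs, ψ, hψ⟩ := h.surj g
  rw [hvan ψ, zero_comp] at hψ
  exact eq_zero_of_smul_eq_zero S ωB ⟨s, hs⟩ g hψ

end vanish


section main

variable {A : Type u} [CommRing A] [IsNoetherianRing A] (S : Submonoid A) {B : Type u} [CommRing B]
  [Algebra A B] [IsLocalization S B] {ω : Dual.D A} {ωB : Dual.D B}
  {η : ω ⟶ (DRing.restrictD (algebraMap A B)).obj ωB}

/-- finite injective dimension localizes -/
theorem fidIn_of_sloc (hη : SLoc S η) {a b : ℤ} (h : FidIn ω a b) : FidIn ωB a b := by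
  haveI := h.isGE
  haveI := isGE_restrict_of_sloc S hη a
  haveI : Module.Flat A B := IsLocalization.flat B S
  have h3 : ∀ (I' : Ideal B) (i : ℤ), (i < a ∨ b < i) →
      Subsingleton (DRing.ExtD B (Dual.inD B (B ⧸ I')) ωB i) := by
    intro I' i hi
    refine (subsingleton_extD_iff (ModuleCat.of B (B ⧸ I')) ωB i).2 ?_
    obtain ⟨I, rfl⟩ : ∃ I : Ideal A, I.map (algebraMap A B) = I' :=
      ⟨_, IsLocalization.map_comap S B I'⟩
    let M : ModuleCat.{u} A := ModuleCat.of A (A ⧸ I)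
    obtain ⟨eq⟩ := nonempty_homSg_equiv (B := B) M i ωB
    let iso : Sg i ((extM (A := A) (B := B)).obj M) ≅
        Sg i (ModuleCat.of B (B ⧸ I.map (algebraMap A B))) :=
      (singleFunctor (ModuleCat.{u} B) i).mapIso (extMQuotIso I)
    have hz : ∀ g : Sg i M ⟶ (DRing.restrictD (algebraMap A B)).obj ωB, g = 0 :=
      eq_zero_of_locProp_surj S
        (locProp_of_isPseudoCoherent' hη a _ (isPseudoCoherent'_Sg_of_finite M i))
        (h.hom_Sg_eq_zero M i hi)
    have key : ∀ x : Sg i (ModuleCat.of B (B ⧸ I.map (algebraMap A B))) ⟶ ωB, x = 0 := by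
      intro x
      have h1 : eq (iso.hom ≫ x) = eq 0 := (hz _).trans (hz _).symm
      have h2 := eq.injective h1
      rw [← cancel_epi iso.hom, h2, comp_zero]
    exact ⟨fun x y => by rw [key x, key y]⟩
  exact ((injAmp_tfae ωB a b).out 2 1).1 h3

/-- dualizing complexes localize -/
theorem isDualizing_of_isLocOf (hloc : IsLocOf S B ω ωB) (hω : Dual.IsDualizing A ω) :
    Dual.IsDualizing B ωB := by
  obtain ⟨η, hη, hb⟩ := hloc
  obtain ⟨a, b, hab⟩ := hω.finite_injective_dimension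
  have hfid : FidIn ω a b := hab
  haveI := hfid.isGE
  haveI := hfid.isLE
  haveI := isGE_restrict_of_sloc S hη a
  have hpc : DRing.IsPseudoCoherent' A ω :=
    isPseudoCoherent'_of_isLE_of_finite ω b hω.finite_cohomology
  have hLP : LocProp S η ω := locProp_of_isPseudoCoherent' hη a ω hpc
  refine ⟨IsLocalization.isNoetherianRing S B inferInstance, ⟨a, b, fidIn_of_sloc S hη hfid⟩,
    fun j => ?_, ⟨?_, ?_⟩, ?_⟩
  · haveI := hω.finite_cohomology j
    exact finite_HD_of_sloc S hη j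
  · intro b₁ b₂ h12
    replace h12 : b₁ • 𝟙 ωB = b₂ • 𝟙 ωB := h12
    have h0 : (b₁ - b₂) • 𝟙 ωB = 0 := by rw [sub_smul, h12, sub_self]
    obtain ⟨⟨a₀, s⟩, has⟩ := IsLocalization.surj S (b₁ - b₂)
    replace has : (b₁ - b₂) * algebraMap A B (s : A) = algebraMap A B a₀ := has
    have h1 : (algebraMap A B a₀) • 𝟙 ωB = 0 := by
      rw [← has, mul_comm, mul_smul, h0, smul_zero]
    have h2 : (a₀ • 𝟙 ω) ≫ η = 0 := by
      have := comp_map_smul η a₀ (𝟙 ωB)
      rw [h1, Functor.map_zero, comp_zero, CategoryTheory.Functor.map_id, Category.comp_id] at this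
      rw [Linear.smul_comp, Category.id_comp]
      exact this.symm
    obtain ⟨t, ht, h3⟩ := hLP.inj _ h2
    have h4 : (t * a₀) • 𝟙 ω = (0 : A) • 𝟙 ω := by rw [mul_smul, h3, zero_smul]
    have h5 : t * a₀ = 0 := hω.toEnd_bijective.1 h4
    have h6 : algebraMap A B a₀ = 0 := (IsLocalization.map_eq_zero_iff S B a₀).2 ⟨⟨t, ht⟩, h5⟩
    have h7 : b₁ - b₂ = 0 :=
      (IsLocalization.map_units B s).mul_left_eq_zero.1 (by rw [has, h6])
    exact sub_eq_zero.1 h7
  · intro x
    obtain ⟨s, hs, ψ, hψ⟩ := hLP.surj (η ≫ (DRing.restrictD (algebraMap A B)).map x)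
    obtain ⟨a₀, ha₀⟩ := hω.toEnd_bijective.2 ψ
    replace ha₀ : a₀ • 𝟙 ω = ψ := ha₀
    have h1 : η ≫ (DRing.restrictD (algebraMap A B)).map ((algebraMap A B s) • x) =
        η ≫ (DRing.restrictD (algebraMap A B)).map ((algebraMap A B a₀) • 𝟙 ωB) := by
      rw [comp_map_smul, comp_map_smul, hψ, ← ha₀, CategoryTheory.Functor.map_id,
        Category.comp_id, Linear.smul_comp, Category.id_comp]
    have h2 : (algebraMap A B s) • x = (algebraMap A B a₀) • 𝟙 ωB := (hb ωB).1 h1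
    obtain ⟨u, hu⟩ := IsLocalization.map_units B (⟨s, hs⟩ : S)
    replace hu : (u : B) = algebraMap A B s := hu
    refine ⟨↑u⁻¹ * algebraMap A B a₀, ?_⟩
    change (↑u⁻¹ * algebraMap A B a₀) • 𝟙 ωB = x
    rw [mul_smul, ← h2, smul_smul, ← hu, Units.inv_mul, one_smul]
  · intro i hi
    suffices key : ∀ x : ωB ⟶ ωB⟦i⟧, x = 0 from ⟨fun x y => by rw [key x, key y]⟩
    intro x
    let c := ((DRing.restrictD (algebraMap A B)).commShiftIso i).app ωB
    haveI : (ω⟦i⟧).IsGE (a - i) := TStructure.t.isGE_shift ω a i (a - i) (by omega)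
    haveI : (((DRing.restrictD (algebraMap A B)).obj ωB)⟦i⟧).IsGE (a - i) :=
      TStructure.t.isGE_shift _ a i (a - i) (by omega)
    have hLPi : LocProp S (η⟦i⟧') ω := locProp_of_isPseudoCoherent' (hη.shift i) (a - i) ω hpc
    obtain ⟨s, hs, ψ, hψ⟩ := hLPi.surj ((η ≫ (DRing.restrictD (algebraMap A B)).map x) ≫ c.hom)
    have hψ0 : ψ = 0 := (hω.ext_self_subsingleton i hi).elim _ _
    rw [hψ0, zero_comp] at hψ
    have h1 : s • (η ≫ (DRing.restrictD (algebraMap A B)).map x) = 0 := by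
      rw [← cancel_mono c.hom, zero_comp, Linear.smul_comp]
      exact hψ
    have h2 : η ≫ (DRing.restrictD (algebraMap A B)).map x = 0 :=
      eq_zero_of_smul_eq_zero S (ωB⟦i⟧) ⟨s, hs⟩ _ h1
    have h3 : η ≫ (DRing.restrictD (algebraMap A B)).map x =
        η ≫ (DRing.restrictD (algebraMap A B)).map 0 := by
      rw [h2, Functor.map_zero, comp_zero]
    exact (hb _).1 h3

end main

end HomLoc

end Groth.Agent.Lib.Helper18.DR
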