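import Mathlib
import Groth.Agent.Lib.Helper18.HomLoc6

/-!
# Dualizing complexes: local to global (helper18)
-/

set_option autoImplicit false
set_option linter.style.haveILetI false
universe u
open CategoryTheory CategoryTheory.Limits CategoryTheory.Pretriangulated DerivedCategory

attribute [local instance] HasDerivedCategory.standard

namespace Groth.Agent.Lib.Helper18.DR

namespace HomLoc

open DTen

section perIndex

variable {A : Type u} [CommRing A] [IsNoetherianRing A] (S : Submonoid A) {B : Type u} [CommRing B]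
  [Algebra A B] [IsLocalization S B] {ω : Dual.D A} {ωB : Dual.D B}

lemma exists_smul_hom_shift_eq_zero (hloc : IsLocOf S B ω ωB) (hpc : DRing.IsPseudoCoherent' A ω)
    (n₀ : ℤ) [ω.IsGE n₀] (i : ℤ) (hB : Subsingleton (ωB ⟶ ωB⟦i⟧)) (g : ω ⟶ ω⟦i⟧) :
    ∃ s ∈ S, s • g = 0 := by
  obtain ⟨η, hη, hb⟩ := hloc
  haveI := isGE_restrict_of_sloc S hη n₀
  let c := ((DRing.restrictD (algebraMap A B)).commShiftIso i).app ωB
  haveI : (ω⟦i⟧).IsGE (n₀ - i) := TStructure.t.isGE_shift ω n₀ i (n₀ - i) (by omega)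
  haveI : (((DRing.restrictD (algebraMap A B)).obj ωB)⟦i⟧).IsGE (n₀ - i) :=
    TStructure.t.isGE_shift _ n₀ i (n₀ - i) (by omega)
  have hLPi : LocProp S (η⟦i⟧') ω := locProp_of_isPseudoCoherent' (hη.shift i) (n₀ - i) ω hpc
  obtain ⟨x, hx⟩ := (hb (ωB⟦i⟧)).2 ((g ≫ η⟦i⟧') ≫ c.inv)
  replace hx : η ≫ (DRing.restrictD (algebraMap A B)).map x = (g ≫ η⟦i⟧') ≫ c.inv := hx
  have hx0 : x = 0 := hB.elim _ _
  rw [hx0, Functor.map_zero, comp_zero] at hx
  have h1 : g ≫ η⟦i⟧' = 0 := by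
    rw [← cancel_mono c.inv, zero_comp]
    exact hx.symm
  exact hLPi.inj g h1

lemma exists_smul_end_eq (hloc : IsLocOf S B ω ωB) (hpc : DRing.IsPseudoCoherent' A ω)
    (n₀ : ℤ) [ω.IsGE n₀] (hB : Function.Surjective (fun b : B => b • 𝟙 ωB)) (g : ω ⟶ ω) :
    ∃ s ∈ S, ∃ a : A, s • g = a • 𝟙 ω := by
  obtain ⟨η, hη, hb⟩ := hloc
  haveI := isGE_restrict_of_sloc S hη n₀
  have hLP : LocProp S η ω := locProp_of_isPseudoCoherent' hη n₀ ω hpc
  obtain ⟨x, hx⟩ := (hb ωB).2 (g ≫ η)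
  replace hx : η ≫ (DRing.restrictD (algebraMap A B)).map x = g ≫ η := hx
  obtain ⟨b, hb'⟩ := hB x
  replace hb' : b • 𝟙 ωB = x := hb'
  obtain ⟨⟨a₀, s⟩, has⟩ := IsLocalization.surj S b
  replace has : b * algebraMap A B (s : A) = algebraMap A B a₀ := has
  have h1 : ((s : A) • g - a₀ • 𝟙 ω) ≫ η = 0 := by
    have e1 := comp_map_smul η (s : A) x
    have e2 := comp_map_smul η a₀ (𝟙 ωB)
    rw [CategoryTheory.Functor.map_id, Category.comp_id] at e2
    have e3 : (algebraMap A B (s : A)) • x = (algebraMap A B a₀) • 𝟙 ωB := by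
      rw [← hb', smul_smul, mul_comm, has]
    rw [e3, e2, hx] at e1
    rw [Preadditive.sub_comp, Linear.smul_comp, Linear.smul_comp, Category.id_comp, e1, sub_self]
  obtain ⟨t, ht, h2⟩ := hLP.inj _ h1
  refine ⟨t * s, S.mul_mem ht s.2, t * a₀, ?_⟩
  rw [smul_sub, sub_eq_zero] at h2
  rw [mul_smul, mul_smul]
  exact h2

omit [IsNoetherianRing A] in
lemma exists_mul_eq_zero (hloc : IsLocOf S B ω ωB)
    (hB : Function.Injective (fun b : B => b • 𝟙 ωB)) (a : A) (ha : a • 𝟙 ω = 0) :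
    ∃ s ∈ S, s * a = 0 := by
  obtain ⟨η, hη, hb⟩ := hloc
  have e2 := comp_map_smul η a (𝟙 ωB)
  rw [CategoryTheory.Functor.map_id, Category.comp_id] at e2
  have e3 : a • η = 0 := by
    have : a • η = (a • 𝟙 ω) ≫ η := by rw [Linear.smul_comp, Category.id_comp]
    rw [this, ha, zero_comp]
  rw [e3] at e2
  have e4 : η ≫ (DRing.restrictD (algebraMap A B)).map ((algebraMap A B a) • 𝟙 ωB) =
      η ≫ (DRing.restrictD (algebraMap A B)).map 0 := by
    rw [e2, Functor.map_zero, comp_zero]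
  have e5 : (algebraMap A B a) • 𝟙 ωB = 0 := (hb ωB).1 e4
  have e6 : algebraMap A B a = 0 := hB (by
    change (algebraMap A B a) • 𝟙 ωB = (0 : B) • 𝟙 ωB
    rw [e5, zero_smul])
  obtain ⟨m, hm⟩ := (IsLocalization.map_eq_zero_iff S B a).1 e6
  exact ⟨m, m.2, hm⟩

lemma exists_smul_homSg_eq_zero (hloc : IsLocOf S B ω ωB) (n₀ : ℤ) [ω.IsGE n₀]
    (M : ModuleCat.{u} A) [Module.Finite A M] (i : ℤ)
    (hvan : ∀ x : Sg i ((extM (A := A) (B := B)).obj M) ⟶ ωB, x = 0) (g : Sg i M ⟶ ω) :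
    ∃ s ∈ S, s • g = 0 := by
  obtain ⟨η, hη, hb⟩ := hloc
  haveI := isGE_restrict_of_sloc S hη n₀
  haveI : Module.Flat A B := IsLocalization.flat B S
  have hLP : LocProp S η (Sg i M) :=
    locProp_of_isPseudoCoherent' hη n₀ _ (isPseudoCoherent'_Sg_of_finite M i)
  obtain ⟨eq⟩ := nonempty_homSg_equiv (B := B) M i ωB
  refine hLP.inj g ?_
  have h1 : eq.symm (g ≫ η) = eq.symm 0 := (hvan _).trans (hvan _).symm
  exact eq.symm.injective h1

omit [IsNoetherianRing A] in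
lemma exists_smul_H_eq_zero (hloc : IsLocOf S B ω ωB) (j : ℤ)
    (hz : IsZero ((H B j).obj ωB)) (x : (H A j).obj ω) : ∃ s ∈ S, s • x = 0 := by
  obtain ⟨η, hη, hb⟩ := hloc
  haveI := isLocalizedModule_Hη S hη j
  have h0 : (Hη η j).hom x = 0 := by
    haveI : Subsingleton ((H B j).obj ωB) := ModuleCat.subsingleton_of_isZero hz
    exact Subsingleton.elim (α := ((H B j).obj ωB)) _ _
  obtain ⟨c, hc⟩ := (IsLocalizedModule.eq_zero_iff S (Hη η j).hom).1 h0
  exact ⟨c, c.2, hc⟩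

end perIndex


section global

variable {A : Type u} [CommRing A]

/-- a covering family of submonoids -/
def Covers {ι : Type*} (S : ι → Submonoid A) : Prop :=
  ∀ I : Ideal A, (∀ k, ∃ s ∈ S k, s ∈ I) → I = ⊤

lemma Covers.eq_zero {ι : Type*} {S : ι → Submonoid A} (hS : Covers S) {M : Type*}
    [AddCommGroup M] [Module A M] (x : M) (h : ∀ k, ∃ s ∈ S k, s • x = 0) : x = 0 := by
  have h1 := hS (LinearMap.ker (LinearMap.toSpanSingleton A M x)) (fun k => by
    obtain ⟨s, hs, hsx⟩ := h k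
    exact ⟨s, hs, by rw [LinearMap.mem_ker, LinearMap.toSpanSingleton_apply]; exact hsx⟩)
  have h2 : (1 : A) ∈ LinearMap.ker (LinearMap.toSpanSingleton A M x) := by
    rw [h1]; exact Submodule.mem_top
  rw [LinearMap.mem_ker, LinearMap.toSpanSingleton_apply, one_smul] at h2
  exact h2

lemma Covers.mem_range {ι : Type*} {S : ι → Submonoid A} (hS : Covers S) {M N : Type*}
    [AddCommGroup M] [Module A M] [AddCommGroup N] [Module A N] (θ : N →ₗ[A] M) (x : M)
    (h : ∀ k, ∃ s ∈ S k, ∃ y : N, s • x = θ y) : ∃ y : N, θ y = x := by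
  have h1 := hS ((LinearMap.range θ).comap (LinearMap.toSpanSingleton A M x)) (fun k => by
    obtain ⟨s, hs, y, hy⟩ := h k
    refine ⟨s, hs, ?_⟩
    rw [Submodule.mem_comap, LinearMap.toSpanSingleton_apply, hy]
    exact LinearMap.mem_range_self θ y)
  have h2 : (1 : A) ∈ (LinearMap.range θ).comap (LinearMap.toSpanSingleton A M x) := by
    rw [h1]; exact Submodule.mem_top
  rw [Submodule.mem_comap, LinearMap.toSpanSingleton_apply, one_smul] at h2
  exact h2

lemma covers_maximal : Covers (fun k : {m : Ideal A // m.IsMaximal} =>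
    @Ideal.primeCompl A _ k.1 k.2.isPrime) := by
  intro I hI
  by_contra hne
  obtain ⟨m, hm, hIm⟩ := Ideal.exists_le_maximal I hne
  obtain ⟨s, hs, hsI⟩ := hI ⟨m, hm⟩
  exact hs (hIm hsI)

lemma covers_prime : Covers (fun p : PrimeSpectrum A => p.asIdeal.primeCompl) := by
  intro I hI
  by_contra hne
  obtain ⟨m, hm, hIm⟩ := Ideal.exists_le_maximal I hne
  obtain ⟨s, hs, hsI⟩ := hI ⟨m, hm.isPrime⟩
  exact hs (hIm hsI)

lemma covers_powers {ι : Type*} (f : ι → A) (hf : Ideal.span (Set.range f) = ⊤) :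
    Covers (fun k => Submonoid.powers (f k)) := by
  intro I hI
  by_contra hne
  obtain ⟨m, hm, hIm⟩ := Ideal.exists_le_maximal I hne
  have h1 : Ideal.span (Set.range f) ≤ m := by
    rw [Ideal.span_le]
    rintro _ ⟨k, rfl⟩
    obtain ⟨s, ⟨n, rfl⟩, hsI⟩ := hI k
    exact hm.isPrime.mem_of_pow_mem n (hIm hsI)
  rw [hf] at h1
  exact hm.ne_top (top_le_iff.1 h1)

variable [IsNoetherianRing A]

lemma FidIn.mono {ω : Dual.D A} {a b a' b' : ℤ} (h : FidIn ω a' b') (ha : a ≤ a') (hb : b' ≤ b) :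
    FidIn ω a b := fun M _ _ i hi => h M i (by omega)

/-- local to global for dualizing complexes, given the global finiteness conditions -/
theorem isDualizing_of_covers {ω : Dual.D A} {a b : ℤ} (hfid : FidIn ω a b)
    (hfin : ∀ i : ℤ, Module.Finite A (Dual.HD A ω i))
    {ι : Type*} (S : ι → Submonoid A) (hcov : Covers S) (B : ι → Type u) [∀ k, CommRing (B k)]
    [∀ k, Algebra A (B k)] [∀ k, IsLocalization (S k) (B k)] (ωB : ∀ k, Dual.D (B k))
    (hloc : ∀ k, IsLocOf (S k) (B k) ω (ωB k)) (hdual : ∀ k, Dual.IsDualizing (B k) (ωB k)) :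
    Dual.IsDualizing A ω := by
  haveI := hfid.isGE
  haveI := hfid.isLE
  have hpc : DRing.IsPseudoCoherent' A ω := isPseudoCoherent'_of_isLE_of_finite ω b hfin
  refine ⟨inferInstance, ⟨a, b, hfid⟩, hfin, ⟨?_, ?_⟩, ?_⟩
  · intro a₁ a₂ h12
    replace h12 : a₁ • 𝟙 ω = a₂ • 𝟙 ω := h12
    have h0 : (a₁ - a₂) • 𝟙 ω = 0 := by rw [sub_smul, h12, sub_self]
    have := hcov.eq_zero (M := A) (a₁ - a₂) (fun k =>
      exists_mul_eq_zero (S k) (hloc k) (hdual k).toEnd_bijective.1 _ h0)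
    exact sub_eq_zero.1 this
  · intro g
    obtain ⟨y, hy⟩ := hcov.mem_range (LinearMap.toSpanSingleton A (ω ⟶ ω) (𝟙 ω)) g (fun k => by
      obtain ⟨s, hs, a₀, h⟩ := exists_smul_end_eq (S k) (hloc k) hpc a
        (hdual k).toEnd_bijective.2 g
      exact ⟨s, hs, a₀, by rw [LinearMap.toSpanSingleton_apply]; exact h⟩)
    rw [LinearMap.toSpanSingleton_apply] at hy
    exact ⟨y, hy⟩
  · intro i hi
    suffices key : ∀ x : ω ⟶ ω⟦i⟧, x = 0 from ⟨fun x y => by rw [key x, key y]⟩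
    intro g
    exact hcov.eq_zero g (fun k =>
      exists_smul_hom_shift_eq_zero (S k) (hloc k) hpc a i
        ((hdual k).ext_self_subsingleton i hi) g)

/-- finite injective dimension is local (given boundedness below) -/
theorem fidIn_of_covers {ω : Dual.D A} {a b : ℤ}
    {ι : Type*} (S : ι → Submonoid A) (hcov : Covers S) (B : ι → Type u) [∀ k, CommRing (B k)]
    [∀ k, Algebra A (B k)] [∀ k, IsLocalization (S k) (B k)] (ωB : ∀ k, Dual.D (B k))
    (hloc : ∀ k, IsLocOf (S k) (B k) ω (ωB k)) (hB : ∀ k, FidIn (ωB k) a b) : FidIn ω a b := by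
  -- boundedness below
  haveI : ω.IsGE a := by
    rw [DerivedCategory.isGE_iff]
    intro j hj
    haveI : Subsingleton ((H A j).obj ω) := ⟨fun x y => by
      have key : ∀ z : (H A j).obj ω, z = 0 := fun z =>
        hcov.eq_zero z (fun k =>
          exists_smul_H_eq_zero (S k) (hloc k) j ((hB k).isZero_H j (Or.inl hj)) z)
      rw [key x, key y]⟩
    exact ModuleCat.isZero_of_subsingleton _
  have h3 : ∀ (I : Ideal A) (i : ℤ), (i < a ∨ b < i) →
      Subsingleton (DRing.ExtD A (Dual.inD A (A ⧸ I)) ω i) := by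
    intro I i hi
    refine (subsingleton_extD_iff (ModuleCat.of A (A ⧸ I)) ω i).2 ?_
    suffices key : ∀ x : Sg i (ModuleCat.of A (A ⧸ I)) ⟶ ω, x = 0 from
      ⟨fun x y => by rw [key x, key y]⟩
    intro g
    exact hcov.eq_zero g (fun k =>
      exists_smul_homSg_eq_zero (S k) (hloc k) a (ModuleCat.of A (A ⧸ I)) i
        (fun x => (hB k).hom_Sg_eq_zero _ i hi x) g)
  exact ((injAmp_tfae ω a b).out 2 1).1 h3

end global

end HomLoc

end Groth.Agent.Lib.Helper18.DR
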