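import Mathlib
import Groth.Agent.Lib.Helper18.HomLoc7

/-!
# Flat base change for `Hom` out of a pseudo-coherent object, I (helper18)

For `B` flat over `A`, the comparison map
`Ψ : B ⊗_A Hom_{D(A)}(N, L) ⟶ Hom_{D(B)}(N ⊗ B, L ⊗ B)`; formal properties (naturality, triangles).
-/

set_option autoImplicit false
set_option linter.style.haveILetI false
universe u
open CategoryTheory CategoryTheory.Limits CategoryTheory.Pretriangulated DerivedCategory
open TensorProduct

attribute [local instance] HasDerivedCategory.standard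

namespace Groth.Agent.Lib.Helper18.DR

namespace HomBC

section general

variable {C : Type*} [Category C] [Preadditive C] [HasZeroObject C] [HasShift C ℤ]
  [∀ n : ℤ, (shiftFunctor C n).Additive] [Pretriangulated C]

lemma exact_leftComp (T : Triangle C) (hT : T ∈ distTriang C) (X : C) :
    Function.Exact (Preadditive.leftComp X T.mor₂) (Preadditive.leftComp X T.mor₁) := by
  intro g
  constructor
  · intro hg
    obtain ⟨h, hh⟩ := Triangle.yoneda_exact₂ T hT g hg
    exact ⟨h, hh.symm⟩
  · rintro ⟨h, rfl⟩
    change T.mor₁ ≫ T.mor₂ ≫ h = 0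
    rw [← Category.assoc, comp_distTriang_mor_zero₁₂ _ hT, zero_comp]

end general

section smul

variable {A B : Type u} [CommRing A] [CommRing B] [Algebra A B] [Module.Flat A B]

lemma extM_map_smul_id (a : A) (M : ModuleCat.{u} A) :
    (extM (A := A) (B := B)).map (a • 𝟙 M) = (algebraMap A B a) • 𝟙 _ := by
  apply ModuleCat.hom_ext
  apply LinearMap.ext
  intro x
  apply (extMEquiv (B := B) M).injective
  rw [extMEquiv_naturality, ModuleCat.hom_smul, ModuleCat.hom_id, LinearMap.lTensor_smul,
    LinearMap.lTensor_id, LinearMap.smul_apply, LinearMap.id_apply, ModuleCat.hom_smul,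
    ModuleCat.hom_id, LinearMap.smul_apply, LinearMap.id_apply, map_smul, algebraMap_smul]

lemma extCx_map_smul_id (a : A) (K : DRing.Cx A) :
    ((extM (A := A) (B := B)).mapHomologicalComplex (ComplexShape.up ℤ)).map (a • 𝟙 K) =
      (algebraMap A B a) • 𝟙 _ := by
  ext i : 1
  exact extM_map_smul_id a (K.X i)

lemma extD_map_smul_id (a : A) (X : Dual.D A) :
    (extD A B).map (a • 𝟙 X) = (algebraMap A B a) • 𝟙 _ := by
  let K' := DerivedCategory.Q.objPreimage X
  let e : DerivedCategory.Q.obj K' ≅ X := DerivedCategory.Q.objObjPreimageIso X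
  have h1 : a • 𝟙 X = e.inv ≫ DerivedCategory.Q.map (a • 𝟙 K') ≫ e.hom := by
    rw [Functor.map_smul, CategoryTheory.Functor.map_id, Linear.smul_comp, Linear.comp_smul,
      Category.id_comp, Iso.inv_hom_id]
  have h3 := (extM (A := A) (B := B)).mapDerivedCategoryFactors_hom_naturality (a • 𝟙 K')
  rw [extCx_map_smul_id] at h3
  have h5 : DerivedCategory.Q.map ((algebraMap A B a) • 𝟙 (((extM (A := A)
      (B := B)).mapHomologicalComplex (ComplexShape.up ℤ)).obj K')) = (algebraMap A B a) • 𝟙 _ := by
    rw [Functor.map_smul, CategoryTheory.Functor.map_id]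
  rw [h5, Linear.comp_smul] at h3
  erw [Category.comp_id] at h3
  have h4 : (extD A B).map (DerivedCategory.Q.map (a • 𝟙 K')) = (algebraMap A B a) • 𝟙 _ := by
    rw [← cancel_mono ((extM (A := A) (B := B)).mapDerivedCategoryFactors.hom.app K')]
    rw [Linear.smul_comp, Category.id_comp]
    exact h3
  rw [h1, Functor.map_comp, Functor.map_comp, h4, Linear.smul_comp, Linear.comp_smul,
    Category.id_comp, ← Functor.map_comp, Iso.inv_hom_id, CategoryTheory.Functor.map_id]

lemma extD_map_smul (a : A) {X Y : Dual.D A} (f : X ⟶ Y) :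
    (extD A B).map (a • f) = (algebraMap A B a) • (extD A B).map f := by
  have h1 : a • f = (a • 𝟙 X) ≫ f := by rw [Linear.smul_comp, Category.id_comp]
  rw [h1, Functor.map_comp, extD_map_smul_id, Linear.smul_comp, Category.id_comp]

end smul

section psi

variable {A B : Type u} [CommRing A] [CommRing B] [Algebra A B] [Module.Flat A B]

/-- the comparison map `B ⊗_A Hom(N, L) ⟶ Hom(N_B, L_B)` -/
noncomputable def Ψ (N L : Dual.D A) :
    B ⊗[A] (N ⟶ L) →+ ((extD A B).obj N ⟶ (extD A B).obj L) :=
  TensorProduct.liftAddHom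
    { toFun := fun b =>
        { toFun := fun ψ => b • (extD A B).map ψ
          map_zero' := by rw [Functor.map_zero, smul_zero]
          map_add' := fun ψ ψ' => by rw [Functor.map_add, smul_add] }
      map_zero' := by
        ext ψ
        change (0 : B) • (extD A B).map ψ = 0
        rw [zero_smul]
      map_add' := fun b b' => by
        ext ψ
        change (b + b') • (extD A B).map ψ = b • (extD A B).map ψ + b' • (extD A B).map ψ
        rw [add_smul] }
    (fun a b ψ => by
      change (a • b) • (extD A B).map ψ = b • (extD A B).map (a • ψ)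
      rw [extD_map_smul, smul_smul, Algebra.smul_def, mul_comm])

@[simp] lemma Ψ_tmul (N L : Dual.D A) (b : B) (ψ : N ⟶ L) :
    Ψ (B := B) N L (b ⊗ₜ[A] ψ) = b • (extD A B).map ψ := rfl

lemma Ψ_naturality {N N' : Dual.D A} (L : Dual.D A) (f : N' ⟶ N) (z : B ⊗[A] (N ⟶ L)) :
    Ψ (B := B) N' L ((Linear.leftComp A L f).lTensor B z) = (extD A B).map f ≫ Ψ (B := B) N L z := by
  induction z using TensorProduct.induction_on with
  | zero => simp
  | add x y hx hy => rw [map_add, map_add, hx, hy, map_add, Preadditive.comp_add]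
  | tmul b ψ =>
    rw [LinearMap.lTensor_tmul, Ψ_tmul, Ψ_tmul, Linear.leftComp_apply, Functor.map_comp,
      Linear.comp_smul]

/-- the base change property -/
def BCProp (L N : Dual.D A) : Prop := Function.Bijective (Ψ (B := B) N L)

variable {L : Dual.D A}

lemma BCProp.of_iso {N N' : Dual.D A} (e : N ≅ N') (h : BCProp (B := B) L N) :
    BCProp (B := B) L N' := by
  have hb : Function.Bijective ((Linear.leftComp A L e.hom).lTensor B) := by
    have h1 : Function.Bijective (Linear.leftComp A L e.hom) := by
      constructor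
      · intro x y hxy
        exact (cancel_epi e.hom).1 hxy
      · intro x
        refine ⟨e.inv ≫ x, ?_⟩
        change e.hom ≫ e.inv ≫ x = x
        rw [Iso.hom_inv_id_assoc]
    exact ((LinearEquiv.ofBijective _ h1).lTensor B).bijective
  have hc : Function.Bijective (fun g : (extD A B).obj N ⟶ (extD A B).obj L =>
      (extD A B).map e.inv ≫ g) := by
    constructor
    · intro x y hxy
      exact (cancel_epi ((extD A B).map e.inv)).1 hxy
    · intro x
      refine ⟨(extD A B).map e.hom ≫ x, ?_⟩
      change (extD A B).map e.inv ≫ (extD A B).map e.hom ≫ x = x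
      rw [← Functor.map_comp_assoc, Iso.inv_hom_id, CategoryTheory.Functor.map_id,
        Category.id_comp]
  -- Ψ_N ∘ (e.hom ≫ -) = (extD e.hom ≫ -) ∘ Ψ_{N'}
  have key : ∀ z, Ψ (B := B) N L ((Linear.leftComp A L e.hom).lTensor B z) =
      (extD A B).map e.hom ≫ Ψ (B := B) N' L z := Ψ_naturality L e.hom
  have h2 : (fun z => Ψ (B := B) N' L z) = fun z =>
      (extD A B).map e.inv ≫ Ψ (B := B) N L ((Linear.leftComp A L e.hom).lTensor B z) := by
    funext z
    rw [key, ← Functor.map_comp_assoc, Iso.inv_hom_id, CategoryTheory.Functor.map_id,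
      Category.id_comp]
  change Function.Bijective (fun z => Ψ (B := B) N' L z)
  rw [h2]
  exact hc.comp (h.comp hb)

lemma subsingleton_tensor_of_subsingleton (M : Type*) [AddCommGroup M] [Module A M]
    [Subsingleton M] : Subsingleton (B ⊗[A] M) := by
  refine ⟨fun x y => ?_⟩
  have h0 : ∀ z : B ⊗[A] M, z = 0 := by
    intro z
    induction z using TensorProduct.induction_on with
    | zero => rfl
    | tmul b m => rw [Subsingleton.elim m 0, TensorProduct.tmul_zero]
    | add x y hx hy => rw [hx, hy, add_zero]
  rw [h0 x, h0 y]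

lemma BCProp.of_isZero {N : Dual.D A} (hN : IsZero N) : BCProp (B := B) L N := by
  haveI : Subsingleton (N ⟶ L) := ⟨fun x y => hN.eq_of_src x y⟩
  haveI := subsingleton_tensor_of_subsingleton (A := A) (B := B) (N ⟶ L)
  have hN' : IsZero ((extD A B).obj N) := (extD A B).map_isZero hN
  constructor
  · intro x y _
    exact Subsingleton.elim x y
  · intro g
    exact ⟨0, hN'.eq_of_src _ _⟩

end psi

end HomBC

end Groth.Agent.Lib.Helper18.DR
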