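import Mathlib
import Groth.Agent.Lib.Helper18.BCHom1

/-!
# Flat base change for `Hom` out of a pseudo-coherent object, II: triangles (helper18)
-/

set_option autoImplicit false
set_option linter.style.haveILetI false
universe u
open CategoryTheory CategoryTheory.Limits CategoryTheory.Pretriangulated DerivedCategory
open TensorProduct

attribute [local instance] HasDerivedCategory.standard

namespace Groth.Agent.Lib.Helper18.DR

namespace HomBC

variable {A B : Type u} [CommRing A] [CommRing B] [Algebra A B] [Module.Flat A B]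
  {L : Dual.D A}

lemma exact_lTensor_leftComp (T : Triangle (Dual.D A)) (hT : T ∈ distTriang (Dual.D A)) :
    Function.Exact ((Linear.leftComp A L T.mor₂).lTensor B)
      ((Linear.leftComp A L T.mor₁).lTensor B) :=
  Module.Flat.lTensor_exact B (exact_leftComp T hT L)

lemma exact_leftComp_extD (T : Triangle (Dual.D A)) (hT : T ∈ distTriang (Dual.D A)) :
    Function.Exact (Preadditive.leftComp ((extD A B).obj L) ((extD A B).map T.mor₂))
      (Preadditive.leftComp ((extD A B).obj L) ((extD A B).map T.mor₁)) :=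
  exact_leftComp _ ((extD A B).map_distinguished T hT) ((extD A B).obj L)

theorem BCProp.of_triangle (T : Triangle (Dual.D A)) (hT : T ∈ distTriang (Dual.D A))
    (h₁ : BCProp (B := B) L T.obj₁) (h₁' : BCProp (B := B) L (T.obj₁⟦(1 : ℤ)⟧))
    (h₃ : BCProp (B := B) L T.obj₃) (h₃' : BCProp (B := B) L (T.obj₃⟦(-1 : ℤ)⟧)) :
    BCProp (B := B) L T.obj₂ := by
  have hTr := rot_of_distTriang _ hT
  have hTi := inv_rot_of_distTriang _ hT
  refine AddMonoidHom.bijective_of_surjective_of_bijective_of_bijective_of_injective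
    (f₁ := ((Linear.leftComp A L T.mor₃).lTensor B).toAddMonoidHom)
    (f₂ := ((Linear.leftComp A L T.mor₂).lTensor B).toAddMonoidHom)
    (f₃ := ((Linear.leftComp A L T.mor₁).lTensor B).toAddMonoidHom)
    (f₄ := ((Linear.leftComp A L T.invRotate.mor₁).lTensor B).toAddMonoidHom)
    (g₁ := Preadditive.leftComp ((extD A B).obj L) ((extD A B).map T.mor₃))
    (g₂ := Preadditive.leftComp ((extD A B).obj L) ((extD A B).map T.mor₂))
    (g₃ := Preadditive.leftComp ((extD A B).obj L) ((extD A B).map T.mor₁))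
    (g₄ := Preadditive.leftComp ((extD A B).obj L) ((extD A B).map T.invRotate.mor₁))
    (i₁ := Ψ (B := B) (T.obj₁⟦(1 : ℤ)⟧) L) (i₂ := Ψ (B := B) T.obj₃ L)
    (i₃ := Ψ (B := B) T.obj₂ L) (i₄ := Ψ (B := B) T.obj₁ L)
    (i₅ := Ψ (B := B) (T.obj₃⟦(-1 : ℤ)⟧) L) ?_ ?_ ?_ ?_ ?_ ?_ ?_ ?_ ?_ ?_ h₁'.2 h₃ h₁ h₃'.1
  · ext z
    exact (Ψ_naturality L T.mor₃ z).symm
  · ext z
    exact (Ψ_naturality L T.mor₂ z).symm
  · ext z
    exact (Ψ_naturality L T.mor₁ z).symm
  · ext z
    exact (Ψ_naturality L T.invRotate.mor₁ z).symm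
  · exact exact_lTensor_leftComp (B := B) T.rotate hTr
  · exact exact_lTensor_leftComp (B := B) T hT
  · exact exact_lTensor_leftComp (B := B) T.invRotate hTi
  · exact exact_leftComp_extD (B := B) T.rotate hTr
  · exact exact_leftComp_extD (B := B) T hT
  · exact exact_leftComp_extD (B := B) T.invRotate hTi

end HomBC

end Groth.Agent.Lib.Helper18.DR
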