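import Mathlib
import Groth.Agent.Lib.Helper18.BCHom2

/-!
# Flat base change for `Hom`, III: cohomology commutes with an exact functor, naturally (helper18)
-/

set_option autoImplicit false
set_option linter.style.haveILetI false
universe u
open CategoryTheory CategoryTheory.Limits CategoryTheory.Pretriangulated DerivedCategory
open TensorProduct

attribute [local instance] HasDerivedCategory.standard

namespace Groth.Agent.Lib.Helper18.DR

namespace HomBC

section natiso

variable {A B : Type u} [CommRing A] [CommRing B]
  (G : ModuleCat.{u} A ⥤ ModuleCat.{u} B) [G.Additive] [PreservesFiniteLimits G]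
  [PreservesFiniteColimits G]

/-- homology of complexes commutes with an exact functor, naturally -/
noncomputable def hcIso (i : ℤ) :
    mapCx G ⋙ HomologicalComplex.homologyFunctor (ModuleCat.{u} B) (ComplexShape.up ℤ) i ≅
      HomologicalComplex.homologyFunctor (ModuleCat.{u} A) (ComplexShape.up ℤ) i ⋙ G :=
  NatIso.ofComponents (fun K => (K.sc i).mapHomologyIso G)
    (fun {K K'} f => ShortComplex.mapHomologyIso_hom_naturality
      ((HomologicalComplex.shortComplexFunctor (ModuleCat.{u} A) (ComplexShape.up ℤ) i).map f) G)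

/-- lifting data -/
noncomputable def lift₁ (i : ℤ) :
    Localization.Lifting (DerivedCategory.Q (C := ModuleCat.{u} A))
      (HomologicalComplex.quasiIso (ModuleCat.{u} A) (ComplexShape.up ℤ))
      (mapCx G ⋙ HomologicalComplex.homologyFunctor (ModuleCat.{u} B) (ComplexShape.up ℤ) i)
      (G.mapDerivedCategory ⋙ H B i) :=
  ⟨(Functor.associator _ _ _).symm ≪≫
    Functor.isoWhiskerRight G.mapDerivedCategoryFactors (H B i) ≪≫
    Functor.associator _ _ _ ≪≫
    Functor.isoWhiskerLeft (mapCx G)
      (DerivedCategory.homologyFunctorFactors (ModuleCat.{u} B) i)⟩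

/-- lifting data -/
noncomputable def lift₂ (i : ℤ) :
    Localization.Lifting (DerivedCategory.Q (C := ModuleCat.{u} A))
      (HomologicalComplex.quasiIso (ModuleCat.{u} A) (ComplexShape.up ℤ))
      (HomologicalComplex.homologyFunctor (ModuleCat.{u} A) (ComplexShape.up ℤ) i ⋙ G)
      (H A i ⋙ G) :=
  ⟨(Functor.associator _ _ _).symm ≪≫
    Functor.isoWhiskerRight (DerivedCategory.homologyFunctorFactors (ModuleCat.{u} A) i) G⟩

/-- cohomology on the derived category commutes with an exact functor, naturally -/
noncomputable def homologyNatIso (i : ℤ) :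
    G.mapDerivedCategory ⋙ H B i ≅ H A i ⋙ G :=
  letI := lift₁ G i
  letI := lift₂ G i
  Localization.liftNatIso (DerivedCategory.Q (C := ModuleCat.{u} A))
    (HomologicalComplex.quasiIso (ModuleCat.{u} A) (ComplexShape.up ℤ))
    (mapCx G ⋙ HomologicalComplex.homologyFunctor (ModuleCat.{u} B) (ComplexShape.up ℤ) i)
    (HomologicalComplex.homologyFunctor (ModuleCat.{u} A) (ComplexShape.up ℤ) i ⋙ G)
    _ _ (hcIso G i)

end natiso

section base

variable {A B : Type u} [CommRing A] [CommRing B] [Algebra A B]

/-- `Hom(P[-n], L) → Hom(P, H^n L)` -/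
noncomputable def aLin (n : ℤ) (P : ModuleCat.{u} A) (L : Dual.D A) :
    (Sg n P ⟶ L) →ₗ[A] (P ⟶ (H A n).obj L) where
  toFun ψ := (HSg n P).inv ≫ (H A n).map ψ
  map_add' ψ ψ' := by rw [Functor.map_add, Preadditive.comp_add]
  map_smul' a ψ := by
    rw [HomLoc.H_map_smul, Linear.comp_smul]
    rfl

lemma aLin_apply (n : ℤ) (P : ModuleCat.{u} A) (L : Dual.D A) (ψ : Sg n P ⟶ L) :
    aLin n P L ψ = (HSg n P).inv ≫ (H A n).map ψ := rfl

lemma aLin_bijective (n : ℤ) (P : ModuleCat.{u} A) [Projective P] (L : Dual.D A) :
    Function.Bijective (aLin n P L) := by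
  constructor
  · rw [injective_iff_map_eq_zero]
    intro ψ hψ
    apply hom_Sg_eq_zero
    rw [← cancel_epi (HSg n P).inv, comp_zero]
    exact hψ
  · intro g
    exact exists_hom_Sg n P L g

lemma extM_map_smul (a : A) {M M' : ModuleCat.{u} A} (f : M ⟶ M') :
    (extM (A := A) (B := B)).map (a • f) = (algebraMap A B a) • (extM (A := A) (B := B)).map f := by
  apply ModuleCat.hom_ext
  apply LinearMap.ext
  intro x
  apply (extMEquiv (B := B) M').injective
  rw [extMEquiv_naturality, ModuleCat.hom_smul, LinearMap.lTensor_smul, LinearMap.smul_apply,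
    ModuleCat.hom_smul, LinearMap.smul_apply, map_smul, extMEquiv_naturality, algebraMap_smul]

/-- `B ⊗ Hom_A(P, M) → Hom_B(P_B, M_B)` -/
noncomputable def Ω (P M : ModuleCat.{u} A) :
    B ⊗[A] (P ⟶ M) →+ ((extM (A := A) (B := B)).obj P ⟶ (extM (A := A) (B := B)).obj M) :=
  TensorProduct.liftAddHom
    { toFun := fun b =>
        { toFun := fun f => b • (extM (A := A) (B := B)).map f
          map_zero' := by rw [Functor.map_zero, smul_zero]
          map_add' := fun f f' => by rw [Functor.map_add, smul_add] }
      map_zero' := by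
        refine AddMonoidHom.ext fun f => ?_
        change (0 : B) • (extM (A := A) (B := B)).map f = 0
        rw [zero_smul]
      map_add' := fun b b' => by
        refine AddMonoidHom.ext fun f => ?_
        change (b + b') • (extM (A := A) (B := B)).map f =
          b • (extM (A := A) (B := B)).map f + b' • (extM (A := A) (B := B)).map f
        rw [add_smul] }
    (fun a b f => by
      change (a • b) • (extM (A := A) (B := B)).map f = b • (extM (A := A) (B := B)).map (a • f)
      rw [extM_map_smul, smul_smul, Algebra.smul_def, mul_comm])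

@[simp] lemma Ω_tmul (P M : ModuleCat.{u} A) (b : B) (f : P ⟶ M) :
    Ω (B := B) P M (b ⊗ₜ[A] f) = b • (extM (A := A) (B := B)).map f := rfl

section omega

variable [Module.Flat A B] (P M : ModuleCat.{u} A) [Module.FinitePresentation A P]

/-- `Ω` as an equivalence -/
noncomputable def ΩEquiv : B ⊗[A] (P ⟶ M) ≃+
    ((extM (A := A) (B := B)).obj P ⟶ (extM (A := A) (B := B)).obj M) :=
  ((ModuleCat.homLinearEquiv (S := A) (M := P) (N := M)).lTensor B).toAddEquiv.trans
    ((Module.FinitePresentation.isBaseChange_map A P M B).equiv.toAddEquiv.trans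
      ((LinearEquiv.arrowCongr (extMEquiv (B := B) P).symm
          (extMEquiv (B := B) M).symm).toAddEquiv.trans
        (ModuleCat.homLinearEquiv (S := B)).symm.toAddEquiv))

lemma Ω_eq (z : B ⊗[A] (P ⟶ M)) : Ω (B := B) P M z = ΩEquiv (B := B) P M z := by
  induction z using TensorProduct.induction_on with
  | zero => rw [map_zero, map_zero]
  | add x y hx hy => rw [map_add, map_add, hx, hy]
  | tmul b f =>
    rw [Ω_tmul]
    apply ModuleCat.hom_ext
    apply LinearMap.ext
    intro x
    apply (extMEquiv (B := B) M).injective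
    rw [ModuleCat.hom_smul, LinearMap.smul_apply, map_smul, extMEquiv_naturality]
    change _ = (extMEquiv (B := B) M) ((extMEquiv (B := B) M).symm
      (((Module.FinitePresentation.isBaseChange_map A P M B).equiv (b ⊗ₜ[A] f.hom))
        ((extMEquiv (B := B) P) x)))
    rw [LinearEquiv.apply_symm_apply, IsBaseChange.equiv_tmul, LinearMap.smul_apply]
    rfl

lemma Ω_bijective : Function.Bijective (Ω (B := B) P M) := by
  have h : (Ω (B := B) P M : B ⊗[A] (P ⟶ M) → _) = ΩEquiv (B := B) P M := funext (Ω_eq P M)
  rw [h]
  exact (ΩEquiv (B := B) P M).bijective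

end omega


end base

end HomBC

end Groth.Agent.Lib.Helper18.DR
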