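import Mathlib
import Groth.Agent.Lib.Helper18.BCHom3

/-!
# Flat base change for `Hom`, IV: the base case (helper18)
-/

set_option autoImplicit false
set_option linter.style.haveILetI false
universe u
open CategoryTheory CategoryTheory.Limits CategoryTheory.Pretriangulated DerivedCategory
open TensorProduct

attribute [local instance] HasDerivedCategory.standard

namespace Groth.Agent.Lib.Helper18.DR

namespace HomBC

variable {A B : Type u} [CommRing A] [CommRing B] [Algebra A B]

section sg

variable [Module.Flat A B] (n : ℤ) (F : ModuleCat.{u} A) [Module.Finite A F] [Module.Free A F]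
  (L : Dual.D A)

/-- the base case: a finite free module in a single degree -/
theorem bcProp_Sg : BCProp (B := B) L (Sg n F) := by
  haveI : Module.Projective A F := Module.Projective.of_free
  haveI : Projective F := (IsProjective.iff_projective (R := A) (P := F)).mp inferInstance
  haveI : Module.FinitePresentation A F := Module.finitePresentation_of_projective A F
  haveI : Module.Projective B ((extM (A := A) (B := B)).obj F) := projective_extM F
  haveI : Projective ((extM (A := A) (B := B)).obj F) :=
    (IsProjective.iff_projective (R := B) (P := (extM (A := A) (B := B)).obj F)).mp inferInstance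
  let P' := (extM (A := A) (B := B)).obj F
  let σ : (extD A B).obj (Sg n F) ≅ Sg n P' := mapDSgIso (extM (A := A) (B := B)) n F
  let θ := homologyNatIso (extM (A := A) (B := B)) n
  let Λ : ((extD A B).obj (Sg n F) ⟶ (extD A B).obj L) →
      (P' ⟶ (extM (A := A) (B := B)).obj ((H A n).obj L)) :=
    fun g => aLin n P' ((extD A B).obj L) (σ.inv ≫ g) ≫ θ.hom.app L
  let κ : P' ⟶ P' := (HSg n P').inv ≫ (H B n).map σ.inv ≫ θ.hom.app (Sg n F) ≫
    (extM (A := A) (B := B)).map (HSg n F).hom
  haveI : IsIso κ := by
    dsimp only [κ]
    infer_instance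
  have hΛ : Function.Bijective Λ := by
    have h1 : Function.Bijective (fun g : (extD A B).obj (Sg n F) ⟶ (extD A B).obj L =>
        σ.inv ≫ g) :=
      ⟨fun x y hxy => (cancel_epi σ.inv).1 hxy, fun x => ⟨σ.hom ≫ x, Iso.inv_hom_id_assoc σ x⟩⟩
    have h2 : Function.Bijective (fun g : P' ⟶ (H B n).obj ((extD A B).obj L) =>
        g ≫ θ.hom.app L) := by
      refine Function.bijective_iff_has_inverse.2 ⟨fun g => g ≫ θ.inv.app L, fun x => ?_,
        fun x => ?_⟩
      · change (x ≫ θ.hom.app L) ≫ θ.inv.app L = x
        rw [Category.assoc, Iso.hom_inv_id_app]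
        exact Category.comp_id x
      · change (x ≫ θ.inv.app L) ≫ θ.hom.app L = x
        rw [Category.assoc, Iso.inv_hom_id_app]
        exact Category.comp_id x
    exact h2.comp ((aLin_bijective n P' ((extD A B).obj L)).comp h1)
  have hκ : Function.Bijective (fun g : P' ⟶ (extM (A := A) (B := B)).obj ((H A n).obj L) =>
      κ ≫ g) := by
    refine Function.bijective_iff_has_inverse.2 ⟨fun g => inv κ ≫ g, fun x => ?_, fun x => ?_⟩
    · exact IsIso.inv_hom_id_assoc κ x
    · exact IsIso.hom_inv_id_assoc κ x
  have ha : Function.Bijective ((aLin n F L).lTensor B) :=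
    ((LinearEquiv.ofBijective _ (aLin_bijective n F L)).lTensor B).bijective
  have key : ∀ z, Λ (Ψ (B := B) (Sg n F) L z) =
      κ ≫ Ω (B := B) F ((H A n).obj L) ((aLin n F L).lTensor B z) := by
    intro z
    induction z using TensorProduct.induction_on with
    | zero =>
      simp only [map_zero, Λ, comp_zero, zero_comp]
    | add x y hx hy =>
      rw [map_add, map_add, map_add, Preadditive.comp_add, ← hx, ← hy]
      simp only [Λ, Preadditive.comp_add, map_add, Preadditive.add_comp]
    | tmul b ψ =>
      rw [Ψ_tmul, LinearMap.lTensor_tmul, Ω_tmul, aLin_apply, Linear.comp_smul]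
      simp only [Λ]
      rw [Linear.comp_smul, aLin_apply, HomLoc.H_map_smul, Linear.comp_smul, Linear.smul_comp]
      congr 1
      have hnat := θ.hom.naturality ψ
      simp only [Functor.comp_map] at hnat
      rw [Functor.map_comp, Category.assoc, Category.assoc, hnat]
      simp only [κ, Category.assoc, Functor.map_comp]
      rw [← Functor.map_comp_assoc, Iso.hom_inv_id, CategoryTheory.Functor.map_id, Category.id_comp]
  have h3 : Λ ∘ (Ψ (B := B) (Sg n F) L) = (fun g => κ ≫ g) ∘ (Ω (B := B) F ((H A n).obj L)) ∘
      ((aLin n F L).lTensor B) := funext key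
  have h4 : Function.Bijective (Λ ∘ (Ψ (B := B) (Sg n F) L)) := by
    rw [h3]
    exact hκ.comp ((Ω_bijective F ((H A n).obj L)).comp ha)
  exact (Function.Bijective.of_comp_iff' hΛ _).1 h4

end sg

end HomBC

end Groth.Agent.Lib.Helper18.DR
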