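import Mathlib
import Groth.Agent.Lib.Helper18.BCHom4

/-!
# Flat base change for `Hom`, V: bounded and pseudo-coherent sources (helper18)
-/

set_option autoImplicit false
set_option linter.style.haveILetI false
universe u
open CategoryTheory CategoryTheory.Limits CategoryTheory.Pretriangulated DerivedCategory
open TensorProduct

attribute [local instance] HasDerivedCategory.standard

namespace Groth.Agent.Lib.Helper18.DR

namespace HomBC

section restr

variable {R : Type u} [CommRing R]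

/-- restriction along the first map of a triangle whose cone is far to the left -/
lemma bijective_mor₁_comp (T : Triangle (Dual.D R)) (hT : T ∈ distTriang (Dual.D R))
    (m n₀ : ℤ) (hm : m < n₀) [T.obj₃.IsLE (m - 1)] (X : Dual.D R) [X.IsGE n₀] :
    Function.Bijective (fun ψ : T.obj₂ ⟶ X => T.mor₁ ≫ ψ) := by
  constructor
  · intro ψ ψ' h
    rw [← sub_eq_zero]
    have h0 : T.mor₁ ≫ (ψ - ψ') = 0 := by
      rw [Preadditive.comp_sub, sub_eq_zero]
      exact h
    obtain ⟨χ, hχ⟩ := Triangle.yoneda_exact₂ _ hT (ψ - ψ') h0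
    have : χ = 0 := TStructure.t.zero (X := T.obj₃) χ (m - 1) n₀ (by omega)
    rw [hχ, this, comp_zero]
  · intro ψ₁
    have hT' := inv_rot_of_distTriang _ hT
    haveI : (T.obj₃⟦(-1 : ℤ)⟧).IsLE m := TStructure.t.isLE_shift _ (m - 1) (-1) m (by omega)
    have h0 : T.invRotate.mor₁ ≫ ψ₁ = 0 :=
      TStructure.t.zero (X := T.obj₃⟦(-1 : ℤ)⟧) _ m n₀ hm
    obtain ⟨ψ, hψ⟩ := Triangle.yoneda_exact₂ _ hT' ψ₁ h0
    exact ⟨ψ, hψ.symm⟩

end restr

variable {A B : Type u} [CommRing A] [CommRing B] [Algebra A B] [Module.Flat A B]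
  {L : Dual.D A}

/-- bounded complexes of finite free modules, and their shifts -/
theorem bcProp_of_bounded (E : DRing.Cx A) (a b : ℤ)
    (hE : DRing.VanishesOutside E a b) (hfree : DRing.TermwiseFiniteFree E) (j : ℤ) :
    BCProp (B := B) L ((DRing.toD E)⟦j⟧) := by
  revert j
  refine bounded_induction (fun N : Dual.D A => ∀ j : ℤ, BCProp (B := B) L (N⟦j⟧)) ?_ ?_ ?_
    E a b hE ?_
  · intro X Y e hX j
    exact (hX j).of_iso ((shiftFunctor (Dual.D A) j).mapIso e)
  · intro X hX j
    exact BCProp.of_isZero ((shiftFunctor (Dual.D A) j).map_isZero hX)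
  · intro T hT h1 h3 j
    have hTj := Triangle.shift_distinguished T hT j
    refine BCProp.of_triangle _ hTj (h1 j) ?_ (h3 j) ?_
    · exact (h1 (j + 1)).of_iso ((shiftFunctorAdd' (Dual.D A) j 1 (j + 1) rfl).app T.obj₁)
    · exact (h3 (j - 1)).of_iso ((shiftFunctorAdd' (Dual.D A) j (-1) (j - 1) (by omega)).app T.obj₃)
  · intro i _ _ j
    haveI := (hfree i).1
    haveI := (hfree i).2
    exact (bcProp_Sg (B := B) (i - j) (E.X i) L).of_iso
      (SgShiftIso j (i - j) i (by omega) (E.X i)).symm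

/-- the main theorem: flat base change for `Hom(N, L)`, `N` pseudo-coherent, `L` bounded below -/
theorem bcProp_of_isPseudoCoherent' (n₀ : ℤ) [L.IsGE n₀]
    (N : Dual.D A) (hN : DRing.IsPseudoCoherent' A N) : BCProp (B := B) L N := by
  obtain ⟨F, b, hFb, hFfree, ⟨e⟩⟩ := hN
  refine BCProp.of_iso e ?_
  let m : ℤ := n₀ - 1
  have hm : m < n₀ := by omega
  have hb : BCProp (B := B) L (DRing.toD (sigmaGE F m)) :=
    (bcProp_of_bounded (sigmaGE F m) m b (vanishesOutside_sigmaGE F m hFb)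
      (termwiseFiniteFree_sigmaGE F m hFfree) 0).of_iso
      ((shiftFunctorZero (Dual.D A) ℤ).app _)
  let T := sigmaTriangle F m
  have hT : T ∈ distTriang (Dual.D A) := sigmaTriangle_distinguished F m
  haveI : T.obj₃.IsLE (m - 1) := (inferInstance : (DRing.toD (sigmaLT F m)).IsLE (m - 1))
  have hρA : Function.Bijective (Linear.leftComp A L T.mor₁) :=
    bijective_mor₁_comp T hT m n₀ hm L
  have hρA' : Function.Bijective ((Linear.leftComp A L T.mor₁).lTensor B) :=
    ((LinearEquiv.ofBijective _ hρA).lTensor B).bijective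
  let T' := (extD A B).mapTriangle.obj T
  have hT' : T' ∈ distTriang (Dual.D B) := (extD A B).map_distinguished T hT
  haveI : T'.obj₃.IsLE (m - 1) := isLE_mapD (extM (A := A) (B := B)) T.obj₃ (m - 1)
  haveI : ((extD A B).obj L).IsGE n₀ := isGE_mapD (extM (A := A) (B := B)) L n₀
  have hρB : Function.Bijective (fun ψ : T'.obj₂ ⟶ (extD A B).obj L => T'.mor₁ ≫ ψ) :=
    bijective_mor₁_comp T' hT' m n₀ hm ((extD A B).obj L)
  have key : (fun ψ : T'.obj₂ ⟶ (extD A B).obj L => T'.mor₁ ≫ ψ) ∘ (Ψ (B := B) T.obj₂ L) =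
      (Ψ (B := B) T.obj₁ L) ∘ ((Linear.leftComp A L T.mor₁).lTensor B) := by
    funext z
    exact (Ψ_naturality L T.mor₁ z).symm
  have h4 : Function.Bijective ((fun ψ : T'.obj₂ ⟶ (extD A B).obj L => T'.mor₁ ≫ ψ) ∘
      (Ψ (B := B) T.obj₂ L)) := by
    rw [key]
    exact hb.comp hρA'
  exact (Function.Bijective.of_comp_iff' hρB _).1 h4

end HomBC

end Groth.Agent.Lib.Helper18.DR
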