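import Mathlib
import Groth.Agent.Lib.Helper18.BCHom5
import Groth.Agent.Lib.Helper18.KProjC
import Groth.Agent.Lib.Helper18.DRExt3

/-!
# Faithfully flat descent of dualizing complexes (helper18)
-/

set_option autoImplicit false
set_option linter.style.haveILetI false
universe u
open CategoryTheory CategoryTheory.Limits CategoryTheory.Pretriangulated DerivedCategory
open TensorProduct

attribute [local instance] HasDerivedCategory.standard

namespace Groth.Agent.Lib.Helper18.DR

namespace HomBC

open HomLoc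

section iso

variable {A : Type u} [CommRing A]

lemma fidIn_of_iso {ω ω' : Dual.D A} (e : ω ≅ ω') {a b : ℤ} (h : FidIn ω a b) : FidIn ω' a b := by
  intro M _ _ i hi
  haveI := h M i hi
  exact ⟨fun x y => by
    rw [← cancel_mono ((shiftFunctor (Dual.D A) i).map e.inv)]
    exact Subsingleton.elim _ _⟩

theorem isDualizing_of_iso {ω ω' : Dual.D A} (e : ω ≅ ω') (h : Dual.IsDualizing A ω) :
    Dual.IsDualizing A ω' := by
  obtain ⟨a, b, hab⟩ := h.finite_injective_dimension
  refine ⟨h.isNoetherianRing, ⟨a, b, fidIn_of_iso e hab⟩, fun i => ?_, ?_, fun i hi => ?_⟩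
  · haveI := h.finite_cohomology i
    exact Module.Finite.equiv ((H A i).mapIso e).toLinearEquiv
  · have hconj : ∀ a : A, a • 𝟙 ω' = e.inv ≫ (a • 𝟙 ω) ≫ e.hom := fun a => by
      rw [Linear.smul_comp, Linear.comp_smul, Category.id_comp, Iso.inv_hom_id]
    constructor
    · intro a₁ a₂ h12
      replace h12 : a₁ • 𝟙 ω' = a₂ • 𝟙 ω' := h12
      apply h.toEnd_bijective.1
      change a₁ • 𝟙 ω = a₂ • 𝟙 ω
      rw [hconj, hconj] at h12
      have := congrArg (fun t => e.hom ≫ t ≫ e.inv) h12
      simpa using this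
    · intro x
      obtain ⟨a₀, ha₀⟩ := h.toEnd_bijective.2 (e.hom ≫ x ≫ e.inv)
      replace ha₀ : a₀ • 𝟙 ω = e.hom ≫ x ≫ e.inv := ha₀
      refine ⟨a₀, ?_⟩
      change a₀ • 𝟙 ω' = x
      rw [hconj, ha₀]
      simp
  · haveI := h.ext_self_subsingleton i hi
    exact ⟨fun x y => by
      rw [← cancel_epi e.hom, ← cancel_mono ((shiftFunctor (Dual.D A) i).map e.inv)]
      exact Subsingleton.elim _ _⟩

end iso

section lbc

variable {A B : Type u} [CommRing A] [CommRing B] [Algebra A B] [Module.Flat A B]
  [DRing.HasLBaseChange (algebraMap A B)]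

/-- for a flat algebra, derived base change is termwise base change -/
lemma nonempty_LBaseChange_iso_extD (K : Dual.D A) :
    Nonempty ((DRing.LBaseChange (algebraMap A B)).obj K ≅ (extD A B).obj K) := by
  obtain ⟨P, hP, -, ⟨e⟩⟩ := exists_kprojective_resolution K
  haveI := hP
  exact ⟨(DRing.LBaseChange (algebraMap A B)).mapIso e.symm ≪≫
    LBaseChangeIso (algebraMap A B) P ≪≫
    (mapDToDIso (extM (A := A) (B := B)) P).symm ≪≫ (extD A B).mapIso e⟩

end lbc

section desc

variable {A B : Type u} [CommRing A] [CommRing B] [Algebra A B] [Module.FaithfullyFlat A B]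

lemma isGE_of_extD (L : Dual.D A) (n : ℤ) (hL : ((extD A B).obj L).IsGE n) : L.IsGE n := by
  rw [DerivedCategory.isGE_iff]
  intro i hi
  have h := isZero_of_isGE ((extD A B).obj L) n i hi
  exact isZero_of_isZero_extM _ (h.of_iso (homologyMapDIso (extM (A := A) (B := B)) L i).symm)

lemma isLE_of_extD (L : Dual.D A) (n : ℤ) (hL : ((extD A B).obj L).IsLE n) : L.IsLE n :=
  isLE_of_mapD (extM (A := A) (B := B)) isZero_of_isZero_extM L n hL

lemma subsingleton_hom_of_bcProp {N L : Dual.D A} (h : BCProp (B := B) L N)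
    (hs : Subsingleton ((extD A B).obj N ⟶ (extD A B).obj L)) : Subsingleton (N ⟶ L) := by
  haveI : Subsingleton (B ⊗[A] (N ⟶ L)) := h.1.subsingleton
  exact (Module.FaithfullyFlat.subsingleton_tensorProduct_iff_right A B).1 inferInstance

variable [IsNoetherianRing A]

/-- faithfully flat descent of dualizing complexes -/
theorem isDualizing_of_extD (K : Dual.D A) (hK : Dual.IsDualizing B ((extD A B).obj K)) :
    Dual.IsDualizing A K := by
  obtain ⟨a, b, hab⟩ := hK.finite_injective_dimension
  have hfidB : FidIn ((extD A B).obj K) a b := hab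
  haveI : K.IsGE a := isGE_of_extD K a hfidB.isGE
  haveI : K.IsLE b := isLE_of_extD K b hfidB.isLE
  have hfin : ∀ i : ℤ, Module.Finite A (Dual.HD A K i) := fun i => by
    haveI := hK.finite_cohomology i
    apply finite_of_finite_extM (B := B)
    exact Module.Finite.equiv (homologyMapDIso (extM (A := A) (B := B)) K i).toLinearEquiv
  have hpc : DRing.IsPseudoCoherent' A K := isPseudoCoherent'_of_isLE_of_finite K b hfin
  have hfid : FidIn K a b := by
    have h3 : ∀ (I : Ideal A) (i : ℤ), (i < a ∨ b < i) →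
        Subsingleton (DRing.ExtD A (Dual.inD A (A ⧸ I)) K i) := by
      intro I i hi
      refine (subsingleton_extD_iff (ModuleCat.of A (A ⧸ I)) K i).2 ?_
      let M : ModuleCat.{u} A := ModuleCat.of A (A ⧸ I)
      have hbc : BCProp (B := B) K (Sg i M) :=
        bcProp_of_isPseudoCoherent' a _ (isPseudoCoherent'_Sg_of_finite M i)
      refine subsingleton_hom_of_bcProp hbc ⟨fun x y => ?_⟩
      let σ := mapDSgIso (extM (A := A) (B := B)) i M
      have hz : ∀ g : (extD A B).obj (Sg i M) ⟶ (extD A B).obj K, g = 0 := fun g => by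
        have := hfidB.hom_Sg_eq_zero _ i hi (σ.inv ≫ g)
        rw [← cancel_epi σ.inv, this, comp_zero]
      rw [hz x, hz y]
    exact ((injAmp_tfae K a b).out 2 1).1 h3
  have hbcK : BCProp (B := B) K K := bcProp_of_isPseudoCoherent' a K hpc
  refine ⟨inferInstance, ⟨a, b, hfid⟩, hfin, ?_, fun i hi => ?_⟩
  · let f : A →ₗ[A] (K ⟶ K) := LinearMap.toSpanSingleton A (K ⟶ K) (𝟙 K)
    have hf : (fun a : A => a • 𝟙 K) = f := by
      funext a
      exact (LinearMap.toSpanSingleton_apply _ _ _ _).symm
    rw [hf]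
    rw [← Module.FaithfullyFlat.lTensor_bijective_iff_bijective A B]
    let ι : B → B ⊗[A] A := fun b => b ⊗ₜ[A] (1 : A)
    have hι : Function.Bijective ι := by
      have : ι = (TensorProduct.rid A B).symm := by
        funext b
        exact (TensorProduct.rid_symm_apply b).symm
      rw [this]
      exact (TensorProduct.rid A B).symm.bijective
    have hg : (Ψ (B := B) K K) ∘ (f.lTensor B) ∘ ι =
        fun b : B => b • 𝟙 ((extD A B).obj K) := by
      funext b
      change Ψ (B := B) K K (f.lTensor B (b ⊗ₜ[A] (1 : A))) = _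
      rw [LinearMap.lTensor_tmul, Ψ_tmul, LinearMap.toSpanSingleton_apply, one_smul,
        CategoryTheory.Functor.map_id]
    have h1 : Function.Bijective ((Ψ (B := B) K K) ∘ (f.lTensor B) ∘ ι) := by
      rw [hg]
      exact hK.toEnd_bijective
    have h2 : Function.Bijective ((f.lTensor B) ∘ ι) :=
      (Function.Bijective.of_comp_iff' hbcK _).1 h1
    exact (Function.Bijective.of_comp_iff _ hι).1 h2
  · haveI : (K⟦i⟧).IsGE (a - i) := TStructure.t.isGE_shift K a i (a - i) (by omega)
    have hbc : BCProp (B := B) (K⟦i⟧) K := bcProp_of_isPseudoCoherent' (a - i) K hpc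
    refine subsingleton_hom_of_bcProp hbc ?_
    have hs := hK.ext_self_subsingleton i hi
    let c := ((extD A B).commShiftIso i).app K
    exact ⟨fun x y => by
      rw [← cancel_mono c.hom]
      exact hs.elim _ _⟩

end desc

end HomBC

end Groth.Agent.Lib.Helper18.DR
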