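import Mathlib
import Groth.Agent.Lib.Helper18.BCHom6
import Groth.Agent.Lib.Helper18.DRTorF

/-!
# Twisting dualizing complexes by invertible modules and shifts (helper18)
-/

set_option autoImplicit false
set_option linter.style.haveILetI false
universe u
open CategoryTheory CategoryTheory.Limits CategoryTheory.Pretriangulated MonoidalCategory
  DerivedCategory

attribute [local instance] HasDerivedCategory.standard

namespace Groth.Agent.Lib.Helper18.DR

namespace InvTwist

open HomLoc HomBC

variable {A : Type u} [CommRing A]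

/-- transfer of the dualizing property along a fully faithful `A`-linear functor -/
theorem isDualizing_of_fullyFaithful (Φ : Dual.D A ⥤ Dual.D A) [Φ.Full] [Φ.Faithful]
    (hlin : ∀ (X : Dual.D A) (a : A), Φ.map (a • 𝟙 X) = a • 𝟙 (Φ.obj X))
    (hsh : ∀ (X : Dual.D A) (i : ℤ), Nonempty (Φ.obj (X⟦i⟧) ≅ (Φ.obj X)⟦i⟧))
    (ω : Dual.D A) (hω : Dual.IsDualizing A ω)
    (hfid : ∃ a b : ℤ, FidIn (Φ.obj ω) a b)
    (hfin : ∀ i : ℤ, Module.Finite A ((H A i).obj (Φ.obj ω))) :
    Dual.IsDualizing A (Φ.obj ω) := by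
  refine ⟨hω.isNoetherianRing, hfid, hfin, ?_, fun i hi => ?_⟩
  · have h1 : Function.Bijective (fun f : ω ⟶ ω => Φ.map f) :=
      ⟨Φ.map_injective, Φ.map_surjective⟩
    have h2 := h1.comp hω.toEnd_bijective
    convert h2 using 1
    funext a
    exact (hlin ω a).symm
  · haveI := hω.ext_self_subsingleton i hi
    obtain ⟨e⟩ := hsh ω i
    refine ⟨fun x y => ?_⟩
    have hx : x ≫ e.inv = y ≫ e.inv := by
      obtain ⟨x', hx'⟩ := Φ.map_surjective (x ≫ e.inv)
      obtain ⟨y', hy'⟩ := Φ.map_surjective (y ≫ e.inv)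
      rw [← hx', ← hy', Subsingleton.elim x' y']
    exact (cancel_mono e.inv).1 hx

/-- shifts of dualizing complexes are dualizing -/
theorem isDualizing_shift (ω : Dual.D A) (hω : Dual.IsDualizing A ω) (n : ℤ) :
    Dual.IsDualizing A (ω⟦n⟧) := by
  obtain ⟨a, b, hab⟩ := hω.finite_injective_dimension
  refine isDualizing_of_fullyFaithful (shiftFunctor (Dual.D A) n) (fun X r => ?_)
    (fun X i => ⟨shiftComm X i n⟩) ω hω ⟨a - n, b - n, ?_⟩ (fun i => ?_)
  · rw [Functor.map_smul, CategoryTheory.Functor.map_id]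
  · intro M _ _ i hi
    haveI := hab M (n + i) (by omega)
    exact ((shiftFunctorAdd' (Dual.D A) n i (n + i) rfl).app ω).symm.homToEquiv.subsingleton
  · haveI := hω.finite_cohomology (n + i)
    exact Module.Finite.equiv ((HShiftIso A n i (n + i) rfl).app ω).toLinearEquiv.symm

end InvTwist

end Groth.Agent.Lib.Helper18.DR
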