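import Mathlib

/-!
# Dévissage for finite modules over a Noetherian local ring (helper18)

A property of finite modules which holds for the residue field, is stable under extensions and
isomorphisms, and passes from `A/(p + x)` to `A/p` (`x ∈ m ∖ p`) holds for all finite modules.
-/

set_option autoImplicit false
universe u

namespace Groth.Agent.Lib.Helper18.Dev

variable {A : Type u} [CommRing A] [IsLocalRing A] [IsNoetherianRing A]

theorem devissage
    (motive : (N : Type u) → [AddCommGroup N] → [Module A N] → Prop)
    (h_zero : ∀ (N : Type u) [AddCommGroup N] [Module A N] [Subsingleton N], motive N)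
    (h_res : motive (A ⧸ IsLocalRing.maximalIdeal A))
    (h_ext : ∀ (N₁ : Type u) [AddCommGroup N₁] [Module A N₁] [Module.Finite A N₁]
      (N₂ : Type u) [AddCommGroup N₂] [Module A N₂] [Module.Finite A N₂]
      (N₃ : Type u) [AddCommGroup N₃] [Module A N₃] [Module.Finite A N₃]
      (f : N₁ →ₗ[A] N₂) (g : N₂ →ₗ[A] N₃), Function.Injective f → Function.Surjective g →
      Function.Exact f g → motive N₁ → motive N₃ → motive N₂)
    (h_nak : ∀ (p : Ideal A) [p.IsPrime] (x : A), x ∈ IsLocalRing.maximalIdeal A → x ∉ p →
      motive (A ⧸ (p ⊔ Ideal.span {x})) → motive (A ⧸ p))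
    (N : Type u) [AddCommGroup N] [Module A N] [hN : Module.Finite A N] : motive N := by
  have h_iso : ∀ (N₁ : Type u) [AddCommGroup N₁] [Module A N₁] [Module.Finite A N₁]
      (N₂ : Type u) [AddCommGroup N₂] [Module A N₂] [Module.Finite A N₂]
      (f : N₁ ≃ₗ[A] N₂), motive N₁ → motive N₂ := by
    intro N₁ _ _ _ N₂ _ _ _ f h
    exact h_ext N₁ N₂ PUnit.{u + 1} f 0 f.injective (Function.surjective_to_subsingleton _)
      ((f.exact_zero_iff_surjective _).2 f.surjective) h (h_zero _)
  -- the claim for `A ⧸ p`
  have claim : ∀ p : Ideal A, p.IsPrime → motive (A ⧸ p) := by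
    intro p
    induction p using WellFoundedGT.induction with
    | ind p ih =>
      intro hp
      by_cases hpm : p = IsLocalRing.maximalIdeal A
      · rw [hpm]
        exact h_res
      · have hlt : p < IsLocalRing.maximalIdeal A :=
          lt_of_le_of_ne (IsLocalRing.le_maximalIdeal hp.ne_top) hpm
        obtain ⟨x, hxm, hxp⟩ := Set.exists_of_ssubset hlt
        refine h_nak p x hxm hxp ?_
        let I : Ideal A := p ⊔ Ideal.span {x}
        have key : ∀ (M : Type u) [AddCommGroup M] [Module A M] [Module.Finite A M],
            (∀ a ∈ I, ∀ m : M, a • m = 0) → motive M := by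
          intro M _ _ hM
          induction hM using IsNoetherianRing.induction_on_isQuotientEquivQuotientPrime A with
          | subsingleton N => exact fun _ => h_zero N
          | quotient N q f =>
            intro hI
            have hIq : I ≤ q.asIdeal := by
              intro a ha
              have h1 := hI a ha (f.symm 1)
              have h2 : f (a • f.symm 1) = 0 := by rw [h1, map_zero]
              rw [map_smul, LinearEquiv.apply_symm_apply] at h2
              rw [← Ideal.Quotient.eq_zero_iff_mem]
              have h3 : (a • (1 : A ⧸ q.asIdeal)) = Ideal.Quotient.mk q.asIdeal a := by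
                rw [Algebra.smul_def, mul_one]
                rfl
              rw [← h3]
              exact h2
            have hpq : p < q.asIdeal := by
              refine lt_of_le_of_ne (le_trans le_sup_left hIq) ?_
              rintro rfl
              exact hxp (hIq (Ideal.mem_sup_right (Ideal.subset_span rfl)))
            exact h_iso _ _ f.symm (ih q.asIdeal hpq q.isPrime)
          | exact N₁ N₂ N₃ f g hf hg hfg h₁ h₃ =>
            intro hI
            refine h_ext N₁ N₂ N₃ f g hf hg hfg (h₁ fun a ha m => ?_) (h₃ fun a ha m => ?_)
            · apply hf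
              rw [map_smul, map_zero]
              exact hI a ha (f m)
            · obtain ⟨m', rfl⟩ := hg m
              rw [← map_smul, hI a ha m', map_zero]
        refine key (A ⧸ I) (fun a ha m => ?_)
        obtain ⟨b, rfl⟩ := Ideal.Quotient.mk_surjective m
        rw [← Ideal.Quotient.mk_eq_mk, ← Submodule.Quotient.mk_smul, Ideal.Quotient.mk_eq_mk,
          Ideal.Quotient.eq_zero_iff_mem, smul_eq_mul]
        exact Ideal.mul_mem_right _ _ ha
  induction hN using IsNoetherianRing.induction_on_isQuotientEquivQuotientPrime A with
  | subsingleton N => exact h_zero N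
  | quotient N q f => exact h_iso _ _ f.symm (claim q.asIdeal q.isPrime)
  | exact N₁ N₂ N₃ f g hf hg hfg h₁ h₃ => exact h_ext N₁ N₂ N₃ f g hf hg hfg h₁ h₃

end Groth.Agent.Lib.Helper18.Dev
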