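import Mathlib
import Groth.Agent.Lib.Helper18.BCHom6
import Groth.Agent.Lib.Helper18.DualFin

/-!
# Injective dimension is detected by residue fields of maximal ideals, I (helper18)

The short exact sequence `0 → B/J' → B/J → B/(J + (a)) → 0` for `J' = (J : a)`.
-/

set_option autoImplicit false
set_option linter.style.haveILetI false
universe u
open CategoryTheory CategoryTheory.Limits CategoryTheory.Pretriangulated DerivedCategory

attribute [local instance] HasDerivedCategory.standard

namespace Groth.Agent.Lib.Helper18.DR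

namespace MaxCrit

section ses

variable {B : Type u} [CommRing B] (J' J : Ideal B) (a : B) (h : ∀ r, r ∈ J' ↔ r * a ∈ J)

/-- multiplication by `a`, as a map `B/J' → B/J` -/
noncomputable def mulQ : (B ⧸ J') →ₗ[B] (B ⧸ J) :=
  Submodule.liftQ J' ((Submodule.mkQ J) ∘ₗ (LinearMap.mulRight B a)) (by
    intro r hr
    rw [LinearMap.mem_ker, LinearMap.comp_apply, LinearMap.mulRight_apply, Submodule.mkQ_apply,
      Submodule.Quotient.mk_eq_zero]
    exact (h r).1 hr)

lemma mulQ_mk (r : B) : mulQ J' J a h (Submodule.Quotient.mk r) = Submodule.Quotient.mk (r * a) :=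
  rfl

lemma mulQ_injective : Function.Injective (mulQ J' J a h) := by
  rw [← LinearMap.ker_eq_bot]
  apply Submodule.ker_liftQ_eq_bot
  intro r hr
  rw [LinearMap.mem_ker, LinearMap.comp_apply, LinearMap.mulRight_apply, Submodule.mkQ_apply,
    Submodule.Quotient.mk_eq_zero] at hr
  exact (h r).2 hr

/-- the projection `B/J → B/(J + (a))` -/
noncomputable def projQ : (B ⧸ J) →ₗ[B] (B ⧸ (J ⊔ Ideal.span {a})) :=
  Submodule.factor (le_sup_left : J ≤ J ⊔ Ideal.span {a})

lemma projQ_mk (r : B) : projQ J a (Submodule.Quotient.mk r) = Submodule.Quotient.mk r := rfl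

lemma projQ_surjective : Function.Surjective (projQ J a) :=
  Submodule.factor_surjective (le_sup_left : J ≤ J ⊔ Ideal.span {a})

lemma exact_mulQ_projQ : Function.Exact (mulQ J' J a h) (projQ J a) := by
  intro y
  obtain ⟨r, rfl⟩ := Submodule.Quotient.mk_surjective _ y
  rw [projQ_mk, Submodule.Quotient.mk_eq_zero]
  constructor
  · intro hr
    obtain ⟨j, hj, z, hz, rfl⟩ := Submodule.mem_sup.1 hr
    obtain ⟨c, rfl⟩ := Ideal.mem_span_singleton'.1 hz
    refine ⟨Submodule.Quotient.mk c, ?_⟩
    rw [mulQ_mk, eq_comm, ← sub_eq_zero, ← Submodule.Quotient.mk_sub, Submodule.Quotient.mk_eq_zero]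
    simpa using hj
  · rintro ⟨y', hy'⟩
    obtain ⟨c, rfl⟩ := Submodule.Quotient.mk_surjective _ y'
    rw [mulQ_mk, Submodule.Quotient.eq] at hy'
    have h1 : r = (r - c * a) + c * a := by ring
    rw [h1]
    refine Submodule.add_mem _ (Submodule.mem_sup_left ?_) (Submodule.mem_sup_right ?_)
    · have := J.neg_mem hy'
      simpa using this
    · exact Ideal.mem_span_singleton'.2 ⟨c, rfl⟩

/-- the short exact sequence `0 → B/J' → B/J → B/(J + (a)) → 0` -/
noncomputable def colonSC : ShortComplex (ModuleCat.{u} B) :=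
  ShortComplex.mk (ModuleCat.ofHom (mulQ J' J a h)) (ModuleCat.ofHom (projQ J a)) (by
    refine ModuleCat.hom_ext (LinearMap.ext fun p => ?_)
    exact (exact_mulQ_projQ J' J a h).apply_apply_eq_zero p)

lemma colonSC_shortExact : (colonSC J' J a h).ShortExact :=
  ModuleCat.shortComplex_shortExact _ (exact_mulQ_projQ J' J a h) (mulQ_injective J' J a h)
    (projQ_surjective J a)

end ses

end MaxCrit

end Groth.Agent.Lib.Helper18.DR
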