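import Mathlib
import Groth.Agent.Lib.Helper18.MaxCrit1

/-!
# Injective dimension is detected by residue fields of maximal ideals, II (helper18)
-/

set_option autoImplicit false
set_option linter.style.haveILetI false
universe u
open CategoryTheory CategoryTheory.Limits CategoryTheory.Pretriangulated DerivedCategory

attribute [local instance] HasDerivedCategory.standard

namespace Groth.Agent.Lib.Helper18.DR

namespace MaxCrit

open HomLoc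

section tri

variable {B : Type u} [CommRing B]

lemma subsingleton_hom_X₂ {S : ShortComplex (ModuleCat.{u} B)} (hS : S.ShortExact) (Y : Dual.D B)
    (h₁ : Subsingleton (Sg 0 S.X₁ ⟶ Y)) (h₃ : Subsingleton (Sg 0 S.X₃ ⟶ Y)) :
    Subsingleton (Sg 0 S.X₂ ⟶ Y) := by
  have hT := hS.singleTriangle_distinguished
  refine ⟨fun x y => ?_⟩
  have key : ∀ ψ : Sg 0 S.X₂ ⟶ Y, ψ = 0 := by
    intro ψ
    have h0 : hS.singleTriangle.mor₁ ≫ ψ = 0 := h₁.elim _ _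
    obtain ⟨χ, hχ⟩ := Triangle.yoneda_exact₂ _ hT ψ h0
    have : χ = 0 := h₃.elim _ _
    rw [hχ, this]
    exact comp_zero
  rw [key x, key y]

/-- `Hom(X⟦-1⟧, Y⟦i⟧)` embeds in `Hom(X, Y⟦i+1⟧)` -/
lemma subsingleton_hom_shift_neg_one (X Y : Dual.D B) (i : ℤ)
    (h : Subsingleton (X ⟶ Y⟦i + 1⟧)) : Subsingleton (X⟦(-1 : ℤ)⟧ ⟶ Y⟦i⟧) := by
  let e₁ : X⟦(-1 : ℤ)⟧⟦(1 : ℤ)⟧ ≅ X := (shiftEquiv (Dual.D B) (1 : ℤ)).counitIso.app X
  let e₂ : Y⟦i⟧⟦(1 : ℤ)⟧ ≅ Y⟦i + 1⟧ := ((shiftFunctorAdd' (Dual.D B) i 1 (i + 1) rfl).app Y).symm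
  refine ⟨fun x y => ?_⟩
  have h1 : e₁.inv ≫ x⟦(1 : ℤ)⟧' ≫ e₂.hom = e₁.inv ≫ y⟦(1 : ℤ)⟧' ≫ e₂.hom := h.elim _ _
  have h2 : x⟦(1 : ℤ)⟧' = y⟦(1 : ℤ)⟧' := by
    have := (cancel_epi e₁.inv).1 h1
    exact (cancel_mono e₂.hom).1 this
  exact (shiftFunctor (Dual.D B) (1 : ℤ)).map_injective h2

lemma exists_of_mor₁_of_subsingleton {S : ShortComplex (ModuleCat.{u} B)} (hS : S.ShortExact)
    (Y : Dual.D B) (i : ℤ) (h₃ : Subsingleton (Sg 0 S.X₃ ⟶ Y⟦i + 1⟧))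
    (ψ : Sg 0 S.X₁ ⟶ Y⟦i⟧) :
    ∃ ψ' : Sg 0 S.X₂ ⟶ Y⟦i⟧, ψ = (singleFunctor (ModuleCat.{u} B) 0).map S.f ≫ ψ' := by
  have hT := hS.singleTriangle_distinguished
  have hT' := inv_rot_of_distTriang _ hT
  have hsub : Subsingleton ((Sg 0 S.X₃)⟦(-1 : ℤ)⟧ ⟶ Y⟦i⟧) :=
    subsingleton_hom_shift_neg_one _ _ i h₃
  have h0 : hS.singleTriangle.invRotate.mor₁ ≫ ψ = 0 := hsub.elim _ _
  exact Triangle.yoneda_exact₂ _ hT' ψ h0

end tri

section fin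

variable {B : Type u} [CommRing B] [IsNoetherianRing B]

lemma finite_hom_Sg_shift (M : ModuleCat.{u} B) [Module.Finite B M] (K : Dual.D B) (a₀ : ℤ)
    [K.IsGE a₀] (hfin : ∀ j : ℤ, Module.Finite B (Dual.HD B K j)) (i : ℤ) :
    Module.Finite B (Sg 0 M ⟶ K⟦i⟧) := by
  haveI : (Sg 0 M).IsLE 0 := inferInstance
  refine finite_hom_of_isPseudoCoherent'_of_boundedBelow (Sg 0 M)
    (isPseudoCoherent'_Sg_of_finite M 0) 0 (K⟦i⟧) (a₀ - i) (fun j hj => ?_) (fun j => ?_)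
  · have hz : IsZero ((H B (i + j)).obj K) := isZero_of_isGE K a₀ (i + j) (by omega)
    exact ModuleCat.subsingleton_of_isZero (hz.of_iso ((HShiftIso B i j (i + j) rfl).app K))
  · haveI := hfin (i + j)
    exact Module.Finite.equiv ((HShiftIso B i j (i + j) rfl).app K).toLinearEquiv.symm

end fin

end MaxCrit

end Groth.Agent.Lib.Helper18.DR
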