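import Mathlib
import Groth.Agent.Lib.Helper18.MaxCrit2

/-!
# Injective dimension is detected by residue fields of maximal ideals, III (helper18)
-/

set_option autoImplicit false
set_option linter.style.haveILetI false
universe u
open CategoryTheory CategoryTheory.Limits CategoryTheory.Pretriangulated DerivedCategory

attribute [local instance] HasDerivedCategory.standard

namespace Groth.Agent.Lib.Helper18.DR

namespace MaxCrit

open HomLoc

variable {B : Type u} [CommRing B] [IsNoetherianRing B] (K : Dual.D B) (b : ℤ)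

/-- the vanishing property for the cyclic module `B/J` -/
def Van (J : Ideal B) : Prop :=
  ∀ i : ℤ, b < i → Subsingleton (Sg 0 (ModuleCat.of B (B ⧸ J)) ⟶ K⟦i⟧)

lemma smul_hom_quot_eq_zero (J : Ideal B) (j : B) (hj : j ∈ J) (Y : Dual.D B)
    (ψ : Sg 0 (ModuleCat.of B (B ⧸ J)) ⟶ Y) : j • ψ = 0 := by
  have h1 : j • 𝟙 (ModuleCat.of B (B ⧸ J)) = 0 := by
    apply ModuleCat.hom_ext
    apply LinearMap.ext
    intro x
    obtain ⟨r, rfl⟩ := Submodule.Quotient.mk_surjective _ x
    change j • (Submodule.Quotient.mk r : B ⧸ J) = 0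
    rw [← Submodule.Quotient.mk_smul, Submodule.Quotient.mk_eq_zero, smul_eq_mul]
    exact J.mul_mem_right r hj
  have h2 : j • ψ = (singleFunctor (ModuleCat.{u} B) 0).map (j • 𝟙 _) ≫ ψ := by
    rw [Functor.map_smul, CategoryTheory.Functor.map_id, Linear.smul_comp, Category.id_comp]
  rw [h2, h1, Functor.map_zero, zero_comp]

lemma van_of_prime (a₀ : ℤ) [K.IsGE a₀]
    (hfin : ∀ j : ℤ, Module.Finite B (Dual.HD B K j)) (J : Ideal B) (hJ : J.IsPrime)
    (hJmax : ¬ J.IsMaximal)
    (ih : ∀ J' : Ideal B, J < J' → Van K b J') : Van K b J := by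
  intro i hi
  let M : ModuleCat.{u} B := ModuleCat.of B (B ⧸ J)
  haveI : Module.Finite B M := Module.Finite.of_surjective (Submodule.mkQ J)
    (Submodule.mkQ_surjective J)
  haveI hE : Module.Finite B (Sg 0 M ⟶ K⟦i⟧) := finite_hom_Sg_shift M K a₀ hfin i
  by_contra hns
  rw [not_subsingleton_iff_nontrivial] at hns
  have hann : Module.annihilator B (Sg 0 M ⟶ K⟦i⟧) ≠ ⊤ := by
    intro h
    rw [Module.annihilator_eq_top_iff] at h
    exact (not_subsingleton_iff_nontrivial.2 hns) h
  obtain ⟨m, hm, hle⟩ := Ideal.exists_le_maximal _ hann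
  have hJle : J ≤ Module.annihilator B (Sg 0 M ⟶ K⟦i⟧) := by
    intro j hj
    rw [Module.mem_annihilator]
    intro ψ
    exact smul_hom_quot_eq_zero J j hj _ ψ
  have hJm : J < m := lt_of_le_of_ne (hJle.trans hle) (by
    rintro rfl
    exact hJmax hm)
  obtain ⟨x, hxm, hxJ⟩ := SetLike.exists_of_lt hJm
  have hcol : ∀ r, r ∈ J ↔ r * x ∈ J := fun r =>
    ⟨fun hr => J.mul_mem_right x hr, fun hr => (hJ.mem_or_mem hr).resolve_right hxJ⟩
  have hlt : J < J ⊔ Ideal.span {x} := lt_of_le_of_ne le_sup_left (by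
    intro h
    apply hxJ
    rw [h]
    exact Submodule.mem_sup_right (Ideal.subset_span rfl))
  have hsurj : ∀ ψ : Sg 0 M ⟶ K⟦i⟧, ∃ ψ' : Sg 0 M ⟶ K⟦i⟧, ψ = x • ψ' := by
    intro ψ
    let f₀ : M ⟶ M := (colonSC J J x hcol).f
    obtain ⟨ψ', hψ'⟩ : ∃ ψ' : Sg 0 M ⟶ K⟦i⟧,
        ψ = (singleFunctor (ModuleCat.{u} B) 0).map f₀ ≫ ψ' :=
      exists_of_mor₁_of_subsingleton (colonSC_shortExact J J x hcol) K i
        (ih _ hlt (i + 1) (by omega)) ψ
    refine ⟨ψ', ?_⟩
    have h1 : f₀ = x • 𝟙 M := by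
      apply ModuleCat.hom_ext
      apply LinearMap.ext
      intro y
      obtain ⟨r, rfl⟩ := Submodule.Quotient.mk_surjective _ y
      change mulQ J J x hcol (Submodule.Quotient.mk r) = x • (Submodule.Quotient.mk r : B ⧸ J)
      rw [mulQ_mk, ← Submodule.Quotient.mk_smul, smul_eq_mul, mul_comm]
    rw [hψ', h1, Functor.map_smul, CategoryTheory.Functor.map_id, Linear.smul_comp,
      Category.id_comp]
  have hle' : (⊤ : Submodule B (Sg 0 M ⟶ K⟦i⟧)) ≤
      (Ideal.span {x}) • (⊤ : Submodule B (Sg 0 M ⟶ K⟦i⟧)) := by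
    intro ψ _
    obtain ⟨ψ', rfl⟩ := hsurj ψ
    exact Submodule.smul_mem_smul (Ideal.subset_span rfl) Submodule.mem_top
  obtain ⟨r, hr1, hr0⟩ := Submodule.exists_sub_one_mem_and_smul_eq_zero_of_fg_of_le_smul
    (Ideal.span {x}) (⊤ : Submodule B (Sg 0 M ⟶ K⟦i⟧)) Module.Finite.fg_top hle'
  have hrm : r ∈ m := hle (by
    rw [Module.mem_annihilator]
    exact fun ψ => hr0 ψ Submodule.mem_top)
  have hr1m : r - 1 ∈ m := by
    obtain ⟨c, hc⟩ := Ideal.mem_span_singleton'.1 hr1
    rw [← hc]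
    exact m.mul_mem_left c hxm
  have h1m : (1 : B) ∈ m := by
    have := m.sub_mem hrm hr1m
    simpa using this
  exact hm.ne_top ((Ideal.eq_top_iff_one m).2 h1m)

/-- the criterion -/
theorem van_all (a₀ : ℤ) [K.IsGE a₀] (hfin : ∀ j : ℤ, Module.Finite B (Dual.HD B K j))
    (hmax : ∀ m : Ideal B, m.IsMaximal → Van K b m) (J : Ideal B) : Van K b J := by
  induction J using WellFoundedGT.induction with
  | ind J ih =>
    by_cases hJtop : J = ⊤
    · intro i _
      haveI : Subsingleton (B ⧸ J) := Submodule.Quotient.subsingleton_iff.2 hJtop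
      have hz : IsZero (Sg 0 (ModuleCat.of B (B ⧸ J))) :=
        (singleFunctor (ModuleCat.{u} B) 0).map_isZero (ModuleCat.isZero_of_subsingleton _)
      exact ⟨fun x y => hz.eq_of_src x y⟩
    by_cases hJmax : J.IsMaximal
    · exact hmax J hJmax
    by_cases hJprime : J.IsPrime
    · exact van_of_prime K b a₀ hfin J hJprime hJmax ih
    · obtain ⟨x, hx, y, hy, hxy⟩ := (Ideal.not_isPrime_iff.1 hJprime).resolve_left hJtop
      let J' : Ideal B := Submodule.comap (LinearMap.mulRight B x) J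
      have hcol : ∀ r, r ∈ J' ↔ r * x ∈ J := fun r => Iff.rfl
      have hlt' : J < J' := lt_of_le_of_ne (fun r hr => (hcol r).2 (J.mul_mem_right x hr)) (by
        intro h
        apply hy
        rw [h]
        exact (hcol y).2 (by rw [mul_comm]; exact hxy))
      have hlt : J < J ⊔ Ideal.span {x} := lt_of_le_of_ne le_sup_left (by
        intro h
        apply hx
        rw [h]
        exact Submodule.mem_sup_right (Ideal.subset_span rfl))
      intro i hi
      exact subsingleton_hom_X₂ (colonSC_shortExact J' J x hcol) (K⟦i⟧) (ih _ hlt' i hi)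
        (ih _ hlt i hi)

end MaxCrit

end Groth.Agent.Lib.Helper18.DR
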