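import Mathlib
import Groth.Agent.Lib.Helper18.MaxCrit3

/-!
# Flat base change of dualizing complexes when maximal ideals are extended (helper18)
-/

set_option autoImplicit false
set_option linter.style.haveILetI false
universe u
open CategoryTheory CategoryTheory.Limits CategoryTheory.Pretriangulated DerivedCategory
open TensorProduct

attribute [local instance] HasDerivedCategory.standard

namespace Groth.Agent.Lib.Helper18.DR

namespace MaxCrit

open HomLoc HomBC

section crit

variable {B : Type u} [CommRing B] [IsNoetherianRing B]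

/-- finite injective dimension is detected by the residue fields at maximal ideals -/
theorem fidIn_of_maximal (K : Dual.D B) (a b : ℤ) [K.IsGE a]
    (hfin : ∀ j : ℤ, Module.Finite B (Dual.HD B K j))
    (hmax : ∀ m : Ideal B, m.IsMaximal → ∀ i : ℤ, b < i →
      Subsingleton (Sg 0 (ModuleCat.of B (B ⧸ m)) ⟶ K⟦i⟧)) : FidIn K a b := by
  have h3 : ∀ (I : Ideal B) (i : ℤ), (i < a ∨ b < i) →
      Subsingleton (DRing.ExtD B (Dual.inD B (B ⧸ I)) K i) := by
    rintro I i (hi | hi)
    · haveI : (K⟦i⟧).IsGE (a - i) := TStructure.t.isGE_shift K a i (a - i) (by omega)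
      exact ⟨fun x y => by
        rw [TStructure.t.zero (X := Dual.inD B (B ⧸ I)) x 0 (a - i) (by omega),
          TStructure.t.zero (X := Dual.inD B (B ⧸ I)) y 0 (a - i) (by omega)]⟩
    · exact van_all K b a hfin hmax I i hi
  exact ((injAmp_tfae K a b).out 2 1).1 h3

end crit

section flat

variable {A B : Type u} [CommRing A] [CommRing B] [Algebra A B] [Module.Flat A B]

lemma subsingleton_hom_extD_of_bcProp {N L : Dual.D A} (h : BCProp (B := B) L N)
    (hs : Subsingleton (N ⟶ L)) : Subsingleton ((extD A B).obj N ⟶ (extD A B).obj L) := by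
  haveI := subsingleton_tensor_of_subsingleton (A := A) (B := B) (N ⟶ L)
  exact h.2.subsingleton

variable [IsNoetherianRing A] (ω : Dual.D A) (hω : Dual.IsDualizing A ω)

include hω

lemma finite_HD_extD (j : ℤ) : Module.Finite B (Dual.HD B ((extD A B).obj ω) j) := by
  haveI := hω.finite_cohomology j
  haveI : Module.Finite B ((extM (A := A) (B := B)).obj ((H A j).obj ω)) := finite_extM _
  exact Module.Finite.equiv (homologyMapDIso (extM (A := A) (B := B)) ω j).toLinearEquiv.symm

lemma toEnd_bijective_extD :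
    Function.Bijective (fun b : B => b • 𝟙 ((extD A B).obj ω)) := by
  obtain ⟨a, b, hab⟩ := hω.finite_injective_dimension
  have hfid : FidIn ω a b := hab
  haveI := hfid.isGE
  haveI := hfid.isLE
  have hpc : DRing.IsPseudoCoherent' A ω :=
    isPseudoCoherent'_of_isLE_of_finite ω b hω.finite_cohomology
  have hbc : BCProp (B := B) ω ω := bcProp_of_isPseudoCoherent' a ω hpc
  let f : A →ₗ[A] (ω ⟶ ω) := LinearMap.toSpanSingleton A (ω ⟶ ω) (𝟙 ω)
  have hf : Function.Bijective f := by
    have : (f : A → (ω ⟶ ω)) = fun a : A => a • 𝟙 ω := by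
      funext a
      exact LinearMap.toSpanSingleton_apply _ _ _ _
    rw [this]
    exact hω.toEnd_bijective
  have hf' : Function.Bijective (f.lTensor B) :=
    ((LinearEquiv.ofBijective f hf).lTensor B).bijective
  let ι : B → B ⊗[A] A := fun b => b ⊗ₜ[A] (1 : A)
  have hι : Function.Bijective ι := by
    have : ι = (TensorProduct.rid A B).symm := by
      funext b
      exact (TensorProduct.rid_symm_apply b).symm
    rw [this]
    exact (TensorProduct.rid A B).symm.bijective
  have hg : (fun b : B => b • 𝟙 ((extD A B).obj ω)) =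
      (Ψ (B := B) ω ω) ∘ (f.lTensor B) ∘ ι := by
    funext b
    change _ = Ψ (B := B) ω ω (f.lTensor B (b ⊗ₜ[A] (1 : A)))
    rw [LinearMap.lTensor_tmul, Ψ_tmul, LinearMap.toSpanSingleton_apply, one_smul,
      CategoryTheory.Functor.map_id]
  rw [hg]
  exact hbc.comp (hf'.comp hι)

lemma ext_self_subsingleton_extD (i : ℤ) (hi : i ≠ 0) :
    Subsingleton ((extD A B).obj ω ⟶ ((extD A B).obj ω)⟦i⟧) := by
  obtain ⟨a, b, hab⟩ := hω.finite_injective_dimension
  have hfid : FidIn ω a b := hab
  haveI := hfid.isGE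
  haveI := hfid.isLE
  have hpc : DRing.IsPseudoCoherent' A ω :=
    isPseudoCoherent'_of_isLE_of_finite ω b hω.finite_cohomology
  haveI : (ω⟦i⟧).IsGE (a - i) := TStructure.t.isGE_shift ω a i (a - i) (by omega)
  have hbc : BCProp (B := B) (ω⟦i⟧) ω := bcProp_of_isPseudoCoherent' (a - i) ω hpc
  have hs := subsingleton_hom_extD_of_bcProp hbc (hω.ext_self_subsingleton i hi)
  let c := ((extD A B).commShiftIso i).app ω
  exact ⟨fun x y => by
    rw [← cancel_mono c.inv]
    exact hs.elim _ _⟩

/-- base change of a dualizing complex along a flat map such that every maximal ideal of the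
target is extended from the source -/
theorem isDualizing_extD_of_maximal_map [IsNoetherianRing B]
    (hmax : ∀ m' : Ideal B, m'.IsMaximal → ∃ m : Ideal A, m.map (algebraMap A B) = m') :
    Dual.IsDualizing B ((extD A B).obj ω) := by
  obtain ⟨a, b, hab⟩ := hω.finite_injective_dimension
  have hfid : FidIn ω a b := hab
  haveI := hfid.isGE
  haveI : ((extD A B).obj ω).IsGE a := isGE_mapD (extM (A := A) (B := B)) ω a
  have hfidB : FidIn ((extD A B).obj ω) a b := by
    refine fidIn_of_maximal _ a b (finite_HD_extD ω hω) ?_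
    rintro m' hm' i hi
    obtain ⟨m, rfl⟩ := hmax m' hm'
    let M : ModuleCat.{u} A := ModuleCat.of A (A ⧸ m)
    haveI : (ω⟦i⟧).IsGE (a - i) := TStructure.t.isGE_shift ω a i (a - i) (by omega)
    have hbc : BCProp (B := B) (ω⟦i⟧) (Sg 0 M) :=
      bcProp_of_isPseudoCoherent' (a - i) _ (isPseudoCoherent'_Sg_of_finite M 0)
    have hs := subsingleton_hom_extD_of_bcProp hbc (hfid (A ⧸ m) i (Or.inr hi))
    let σ : (extD A B).obj (Sg 0 M) ≅ Sg 0 (ModuleCat.of B (B ⧸ m.map (algebraMap A B))) :=
      mapDSgIso (extM (A := A) (B := B)) 0 M ≪≫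
        (singleFunctor (ModuleCat.{u} B) 0).mapIso (extMQuotIso m)
    let c := ((extD A B).commShiftIso i).app ω
    exact ⟨fun x y => by
      rw [← cancel_epi σ.hom, ← cancel_mono c.inv]
      exact hs.elim _ _⟩
  exact ⟨inferInstance, ⟨a, b, hfidB⟩, finite_HD_extD ω hω, toEnd_bijective_extD ω hω,
    ext_self_subsingleton_extD ω hω⟩

end flat

end MaxCrit

end Groth.Agent.Lib.Helper18.DR
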