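import Mathlib
import Groth.Prelude.Def_DTen4
import Groth.Agent.Lib.Helper13.KInjAdj
import Groth.Agent.Lib.Helper18.DRInj
import Groth.Agent.Lib.Helper18.DRHomSg

/-!
# Coextension of scalars on complexes and right adjoints of restriction (helper18)

For a ring map `φ : A → B` and a K-injective complex `J` of `A`-modules, any right adjoint `R` of the
restriction functor `D(B) ⥤ D(A)` satisfies `R(Q J) ≅ Q(Hom_A(B, J))`.
-/

set_option autoImplicit false
set_option linter.style.haveILetI false
universe u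
open CategoryTheory CategoryTheory.Limits CategoryTheory.Pretriangulated DerivedCategory

attribute [local instance] HasDerivedCategory.standard

namespace Groth.Agent.Lib.Helper18.DR

namespace Coext

variable {A B : Type u} [CommRing A] [CommRing B] (φ : A →+* B)

/-- coextension of scalars `M ↦ Hom_A(B, M)` -/
noncomputable abbrev coextM : ModuleCat.{u} A ⥤ ModuleCat.{u} B :=
  ModuleCat.coextendScalars.{u, u, u} φ

/-- the adjunction between restriction and coextension -/
noncomputable abbrev rcAdj : ModuleCat.restrictScalars.{u} φ ⊣ coextM φ :=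
  ModuleCat.restrictCoextendScalarsAdj.{u, u, u} φ

instance : (coextM φ).Additive := (rcAdj φ).right_adjoint_additive

/-- termwise coextension of scalars on complexes -/
noncomputable abbrev coextCx : DRing.Cx A ⥤ DRing.Cx B :=
  (coextM φ).mapHomologicalComplex (ComplexShape.up ℤ)

/-- the unit on complexes -/
noncomputable def unitCx (K : DRing.Cx B) : K ⟶ (coextCx φ).obj ((DTen.resCx φ).obj K) where
  f n := (rcAdj φ).unit.app (K.X n)
  comm' i j _ := ((rcAdj φ).unit.naturality (K.d i j)).symm

/-- the counit on complexes -/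
noncomputable def counitCx (I : DRing.Cx A) : (DTen.resCx φ).obj ((coextCx φ).obj I) ⟶ I where
  f n := (rcAdj φ).counit.app (I.X n)
  comm' i j _ := ((rcAdj φ).counit.naturality (I.d i j)).symm

variable {φ}

/-- the chain-level adjunct -/
noncomputable def sharp {K : DRing.Cx B} {I : DRing.Cx A} (h : (DTen.resCx φ).obj K ⟶ I) :
    K ⟶ (coextCx φ).obj I :=
  unitCx φ K ≫ (coextCx φ).map h

/-- the chain-level adjunct, other direction -/
noncomputable def flat {K : DRing.Cx B} {I : DRing.Cx A} (g : K ⟶ (coextCx φ).obj I) :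
    (DTen.resCx φ).obj K ⟶ I :=
  (DTen.resCx φ).map g ≫ counitCx φ I

lemma flat_sharp {K : DRing.Cx B} {I : DRing.Cx A} (h : (DTen.resCx φ).obj K ⟶ I) :
    flat (sharp h) = h := by
  ext n : 1
  change (ModuleCat.restrictScalars.{u} φ).map ((rcAdj φ).unit.app (K.X n) ≫
    (coextM φ).map (h.f n)) ≫ (rcAdj φ).counit.app (I.X n) = h.f n
  erw [← Adjunction.homEquiv_unit, ← Adjunction.homEquiv_counit, Equiv.symm_apply_apply]

lemma sharp_flat {K : DRing.Cx B} {I : DRing.Cx A} (g : K ⟶ (coextCx φ).obj I) :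
    sharp (flat g) = g := by
  ext n : 1
  have h1 : (ModuleCat.restrictScalars.{u} φ).map (g.f n) ≫ (rcAdj φ).counit.app (I.X n) =
      ((rcAdj φ).homEquiv (K.X n) (I.X n)).symm (g.f n) :=
    ((rcAdj φ).homEquiv_counit _ _ _).symm
  have h2 : ∀ t : (ModuleCat.restrictScalars.{u} φ).obj (K.X n) ⟶ I.X n,
      (rcAdj φ).unit.app (K.X n) ≫ (coextM φ).map t = (rcAdj φ).homEquiv _ _ t :=
    fun t => ((rcAdj φ).homEquiv_unit _ _ _).symm
  change (rcAdj φ).unit.app (K.X n) ≫ (coextM φ).map
    ((ModuleCat.restrictScalars.{u} φ).map (g.f n) ≫ (rcAdj φ).counit.app (I.X n)) = g.f n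
  rw [h1, h2, Equiv.apply_symm_apply]

/-- adjuncts of homotopic maps are homotopic -/
noncomputable def sharpHomotopy {K : DRing.Cx B} {I : DRing.Cx A}
    {h h' : (DTen.resCx φ).obj K ⟶ I} (H : Homotopy h h') : Homotopy (sharp h) (sharp h') :=
  ((coextM φ).mapHomotopy H).compLeft (unitCx φ K)

instance isKInjective_coextCx (J : DRing.Cx A) [J.IsKInjective] :
    ((coextCx φ).obj J).IsKInjective :=
  Groth.Agent.Lib.Helper13.KInjAdj.isKInjective_map_of_adjoint (rcAdj φ) J

variable (φ)

/-- the counit in `D(A)` -/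
noncomputable def counitD (J : DRing.Cx A) :
    (DRing.restrictD φ).obj (DerivedCategory.Q.obj ((coextCx φ).obj J)) ⟶ DerivedCategory.Q.obj J :=
  (DTen.resFactors φ).hom.app ((coextCx φ).obj J) ≫ DerivedCategory.Q.map (counitCx φ J)

lemma restrictD_map_Q_comp_counitD {K : DRing.Cx B} {J : DRing.Cx A}
    (g : K ⟶ (coextCx φ).obj J) :
    (DRing.restrictD φ).map (DerivedCategory.Q.map g) ≫ counitD φ J =
      (DTen.resFactors φ).hom.app K ≫ DerivedCategory.Q.map (flat g) := by
  dsimp only [counitD, flat]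
  rw [Functor.map_comp, ← Category.assoc, ← Category.assoc]
  congr 1
  exact (DTen.resFactors φ).hom.naturality g

/-- universality of the counit -/
theorem bijective_comp_counitD (J : DRing.Cx A) [J.IsKInjective] (Y : Dual.D B) :
    Function.Bijective (fun x : Y ⟶ DerivedCategory.Q.obj ((coextCx φ).obj J) =>
      (DRing.restrictD φ).map x ≫ counitD φ J) := by
  obtain ⟨K, ⟨e⟩⟩ : ∃ K : DRing.Cx B, Nonempty (DRing.toD K ≅ Y) :=
    ⟨DerivedCategory.Q.objPreimage Y, ⟨DerivedCategory.Q.objObjPreimageIso Y⟩⟩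
  constructor
  · intro x x' hxx
    have hxx' : (DRing.restrictD φ).map x ≫ counitD φ J =
        (DRing.restrictD φ).map x' ≫ counitD φ J := hxx
    obtain ⟨g, hg⟩ := exists_map_eq_inj K ((coextCx φ).obj J) (e.hom ≫ x)
    obtain ⟨g', hg'⟩ := exists_map_eq_inj K ((coextCx φ).obj J) (e.hom ≫ x')
    have h1 : DerivedCategory.Q.map (flat g) = DerivedCategory.Q.map (flat g') := by
      rw [← cancel_epi ((DTen.resFactors φ).hom.app K), ← restrictD_map_Q_comp_counitD,
        ← restrictD_map_Q_comp_counitD, hg, hg', Functor.map_comp, Functor.map_comp,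
        Category.assoc, Category.assoc, hxx']
    obtain ⟨H⟩ := nonempty_homotopy_of_map_eq_inj _ J _ _ h1
    have H' := sharpHomotopy H
    rw [sharp_flat, sharp_flat] at H'
    have h2 : DerivedCategory.Q.map g = DerivedCategory.Q.map g' :=
      Q_map_eq_of_homotopy H'
    rw [hg, hg'] at h2
    exact (cancel_epi e.hom).1 h2
  · intro y
    obtain ⟨h, hh⟩ := exists_map_eq_inj ((DTen.resCx φ).obj K) J
      ((DTen.resFactors φ).inv.app K ≫ (DRing.restrictD φ).map e.hom ≫ y)
    refine ⟨e.inv ≫ DerivedCategory.Q.map (sharp h), ?_⟩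
    change (DRing.restrictD φ).map (e.inv ≫ DerivedCategory.Q.map (sharp h)) ≫ counitD φ J = y
    rw [Functor.map_comp, Category.assoc, restrictD_map_Q_comp_counitD, flat_sharp, hh,
      Iso.hom_inv_id_app_assoc, ← Functor.map_comp_assoc, Iso.inv_hom_id,
      CategoryTheory.Functor.map_id, Category.id_comp]

/-- any right adjoint of restriction is computed by coextension on K-injective complexes -/
theorem isIso_adjunct_counitD (R : Dual.D A ⥤ Dual.D B) (adj : DRing.restrictD φ ⊣ R)
    (J : DRing.Cx A) [J.IsKInjective] :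
    IsIso (adj.homEquiv _ _ (counitD φ J)) := by
  apply isIso_of_yoneda_map_bijective
  intro Y
  have h1 := bijective_comp_counitD φ J Y
  have h2 : (fun x : Y ⟶ DerivedCategory.Q.obj ((coextCx φ).obj J) =>
      x ≫ adj.homEquiv _ _ (counitD φ J)) =
      (adj.homEquiv Y (DerivedCategory.Q.obj J)) ∘
        (fun x => (DRing.restrictD φ).map x ≫ counitD φ J) := by
    funext x
    simp only [Function.comp_apply]
    rw [Adjunction.homEquiv_naturality_left]
  rw [h2]
  exact (adj.homEquiv Y _).bijective.comp h1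

/-- `R(Q J) ≅ Q(Hom_A(B, J))` -/
noncomputable def rightAdjointIso (R : Dual.D A ⥤ Dual.D B) (adj : DRing.restrictD φ ⊣ R)
    (J : DRing.Cx A) [J.IsKInjective] :
    DerivedCategory.Q.obj ((coextCx φ).obj J) ≅ R.obj (DerivedCategory.Q.obj J) :=
  haveI := isIso_adjunct_counitD φ R adj J
  asIso (adj.homEquiv _ _ (counitD φ J))

end Coext

end Groth.Agent.Lib.Helper18.DR
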