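import Mathlib
import Groth.Agent.Lib.Helper18.CoextA
import Groth.Agent.Lib.Helper18.DRInjAmp

/-!
# The triangle `RHom(A/f, ω) → ω → ω` (helper18)
-/

set_option autoImplicit false
set_option linter.style.haveILetI false
universe u
open CategoryTheory CategoryTheory.Limits CategoryTheory.Pretriangulated DerivedCategory

attribute [local instance] HasDerivedCategory.standard

namespace Groth.Agent.Lib.Helper18.DR

namespace Coext

variable {A : Type u} [CommRing A]

/-- injective modules are divisible by nonzerodivisors -/
lemma exists_smul_eq_of_injective (M : Type u) [AddCommGroup M] [Module A M]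
    [Module.Injective A M] (f : A) (hf : f ∈ nonZeroDivisors A) (x : M) : ∃ y : M, f • y = x := by
  have hinj : Function.Injective (LinearMap.toSpanSingleton A A f) := by
    rw [injective_iff_map_eq_zero]
    intro a ha
    rw [LinearMap.toSpanSingleton_apply, smul_eq_mul] at ha
    exact (mem_nonZeroDivisors_iff_right.1 hf) a ha
  obtain ⟨h, hh⟩ := Module.Injective.out (LinearMap.toSpanSingleton A A f) hinj
    (LinearMap.toSpanSingleton A M x)
  refine ⟨h 1, ?_⟩
  have := hh 1
  rw [LinearMap.toSpanSingleton_apply, LinearMap.toSpanSingleton_apply, one_smul, one_smul]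
    at this
  rw [← map_smul, smul_eq_mul, mul_one]
  exact this

variable (I : Ideal A)

/-- the element of `Hom_A(A/I, M)` attached to an `I`-torsion element -/
noncomputable def torsionLift (M : ModuleCat.{u} A) (x : M) (hx : ∀ a ∈ I, a • x = 0) :
    (coextM (Ideal.Quotient.mk I)).obj M :=
  (ModuleCat.CoextendScalars.equiv (Ideal.Quotient.mk I) M).symm
    { toFun := fun b => Submodule.liftQ I (LinearMap.toSpanSingleton A M x)
        (fun a ha => by
          rw [LinearMap.mem_ker, LinearMap.toSpanSingleton_apply]
          exact hx a ha) b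
      map_add' := fun b b' => map_add _ b b'
      map_smul' := fun a b => by
        obtain ⟨b', rfl⟩ := Ideal.Quotient.mk_surjective b
        change Submodule.liftQ I _ _ (Ideal.Quotient.mk I a * Ideal.Quotient.mk I b') = _
        rw [← map_mul]
        change LinearMap.toSpanSingleton A M x (a * b') =
          a • LinearMap.toSpanSingleton A M x b'
        rw [LinearMap.toSpanSingleton_apply, LinearMap.toSpanSingleton_apply, mul_smul] }

lemma counit_torsionLift (M : ModuleCat.{u} A) (x : M) (hx : ∀ a ∈ I, a • x = 0) :
    ((rcAdj (Ideal.Quotient.mk I)).counit.app M).hom (torsionLift I M x hx) = x := by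
  change LinearMap.toSpanSingleton A M x (1 : A) = x
  rw [LinearMap.toSpanSingleton_apply, one_smul]

lemma coext_apply_mk (M : ModuleCat.{u} A) (g : (coextM (Ideal.Quotient.mk I)).obj M) (a : A) :
    ModuleCat.CoextendScalars.equiv (Ideal.Quotient.mk I) M g (Ideal.Quotient.mk I a) =
      a • ModuleCat.CoextendScalars.equiv (Ideal.Quotient.mk I) M g (1 : A ⧸ I) := by
  rw [← map_smul]
  congr 1
  change Ideal.Quotient.mk I a = Ideal.Quotient.mk I a * 1
  rw [mul_one]

lemma coext_ext (M : ModuleCat.{u} A) (g g' : (coextM (Ideal.Quotient.mk I)).obj M)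
    (h : ModuleCat.CoextendScalars.equiv (Ideal.Quotient.mk I) M g (1 : A ⧸ I) =
      ModuleCat.CoextendScalars.equiv (Ideal.Quotient.mk I) M g' (1 : A ⧸ I)) : g = g' := by
  apply (ModuleCat.CoextendScalars.equiv (Ideal.Quotient.mk I) M).injective
  refine LinearMap.ext fun b => ?_
  obtain ⟨a, rfl⟩ := Ideal.Quotient.mk_surjective b
  exact (coext_apply_mk I M g a).trans ((congrArg (a • ·) h).trans (coext_apply_mk I M g' a).symm)

lemma counit_injective (M : ModuleCat.{u} A) :
    Function.Injective ((rcAdj (Ideal.Quotient.mk I)).counit.app M).hom :=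
  fun g g' h => coext_ext I M g g' h

lemma smul_counit_eq_zero (M : ModuleCat.{u} A) (g : (coextM (Ideal.Quotient.mk I)).obj M)
    (a : A) (ha : a ∈ I) : a • ((rcAdj (Ideal.Quotient.mk I)).counit.app M).hom g = 0 := by
  change a • ModuleCat.CoextendScalars.equiv (Ideal.Quotient.mk I) M g (1 : A ⧸ I) = 0
  rw [← coext_apply_mk, Ideal.Quotient.eq_zero_iff_mem.2 ha]
  exact LinearMap.map_zero (ModuleCat.CoextendScalars.equiv (Ideal.Quotient.mk I) M g)

end Coext

end Groth.Agent.Lib.Helper18.DR
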