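import Mathlib
import Groth.Agent.Lib.Helper1.InjHullLib2
import Groth.Agent.Lib.Helper1.Matlis
import Groth.Agent.Lib.Helper1.MatlisBaseChange

/-!
# Injective hulls: uniqueness, and the socle criterion over Artinian local rings (helper18)
-/

set_option autoImplicit false
set_option linter.style.haveILetI false
universe u

namespace Groth.Agent.Lib.Helper18.InjH

open Groth.Agent.Lib.Helper1 IsLocalRing

section uniq

variable {R : Type u} [CommRing R]

/-- uniqueness of injective hulls -/
theorem exists_linearEquiv_of_isInjectiveHull {M E E' : Type u} [AddCommGroup M] [Module R M]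
    [AddCommGroup E] [Module R E] [AddCommGroup E'] [Module R E']
    (f : M →ₗ[R] E) (f' : M →ₗ[R] E') (hf : InjHull.IsInjectiveHull f)
    (hf' : InjHull.IsInjectiveHull f') : ∃ g : E ≃ₗ[R] E', ∀ m, g (f m) = f' m := by
  haveI := hf.isInjective
  haveI := hf'.isInjective
  obtain ⟨g, hg⟩ := hf'.isInjective.out f hf.injective f'
  have hginj : Function.Injective g := by
    rw [← LinearMap.ker_eq_bot]
    by_contra hne
    apply hf.essential _ hne
    rw [eq_bot_iff]
    rintro x ⟨hx1, ⟨m, rfl⟩⟩
    have h1 : g (f m) = 0 := hx1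
    rw [hg] at h1
    have : m = 0 := hf'.injective (by rw [h1, map_zero])
    rw [this, map_zero]
    exact Submodule.zero_mem _
  let eR : E ≃ₗ[R] LinearMap.range g := LinearEquiv.ofInjective g hginj
  haveI : Module.Injective R (LinearMap.range g) := InjHullLib.injective_of_linearEquiv eR
  obtain ⟨C, hC⟩ := InjHullLib.exists_isCompl_of_injective_submodule (LinearMap.range g)
  have hCbot : C = ⊥ := by
    by_contra hne
    apply hf'.essential C hne
    rw [eq_bot_iff]
    rintro x ⟨hxC, ⟨m, rfl⟩⟩
    have : f' m ∈ LinearMap.range g ⊓ C := ⟨⟨f m, hg m⟩, hxC⟩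
    rw [hC.inf_eq_bot] at this
    exact this
  have hsurj : LinearMap.range g = ⊤ := by
    have := hC.sup_eq_top
    rwa [hCbot, sup_bot_eq] at this
  exact ⟨LinearEquiv.ofBijective g ⟨hginj, LinearMap.range_eq_top.1 hsurj⟩, hg⟩

end uniq

section socle

variable {R : Type u} [CommRing R] [IsLocalRing R]

/-- an injective power-torsion module whose socle is the image of a nonzero map from the residue
field is an injective hull of the residue field -/
theorem isInjectiveHull_of_socle {Q : Type u} [AddCommGroup Q] [Module R Q]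
    [Module.Injective R Q] (hQ : LocCoh.IsPowerTorsion (maximalIdeal R) Q)
    (f : ResidueField R →ₗ[R] Q) (hf : f ≠ 0)
    (hsoc : ∀ x : Q, (∀ r ∈ maximalIdeal R, r • x = 0) → x ∈ LinearMap.range f) :
    InjHull.IsInjectiveHull f := by
  haveI : IsSimpleModule R (ResidueField R) := Matlis.isSimpleModule_residueField
  refine ⟨(InjHullLib.isEssentialInj_iff f).2 ⟨?_, fun x hx => ?_⟩, inferInstance⟩
  · exact (LinearMap.injective_or_eq_zero f).resolve_right hf
  · obtain ⟨r, hr0, hr⟩ := Matlis.exists_smul_mem_socle hQ x hx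
    refine ⟨r, hr0, hsoc _ (fun a ha => ?_)⟩
    rw [Submodule.mem_torsionBySet_iff] at hr
    exact hr ⟨a, ha⟩

end socle

end Groth.Agent.Lib.Helper18.InjH
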