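import Mathlib
import Groth.Agent.Lib.Helper18.InjH
import Groth.Agent.Lib.Helper18.CoextB

/-!
# The injective hull of the residue field of a quotient `A ⧸ I` (helper18)
-/

set_option autoImplicit false
set_option linter.style.haveILetI false
universe u
open CategoryTheory

namespace Groth.Agent.Lib.Helper18.InjH

open Groth.Agent.Lib.Helper1 IsLocalRing Groth.Agent.Lib.Helper18.DR

variable {A : Type u} [CommRing A] [IsLocalRing A] (I : Ideal A) [IsLocalRing (A ⧸ I)]

lemma mk_mem_maximalIdeal_iff (a : A) :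
    Ideal.Quotient.mk I a ∈ maximalIdeal (A ⧸ I) ↔ a ∈ maximalIdeal A := by
  haveI : IsLocalHom (Ideal.Quotient.mk I) :=
    IsLocalHom.of_surjective _ Ideal.Quotient.mk_surjective
  rw [mem_maximalIdeal, mem_maximalIdeal, mem_nonunits_iff, mem_nonunits_iff, not_iff_not]
  exact ⟨fun h => isUnit_of_map_unit (Ideal.Quotient.mk I) a h, fun h => h.map _⟩

/-- `Hom_A(A/I, E)` is an injective hull of the residue field of `A/I` -/
theorem exists_isInjectiveHull_coext
    (hQ : ∀ (Q : Type u) [AddCommGroup Q] [Module (A ⧸ I) Q],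
      LocCoh.IsPowerTorsion (maximalIdeal (A ⧸ I)) Q)
    (E : Type u) [AddCommGroup E] [Module A E]
    (f : ResidueField A →ₗ[A] E) (hf : InjHull.IsInjectiveHull f) :
    ∃ fB : ResidueField (A ⧸ I) →ₗ[A ⧸ I]
        ((Coext.coextM (Ideal.Quotient.mk I)).obj (ModuleCat.of A E)),
      InjHull.IsInjectiveHull fB := by
  let EB := (Coext.coextM (Ideal.Quotient.mk I)).obj (ModuleCat.of A E)
  -- injectivity
  haveI := hf.isInjective
  haveI : Injective (ModuleCat.of A E) := Module.injective_object_of_injective_module A E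
  haveI : Injective EB := Injective.injective_of_adjoint (Coext.rcAdj (Ideal.Quotient.mk I)) _
  haveI : Module.Injective (A ⧸ I) EB := Module.injective_module_of_injective_object (A ⧸ I) EB
  -- the counit
  let c : EB → E := ((Coext.rcAdj (Ideal.Quotient.mk I)).counit.app (ModuleCat.of A E)).hom
  have hc_inj : Function.Injective c := Coext.counit_injective I (ModuleCat.of A E)
  have hc_smul : ∀ (a : A) (g : EB), c (Ideal.Quotient.mk I a • g) = a • c g := fun a g =>
    map_smul ((Coext.rcAdj (Ideal.Quotient.mk I)).counit.app (ModuleCat.of A E)).hom a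
      (show ((ModuleCat.restrictScalars.{u} (Ideal.Quotient.mk I)).obj EB) from g)
  have hc_zero : c 0 = 0 :=
    map_zero ((Coext.rcAdj (Ideal.Quotient.mk I)).counit.app (ModuleCat.of A E)).hom
  -- `I ≤ m`
  have hIm : I ≤ maximalIdeal A := by
    intro a ha
    rw [← mk_mem_maximalIdeal_iff I, Ideal.Quotient.eq_zero_iff_mem.2 ha]
    exact Submodule.zero_mem _
  -- the generator of the socle
  have hf1 : ∀ a ∈ maximalIdeal A, a • f 1 = 0 := by
    intro a ha
    rw [← map_smul, Matlis.residue_smul_one, (IsLocalRing.residue_eq_zero_iff a).2 ha, map_zero]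
  let t : EB := Coext.torsionLift I (ModuleCat.of A E) (f 1) (fun a ha => hf1 a (hIm ha))
  have hct : c t = f 1 := Coext.counit_torsionLift I (ModuleCat.of A E) (f 1) _
  have ht_ne : t ≠ 0 := by
    intro h
    have h1 : f 1 = 0 := by rw [← hct, h, hc_zero]
    exact one_ne_zero (hf.injective (h1.trans (map_zero f).symm))
  have ht_kill : ∀ b ∈ maximalIdeal (A ⧸ I), b • t = 0 := by
    intro b hb
    obtain ⟨a, rfl⟩ := Ideal.Quotient.mk_surjective b
    apply hc_inj
    rw [hc_smul, hct, hc_zero]
    exact hf1 a ((mk_mem_maximalIdeal_iff I a).1 hb)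
  let fB : ResidueField (A ⧸ I) →ₗ[A ⧸ I] EB :=
    (Submodule.liftQ (maximalIdeal (A ⧸ I)) (LinearMap.toSpanSingleton (A ⧸ I) EB t)
      (fun b hb => by
        rw [LinearMap.mem_ker, LinearMap.toSpanSingleton_apply]
        exact ht_kill b hb)).comp (Matlis.quotEquivResidueField (R := A ⧸ I)).symm.toLinearMap
  have hfB1 : fB 1 = t := by
    change (LinearMap.toSpanSingleton (A ⧸ I) EB t) 1 = t
    rw [LinearMap.toSpanSingleton_apply, one_smul]
  refine ⟨fB, isInjectiveHull_of_socle (hQ EB) fB (fun h => ht_ne ?_) (fun g hg => ?_)⟩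
  · rw [← hfB1, h]
    rfl
  · have h1 : ∀ a ∈ maximalIdeal A, a • c g = 0 := by
      intro a ha
      rw [← hc_smul, hg _ ((mk_mem_maximalIdeal_iff I a).2 ha), hc_zero]
    obtain ⟨y, hy⟩ := Matlis.mem_range_of_forall_smul_eq_zero f hf (c g) h1
    obtain ⟨a', rfl⟩ := IsLocalRing.residue_surjective y
    refine ⟨Ideal.Quotient.mk I a' • 1, ?_⟩
    rw [map_smul, hfB1]
    apply hc_inj
    rw [hc_smul, hct, ← hy, ← Matlis.residue_smul_one, map_smul]

end Groth.Agent.Lib.Helper18.InjH
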