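import Mathlib
import Groth.Prelude.Def_DRing4

/-!
# The complex `Hom_A(M, E)` for a module `M` and a complex `E` (helper18)
-/

set_option autoImplicit false
set_option linter.style.haveILetI false
universe u
open CategoryTheory CategoryTheory.Limits

attribute [local instance] HasDerivedCategory.standard

namespace Groth.Agent.Lib.Helper18.DR

namespace Bid

variable {A : Type u} [CommRing A]

/-- `Hom_A(M, -)` as an endofunctor of `A`-modules -/
noncomputable def homM (M : ModuleCat.{u} A) : ModuleCat.{u} A ⥤ ModuleCat.{u} A where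
  obj N := ModuleCat.of A (M →ₗ[A] N)
  map {N N'} f := ModuleCat.ofHom (LinearMap.llcomp A M N N' f.hom)
  map_id N := by
    ext g
    rfl
  map_comp f g := by
    ext h
    rfl

lemma homM_map_apply (M : ModuleCat.{u} A) {N N' : ModuleCat.{u} A} (f : N ⟶ N')
    (g : M →ₗ[A] N) : ((homM M).map f).hom g = f.hom ∘ₗ g := rfl

instance (M : ModuleCat.{u} A) : (homM M).Additive where
  map_add {N N' f g} := by
    ext h
    rfl

/-- precomposition -/
noncomputable def homMPre {M N : ModuleCat.{u} A} (f : M ⟶ N) : homM N ⟶ homM M where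
  app X := ModuleCat.ofHom (LinearMap.lcomp A X f.hom)
  naturality X Y g := by
    ext h
    rfl

lemma homMPre_app_apply {M N : ModuleCat.{u} A} (f : M ⟶ N) (X : ModuleCat.{u} A)
    (g : N →ₗ[A] X) : ((homMPre f).app X).hom g = g ∘ₗ f.hom := rfl

variable (E : DRing.Cx A)

/-- the complex `Hom_A(M, E)` -/
noncomputable def Dc (M : ModuleCat.{u} A) : DRing.Cx A :=
  ((homM M).mapHomologicalComplex (ComplexShape.up ℤ)).obj E

/-- contravariant functoriality of `Hom_A(M, E)` in `M` -/
noncomputable def Dmap {M N : ModuleCat.{u} A} (f : M ⟶ N) : Dc E N ⟶ Dc E M :=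
  (NatTrans.mapHomologicalComplex (homMPre f) (ComplexShape.up ℤ)).app E

lemma Dmap_f_apply {M N : ModuleCat.{u} A} (f : M ⟶ N) (i : ℤ) (g : N →ₗ[A] E.X i) :
    ((Dmap E f).f i).hom g = g ∘ₗ f.hom := rfl

lemma Dmap_id (M : ModuleCat.{u} A) : Dmap E (𝟙 M) = 𝟙 (Dc E M) := by
  ext i g
  rfl

lemma Dmap_comp {M N P : ModuleCat.{u} A} (f : M ⟶ N) (g : N ⟶ P) :
    Dmap E (f ≫ g) = Dmap E g ≫ Dmap E f := by
  ext i h
  rfl

/-- evaluation at an element of `M` -/
noncomputable def evM {M : ModuleCat.{u} A} (m : M) : Dc E M ⟶ E where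
  f i := ModuleCat.ofHom (LinearMap.applyₗ m)
  comm' i j _ := by
    ext g
    rfl

lemma evM_f_apply {M : ModuleCat.{u} A} (m : M) (i : ℤ) (g : M →ₗ[A] E.X i) :
    ((evM E m).f i).hom g = g m := rfl

lemma evM_add {M : ModuleCat.{u} A} (m m' : M) : evM E (m + m') = evM E m + evM E m' := by
  ext i (g : M →ₗ[A] E.X i)
  exact map_add g m m'

lemma evM_zero {M : ModuleCat.{u} A} : evM E (0 : M) = 0 := by
  ext i (g : M →ₗ[A] E.X i)
  exact map_zero g

lemma evM_smul {M : ModuleCat.{u} A} (a : A) (m : M) : evM E (a • m) = a • evM E m := by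
  ext i (g : M →ₗ[A] E.X i)
  exact map_smul g a m

lemma evM_naturality {M N : ModuleCat.{u} A} (f : M ⟶ N) (m : M) :
    evM E (f.hom m) = Dmap E f ≫ evM E m := by
  ext i g
  rfl

lemma Dmap_zero {M N : ModuleCat.{u} A} : Dmap E (0 : M ⟶ N) = 0 := by
  ext i (g : N →ₗ[A] E.X i)
  exact LinearMap.comp_zero g

/-- `Hom_A(M, E)` vanishes where `E` does -/
lemma isZero_Dc_X (M : ModuleCat.{u} A) (i : ℤ) (h : IsZero (E.X i)) : IsZero ((Dc E M).X i) :=
  (homM M).map_isZero h

lemma vanishesOutside_Dc (M : ModuleCat.{u} A) (a b : ℤ) (h : DRing.VanishesOutside E a b) :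
    DRing.VanishesOutside (Dc E M) a b := fun i hi => isZero_Dc_X E M i (h i hi)

/-- evaluation at `1 : A` is an isomorphism `Hom_A(A, E) ≅ E` -/
instance isIso_evM_one : IsIso (evM E (1 : (ModuleCat.of A A : ModuleCat.{u} A))) := by
  haveI : ∀ i, IsIso ((evM E (1 : (ModuleCat.of A A : ModuleCat.{u} A))).f i) := by
    intro i
    rw [ConcreteCategory.isIso_iff_bijective]
    constructor
    · intro (g : A →ₗ[A] E.X i) (g' : A →ₗ[A] E.X i) (h : g 1 = g' 1)
      exact LinearMap.ext_ring h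
    · intro x
      exact ⟨LinearMap.toSpanSingleton A _ x, one_smul A x⟩
  exact HomologicalComplex.Hom.isIso_of_components _

lemma evM_eq_smul_evM_one (a : A) :
    evM E (a : (ModuleCat.of A A : ModuleCat.{u} A)) =
      evM E (1 : (ModuleCat.of A A : ModuleCat.{u} A)) ≫ (a • 𝟙 E) := by
  ext i (g : A →ₗ[A] E.X i)
  change g a = a • g 1
  rw [← map_smul, smul_eq_mul, mul_one]

section exact

variable {E} (hE : DRing.TermwiseInjective E) (S : ShortComplex (ModuleCat.{u} A))

/-- the sequence `Hom(S.X₃, E) → Hom(S.X₂, E) → Hom(S.X₁, E)` -/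
noncomputable def DS : ShortComplex (DRing.Cx A) :=
  ShortComplex.mk (Dmap E S.g) (Dmap E S.f) (by rw [← Dmap_comp, S.zero, Dmap_zero])

include hE in
lemma DS_shortExact (hS : S.ShortExact) : (DS (E := E) S).ShortExact := by
  have hinj : Function.Injective S.f.hom := (ModuleCat.mono_iff_injective _).mp hS.mono_f
  have hsurj : Function.Surjective S.g.hom := (ModuleCat.epi_iff_surjective _).mp hS.epi_g
  have hex : Function.Exact S.f.hom S.g.hom :=
    (ShortComplex.ShortExact.moduleCat_exact_iff_function_exact _).mp hS.exact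
  apply HomologicalComplex.shortExact_of_degreewise_shortExact
  intro i
  apply ModuleCat.shortComplex_shortExact
  · intro (h : S.X₂ →ₗ[A] E.X i)
    change h ∘ₗ S.f.hom = 0 ↔ ∃ g : S.X₃ →ₗ[A] E.X i, g ∘ₗ S.g.hom = h
    constructor
    · intro h0
      have hle : LinearMap.ker S.g.hom ≤ LinearMap.ker h := by
        intro x hx
        obtain ⟨y, rfl⟩ := (hex x).mp hx
        exact LinearMap.congr_fun h0 y
      refine ⟨(LinearMap.ker S.g.hom).liftQ h hle ∘ₗ
        (LinearMap.quotKerEquivOfSurjective S.g.hom hsurj).symm.toLinearMap, ?_⟩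
      ext x
      have h1 : (LinearMap.quotKerEquivOfSurjective S.g.hom hsurj).symm (S.g.hom x) =
          Submodule.Quotient.mk x := by
        rw [LinearEquiv.symm_apply_eq]
        rfl
      change (LinearMap.ker S.g.hom).liftQ h hle
        ((LinearMap.quotKerEquivOfSurjective S.g.hom hsurj).symm (S.g.hom x)) = h x
      rw [h1]
      rfl
    · rintro ⟨g, rfl⟩
      ext x
      change g (S.g.hom (S.f.hom x)) = 0
      have : S.g.hom (S.f.hom x) = 0 := (hex _).mpr ⟨x, rfl⟩
      rw [this, map_zero]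
  · intro (g : S.X₃ →ₗ[A] E.X i) (g' : S.X₃ →ₗ[A] E.X i) (h : g ∘ₗ S.g.hom = g' ∘ₗ S.g.hom)
    exact (LinearMap.cancel_right hsurj).mp h
  · intro (g : S.X₁ →ₗ[A] E.X i)
    haveI := hE i
    obtain ⟨h, hh⟩ := Module.Injective.out S.f.hom hinj g
    exact ⟨h, LinearMap.ext hh⟩

end exact

end Bid

end Groth.Agent.Lib.Helper18.DR
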