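import Mathlib

/-!
# Exactness of `Hom(-, W)` on distinguished triangles, elementwise (helper18)
-/

set_option autoImplicit false
set_option linter.style.haveILetI false
universe u
open CategoryTheory CategoryTheory.Limits CategoryTheory.Pretriangulated

namespace Groth.Agent.Lib.Helper18.DR

namespace Bid

variable {C : Type*} [Category C] [Preadditive C] [HasZeroObject C] [HasShift C ℤ]
  [∀ n : ℤ, (shiftFunctor C n).Additive] [Pretriangulated C]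
  (T : Triangle C) (hT : T ∈ distTriang C) (W : C)

include hT

/-- exactness at `Hom(T.obj₁, W)` -/
lemma exists_of_mor₃_comp_shift_eq_zero (f : T.obj₁ ⟶ W) (hf : T.mor₃ ≫ f⟦(1 : ℤ)⟧' = 0) :
    ∃ g : T.obj₂ ⟶ W, f = T.mor₁ ≫ g := by
  have key : ∃ g' : T.obj₂⟦(1 : ℤ)⟧ ⟶ W⟦(1 : ℤ)⟧, f⟦(1 : ℤ)⟧' = (-(T.mor₁⟦(1 : ℤ)⟧')) ≫ g' :=
    Triangle.yoneda_exact₃ T.rotate (rot_of_distTriang _ hT) (f⟦(1 : ℤ)⟧') hf
  obtain ⟨g', hg'⟩ := key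
  obtain ⟨g₀, hg₀⟩ : ∃ g₀ : T.obj₂ ⟶ W, g₀⟦(1 : ℤ)⟧' = g' :=
    (shiftFunctor C (1 : ℤ)).map_surjective g'
  refine ⟨-g₀, ?_⟩
  apply (shiftFunctor C (1 : ℤ)).map_injective
  rw [hg', ← hg₀, Functor.map_comp, Functor.map_neg, Preadditive.neg_comp,
    Preadditive.comp_neg]

/-- exactness at `Hom(T.obj₃, W⟦1⟧)` -/
lemma exists_shift_of_mor₂_comp_eq_zero (f : T.obj₃ ⟶ W⟦(1 : ℤ)⟧) (hf : T.mor₂ ≫ f = 0) :
    ∃ g : T.obj₁ ⟶ W, f = T.mor₃ ≫ g⟦(1 : ℤ)⟧' := by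
  obtain ⟨g', hg'⟩ := Triangle.yoneda_exact₃ T hT f hf
  obtain ⟨g₀, rfl⟩ := (shiftFunctor C (1 : ℤ)).map_surjective g'
  exact ⟨g₀, hg'⟩

/-- (P1) -/
lemma subsingleton_hom_obj₂ (h₁ : Subsingleton (T.obj₁ ⟶ W)) (h₃ : Subsingleton (T.obj₃ ⟶ W)) :
    Subsingleton (T.obj₂ ⟶ W) := by
  refine ⟨fun f f' => ?_⟩
  have key : ∀ f : T.obj₂ ⟶ W, f = 0 := by
    intro f
    obtain ⟨g, rfl⟩ := Triangle.yoneda_exact₂ T hT f (Subsingleton.elim _ _)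
    rw [Subsingleton.elim g 0, comp_zero]
  rw [key f, key f']

/-- (P2) -/
lemma subsingleton_hom_obj₁ (W' : C) (a : W⟦(1 : ℤ)⟧ ≅ W') (h₂ : Subsingleton (T.obj₂ ⟶ W))
    (h₃ : Subsingleton (T.obj₃ ⟶ W')) : Subsingleton (T.obj₁ ⟶ W) := by
  refine ⟨fun f f' => ?_⟩
  have key : ∀ f : T.obj₁ ⟶ W, f = 0 := by
    intro f
    have h0 : T.mor₃ ≫ f⟦(1 : ℤ)⟧' = 0 := by
      rw [← cancel_mono a.hom, zero_comp]
      exact Subsingleton.elim _ _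
    obtain ⟨g, rfl⟩ := exists_of_mor₃_comp_shift_eq_zero T hT W f h0
    rw [Subsingleton.elim g 0, comp_zero]
  rw [key f, key f']

/-- (P3) -/
lemma exists_of_subsingleton_hom_obj₃ (W' : C) (a : W⟦(1 : ℤ)⟧ ≅ W')
    (h₃ : Subsingleton (T.obj₃ ⟶ W')) (f : T.obj₁ ⟶ W) : ∃ g : T.obj₂ ⟶ W, f = T.mor₁ ≫ g := by
  have h0 : T.mor₃ ≫ f⟦(1 : ℤ)⟧' = 0 := by
    rw [← cancel_mono a.hom, zero_comp]
    exact Subsingleton.elim _ _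
  exact exists_of_mor₃_comp_shift_eq_zero T hT W f h0

/-- (P5) -/
lemma eq_zero_of_injective_comp_mor₂ (W' : C) (a : W⟦(1 : ℤ)⟧ ≅ W')
    (h₂ : Subsingleton (T.obj₂ ⟶ W))
    (hinj : ∀ g : T.obj₃ ⟶ W', T.mor₂ ≫ g = 0 → g = 0) (f : T.obj₁ ⟶ W) : f = 0 := by
  have h0 : T.mor₃ ≫ f⟦(1 : ℤ)⟧' = 0 := by
    rw [← cancel_mono a.hom, zero_comp, Category.assoc]
    apply hinj
    rw [← Category.assoc, comp_distTriang_mor_zero₂₃ _ hT, zero_comp]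
  obtain ⟨g, rfl⟩ := exists_of_mor₃_comp_shift_eq_zero T hT W f h0
  rw [Subsingleton.elim g 0, comp_zero]

/-- (P6) -/
lemma eq_zero_of_comp_mor₂_eq_zero (W' : C) (a : W⟦(1 : ℤ)⟧ ≅ W')
    (h₁ : Subsingleton (T.obj₁ ⟶ W)) (g : T.obj₃ ⟶ W') (hg : T.mor₂ ≫ g = 0) : g = 0 := by
  have h0 : T.mor₂ ≫ (g ≫ a.inv) = 0 := by rw [← Category.assoc, hg, zero_comp]
  obtain ⟨g₀, hg₀⟩ := exists_shift_of_mor₂_comp_eq_zero T hT W (g ≫ a.inv) h0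
  rw [Subsingleton.elim g₀ 0, Functor.map_zero, comp_zero] at hg₀
  rw [← cancel_mono a.inv, hg₀, zero_comp]

end Bid

end Groth.Agent.Lib.Helper18.DR
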