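import Mathlib
import Groth.Agent.Lib.Helper18.BidA
import Groth.Agent.Lib.Helper18.BidB
import Groth.Agent.Lib.Helper18.DRInjFin

/-!
# Biduality for finite modules with respect to a bounded complex of injectives (helper18)
-/

set_option autoImplicit false
set_option linter.style.haveILetI false
universe u
open CategoryTheory CategoryTheory.Limits CategoryTheory.Pretriangulated DerivedCategory

attribute [local instance] HasDerivedCategory.standard

namespace Groth.Agent.Lib.Helper18.DR

namespace Bid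

variable {A : Type u} [CommRing A] (E : DRing.Cx A)

/-- the dual `RHom(M, E)` of a module, in the derived category -/
noncomputable abbrev DD (M : ModuleCat.{u} A) : Dual.D A := DerivedCategory.Q.obj (Dc E M)

/-- `E` in the derived category -/
noncomputable abbrev QE : Dual.D A := DerivedCategory.Q.obj E

/-- the biduality map `M → Hom(RHom(M, E), E)` -/
noncomputable def theta (M : ModuleCat.{u} A) : M →+ (DD E M ⟶ (QE E)⟦(0 : ℤ)⟧) where
  toFun m := DerivedCategory.Q.map (evM E m) ≫ (shiftFunctorZero (Dual.D A) ℤ).inv.app (QE E)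
  map_zero' := by rw [evM_zero, Functor.map_zero, zero_comp]
  map_add' m m' := by rw [evM_add, Functor.map_add, Preadditive.add_comp]

lemma theta_apply (M : ModuleCat.{u} A) (m : M) :
    theta E M m = DerivedCategory.Q.map (evM E m) ≫
      (shiftFunctorZero (Dual.D A) ℤ).inv.app (QE E) := rfl

lemma theta_naturality {M N : ModuleCat.{u} A} (f : M ⟶ N) (m : M) :
    theta E N (f.hom m) = DerivedCategory.Q.map (Dmap E f) ≫ theta E M m := by
  rw [theta_apply, theta_apply, evM_naturality, Functor.map_comp, Category.assoc]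

/-- the hypotheses on `E`: a bounded complex of injectives with `A ≅ REnd(E)` -/
structure IsDualCx (a b : ℤ) : Prop where
  vanishes : DRing.VanishesOutside E a b
  inj : DRing.TermwiseInjective E
  toEnd_bijective : Function.Bijective (fun x : A => x • 𝟙 (QE E))
  ext_self : ∀ i : ℤ, i ≠ 0 → Subsingleton (QE E ⟶ (QE E)⟦i⟧)

/-- `M` is reflexive with respect to `E` -/
structure Refl (M : ModuleCat.{u} A) : Prop where
  vanish : ∀ n : ℤ, n ≠ 0 → Subsingleton (DD E M ⟶ (QE E)⟦n⟧)
  bij : Function.Bijective (theta E M)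

/-- `W⟦n⟧⟦1⟧ ≅ W⟦n+1⟧` -/
noncomputable def shiftIso (n m : ℤ) (h : n + 1 = m) : ((QE E)⟦n⟧)⟦(1 : ℤ)⟧ ≅ (QE E)⟦m⟧ :=
  ((shiftFunctorAdd' (Dual.D A) n 1 m h).app (QE E)).symm

variable {E} {a b : ℤ}

theorem refl_self (hE : IsDualCx E a b) : Refl E (ModuleCat.of A A) := by
  let u : DD E (ModuleCat.of A A) ≅ QE E :=
    asIso (DerivedCategory.Q.map (evM E (1 : (ModuleCat.of A A : ModuleCat.{u} A))))
  constructor
  · intro n hn
    haveI := hE.ext_self n hn
    refine ⟨fun f g => ?_⟩
    rw [← cancel_epi u.inv]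
    exact Subsingleton.elim _ _
  · have h1 : ∀ x : A, theta E (ModuleCat.of A A) x =
        u.hom ≫ (x • 𝟙 (QE E)) ≫ (shiftFunctorZero (Dual.D A) ℤ).inv.app (QE E) := by
      intro x
      rw [theta_apply, evM_eq_smul_evM_one, Functor.map_comp, Functor.map_smul,
        CategoryTheory.Functor.map_id, Category.assoc]
      rfl
    constructor
    · intro x y hxy
      have hxy' : theta E (ModuleCat.of A A) x = theta E (ModuleCat.of A A) y := hxy
      rw [h1, h1, cancel_epi, cancel_mono] at hxy'
      exact hE.toEnd_bijective.1 hxy'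
    · intro t
      obtain ⟨x, hx⟩ := hE.toEnd_bijective.2
        (u.inv ≫ t ≫ (shiftFunctorZero (Dual.D A) ℤ).hom.app (QE E))
      refine ⟨x, ?_⟩
      have hx' : x • 𝟙 (QE E) = u.inv ≫ t ≫ (shiftFunctorZero (Dual.D A) ℤ).hom.app (QE E) := hx
      change theta E (ModuleCat.of A A) x = t
      rw [h1, hx']
      simp

theorem refl_of_subsingleton (M : ModuleCat.{u} A) [Subsingleton M] : Refl E M := by
  have hz : IsZero (DD E M) := by
    have h0 : IsZero (Dc E M) := by
      rw [IsZero.iff_id_eq_zero]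
      ext i (g : M →ₗ[A] E.X i)
      change g = 0
      ext m
      rw [Subsingleton.elim m 0, map_zero, LinearMap.zero_apply]
    exact DerivedCategory.Q.map_isZero h0
  constructor
  · intro n _
    exact ⟨fun f g => hz.eq_of_src f g⟩
  · constructor
    · intro x y _
      exact Subsingleton.elim x y
    · intro t
      exact ⟨0, hz.eq_of_src _ _⟩

section ses

variable (hE : DRing.TermwiseInjective E) (S : ShortComplex (ModuleCat.{u} A)) (hS : S.ShortExact)

/-- the distinguished triangle `RHom(S.X₃, E) → RHom(S.X₂, E) → RHom(S.X₁, E) →` -/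
noncomputable def tri : Triangle (Dual.D A) :=
  DerivedCategory.triangleOfSES (DS_shortExact hE S hS)

lemma tri_distinguished : tri hE S hS ∈ distTriang (Dual.D A) :=
  DerivedCategory.triangleOfSES_distinguished _

include hE hS in
/-- extensions of reflexive modules are reflexive -/
theorem refl_ext (h₁ : Refl E S.X₁) (h₃ : Refl E S.X₃) : Refl E S.X₂ := by
  have hT := tri_distinguished hE S hS
  have hinj : Function.Injective S.f.hom := (ModuleCat.mono_iff_injective _).mp hS.mono_f
  have hsurj : Function.Surjective S.g.hom := (ModuleCat.epi_iff_surjective _).mp hS.epi_g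
  have hex : Function.Exact S.f.hom S.g.hom :=
    (ShortComplex.ShortExact.moduleCat_exact_iff_function_exact _).mp hS.exact
  constructor
  · intro n hn
    exact subsingleton_hom_obj₂ (tri hE S hS) hT ((QE E)⟦n⟧) (h₃.vanish n hn) (h₁.vanish n hn)
  · constructor
    · rw [injective_iff_map_eq_zero]
      intro m hm
      have h1 : theta E S.X₃ (S.g.hom m) = 0 := by
        rw [theta_naturality, hm, comp_zero]
      have h2 : S.g.hom m = 0 := (injective_iff_map_eq_zero _).mp h₃.bij.1 _ h1
      obtain ⟨y, rfl⟩ := (hex m).mp h2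
      have h3 : DerivedCategory.Q.map (Dmap E S.f) ≫ theta E S.X₁ y = 0 := by
        rw [← theta_naturality, hm]
      have h4 : theta E S.X₁ y = 0 :=
        eq_zero_of_comp_mor₂_eq_zero (tri hE S hS) hT ((QE E)⟦(-1 : ℤ)⟧) _
          (shiftIso E (-1) 0 (by norm_num)) (h₃.vanish (-1) (by norm_num)) _ h3
      rw [(injective_iff_map_eq_zero _).mp h₁.bij.1 _ h4, map_zero]
    · intro t
      obtain ⟨m'', hm''⟩ := h₃.bij.2 (DerivedCategory.Q.map (Dmap E S.g) ≫ t)
      obtain ⟨m, rfl⟩ := hsurj m''
      have h1 : DerivedCategory.Q.map (Dmap E S.g) ≫ (t - theta E S.X₂ m) = 0 := by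
        rw [Preadditive.comp_sub, ← theta_naturality, hm'', sub_self]
      obtain ⟨g, hg⟩ := Triangle.yoneda_exact₂ (tri hE S hS) hT (t - theta E S.X₂ m) h1
      obtain ⟨y, hy⟩ := h₁.bij.2 g
      refine ⟨m + S.f.hom y, ?_⟩
      have hg' : t - theta E S.X₂ m = DerivedCategory.Q.map (Dmap E S.f) ≫ g := hg
      rw [map_add, theta_naturality, hy, ← hg']
      abel

end ses

section free

variable (A) in
/-- the split exact sequence `0 → A → A^{n+1} → A^n → 0` -/
noncomputable def freeSC (n : ℕ) : ShortComplex (ModuleCat.{u} A) :=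
  ShortComplex.mk
    (ModuleCat.ofHom (LinearMap.single A (fun _ : Fin (n + 1) => A) 0) :
      ModuleCat.of A A ⟶ ModuleCat.of A (Fin (n + 1) → A))
    (ModuleCat.ofHom (LinearMap.funLeft A A (Fin.succ : Fin n → Fin (n + 1))) :
      ModuleCat.of A (Fin (n + 1) → A) ⟶ ModuleCat.of A (Fin n → A))
    (by
      ext i
      change (Pi.single (0 : Fin (n + 1)) (1 : A) : Fin (n + 1) → A) (Fin.succ i) = 0
      exact Pi.single_eq_of_ne (Fin.succ_ne_zero i) _)

lemma freeSC_shortExact (n : ℕ) : (freeSC A n).ShortExact := by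
  apply ModuleCat.shortComplex_shortExact
  · intro (v : Fin (n + 1) → A)
    change (fun i : Fin n => v (Fin.succ i)) = 0 ↔
      ∃ x : A, (Pi.single (0 : Fin (n + 1)) x : Fin (n + 1) → A) = v
    constructor
    · intro h
      refine ⟨v 0, ?_⟩
      funext j
      refine Fin.cases ?_ (fun i => ?_) j
      · exact Pi.single_eq_same _ _
      · rw [Pi.single_eq_of_ne (Fin.succ_ne_zero i)]
        exact (congrFun h i).symm
    · rintro ⟨x, rfl⟩
      funext i
      exact Pi.single_eq_of_ne (Fin.succ_ne_zero i) _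
  · intro (x : A) (y : A) (h : (Pi.single (0 : Fin (n + 1)) x : Fin (n + 1) → A) =
      Pi.single (0 : Fin (n + 1)) y)
    have := congrFun h 0
    rwa [Pi.single_eq_same, Pi.single_eq_same] at this
  · intro (v : Fin n → A)
    refine ⟨(Fin.cons 0 v : Fin (n + 1) → A), ?_⟩
    funext i
    change (Fin.cons 0 v : Fin (n + 1) → A) (Fin.succ i) = v i
    exact Fin.cons_succ _ _ _

theorem refl_free (hE : IsDualCx E a b) : ∀ n : ℕ, Refl E (ModuleCat.of A (Fin n → A))
  | 0 => refl_of_subsingleton _
  | n + 1 => refl_ext hE.inj (freeSC A n) (freeSC_shortExact n) (refl_self hE) (refl_free hE n)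

end free

section main

variable [IsNoetherianRing A]

/-- the presentation sequence `0 → ker f → A^n → M → 0` -/
noncomputable def presSC {M : ModuleCat.{u} A} {n : ℕ} (f : (Fin n → A) →ₗ[A] M) :
    ShortComplex (ModuleCat.{u} A) :=
  ShortComplex.mk
    (ModuleCat.ofHom (LinearMap.ker f).subtype :
      ModuleCat.of A (LinearMap.ker f) ⟶ ModuleCat.of A (Fin n → A))
    (ModuleCat.ofHom f : ModuleCat.of A (Fin n → A) ⟶ M)
    (by
      ext x
      exact x.2)

lemma presSC_shortExact {M : ModuleCat.{u} A} {n : ℕ} (f : (Fin n → A) →ₗ[A] M)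
    (hf : Function.Surjective f) : (presSC f).ShortExact := by
  apply ModuleCat.shortComplex_shortExact
  · intro (v : Fin n → A)
    change f v = 0 ↔ ∃ x : LinearMap.ker f, (x : Fin n → A) = v
    constructor
    · intro h
      exact ⟨⟨v, h⟩, rfl⟩
    · rintro ⟨x, rfl⟩
      exact x.2
  · exact Subtype.val_injective
  · exact hf

instance finite_presSC_X₁ {M : ModuleCat.{u} A} {n : ℕ} (f : (Fin n → A) →ₗ[A] M) :
    Module.Finite A (presSC f).X₁ :=
  inferInstanceAs (Module.Finite A (LinearMap.ker f))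

/-- vanishing in large degrees -/
lemma subsingleton_hom_of_large (hE : IsDualCx E a b) (M : ModuleCat.{u} A) (n : ℤ)
    (hn : b - a + 1 ≤ n) : Subsingleton (DD E M ⟶ (QE E)⟦n⟧) := by
  haveI : (Dc E M).IsStrictlyGE a := by
    rw [CochainComplex.isStrictlyGE_iff]
    intro i hi
    exact isZero_Dc_X E M i (hE.vanishes i (Or.inl hi))
  haveI : (DD E M).IsGE (b - n + 1) := TStructure.t.isGE_of_ge _ (b - n + 1) a (by omega)
  have hv : DRing.VanishesOutside (E⟦n⟧) (a - n) (b - n) := by
    intro i hi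
    refine hE.vanishes (i + n) ?_
    rcases hi with hi | hi
    · exact Or.inl (by omega)
    · exact Or.inr (by omega)
  have hi : DRing.TermwiseInjective (E⟦n⟧) := fun i => hE.inj (i + n)
  refine ⟨fun f g => ?_⟩
  have key : ∀ f : DD E M ⟶ (QE E)⟦n⟧, f = 0 := by
    intro f
    have := hom_eq_zero_of_isGE_of_injAmp (E⟦n⟧) (a - n) (b - n) hv hi (DD E M)
      (f ≫ ((DerivedCategory.Q.commShiftIso n).app E).inv)
    rw [← cancel_mono ((DerivedCategory.Q.commShiftIso n).app E).inv, this, zero_comp]
  rw [key f, key g]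

/-- vanishing in positive degrees -/
lemma subsingleton_hom_pos (hE : IsDualCx E a b) :
    ∀ (k : ℕ) (n : ℤ), 1 ≤ n → b - a + 1 ≤ n + k →
      ∀ (M : ModuleCat.{u} A) [Module.Finite A M], Subsingleton (DD E M ⟶ (QE E)⟦n⟧)
  | 0, n, _, hk, M, _ => subsingleton_hom_of_large hE M n (by simpa using hk)
  | k + 1, n, hn, hk, M, _ => by
    obtain ⟨r, f, hf⟩ := Module.Finite.exists_fin' A M
    have hS := presSC_shortExact f hf
    exact subsingleton_hom_obj₁ (tri hE.inj (presSC f) hS) (tri_distinguished hE.inj _ hS)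
      ((QE E)⟦n⟧) _ (shiftIso E n (n + 1) rfl)
      ((refl_free hE r).vanish n (by omega))
      (subsingleton_hom_pos hE k (n + 1) (by omega) (by push_cast at hk ⊢; omega)
        (presSC f).X₁)

lemma theta_surjective (hE : IsDualCx E a b) (M : ModuleCat.{u} A) [Module.Finite A M] :
    Function.Surjective (theta E M) := by
  intro t
  obtain ⟨r, f, hf⟩ := Module.Finite.exists_fin' A M
  have hS := presSC_shortExact f hf
  have hF : Refl E (presSC f).X₂ := refl_free hE r
  have h3 : Subsingleton (DD E (presSC f).X₁ ⟶ (QE E)⟦(1 : ℤ)⟧) :=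
    subsingleton_hom_pos hE (b - a).toNat 1 le_rfl
      (by have := Int.self_le_toNat (b - a); omega) (presSC f).X₁
  obtain ⟨g, hg⟩ := exists_of_subsingleton_hom_obj₃ (tri hE.inj (presSC f) hS)
    (tri_distinguished hE.inj _ hS) ((QE E)⟦(0 : ℤ)⟧) _ (shiftIso E 0 1 rfl) h3 t
  have hg' : t = DerivedCategory.Q.map (Dmap E (presSC f).g) ≫
      (g : DD E (presSC f).X₂ ⟶ (QE E)⟦(0 : ℤ)⟧) := hg
  obtain ⟨x, hx⟩ := hF.bij.2 g
  refine ⟨(presSC f).g.hom x, ?_⟩
  rw [hg', ← hx]
  exact theta_naturality E (presSC f).g x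

lemma theta_injective (hE : IsDualCx E a b) (M : ModuleCat.{u} A) [Module.Finite A M] :
    Function.Injective (theta E M) := by
  rw [injective_iff_map_eq_zero]
  intro m hm
  obtain ⟨r, f, hf⟩ := Module.Finite.exists_fin' A M
  have hS := presSC_shortExact f hf
  have hF : Refl E (presSC f).X₂ := refl_free hE r
  obtain ⟨x, rfl⟩ : ∃ x : (presSC f).X₂, (presSC f).g.hom x = m := hf m
  have h1 : DerivedCategory.Q.map (Dmap E (presSC f).g) ≫ theta E (presSC f).X₂ x = 0 := by
    rw [← theta_naturality]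
    exact hm
  obtain ⟨g, hg⟩ := Triangle.yoneda_exact₂ (tri hE.inj (presSC f) hS)
    (tri_distinguished hE.inj _ hS) (theta E (presSC f).X₂ x) h1
  have hg' : theta E (presSC f).X₂ x = DerivedCategory.Q.map (Dmap E (presSC f).f) ≫
      (g : DD E (presSC f).X₁ ⟶ (QE E)⟦(0 : ℤ)⟧) := hg
  obtain ⟨y, hy⟩ := theta_surjective hE (presSC f).X₁ g
  rw [← hy, ← theta_naturality] at hg'
  have h2 : x = (presSC f).f.hom y := hF.bij.1 hg'
  rw [h2]
  exact y.2

/-- vanishing in negative degrees -/
lemma subsingleton_hom_neg (hE : IsDualCx E a b) :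
    ∀ (k : ℕ) (M : ModuleCat.{u} A) [Module.Finite A M],
      Subsingleton (DD E M ⟶ (QE E)⟦-((k : ℤ) + 1)⟧)
  | 0, M, _ => by
    obtain ⟨r, f, hf⟩ := Module.Finite.exists_fin' A M
    have hS := presSC_shortExact f hf
    have hinj : Function.Injective (presSC f).f.hom := Subtype.val_injective
    have key : ∀ t : DD E M ⟶ (QE E)⟦-(((0 : ℕ) : ℤ) + 1)⟧, t = 0 := by
      intro t
      refine eq_zero_of_injective_comp_mor₂ (tri hE.inj (presSC f) hS)
        (tri_distinguished hE.inj _ hS) ((QE E)⟦-(((0 : ℕ) : ℤ) + 1)⟧) _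
        (shiftIso E (-(((0 : ℕ) : ℤ) + 1)) 0 (by norm_num))
        ((refl_free hE r).vanish _ (by norm_num)) ?_ t
      intro g hg
      obtain ⟨y, rfl⟩ := theta_surjective hE (presSC f).X₁ g
      have hF : Refl E (presSC f).X₂ := refl_free hE r
      have h1 : theta E (presSC f).X₂ ((presSC f).f.hom y) = 0 := by
        rw [theta_naturality]
        exact hg
      have h2 : (presSC f).f.hom y = 0 :=
        (injective_iff_map_eq_zero _).mp hF.bij.1 _ h1
      have h3 : y = 0 := hinj (h2.trans (map_zero _).symm)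
      rw [h3]
      exact map_zero _
    exact ⟨fun t t' => by rw [key t, key t']⟩
  | k + 1, M, _ => by
    obtain ⟨r, f, hf⟩ := Module.Finite.exists_fin' A M
    have hS := presSC_shortExact f hf
    exact subsingleton_hom_obj₁ (tri hE.inj (presSC f) hS) (tri_distinguished hE.inj _ hS)
      ((QE E)⟦-(((k + 1 : ℕ) : ℤ) + 1)⟧) _
      (shiftIso E (-(((k + 1 : ℕ) : ℤ) + 1)) (-((k : ℤ) + 1)) (by push_cast; ring))
      ((refl_free hE r).vanish _ (by push_cast; omega))
      (subsingleton_hom_neg hE k (presSC f).X₁)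

/-- **Biduality for finite modules.** -/
theorem refl_of_finite (hE : IsDualCx E a b) (M : ModuleCat.{u} A) [Module.Finite A M] :
    Refl E M := by
  constructor
  · intro n hn
    rcases lt_or_gt_of_ne hn with h | h
    · obtain ⟨k, hk⟩ : ∃ k : ℕ, n = -((k : ℤ) + 1) := ⟨(-n - 1).toNat, by
        have := Int.toNat_of_nonneg (show 0 ≤ -n - 1 by omega)
        omega⟩
      rw [hk]
      exact subsingleton_hom_neg hE k M
    · exact subsingleton_hom_pos hE (b - a).toNat n (by omega)
        (by have := Int.self_le_toNat (b - a); omega) M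
  · exact ⟨theta_injective hE M, theta_surjective hE M⟩

end main

end Bid

end Groth.Agent.Lib.Helper18.DR
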