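import Mathlib
import Groth.Prelude.Def_DTen4

/-!
# Pseudo-functoriality of restriction of scalars on derived categories (helper18)
-/

set_option autoImplicit false
set_option linter.style.haveILetI false
universe u
open CategoryTheory CategoryTheory.Limits DerivedCategory

attribute [local instance] HasDerivedCategory.standard

namespace Groth.Agent.Lib.Helper18.DR

namespace Shr

section generic

variable {C₁ C₂ C₃ : Type*} [Category C₁] [Category C₂] [Category C₃]
  [Abelian C₁] [Abelian C₂] [Abelian C₃]
  [HasDerivedCategory C₁] [HasDerivedCategory C₂] [HasDerivedCategory C₃]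

/-- isomorphic exact functors induce isomorphic functors on derived categories -/
noncomputable def mapDCongr {F F' : C₁ ⥤ C₂} [F.Additive] [F'.Additive]
    [PreservesFiniteLimits F] [PreservesFiniteColimits F]
    [PreservesFiniteLimits F'] [PreservesFiniteColimits F'] (e : F ≅ F') :
    F.mapDerivedCategory ≅ F'.mapDerivedCategory :=
  Localization.liftNatIso DerivedCategory.Q
    (HomologicalComplex.quasiIso C₁ (ComplexShape.up ℤ))
    (F.mapHomologicalComplex _ ⋙ DerivedCategory.Q)
    (F'.mapHomologicalComplex _ ⋙ DerivedCategory.Q) _ _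
    (Functor.isoWhiskerRight (NatIso.mapHomologicalComplex e _) DerivedCategory.Q)

/-- the composition of the induced functors lifts the composition -/
noncomputable def liftingComp (F : C₁ ⥤ C₂) (G : C₂ ⥤ C₃) [F.Additive] [G.Additive]
    [PreservesFiniteLimits F] [PreservesFiniteColimits F]
    [PreservesFiniteLimits G] [PreservesFiniteColimits G] :
    Localization.Lifting DerivedCategory.Q
      (HomologicalComplex.quasiIso C₁ (ComplexShape.up ℤ))
      ((F ⋙ G).mapHomologicalComplex (ComplexShape.up ℤ) ⋙ DerivedCategory.Q)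
      (F.mapDerivedCategory ⋙ G.mapDerivedCategory) :=
  ⟨(Functor.associator _ _ _).symm ≪≫
    Functor.isoWhiskerRight F.mapDerivedCategoryFactors _ ≪≫
    Functor.associator _ _ _ ≪≫
    Functor.isoWhiskerLeft _ G.mapDerivedCategoryFactors ≪≫
    (Functor.associator _ _ _).symm ≪≫
    Functor.isoWhiskerRight
      (Functor.mapHomologicalComplexCompIso (Iso.refl (F ⋙ G)) (ComplexShape.up ℤ)) _⟩

/-- `mapDerivedCategory` of a composition -/
noncomputable def mapDCompIso {F : C₁ ⥤ C₂} {G : C₂ ⥤ C₃} {H : C₁ ⥤ C₃}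
    [F.Additive] [G.Additive] [H.Additive]
    [PreservesFiniteLimits F] [PreservesFiniteColimits F]
    [PreservesFiniteLimits G] [PreservesFiniteColimits G]
    [PreservesFiniteLimits H] [PreservesFiniteColimits H] (e : H ≅ F ⋙ G) :
    H.mapDerivedCategory ≅ F.mapDerivedCategory ⋙ G.mapDerivedCategory :=
  letI := liftingComp F G
  Localization.liftNatIso DerivedCategory.Q
    (HomologicalComplex.quasiIso C₁ (ComplexShape.up ℤ))
    (H.mapHomologicalComplex _ ⋙ DerivedCategory.Q)
    ((F ⋙ G).mapHomologicalComplex _ ⋙ DerivedCategory.Q) _ _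
    (Functor.isoWhiskerRight (NatIso.mapHomologicalComplex e _) DerivedCategory.Q)

/-- `mapDerivedCategory` of a functor isomorphic to the identity -/
noncomputable def mapDIdIso {F : C₁ ⥤ C₁} [F.Additive]
    [PreservesFiniteLimits F] [PreservesFiniteColimits F] (e : F ≅ 𝟭 C₁) :
    F.mapDerivedCategory ≅ 𝟭 (DerivedCategory C₁) :=
  Localization.liftNatIso DerivedCategory.Q
    (HomologicalComplex.quasiIso C₁ (ComplexShape.up ℤ))
    (F.mapHomologicalComplex _ ⋙ DerivedCategory.Q) DerivedCategory.Q _ _
    (Functor.isoWhiskerRight (NatIso.mapHomologicalComplex e _ ≪≫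
      Functor.mapHomologicalComplexIdIso C₁ (ComplexShape.up ℤ)) DerivedCategory.Q ≪≫
      Functor.leftUnitor _)

end generic

section rings

variable {R₁ R₂ R₃ : Type u} [CommRing R₁] [CommRing R₂] [CommRing R₃]

/-- restriction of scalars along a composition -/
noncomputable def resCompIso (f : R₁ →+* R₂) (g : R₂ →+* R₃) (gf : R₁ →+* R₃)
    (h : gf = g.comp f) :
    DRing.restrictD gf ≅ DRing.restrictD g ⋙ DRing.restrictD f :=
  mapDCompIso (ModuleCat.restrictScalarsComp'.{u} f g gf h)

/-- restriction of scalars along the identity -/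
noncomputable def resIdIso (f : R₁ →+* R₁) (h : f = RingHom.id R₁) :
    DRing.restrictD f ≅ 𝟭 (Dual.D R₁) :=
  mapDIdIso (ModuleCat.restrictScalarsId'.{u} f h)

/-- restriction of scalars along a ring isomorphism is an equivalence -/
noncomputable def resEquiv (σ : R₁ ≃+* R₂) : Dual.D R₂ ≌ Dual.D R₁ :=
  CategoryTheory.Equivalence.mk (DRing.restrictD σ.toRingHom) (DRing.restrictD σ.symm.toRingHom)
    ((resIdIso (σ.toRingHom.comp σ.symm.toRingHom) σ.toRingHom_comp_symm_toRingHom).symm ≪≫
      resCompIso σ.symm.toRingHom σ.toRingHom _ rfl)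
    ((resCompIso σ.toRingHom σ.symm.toRingHom _ rfl).symm ≪≫
      resIdIso (σ.symm.toRingHom.comp σ.toRingHom) σ.symm_toRingHom_comp_toRingHom)

/-- `res_σ ⊣ res_{σ⁻¹}` -/
noncomputable def resEquivAdj (σ : R₁ ≃+* R₂) :
    DRing.restrictD σ.toRingHom ⊣ DRing.restrictD σ.symm.toRingHom :=
  (resEquiv σ).toAdjunction

/-- `res_{σ⁻¹} ⊣ res_σ` -/
noncomputable def resEquivAdj' (σ : R₁ ≃+* R₂) :
    DRing.restrictD σ.symm.toRingHom ⊣ DRing.restrictD σ.toRingHom :=
  (resEquiv σ).symm.toAdjunction

end rings

end Shr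

end Groth.Agent.Lib.Helper18.DR
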