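import Mathlib
import Groth.Agent.Lib.Helper18.ShrA
import Groth.Agent.Lib.Helper18.CoextA
import Groth.Agent.Lib.Helper18.LBCAdj
import Groth.Agent.Lib.Helper18.DRExt2
import Groth.Agent.Lib.Helper2.KInj.Main

/-!
# Adjoints of restriction of scalars on derived categories (helper18)
-/

set_option autoImplicit false
set_option linter.style.haveILetI false
universe u
open CategoryTheory CategoryTheory.Limits DerivedCategory

attribute [local instance] HasDerivedCategory.standard

namespace Groth.Agent.Lib.Helper18.DR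

namespace Shr

section universal

variable {D D' : Type*} [Category D] [Category D'] (F : D ⥤ D')

/-- a functor with pointwise universal arrows is a left adjoint -/
lemma isLeftAdjoint_of_universal
    (hF : ∀ Y : D', ∃ (X : D) (u : F.obj X ⟶ Y), ∀ W : D,
      Function.Bijective (fun f : W ⟶ X => F.map f ≫ u)) : F.IsLeftAdjoint := by
  choose G u hu using hF
  let e : ∀ W Y, (F.obj W ⟶ Y) ≃ (W ⟶ G Y) := fun W Y => (Equiv.ofBijective _ (hu Y W)).symm
  have he : ∀ W' W Y (f : W' ⟶ W) (g : F.obj W ⟶ Y), e W' Y (F.map f ≫ g) = f ≫ e W Y g := by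
    intro W' W Y f g
    apply (e W' Y).symm.injective
    rw [Equiv.symm_apply_apply]
    change F.map f ≫ g = F.map (f ≫ e W Y g) ≫ u Y
    have hg : F.map (e W Y g) ≫ u Y = g := (e W Y).symm_apply_apply g
    rw [Functor.map_comp, Category.assoc, hg]
  exact (Adjunction.adjunctionOfEquivRight e he).isLeftAdjoint

end universal

section coext

variable {A B : Type u} [CommRing A] [CommRing B] (φ : A →+* B)

/-- restriction of scalars on derived categories has a right adjoint -/
theorem isLeftAdjoint_restrictD : (DRing.restrictD φ).IsLeftAdjoint := by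
  apply isLeftAdjoint_of_universal
  intro Y
  obtain ⟨K, ⟨e⟩⟩ : ∃ K : DRing.Cx A, Nonempty (DRing.toD K ≅ Y) :=
    ⟨DerivedCategory.Q.objPreimage Y, ⟨DerivedCategory.Q.objObjPreimageIso Y⟩⟩
  obtain ⟨J, ι, hJ, hι, -, -⟩ := Groth.Agent.Lib.Helper2.KInj.exists_kInjective_resolution K
  haveI := hJ
  haveI := hι
  let ε : DerivedCategory.Q.obj J ≅ Y := (asIso (DerivedCategory.Q.map ι)).symm ≪≫ e
  refine ⟨DerivedCategory.Q.obj ((Coext.coextCx φ).obj J), Coext.counitD φ J ≫ ε.hom, fun W => ?_⟩
  have h1 := Coext.bijective_comp_counitD φ J W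
  have h2 : (fun f : W ⟶ DerivedCategory.Q.obj ((Coext.coextCx φ).obj J) =>
      (DRing.restrictD φ).map f ≫ Coext.counitD φ J ≫ ε.hom) =
      (fun g => g ≫ ε.hom) ∘
        (fun f : W ⟶ DerivedCategory.Q.obj ((Coext.coextCx φ).obj J) =>
          (DRing.restrictD φ).map f ≫ Coext.counitD φ J) := by
    funext f
    simp only [Function.comp_apply, Category.assoc]
  rw [h2]
  refine Function.Bijective.comp ?_ h1
  constructor
  · intro g g' hgg
    exact (cancel_mono ε.hom).1 hgg
  · intro g
    exact ⟨g ≫ ε.inv, by simp⟩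

/-- a right adjoint of restriction of scalars -/
noncomputable def coextD : Dual.D A ⥤ Dual.D B :=
  haveI := isLeftAdjoint_restrictD φ
  (DRing.restrictD φ).rightAdjoint

/-- restriction ⊣ coextension on derived categories -/
noncomputable def coextAdj : DRing.restrictD φ ⊣ coextD φ :=
  haveI := isLeftAdjoint_restrictD φ
  Adjunction.ofIsLeftAdjoint (DRing.restrictD φ)

/-- right adjoints of restriction commute with shifts -/
noncomputable def rightAdjShiftIso (Rφ : Dual.D A ⥤ Dual.D B) (adj : DRing.restrictD φ ⊣ Rφ)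
    (X : Dual.D A) (n : ℤ) : Rφ.obj (X⟦n⟧) ≅ (Rφ.obj X)⟦n⟧ :=
  letI := adj.rightAdjointCommShift ℤ
  (Rφ.commShiftIso n).app X

/-- left adjoints of restriction commute with shifts -/
noncomputable def leftAdjShiftIso (L : Dual.D A ⥤ Dual.D B) (adj : L ⊣ DRing.restrictD φ)
    (X : Dual.D A) (n : ℤ) : L.obj (X⟦n⟧) ≅ (L.obj X)⟦n⟧ :=
  letI := adj.leftAdjointCommShift ℤ
  (L.commShiftIso n).app X

end coext

section flat

variable (A B : Type u) [CommRing A] [CommRing B] [Algebra A B] [Module.Flat A B]

noncomputable instance catCommSqExtD :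
    CatCommSq ((extM (A := A) (B := B)).mapHomologicalComplex (ComplexShape.up ℤ))
      (DerivedCategory.Q : DRing.Cx A ⥤ Dual.D A) (DerivedCategory.Q : DRing.Cx B ⥤ Dual.D B)
      (extD A B) :=
  ⟨((extM (A := A) (B := B)).mapDerivedCategoryFactors).symm⟩

noncomputable instance catCommSqResD :
    CatCommSq ((ModuleCat.restrictScalars.{u} (algebraMap A B)).mapHomologicalComplex
        (ComplexShape.up ℤ))
      (DerivedCategory.Q : DRing.Cx B ⥤ Dual.D B) (DerivedCategory.Q : DRing.Cx A ⥤ Dual.D A)
      (DRing.restrictD (algebraMap A B)) :=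
  ⟨((ModuleCat.restrictScalars.{u} (algebraMap A B)).mapDerivedCategoryFactors).symm⟩

/-- flat extension of scalars is left adjoint to restriction on derived categories -/
noncomputable def extAdj : extD A B ⊣ DRing.restrictD (algebraMap A B) :=
  (LBCAdj.adjCx (ComplexShape.up ℤ)
    (ModuleCat.extendRestrictScalarsAdj.{u, u, u} (algebraMap A B))).localization
    (DerivedCategory.Q : DRing.Cx A ⥤ Dual.D A)
    (HomologicalComplex.quasiIso (ModuleCat.{u} A) (ComplexShape.up ℤ))
    (DerivedCategory.Q : DRing.Cx B ⥤ Dual.D B)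
    (HomologicalComplex.quasiIso (ModuleCat.{u} B) (ComplexShape.up ℤ))
    (extD A B) (DRing.restrictD (algebraMap A B))

end flat

end Shr

end Groth.Agent.Lib.Helper18.DR
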