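import Mathlib
import Groth.Agent.Lib.Helper18.BidC
import Groth.Agent.Lib.Helper18.BCHom6
import Groth.Agent.Lib.Helper18.CoextA
import Groth.Agent.Lib.Helper18.ShrB
import Groth.Agent.Lib.Helper18.DualFin
import Groth.Agent.Lib.Helper18.DRInjAmp

/-!
# `RHom_A(B, ω)` is a dualizing complex for a finite `A`-algebra `B` (helper18)
-/

set_option autoImplicit false
set_option linter.style.haveILetI false
universe u
open CategoryTheory CategoryTheory.Limits CategoryTheory.Pretriangulated DerivedCategory

attribute [local instance] HasDerivedCategory.standard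

namespace Groth.Agent.Lib.Helper18.DR

namespace Bid

open HomLoc HomBC

section ring

variable {B : Type u} [CommRing B] {C : Type*} [Category C] [Preadditive C] [Linear B C]

/-- if `End(Y)` is free of rank one over `B` then it is generated by the identity -/
lemma bijective_smul_id_of_bijective_smul (Y : C) (g₀ : Y ⟶ Y)
    (h : Function.Bijective (fun b : B => b • g₀)) :
    Function.Bijective (fun b : B => b • 𝟙 Y) := by
  obtain ⟨u, hu⟩ := h.2 (𝟙 Y)
  obtain ⟨c, hc⟩ := h.2 (g₀ ≫ g₀)
  have hu' : u • g₀ = 𝟙 Y := hu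
  have hc' : c • g₀ = g₀ ≫ g₀ := hc
  have h1 : (u * c) • g₀ = (1 : B) • g₀ := by
    rw [mul_smul, hc', one_smul, ← Linear.comp_smul, hu', Category.comp_id]
  have huc : u * c = 1 := h.1 h1
  have hunit : IsUnit u := IsUnit.of_mul_eq_one c huc
  have h2 : (fun b : B => b • 𝟙 Y) = (fun b : B => b • g₀) ∘ (fun b : B => b * u) := by
    funext b
    change b • 𝟙 Y = (b * u) • g₀
    rw [mul_smul, hu']
  rw [h2]
  refine h.comp ?_
  obtain ⟨v, rfl⟩ := hunit
  constructor
  · intro x y hxy
    exact (Units.mul_left_inj v).mp hxy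
  · intro y
    exact ⟨y * ↑v⁻¹, by simp⟩

end ring

variable {A B : Type u} [CommRing A] [CommRing B] [Algebra A B]

/-- `B` as an `A`-module -/
noncomputable abbrev BA : ModuleCat.{u} A :=
  (ModuleCat.restrictScalars.{u} (algebraMap A B)).obj (ModuleCat.of B B)

/-- multiplication by `b` on `B`, as a morphism of `A`-modules -/
noncomputable def mulB (b : B) : (BA (A := A) (B := B)) ⟶ (BA (A := A) (B := B)) :=
  (ModuleCat.restrictScalars.{u} (algebraMap A B)).map (b • 𝟙 (ModuleCat.of B B))

lemma mulB_apply (b : B) (x : B) :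
    (mulB (A := A) b).hom (show (BA (A := A) (B := B) : Type u) from x) = b * x := rfl

variable (E : DRing.Cx A)

/-- `Hom_A(B, E^i)` is the restriction of the coextension of `E^i` -/
noncomputable def cBLin (i : ℤ) : ((Dc E (BA (A := A) (B := B))).X i) ≃ₗ[A]
    (((DTen.resCx (algebraMap A B)).obj ((Coext.coextCx (algebraMap A B)).obj E)).X i) where
  toFun g := g
  invFun g := g
  left_inv _ := rfl
  right_inv _ := rfl
  map_add' _ _ := rfl
  map_smul' a (g : (BA (A := A) (B := B)) →ₗ[A] E.X i) := by
    apply LinearMap.ext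
    intro (x : B)
    change a • g x = g (x * algebraMap A B a)
    have h1 : g (a • (show (BA (A := A) (B := B) : Type u) from x)) = a • g x := map_smul g a _
    rw [← h1]
    congr 1
    exact mul_comm (algebraMap A B a) x

/-- `Hom_A(B, E)` is the restriction of the coextension of `E` -/
noncomputable def cB : Dc E (BA (A := A) (B := B)) ≅
    (DTen.resCx (algebraMap A B)).obj ((Coext.coextCx (algebraMap A B)).obj E) :=
  HomologicalComplex.Hom.isoOfComponents (fun i => (cBLin (B := B) E i).toModuleIso)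
    (fun _ _ _ => rfl)

lemma cB_equivariant (b : B) :
    (cB (B := B) E).hom ≫ (DTen.resCx (algebraMap A B)).map
        (b • 𝟙 ((Coext.coextCx (algebraMap A B)).obj E)) =
      Dmap E (mulB (A := A) b) ≫ (cB (B := B) E).hom := by
  ext i (g : (BA (A := A) (B := B)) →ₗ[A] E.X i)
  apply LinearMap.ext
  intro (x : B)
  change g (x * b) = g (b * x)
  rw [mul_comm]

section main

variable [IsNoetherianRing A] [Module.Finite A B]
  (R : Dual.D A ⥤ Dual.D B) (adj : DRing.restrictD (algebraMap A B) ⊣ R)

omit [IsNoetherianRing A] [Module.Finite A B] in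
include adj in
/-- finite injective dimension of `R(ω)` -/
lemma fidIn_rightAdjoint (ω : Dual.D A) {a b : ℤ} (hab : FidIn ω a b) :
    FidIn (R.obj ω) a b := by
  intro M _ _ i hi
  let N : ModuleCat.{u} A :=
    (ModuleCat.restrictScalars.{u} (algebraMap A B)).obj (ModuleCat.of B M)
  have h1 : Subsingleton (Dual.inD A N ⟶ ω⟦i⟧) := hab N i hi
  let e1 : (DRing.restrictD (algebraMap A B)).obj (Dual.inD B M) ≅ Dual.inD A N :=
    ((ModuleCat.restrictScalars.{u} (algebraMap A B)).mapDerivedCategorySingleFunctor 0).app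
      (ModuleCat.of B M)
  let s := Shr.rightAdjShiftIso (algebraMap A B) R adj ω i
  refine ⟨fun x y => ?_⟩
  have h2 : (adj.homEquiv _ _).symm (x ≫ s.inv) = (adj.homEquiv _ _).symm (y ≫ s.inv) := by
    rw [← cancel_epi e1.inv]
    exact Subsingleton.elim _ _
  have h3 := (adj.homEquiv _ _).symm.injective h2
  exact (cancel_mono s.inv).mp h3

variable {E : DRing.Cx A} [E.IsKInjective] (ω : Dual.D A) (e : DRing.toD E ≅ ω)

/-- `RHom(B, E) ≅ res R(ω)` -/
noncomputable def kappa :
    DD E (BA (A := A) (B := B)) ≅ (DRing.restrictD (algebraMap A B)).obj (R.obj ω) :=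
  DerivedCategory.Q.mapIso (cB (B := B) E) ≪≫
    ((DTen.resFactors (algebraMap A B)).app ((Coext.coextCx (algebraMap A B)).obj E)).symm ≪≫
    (DRing.restrictD (algebraMap A B)).mapIso
      (Coext.rightAdjointIso (algebraMap A B) R adj E ≪≫ R.mapIso e)

omit [IsNoetherianRing A] [Module.Finite A B] in
lemma kappa_equivariant (b : B) :
    (kappa R adj ω e).hom ≫ (DRing.restrictD (algebraMap A B)).map (b • 𝟙 (R.obj ω)) =
      DerivedCategory.Q.map (Dmap E (mulB (A := A) b)) ≫ (kappa R adj ω e).hom := by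
  let C := (Coext.coextCx (algebraMap A B)).obj E
  let ι : DerivedCategory.Q.obj C ≅ R.obj ω :=
    Coext.rightAdjointIso (algebraMap A B) R adj E ≪≫ R.mapIso e
  have h1 : ι.hom ≫ (b • 𝟙 (R.obj ω)) = (b • 𝟙 (DerivedCategory.Q.obj C)) ≫ ι.hom := by
    rw [Linear.comp_smul, Linear.smul_comp, Category.comp_id, Category.id_comp]
  have h2 : (b • 𝟙 (DerivedCategory.Q.obj C)) = DerivedCategory.Q.map (b • 𝟙 C) := by
    rw [Functor.map_smul, CategoryTheory.Functor.map_id]
  have h3 : (DTen.resFactors (algebraMap A B)).inv.app C ≫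
      (DRing.restrictD (algebraMap A B)).map (DerivedCategory.Q.map (b • 𝟙 C)) =
      DerivedCategory.Q.map ((DTen.resCx (algebraMap A B)).map (b • 𝟙 C)) ≫
        (DTen.resFactors (algebraMap A B)).inv.app C :=
    ((DTen.resFactors (algebraMap A B)).inv.naturality (b • 𝟙 C)).symm
  have h4 : DerivedCategory.Q.map (cB (B := B) E).hom ≫
      DerivedCategory.Q.map ((DTen.resCx (algebraMap A B)).map (b • 𝟙 C)) =
      DerivedCategory.Q.map (Dmap E (mulB (A := A) b)) ≫
        DerivedCategory.Q.map (cB (B := B) E).hom := by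
    rw [← Functor.map_comp, ← Functor.map_comp, cB_equivariant]
  change (DerivedCategory.Q.map (cB (B := B) E).hom ≫
    (DTen.resFactors (algebraMap A B)).inv.app C ≫
    (DRing.restrictD (algebraMap A B)).map ι.hom) ≫ _ = _ ≫
    (DerivedCategory.Q.map (cB (B := B) E).hom ≫
    (DTen.resFactors (algebraMap A B)).inv.app C ≫
    (DRing.restrictD (algebraMap A B)).map ι.hom)
  rw [Category.assoc, Category.assoc, ← Functor.map_comp, h1, Functor.map_comp, h2,
    reassoc_of% h3, reassoc_of% h4]

end main

section thm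

variable [IsNoetherianRing A] [IsNoetherianRing B] [Module.Finite A B]
  (R : Dual.D A ⥤ Dual.D B) (adj : DRing.restrictD (algebraMap A B) ⊣ R)

include adj in
/-- **S1772**: `R(ω)` is a dualizing complex for `B`. -/
theorem isDualizing_rightAdjoint (ω : Dual.D A) (hω : Dual.IsDualizing A ω) :
    Dual.IsDualizing B (R.obj ω) := by
  obtain ⟨a, b, hab⟩ := hω.finite_injective_dimension
  have hab' : FidIn ω a b := hab
  obtain ⟨E, hEv, hEinj, ⟨e⟩⟩ := ((injAmp_tfae ω a b).out 0 1).2 hab
  haveI : E.IsKInjective :=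
    isKInjective_of_vanishesBelow E a (fun j hj => hEv j (Or.inl hj)) hEinj
  have hωE : Dual.IsDualizing A (DRing.toD E) := isDualizing_of_iso e.symm hω
  have hE : IsDualCx E a b :=
    ⟨hEv, hEinj, hωE.toEnd_bijective, hωE.ext_self_subsingleton⟩
  haveI : Module.Finite A (BA (A := A) (B := B)) :=
    Module.Finite.equiv (resBEquiv (A := A) (B := B)).symm
  have hrefl := refl_of_finite hE (BA (A := A) (B := B))
  let κ := kappa R adj ω e
  refine ⟨inferInstance, ⟨a, b, fidIn_rightAdjoint R adj ω hab'⟩, fun i => ?_, ?_, fun i hi => ?_⟩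
  · exact finite_HD_rightAdjoint_restrictD A B R adj ω a
      (fun j hj => ModuleCat.subsingleton_of_isZero (hab'.isZero_H j (Or.inl hj)))
      hω.finite_cohomology i
  · -- `B → End(R ω)` is bijective
    let z := (shiftFunctorZero (Dual.D A) ℤ).app (QE E)
    let Φ : (DD E (BA (A := A) (B := B)) ⟶ (QE E)⟦(0 : ℤ)⟧) → (R.obj ω ⟶ R.obj ω) :=
      fun t => adj.homEquiv _ _ (κ.inv ≫ t ≫ z.hom ≫ e.hom)
    have hΦ : Function.Bijective Φ := by
      refine (adj.homEquiv _ _).bijective.comp ?_
      constructor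
      · intro t t' h
        have h' : κ.inv ≫ t ≫ z.hom ≫ e.hom = κ.inv ≫ t' ≫ z.hom ≫ e.hom := h
        rw [cancel_epi] at h'
        have h'' : t ≫ (z.hom ≫ e.hom) = t' ≫ (z.hom ≫ e.hom) := h'
        exact (cancel_mono _).mp h''
      · intro t
        refine ⟨κ.hom ≫ t ≫ e.inv ≫ z.inv, ?_⟩
        change κ.inv ≫ (κ.hom ≫ t ≫ e.inv ≫ z.inv) ≫ z.hom ≫ e.hom = t
        simp
    let g₀ : R.obj ω ⟶ R.obj ω := Φ (theta E _ (1 : B))
    have hg : ∀ x : B, x • g₀ = Φ (theta E (BA (A := A) (B := B)) x) := by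
      intro x
      have h1 : theta E (BA (A := A) (B := B)) x =
          DerivedCategory.Q.map (Dmap E (mulB (A := A) x)) ≫
            theta E (BA (A := A) (B := B)) (1 : B) := by
        rw [← theta_naturality]
        congr 1
        exact (mul_one x).symm
      have h2 : κ.inv ≫ DerivedCategory.Q.map (Dmap E (mulB (A := A) x)) =
          (DRing.restrictD (algebraMap A B)).map (x • 𝟙 (R.obj ω)) ≫ κ.inv := by
        rw [Iso.inv_comp_eq, ← Category.assoc, Iso.eq_comp_inv]
        exact (kappa_equivariant R adj ω e x).symm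
      change x • g₀ = adj.homEquiv _ _ (κ.inv ≫ theta E (BA (A := A) (B := B)) x ≫ z.hom ≫ e.hom)
      rw [h1, Category.assoc, reassoc_of% h2, Adjunction.homEquiv_naturality_left,
        Linear.smul_comp, Category.id_comp]
    have hbij : Function.Bijective (fun x : B => x • g₀) := by
      have : (fun x : B => x • g₀) = Φ ∘ (theta E (BA (A := A) (B := B))) := by
        funext x
        exact hg x
      rw [this]
      exact hΦ.comp hrefl.bij
    exact bijective_smul_id_of_bijective_smul (R.obj ω) g₀ hbij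
  · -- no self-extensions
    haveI := hrefl.vanish i hi
    let s := Shr.rightAdjShiftIso (algebraMap A B) R adj ω i
    refine ⟨fun x y => ?_⟩
    have h2 : (adj.homEquiv _ _).symm (x ≫ s.inv) = (adj.homEquiv _ _).symm (y ≫ s.inv) := by
      rw [← cancel_epi κ.hom, ← cancel_mono ((shiftFunctor (Dual.D A) i).map e.inv)]
      exact Subsingleton.elim _ _
    have h3 := (adj.homEquiv _ _).symm.injective h2
    exact (cancel_mono s.inv).mp h3

end thm

end Bid

end Groth.Agent.Lib.Helper18.DR
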