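import Mathlib
import Groth.Agent.Lib.Helper18.BidD

/-!
# `RHom_A(B, ω)` is normalized for a finite local map of local rings (helper18)
-/

set_option autoImplicit false
set_option linter.style.haveILetI false
universe u
open CategoryTheory CategoryTheory.Limits CategoryTheory.Pretriangulated DerivedCategory

attribute [local instance] HasDerivedCategory.standard

namespace Groth.Agent.Lib.Helper18.DR

namespace Bid

open HomLoc HomBC

section pi

variable {A : Type u} [CommRing A]

/-- the split exact sequence `0 → M → M^{n+1} → M^n → 0` -/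
noncomputable def piSC (M : ModuleCat.{u} A) (n : ℕ) : ShortComplex (ModuleCat.{u} A) :=
  ShortComplex.mk
    (ModuleCat.ofHom (LinearMap.single A (fun _ : Fin (n + 1) => M) 0) :
      M ⟶ ModuleCat.of A (Fin (n + 1) → M))
    (ModuleCat.ofHom (LinearMap.funLeft A M (Fin.succ : Fin n → Fin (n + 1))) :
      ModuleCat.of A (Fin (n + 1) → M) ⟶ ModuleCat.of A (Fin n → M))
    (by
      ext x i
      change (Pi.single (0 : Fin (n + 1)) x : Fin (n + 1) → M) (Fin.succ i) = 0
      exact Pi.single_eq_of_ne (Fin.succ_ne_zero i) _)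

lemma piSC_shortExact (M : ModuleCat.{u} A) (n : ℕ) : (piSC M n).ShortExact := by
  apply ModuleCat.shortComplex_shortExact
  · intro (v : Fin (n + 1) → M)
    change (fun i : Fin n => v (Fin.succ i)) = 0 ↔
      ∃ x : M, (Pi.single (0 : Fin (n + 1)) x : Fin (n + 1) → M) = v
    constructor
    · intro h
      refine ⟨v 0, ?_⟩
      funext j
      refine Fin.cases ?_ (fun i => ?_) j
      · exact Pi.single_eq_same _ _
      · rw [Pi.single_eq_of_ne (Fin.succ_ne_zero i)]
        exact (congrFun h i).symm
    · rintro ⟨x, rfl⟩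
      funext i
      exact Pi.single_eq_of_ne (Fin.succ_ne_zero i) _
  · intro (x : M) (y : M) (h : (Pi.single (0 : Fin (n + 1)) x : Fin (n + 1) → M) =
      Pi.single (0 : Fin (n + 1)) y)
    have := congrFun h 0
    rwa [Pi.single_eq_same, Pi.single_eq_same] at this
  · intro (v : Fin n → M)
    refine ⟨(Fin.cons 0 v : Fin (n + 1) → M), ?_⟩
    funext i
    change (Fin.cons 0 v : Fin (n + 1) → M) (Fin.succ i) = v i
    exact Fin.cons_succ _ _ _

/-- vanishing of `Hom(M[0], W)` passes to finite powers of `M` -/
lemma subsingleton_hom_Sg_pi (W : Dual.D A) (M : ModuleCat.{u} A)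
    (h : Subsingleton ((DerivedCategory.singleFunctor (ModuleCat.{u} A) 0).obj M ⟶ W)) :
    ∀ n : ℕ, Subsingleton ((DerivedCategory.singleFunctor (ModuleCat.{u} A) 0).obj
      (ModuleCat.of A (Fin n → M)) ⟶ W)
  | 0 => by
    have hz : IsZero ((DerivedCategory.singleFunctor (ModuleCat.{u} A) 0).obj
        (ModuleCat.of A (Fin 0 → M))) :=
      (DerivedCategory.singleFunctor (ModuleCat.{u} A) 0).map_isZero
        (ModuleCat.isZero_of_subsingleton _)
    exact ⟨fun f g => hz.eq_of_src f g⟩
  | n + 1 =>
    subsingleton_hom_obj₂ (piSC_shortExact M n).singleTriangle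
      (piSC_shortExact M n).singleTriangle_distinguished W h (subsingleton_hom_Sg_pi W M h n)

end pi

section main

variable {A B : Type u} [CommRing A] [CommRing B] [Algebra A B]
  (R : Dual.D A ⥤ Dual.D B) (adj : DRing.restrictD (algebraMap A B) ⊣ R)

include adj in
/-- vanishing of `Hom(M, R(ω)[i])` from vanishing over `A` -/
lemma subsingleton_hom_rightAdjoint (ω : Dual.D A) (M : Type u) [AddCommGroup M] [Module B M]
    (i : ℤ) (h : Subsingleton (Dual.inD A
      ((ModuleCat.restrictScalars.{u} (algebraMap A B)).obj (ModuleCat.of B M)) ⟶ ω⟦i⟧)) :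
    Subsingleton (Dual.inD B M ⟶ (R.obj ω)⟦i⟧) := by
  let N : ModuleCat.{u} A :=
    (ModuleCat.restrictScalars.{u} (algebraMap A B)).obj (ModuleCat.of B M)
  let e1 : (DRing.restrictD (algebraMap A B)).obj (Dual.inD B M) ≅ Dual.inD A N :=
    ((ModuleCat.restrictScalars.{u} (algebraMap A B)).mapDerivedCategorySingleFunctor 0).app
      (ModuleCat.of B M)
  let s := Shr.rightAdjShiftIso (algebraMap A B) R adj ω i
  refine ⟨fun x y => ?_⟩
  have h2 : (adj.homEquiv _ _).symm (x ≫ s.inv) = (adj.homEquiv _ _).symm (y ≫ s.inv) := by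
    rw [← cancel_epi e1.inv]
    exact Subsingleton.elim _ _
  have h3 := (adj.homEquiv _ _).symm.injective h2
  exact (cancel_mono s.inv).mp h3

variable [IsLocalRing A] [IsLocalRing B] [IsLocalHom (algebraMap A B)] [Module.Finite A B]

include adj in
/-- **S1773** (normalization part) -/
theorem isNormalized_rightAdjoint (ω : Dual.D A) (hn : Dual.IsNormalized A ω) :
    Dual.IsNormalized B (R.obj ω) := by
  intro i hi
  apply subsingleton_hom_rightAdjoint R adj ω (IsLocalRing.ResidueField B) i
  let N : ModuleCat.{u} A := (ModuleCat.restrictScalars.{u} (algebraMap A B)).obj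
    (ModuleCat.of B (IsLocalRing.ResidueField B))
  let r := Module.finrank (IsLocalRing.ResidueField A) (IsLocalRing.ResidueField B)
  let bas := Module.finBasis (IsLocalRing.ResidueField A) (IsLocalRing.ResidueField B)
  let e₁ : N ≃ₗ[A] IsLocalRing.ResidueField B :=
    { toFun := fun x => x
      invFun := fun x => x
      left_inv := fun _ => rfl
      right_inv := fun _ => rfl
      map_add' := fun _ _ => rfl
      map_smul' := fun a x => algebraMap_smul B a (show IsLocalRing.ResidueField B from x) }
  let e₂ : IsLocalRing.ResidueField B ≃ₗ[A] (Fin r → IsLocalRing.ResidueField A) :=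
    bas.equivFun.restrictScalars A
  let e₃ : N ≅ ModuleCat.of A (Fin r → (ModuleCat.of A (IsLocalRing.ResidueField A) :
      ModuleCat.{u} A)) := (e₁ ≪≫ₗ e₂).toModuleIso
  haveI := subsingleton_hom_Sg_pi (ω⟦i⟧) (ModuleCat.of A (IsLocalRing.ResidueField A))
    (hn i hi) r
  refine ⟨fun x y => ?_⟩
  rw [← cancel_epi ((DerivedCategory.singleFunctor (ModuleCat.{u} A) 0).map e₃.inv)]
  exact Subsingleton.elim _ _

end main

end Bid

end Groth.Agent.Lib.Helper18.DR
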