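import Mathlib
import Groth.Agent.Lib.Helper18.DualFin
import Groth.Agent.Lib.Helper18.DRRel4

/-!
# The dimension function of `R(ω)` for a surjection (helper18)
-/

set_option autoImplicit false
set_option linter.style.haveILetI false
universe u
open CategoryTheory CategoryTheory.Limits CategoryTheory.Pretriangulated DerivedCategory

attribute [local instance] HasDerivedCategory.standard

namespace Groth.Agent.Lib.Helper18.DR

section delta

variable {A B : Type u} [CommRing A] [CommRing B] [Algebra A B]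

lemma adj_homEquiv_smul (R : Dual.D A ⥤ Dual.D B)
    (adj : DRing.restrictD (algebraMap A B) ⊣ R) (S : Dual.D B) (K : Dual.D A) (a : A)
    (w : (DRing.restrictD (algebraMap A B)).obj S ⟶ K) :
    adj.homEquiv S K (a • w) = (algebraMap A B a) • adj.homEquiv S K w := by
  have h1 : a • w = (DRing.restrictD (algebraMap A B)).map ((algebraMap A B a) • 𝟙 S) ≫ w := by
    rw [restrictD_map_smul_id, Linear.smul_comp, Category.id_comp]
  rw [h1, Adjunction.homEquiv_naturality_left, Linear.smul_comp, Category.id_comp]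

lemma adj_homEquiv_symm_smul (R : Dual.D A ⥤ Dual.D B)
    (adj : DRing.restrictD (algebraMap A B) ⊣ R) (S : Dual.D B) (K : Dual.D A) (a : A)
    (g : S ⟶ R.obj K) :
    (adj.homEquiv S K).symm ((algebraMap A B a) • g) = a • (adj.homEquiv S K).symm g := by
  apply (adj.homEquiv S K).injective
  rw [Equiv.apply_symm_apply, adj_homEquiv_smul, Equiv.apply_symm_apply]

lemma adj_homEquiv_symm_zero (R : Dual.D A ⥤ Dual.D B)
    (adj : DRing.restrictD (algebraMap A B) ⊣ R) (S : Dual.D B) (K : Dual.D A) :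
    (adj.homEquiv S K).symm 0 = 0 := by
  have := adj_homEquiv_symm_smul R adj S K 0 (0 : S ⟶ R.obj K)
  rw [map_zero, zero_smul, zero_smul] at this
  exact this

/-- `A/p ≃ B/q` as `A`-modules, for `p` the preimage of `q` under a surjection -/
noncomputable def quotComapEquiv (hs : Function.Surjective (algebraMap A B)) (q : Ideal B) :
    (A ⧸ q.comap (algebraMap A B)) ≃ₗ[A]
      resM (algebraMap A B) (ModuleCat.of B (B ⧸ q)) := by
  let g : A →ₗ[A] resM (algebraMap A B) (ModuleCat.of B (B ⧸ q)) :=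
    { toFun := fun a => (Ideal.Quotient.mk q (algebraMap A B a) : B ⧸ q)
      map_add' := fun a b => by rw [map_add, map_add]; rfl
      map_smul' := fun a b => by
        change (Ideal.Quotient.mk q (algebraMap A B (a * b)) : B ⧸ q) =
          (algebraMap A B a) • (Ideal.Quotient.mk q (algebraMap A B b) : B ⧸ q)
        rw [map_mul, map_mul]
        rfl }
  have hg : Function.Surjective g := by
    intro y
    obtain ⟨b, rfl⟩ := Ideal.Quotient.mk_surjective (show B ⧸ q from y)
    obtain ⟨a, rfl⟩ := hs b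
    exact ⟨a, rfl⟩
  have hk : LinearMap.ker g = q.comap (algebraMap A B) := by
    ext a
    rw [LinearMap.mem_ker, Ideal.mem_comap]
    exact Ideal.Quotient.eq_zero_iff_mem
  exact (Submodule.quotEquivOfEq _ _ hk.symm).trans (g.quotKerEquivOfSurjective hg)

/-- S8970 -/
theorem nontrivial_localized_hom_rightAdjoint_iff (hs : Function.Surjective (algebraMap A B))
    (R : Dual.D A ⥤ Dual.D B) (adj : DRing.restrictD (algebraMap A B) ⊣ R) (ω : Dual.D A)
    (q : PrimeSpectrum B) (i : ℤ) :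
    Nontrivial (LocalizedModule q.asIdeal.primeCompl
        (Dual.inD B (B ⧸ q.asIdeal) ⟶ (R.obj ω)⟦i⟧)) ↔
      Nontrivial (LocalizedModule (q.asIdeal.comap (algebraMap A B)).primeCompl
        (Dual.inD A (A ⧸ q.asIdeal.comap (algebraMap A B)) ⟶ ω⟦i⟧)) := by
  letI := adj.rightAdjointCommShift ℤ
  let X : Dual.D B := Dual.inD B (B ⧸ q.asIdeal)
  let Y : Dual.D A := Dual.inD A (A ⧸ q.asIdeal.comap (algebraMap A B))
  let α : Y ≅ (DRing.restrictD (algebraMap A B)).obj X :=
    (singleFunctor (ModuleCat.{u} A) 0).mapIso (quotComapEquiv hs q.asIdeal).toModuleIso ≪≫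
      (restrictDSgIso (algebraMap A B) 0 (ModuleCat.of B (B ⧸ q.asIdeal))).symm
  let β : (R.obj ω)⟦i⟧ ≅ R.obj (ω⟦i⟧) := ((R.commShiftIso i).app ω).symm
  let e : (X ⟶ (R.obj ω)⟦i⟧) → (Y ⟶ ω⟦i⟧) := fun f =>
    α.hom ≫ (adj.homEquiv X (ω⟦i⟧)).symm (f ≫ β.hom)
  have he_smul : ∀ (a : A) (f : X ⟶ (R.obj ω)⟦i⟧), e ((algebraMap A B a) • f) = a • e f := by
    intro a f
    change α.hom ≫ (adj.homEquiv X (ω⟦i⟧)).symm (((algebraMap A B a) • f) ≫ β.hom) =
      a • (α.hom ≫ (adj.homEquiv X (ω⟦i⟧)).symm (f ≫ β.hom))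
    rw [Linear.smul_comp, adj_homEquiv_symm_smul, Linear.comp_smul]
  have he_zero : ∀ f : X ⟶ (R.obj ω)⟦i⟧, e f = 0 ↔ f = 0 := by
    intro f
    constructor
    · intro h
      have h1 : (adj.homEquiv X (ω⟦i⟧)).symm (f ≫ β.hom) = 0 := by
        rw [← cancel_epi α.hom, comp_zero]
        exact h
      have h2 : f ≫ β.hom = 0 := by
        apply (adj.homEquiv X (ω⟦i⟧)).symm.injective
        rw [h1, adj_homEquiv_symm_zero]
      rw [← cancel_mono β.hom, zero_comp]
      exact h2
    · intro h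
      subst h
      change α.hom ≫ (adj.homEquiv X (ω⟦i⟧)).symm (0 ≫ β.hom) = 0
      rw [zero_comp, adj_homEquiv_symm_zero, comp_zero]
  have he_surj : Function.Surjective e := by
    intro g
    refine ⟨adj.homEquiv X (ω⟦i⟧) (α.inv ≫ g) ≫ β.inv, ?_⟩
    change α.hom ≫ (adj.homEquiv X (ω⟦i⟧)).symm
      ((adj.homEquiv X (ω⟦i⟧) (α.inv ≫ g) ≫ β.inv) ≫ β.hom) = g
    rw [Category.assoc, Iso.inv_hom_id, Category.comp_id, Equiv.symm_apply_apply,
      Iso.hom_inv_id_assoc]
  rw [← not_subsingleton_iff_nontrivial, ← not_subsingleton_iff_nontrivial, not_iff_not,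
    LocalizedModule.subsingleton_iff, LocalizedModule.subsingleton_iff]
  constructor
  · intro h g
    obtain ⟨f, rfl⟩ := he_surj g
    obtain ⟨r, hr, hrf⟩ := h f
    obtain ⟨a, rfl⟩ := hs r
    refine ⟨a, ?_, ?_⟩
    · intro ha
      exact hr (Ideal.mem_comap.mp ha)
    · rw [← he_smul, (he_zero _).2 hrf]
  · intro h f
    obtain ⟨a, ha, haf⟩ := h (e f)
    refine ⟨algebraMap A B a, ?_, ?_⟩
    · intro hq
      exact ha (Ideal.mem_comap.mpr hq)
    · rw [← he_smul] at haf
      exact (he_zero _).1 haf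

end delta

end Groth.Agent.Lib.Helper18.DR
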