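import Mathlib
import Groth.Agent.Lib.Helper18.MaxCrit4
import Groth.Agent.Lib.Helper18.DRInjFin

/-!
# Normalized dualizing complexes have injective amplitude `≤ 0` (helper18)
-/

set_option autoImplicit false
set_option linter.style.haveILetI false
universe u
open CategoryTheory CategoryTheory.Limits CategoryTheory.Pretriangulated DerivedCategory

attribute [local instance] HasDerivedCategory.standard

namespace Groth.Agent.Lib.Helper18.DR

namespace Norm

open HomLoc HomBC MaxCrit

variable {A : Type u} [CommRing A] [IsLocalRing A] [IsNoetherianRing A]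

/-- a normalized dualizing complex has injective amplitude in `[a, 0]` -/
theorem fidIn_of_normalized (ω : Dual.D A) (hω : Dual.IsDualizing A ω)
    (hn : Dual.IsNormalized A ω) : ∃ a : ℤ, FidIn ω a 0 := by
  obtain ⟨a, b, hab⟩ := hω.finite_injective_dimension
  have hfid : FidIn ω a b := hab
  haveI := hfid.isGE
  refine ⟨a, fidIn_of_maximal ω a 0 hω.finite_cohomology (fun m hm i hi => ?_)⟩
  obtain rfl := IsLocalRing.eq_maximalIdeal hm
  exact hn i (by omega)

/-- **S19132** -/
theorem subsingleton_hom_shift_of_normalized (ω : Dual.D A) (hω : Dual.IsDualizing A ω)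
    (hn : Dual.IsNormalized A ω) (N : Dual.D A)
    (hge : ∀ i : ℤ, i < 0 → Subsingleton (Dual.HD A N i)) (i : ℤ) (hi : 0 < i) :
    Subsingleton (N ⟶ ω⟦i⟧) := by
  obtain ⟨a, ha⟩ := fidIn_of_normalized ω hω hn
  have h1 : DRing.HasInjAmplitudeIn A a 0 ω := ((injAmp_tfae ω a 0).out 0 1).2 ha
  obtain ⟨E, hE, hinj, ⟨e⟩⟩ := h1
  haveI : N.IsGE 0 := by
    rw [DerivedCategory.isGE_iff]
    intro j hj
    haveI := hge j hj
    exact ModuleCat.isZero_of_subsingleton _
  haveI : (N⟦-i⟧).IsGE i := TStructure.t.isGE_shift N 0 (-i) i (by omega)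
  haveI : (N⟦-i⟧).IsGE (0 + 1) := TStructure.t.isGE_of_ge (N⟦-i⟧) (0 + 1) i (by omega)
  refine ⟨fun x y => ?_⟩
  have key : ∀ z : N ⟶ ω⟦i⟧, z = 0 := by
    intro z
    let s := (shiftEquiv (Dual.D A) i)
    have hz : (shiftFunctor (Dual.D A) (-i)).map z ≫ (s.unitIso.symm.app ω).hom ≫ e.inv = 0 :=
      hom_eq_zero_of_isGE_of_injAmp E a 0 hE hinj (N⟦-i⟧) _
    have hz2 : (shiftFunctor (Dual.D A) (-i)).map z = 0 := by
      have := hz
      rw [← Category.assoc] at this
      have h3 := (cancel_mono e.inv).1 (this.trans zero_comp.symm)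
      exact (cancel_mono (s.unitIso.symm.app ω).hom).1 (h3.trans zero_comp.symm)
    exact (shiftFunctor (Dual.D A) (-i)).map_injective (hz2.trans (Functor.map_zero _ _ _).symm)
  rw [key x, key y]

end Norm

end Groth.Agent.Lib.Helper18.DR
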