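import Mathlib
import Groth.Agent.Lib.Helper18.NormA
import Groth.Agent.Lib.Helper18.BidE
import Groth.Agent.Lib.Helper18.DRTwo
import Groth.Agent.Lib.Helper18.DRPerf
import Groth.Agent.Lib.Helper18.DualDelta

/-!
# Dualizing complexes over a field, and `Ext^i(κ, ω)` (helper18)
-/

set_option autoImplicit false
set_option linter.style.haveILetI false
universe u
open CategoryTheory CategoryTheory.Limits CategoryTheory.Pretriangulated DerivedCategory

attribute [local instance] HasDerivedCategory.standard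

namespace Groth.Agent.Lib.Helper18.DR

namespace Norm

open HomLoc HomBC

section homSg

variable {B : Type u} [CommRing B]

lemma homSgToH_injective (i : ℤ) (X : Dual.D B) : Function.Injective (homSgToH i X) := by
  rw [← LinearMap.ker_eq_bot, LinearMap.ker_eq_bot']
  intro φ hφ
  apply hom_Sg_eq_zero i (ModuleCat.of B B) X φ
  rw [← cancel_epi (HSg i (ModuleCat.of B B)).inv, comp_zero]
  apply ModuleCat.hom_ext
  apply LinearMap.ext_ring
  exact hφ

/-- `Hom(B[-i], X) ≃ H^i(X)` -/
noncomputable def homSgEquivH (i : ℤ) (X : Dual.D B) :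
    (Sg i (ModuleCat.of B B) ⟶ X) ≃ₗ[B] (H B i).obj X :=
  LinearEquiv.ofBijective (homSgToH i X) ⟨homSgToH_injective i X, homSgToH_surjective i X⟩

end homSg

section field

variable {k : Type u} [Field k]

/-- over a field, there is a nonzero linear map between nonzero vector spaces -/
lemma exists_linearMap_ne_zero (V V' : ModuleCat.{u} k) (hV : ¬ IsZero V) (hV' : ¬ IsZero V') :
    ∃ f : V ⟶ V', f ≠ 0 := by
  obtain ⟨x, hx⟩ : ∃ x : V, x ≠ 0 := by
    by_contra h
    push_neg at h
    haveI : Subsingleton V := ⟨fun a b => by rw [h a, h b]⟩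
    exact hV (ModuleCat.isZero_of_subsingleton V)
  obtain ⟨y, hy⟩ : ∃ y : V', y ≠ 0 := by
    by_contra h
    push_neg at h
    haveI : Subsingleton V' := ⟨fun a b => by rw [h a, h b]⟩
    exact hV' (ModuleCat.isZero_of_subsingleton V')
  obtain ⟨g, hg⟩ := LinearMap.exists_leftInverse_of_injective (LinearMap.toSpanSingleton k V x)
    (LinearMap.ker_toSpanSingleton k hx)
  refine ⟨ModuleCat.ofHom ((LinearMap.toSpanSingleton k V' y).comp g), fun h0 => hy ?_⟩
  have h1 : g x = 1 := by
    have := LinearMap.congr_fun hg (1 : k)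
    simpa using this
  have h2 := congrArg (fun t => t.hom x) h0
  simpa [h1] using h2

/-- the corner argument: a dualizing complex over a field has cohomology in a single degree -/
lemma eq_of_corner (W : Dual.D k) (hW : Dual.IsDualizing k W) (p q : ℤ) [W.IsGE p] [W.IsLE q]
    (hp : ¬ IsZero ((H k p).obj W)) (hq : ¬ IsZero ((H k q).obj W)) (hpq : p ≤ q) : p = q := by
  by_contra hne
  have hlt : p < q := lt_of_le_of_ne hpq hne
  obtain ⟨Nq, pq, hpq_iso, -⟩ := exists_hom_Sg_top' W q
  obtain ⟨Np, jp, hjp_iso, -⟩ := exists_hom_Sg_bot W p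
  haveI := hpq_iso
  haveI := hjp_iso
  have hNq : ¬ IsZero Nq := fun hz =>
    hq ((hz.of_iso (HSg q Nq)).of_iso (asIso ((H k q).map pq)))
  have hNp : ¬ IsZero Np := fun hz =>
    hp ((hz.of_iso (HSg p Np)).of_iso (asIso ((H k p).map jp)).symm)
  obtain ⟨f, hf⟩ := exists_linearMap_ne_zero Nq Np hNq hNp
  let σ : (Sg p Np)⟦p - q⟧ ≅ Sg q Np := SgShiftIso (p - q) q p (by omega) Np
  let c : W ⟶ W⟦p - q⟧ := pq ≫ (singleFunctor (ModuleCat.{u} k) q).map f ≫ σ.inv ≫
    (shiftFunctor (Dual.D k) (p - q)).map jp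
  haveI := hW.ext_self_subsingleton (p - q) (by omega)
  have hc : c = 0 := Subsingleton.elim _ _
  have h1 : (H k q).map c = 0 := by rw [hc, Functor.map_zero]
  simp only [c, Functor.map_comp] at h1
  haveI : IsIso ((H k q).map ((shiftFunctor (Dual.D k) (p - q)).map jp)) := by
    have := (isIso_map_iff_of_natIso (HShiftIso k (p - q) q p (by omega)) jp).2 hjp_iso
    exact this
  have h2 : (H k q).map ((singleFunctor (ModuleCat.{u} k) q).map f) = 0 := by
    have h3 := h1
    rw [← Category.assoc, ← Category.assoc] at h3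
    have h4 := (cancel_mono _).1 (h3.trans zero_comp.symm)
    have h5 := (cancel_mono _).1 (h4.trans zero_comp.symm)
    exact (cancel_epi _).1 (h5.trans comp_zero.symm)
  have h6 := HSg_naturality q f
  rw [h2, zero_comp] at h6
  exact hf ((cancel_epi _).1 (h6.symm.trans comp_zero.symm))

/-- a vector space whose endomorphism ring is the ground field is one-dimensional -/
lemma nonempty_linearEquiv_of_end_bijective (V : Type u) [AddCommGroup V] [Module k V]
    [Module.Finite k V]
    (h : Function.Bijective (fun a : k => a • (LinearMap.id : V →ₗ[k] V))) :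
    Nonempty (V ≃ₗ[k] k) := by
  let L : k →ₗ[k] (V →ₗ[k] V) :=
    { toFun := fun a => a • (LinearMap.id : V →ₗ[k] V)
      map_add' := fun a b => add_smul a b _
      map_smul' := fun a b => by
        change (a * b) • (LinearMap.id : V →ₗ[k] V) = a • b • LinearMap.id
        rw [mul_smul] }
  let e : k ≃ₗ[k] (V →ₗ[k] V) := LinearEquiv.ofBijective L h
  have h1 : Module.finrank k (V →ₗ[k] V) = 1 := by
    rw [← e.finrank_eq, Module.finrank_self]
  rw [Module.finrank_linearMap] at h1
  have h2 : Module.finrank k V = 1 := Nat.eq_one_of_mul_eq_one_right h1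
  exact ⟨LinearEquiv.ofFinrankEq V k (by rw [h2, Module.finrank_self])⟩

/-- a dualizing complex over a field is a one-dimensional vector space in a single degree -/
theorem exists_degree_of_field (W : Dual.D k) (hW : Dual.IsDualizing k W) :
    ∃ n : ℤ, (∀ i : ℤ, i ≠ n → IsZero ((H k i).obj W)) ∧
      Nonempty (((H k n).obj W) ≃ₗ[k] k) := by
  obtain ⟨a, b, hab⟩ := hW.finite_injective_dimension
  have hfid : FidIn W a b := hab
  have hnz : ¬ IsZero W := by
    intro hz
    have h1 : (1 : k) • 𝟙 W = (0 : k) • 𝟙 W := hz.eq_of_src _ _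
    exact one_ne_zero (hW.toEnd_bijective.1 h1)
  classical
  let S : Finset ℤ := (Finset.Icc a b).filter (fun i => ¬ IsZero ((H k i).obj W))
  have hS : ∀ i, ¬ IsZero ((H k i).obj W) → i ∈ S := by
    intro i hi
    refine Finset.mem_filter.2 ⟨Finset.mem_Icc.2 ?_, hi⟩
    by_contra hcon
    exact hi (hfid.isZero_H i (by omega))
  have hS' : ∀ i, i ∈ S → ¬ IsZero ((H k i).obj W) := fun i hi => (Finset.mem_filter.1 hi).2
  have hSne : S.Nonempty := by
    by_contra hcon
    rw [Finset.not_nonempty_iff_eq_empty] at hcon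
    apply hnz
    have hall : ∀ i, IsZero ((H k i).obj W) := by
      intro i
      by_contra hi
      have := hS i hi
      rw [hcon] at this
      exact absurd this (Finset.notMem_empty i)
    haveI : W.IsLE 0 := by
      rw [DerivedCategory.isLE_iff]
      exact fun i _ => hall i
    haveI : W.IsGE 1 := by
      rw [DerivedCategory.isGE_iff]
      exact fun i _ => hall i
    rw [IsZero.iff_id_eq_zero]
    exact TStructure.t.zero (𝟙 W) 0 1 (by omega)
  let p := S.min' hSne
  let q := S.max' hSne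
  have hp : ¬ IsZero ((H k p).obj W) := hS' p (S.min'_mem hSne)
  have hq : ¬ IsZero ((H k q).obj W) := hS' q (S.max'_mem hSne)
  haveI : W.IsGE p := by
    rw [DerivedCategory.isGE_iff]
    intro i hi
    by_contra hcon
    have h1 : p ≤ i := S.min'_le i (hS i hcon)
    omega
  haveI : W.IsLE q := by
    rw [DerivedCategory.isLE_iff]
    intro i hi
    by_contra hcon
    have h1 : i ≤ q := S.le_max' i (hS i hcon)
    omega
  have hpq : p = q := eq_of_corner W hW p q hp hq (S.min'_le q (S.max'_mem hSne))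
  haveI : W.IsLE p := by rw [hpq]; infer_instance
  obtain ⟨V, ⟨e⟩⟩ := exists_iso_singleFunctor_obj_of_isGE_of_isLE W p
  refine ⟨p, fun i hi => ?_, ?_⟩
  · by_contra hcon
    have h1 : p ≤ i := S.min'_le i (hS i hcon)
    have h2 : i ≤ q := S.le_max' i (hS i hcon)
    omega
  · let eV : (H k p).obj W ≅ V := (H k p).mapIso e ≪≫ HSg p V
    haveI : Module.Finite k V := by
      haveI := hW.finite_cohomology p
      exact Module.Finite.equiv eV.toLinearEquiv
    have hbij : Function.Bijective (fun a : k => a • (LinearMap.id : V →ₗ[k] V)) := by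
      let Ψ : (V →ₗ[k] V) → (W ⟶ W) := fun g =>
        e.hom ≫ (singleFunctor (ModuleCat.{u} k) p).map (ModuleCat.ofHom g) ≫ e.inv
      have hΨ : Function.Bijective Ψ := by
        constructor
        · intro g g' h
          have h1 : e.hom ≫ (singleFunctor (ModuleCat.{u} k) p).map (ModuleCat.ofHom g) ≫ e.inv =
            e.hom ≫ (singleFunctor (ModuleCat.{u} k) p).map (ModuleCat.ofHom g') ≫ e.inv := h
          rw [cancel_epi, cancel_mono] at h1
          have h2 := (singleFunctor (ModuleCat.{u} k) p).map_injective h1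
          exact congrArg ModuleCat.Hom.hom h2
        · intro t
          obtain ⟨g, hg⟩ := (singleFunctor (ModuleCat.{u} k) p).map_surjective (e.inv ≫ t ≫ e.hom)
          refine ⟨g.hom, ?_⟩
          change e.hom ≫ (singleFunctor (ModuleCat.{u} k) p).map (ModuleCat.ofHom g.hom) ≫ e.inv = t
          rw [ModuleCat.ofHom_hom, hg]
          simp
      have hcomp : Ψ ∘ (fun a : k => a • (LinearMap.id : V →ₗ[k] V)) =
          fun a : k => a • 𝟙 W := by
        funext a
        change e.hom ≫ (singleFunctor (ModuleCat.{u} k) p).map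
          (ModuleCat.ofHom (a • (LinearMap.id : V →ₗ[k] V))) ≫ e.inv = a • 𝟙 W
        have h1 : ModuleCat.ofHom (a • (LinearMap.id : V →ₗ[k] V)) = a • 𝟙 V := rfl
        rw [h1, Functor.map_smul, CategoryTheory.Functor.map_id, Linear.smul_comp,
          Linear.comp_smul, Category.id_comp, Iso.hom_inv_id]
      have h2 : Function.Bijective (Ψ ∘ (fun a : k => a • (LinearMap.id : V →ₗ[k] V))) := by
        rw [hcomp]
        exact hW.toEnd_bijective
      exact (Function.Bijective.of_comp_iff' hΨ _).1 h2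
    obtain ⟨e2⟩ := nonempty_linearEquiv_of_end_bijective V hbij
    exact ⟨eV.toLinearEquiv.trans e2⟩

end field

section adj

variable {A B : Type u} [CommRing A] [CommRing B] [Algebra A B]
  (R : Dual.D A ⥤ Dual.D B) (adj : DRing.restrictD (algebraMap A B) ⊣ R)

/-- `Hom_A(M, ω[i]) ≃ Hom_B(M, R(ω)[i])` for a `B`-module `M` -/
noncomputable def homAdjEquiv (ω : Dual.D A) (M : Type u) [AddCommGroup M] [Module B M] (i : ℤ) :
    (Dual.inD A ((ModuleCat.restrictScalars.{u} (algebraMap A B)).obj (ModuleCat.of B M)) ⟶ ω⟦i⟧) ≃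
      (Dual.inD B M ⟶ (R.obj ω)⟦i⟧) where
  toFun x := adj.homEquiv _ _
    ((((ModuleCat.restrictScalars.{u} (algebraMap A B)).mapDerivedCategorySingleFunctor 0).app
      (ModuleCat.of B M)).hom ≫ x) ≫ (Shr.rightAdjShiftIso (algebraMap A B) R adj ω i).hom
  invFun y := (((ModuleCat.restrictScalars.{u} (algebraMap A B)).mapDerivedCategorySingleFunctor 0).app
      (ModuleCat.of B M)).inv ≫ (adj.homEquiv _ _).symm
        (y ≫ (Shr.rightAdjShiftIso (algebraMap A B) R adj ω i).inv)
  left_inv x := by simp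
  right_inv y := by simp

lemma homAdjEquiv_smul (ω : Dual.D A) (M : Type u) [AddCommGroup M] [Module B M] (i : ℤ) (a : A)
    (x : Dual.inD A ((ModuleCat.restrictScalars.{u} (algebraMap A B)).obj (ModuleCat.of B M)) ⟶
      ω⟦i⟧) :
    homAdjEquiv R adj ω M i (a • x) = (algebraMap A B a) • homAdjEquiv R adj ω M i x := by
  change adj.homEquiv _ _ (_ ≫ (a • x)) ≫ _ = (algebraMap A B a) • (adj.homEquiv _ _ (_ ≫ x) ≫ _)
  rw [Linear.comp_smul, adj_homEquiv_smul, Linear.smul_comp]

lemma homAdjEquiv_add (ω : Dual.D A) (M : Type u) [AddCommGroup M] [Module B M] (i : ℤ)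
    (x y : Dual.inD A ((ModuleCat.restrictScalars.{u} (algebraMap A B)).obj (ModuleCat.of B M)) ⟶
      ω⟦i⟧) :
    homAdjEquiv R adj ω M i (x + y) = homAdjEquiv R adj ω M i x + homAdjEquiv R adj ω M i y := by
  change adj.homEquiv _ _ (_ ≫ (x + y)) ≫ _ =
    adj.homEquiv _ _ (_ ≫ x) ≫ _ + adj.homEquiv _ _ (_ ≫ y) ≫ _
  rw [Preadditive.comp_add, ← Preadditive.add_comp, Adjunction.homAddEquiv_add]

end adj

section main

variable {A : Type u} [CommRing A] [IsNoetherianRing A]

/-- **S0364** -/
theorem exists_degree_residueField (ω : Dual.D A) (hω : Dual.IsDualizing A ω) (m : Ideal A)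
    [m.IsMaximal] :
    ∃ n : ℤ, (∀ i : ℤ, i ≠ n → Subsingleton (Dual.inD A (A ⧸ m) ⟶ ω⟦i⟧)) ∧
      Nonempty ((Dual.inD A (A ⧸ m) ⟶ ω⟦n⟧) ≃ₗ[A] (A ⧸ m)) := by
  letI : Field (A ⧸ m) := Ideal.Quotient.field m
  let R := Shr.coextD (algebraMap A (A ⧸ m))
  let adj := Shr.coextAdj (algebraMap A (A ⧸ m))
  have hW : Dual.IsDualizing (A ⧸ m) (R.obj ω) := Bid.isDualizing_rightAdjoint R adj ω hω
  obtain ⟨n, hn0, ⟨en⟩⟩ := exists_degree_of_field (R.obj ω) hW
  -- the `A`-module `A ⧸ m` is the restriction of scalars of the `A ⧸ m`-module `A ⧸ m`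
  let N : ModuleCat.{u} A := (ModuleCat.restrictScalars.{u} (algebraMap A (A ⧸ m))).obj
    (ModuleCat.of (A ⧸ m) (A ⧸ m))
  let e₁ : (A ⧸ m) ≃ₗ[A] N :=
    { toFun := fun x => x
      invFun := fun x => x
      left_inv := fun _ => rfl
      right_inv := fun _ => rfl
      map_add' := fun _ _ => rfl
      map_smul' := fun a x => (algebraMap_smul (A ⧸ m) a (show A ⧸ m from x)).symm }
  let e₂ : Dual.inD A (A ⧸ m) ≅ Dual.inD A N :=
    (DerivedCategory.singleFunctor (ModuleCat.{u} A) 0).mapIso e₁.toModuleIso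
  -- the chain of bijections
  let Φ : ∀ i : ℤ, (Dual.inD A (A ⧸ m) ⟶ ω⟦i⟧) → (H (A ⧸ m) i).obj (R.obj ω) := fun i x =>
    ((HShiftIso (A ⧸ m) i 0 i (by omega)).app (R.obj ω)).hom.hom
      (homSgEquivH 0 ((R.obj ω)⟦i⟧) (homAdjEquiv R adj ω (A ⧸ m) i (e₂.inv ≫ x)))
  have hΦ : ∀ i, Function.Bijective (Φ i) := by
    intro i
    refine (ConcreteCategory.bijective_of_isIso
      ((HShiftIso (A ⧸ m) i 0 i (by omega)).app (R.obj ω)).hom).comp
      ((homSgEquivH 0 ((R.obj ω)⟦i⟧)).bijective.comp
        ((homAdjEquiv R adj ω (A ⧸ m) i).bijective.comp ?_))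
    exact (Iso.homFromEquiv e₂.symm).bijective
  refine ⟨n, fun i hi => ?_, ?_⟩
  · haveI : Subsingleton ((H (A ⧸ m) i).obj (R.obj ω)) :=
      ModuleCat.subsingleton_of_isZero (hn0 i hi)
    exact (hΦ i).1.subsingleton
  · refine ⟨LinearEquiv.ofBijective
      { toFun := fun x => en (Φ n x)
        map_add' := fun x y => ?_
        map_smul' := fun a x => ?_ } (en.bijective.comp (hΦ n))⟩
    · change en (Φ n (x + y)) = en (Φ n x) + en (Φ n y)
      rw [← map_add]
      congr 1
      change ((HShiftIso (A ⧸ m) n 0 n _).app (R.obj ω)).hom.hom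
        (homSgEquivH 0 ((R.obj ω)⟦n⟧) (homAdjEquiv R adj ω (A ⧸ m) n (e₂.inv ≫ (x + y)))) = _
      rw [Preadditive.comp_add, homAdjEquiv_add, map_add, map_add]
    · change en (Φ n (a • x)) = a • en (Φ n x)
      have h1 : Φ n (a • x) = (algebraMap A (A ⧸ m) a) • Φ n x := by
        change ((HShiftIso (A ⧸ m) n 0 n _).app (R.obj ω)).hom.hom
          (homSgEquivH 0 ((R.obj ω)⟦n⟧) (homAdjEquiv R adj ω (A ⧸ m) n (e₂.inv ≫ (a • x)))) = _
        rw [Linear.comp_smul, homAdjEquiv_smul, map_smul, map_smul]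
      rw [h1, map_smul]
      exact algebraMap_smul (A ⧸ m) a _

end main

end Norm

end Groth.Agent.Lib.Helper18.DR
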