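import Mathlib
import Groth.Agent.Lib.Helper18.NormB
import Groth.Agent.Lib.Helper18.InjH

/-!
# `Ext^i(N, ω)` for `N` of finite length and `ω` normalized (helper18)
-/

set_option autoImplicit false
set_option linter.style.haveILetI false
universe u
open CategoryTheory CategoryTheory.Limits CategoryTheory.Pretriangulated DerivedCategory

attribute [local instance] HasDerivedCategory.standard

namespace Groth.Agent.Lib.Helper18.DR

namespace Norm

open HomLoc HomBC Groth.Agent.Lib.Helper1

section fl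

variable {A : Type u} [CommRing A] [IsLocalRing A]

/-- the short exact sequence `0 → N → M → M/N → 0` -/
noncomputable def subSC {M : Type u} [AddCommGroup M] [Module A M] (N : Submodule A M) :
    ShortComplex (ModuleCat.{u} A) :=
  ShortComplex.mk (ModuleCat.ofHom N.subtype : ModuleCat.of A N ⟶ ModuleCat.of A M)
    (ModuleCat.ofHom N.mkQ : ModuleCat.of A M ⟶ ModuleCat.of A (M ⧸ N)) (by
      ext x
      exact (Submodule.Quotient.mk_eq_zero N).2 x.2)

lemma subSC_shortExact {M : Type u} [AddCommGroup M] [Module A M] (N : Submodule A M) :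
    (subSC N).ShortExact := by
  apply ModuleCat.shortComplex_shortExact
  · intro (x : M)
    change N.mkQ x = 0 ↔ ∃ y : N, N.subtype y = x
    rw [Submodule.mkQ_apply, Submodule.Quotient.mk_eq_zero]
    exact ⟨fun h => ⟨⟨x, h⟩, rfl⟩, fun ⟨y, hy⟩ => hy ▸ y.2⟩
  · exact N.injective_subtype
  · exact N.mkQ_surjective

/-- **S1749** (vanishing part): `Ext^i(N, ω) = 0` for `i ≠ 0`, `N` of finite length and `ω`
normalized -/
theorem subsingleton_hom_of_isFiniteLength (ω : Dual.D A) (hn : Dual.IsNormalized A ω) (i : ℤ)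
    (hi : i ≠ 0) (N : Type u) [AddCommGroup N] [Module A N] (hN : IsFiniteLength A N) :
    Subsingleton (Dual.inD A N ⟶ ω⟦i⟧) := by
  induction hN with
  | @of_subsingleton M _ _ _ =>
    have hz : IsZero (Dual.inD A M) :=
      (DerivedCategory.singleFunctor (ModuleCat.{u} A) 0).map_isZero
        (ModuleCat.isZero_of_subsingleton (ModuleCat.of A M))
    exact ⟨fun f g => hz.eq_of_src f g⟩
  | @of_simple_quotient M _ _ N' hs hN' ih =>
    obtain ⟨I, hI, ⟨e⟩⟩ := isSimpleModule_iff_quot_maximal.1 hs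
    obtain rfl := IsLocalRing.eq_maximalIdeal hI
    let e' : (M ⧸ N') ≃ₗ[A] IsLocalRing.ResidueField A := e.trans Matlis.quotEquivResidueField
    have h3 : Subsingleton (Dual.inD A (M ⧸ N') ⟶ ω⟦i⟧) := by
      haveI := hn i hi
      refine ⟨fun x y => ?_⟩
      rw [← cancel_epi ((DerivedCategory.singleFunctor (ModuleCat.{u} A) 0).map
        e'.toModuleIso.inv)]
      exact Subsingleton.elim _ _
    exact Bid.subsingleton_hom_obj₂ (subSC_shortExact N').singleTriangle
      (subSC_shortExact N').singleTriangle_distinguished (ω⟦i⟧) ih h3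

end fl

section dimzero

variable {A : Type u} [CommRing A] [IsLocalRing A] [IsNoetherianRing A]

/-- `Hom(κ, ω) ≅ κ` for a normalized dualizing complex -/
theorem nonempty_linearEquiv_hom_residueField (ω : Dual.D A) (hω : Dual.IsDualizing A ω)
    (hn : Dual.IsNormalized A ω) :
    Nonempty ((Dual.inD A (IsLocalRing.ResidueField A) ⟶ ω) ≃ₗ[A] IsLocalRing.ResidueField A) := by
  obtain ⟨n, -, ⟨L⟩⟩ := exists_degree_residueField ω hω (IsLocalRing.maximalIdeal A)
  let eκ : Dual.inD A (A ⧸ IsLocalRing.maximalIdeal A) ≅ Dual.inD A (IsLocalRing.ResidueField A) :=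
    (DerivedCategory.singleFunctor (ModuleCat.{u} A) 0).mapIso
      (Matlis.quotEquivResidueField (R := A)).toModuleIso
  have hn0 : n = 0 := by
    by_contra hne
    haveI := hn n hne
    have h1 : Subsingleton (Dual.inD A (A ⧸ IsLocalRing.maximalIdeal A) ⟶ ω⟦n⟧) :=
      ⟨fun x y => by
        rw [← cancel_epi eκ.inv]
        exact Subsingleton.elim _ _⟩
    have h2 : Subsingleton (A ⧸ IsLocalRing.maximalIdeal A) := L.symm.injective.subsingleton
    exact not_subsingleton _ h2
  subst hn0
  exact ⟨(Linear.homCongr A eκ.symm ((shiftFunctorZero (Dual.D A) ℤ).app ω).symm).trans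
    (L.trans (Matlis.quotEquivResidueField (R := A)))⟩

/-- over an Artinian local ring, if a normalized dualizing complex is a module `M` placed in
degree 0, then `M` is an injective hull of the residue field -/
theorem exists_isInjectiveHull_of_iso_inD [IsArtinianRing A] (ω : Dual.D A)
    (hω : Dual.IsDualizing A ω) (hn : Dual.IsNormalized A ω) (M : Type u) [AddCommGroup M]
    [Module A M] (e : ω ≅ Dual.inD A M) :
    ∃ f₀ : IsLocalRing.ResidueField A →ₗ[A] M, InjHull.IsInjectiveHull f₀ := by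
  have hfl : ∀ I : Ideal A, IsFiniteLength A (A ⧸ I) := fun I =>
    isFiniteLength_iff_isNoetherian_isArtinian.2 ⟨inferInstance, inferInstance⟩
  -- `M` is injective
  have hBaer : Module.Baer A M := by
    intro I g
    have hS := subSC_shortExact I
    have h3 : Subsingleton (Dual.inD A (A ⧸ I) ⟶ (Dual.inD A M)⟦(1 : ℤ)⟧) := by
      haveI := subsingleton_hom_of_isFiniteLength ω hn 1 one_ne_zero (A ⧸ I) (hfl I)
      exact ⟨fun x y => by
        rw [← cancel_mono ((shiftFunctor (Dual.D A) (1 : ℤ)).map e.inv)]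
        exact Subsingleton.elim _ _⟩
    obtain ⟨g', hg'⟩ := Bid.exists_of_subsingleton_hom_obj₃ hS.singleTriangle
      hS.singleTriangle_distinguished (Dual.inD A M) ((Dual.inD A M)⟦(1 : ℤ)⟧) (Iso.refl _) h3
      ((DerivedCategory.singleFunctor (ModuleCat.{u} A) 0).map (ModuleCat.ofHom g))
    obtain ⟨g'', rfl⟩ := (DerivedCategory.singleFunctor (ModuleCat.{u} A) 0).map_surjective g'
    have h4 : ModuleCat.ofHom g = (subSC I).f ≫ g'' :=
      (DerivedCategory.singleFunctor (ModuleCat.{u} A) 0).map_injective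
        (hg'.trans ((DerivedCategory.singleFunctor (ModuleCat.{u} A) 0).map_comp
          (subSC I).f g'').symm)
    refine ⟨g''.hom, fun x hx => ?_⟩
    have := congrArg (fun t => t.hom ⟨x, hx⟩) h4
    exact this.symm
  haveI : Module.Injective A M := hBaer.injective
  -- power torsion
  obtain ⟨N, hN⟩ := (isArtinianRing_iff_isNilpotent_maximalIdeal A).1 inferInstance
  have hQ : LocCoh.IsPowerTorsion (IsLocalRing.maximalIdeal A) M := by
    intro x
    refine ⟨N, fun a ha => ?_⟩
    rw [hN] at ha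
    have : a = 0 := ha
    rw [this, zero_smul]
  -- the socle
  obtain ⟨L⟩ := nonempty_linearEquiv_hom_residueField ω hω hn
  let Ψ : (IsLocalRing.ResidueField A →ₗ[A] M) → IsLocalRing.ResidueField A := fun φ =>
    L ((DerivedCategory.singleFunctor (ModuleCat.{u} A) 0).map (ModuleCat.ofHom φ) ≫ e.inv)
  have hΨ : Function.Bijective Ψ := by
    refine L.bijective.comp ?_
    constructor
    · intro φ φ' h
      have h1 : (DerivedCategory.singleFunctor (ModuleCat.{u} A) 0).map (ModuleCat.ofHom φ) ≫ e.inv =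
        (DerivedCategory.singleFunctor (ModuleCat.{u} A) 0).map (ModuleCat.ofHom φ') ≫ e.inv := h
      rw [cancel_mono] at h1
      have h2 := (DerivedCategory.singleFunctor (ModuleCat.{u} A) 0).map_injective h1
      exact congrArg ModuleCat.Hom.hom h2
    · intro t
      obtain ⟨g, hg⟩ := (DerivedCategory.singleFunctor (ModuleCat.{u} A) 0).map_surjective
        (t ≫ e.hom)
      refine ⟨g.hom, ?_⟩
      change (DerivedCategory.singleFunctor (ModuleCat.{u} A) 0).map (ModuleCat.ofHom g.hom) ≫
        e.inv = t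
      rw [ModuleCat.ofHom_hom, hg]
      simp
  have hΨsmul : ∀ (c : A) (φ : IsLocalRing.ResidueField A →ₗ[A] M), Ψ (c • φ) = c • Ψ φ := by
    intro c φ
    change L ((DerivedCategory.singleFunctor (ModuleCat.{u} A) 0).map
      (ModuleCat.ofHom (c • φ)) ≫ e.inv) = c • L _
    have h1 : ModuleCat.ofHom (c • φ) = c • ModuleCat.ofHom φ := rfl
    rw [h1, Functor.map_smul, Linear.smul_comp, map_smul]
  have hΨ0 : Ψ 0 = 0 := by
    change L ((DerivedCategory.singleFunctor (ModuleCat.{u} A) 0).map (ModuleCat.ofHom 0) ≫ e.inv) = 0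
    have h1 : ModuleCat.ofHom (0 : IsLocalRing.ResidueField A →ₗ[A] M) = 0 := rfl
    rw [h1, Functor.map_zero, zero_comp, map_zero]
  obtain ⟨f₀, hf₀⟩ := hΨ.2 1
  have hf₀ne : f₀ ≠ 0 := by
    intro h
    rw [h, hΨ0] at hf₀
    exact zero_ne_one hf₀
  have hgen : ∀ φ : IsLocalRing.ResidueField A →ₗ[A] M, ∃ c : A, φ = c • f₀ := by
    intro φ
    obtain ⟨c, hc⟩ := IsLocalRing.residue_surjective (Ψ φ)
    refine ⟨c, hΨ.1 ?_⟩
    rw [hΨsmul, hf₀, Matlis.residue_smul_one, hc]
  refine ⟨f₀, InjH.isInjectiveHull_of_socle hQ f₀ hf₀ne (fun x hx => ?_)⟩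
  let φx : IsLocalRing.ResidueField A →ₗ[A] M :=
    (Submodule.liftQ (IsLocalRing.maximalIdeal A) (LinearMap.toSpanSingleton A M x)
      (fun r hr => by
        rw [LinearMap.mem_ker, LinearMap.toSpanSingleton_apply]
        exact hx r hr)).comp (Matlis.quotEquivResidueField (R := A)).symm.toLinearMap
  obtain ⟨c, hc⟩ := hgen φx
  have h1 : φx 1 = x := by
    change (LinearMap.toSpanSingleton A M x) 1 = x
    rw [LinearMap.toSpanSingleton_apply, one_smul]
  refine ⟨c • 1, ?_⟩
  rw [map_smul, ← h1, hc]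
  rfl

/-- a normalized dualizing complex over an Artinian local ring is a module in degree 0 -/
theorem exists_iso_inD_of_isArtinianRing [IsArtinianRing A] (ω : Dual.D A)
    (hn : Dual.IsNormalized A ω) : ∃ M : ModuleCat.{u} A, Nonempty (ω ≅ Dual.inD A M) := by
  have hA : IsFiniteLength A A :=
    isFiniteLength_iff_isNoetherian_isArtinian.2 ⟨inferInstance, inferInstance⟩
  have hz : ∀ i : ℤ, i ≠ 0 → IsZero ((H A i).obj ω) := by
    intro i hi
    apply isZero_H_of_subsingleton_hom
    exact (subsingleton_extD_iff (ModuleCat.of A A) ω i).1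
      (subsingleton_hom_of_isFiniteLength ω hn i hi A hA)
  haveI : ω.IsGE 0 := by
    rw [DerivedCategory.isGE_iff]
    exact fun i hi => hz i (by omega)
  haveI : ω.IsLE 0 := by
    rw [DerivedCategory.isLE_iff]
    exact fun i hi => hz i (by omega)
  obtain ⟨M, ⟨e⟩⟩ := exists_iso_singleFunctor_obj_of_isGE_of_isLE ω 0
  exact ⟨M, ⟨e⟩⟩

/-- **S0375** -/
theorem nonempty_iso_inD_injectiveHull (h0 : ringKrullDim A = 0) (ω : Dual.D A)
    (hω : Dual.IsDualizing A ω) (hn : Dual.IsNormalized A ω) (E : Type u) [AddCommGroup E]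
    [Module A E] (f : IsLocalRing.ResidueField A →ₗ[A] E) (hf : InjHull.IsInjectiveHull f) :
    Nonempty (ω ≅ Dual.inD A E) := by
  haveI : Ring.KrullDimLE 0 A := Ring.krullDimLE_iff.2 (by rw [h0]; rfl)
  haveI : IsArtinianRing A := IsNoetherianRing.isArtinianRing_of_krullDimLE_zero
  obtain ⟨M, ⟨e⟩⟩ := exists_iso_inD_of_isArtinianRing ω hn
  obtain ⟨f₀, hf₀⟩ := exists_isInjectiveHull_of_iso_inD ω hω hn M e
  obtain ⟨g, -⟩ := InjH.exists_linearEquiv_of_isInjectiveHull f₀ f hf₀ hf
  exact ⟨e ≪≫ (DerivedCategory.singleFunctor (ModuleCat.{u} A) 0).mapIso g.toModuleIso⟩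

end dimzero

end Norm

end Groth.Agent.Lib.Helper18.DR
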