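import Mathlib
import Groth.Agent.Lib.Helper18.NormC
import Groth.Agent.Lib.Helper18.InjH2

/-!
# `Hom_D(N, ω) ≅ Hom_A(N, E)` for `N` of finite length (helper18)
-/

set_option autoImplicit false
set_option linter.style.haveILetI false
universe u
open CategoryTheory CategoryTheory.Limits CategoryTheory.Pretriangulated DerivedCategory

attribute [local instance] HasDerivedCategory.standard

namespace Groth.Agent.Lib.Helper18.DR

namespace Norm

open HomLoc HomBC Groth.Agent.Lib.Helper1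

section modadj

variable {A B : Type u} [CommRing A] [CommRing B] (φ : A →+* B)

lemma rcAdj_homEquiv_smul (M : ModuleCat.{u} B) (E : ModuleCat.{u} A) (a : A)
    (h : (ModuleCat.restrictScalars.{u} φ).obj M ⟶ E) :
    (Coext.rcAdj φ).homEquiv M E (a • h) = (φ a) • (Coext.rcAdj φ).homEquiv M E h := by
  have h1 : a • h = (ModuleCat.restrictScalars.{u} φ).map ((φ a) • 𝟙 M) ≫ h := by
    ext x
    change a • h.hom x = h.hom (φ a • x)
    rw [← map_smul]
    rfl
  rw [h1, Adjunction.homEquiv_naturality_left, Linear.smul_comp, Category.id_comp]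

lemma rcAdj_homEquiv_add (M : ModuleCat.{u} B) (E : ModuleCat.{u} A)
    (h h' : (ModuleCat.restrictScalars.{u} φ).obj M ⟶ E) :
    (Coext.rcAdj φ).homEquiv M E (h + h') =
      (Coext.rcAdj φ).homEquiv M E h + (Coext.rcAdj φ).homEquiv M E h' :=
  Adjunction.homAddEquiv_add _ _ _ _ _

end modadj

section adjsymm

variable {A B : Type u} [CommRing A] [CommRing B] [Algebra A B]
  (R : Dual.D A ⥤ Dual.D B) (adj : DRing.restrictD (algebraMap A B) ⊣ R)

lemma homAdjEquiv_symm_smul (ω : Dual.D A) (M : Type u) [AddCommGroup M] [Module B M] (i : ℤ)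
    (a : A) (y : Dual.inD B M ⟶ (R.obj ω)⟦i⟧) :
    (homAdjEquiv R adj ω M i).symm ((algebraMap A B a) • y) =
      a • (homAdjEquiv R adj ω M i).symm y := by
  apply (homAdjEquiv R adj ω M i).injective
  rw [Equiv.apply_symm_apply, homAdjEquiv_smul, Equiv.apply_symm_apply]

lemma homAdjEquiv_symm_add (ω : Dual.D A) (M : Type u) [AddCommGroup M] [Module B M] (i : ℤ)
    (y y' : Dual.inD B M ⟶ (R.obj ω)⟦i⟧) :
    (homAdjEquiv R adj ω M i).symm (y + y') =
      (homAdjEquiv R adj ω M i).symm y + (homAdjEquiv R adj ω M i).symm y' := by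
  apply (homAdjEquiv R adj ω M i).injective
  rw [Equiv.apply_symm_apply, homAdjEquiv_add, Equiv.apply_symm_apply, Equiv.apply_symm_apply]

end adjsymm

section main

variable {A : Type u} [CommRing A] [IsLocalRing A] [IsNoetherianRing A]

/-- `Hom_D(N, ω) ≅ Hom_A(N, E)` for a module `N` killed by an ideal `I` with `A ⧸ I` Artinian -/
theorem nonempty_linearEquiv_hom_of_torsion (ω : Dual.D A) (hω : Dual.IsDualizing A ω)
    (hn : Dual.IsNormalized A ω) (E : Type u) [AddCommGroup E] [Module A E]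
    (f : IsLocalRing.ResidueField A →ₗ[A] E) (hf : InjHull.IsInjectiveHull f)
    (I : Ideal A) (hI : I ≠ ⊤) [IsArtinianRing (A ⧸ I)]
    (N : Type u) [AddCommGroup N] [Module A N] (hN : Module.IsTorsionBySet A N I) :
    Nonempty ((Dual.inD A N ⟶ ω) ≃ₗ[A] (N →ₗ[A] E)) := by
  haveI : Nontrivial (A ⧸ I) := Ideal.Quotient.nontrivial_iff.2 hI
  haveI : IsLocalRing (A ⧸ I) :=
    IsLocalRing.of_surjective' (Ideal.Quotient.mk I) Ideal.Quotient.mk_surjective
  haveI : IsLocalHom (algebraMap A (A ⧸ I)) :=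
    IsLocalHom.of_surjective _ Ideal.Quotient.mk_surjective
  let R := Shr.coextD (algebraMap A (A ⧸ I))
  let adj := Shr.coextAdj (algebraMap A (A ⧸ I))
  have hWd : Dual.IsDualizing (A ⧸ I) (R.obj ω) := Bid.isDualizing_rightAdjoint R adj ω hω
  have hWn : Dual.IsNormalized (A ⧸ I) (R.obj ω) := Bid.isNormalized_rightAdjoint R adj ω hn
  -- power torsion over `A ⧸ I`
  obtain ⟨r, hr⟩ := (isArtinianRing_iff_isNilpotent_maximalIdeal (A ⧸ I)).1 inferInstance
  have hQ : ∀ (Q : Type u) [AddCommGroup Q] [Module (A ⧸ I) Q],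
      LocCoh.IsPowerTorsion (IsLocalRing.maximalIdeal (A ⧸ I)) Q := by
    intro Q _ _ x
    refine ⟨r, fun a ha => ?_⟩
    rw [hr] at ha
    have : a = 0 := ha
    rw [this, zero_smul]
  obtain ⟨fB, hfB⟩ := InjH.exists_isInjectiveHull_coext I hQ E f hf
  let EB := (Coext.coextM (Ideal.Quotient.mk I)).obj (ModuleCat.of A E)
  obtain ⟨M, ⟨e⟩⟩ := exists_iso_inD_of_isArtinianRing (R.obj ω) hWn
  obtain ⟨f₀, hf₀⟩ := exists_isInjectiveHull_of_iso_inD (R.obj ω) hWd hWn M e
  obtain ⟨g, -⟩ := InjH.exists_linearEquiv_of_isInjectiveHull f₀ fB hf₀ hfB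
  let eW : R.obj ω ≅ Dual.inD (A ⧸ I) EB :=
    e ≪≫ (DerivedCategory.singleFunctor (ModuleCat.{u} (A ⧸ I)) 0).mapIso g.toModuleIso
  -- `N` as a module over `A ⧸ I`
  letI : Module (A ⧸ I) N := hN.module
  let N' : ModuleCat.{u} A := (ModuleCat.restrictScalars.{u} (algebraMap A (A ⧸ I))).obj
    (ModuleCat.of (A ⧸ I) N)
  let e₁ : N ≃ₗ[A] N' :=
    { toFun := fun x => x
      invFun := fun x => x
      left_inv := fun _ => rfl
      right_inv := fun _ => rfl
      map_add' := fun _ _ => rfl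
      map_smul' := fun _ _ => rfl }
  let z := (shiftFunctorZero (Dual.D (A ⧸ I)) ℤ).app (R.obj ω)
  let zA := (shiftFunctorZero (Dual.D A) ℤ).app ω
  let S0 := DerivedCategory.singleFunctor (ModuleCat.{u} (A ⧸ I)) 0
  let P : (N →ₗ[A] E) → (N' ⟶ ModuleCat.of A E) := fun h =>
    ModuleCat.ofHom (h.comp e₁.symm.toLinearMap)
  have hPadd : ∀ h h' : N →ₗ[A] E, P (h + h') = P h + P h' := fun _ _ => rfl
  have hPsmul : ∀ (a : A) (h : N →ₗ[A] E), P (a • h) = a • P h := fun _ _ => rfl
  have hPbij : Function.Bijective P := by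
    constructor
    · intro h h' hh
      have h1 := congrArg ModuleCat.Hom.hom hh
      ext x
      exact LinearMap.congr_fun h1 (e₁ x)
    · intro t
      refine ⟨t.hom.comp e₁.toLinearMap, ?_⟩
      apply ModuleCat.hom_ext
      ext x
      rfl
  let G1 : (N' ⟶ ModuleCat.of A E) → (Dual.inD (A ⧸ I) N ⟶ (R.obj ω)⟦(0 : ℤ)⟧) := fun h' =>
    S0.map ((Coext.rcAdj (algebraMap A (A ⧸ I))).homEquiv (ModuleCat.of (A ⧸ I) N)
      (ModuleCat.of A E) h') ≫ eW.inv ≫ z.inv
  have hG1add : ∀ h h', G1 (h + h') = G1 h + G1 h' := by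
    intro h h'
    change S0.map _ ≫ _ = S0.map _ ≫ _ + S0.map _ ≫ _
    rw [rcAdj_homEquiv_add, Functor.map_add, Preadditive.add_comp]
  have hG1smul : ∀ (a : A) h, G1 (a • h) = (algebraMap A (A ⧸ I) a) • G1 h := by
    intro a h
    change S0.map _ ≫ _ = _ • (S0.map _ ≫ _)
    rw [rcAdj_homEquiv_smul, Functor.map_smul, Linear.smul_comp]
  have hG1bij : Function.Bijective G1 := by
    constructor
    · intro h h' hh
      have h1 : S0.map ((Coext.rcAdj (algebraMap A (A ⧸ I))).homEquiv (ModuleCat.of (A ⧸ I) N)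
          (ModuleCat.of A E) h) ≫ eW.inv ≫ z.inv =
        S0.map ((Coext.rcAdj (algebraMap A (A ⧸ I))).homEquiv (ModuleCat.of (A ⧸ I) N)
          (ModuleCat.of A E) h') ≫ eW.inv ≫ z.inv := hh
      have h2 := (cancel_mono (eW.inv ≫ z.inv)).1 h1
      exact ((Coext.rcAdj (algebraMap A (A ⧸ I))).homEquiv _ _).injective (S0.map_injective h2)
    · intro y
      obtain ⟨t, ht⟩ := S0.map_surjective (y ≫ z.hom ≫ eW.hom)
      refine ⟨((Coext.rcAdj (algebraMap A (A ⧸ I))).homEquiv _ _).symm t, ?_⟩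
      change S0.map _ ≫ eW.inv ≫ z.inv = y
      rw [Equiv.apply_symm_apply, ht]
      simp
  let G3 : (Dual.inD A N' ⟶ ω⟦(0 : ℤ)⟧) → (Dual.inD A N ⟶ ω) := fun x =>
    (DerivedCategory.singleFunctor (ModuleCat.{u} A) 0).map e₁.toModuleIso.hom ≫ x ≫ zA.hom
  have hG3add : ∀ x x', G3 (x + x') = G3 x + G3 x' := by
    intro x x'
    change _ ≫ (x + x') ≫ _ = _ ≫ x ≫ _ + _ ≫ x' ≫ _
    rw [Preadditive.add_comp, Preadditive.comp_add]
  have hG3smul : ∀ (a : A) x, G3 (a • x) = a • G3 x := by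
    intro a x
    change _ ≫ (a • x) ≫ _ = a • (_ ≫ x ≫ _)
    rw [Linear.smul_comp, Linear.comp_smul]
  have hG3bij : Function.Bijective G3 := by
    constructor
    · intro x x' hh
      have h1 : (DerivedCategory.singleFunctor (ModuleCat.{u} A) 0).map e₁.toModuleIso.hom ≫
          x ≫ zA.hom = (DerivedCategory.singleFunctor (ModuleCat.{u} A) 0).map
            e₁.toModuleIso.hom ≫ x' ≫ zA.hom := hh
      haveI : IsIso ((DerivedCategory.singleFunctor (ModuleCat.{u} A) 0).map
        e₁.toModuleIso.hom) := inferInstance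
      exact (cancel_mono zA.hom).1 ((cancel_epi _).1 h1)
    · intro y
      refine ⟨(DerivedCategory.singleFunctor (ModuleCat.{u} A) 0).map e₁.toModuleIso.inv ≫
        y ≫ zA.inv, ?_⟩
      change (DerivedCategory.singleFunctor (ModuleCat.{u} A) 0).map e₁.toModuleIso.hom ≫
        ((DerivedCategory.singleFunctor (ModuleCat.{u} A) 0).map e₁.toModuleIso.inv ≫
          y ≫ zA.inv) ≫ zA.hom = y
      rw [Category.assoc, Category.assoc, Iso.inv_hom_id, Category.comp_id,
        ← Category.assoc, ← Functor.map_comp, Iso.hom_inv_id, CategoryTheory.Functor.map_id,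
        Category.id_comp]
  let G : (N →ₗ[A] E) → (Dual.inD A N ⟶ ω) := fun h =>
    G3 ((homAdjEquiv R adj ω N 0).symm (G1 (P h)))
  have hGadd : ∀ h h' : N →ₗ[A] E, G (h + h') = G h + G h' := by
    intro h h'
    change G3 ((homAdjEquiv R adj ω N 0).symm (G1 (P (h + h')))) = _
    rw [hPadd, hG1add, homAdjEquiv_symm_add, hG3add]
  have hGsmul : ∀ (a : A) (h : N →ₗ[A] E), G (a • h) = a • G h := by
    intro a h
    change G3 ((homAdjEquiv R adj ω N 0).symm (G1 (P (a • h)))) = _
    rw [hPsmul, hG1smul, homAdjEquiv_symm_smul, hG3smul]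
  have hGbij : Function.Bijective G :=
    hG3bij.comp ((homAdjEquiv R adj ω N 0).symm.bijective.comp (hG1bij.comp hPbij))
  exact ⟨(LinearEquiv.ofBijective
    { toFun := G
      map_add' := hGadd
      map_smul' := hGsmul } hGbij).symm⟩

/-- a module of finite length over a local ring is killed by a power of the maximal ideal -/
theorem exists_pow_torsion_of_isFiniteLength {A : Type u} [CommRing A] [IsLocalRing A]
    (N : Type u) [AddCommGroup N] [Module A N]
    (hN : IsFiniteLength A N) :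
    ∃ r : ℕ, ∀ a ∈ IsLocalRing.maximalIdeal A ^ r, ∀ x : N, a • x = 0 := by
  induction hN with
  | @of_subsingleton M _ _ _ => exact ⟨0, fun a _ x => Subsingleton.elim _ _⟩
  | @of_simple_quotient M _ _ N' hs hN' ih =>
    obtain ⟨r, hr⟩ := ih
    obtain ⟨J, hJ, ⟨e⟩⟩ := isSimpleModule_iff_quot_maximal.1 hs
    obtain rfl := IsLocalRing.eq_maximalIdeal hJ
    have hm : ∀ a ∈ IsLocalRing.maximalIdeal A, ∀ x : M, a • x ∈ N' := by
      intro a ha x
      rw [← Submodule.Quotient.mk_eq_zero, Submodule.Quotient.mk_smul]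
      apply e.injective
      rw [map_smul, map_zero]
      obtain ⟨b, hb⟩ := Ideal.Quotient.mk_surjective (e (Submodule.Quotient.mk x))
      rw [← hb, ← Ideal.Quotient.mk_eq_mk, ← Submodule.Quotient.mk_smul,
        Submodule.Quotient.mk_eq_zero, smul_eq_mul]
      exact Ideal.mul_mem_right _ _ ha
    refine ⟨r + 1, fun c hc x => ?_⟩
    rw [pow_succ] at hc
    refine Submodule.mul_induction_on hc (fun b hb a ha => ?_) (fun c c' h h' => ?_)
    · rw [mul_smul]
      have := hr b hb ⟨a • x, hm a ha x⟩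
      exact congrArg Subtype.val this
    · rw [add_smul, h, h', add_zero]

/-- **S1749** -/
theorem ext_finiteLength_normalized_dualizing (ω : Dual.D A) (hω : Dual.IsDualizing A ω)
    (hn : Dual.IsNormalized A ω) (E : Type u) [AddCommGroup E] [Module A E]
    (f : IsLocalRing.ResidueField A →ₗ[A] E) (hf : InjHull.IsInjectiveHull f)
    (N : Type u) [AddCommGroup N] [Module A N] (hN : IsFiniteLength A N) :
    (∀ i : ℤ, i ≠ 0 → Subsingleton (Dual.inD A N ⟶ ω⟦i⟧)) ∧
      Nonempty ((Dual.inD A N ⟶ ω) ≃ₗ[A] (N →ₗ[A] E)) := by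
  refine ⟨fun i hi => subsingleton_hom_of_isFiniteLength ω hn i hi N hN, ?_⟩
  obtain ⟨r, hr⟩ := exists_pow_torsion_of_isFiniteLength N hN
  let I : Ideal A := IsLocalRing.maximalIdeal A ^ (r + 1)
  have hI : I ≠ ⊤ := by
    intro h
    have h1 : I ≤ IsLocalRing.maximalIdeal A := Ideal.pow_le_self (Nat.succ_ne_zero r)
    rw [h] at h1
    exact (IsLocalRing.maximalIdeal.isMaximal A).ne_top (top_le_iff.1 h1)
  have hp : IsLocalRing.maximalIdeal A ∈ I.minimalPrimes := by
    refine ⟨⟨inferInstance, Ideal.pow_le_self (Nat.succ_ne_zero r)⟩, ?_⟩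
    rintro q ⟨hq, hle⟩ _
    exact hq.le_of_pow_le hle
  haveI : IsArtinianRing (A ⧸ I) :=
    IsLocalRing.quotient_artinian_of_mem_minimalPrimes_of_isLocalRing _ hp
  have hNI : Module.IsTorsionBySet A N I := by
    intro x a
    exact hr a (Ideal.pow_le_pow_right (Nat.le_succ r) a.2) x
  exact nonempty_linearEquiv_hom_of_torsion ω hω hn E f hf I hI N hNI

end main

end Norm

end Groth.Agent.Lib.Helper18.DR
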