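import Mathlib
import Groth.Agent.Lib.Helper18.NormD
import Groth.Agent.Lib.Helper18.DRChain

/-!
# Cohomology of `Hom_A(M, E)` for a K-injective complex `E` (helper18)
-/

set_option autoImplicit false
set_option linter.style.haveILetI false
universe u
open CategoryTheory CategoryTheory.Limits CategoryTheory.Pretriangulated DerivedCategory
open CochainComplex.HomComplex

attribute [local instance] HasDerivedCategory.standard

namespace Groth.Agent.Lib.Helper18.DR

namespace Norm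

open HomLoc HomBC Bid

section L

variable {A : Type u} [CommRing A] (E : DRing.Cx A) (M : ModuleCat.{u} A)

lemma fromSgMap_f (n n' : ℤ) (hn' : n + 1 = n') (φ : M ⟶ E.X n) (hφ : φ ≫ E.d n n' = 0) :
    (fromSgMap E n M n' hn' φ hφ).f n =
      (HomologicalComplex.singleObjXSelf (.up ℤ) n M).hom ≫ φ := by
  simp [fromSgMap, Cocycle.fromSingleMk]

lemma fromSgMap_add (n n' : ℤ) (hn' : n + 1 = n') (φ φ' : M ⟶ E.X n) (hφ : φ ≫ E.d n n' = 0)
    (hφ' : φ' ≫ E.d n n' = 0) :
    fromSgMap E n M n' hn' (φ + φ') (by rw [Preadditive.add_comp, hφ, hφ', add_zero]) =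
      fromSgMap E n M n' hn' φ hφ + fromSgMap E n M n' hn' φ' hφ' := by
  apply HomologicalComplex.from_single_hom_ext
  rw [HomologicalComplex.add_f_apply, fromSgMap_f, fromSgMap_f, fromSgMap_f,
    Preadditive.comp_add]
  rfl

lemma fromSgMap_smul (n n' : ℤ) (hn' : n + 1 = n') (a : A) (φ : M ⟶ E.X n)
    (hφ : φ ≫ E.d n n' = 0) :
    fromSgMap E n M n' hn' (a • φ) (by rw [Linear.smul_comp, hφ, smul_zero]) =
      a • fromSgMap E n M n' hn' φ hφ := by
  apply HomologicalComplex.from_single_hom_ext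
  rw [HomologicalComplex.smul_f_apply, fromSgMap_f, fromSgMap_f, Linear.comp_smul]
  rfl

lemma exists_fromSgMap (n n' : ℤ) (hn' : n + 1 = n')
    (f : (CochainComplex.singleFunctor (ModuleCat.{u} A) n).obj M ⟶ E) :
    ∃ (φ : M ⟶ E.X n) (hφ : φ ≫ E.d n n' = 0), f = fromSgMap E n M n' hn' φ hφ := by
  obtain ⟨φ, hφ, h⟩ := Cocycle.fromSingleMk_surjective (Cocycle.ofHom f) n (add_zero n) n' hn'
  refine ⟨φ, hφ, ?_⟩
  rw [fromSgMap, h, Cocycle.homOf_ofHom_eq_self]

section Lmain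

variable [E.IsKInjective]

lemma ofHom_comp_d_eq_zero (j k : ℤ) (z : LinearMap.ker ((Dc E M).d j k).hom) :
    ModuleCat.ofHom (z.1 : M →ₗ[A] E.X j) ≫ E.d j k = 0 := by
  ext : 1
  exact z.2

/-- the map from cocycles of `Hom(M, E)` to `Hom_D(M[-j], E)` -/
noncomputable def cycToHom (j k : ℤ) (hjk : j + 1 = k) :
    LinearMap.ker ((Dc E M).d j k).hom →ₗ[A] (Sg j M ⟶ QE E) where
  toFun z := ((DerivedCategory.singleFunctorIsoCompQ (ModuleCat.{u} A) j).app M).hom ≫
    DerivedCategory.Q.map (fromSgMap E j M k hjk (ModuleCat.ofHom (z.1 : M →ₗ[A] E.X j))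
      (ofHom_comp_d_eq_zero E M j k z))
  map_add' z z' := by
    rw [← Preadditive.comp_add, ← Functor.map_add,
      ← fromSgMap_add E M j k hjk _ _ (ofHom_comp_d_eq_zero E M j k z)
        (ofHom_comp_d_eq_zero E M j k z')]
    rfl
  map_smul' a z := by
    rw [RingHom.id_apply, ← Linear.comp_smul, ← Functor.map_smul,
      ← fromSgMap_smul E M j k hjk a _ (ofHom_comp_d_eq_zero E M j k z)]
    rfl

lemma cycToHom_apply (j k : ℤ) (hjk : j + 1 = k) (z : LinearMap.ker ((Dc E M).d j k).hom) :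
    cycToHom E M j k hjk z =
      ((DerivedCategory.singleFunctorIsoCompQ (ModuleCat.{u} A) j).app M).hom ≫
        DerivedCategory.Q.map (fromSgMap E j M k hjk (ModuleCat.ofHom (z.1 : M →ₗ[A] E.X j))
          (ofHom_comp_d_eq_zero E M j k z)) := rfl

lemma cycToHom_surjective (j k : ℤ) (hjk : j + 1 = k) :
    Function.Surjective (cycToHom E M j k hjk) := by
  intro ξ
  obtain ⟨f, hf⟩ := exists_map_eq_inj _ E
    (((DerivedCategory.singleFunctorIsoCompQ (ModuleCat.{u} A) j).app M).inv ≫ ξ)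
  obtain ⟨φ, hφ, rfl⟩ := exists_fromSgMap E M j k hjk f
  have hz : (φ.hom : (Dc E M).X j) ∈ LinearMap.ker ((Dc E M).d j k).hom := by
    have := congrArg ModuleCat.Hom.hom hφ
    exact this
  refine ⟨⟨φ.hom, hz⟩, ?_⟩
  rw [cycToHom_apply, ← cancel_epi ((DerivedCategory.singleFunctorIsoCompQ (ModuleCat.{u} A) j).app M).inv,
    Iso.inv_hom_id_assoc, ← hf]
  rfl

lemma ker_cycToHom (i j k : ℤ) (hij : i + 1 = j) (hjk : j + 1 = k) :
    LinearMap.ker (cycToHom E M j k hjk) = LinearMap.range (toCyc (Dc E M) i j k) := by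
  ext z
  rw [LinearMap.mem_ker, LinearMap.mem_range, cycToHom_apply]
  rw [← cancel_epi ((DerivedCategory.singleFunctorIsoCompQ (ModuleCat.{u} A) j).app M).inv,
    Iso.inv_hom_id_assoc, comp_zero,
    Q_map_fromSgMap_eq_zero_iff E j M k hjk _ (ofHom_comp_d_eq_zero E M j k z) i hij]
  constructor
  · rintro ⟨g, hg⟩
    refine ⟨(g.hom : M →ₗ[A] E.X i), Subtype.ext ?_⟩
    have := congrArg ModuleCat.Hom.hom hg
    exact this
  · rintro ⟨g, hg⟩
    refine ⟨ModuleCat.ofHom (g : M →ₗ[A] E.X i), ?_⟩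
    ext : 1
    exact congrArg Subtype.val hg

/-- **(L)**: `H^j(RHom(M, E)) ≅ Hom_D(M[-j], E)` -/
noncomputable def HDcEquiv (i j k : ℤ) (hij : i + 1 = j) (hjk : j + 1 = k) :
    (H A j).obj (DD E M) ≃ₗ[A] (Sg j M ⟶ QE E) :=
  (HtoDLinearEquiv' (Dc E M) i j k hij hjk).trans
    ((Submodule.quotEquivOfEq _ _ (ker_cycToHom E M i j k hij hjk).symm).trans
      (LinearMap.quotKerEquivOfSurjective _ (cycToHom_surjective E M j k hjk)))

end Lmain

end L

end Norm

end Groth.Agent.Lib.Helper18.DR
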