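import Mathlib
import Groth.Agent.Lib.Helper18.NormE

/-!
# The triangle `RHom(A/I, ω) → ω → Hom(I, E)` for an ideal of finite length (helper18)
-/

set_option autoImplicit false
set_option linter.style.haveILetI false
universe u
open CategoryTheory CategoryTheory.Limits CategoryTheory.Pretriangulated DerivedCategory

attribute [local instance] HasDerivedCategory.standard

namespace Groth.Agent.Lib.Helper18.DR

namespace Norm

open HomLoc HomBC Bid

section ddiso

variable {A : Type u} [CommRing A] (E : DRing.Cx A)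

/-- `RHom(-, E)` on isomorphisms -/
noncomputable def DDIso {M N : ModuleCat.{u} A} (e : M ≅ N) : DD E N ≅ DD E M :=
  DerivedCategory.Q.mapIso
    { hom := Dmap E e.hom
      inv := Dmap E e.inv
      hom_inv_id := by rw [← Dmap_comp, Iso.inv_hom_id, Dmap_id]
      inv_hom_id := by rw [← Dmap_comp, Iso.hom_inv_id, Dmap_id] }

end ddiso

section main

variable {A : Type u} [CommRing A] [IsLocalRing A] [IsNoetherianRing A]

/-- **S8945** -/
theorem exists_triangle_rightAdjoint_quotient_finiteLength (ω : Dual.D A)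
    (hω : Dual.IsDualizing A ω) (hn : Dual.IsNormalized A ω) (I : Ideal A)
    (hIl : IsFiniteLength A I) (E : Type u) [AddCommGroup E] [Module A E]
    (e : IsLocalRing.ResidueField A →ₗ[A] E) (he : InjHull.IsInjectiveHull e)
    (R : Dual.D A ⥤ Dual.D (A ⧸ I)) (adj : DRing.restrictD (Ideal.Quotient.mk I) ⊣ R) :
    ∃ (u : (DRing.restrictD (Ideal.Quotient.mk I)).obj (R.obj ω) ⟶ ω)
      (v : ω ⟶ Dual.inD A (I →ₗ[A] E))
      (w : Dual.inD A (I →ₗ[A] E) ⟶
        ((DRing.restrictD (Ideal.Quotient.mk I)).obj (R.obj ω))⟦(1 : ℤ)⟧),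
      Triangle.mk u v w ∈ distinguishedTriangles := by
  obtain ⟨a, b, hab⟩ := hω.finite_injective_dimension
  obtain ⟨J, hJv, hJinj, ⟨eJ⟩⟩ := ((injAmp_tfae ω a b).out 0 1).2 hab
  haveI : J.IsKInjective :=
    isKInjective_of_vanishesBelow J a (fun j hj => hJv j (Or.inl hj)) hJinj
  have hS := subSC_shortExact I
  let T := Bid.tri hJinj (subSC I) hS
  have hT : T ∈ distTriang (Dual.D A) := Bid.tri_distinguished hJinj (subSC I) hS
  -- first vertex
  let adj' : DRing.restrictD (algebraMap A (A ⧸ I)) ⊣ R := adj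
  let eB : ModuleCat.of A (A ⧸ I) ≅ BA (A := A) (B := A ⧸ I) :=
    (resBEquiv (A := A) (B := A ⧸ I)).symm.toModuleIso
  let i₁ : T.obj₁ ≅ (DRing.restrictD (Ideal.Quotient.mk I)).obj (R.obj ω) :=
    DDIso J eB.symm ≪≫ kappa R adj' ω eJ
  -- second vertex
  let u₂ : DD J (ModuleCat.of A A) ≅ QE J :=
    asIso (DerivedCategory.Q.map (evM J (1 : (ModuleCat.of A A : ModuleCat.{u} A))))
  let i₂ : T.obj₂ ≅ ω := u₂ ≪≫ eJ
  -- third vertex
  have hz : ∀ j : ℤ, j ≠ 0 → IsZero ((H A j).obj T.obj₃) := by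
    intro j hj
    haveI : Subsingleton (Sg j (ModuleCat.of A I) ⟶ QE J) := by
      apply (subsingleton_extD_iff (ModuleCat.of A I) (QE J) j).1
      haveI := subsingleton_hom_of_isFiniteLength ω hn j hj I hIl
      exact ⟨fun x y => by
        rw [← cancel_mono ((shiftFunctor (Dual.D A) j).map eJ.hom)]
        exact Subsingleton.elim _ _⟩
    haveI : Subsingleton ((H A j).obj T.obj₃) :=
      (HDcEquiv J (ModuleCat.of A I) (j - 1) j (j + 1) (by omega) rfl).injective.subsingleton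
    exact ModuleCat.isZero_of_subsingleton _
  haveI : T.obj₃.IsGE 0 := by
    rw [DerivedCategory.isGE_iff]
    exact fun i hi => hz i (by omega)
  haveI : T.obj₃.IsLE 0 := by
    rw [DerivedCategory.isLE_iff]
    exact fun i hi => hz i (by omega)
  obtain ⟨V, ⟨eV⟩⟩ := exists_iso_singleFunctor_obj_of_isGE_of_isLE T.obj₃ 0
  obtain ⟨Λ⟩ := (ext_finiteLength_normalized_dualizing ω hω hn E e he I hIl).2
  let eV' : V ≅ ModuleCat.of A (I →ₗ[A] E) :=
    ((HSg 0 V).symm ≪≫ (H A 0).mapIso eV.symm).toLinearEquiv.trans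
      ((HDcEquiv J (ModuleCat.of A I) (-1) 0 1 (by omega) (by omega)).trans
        ((Linear.homCongr A (Iso.refl _) eJ).trans Λ)) |>.toModuleIso
  let i₃ : T.obj₃ ≅ Dual.inD A (I →ₗ[A] E) :=
    eV ≪≫ (DerivedCategory.singleFunctor (ModuleCat.{u} A) 0).mapIso eV'
  refine ⟨i₁.inv ≫ T.mor₁ ≫ i₂.hom, i₂.inv ≫ T.mor₂ ≫ i₃.hom,
    i₃.inv ≫ T.mor₃ ≫ (shiftFunctor (Dual.D A) (1 : ℤ)).map i₁.hom, ?_⟩
  refine isomorphic_distinguished T hT _
    (Triangle.isoMk _ _ i₁.symm i₂.symm i₃.symm ?_ ?_ ?_)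
  · change (i₁.inv ≫ T.mor₁ ≫ i₂.hom) ≫ i₂.inv = i₁.inv ≫ T.mor₁
    rw [Category.assoc, Category.assoc, Iso.hom_inv_id, Category.comp_id]
  · change (i₂.inv ≫ T.mor₂ ≫ i₃.hom) ≫ i₃.inv = i₂.inv ≫ T.mor₂
    rw [Category.assoc, Category.assoc, Iso.hom_inv_id, Category.comp_id]
  · change (i₃.inv ≫ T.mor₃ ≫ (shiftFunctor (Dual.D A) (1 : ℤ)).map i₁.hom) ≫
      (shiftFunctor (Dual.D A) (1 : ℤ)).map i₁.inv = i₃.inv ≫ T.mor₃
    rw [Category.assoc, Category.assoc, ← Functor.map_comp, Iso.hom_inv_id,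
      CategoryTheory.Functor.map_id, Category.comp_id]

end main

end Norm

end Groth.Agent.Lib.Helper18.DR
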