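import Mathlib
import Groth.Agent.Lib.Helper18.NormF
import Groth.Agent.Lib.Helper18.Dev
import Groth.Agent.Lib.Helper18.MaxCrit4

/-!
# Uniqueness of dualizing complexes over a local ring, I: general lemmas (helper18)
-/

set_option autoImplicit false
set_option linter.style.haveILetI false
universe u
open CategoryTheory CategoryTheory.Limits CategoryTheory.Pretriangulated DerivedCategory

attribute [local instance] HasDerivedCategory.standard

namespace Groth.Agent.Lib.Helper18.DR

namespace Uniq

open HomLoc HomBC Bid MaxCrit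

section alg

variable {A : Type u} [CommRing A] [IsLocalRing A]

/-- Nakayama: a finite module on which some `x ∈ m` acts surjectively is zero -/
lemma subsingleton_of_forall_exists_smul (M : Type*) [AddCommGroup M] [Module A M]
    [Module.Finite A M] (x : A) (hx : x ∈ IsLocalRing.maximalIdeal A)
    (h : ∀ f : M, ∃ g : M, f = x • g) : Subsingleton M := by
  have hle : (⊤ : Submodule A M) ≤ (Ideal.span {x}) • (⊤ : Submodule A M) := by
    intro f _
    obtain ⟨g, rfl⟩ := h f
    exact Submodule.smul_mem_smul (Ideal.subset_span rfl) Submodule.mem_top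
  have hjac : Ideal.span {x} ≤ Ideal.jacobson ⊥ := by
    rw [IsLocalRing.jacobson_eq_maximalIdeal ⊥ bot_ne_top, Ideal.span_singleton_le_iff_mem]
    exact hx
  have h0 := Submodule.eq_bot_of_le_smul_of_le_jacobson_bot _ _ Module.Finite.fg_top hle hjac
  refine ⟨fun a b => ?_⟩
  have key : ∀ c : M, c = 0 := by
    intro c
    have hc : c ∈ (⊤ : Submodule A M) := Submodule.mem_top
    rw [h0] at hc
    exact (Submodule.mem_bot A).1 hc
  rw [key a, key b]

/-- a nonzero linear map between modules isomorphic to the residue field is bijective -/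
lemma bijective_of_ne_zero {V W : Type*} [AddCommGroup V] [Module A V] [AddCommGroup W]
    [Module A W] (eV : V ≃ₗ[A] IsLocalRing.ResidueField A)
    (eW : W ≃ₗ[A] IsLocalRing.ResidueField A) (f : V →ₗ[A] W) (hf : f ≠ 0) :
    Function.Bijective f := by
  let g : IsLocalRing.ResidueField A →ₗ[A] IsLocalRing.ResidueField A :=
    eW.toLinearMap ∘ₗ f ∘ₗ eV.symm.toLinearMap
  have hg : ∀ y : IsLocalRing.ResidueField A, g y = y * g 1 := by
    intro y
    obtain ⟨a, rfl⟩ := IsLocalRing.residue_surjective y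
    have h1 : (IsLocalRing.residue A a : IsLocalRing.ResidueField A) =
        a • (1 : IsLocalRing.ResidueField A) := by
      rw [Algebra.smul_def, mul_one]
      rfl
    rw [h1, map_smul, smul_mul_assoc, one_mul]
  have hc : g 1 ≠ 0 := by
    intro h0
    apply hf
    ext v
    have h2 := hg (eV v)
    rw [h0, mul_zero] at h2
    have h3 : eW (f v) = 0 := by
      have : g (eV v) = eW (f v) := by
        change eW (f (eV.symm (eV v))) = eW (f v)
        rw [LinearEquiv.symm_apply_apply]
      rw [← this, h2]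
    rw [LinearMap.zero_apply]
    exact eW.map_eq_zero_iff.1 h3
  have hbij : Function.Bijective g :=
    ⟨fun y z hyz => by
      rw [hg y, hg z] at hyz
      exact mul_right_cancel₀ hc hyz,
     fun z => ⟨z * (g 1)⁻¹, by rw [hg, mul_assoc, inv_mul_cancel₀ hc, mul_one]⟩⟩
  have hfg : (f : V → W) = eW.symm ∘ g ∘ eV := by
    funext v
    change f v = eW.symm (eW (f (eV.symm (eV v))))
    rw [LinearEquiv.symm_apply_apply, LinearEquiv.symm_apply_apply]
  rw [hfg]
  exact eW.symm.bijective.comp (hbij.comp eV.bijective)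

end alg

section fin

variable {A : Type u} [CommRing A] [IsNoetherianRing A]

/-- finite cohomology: two out of three -/
lemma finite_HD_obj₃ {T : Triangle (Dual.D A)} (hT : T ∈ distTriang (Dual.D A))
    (h₁ : ∀ i : ℤ, Module.Finite A (Dual.HD A T.obj₁ i))
    (h₂ : ∀ i : ℤ, Module.Finite A (Dual.HD A T.obj₂ i)) (i : ℤ) :
    Module.Finite A (Dual.HD A T.obj₃ i) := by
  have hex := HomologySequence.exact₃ T hT i (i + 1) rfl
  rw [ShortComplex.moduleCat_exact_iff_range_eq_ker] at hex
  haveI := h₁ (i + 1)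
  haveI := h₂ i
  haveI : IsNoetherian A ((H A i).obj T.obj₂) := isNoetherian_of_isNoetherianRing_of_finite A _
  haveI : IsNoetherian A ((H A (i + 1)).obj T.obj₁) :=
    isNoetherian_of_isNoetherianRing_of_finite A _
  haveI : IsNoetherian A ((H A i).obj T.obj₃) := isNoetherian_of_range_eq_ker _ _ hex
  exact Module.IsNoetherian.finite A _

end fin

section dd

variable {A : Type u} [CommRing A] (J : DRing.Cx A)

lemma Dmap_smul {M N : ModuleCat.{u} A} (a : A) (f : M ⟶ N) :
    Dmap J (a • f) = a • Dmap J f := by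
  ext i (g : N →ₗ[A] J.X i)
  change g ∘ₗ (a • f.hom) = a • (g ∘ₗ f.hom)
  rw [LinearMap.comp_smul]

lemma theta_smul (M : ModuleCat.{u} A) (a : A) (m : M) :
    Bid.theta J M (a • m) = a • Bid.theta J M m := by
  rw [Bid.theta_apply, Bid.theta_apply, evM_smul, Functor.map_smul, Linear.smul_comp]

/-- the biduality map, as a linear map -/
noncomputable def thetaL (M : ModuleCat.{u} A) : M →ₗ[A] (DD J M ⟶ (QE J)⟦(0 : ℤ)⟧) :=
  { toFun := Bid.theta J M
    map_add' := (Bid.theta J M).map_add
    map_smul' := fun a m => theta_smul J M a m }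

lemma isZero_DD_of_subsingleton (M : ModuleCat.{u} A) [Subsingleton M] : IsZero (DD J M) := by
  have h0 : IsZero (Dc J M) := by
    rw [IsZero.iff_id_eq_zero]
    ext i (g : M →ₗ[A] J.X i)
    change g = 0
    ext m
    rw [Subsingleton.elim m 0, map_zero, LinearMap.zero_apply]
  exact DerivedCategory.Q.map_isZero h0

end dd

section lemA

variable {A : Type u} [CommRing A] [IsLocalRing A] [IsNoetherianRing A]
  (J : DRing.Cx A) (hJinj : DRing.TermwiseInjective J)

lemma finite_HD_DD [J.IsKInjective] (a₀ : ℤ)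
    (hJa : ∀ i : ℤ, i < a₀ → Subsingleton (Dual.HD A (QE J) i))
    (hJfin : ∀ j : ℤ, Module.Finite A (Dual.HD A (QE J) j)) (M : ModuleCat.{u} A)
    [Module.Finite A M] (j : ℤ) : Module.Finite A (Dual.HD A (DD J M) j) := by
  haveI : (Sg j M).IsLE j := inferInstance
  haveI : Module.Finite A (Sg j M ⟶ QE J) :=
    finite_hom_of_isPseudoCoherent'_of_boundedBelow (Sg j M)
      (isPseudoCoherent'_Sg_of_finite M j) j (QE J) a₀ hJa hJfin
  exact Module.Finite.equiv (Norm.HDcEquiv J M (j - 1) j (j + 1) (by omega) rfl).symm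

include hJinj in
/-- **Lemma A**: vanishing of `Hom(RHom(N, J), W)` for all finite `N` follows from the case of the
residue field -/
theorem subsingleton_hom_DD (W : Dual.D A)
    (hfinW : ∀ (N : ModuleCat.{u} A) [Module.Finite A N], Module.Finite A (DD J N ⟶ W))
    (hκ : Subsingleton (DD J (ModuleCat.of A (A ⧸ IsLocalRing.maximalIdeal A)) ⟶ W))
    (N : Type u) [AddCommGroup N] [Module A N] [Module.Finite A N] :
    Subsingleton (DD J (ModuleCat.of A N) ⟶ W) := by
  refine Dev.devissage (A := A)
    (fun N _ _ => Subsingleton (DD J (ModuleCat.of A N) ⟶ W)) ?_ hκ ?_ ?_ N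
  · intro N _ _ _
    have hz := isZero_DD_of_subsingleton J (ModuleCat.of A N)
    exact ⟨fun f g => hz.eq_of_src f g⟩
  · intro N₁ _ _ _ N₂ _ _ _ N₃ _ _ _ f g hf hg hfg h₁ h₃
    let S : ShortComplex (ModuleCat.{u} A) :=
      ShortComplex.mk (ModuleCat.ofHom f) (ModuleCat.ofHom g) (by
        refine ModuleCat.hom_ext (LinearMap.ext fun p => ?_)
        exact hfg.apply_apply_eq_zero p)
    have hS : S.ShortExact := ModuleCat.shortComplex_shortExact _ hfg hf hg
    exact subsingleton_hom_obj₂ (tri hJinj S hS) (tri_distinguished hJinj S hS) W h₃ h₁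
  · intro p _ x hx hxp hq
    have hcol : ∀ r, r ∈ p ↔ r * x ∈ p := fun r =>
      ⟨fun hr => p.mul_mem_right x hr,
        fun hr => ((Ideal.IsPrime.mem_or_mem inferInstance hr)).resolve_right hxp⟩
    have hS := colonSC_shortExact p p x hcol
    let T := tri hJinj (colonSC p p x hcol) hS
    have hT : T ∈ distTriang (Dual.D A) := tri_distinguished hJinj _ hS
    haveI : Module.Finite A (A ⧸ p) := Module.Finite.of_surjective (Submodule.mkQ p)
      (Submodule.mkQ_surjective p)
    haveI := hfinW (ModuleCat.of A (A ⧸ p))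
    refine subsingleton_of_forall_exists_smul _ x hx (fun φ => ?_)
    have h0 : T.mor₁ ≫ φ = 0 := hq.elim _ _
    have h1 : ModuleCat.ofHom (mulQ p p x hcol) = x • 𝟙 (ModuleCat.of A (A ⧸ p)) := by
      apply ModuleCat.hom_ext
      apply LinearMap.ext
      intro y
      obtain ⟨r, rfl⟩ := Submodule.Quotient.mk_surjective _ y
      change mulQ p p x hcol (Submodule.Quotient.mk r) = x • (Submodule.Quotient.mk r : A ⧸ p)
      rw [mulQ_mk, ← Submodule.Quotient.mk_smul, smul_eq_mul, mul_comm]
    have h2 : T.mor₂ = x • 𝟙 (DD J (ModuleCat.of A (A ⧸ p))) := by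
      change DerivedCategory.Q.map (Dmap J (ModuleCat.ofHom (mulQ p p x hcol))) = _
      rw [h1, Dmap_smul, Dmap_id, Functor.map_smul, CategoryTheory.Functor.map_id]
    obtain ⟨ψ, hψ⟩ : ∃ ψ : DD J (ModuleCat.of A (A ⧸ p)) ⟶ W,
        φ = (x • 𝟙 (DD J (ModuleCat.of A (A ⧸ p)))) ≫ ψ := by
      obtain ⟨ψ, hψ⟩ := Triangle.yoneda_exact₂ T hT φ h0
      exact ⟨ψ, hψ.trans (congrArg (fun t : DD J (ModuleCat.of A (A ⧸ p)) ⟶
        DD J (ModuleCat.of A (A ⧸ p)) => t ≫ ψ) h2)⟩
    refine ⟨ψ, ?_⟩
    rw [hψ, Linear.smul_comp, Category.id_comp]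

end lemA

end Uniq

end Groth.Agent.Lib.Helper18.DR
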