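import Mathlib
import Groth.Agent.Lib.Helper18.UniqA

/-!
# Uniqueness of dualizing complexes over a local ring, II: detecting isomorphisms on the residue
field (helper18)
-/

set_option autoImplicit false
set_option linter.style.haveILetI false
universe u
open CategoryTheory CategoryTheory.Limits CategoryTheory.Pretriangulated DerivedCategory

attribute [local instance] HasDerivedCategory.standard

namespace Groth.Agent.Lib.Helper18.DR

namespace Uniq

open HomLoc HomBC Bid MaxCrit

section tri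

variable {C : Type*} [Category C] [Preadditive C] [HasZeroObject C] [HasShift C ℤ]
  [∀ n : ℤ, (shiftFunctor C n).Additive] [Pretriangulated C]

/-- the long exact sequence of `Hom(P, -)`: vanishing at the third vertex -/
lemma subsingleton_hom_obj₃_shift (T : Triangle C) (hT : T ∈ distTriang C) (P : C) (n : ℤ)
    (hsurj : Function.Surjective (fun f : P ⟶ T.obj₁⟦n⟧ => f ≫ T.mor₁⟦n⟧'))
    (hinj : Function.Injective (fun f : P ⟶ T.obj₁⟦n + 1⟧ => f ≫ T.mor₁⟦n + 1⟧')) :
    Subsingleton (P ⟶ T.obj₃⟦n⟧) := by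
  let F : C ⥤ AddCommGrpCat := preadditiveCoyoneda.obj (Opposite.op P)
  letI : F.ShiftSequence ℤ := Functor.ShiftSequence.tautological F ℤ
  have h1 : Epi ((F.shift n).map T.mor₁) := by
    rw [AddCommGrpCat.epi_iff_surjective]
    exact hsurj
  have h2 : Mono ((F.shift (n + 1)).map T.mor₁) := by
    rw [AddCommGrpCat.mono_iff_injective]
    exact hinj
  have hz : IsZero ((F.shift n).obj T.obj₃) :=
    (F.homologySequence_exact₃ T hT n (n + 1) rfl).isZero_X₂
      ((F.homologySequence_epi_shift_map_mor₁_iff T hT n).1 h1)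
      ((F.homologySequence_mono_shift_map_mor₁_iff T hT n (n + 1) rfl).1 h2)
  have hs : Subsingleton ((F.shift n).obj T.obj₃) := AddCommGrpCat.subsingleton_of_isZero hz
  exact hs

end tri

section loc

variable {A : Type u} [CommRing A] [IsLocalRing A] [IsNoetherianRing A]

/-- the residue field `A ⧸ m` as an object of `ModuleCat A` -/
noncomputable abbrev kap (A : Type u) [CommRing A] [IsLocalRing A] : ModuleCat.{u} A :=
  ModuleCat.of A (A ⧸ IsLocalRing.maximalIdeal A)

/-- **Lemma C**: a bounded below complex with finite cohomology and no maps from the residue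
field is zero -/
theorem isZero_of_subsingleton_hom_residue (K : Dual.D A) (a₀ : ℤ) [K.IsGE a₀]
    (hfin : ∀ j : ℤ, Module.Finite A (Dual.HD A K j))
    (hκ : ∀ i : ℤ, Subsingleton (Sg 0 (kap A) ⟶ K⟦i⟧)) : IsZero K := by
  have hH : ∀ i : ℤ, IsZero ((H A i).obj K) := by
    intro i
    have h1 : Subsingleton (Sg 0 (ModuleCat.of A (A ⧸ (⊥ : Ideal A))) ⟶ K⟦i⟧) :=
      van_all K (i - 1) a₀ hfin (fun m hm => by
        obtain rfl := IsLocalRing.eq_maximalIdeal hm
        exact fun j _ => hκ j) ⊥ i (by omega)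
    let e : ModuleCat.of A (A ⧸ (⊥ : Ideal A)) ≅ ModuleCat.of A A :=
      (Submodule.quotEquivOfEqBot (⊥ : Submodule A A) rfl).toModuleIso
    have h2 : Subsingleton (Sg 0 (ModuleCat.of A A) ⟶ K⟦i⟧) := ⟨fun x y => by
      rw [← cancel_epi ((singleFunctor (ModuleCat.{u} A) 0).map e.hom)]
      exact h1.elim _ _⟩
    exact isZero_H_of_subsingleton_hom K i ((subsingleton_extD_iff _ K i).1 h2)
  haveI : K.IsLE (a₀ - 1) := by
    rw [DerivedCategory.isLE_iff]
    exact fun i _ => hH i
  exact TStructure.t.isZero K (a₀ - 1) a₀ (by omega)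

/-- **Lemma D**: a map of bounded below complexes with finite cohomology inducing bijections on
`Ext^n(κ, -)` is an isomorphism -/
theorem isIso_of_bijective_comp_residue {X Y : Dual.D A} (g : X ⟶ Y) (a₀ : ℤ) [X.IsGE a₀]
    [Y.IsGE a₀] (hX : ∀ j : ℤ, Module.Finite A (Dual.HD A X j))
    (hY : ∀ j : ℤ, Module.Finite A (Dual.HD A Y j))
    (hbij : ∀ n : ℤ, Function.Bijective (fun f : Sg 0 (kap A) ⟶ X⟦n⟧ => f ≫ g⟦n⟧')) :
    IsIso g := by
  obtain ⟨C, h, k, hT⟩ := distinguished_cocone_triangle g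
  haveI : X.IsGE (a₀ - 1 + 1) := TStructure.t.isGE_of_ge X (a₀ - 1 + 1) a₀ (by omega)
  haveI : Y.IsGE (a₀ - 1) := TStructure.t.isGE_of_ge Y (a₀ - 1) a₀ (by omega)
  haveI : C.IsGE (a₀ - 1) := isGE_obj₃ hT (a₀ - 1)
    (by change X.IsGE (a₀ - 1 + 1); infer_instance) (by change Y.IsGE (a₀ - 1); infer_instance)
  have hz : IsZero C := isZero_of_subsingleton_hom_residue C (a₀ - 1)
    (finite_HD_obj₃ hT hX hY)
    (fun i => subsingleton_hom_obj₃_shift (Triangle.mk g h k) hT _ i (hbij i).2 (hbij (i + 1)).1)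
  exact (Triangle.isZero₃_iff_isIso₁ (Triangle.mk g h k) hT).1 hz

end loc

section base

variable {A : Type u} [CommRing A] (J : DRing.Cx A) [J.IsKInjective]

/-- if `Ext^i(M, J) = 0` for `i ≠ 0` then `RHom(M, J)` is the module `Hom_D(M, J)` in degree 0 -/
theorem exists_iso_Sg_DD (M : ModuleCat.{u} A)
    (hvan : ∀ i : ℤ, i ≠ 0 → Subsingleton (Sg i M ⟶ QE J)) :
    ∃ (V : ModuleCat.{u} A) (_ : DD J M ≅ Sg 0 V), Nonempty (V ≃ₗ[A] (Sg 0 M ⟶ QE J)) := by
  have hz : ∀ j : ℤ, j ≠ 0 → IsZero ((H A j).obj (DD J M)) := by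
    intro j hj
    haveI := hvan j hj
    haveI : Subsingleton ((H A j).obj (DD J M)) :=
      (Norm.HDcEquiv J M (j - 1) j (j + 1) (by omega) rfl).injective.subsingleton
    exact ModuleCat.isZero_of_subsingleton _
  haveI : (DD J M).IsGE 0 := by
    rw [DerivedCategory.isGE_iff]
    exact fun i hi => hz i (by omega)
  haveI : (DD J M).IsLE 0 := by
    rw [DerivedCategory.isLE_iff]
    exact fun i hi => hz i (by omega)
  obtain ⟨V, ⟨eV⟩⟩ := exists_iso_singleFunctor_obj_of_isGE_of_isLE (DD J M) 0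
  exact ⟨V, eV, ⟨((HSg 0 V).symm ≪≫ (H A 0).mapIso eV.symm).toLinearEquiv.trans
    (Norm.HDcEquiv J M (-1) 0 1 (by omega) (by omega))⟩⟩

end base

section conv

variable {A : Type u} [CommRing A] [IsLocalRing A]

/-- `κ[0]` for the two incarnations of the residue field -/
noncomputable def kapIso : Sg 0 (kap A) ≅ Dual.inD A (IsLocalRing.ResidueField A) :=
  (DerivedCategory.singleFunctor (ModuleCat.{u} A) 0).mapIso
    (Groth.Agent.Lib.Helper1.Matlis.quotEquivResidueField (R := A)).toModuleIso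

lemma subsingleton_hom_kap_shift (ω : Dual.D A) (i : ℤ)
    (h : Subsingleton (Dual.inD A (IsLocalRing.ResidueField A) ⟶ ω⟦i⟧)) :
    Subsingleton (Sg 0 (kap A) ⟶ ω⟦i⟧) :=
  ⟨fun x y => by
    rw [← cancel_epi (kapIso (A := A)).inv]
    exact h.elim _ _⟩

lemma subsingleton_hom_Sg_kap (J : DRing.Cx A) (ω : Dual.D A) (eJ : QE J ≅ ω) (i : ℤ)
    (h : Subsingleton (Dual.inD A (IsLocalRing.ResidueField A) ⟶ ω⟦i⟧)) :
    Subsingleton (Sg i (kap A) ⟶ QE J) := by
  apply (subsingleton_extD_iff (kap A) (QE J) i).1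
  haveI := subsingleton_hom_kap_shift ω i h
  exact ⟨fun x y => by
    rw [← cancel_mono ((shiftFunctor (Dual.D A) i).map eJ.hom)]
    exact Subsingleton.elim _ _⟩

end conv

end Uniq

end Groth.Agent.Lib.Helper18.DR
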