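import Mathlib
import Groth.Agent.Lib.Helper18.UniqB
import Groth.Agent.Lib.Helper18.InvTwistA

/-!
# Uniqueness of dualizing complexes over a local ring, III (helper18)
-/

set_option autoImplicit false
set_option linter.style.haveILetI false
universe u
open CategoryTheory CategoryTheory.Limits CategoryTheory.Pretriangulated DerivedCategory

attribute [local instance] HasDerivedCategory.standard

namespace Groth.Agent.Lib.Helper18.DR

namespace Uniq

open HomLoc HomBC Bid MaxCrit Norm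

variable {A : Type u} [CommRing A] [IsLocalRing A] [IsNoetherianRing A]

/-- two normalized dualizing complexes over a Noetherian local ring are isomorphic -/
theorem nonempty_iso_of_normalized (ω ω' : Dual.D A) (hω : Dual.IsDualizing A ω)
    (hω' : Dual.IsDualizing A ω') (hn : Dual.IsNormalized A ω) (hn' : Dual.IsNormalized A ω') :
    Nonempty (ω ≅ ω') := by
  obtain ⟨a, b, hab⟩ := hω.finite_injective_dimension
  obtain ⟨a', b', hab'⟩ := hω'.finite_injective_dimension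
  obtain ⟨J, hJv, hJinj, ⟨eJ⟩⟩ := ((injAmp_tfae ω a b).out 0 1).2 hab
  haveI : J.IsKInjective :=
    isKInjective_of_vanishesBelow J a (fun j hj => hJv j (Or.inl hj)) hJinj
  have hfid : FidIn ω a b := hab
  have hfid' : FidIn ω' a' b' := hab'
  haveI := hfid.isGE
  haveI := hfid'.isGE
  haveI : (QE J).IsGE a := TStructure.t.isGE_of_iso eJ.symm a
  have hJa : ∀ i : ℤ, i < a → Subsingleton (Dual.HD A (QE J) i) := fun i hi =>
    ModuleCat.subsingleton_of_isZero (isZero_of_isGE (QE J) a i hi)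
  have hJfin : ∀ j : ℤ, Module.Finite A (Dual.HD A (QE J) j) := fun j => by
    haveI := hω.finite_cohomology j
    exact Module.Finite.equiv ((H A j).mapIso eJ).toLinearEquiv.symm
  -- the dual of the residue field
  have hvanJ : ∀ i : ℤ, i ≠ 0 → Subsingleton (Sg i (kap A) ⟶ QE J) := fun i hi =>
    subsingleton_hom_Sg_kap J ω eJ i (hn i hi)
  obtain ⟨V, e, ⟨eV⟩⟩ := exists_iso_Sg_DD J (kap A) hvanJ
  obtain ⟨Lω⟩ := nonempty_linearEquiv_hom_residueField ω hω hn
  obtain ⟨Lω'⟩ := nonempty_linearEquiv_hom_residueField ω' hω' hn'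
  let eVκ : V ≃ₗ[A] IsLocalRing.ResidueField A :=
    eV.trans ((Linear.homCongr A (kapIso (A := A)) eJ).trans Lω)
  let i₁ : DD J (kap A) ≅ Dual.inD A (IsLocalRing.ResidueField A) :=
    e ≪≫ (DerivedCategory.singleFunctor (ModuleCat.{u} A) 0).mapIso eVκ.toModuleIso
  -- Step A
  have hfidω' : DRing.HasFiniteInjDim A ω' :=
    (hasFiniteInjDim_iff ω').2 hω'.finite_injective_dimension
  have stepA : ∀ (n : ℤ), n ≠ 0 → ∀ (N : Type u) [AddCommGroup N] [Module A N]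
      [Module.Finite A N], Subsingleton (DD J (ModuleCat.of A N) ⟶ ω'⟦n⟧) := by
    intro n hn0 N _ _ _
    refine subsingleton_hom_DD J hJinj (ω'⟦n⟧) (fun N' _ =>
      finite_hom_shift_of_finiteInjDim (DD J N') ω' (finite_HD_DD J a hJa hJfin N')
        hω'.finite_cohomology hfidω' n) ?_ N
    haveI := hn' n hn0
    exact ⟨fun x y => by
      rw [← cancel_epi i₁.inv]
      exact Subsingleton.elim _ _⟩
  -- Step B
  let ξ : Dual.inD A (IsLocalRing.ResidueField A) ⟶ ω' := Lω'.symm 1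
  have hξ : ξ ≠ 0 := by
    intro h
    have h1 : Lω' ξ = 1 := Lω'.apply_symm_apply 1
    rw [h, map_zero] at h1
    exact zero_ne_one h1
  let φ₀ : DD J (kap A) ⟶ ω' := i₁.hom ≫ ξ
  have hφ₀ : φ₀ ≠ 0 := by
    intro h
    apply hξ
    rw [← cancel_epi i₁.hom, comp_zero]
    exact h
  have hS := subSC_shortExact (IsLocalRing.maximalIdeal A)
  let d₁ : DD J (kap A) ⟶ DD J (ModuleCat.of A A) :=
    DerivedCategory.Q.map (Dmap J (ModuleCat.ofHom (IsLocalRing.maximalIdeal A).mkQ))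
  obtain ⟨g₀, hg₀⟩ : ∃ g₀ : DD J (ModuleCat.of A A) ⟶ ω', φ₀ = d₁ ≫ g₀ := by
    have hT := tri_distinguished hJinj (subSC (IsLocalRing.maximalIdeal A)) hS
    have h₃ : Subsingleton ((tri hJinj (subSC (IsLocalRing.maximalIdeal A)) hS).obj₃ ⟶
        ω'⟦(1 : ℤ)⟧) := stepA 1 one_ne_zero (IsLocalRing.maximalIdeal A)
    exact exists_of_subsingleton_hom_obj₃ _ hT ω' (ω'⟦(1 : ℤ)⟧) (Iso.refl _) h₃ φ₀
  -- Step C
  let u₂ : DD J (ModuleCat.of A A) ≅ QE J :=
    asIso (DerivedCategory.Q.map (evM J (1 : (ModuleCat.of A A : ModuleCat.{u} A))))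
  let g : ω ⟶ ω' := eJ.inv ≫ u₂.inv ≫ g₀
  let a₀ : ℤ := min a a'
  haveI : ω.IsGE a₀ := TStructure.t.isGE_of_ge ω a₀ a (min_le_left _ _)
  haveI : ω'.IsGE a₀ := TStructure.t.isGE_of_ge ω' a₀ a' (min_le_right _ _)
  haveI : IsIso g := by
    refine isIso_of_bijective_comp_residue g a₀ hω.finite_cohomology hω'.finite_cohomology ?_
    intro n
    by_cases hn0 : n = 0
    · subst hn0
      let s := shiftFunctorZero (Dual.D A) ℤ
      let L : (Sg 0 (kap A) ⟶ ω⟦(0 : ℤ)⟧) →ₗ[A] (Sg 0 (kap A) ⟶ ω'⟦(0 : ℤ)⟧) :=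
        Linear.rightComp A (Sg 0 (kap A)) (g⟦(0 : ℤ)⟧')
      let E₁ : (Sg 0 (kap A) ⟶ ω⟦(0 : ℤ)⟧) ≃ₗ[A] IsLocalRing.ResidueField A :=
        (Linear.homCongr A (kapIso (A := A)) (s.app ω)).trans Lω
      let E₂ : (Sg 0 (kap A) ⟶ ω'⟦(0 : ℤ)⟧) ≃ₗ[A] IsLocalRing.ResidueField A :=
        (Linear.homCongr A (kapIso (A := A)) (s.app ω')).trans Lω'
      have hL : L ≠ 0 := by
        intro hL0
        apply hφ₀
        let ζ : Sg 0 (kap A) ⟶ ω⟦(0 : ℤ)⟧ :=
          (kapIso (A := A)).hom ≫ i₁.inv ≫ d₁ ≫ u₂.hom ≫ eJ.hom ≫ s.inv.app ω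
        have h1 : L ζ = 0 := by rw [hL0, LinearMap.zero_apply]
        have h2 : L ζ = (kapIso (A := A)).hom ≫ i₁.inv ≫ φ₀ ≫ s.inv.app ω' := by
          change ((kapIso (A := A)).hom ≫ i₁.inv ≫ d₁ ≫ u₂.hom ≫ eJ.hom ≫ s.inv.app ω) ≫
            g⟦(0 : ℤ)⟧' = _
          have hnat : s.inv.app ω ≫ g⟦(0 : ℤ)⟧' = g ≫ s.inv.app ω' :=
            (s.inv.naturality g).symm
          simp only [Category.assoc]
          rw [hnat, hg₀]
          change _ ≫ _ ≫ _ ≫ _ ≫ _ ≫ (eJ.inv ≫ u₂.inv ≫ g₀) ≫ _ = _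
          simp only [Category.assoc, Iso.hom_inv_id_assoc]
        rw [h2] at h1
        have h3 := (cancel_epi (kapIso (A := A)).hom).1 (h1.trans comp_zero.symm)
        have h4 := (cancel_epi i₁.inv).1 (h3.trans comp_zero.symm)
        exact (cancel_mono (s.inv.app ω')).1 (h4.trans zero_comp.symm)
      exact bijective_of_ne_zero E₁ E₂ L hL
    · haveI h1 := subsingleton_hom_kap_shift ω n (hn n hn0)
      haveI h2 := subsingleton_hom_kap_shift ω' n (hn' n hn0)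
      exact ⟨fun x y _ => Subsingleton.elim _ _, fun y => ⟨0, Subsingleton.elim _ _⟩⟩
  exact ⟨asIso g⟩

/-- some shift of a dualizing complex over a local ring is normalized -/
theorem exists_isNormalized_shift (ω : Dual.D A) (hω : Dual.IsDualizing A ω) :
    ∃ n : ℤ, Dual.IsNormalized A (ω⟦n⟧) := by
  obtain ⟨n, hn, -⟩ := exists_degree_residueField ω hω (IsLocalRing.maximalIdeal A)
  refine ⟨n, fun i hi => ?_⟩
  haveI := hn (n + i) (by omega)
  let c : (ω⟦n⟧)⟦i⟧ ≅ ω⟦n + i⟧ := ((shiftFunctorAdd' (Dual.D A) n i (n + i) rfl).app ω).symm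
  refine ⟨fun x y => ?_⟩
  rw [← cancel_mono c.hom, ← cancel_epi (kapIso (A := A)).hom]
  exact Subsingleton.elim _ _

/-- **S1747** -/
theorem exists_shift_iso (ω ω' : Dual.D A) (hω : Dual.IsDualizing A ω)
    (hω' : Dual.IsDualizing A ω') : ∃ n : ℤ, Nonempty (ω' ≅ ω⟦n⟧) := by
  obtain ⟨n, hn⟩ := exists_isNormalized_shift ω hω
  obtain ⟨n', hn'⟩ := exists_isNormalized_shift ω' hω'
  obtain ⟨e⟩ := nonempty_iso_of_normalized (ω⟦n⟧) (ω'⟦n'⟧) (InvTwist.isDualizing_shift ω hω n)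
    (InvTwist.isDualizing_shift ω' hω' n') hn hn'
  refine ⟨n - n', ⟨?_⟩⟩
  exact ((shiftFunctorCompIsoId (Dual.D A) n' (-n') (by omega)).app ω').symm ≪≫
    (shiftFunctor (Dual.D A) (-n')).mapIso e.symm ≪≫
    ((shiftFunctorAdd' (Dual.D A) n (-n') (n - n') (by omega)).app ω).symm

end Uniq

end Groth.Agent.Lib.Helper18.DR
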