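import Mathlib
import Groth.Agent.Lib.Helper18.KProjD
import Groth.Agent.Lib.Helper18.DRExt3
import Groth.Agent.Lib.Helper18.DRFin

/-!
# Pseudo-coherence and nilpotent thickenings (helper18)
-/

set_option autoImplicit false
set_option linter.style.haveILetI false
universe u
open CategoryTheory CategoryTheory.Limits CategoryTheory.Pretriangulated DerivedCategory
open TensorProduct MonoidalCategory

attribute [local instance] HasDerivedCategory.standard

namespace Groth.Agent.Lib.Helper18.DR

/-! ## Boundedness -/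

theorem isZero_H_mapHC_of_isLE_kproj {A B : Type u} [CommRing A] [CommRing B]
    (Φ : ModuleCat.{u} A ⥤ ModuleCat.{u} B) [Φ.Additive] (G : DRing.Cx A) [G.IsKProjective]
    (b : ℤ) [(DRing.toD G).IsLE b] (j : ℤ) (hj : b < j) :
    IsZero ((H B j).obj (DRing.toD ((Φ.mapHomologicalComplex (ComplexShape.up ℤ)).obj G))) := by
  obtain ⟨E, hEb, hEfree, ⟨eE⟩⟩ := exists_free_resolution (DRing.toD G) b
  have hEproj : ∀ i, Module.Projective A (E.X i) := fun i => by
    haveI := hEfree i; exact Module.Projective.of_free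
  haveI : E.IsKProjective := isKProjective_of_vanishesAbove E b hEb hEproj
  obtain ⟨f, hf⟩ := exists_map_eq E G eE.hom
  have hiso : IsIso (DerivedCategory.Q.map f) := by rw [hf]; infer_instance
  haveI := isIso_Q_map_mapHC_of_isKProjective Φ f hiso
  haveI : (DRing.toD ((Φ.mapHomologicalComplex (ComplexShape.up ℤ)).obj E)).IsLE b :=
    isLE_toD_of_vanishesAbove _ b (vanishesAbove_mapHC Φ E b hEb)
  have h1 : IsZero ((H B j).obj (DRing.toD
      ((Φ.mapHomologicalComplex (ComplexShape.up ℤ)).obj E))) :=
    DerivedCategory.isZero_of_isLE _ b j hj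
  exact h1.of_iso ((H B j).mapIso (asIso (DerivedCategory.Q.map
    ((Φ.mapHomologicalComplex (ComplexShape.up ℤ)).map f))).symm)

/-- derived Nakayama for nilpotent thickenings: boundedness above descends -/
theorem isLE_of_LBaseChange_nilpotent {R' R : Type u} [CommRing R'] [CommRing R]
    (φ : R' →+* R) (hφ : Function.Surjective φ) (hnil : IsNilpotent (RingHom.ker φ))
    [DRing.HasLBaseChange φ] (K' : Dual.D R') (b : ℤ)
    (h : ((DRing.LBaseChange φ).obj K').IsLE b) : K'.IsLE b := by
  letI : Algebra R' R := φ.toAlgebra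
  obtain ⟨P, hPK, hPproj, ⟨eP⟩⟩ := exists_kprojective_resolution K'
  haveI := hPK
  haveI hPRK : CochainComplex.IsKProjective (((extM (A := R') (B := R)).mapHomologicalComplex
      (ComplexShape.up ℤ)).obj P) := isKProjective_extendScalars φ P
  haveI hLE : (DRing.toD
      (((extM (A := R') (B := R)).mapHomologicalComplex (ComplexShape.up ℤ)).obj P)).IsLE b :=
    TStructure.t.isLE_of_iso ((DRing.LBaseChange φ).mapIso eP.symm ≪≫ LBaseChangeIso φ P) b
  have hN : ∀ (i j k : ℤ), i + 1 = j → j + 1 = k → b < j →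
      ∀ (N : Type u) [AddCommGroup N] [Module R N] [Module R' N] [IsScalarTower R' R N],
      Function.Exact ((P.d i j).hom.lTensor N) ((P.d j k).hom.lTensor N) := by
    intro i j k hij hjk hj N _ _ _ _
    apply lTensor_exact_of_extM_module (S := R) N
    rw [← (tensorLike_tensorRight (ModuleCat.of R N)).exact_iff]
    have h1 := isZero_H_mapHC_of_isLE_kproj (tensorRight (ModuleCat.of R N))
      (((extM (A := R') (B := R)).mapHomologicalComplex (ComplexShape.up ℤ)).obj P) b j hj
    exact (isZero_H_toD_iff _ i j k hij hjk).mp h1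
  have hM : ∀ (M : Type u) [AddCommGroup M] [Module R' M] (i j k : ℤ), i + 1 = j → j + 1 = k →
      b < j →
      Function.Exact ((P.d i j).hom.lTensor M) ((P.d j k).hom.lTensor M) := by
    intro M _ _ i j k hij hjk hj
    haveI : Module.Flat R' (P.X k) := by haveI := hPproj k; infer_instance
    exact exact_lTensor_of_nilpotent_ker hφ hnil (P.d i j).hom (P.d j k).hom
      (d_comp_d_hom P i j k) (fun N _ _ _ _ => hN i j k hij hjk hj N) M
  have hH : ∀ j : ℤ, b < j → IsZero ((H R' j).obj (DRing.toD P)) := fun j hj => by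
    rw [isZero_H_toD_iff P (j - 1) j (j + 1) (by omega) rfl]
    exact exact_of_exact_lTensor_self _ _ (hM R' (j - 1) j (j + 1) (by omega) rfl hj)
  haveI : (DRing.toD P).IsLE b := by
    rw [DerivedCategory.isLE_iff]; intro i hi; exact hH i hi
  exact TStructure.t.isLE_of_iso eP b

/-! ## Nakayama for nilpotent ideals -/

lemma eq_top_of_sup_smul_of_nilpotent {A : Type u} [CommRing A] (I : Ideal A)
    (hI : IsNilpotent I) {M : Type u} [AddCommGroup M] [Module A M] (N : Submodule A M)
    (h : (⊤ : Submodule A M) ≤ N ⊔ I • (⊤ : Submodule A M)) : N = ⊤ := by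
  obtain ⟨n, hn⟩ := hI
  have key : ∀ k : ℕ, (⊤ : Submodule A M) ≤ N ⊔ I ^ k • (⊤ : Submodule A M) := by
    intro k
    induction k with
    | zero =>
      rw [pow_zero, Ideal.one_eq_top, Submodule.top_smul]
      exact le_sup_right
    | succ k ih =>
      calc (⊤ : Submodule A M) ≤ N ⊔ I • (⊤ : Submodule A M) := h
        _ ≤ N ⊔ I • (N ⊔ I ^ k • (⊤ : Submodule A M)) :=
          sup_le_sup_left (smul_mono_right I ih) N
        _ = N ⊔ (I • N ⊔ I • (I ^ k • (⊤ : Submodule A M))) := by rw [Submodule.smul_sup]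
        _ ≤ N ⊔ I ^ (k + 1) • (⊤ : Submodule A M) := by
          refine sup_le le_sup_left (sup_le (le_trans Submodule.smul_le_right le_sup_left) ?_)
          rw [← Submodule.smul_assoc, Ideal.smul_eq_mul, ← pow_succ']
          exact le_sup_right
  have h1 := key n
  rw [hn, Ideal.zero_eq_bot, Submodule.bot_smul, sup_bot_eq] at h1
  exact top_le_iff.mp h1

section gens

variable {A B : Type u} [CommRing A] [CommRing B] [Algebra A B]

lemma exists_gens_of_tensor_gens (hsurj : Function.Surjective (algebraMap A B))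
    (hnil : IsNilpotent (RingHom.ker (algebraMap A B)))
    {X Y : Type u} [AddCommGroup X] [Module A X] [AddCommGroup Y] [Module A Y] (d : X →ₗ[A] Y)
    (r : ℕ) (w : Fin r → B ⊗[A] Y)
    (hw : ∀ y : Y, ∃ (c : Fin r → B) (t : B ⊗[A] X),
      (1 : B) ⊗ₜ[A] y = ∑ i, c i • w i + (d.lTensor B) t) :
    ∃ x : Fin r → Y, ∀ y : Y, ∃ (c : Fin r → A) (z : X), y = ∑ i, c i • x i + d z := by
  choose x hx using fun i => mk_one_surjective hsurj Y (w i)
  refine ⟨x, ?_⟩
  have hN : Submodule.span A (Set.range x) ⊔ LinearMap.range d = ⊤ := by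
    apply eq_top_of_sup_smul_of_nilpotent _ hnil
    intro y _
    obtain ⟨c, t, hct⟩ := hw y
    choose c' hc' using fun i => hsurj (c i)
    obtain ⟨v, hv⟩ := mk_one_surjective hsurj X t
    have e1 : ∀ i, (1 : B) ⊗ₜ[A] (c' i • x i) = c i • w i := by
      intro i
      rw [← hx i, ← hc' i, TensorProduct.mk_apply, TensorProduct.tmul_smul, algebraMap_smul]
    have e2 : (1 : B) ⊗ₜ[A] (d v) = (d.lTensor B) t := by
      rw [← hv, TensorProduct.mk_apply, LinearMap.lTensor_tmul]
    have h1 : (1 : B) ⊗ₜ[A] (y - (∑ i, c' i • x i + d v)) = 0 := by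
      rw [TensorProduct.tmul_sub, hct, TensorProduct.tmul_add, TensorProduct.tmul_sum]
      simp only [e1, e2, sub_self]
    have h2 := (mk_one_eq_zero_iff hsurj Y _).mp h1
    rw [Submodule.mem_sup]
    refine ⟨∑ i, c' i • x i + d v, ?_, y - (∑ i, c' i • x i + d v), h2, by abel⟩
    exact Submodule.add_mem_sup
      (Submodule.sum_mem _ fun i _ => Submodule.smul_mem _ _ (Submodule.subset_span ⟨i, rfl⟩))
      ⟨v, rfl⟩
  intro y
  have hy : y ∈ Submodule.span A (Set.range x) ⊔ LinearMap.range d := hN ▸ Submodule.mem_top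
  obtain ⟨a, ha, b, hb, hab⟩ := Submodule.mem_sup.mp hy
  obtain ⟨c, hc⟩ := (Submodule.mem_span_range_iff_exists_fun A).mp ha
  obtain ⟨z, hz⟩ := hb
  exact ⟨c, z, by rw [hc, hz, hab]⟩

/-- extension of scalars of a complex -/
noncomputable abbrev extCx (E : DRing.Cx A) : DRing.Cx B :=
  ((extM (A := A) (B := B)).mapHomologicalComplex (ComplexShape.up ℤ)).obj E

/-- the terms of the extension of scalars of a complex -/
noncomputable def extCxXEquiv (E : DRing.Cx A) (i : ℤ) :
    (extCx (B := B) E).X i ≃ₗ[B] B ⊗[A] E.X i :=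
  extMEquiv (B := B) (E.X i)

lemma extCxXEquiv_d (E : DRing.Cx A) (i j : ℤ) (v : (extCx (B := B) E).X i) :
    extCxXEquiv (B := B) E j (((extCx (B := B) E).d i j).hom v) =
      ((E.d i j).hom.lTensor B) (extCxXEquiv (B := B) E i v) :=
  extMEquiv_naturality (E.d i j) v

theorem exists_gens_of_finite_H_ext (hsurj : Function.Surjective (algebraMap A B))
    (hnil : IsNilpotent (RingHom.ker (algebraMap A B))) (E : DRing.Cx A) (n : ℤ)
    (hE : IsZero (E.X (n + 1)))
    (hfin : Module.Finite B ((H B n).obj (DRing.toD (extCx (B := B) E)))) :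
    ∃ (r : ℕ) (x : Fin r → E.X n), ∀ y : E.X n, ∃ (c : Fin r → A) (z : E.X (n - 1)),
      y = ∑ i, c i • x i + (E.d (n - 1) n).hom z := by
  have e := HtoDLinearEquiv' (extCx (B := B) E) (n - 1) n (n + 1) (by omega) rfl
  haveI : Module.Finite B (LinearMap.ker ((extCx (B := B) E).d n (n + 1)).hom ⧸
      LinearMap.range (toCyc (extCx (B := B) E) (n - 1) n (n + 1))) := Module.Finite.equiv e
  obtain ⟨r, s, hs⟩ := Module.Finite.exists_fin (R := B)
    (M := LinearMap.ker ((extCx (B := B) E).d n (n + 1)).hom ⧸
      LinearMap.range (toCyc (extCx (B := B) E) (n - 1) n (n + 1)))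
  choose z hz using fun i => Submodule.Quotient.mk_surjective _ (s i)
  haveI : Subsingleton ((extCx (B := B) E).X (n + 1)) :=
    ModuleCat.subsingleton_of_isZero ((extM (A := A) (B := B)).map_isZero hE)
  have hw : ∀ y : E.X n, ∃ (c : Fin r → B) (t : B ⊗[A] E.X (n - 1)),
      (1 : B) ⊗ₜ[A] y = ∑ i, c i • extCxXEquiv (B := B) E n
        ((z i : LinearMap.ker ((extCx (B := B) E).d n (n + 1)).hom) : (extCx (B := B) E).X n) +
        ((E.d (n - 1) n).hom.lTensor B) t := by
    intro y
    let t : (extCx (B := B) E).X n := (extCxXEquiv (B := B) E n).symm ((1 : B) ⊗ₜ[A] y)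
    have ht : t ∈ LinearMap.ker ((extCx (B := B) E).d n (n + 1)).hom := by
      rw [LinearMap.mem_ker]; exact Subsingleton.elim _ _
    have hmem : Submodule.Quotient.mk
        (⟨t, ht⟩ : LinearMap.ker ((extCx (B := B) E).d n (n + 1)).hom) ∈
        Submodule.span B (Set.range s) := by
      rw [hs]; exact Submodule.mem_top
    obtain ⟨c, hc⟩ := (Submodule.mem_span_range_iff_exists_fun B).mp hmem
    have h2 : (Submodule.mkQ (LinearMap.range (toCyc (extCx (B := B) E) (n - 1) n (n + 1))))
        ((⟨t, ht⟩ : LinearMap.ker ((extCx (B := B) E).d n (n + 1)).hom) - ∑ i, c i • z i) = 0 := by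
      rw [map_sub, map_sum]
      simp only [map_smul, Submodule.mkQ_apply, hz]
      rw [hc, sub_self]
    obtain ⟨v, hv⟩ := (Submodule.Quotient.mk_eq_zero _).mp h2
    refine ⟨c, extCxXEquiv (B := B) E (n - 1) v, ?_⟩
    have h3 := congrArg Subtype.val hv
    simp only [Submodule.coe_sub, Submodule.coe_sum, Submodule.coe_smul, toCyc_coe] at h3
    have h4 := extCxXEquiv_d (B := B) E (n - 1) n v
    have h5 : extCxXEquiv (B := B) E n t = (1 : B) ⊗ₜ[A] y := LinearEquiv.apply_symm_apply _ _
    rw [← h4, h3, map_sub, map_sum, h5]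
    simp only [map_smul]
    abel
  obtain ⟨x, hx⟩ := exists_gens_of_tensor_gens hsurj hnil (E.d (n - 1) n).hom r _ hw
  exact ⟨r, x, hx⟩

end gens

/-! ## Cones of maps from a single module -/

section cone

variable {A : Type u} [CommRing A]

lemma isLE_cone_of_gens (E : DRing.Cx A) (n : ℤ) (hE : DRing.VanishesAbove E n)
    (F : ModuleCat.{u} A) (g : (CochainComplex.singleFunctor (ModuleCat.{u} A) n).obj F ⟶ E)
    (hg : ∀ y : E.X n, ∃ (s : ((CochainComplex.singleFunctor (ModuleCat.{u} A) n).obj F).X n)
      (z : E.X (n - 1)), y = (g.f n).hom s + (E.d (n - 1) n).hom z) :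
    (DRing.toD (CochainComplex.mappingCone g)).IsLE (n - 1) := by
  have hC : DRing.VanishesAbove (CochainComplex.mappingCone g) n :=
    vanishesAbove_cone g (VanishesAbove.mono (VanishesOutside.above (vanishesOutside_single n F))
      (by omega)) hE
  have hn : Function.Exact ((CochainComplex.mappingCone g).d (n - 1) n).hom
      ((CochainComplex.mappingCone g).d n (n + 1)).hom := by
    haveI : Subsingleton ((CochainComplex.mappingCone g).X (n + 1)) :=
      ModuleCat.subsingleton_of_isZero (hC (n + 1) (by omega))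
    intro y
    constructor
    · intro _
      obtain ⟨s, z, hy⟩ := hg (ConeE.sndE g n y)
      refine ⟨ConeE.mkE g (n - 1) n (by omega) s z, ?_⟩
      haveI : Subsingleton (((CochainComplex.singleFunctor (ModuleCat.{u} A) n).obj F).X (n + 1)) :=
        ModuleCat.subsingleton_of_isZero (vanishesOutside_single n F (n + 1) (Or.inr (by omega)))
      apply ConeE.ext g n (n + 1) rfl
      · exact Subsingleton.elim _ _
      · rw [ConeE.sndE_d g (n - 1) n (by omega), ConeE.fstE_mkE, ConeE.sndE_mkE, hy]
    · intro _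
      exact Subsingleton.elim _ _
  rw [DerivedCategory.isLE_iff]
  intro j hj
  rw [isZero_H_toD_iff _ (j - 1) j (j + 1) (by omega) rfl]
  by_cases hjn : j = n
  · subst hjn
    exact hn
  · haveI : Subsingleton ((CochainComplex.mappingCone g).X j) :=
      ModuleCat.subsingleton_of_isZero (hC j (by omega))
    haveI : Subsingleton ((CochainComplex.mappingCone g).X (j + 1)) :=
      ModuleCat.subsingleton_of_isZero (hC (j + 1) (by omega))
    intro y
    constructor
    · intro _
      exact ⟨0, Subsingleton.elim _ _⟩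
    · intro _
      exact Subsingleton.elim _ _

end cone

/-! ## Descent of pseudo-coherence -/

section main

variable {R' R : Type u} [CommRing R'] [CommRing R] (φ : R' →+* R)
  (hφ : Function.Surjective φ) (hnil : IsNilpotent (RingHom.ker φ))

include hφ hnil in
lemma isPseudoCoherent_of_bc_aux (m : ℤ) : ∀ (N : ℕ) (G : DRing.Cx R') [G.IsKProjective],
    (DRing.toD G).IsLE (m - 1 + N) →
    DRing.IsPseudoCoherent R m
      ((DRing.baseChangeKh φ).obj ((HomotopyCategory.quotient _ _).obj G)) →
    DRing.IsPseudoCoherent R' m (DRing.toD G) := by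
  letI : Algebra R' R := φ.toAlgebra
  intro N
  induction N with
  | zero =>
    intro G _ hG _
    haveI : (DRing.toD G).IsLE (m - 1) := by simpa using hG
    exact isPseudoCoherent_of_isLE _ (m - 1) m (by omega)
  | succ N ih =>
    intro G _ hGle hG
    obtain ⟨n, hn⟩ : ∃ n : ℤ, n = m + N := ⟨_, rfl⟩
    haveI : (DRing.toD G).IsLE n := by
      have e : m - 1 + ((N + 1 : ℕ) : ℤ) = n := by push_cast; omega
      rw [← e]; exact hGle
    obtain ⟨E, hEb, hEfree, ⟨eE⟩⟩ := exists_free_resolution (DRing.toD G) n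
    have hEproj : ∀ i, Module.Projective R' (E.X i) := fun i => by
      haveI := hEfree i; exact Module.Projective.of_free
    haveI : E.IsKProjective := isKProjective_of_vanishesAbove E n hEb hEproj
    obtain ⟨eh⟩ := nonempty_homotopyIso_of_toD_iso E G eE
    have h2 : DRing.IsPseudoCoherent R m
        ((DRing.baseChangeKh φ).obj ((HomotopyCategory.quotient _ _).obj E)) :=
      isPseudoCoherent_of_iso ((DRing.baseChangeKh φ).mapIso eh.symm) hG
    have hE' : DRing.IsPseudoCoherent R m (DRing.toD (extCx (B := R) E)) :=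
      isPseudoCoherent_of_iso (baseChangeKhObjIso φ E) h2
    haveI : (DRing.toD (extCx (B := R) E)).IsLE n :=
      isLE_toD_of_vanishesAbove _ n (vanishesAbove_mapHC _ E n hEb)
    have hfin : Module.Finite R ((H R n).obj (DRing.toD (extCx (B := R) E))) :=
      finite_H_of_isPseudoCoherent _ n (isPseudoCoherent_mono (by omega) hE')
        (fun i hi => DerivedCategory.isZero_of_isLE _ n i hi)
    obtain ⟨r, x, hx⟩ := exists_gens_of_finite_H_ext hφ hnil E n (hEb (n + 1) (by omega)) hfin
    let F : ModuleCat.{u} R' := ModuleCat.of R' (Fin r → R')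
    haveI : Projective F := inferInstance
    haveI : Module.Finite R' F := inferInstanceAs (Module.Finite R' (Fin r → R'))
    haveI : Module.Free R' F := inferInstanceAs (Module.Free R' (Fin r → R'))
    let π' : F ⟶ E.X n := ModuleCat.ofHom (Fintype.linearCombination R' x)
    let g : (CochainComplex.singleFunctor (ModuleCat.{u} R') n).obj F ⟶ E :=
      HomologicalComplex.mkHomFromSingle π' (fun k hk => (hEb k (by
        have : n + 1 = k := hk
        omega)).eq_of_tgt _ _)
    have hgf : g.f n = (HomologicalComplex.singleObjXSelf (ComplexShape.up ℤ) n F).hom ≫ π' :=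
      HomologicalComplex.mkHomFromSingle_f _ _
    have hgs : ∀ y : E.X n, ∃ (s : ((CochainComplex.singleFunctor (ModuleCat.{u} R') n).obj F).X n)
        (z : E.X (n - 1)), y = (g.f n).hom s + (E.d (n - 1) n).hom z := by
      intro y
      obtain ⟨c, z, hy⟩ := hx y
      refine ⟨(HomologicalComplex.singleObjXSelf (ComplexShape.up ℤ) n F).inv.hom c, z, ?_⟩
      have h3 : (HomologicalComplex.singleObjXSelf (ComplexShape.up ℤ) n F).hom.hom
          ((HomologicalComplex.singleObjXSelf (ComplexShape.up ℤ) n F).inv.hom c) = c := by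
        rw [← LinearMap.comp_apply, ← ModuleCat.hom_comp, Iso.inv_hom_id]
        rfl
      rw [hgf]
      change y = π'.hom ((HomologicalComplex.singleObjXSelf (ComplexShape.up ℤ) n F).hom.hom
          ((HomologicalComplex.singleObjXSelf (ComplexShape.up ℤ) n F).inv.hom c)) + _
      rw [h3]
      exact hy
    have hCle : (DRing.toD (CochainComplex.mappingCone g)).IsLE (n - 1) :=
      isLE_cone_of_gens E n hEb F g hgs
    haveI : (CochainComplex.mappingCone g).IsKProjective := isKProjective_mappingCone g
    have hC' : (DRing.toD (CochainComplex.mappingCone g)).IsLE (m - 1 + N) := by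
      have e : n - 1 = m - 1 + N := by omega
      rw [← e]; exact hCle
    have hT := (DRing.baseChangeKh φ).map_distinguished _
      (HomotopyCategory.mappingCone_triangleh_distinguished g)
    have h1 : DRing.IsPseudoCoherent R (m + 1) ((DRing.baseChangeKh φ).obj
        ((HomotopyCategory.quotient _ _).obj
          ((CochainComplex.singleFunctor (ModuleCat.{u} R') n).obj F))) := by
      refine isPseudoCoherent_of_iso (baseChangeKhObjIso φ _).symm ?_
      refine isPseudoCoherent_toD_of_bdd _ n n
        (vanishesOutside_mapHC _ _ n n (vanishesOutside_single n F)) (fun i => ⟨?_, ?_⟩) (m + 1)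
      · haveI := (termwiseFiniteFree_single n F i).1
        exact finite_extM (B := R) _
      · haveI := (termwiseFiniteFree_single n F i).2
        exact free_extM (B := R) _
    have hresC : DRing.IsPseudoCoherent R m ((DRing.baseChangeKh φ).obj
        ((HomotopyCategory.quotient _ _).obj (CochainComplex.mappingCone g))) :=
      isPseudoCoherent_obj₃ _ hT m h1 h2
    have hCpc := ih (CochainComplex.mappingCone g) hC' hresC
    have hT' := DerivedCategory.mappingCone_triangle_distinguished g
    have hEpc : DRing.IsPseudoCoherent R' m (DRing.toD E) :=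
      (isPseudoCoherent_triangle _ hT' m).2.1 (isPseudoCoherent_Sg n F m) hCpc
    exact isPseudoCoherent_of_iso eE hEpc

include hφ hnil in
/-- Stacks 07LU: `m`-pseudo-coherence descends along nilpotent thickenings -/
theorem isPseudoCoherent_of_LBaseChange_nilpotent [DRing.HasLBaseChange φ] (K' : Dual.D R')
    (m : ℤ) (h : DRing.IsPseudoCoherent R m ((DRing.LBaseChange φ).obj K')) :
    DRing.IsPseudoCoherent R' m K' := by
  letI : Algebra R' R := φ.toAlgebra
  obtain ⟨b, hb⟩ := exists_isLE_of_isPseudoCoherent h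
  haveI : K'.IsLE b := isLE_of_LBaseChange_nilpotent φ hφ hnil K' b hb
  obtain ⟨E, hEb, hEfree, ⟨eE⟩⟩ := exists_free_resolution K' b
  have hEproj : ∀ i, Module.Projective R' (E.X i) := fun i => by
    haveI := hEfree i; exact Module.Projective.of_free
  haveI : E.IsKProjective := isKProjective_of_vanishesAbove E b hEb hEproj
  obtain ⟨N, hN⟩ : ∃ N : ℕ, b ≤ m - 1 + N := ⟨(b - m + 1).toNat, by omega⟩
  have hle : (DRing.toD E).IsLE (m - 1 + N) := by
    haveI : (DRing.toD E).IsLE b := isLE_toD_of_vanishesAbove E b hEb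
    exact TStructure.t.isLE_of_le _ b _ hN
  have hbc : DRing.IsPseudoCoherent R m
      ((DRing.baseChangeKh φ).obj ((HomotopyCategory.quotient _ _).obj E)) :=
    isPseudoCoherent_of_iso ((DRing.LBaseChange φ).mapIso eE.symm ≪≫ LBaseChangeIso φ E ≪≫
      (baseChangeKhObjIso φ E).symm) h
  exact isPseudoCoherent_of_iso eE (isPseudoCoherent_of_bc_aux φ hφ hnil m N E hle hbc)

include hφ hnil in
/-- S6971 -/
theorem isPseudoCoherent'_LBaseChange_iff_nilpotent [DRing.HasLBaseChange φ] (K' : Dual.D R') :
    DRing.IsPseudoCoherent' R ((DRing.LBaseChange φ).obj K') ↔ DRing.IsPseudoCoherent' R' K' := by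
  constructor
  · intro h
    apply isPseudoCoherent'_of_forall
    intro m
    exact isPseudoCoherent_of_LBaseChange_nilpotent φ hφ hnil K' m
      (isPseudoCoherent_of_isPseudoCoherent' h m)
  · intro h
    apply isPseudoCoherent'_of_forall
    intro m
    exact isPseudoCoherent_LBaseChange φ K' m (isPseudoCoherent_of_isPseudoCoherent' h m)

end main

end Groth.Agent.Lib.Helper18.DR
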