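import Mathlib
import Groth.Agent.Lib.Helper18.KProjE

/-!
# Restriction along `R[X] → R`, `X ↦ 0`, followed by derived base change (helper18)
-/

set_option autoImplicit false
set_option linter.style.haveILetI false
universe u
open CategoryTheory CategoryTheory.Limits CategoryTheory.Pretriangulated DerivedCategory
open TensorProduct Polynomial
open scoped ChangeOfRings

attribute [local instance] HasDerivedCategory.standard

namespace Groth.Agent.Lib.Helper18.DR

namespace PolyCone

/-! ## Algebra on `A[X] ⊗ M` -/

section alg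

variable {A : Type u} [CommRing A]

/-- multiplication by `X`, as an `A`-linear map -/
noncomputable def mulXL : A[X] →ₗ[A] A[X] := LinearMap.mulLeft A (X : A[X])

lemma mulXL_apply (p : A[X]) : mulXL p = X * p := rfl

/-- `divX` as an `A`-linear map -/
noncomputable def divXL : A[X] →ₗ[A] A[X] where
  toFun := divX
  map_add' _ _ := divX_add
  map_smul' a p := by
    rw [RingHom.id_apply, Polynomial.smul_eq_C_mul, divX_C_mul, ← Polynomial.smul_eq_C_mul]

lemma divXL_apply (p : A[X]) : divXL p = divX p := rfl

lemma divX_X_mul (p : A[X]) : divX (X * p) = p := by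
  ext n
  rw [coeff_divX, coeff_X_mul]

lemma divXL_comp_mulXL : (divXL (A := A)) ∘ₗ mulXL = LinearMap.id := by
  apply LinearMap.ext
  intro p
  rw [LinearMap.comp_apply, mulXL_apply, divXL_apply, divX_X_mul, LinearMap.id_apply]

lemma mulXL_comp_divXL_add :
    (mulXL (A := A)) ∘ₗ divXL + (Algebra.linearMap A A[X]) ∘ₗ (lcoeff A 0) = LinearMap.id := by
  apply LinearMap.ext
  intro p
  rw [LinearMap.add_apply, LinearMap.comp_apply, LinearMap.comp_apply, mulXL_apply, divXL_apply,
    Algebra.linearMap_apply, lcoeff_apply, Polynomial.algebraMap_apply, Algebra.algebraMap_self,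
    RingHom.id_apply, LinearMap.id_apply]
  exact X_mul_divX_add p

variable (M : Type u) [AddCommGroup M] [Module A M]

lemma X_smul_eq_rTensor (z : A[X] ⊗[A] M) : (X : A[X]) • z = (mulXL.rTensor M) z := by
  induction z using TensorProduct.induction_on with
  | zero => rw [smul_zero, map_zero]
  | tmul p m => rw [TensorProduct.smul_tmul', LinearMap.rTensor_tmul, mulXL_apply, smul_eq_mul]
  | add x y hx hy => rw [smul_add, map_add, hx, hy]

lemma X_smul_injective (z : A[X] ⊗[A] M) (h : (X : A[X]) • z = 0) : z = 0 := by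
  rw [X_smul_eq_rTensor] at h
  have h1 := congrArg (divXL.rTensor M) h
  rw [← LinearMap.comp_apply, ← LinearMap.rTensor_comp, divXL_comp_mulXL, LinearMap.rTensor_id,
    LinearMap.id_apply, map_zero] at h1
  exact h1

lemma exists_X_smul_of_ev0 (z : A[X] ⊗[A] M) (hz : ((lcoeff A 0).rTensor M) z = 0) :
    ∃ z', (X : A[X]) • z' = z := by
  refine ⟨(divXL.rTensor M) z, ?_⟩
  have h1 := LinearMap.congr_fun (congrArg (LinearMap.rTensor M) (mulXL_comp_divXL_add (A := A))) z
  rw [LinearMap.rTensor_add, LinearMap.rTensor_comp, LinearMap.rTensor_comp, LinearMap.rTensor_id,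
    LinearMap.add_apply, LinearMap.comp_apply, LinearMap.comp_apply, hz, map_zero, add_zero,
    LinearMap.id_apply] at h1
  rw [X_smul_eq_rTensor]
  exact h1

lemma ev0_X_smul (z : A[X] ⊗[A] M) : ((lcoeff A 0).rTensor M) ((X : A[X]) • z) = 0 := by
  induction z using TensorProduct.induction_on with
  | zero => rw [smul_zero, map_zero]
  | tmul p m =>
    rw [TensorProduct.smul_tmul', LinearMap.rTensor_tmul, lcoeff_apply, smul_eq_mul,
      mul_coeff_zero, coeff_X_zero, zero_mul, TensorProduct.zero_tmul]
  | add x y hx hy => rw [smul_add, map_add, hx, hy, add_zero]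

end alg

/-! ## The augmentation `A[X] ⊗ M → M` -/

section aug

variable {A : Type u} [CommRing A]

set_option backward.isDefEq.respectTransparency false in
/-- `M → M` as a map to the double restriction -/
noncomputable def tauM (M : ModuleCat.{u} A) :
    M ⟶ (ModuleCat.restrictScalars.{u} (algebraMap A A[X])).obj
      ((ModuleCat.restrictScalars.{u} (evalRingHom (0 : A))).obj M) :=
  ModuleCat.ofHom (Y := (ModuleCat.restrictScalars.{u} (algebraMap A A[X])).obj
      ((ModuleCat.restrictScalars.{u} (evalRingHom (0 : A))).obj M))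
    { toFun := fun m => m
      map_add' := fun _ _ => rfl
      map_smul' := fun a m => by
        change a • m = (evalRingHom (0 : A)) (algebraMap A A[X] a) • m
        rw [Polynomial.algebraMap_apply, Algebra.algebraMap_self, RingHom.id_apply, coe_evalRingHom,
          eval_C] }

/-- the augmentation `A[X] ⊗ M → M`, `p ⊗ m ↦ p(0) m`, which is `A[X]`-linear -/
noncomputable def epsM (M : ModuleCat.{u} A) :
    (extM (A := A) (B := A[X])).obj M ⟶ (ModuleCat.restrictScalars.{u} (evalRingHom (0 : A))).obj M :=
  ((ModuleCat.extendRestrictScalarsAdj.{u, u, u} (algebraMap A A[X])).homEquiv _ _).symm (tauM M)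

lemma epsM_naturality {M M' : ModuleCat.{u} A} (f : M ⟶ M') :
    (extM (A := A) (B := A[X])).map f ≫ epsM M' =
      epsM M ≫ (ModuleCat.restrictScalars.{u} (evalRingHom (0 : A))).map f := by
  unfold epsM
  rw [← Adjunction.homEquiv_naturality_left_symm, ← Adjunction.homEquiv_naturality_right_symm]
  congr 1

lemma epsM_tmul (M : ModuleCat.{u} A) (p : A[X]) (m : M) :
    (epsM M).hom (p ⊗ₜ[A, algebraMap A A[X]] m) = (show M from (p.coeff 0 • m)) := by
  rw [coeff_zero_eq_eval_zero]
  rfl

lemma epsM_eq (M : ModuleCat.{u} A) (z : (extM (A := A) (B := A[X])).obj M) :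
    (show M from (epsM M).hom z) = (TensorProduct.lid A M)
      (((lcoeff A 0).rTensor M) (extMEquiv (B := A[X]) M z)) := by
  let E : (↑((ModuleCat.restrictScalars.{u} (algebraMap A A[X])).obj (ModuleCat.of A[X] A[X]))) ⊗[A]
      ↑M →+ ↑M :=
    { toFun := fun w => (show M from (epsM M).hom w)
      map_zero' := map_zero (epsM M).hom
      map_add' := map_add (epsM M).hom }
  let G : (↑((ModuleCat.restrictScalars.{u} (algebraMap A A[X])).obj (ModuleCat.of A[X] A[X]))) ⊗[A]
      ↑M →+ ↑M :=
    { toFun := fun w => (TensorProduct.lid A M)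
        (((lcoeff A 0).rTensor M) (extMEquiv (B := A[X]) M w))
      map_zero' := by
        have h2 : extMEquiv (B := A[X]) M (0 : (extM (A := A) (B := A[X])).obj M) = 0 := map_zero _
        exact (congrArg (fun t => (TensorProduct.lid A M) (((lcoeff A 0).rTensor M) t)) h2).trans
          (by rw [map_zero, map_zero])
      map_add' := fun x y => by
        have h2 : extMEquiv (B := A[X]) M ((x + y : (extM (A := A) (B := A[X])).obj M)) =
            extMEquiv (B := A[X]) M x + extMEquiv (B := A[X]) M y := map_add _ x y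
        exact (congrArg (fun t => (TensorProduct.lid A M) (((lcoeff A 0).rTensor M) t)) h2).trans
          (by rw [map_add, map_add]) }
  have key : ∀ w, E w = G w := by
    intro w
    induction w using TensorProduct.induction_on with
    | zero => rw [map_zero, map_zero]
    | tmul p m =>
      change (eval 0 (show A[X] from p)) • m = (coeff (show A[X] from p) 0) • m
      rw [coeff_zero_eq_eval_zero]
    | add x y hx hy => rw [map_add, map_add, hx, hy]
  exact key z

lemma smulX_injective (M : ModuleCat.{u} A) (y : (extM (A := A) (B := A[X])).obj M)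
    (h : (X : A[X]) • y = 0) : y = 0 := by
  have h1 : (X : A[X]) • extMEquiv (B := A[X]) M y = 0 := by rw [← map_smul, h, map_zero]
  have h2 := X_smul_injective M _ h1
  exact (extMEquiv (B := A[X]) M).injective (h2.trans (map_zero _).symm)

lemma epsM_X_smul (M : ModuleCat.{u} A) (y : (extM (A := A) (B := A[X])).obj M) :
    (epsM M).hom ((X : A[X]) • y) = 0 := by
  rw [map_smul]
  exact (ModuleCat.restrictScalars.smul_def _ _ _).trans
    (by rw [coe_evalRingHom, eval_X, zero_smul]; rfl)

lemma exists_smulX_of_epsM (M : ModuleCat.{u} A) (y : (extM (A := A) (B := A[X])).obj M)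
    (h : (epsM M).hom y = 0) : ∃ y', (X : A[X]) • y' = y := by
  have h1 := epsM_eq M y
  have h2 : ((lcoeff A 0).rTensor M) (extMEquiv (B := A[X]) M y) = 0 := by
    apply (TensorProduct.lid A M).injective
    rw [← h1, map_zero]
    exact h
  obtain ⟨z', hz'⟩ := exists_X_smul_of_ev0 M _ h2
  refine ⟨(extMEquiv (B := A[X]) M).symm z', ?_⟩
  apply (extMEquiv (B := A[X]) M).injective
  rw [map_smul, LinearEquiv.apply_symm_apply, hz']

lemma epsM_surjective (M : ModuleCat.{u} A) : Function.Surjective (epsM M).hom := by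
  intro m
  refine ⟨(1 : A[X]) ⊗ₜ[A, algebraMap A A[X]] (show M from m), ?_⟩
  rw [epsM_tmul]
  change ((1 : A[X]).coeff 0 • (show M from m)) = (show M from m)
  rw [coeff_one_zero, one_smul]

end aug

/-! ## The short exact sequence `0 → P[X] → P[X] → P → 0` -/

section cx

variable {A : Type u} [CommRing A] (P : DRing.Cx A)

/-- `P[X]` -/
noncomputable abbrev polyCx : DRing.Cx A[X] := extCx (B := A[X]) P

/-- `P`, with `X` acting as zero -/
noncomputable abbrev resCx0 : DRing.Cx A[X] :=
  ((ModuleCat.restrictScalars.{u} (evalRingHom (0 : A))).mapHomologicalComplex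
    (ComplexShape.up ℤ)).obj P

/-- multiplication by `X` on `P[X]` -/
noncomputable def muX : polyCx P ⟶ polyCx P := (X : A[X]) • 𝟙 _

/-- the augmentation `P[X] → P` -/
noncomputable def epsCx : polyCx P ⟶ resCx0 P where
  f i := epsM (P.X i)
  comm' i j _ := (epsM_naturality (P.d i j)).symm

lemma muX_f_apply (i : ℤ) (y : (polyCx P).X i) : ((muX P).f i).hom y = (X : A[X]) • y := rfl

/-- the short complex `P[X] → P[X] → P` -/
noncomputable def polySC : ShortComplex (DRing.Cx A[X]) :=
  ShortComplex.mk (muX P) (epsCx P) (by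
    ext i : 1
    refine ModuleCat.hom_ext (LinearMap.ext fun y => ?_)
    exact epsM_X_smul (P.X i) y)

lemma polySC_shortExact : (polySC P).ShortExact := by
  apply HomologicalComplex.shortExact_of_degreewise_shortExact
  intro i
  exact
    { exact := (ShortComplex.ShortExact.moduleCat_exact_iff_function_exact _).mpr (by
        intro y
        constructor
        · intro hy
          obtain ⟨y', hy'⟩ := exists_smulX_of_epsM (P.X i) y hy
          exact ⟨y', hy'⟩
        · rintro ⟨y', rfl⟩
          exact epsM_X_smul (P.X i) y')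
      mono_f := (ModuleCat.mono_iff_injective _).mpr (by
        intro y y' hyy'
        have h1 : (X : A[X]) • (y - y') = 0 := by
          rw [smul_sub]
          exact sub_eq_zero.mpr hyy'
        exact sub_eq_zero.mp (smulX_injective (P.X i) _ h1))
      epi_g := (ModuleCat.epi_iff_surjective _).mpr (epsM_surjective (P.X i)) }

end cx

/-! ## Extension of scalars kills `X` -/

section kill

variable {A B : Type u} [CommRing A] [CommRing B] (φ : B →+* A)

lemma extendScalars_map_smul_eq_zero (t : B) (ht : φ t = 0) {M N : ModuleCat.{u} B} (g : M ⟶ N) :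
    (ModuleCat.extendScalars.{u, u, u} φ).map (t • g) = 0 := by
  apply ((ModuleCat.extendRestrictScalarsAdj.{u, u, u} φ).homEquiv _ _).injective
  ext m
  change (1 : A) ⊗ₜ[B, φ] (t • g.hom m) = 0
  letI m1 : Module B A := Module.compHom A φ
  have h1 : ((1 : A) ⊗ₜ[B] (t • g.hom m) : A ⊗[B] N) = (t • (1 : A)) ⊗ₜ[B] (g.hom m) :=
    (TensorProduct.smul_tmul t (1 : A) (g.hom m)).symm
  have h2 : t • (1 : A) = 0 := by
    change φ t • (1 : A) = 0
    rw [ht, zero_smul]
  exact h1.trans (by rw [h2, TensorProduct.zero_tmul])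

end kill

/-! ## The main theorem -/

section main

variable {R : Type u} [CommRing R]

lemma nonempty_cone_zero_iso (W : DRing.Cx R) (g : W ⟶ W) (hg : g = 0) :
    Nonempty (DRing.toD (CochainComplex.mappingCone g) ≅
      DRing.toD W ⊞ (DRing.toD W)⟦(1 : ℤ)⟧) := by
  subst hg
  have hT := DerivedCategory.mappingCone_triangle_distinguished (0 : W ⟶ W)
  obtain ⟨e, -, -⟩ := exists_iso_binaryBiproduct_of_distTriang _ (rot_of_distTriang _ hT)
    (by
      change -(shiftFunctor _ (1 : ℤ)).map (DerivedCategory.Q.map (0 : W ⟶ W)) = 0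
      rw [Functor.map_zero, Functor.map_zero, neg_zero])
  exact ⟨e⟩

lemma evalRingHom_comp_algebraMap :
    (evalRingHom (0 : R)).comp (algebraMap R R[X]) = RingHom.id R := by
  ext r
  simp

/-- extending scalars along `R → R[X] → R` is the identity -/
noncomputable def extExtNatIso :
    ModuleCat.extendScalars.{u, u, u} (algebraMap R R[X]) ⋙
      ModuleCat.extendScalars.{u, u, u} (evalRingHom (0 : R)) ≅ 𝟭 (ModuleCat.{u} R) :=
  (ModuleCat.extendScalarsComp (algebraMap R R[X]) (evalRingHom (0 : R))).symm ≪≫
    eqToIso (by rw [evalRingHom_comp_algebraMap]) ≪≫ ModuleCat.extendScalarsId R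

/-- `P[X] ⊗_{R[X]} R ≅ P` -/
noncomputable def extExtIso (P : DRing.Cx R) :
    ((ModuleCat.extendScalars.{u, u, u} (evalRingHom (0 : R))).mapHomologicalComplex
      (ComplexShape.up ℤ)).obj (polyCx P) ≅ P :=
  HomologicalComplex.Hom.isoOfComponents (fun i => extExtNatIso.app (P.X i))
    (fun i j _ => (extExtNatIso.hom.naturality (P.d i j)).symm)

/-- S6982 -/
theorem LBaseChange_restrict_eval_zero_iso [DRing.HasLBaseChange (evalRingHom (0 : R))]
    (K : Dual.D R) [HasBinaryBiproduct K ((shiftFunctor (Dual.D R) (1 : ℤ)).obj K)] :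
    Nonempty ((DRing.LBaseChange (evalRingHom (0 : R))).obj
        ((DRing.restrictD (evalRingHom (0 : R))).obj K) ≅
      K ⊞ (shiftFunctor (Dual.D R) (1 : ℤ)).obj K) := by
  obtain ⟨P, hPK, hPproj, ⟨eP⟩⟩ := exists_kprojective_resolution K
  haveI := hPK
  haveI : CochainComplex.IsKProjective (polyCx P) :=
    isKProjective_extendScalars (algebraMap R R[X]) P
  have hS := polySC_shortExact P
  haveI : CochainComplex.IsKProjective (CochainComplex.mappingCone (polySC P).f) :=
    isKProjective_mappingCone (muX P)
  have hq := CochainComplex.mappingCone.quasiIso_descShortComplex hS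
  haveI : IsIso (DerivedCategory.Q.map
      (CochainComplex.mappingCone.descShortComplex (polySC P))) :=
    (DerivedCategory.isIso_Q_map_iff_quasiIso _ _).mpr hq
  let e1 := asIso (DerivedCategory.Q.map (CochainComplex.mappingCone.descShortComplex (polySC P)))
  let e2 : (DRing.restrictD (evalRingHom (0 : R))).obj K ≅ DRing.toD (resCx0 P) :=
    (DRing.restrictD (evalRingHom (0 : R))).mapIso eP.symm ≪≫
      (ModuleCat.restrictScalars.{u} (evalRingHom (0 : R))).mapDerivedCategoryFactors.app P
  let e3 := LBaseChangeIso (evalRingHom (0 : R)) (CochainComplex.mappingCone (polySC P).f)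
  let e4 := DerivedCategory.Q.mapIso (CochainComplex.mappingCone.mapHomologicalComplexIso
    (polySC P).f (ModuleCat.extendScalars.{u, u, u} (evalRingHom (0 : R))))
  have hg : ((ModuleCat.extendScalars.{u, u, u} (evalRingHom (0 : R))).mapHomologicalComplex
      (ComplexShape.up ℤ)).map (polySC P).f = 0 := by
    ext i : 1
    exact extendScalars_map_smul_eq_zero (evalRingHom (0 : R)) (X : R[X])
      (by rw [coe_evalRingHom, eval_X]) (𝟙 _)
  obtain ⟨e5⟩ := nonempty_cone_zero_iso _ _ hg
  let e6 : DRing.toD (((ModuleCat.extendScalars.{u, u, u} (evalRingHom (0 : R))).mapHomologicalComplex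
      (ComplexShape.up ℤ)).obj (polyCx P)) ≅ K :=
    DerivedCategory.Q.mapIso (extExtIso P) ≪≫ eP
  exact ⟨(DRing.LBaseChange (evalRingHom (0 : R))).mapIso (e2 ≪≫ e1.symm) ≪≫ e3 ≪≫ e4 ≪≫ e5 ≪≫
    biprod.mapIso e6 ((shiftFunctor (Dual.D R) (1 : ℤ)).mapIso e6)⟩

end main

end PolyCone

end Groth.Agent.Lib.Helper18.DR
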