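import Mathlib
import Groth.Agent.Lib.Helper18.PolyCone

/-!
# The characteristic sequence `0 → A[X] ⊗ M → A[X] ⊗ M → M → 0` of an `A[X]`-module (helper18)
-/

set_option autoImplicit false
set_option linter.style.haveILetI false
universe u
open TensorProduct Polynomial

namespace Groth.Agent.Lib.Helper18.DR

namespace PolyChar

open PolyCone

variable (A : Type u) [CommRing A] (M : Type u) [AddCommGroup M] [Module A M] [Module A[X] M]
  [IsScalarTower A A[X] M]

/-- `divX ⊗ 1` -/
noncomputable def Dq : Module.End A (A[X] ⊗[A] M) := divXL.rTensor M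

/-- multiplication by `X` on `M`, as an `A`-linear map -/
noncomputable def μX : M →ₗ[A] M where
  toFun m := (X : A[X]) • m
  map_add' m m' := smul_add _ m m'
  map_smul' a m := by
    rw [RingHom.id_apply, ← algebraMap_smul A[X] a m, ← algebraMap_smul A[X] a ((X : A[X]) • m),
      smul_smul, smul_smul, mul_comm]

lemma μX_apply (m : M) : μX A M m = (X : A[X]) • m := rfl

/-- `1 ⊗ X` -/
noncomputable def Yq : Module.End A (A[X] ⊗[A] M) := (μX A M).lTensor A[X]

/-- constant coefficient -/
noncomputable def c₀ : A[X] ⊗[A] M →ₗ[A] M :=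
  (TensorProduct.lid A M).toLinearMap ∘ₗ (lcoeff A 0).rTensor M

/-- `m ↦ 1 ⊗ m` -/
noncomputable def sq : M →ₗ[A] A[X] ⊗[A] M := TensorProduct.mk A A[X] M 1

/-- the augmentation `p ⊗ m ↦ p • m` -/
noncomputable def εX : A[X] ⊗[A] M →ₗ[A[X]] M :=
  LinearMap.liftBaseChange A[X] (LinearMap.id : M →ₗ[A] M)

/-- `X ⊗ 1 - 1 ⊗ X` -/
noncomputable def θX : A[X] ⊗[A] M →ₗ[A[X]] A[X] ⊗[A] M :=
  (X : A[X]) • LinearMap.id - (μX A M).baseChange A[X]

lemma θX_apply (z : A[X] ⊗[A] M) : θX A M z = (X : A[X]) • z - Yq A M z := by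
  rw [θX, LinearMap.sub_apply, LinearMap.smul_apply, LinearMap.id_apply,
    LinearMap.baseChange_eq_ltensor]
  rfl

lemma Dq_X_smul (z : A[X] ⊗[A] M) : Dq A M ((X : A[X]) • z) = z := by
  rw [X_smul_eq_rTensor, Dq, ← LinearMap.comp_apply, ← LinearMap.rTensor_comp, divXL_comp_mulXL,
    LinearMap.rTensor_id, LinearMap.id_apply]

lemma sq_c₀ (z : A[X] ⊗[A] M) :
    sq A M (c₀ A M z) = ((Algebra.linearMap A A[X]) ∘ₗ (lcoeff A 0)).rTensor M z := by
  induction z using TensorProduct.induction_on with
  | zero => rw [map_zero, map_zero, map_zero]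
  | add x y hx hy => rw [map_add, map_add, map_add, hx, hy]
  | tmul p m =>
    rw [c₀, LinearMap.comp_apply, LinearMap.rTensor_tmul, LinearEquiv.coe_coe,
      TensorProduct.lid_tmul, LinearMap.rTensor_tmul, LinearMap.comp_apply, lcoeff_apply, sq,
      TensorProduct.mk_apply, Algebra.linearMap_apply, Algebra.algebraMap_eq_smul_one,
      TensorProduct.smul_tmul]

lemma X_smul_Dq_add (z : A[X] ⊗[A] M) : (X : A[X]) • (Dq A M z) + sq A M (c₀ A M z) = z := by
  have h1 := LinearMap.congr_fun (congrArg (LinearMap.rTensor M) (mulXL_comp_divXL_add (A := A))) z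
  rw [LinearMap.rTensor_add, LinearMap.rTensor_comp, LinearMap.rTensor_id,
    LinearMap.add_apply, LinearMap.comp_apply, LinearMap.id_apply] at h1
  rw [X_smul_eq_rTensor, sq_c₀]
  exact h1

lemma Dq_Yq (z : A[X] ⊗[A] M) : Dq A M (Yq A M z) = Yq A M (Dq A M z) := by
  rw [Dq, Yq, ← LinearMap.comp_apply, ← LinearMap.comp_apply, LinearMap.rTensor_comp_lTensor,
    LinearMap.lTensor_comp_rTensor]

lemma Dq_pow_Yq (n : ℕ) (z : A[X] ⊗[A] M) : (Dq A M ^ n) (Yq A M z) = Yq A M ((Dq A M ^ n) z) := by
  induction n generalizing z with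
  | zero => rfl
  | succ n ih => rw [pow_succ, Module.End.mul_apply, Module.End.mul_apply, Dq_Yq, ih]

lemma Dq_sq (m : M) : Dq A M (sq A M m) = 0 := by
  rw [Dq, sq, TensorProduct.mk_apply, LinearMap.rTensor_tmul, divXL_apply, divX_one,
    TensorProduct.zero_tmul]

lemma εX_sq (m : M) : εX A M (sq A M m) = m := by
  rw [εX, sq, TensorProduct.mk_apply, LinearMap.liftBaseChange_tmul, LinearMap.id_apply, one_smul]

lemma εX_θX (z : A[X] ⊗[A] M) : εX A M (θX A M z) = 0 := by
  induction z using TensorProduct.induction_on with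
  | zero => rw [map_zero, map_zero]
  | add x y hx hy => rw [map_add, map_add, hx, hy, add_zero]
  | tmul p m =>
    rw [θX_apply, Yq, LinearMap.lTensor_tmul, map_sub, TensorProduct.smul_tmul', εX,
      LinearMap.liftBaseChange_tmul, LinearMap.liftBaseChange_tmul, LinearMap.id_apply,
      LinearMap.id_apply, μX_apply, smul_eq_mul, mul_smul, smul_comm, sub_self]

lemma εX_surjective : Function.Surjective (εX A M) := fun m => ⟨sq A M m, εX_sq A M m⟩

lemma exists_Dq_pow_eq_zero (z : A[X] ⊗[A] M) : ∃ n : ℕ, (Dq A M ^ n) z = 0 := by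
  induction z using TensorProduct.induction_on with
  | zero => exact ⟨0, rfl⟩
  | add x y hx hy =>
    obtain ⟨n₁, h₁⟩ := hx
    obtain ⟨n₂, h₂⟩ := hy
    refine ⟨n₁ + n₂, ?_⟩
    rw [map_add]
    have e1 : (Dq A M ^ (n₁ + n₂)) x = 0 := by
      rw [add_comm, pow_add, Module.End.mul_apply, h₁, map_zero]
    have e2 : (Dq A M ^ (n₁ + n₂)) y = 0 := by
      rw [pow_add, Module.End.mul_apply, h₂, map_zero]
    rw [e1, e2, add_zero]
  | tmul p m =>
    refine ⟨p.natDegree + 1, ?_⟩
    have key : ∀ (n : ℕ) (q : A[X]), (Dq A M ^ n) (q ⊗ₜ[A] m) = ((divX^[n]) q) ⊗ₜ[A] m := by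
      intro n
      induction n with
      | zero => intro q; rfl
      | succ n ih =>
        intro q
        rw [pow_succ, Module.End.mul_apply, Dq, LinearMap.rTensor_tmul, divXL_apply]
        exact ih (divX q)
    have hc : ∀ (n k : ℕ) (q : A[X]), ((divX^[n]) q).coeff k = q.coeff (k + n) := by
      intro n
      induction n with
      | zero => intro k q; rfl
      | succ n ih =>
        intro k q
        rw [Function.iterate_succ_apply, ih, coeff_divX, add_assoc]
    rw [key]
    have : (divX^[p.natDegree + 1]) p = 0 := by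
      ext k
      rw [hc, coeff_zero]
      exact coeff_eq_zero_of_natDegree_lt (by omega)
    rw [this, TensorProduct.zero_tmul]

lemma θX_injective : Function.Injective (θX A M) := by
  rw [injective_iff_map_eq_zero]
  have Q : ∀ (n : ℕ) (z : A[X] ⊗[A] M), (Dq A M ^ n) z = 0 → θX A M z = 0 → z = 0 := by
    intro n
    induction n with
    | zero => intro z hz _; exact hz
    | succ n ih =>
      intro z hz hθ
      apply ih z _ hθ
      have h1 : (X : A[X]) • z = Yq A M z := by
        rw [θX_apply, sub_eq_zero] at hθ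
        exact hθ
      have h2 : (Dq A M ^ (n + 1)) ((X : A[X]) • z) = (Dq A M ^ n) z := by
        rw [pow_succ, Module.End.mul_apply, Dq_X_smul]
      rw [← h2, h1, Dq_pow_Yq, hz, map_zero]
  intro z hz
  obtain ⟨n, hn⟩ := exists_Dq_pow_eq_zero A M z
  exact Q n z hn hz

lemma exact_θX_εX : Function.Exact (θX A M) (εX A M) := by
  have P : ∀ (n : ℕ) (z : A[X] ⊗[A] M), (Dq A M ^ n) z = 0 → εX A M z = 0 →
      ∃ y, θX A M y = z := by
    intro n
    induction n with
    | zero => intro z hz _; exact ⟨0, by rw [map_zero]; exact hz.symm⟩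
    | succ n ih =>
      intro z hz hε
      let z' := Dq A M z
      let w := z - θX A M z'
      have hw : w = Yq A M z' + sq A M (c₀ A M z) := by
        have h1 := X_smul_Dq_add A M z
        change z - θX A M z' = _
        rw [θX_apply]
        nth_rewrite 1 [← h1]
        abel
      have hεw : εX A M w = 0 := by
        change εX A M (z - θX A M z') = 0
        rw [map_sub, hε, εX_θX, sub_zero]
      have hDw : (Dq A M ^ n) w = 0 := by
        cases n with
        | zero =>
          change w = 0
          have hz' : z' = 0 := by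
            change Dq A M z = 0
            have := hz
            rw [pow_one] at this
            exact this
          have h2 : w = sq A M (c₀ A M z) := by rw [hw, hz', map_zero, zero_add]
          have h3 : c₀ A M z = 0 := by
            have := hεw
            rw [h2, εX_sq] at this
            exact this
          rw [h2, h3, map_zero]
        | succ k =>
          rw [hw, map_add, Dq_pow_Yq]
          have e1 : (Dq A M ^ (k + 1)) z' = 0 := by
            change (Dq A M ^ (k + 1)) (Dq A M z) = 0
            rw [← Module.End.mul_apply, ← pow_succ]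
            exact hz
          have e2 : (Dq A M ^ (k + 1)) (sq A M (c₀ A M z)) = 0 := by
            rw [pow_succ, Module.End.mul_apply, Dq_sq, map_zero]
          rw [e1, e2, map_zero, add_zero]
      obtain ⟨y, hy⟩ := ih w hDw hεw
      refine ⟨y + z', ?_⟩
      rw [map_add, hy]
      change z - θX A M z' + θX A M z' = z
      abel
  intro z
  constructor
  · intro hz
    obtain ⟨n, hn⟩ := exists_Dq_pow_eq_zero A M z
    exact P n z hn hz
  · rintro ⟨y, rfl⟩
    exact εX_θX A M y

end PolyChar

end Groth.Agent.Lib.Helper18.DR
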