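import Mathlib
import Groth.Agent.Lib.Helper18.PolyChar1
import Groth.Agent.Lib.Helper18.MaxCrit2

/-!
# The characteristic triangle of an `A[X]`-module (helper18)
-/

set_option autoImplicit false
set_option linter.style.haveILetI false
universe u
open CategoryTheory CategoryTheory.Limits CategoryTheory.Pretriangulated DerivedCategory
open TensorProduct Polynomial

attribute [local instance] HasDerivedCategory.standard

namespace Groth.Agent.Lib.Helper18.DR

namespace PolyChar

variable {A : Type u} [CommRing A] (M : ModuleCat.{u} A[X])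

/-- the underlying `A`-module -/
noncomputable abbrev res₀ : ModuleCat.{u} A :=
  (ModuleCat.restrictScalars.{u} (algebraMap A A[X])).obj M

/-- the `A[X]`-module structure on the underlying `A`-module -/
noncomputable def modRes : Module A[X] (res₀ M) := inferInstanceAs (Module A[X] M)

attribute [local instance] modRes

lemma towerRes : IsScalarTower A A[X] (res₀ M) :=
  IsScalarTower.of_algebraMap_smul (fun _ _ => rfl)

attribute [local instance] towerRes

/-- `A[X] ⊗_A M` -/
noncomputable abbrev TX : ModuleCat.{u} A[X] := (extM (A := A) (B := A[X])).obj (res₀ M)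

/-- `X ⊗ 1 - 1 ⊗ X` -/
noncomputable def fθ : TX M ⟶ TX M :=
  ModuleCat.ofHom ((extMEquiv (B := A[X]) (res₀ M)).symm.toLinearMap ∘ₗ θX A (res₀ M) ∘ₗ
    (extMEquiv (B := A[X]) (res₀ M)).toLinearMap)

/-- the augmentation -/
noncomputable def gε : TX M ⟶ M :=
  ModuleCat.ofHom (Y := M) ((εX A (res₀ M)) ∘ₗ (extMEquiv (B := A[X]) (res₀ M)).toLinearMap)

lemma fθ_injective : Function.Injective (fθ M).hom := by
  intro x y hxy
  have h1 : (extMEquiv (B := A[X]) (res₀ M)).symm (θX A (res₀ M) (extMEquiv (B := A[X]) (res₀ M) x)) =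
      (extMEquiv (B := A[X]) (res₀ M)).symm (θX A (res₀ M) (extMEquiv (B := A[X]) (res₀ M) y)) := hxy
  exact (extMEquiv (B := A[X]) (res₀ M)).injective
    (θX_injective A (res₀ M) ((extMEquiv (B := A[X]) (res₀ M)).symm.injective h1))

lemma gε_surjective : Function.Surjective (gε M).hom := by
  intro m
  obtain ⟨z, hz⟩ := εX_surjective A (res₀ M) m
  exact ⟨(extMEquiv (B := A[X]) (res₀ M)).symm z, by
    change εX A (res₀ M) ((extMEquiv (B := A[X]) (res₀ M))
      ((extMEquiv (B := A[X]) (res₀ M)).symm z)) = m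
    rw [LinearEquiv.apply_symm_apply, hz]⟩

lemma exact_fθ_gε : Function.Exact (fθ M).hom (gε M).hom := by
  intro x
  change εX A (res₀ M) ((extMEquiv (B := A[X]) (res₀ M)) x) = 0 ↔ _
  rw [exact_θX_εX A (res₀ M) _]
  constructor
  · rintro ⟨y, hy⟩
    refine ⟨(extMEquiv (B := A[X]) (res₀ M)).symm y, ?_⟩
    change (extMEquiv (B := A[X]) (res₀ M)).symm (θX A (res₀ M)
      ((extMEquiv (B := A[X]) (res₀ M)) ((extMEquiv (B := A[X]) (res₀ M)).symm y))) = x
    rw [LinearEquiv.apply_symm_apply, hy, LinearEquiv.symm_apply_apply]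
  · rintro ⟨y, rfl⟩
    refine ⟨(extMEquiv (B := A[X]) (res₀ M)) y, ?_⟩
    change _ = (extMEquiv (B := A[X]) (res₀ M)) ((extMEquiv (B := A[X]) (res₀ M)).symm
      (θX A (res₀ M) ((extMEquiv (B := A[X]) (res₀ M)) y)))
    rw [LinearEquiv.apply_symm_apply]

/-- the characteristic sequence -/
noncomputable def charSC : ShortComplex (ModuleCat.{u} A[X]) :=
  ShortComplex.mk (fθ M) (gε M) (by
    refine ModuleCat.hom_ext (LinearMap.ext fun p => ?_)
    exact (exact_fθ_gε M).apply_apply_eq_zero p)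

lemma charSC_shortExact : (charSC M).ShortExact :=
  ModuleCat.shortComplex_shortExact _ (exact_fθ_gε M) (fθ_injective M) (gε_surjective M)

/-- `Hom(M, Y) = 0` as soon as `Hom(A[X] ⊗ M, Y) = 0` and `Hom((A[X] ⊗ M)[1], Y) = 0` -/
lemma subsingleton_hom_of_char (Y : Dual.D A[X]) (h₁ : Subsingleton (Sg 0 (TX M) ⟶ Y))
    (h₂ : Subsingleton ((Sg 0 (TX M))⟦(1 : ℤ)⟧ ⟶ Y)) : Subsingleton (Sg 0 M ⟶ Y) := by
  have hT := (charSC_shortExact M).singleTriangle_distinguished
  have key : ∀ ψ : Sg 0 M ⟶ Y, ψ = 0 := by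
    intro ψ
    have h0 : (charSC_shortExact M).singleTriangle.mor₂ ≫ ψ = 0 := h₁.elim _ _
    obtain ⟨χ, hχ⟩ := Triangle.yoneda_exact₃ _ hT ψ h0
    have : χ = 0 := h₂.elim _ _
    rw [hχ, this]
    exact comp_zero
  exact ⟨fun x y => by rw [key x, key y]⟩

end PolyChar

end Groth.Agent.Lib.Helper18.DR
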