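import Mathlib
import Groth.Agent.Lib.Helper18.PolyChar2
import Groth.Agent.Lib.Helper18.LBCAdj

/-!
# Flat base change is left adjoint to restriction; injective dimension over `A[X]` (helper18)
-/

set_option autoImplicit false
set_option linter.style.haveILetI false
universe u
open CategoryTheory CategoryTheory.Limits CategoryTheory.Pretriangulated DerivedCategory
open TensorProduct Polynomial

attribute [local instance] HasDerivedCategory.standard

namespace Groth.Agent.Lib.Helper18.DR

namespace PolyChar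

open HomLoc

section adj

variable (A B : Type u) [CommRing A] [CommRing B] [Algebra A B] [Module.Flat A B]

noncomputable instance catCommSqExtD :
    CatCommSq ((extM (A := A) (B := B)).mapHomologicalComplex (ComplexShape.up ℤ))
      (DerivedCategory.Q (C := ModuleCat.{u} A)) (DerivedCategory.Q (C := ModuleCat.{u} B))
      (extD A B) :=
  ⟨((extM (A := A) (B := B)).mapDerivedCategoryFactors).symm⟩

noncomputable instance catCommSqResD :
    CatCommSq ((ModuleCat.restrictScalars.{u} (algebraMap A B)).mapHomologicalComplex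
        (ComplexShape.up ℤ))
      (DerivedCategory.Q (C := ModuleCat.{u} B)) (DerivedCategory.Q (C := ModuleCat.{u} A))
      (DRing.restrictD (algebraMap A B)) :=
  ⟨((ModuleCat.restrictScalars.{u} (algebraMap A B)).mapDerivedCategoryFactors).symm⟩

/-- flat base change is left adjoint to restriction of scalars -/
noncomputable def adjFlat : extD A B ⊣ DRing.restrictD (algebraMap A B) :=
  (LBCAdj.adjCx (ComplexShape.up ℤ)
      (ModuleCat.extendRestrictScalarsAdj.{u, u, u} (algebraMap A B))).localization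
    (DerivedCategory.Q (C := ModuleCat.{u} A))
    (HomologicalComplex.quasiIso (ModuleCat.{u} A) (ComplexShape.up ℤ))
    (DerivedCategory.Q (C := ModuleCat.{u} B))
    (HomologicalComplex.quasiIso (ModuleCat.{u} B) (ComplexShape.up ℤ))
    (extD A B) (DRing.restrictD (algebraMap A B))

end adj

section shift

variable {R : Type u} [CommRing R]

/-- `Hom(X⟦1⟧, Y⟦i⟧)` embeds in `Hom(X, Y⟦j⟧)` for `j + 1 = i` -/
lemma subsingleton_hom_shift_one (X Y : Dual.D R) (i j : ℤ) (hij : j + 1 = i)
    (h : Subsingleton (X ⟶ Y⟦j⟧)) : Subsingleton (X⟦(1 : ℤ)⟧ ⟶ Y⟦i⟧) := by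
  let e₂ : Y⟦j⟧⟦(1 : ℤ)⟧ ≅ Y⟦i⟧ := ((shiftFunctorAdd' (Dual.D R) j 1 i hij).app Y).symm
  refine ⟨fun x y => ?_⟩
  obtain ⟨x', hx'⟩ := (shiftFunctor (Dual.D R) (1 : ℤ)).map_surjective (x ≫ e₂.inv)
  obtain ⟨y', hy'⟩ := (shiftFunctor (Dual.D R) (1 : ℤ)).map_surjective (y ≫ e₂.inv)
  have hxy : x' = y' := h.elim _ _
  rw [← cancel_mono e₂.inv, ← hx', ← hy', hxy]

end shift

section fid

variable {A B : Type u} [CommRing A] [CommRing B] [Algebra A B] [Module.Flat A B]

/-- vanishing of `Hom(N, res K [i])` gives vanishing of `Hom(N ⊗ B, K[i])` -/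
lemma subsingleton_hom_extM (N : ModuleCat.{u} A) (K : Dual.D B) (i : ℤ)
    (h : Subsingleton (Sg 0 N ⟶ ((DRing.restrictD (algebraMap A B)).obj K)⟦i⟧)) :
    Subsingleton (Sg 0 ((extM (A := A) (B := B)).obj N) ⟶ K⟦i⟧) := by
  let σ : (extD A B).obj (Sg 0 N) ≅ Sg 0 ((extM (A := A) (B := B)).obj N) :=
    mapDSgIso (extM (A := A) (B := B)) 0 N
  let c := ((DRing.restrictD (algebraMap A B)).commShiftIso i).app K
  let eqv := (adjFlat A B).homEquiv (Sg 0 N) (K⟦i⟧)
  refine ⟨fun x y => ?_⟩
  have h1 : eqv (σ.hom ≫ x) ≫ c.hom = eqv (σ.hom ≫ y) ≫ c.hom := h.elim _ _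
  have h2 : eqv (σ.hom ≫ x) = eqv (σ.hom ≫ y) := (cancel_mono c.hom).1 h1
  exact (cancel_epi σ.hom).1 (eqv.injective h2)

end fid

section poly

variable {A : Type u} [CommRing A]

/-- injective dimension over `A[X]` is controlled by injective dimension over `A` -/
theorem fidIn_of_restrict (K : Dual.D A[X]) (a b : ℤ)
    (h : FidIn ((DRing.restrictD (algebraMap A A[X])).obj K) a b) : FidIn K a (b + 1) := by
  intro M _ _ i hi
  let M' : ModuleCat.{u} A[X] := ModuleCat.of A[X] M
  refine subsingleton_hom_of_char M' (K⟦i⟧) ?_ ?_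
  · exact subsingleton_hom_extM (res₀ M') K i (h (res₀ M') i (by omega))
  · refine subsingleton_hom_shift_one _ K i (i - 1) (by omega) ?_
    exact subsingleton_hom_extM (res₀ M') K (i - 1) (h (res₀ M') (i - 1) (by omega))

end poly

end PolyChar

end Groth.Agent.Lib.Helper18.DR
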