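import Mathlib
import Groth.Agent.Lib.Helper18.PolyChar3

/-!
# Direct sums of injective modules over a Noetherian ring; `A[X] ⊗ E` is `A`-injective (helper18)
-/

set_option autoImplicit false
set_option linter.style.haveILetI false
universe u
open CategoryTheory CategoryTheory.Limits CategoryTheory.Pretriangulated DerivedCategory
open TensorProduct Polynomial

attribute [local instance] HasDerivedCategory.standard

namespace Groth.Agent.Lib.Helper18.DR

namespace PolyChar

open HomLoc

section baer

variable {R : Type u} [CommRing R] [IsNoetherianRing R] (ι : Type*) (E : Type u) [AddCommGroup E]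
  [Module R E]

/-- a direct sum of modules satisfying Baer's criterion over a Noetherian ring satisfies it -/
theorem baer_finsupp (hE : Module.Baer R E) : Module.Baer R (ι →₀ E) := by
  classical
  intro I g
  have hfg : (LinearMap.range g).FG := by
    rw [LinearMap.range_eq_map]
    exact ((Submodule.fg_top I).2 (IsNoetherian.noetherian I)).map g
  obtain ⟨u, hu⟩ := hfg
  let s : Finset ι := u.biUnion Finsupp.support
  have hs : ∀ x : I, g x ∈ Finsupp.supported E R (s : Set ι) := by
    have hle : LinearMap.range g ≤ Finsupp.supported E R (s : Set ι) := by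
      rw [← hu, Submodule.span_le]
      intro y hy
      rw [SetLike.mem_coe, Finsupp.mem_supported]
      intro i hi
      exact Finset.mem_biUnion.2 ⟨y, hy, hi⟩
    exact fun x => hle ⟨x, rfl⟩
  choose g' hg' using fun i : ι => hE I ((Finsupp.lapply i) ∘ₗ g)
  refine ⟨∑ i ∈ s, (Finsupp.lsingle i) ∘ₗ (g' i), fun x hx => ?_⟩
  ext j
  rw [LinearMap.sum_apply, Finsupp.finset_sum_apply]
  have h1 : ∀ i ∈ s, (((Finsupp.lsingle i) ∘ₗ (g' i)) x) j =
      if i = j then (g ⟨x, hx⟩) i else 0 := by
    intro i _
    rw [LinearMap.comp_apply, Finsupp.lsingle_apply, Finsupp.single_apply, hg' i x hx,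
      LinearMap.comp_apply, Finsupp.lapply_apply]
  rw [Finset.sum_congr rfl h1, Finset.sum_ite_eq']
  split_ifs with hj
  · rfl
  · have := hs ⟨x, hx⟩
    rw [Finsupp.mem_supported] at this
    by_contra hne
    exact hj (this (Finsupp.mem_support_iff.2 (Ne.symm hne)))

end baer

section poly

variable {A : Type u} [CommRing A] [IsNoetherianRing A]

/-- `A[X] ⊗ E` is injective as an `A`-module when `E` is -/
lemma injective_res_ext (E : ModuleCat.{u} A) [Module.Injective A E] :
    Module.Injective A ((ModuleCat.restrictScalars.{u} (algebraMap A A[X])).obj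
      ((extM (A := A) (B := A[X])).obj E)) := by
  let e₁ : ((ModuleCat.restrictScalars.{u} (algebraMap A A[X])).obj
      ((extM (A := A) (B := A[X])).obj E)) ≃ₗ[A] A[X] ⊗[A] E :=
    { toFun := fun x => extMEquiv (B := A[X]) E x
      invFun := fun y => (extMEquiv (B := A[X]) E).symm y
      map_add' := fun x y => map_add (extMEquiv (B := A[X]) E) x y
      map_smul' := fun a x => by
        have h := map_smul (extMEquiv (B := A[X]) E) (algebraMap A A[X] a)
          (show ↑((extM (A := A) (B := A[X])).obj E) from x)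
        exact h.trans (algebraMap_smul A[X] a _)
      left_inv := fun x => (extMEquiv (B := A[X]) E).symm_apply_apply x
      right_inv := fun y => (extMEquiv (B := A[X]) E).apply_symm_apply y }
  let e₂ : A[X] ⊗[A] E ≃ₗ[A] (ℕ →₀ E) :=
    (TensorProduct.congr (Polynomial.basisMonomials A).repr (LinearEquiv.refl A E)).trans
      (TensorProduct.finsuppScalarLeft A E ℕ)
  have hB : Module.Baer A (ℕ →₀ E) :=
    baer_finsupp ℕ E (Module.Baer.of_injective inferInstance)
  exact (Module.Baer.of_equiv (e₁.trans e₂).symm hB).injective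

lemma hasInjAmplitudeIn_of_iso {R : Type u} [CommRing R] {K K' : Dual.D R} (e : K ≅ K')
    {a b : ℤ} (h : DRing.HasInjAmplitudeIn R a b K) : DRing.HasInjAmplitudeIn R a b K' := by
  obtain ⟨E, hE, hinj, ⟨e'⟩⟩ := h
  exact ⟨E, hE, hinj, ⟨e' ≪≫ e⟩⟩

/-- injective amplitude of `res (ω ⊗ A[X])` -/
theorem hasInjAmplitudeIn_res_extD (ω : Dual.D A) (a b : ℤ)
    (h : DRing.HasInjAmplitudeIn A a b ω) :
    DRing.HasInjAmplitudeIn A a b
      ((DRing.restrictD (algebraMap A A[X])).obj ((extD A A[X]).obj ω)) := by
  obtain ⟨E, hE, hinj, ⟨e⟩⟩ := h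
  let E₁ := (mapCx (extM (A := A) (B := A[X]))).obj E
  let E₂ := (mapCx (ModuleCat.restrictScalars.{u} (algebraMap A A[X]))).obj E₁
  refine ⟨E₂, ?_, ?_, ⟨?_⟩⟩
  · exact vanishesOutside_mapCx _ E₁ a b (vanishesOutside_mapCx _ E a b hE)
  · intro i
    haveI := hinj i
    exact injective_res_ext (E.X i)
  · exact (mapDToDIso (ModuleCat.restrictScalars.{u} (algebraMap A A[X])) E₁).symm ≪≫
      (DRing.restrictD (algebraMap A A[X])).mapIso
        ((mapDToDIso (extM (A := A) (B := A[X])) E).symm ≪≫ (extD A A[X]).mapIso e)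

/-- finite injective dimension of `ω ⊗ A[X]` over `A[X]` -/
theorem fidIn_extD_polynomial (ω : Dual.D A) (a b : ℤ) (h : FidIn ω a b) :
    FidIn ((extD A A[X]).obj ω) a (b + 1) := by
  have h1 : DRing.HasInjAmplitudeIn A a b ω := ((injAmp_tfae ω a b).out 0 1).2 h
  have h2 := hasInjAmplitudeIn_res_extD ω a b h1
  have h3 : FidIn ((DRing.restrictD (algebraMap A A[X])).obj ((extD A A[X]).obj ω)) a b :=
    ((injAmp_tfae _ a b).out 0 1).1 h2
  exact fidIn_of_restrict _ a b h3

end poly

end PolyChar

end Groth.Agent.Lib.Helper18.DR
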