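import Mathlib
import Groth.Agent.Lib.Helper18.PolyChar4
import Groth.Agent.Lib.Helper18.MaxCrit4

/-!
# Dualizing complexes and injective modules over polynomial rings (helper18)
-/

set_option autoImplicit false
set_option linter.style.haveILetI false
universe u
open CategoryTheory CategoryTheory.Limits CategoryTheory.Pretriangulated DerivedCategory
open TensorProduct Polynomial

attribute [local instance] HasDerivedCategory.standard

namespace Groth.Agent.Lib.Helper18.DR

namespace PolyChar

open HomLoc HomBC MaxCrit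

section inj

variable {R : Type u} [CommRing R]

lemma hasInjAmplitudeIn_Sg_of_injective (E : ModuleCat.{u} R) [Module.Injective R E] :
    DRing.HasInjAmplitudeIn R 0 0 (Sg 0 E) := by
  refine ⟨(CochainComplex.singleFunctor (ModuleCat.{u} R) 0).obj E, fun i hi => ?_, fun i => ?_,
    ⟨((DerivedCategory.singleFunctorIsoCompQ (ModuleCat.{u} R) 0).app E).symm⟩⟩
  · exact HomologicalComplex.isZero_single_obj_X (ComplexShape.up ℤ) 0 _ i (by omega)
  · by_cases hi : i = 0
    · subst hi
      exact (Module.Baer.of_equiv
        (HomologicalComplex.singleObjXSelf (ComplexShape.up ℤ) 0 E).toLinearEquiv.symm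
        (Module.Baer.of_injective inferInstance)).injective
    · haveI : Subsingleton (((CochainComplex.singleFunctor (ModuleCat.{u} R) 0).obj E).X i) :=
        ModuleCat.subsingleton_of_isZero
          (HomologicalComplex.isZero_single_obj_X (ComplexShape.up ℤ) 0 _ i hi)
      have hB : Module.Baer R (((CochainComplex.singleFunctor (ModuleCat.{u} R) 0).obj E).X i) :=
        fun I g => ⟨0, fun x hx => Subsingleton.elim _ _⟩
      exact hB.injective

end inj

section poly

variable {A : Type u} [CommRing A] [IsNoetherianRing A]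

/-- S1776 (termwise form) -/
theorem isDualizing_extD_polynomial (ω : Dual.D A) (hω : Dual.IsDualizing A ω) :
    Dual.IsDualizing A[X] ((extD A A[X]).obj ω) := by
  obtain ⟨a, b, hab⟩ := hω.finite_injective_dimension
  exact ⟨inferInstance, ⟨a, b + 1, fidIn_extD_polynomial ω a b hab⟩, finite_HD_extD ω hω,
    toEnd_bijective_extD ω hω, ext_self_subsingleton_extD ω hω⟩

/-- S1748 -/
theorem hasInjAmplitudeIn_polynomial_tensor (E : Type u) [AddCommGroup E] [Module A E]
    [Module.Injective A E] :
    DRing.HasInjAmplitudeIn A[X] 0 1 (Dual.inD A[X] (A[X] ⊗[A] E)) := by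
  have h0 : DRing.HasInjAmplitudeIn A 0 0 (Sg 0 (ModuleCat.of A E)) :=
    hasInjAmplitudeIn_Sg_of_injective (ModuleCat.of A E)
  have h1 : FidIn (Sg 0 (ModuleCat.of A E)) 0 0 := ((injAmp_tfae _ 0 0).out 0 1).1 h0
  have h2 := fidIn_extD_polynomial _ 0 0 h1
  have h3 : DRing.HasInjAmplitudeIn A[X] 0 (0 + 1) ((extD A A[X]).obj (Dual.inD A E)) :=
    ((injAmp_tfae _ 0 (0 + 1)).out 0 1).2 h2
  exact hasInjAmplitudeIn_of_iso (extDInDIso E) h3

end poly

end PolyChar

end Groth.Agent.Lib.Helper18.DR
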