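import Mathlib
import Groth.Agent.Lib.Helper18.BidE
import Groth.Agent.Lib.Helper18.PolyChar5
import Groth.Agent.Lib.Helper18.InvTwistA
import Groth.Prelude.Def_DualSh

/-!
# `φ^!` of a dualizing complex is dualizing (helper18)
-/

set_option autoImplicit false
set_option linter.style.haveILetI false
universe u
open CategoryTheory CategoryTheory.Limits CategoryTheory.Pretriangulated DerivedCategory

attribute [local instance] HasDerivedCategory.standard

namespace Groth.Agent.Lib.Helper18.DR

namespace Bid

open HomLoc HomBC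

section tower

variable {R₁ R₂ R₃ : Type u} [CommRing R₁] [CommRing R₂] [CommRing R₃]

/-- left adjoints of restriction of scalars compose -/
noncomputable def leftAdjCompIso (f : R₁ →+* R₂) (g : R₂ →+* R₃) (gf : R₁ →+* R₃)
    (h : gf = g.comp f) (Lf : Dual.D R₁ ⥤ Dual.D R₂) (Lg : Dual.D R₂ ⥤ Dual.D R₃)
    (Lgf : Dual.D R₁ ⥤ Dual.D R₃) (af : Lf ⊣ DRing.restrictD f) (ag : Lg ⊣ DRing.restrictD g)
    (agf : Lgf ⊣ DRing.restrictD gf) : Lgf ≅ Lf ⋙ Lg :=
  Adjunction.leftAdjointUniq agf ((af.comp ag).ofNatIsoRight (Shr.resCompIso f g gf h).symm)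

end tower

section bij

variable {A B : Type u} [CommRing A] [CommRing B] [Algebra A B] [IsNoetherianRing A]

/-- base change along an isomorphism preserves dualizing complexes -/
theorem isDualizing_extD_of_bijective (hb : Function.Bijective (algebraMap A B))
    [Module.Flat A B] [IsNoetherianRing B]
    (ω : Dual.D A) (hω : Dual.IsDualizing A ω) :
    Dual.IsDualizing B ((extD A B).obj ω) := by
  refine MaxCrit.isDualizing_extD_of_maximal_map ω hω (fun m' _ => ?_)
  exact ⟨m'.comap (algebraMap A B), Ideal.map_comap_of_surjective _ hb.2 m'⟩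

end bij

section mv

variable (R : Type u) [CommRing R] [IsNoetherianRing R]

/-- termwise base change to a polynomial ring in finitely many variables preserves dualizing
complexes -/
theorem isDualizing_extD_mvPolynomial : ∀ (n : ℕ) (ω : Dual.D R) (_ : Dual.IsDualizing R ω),
    Dual.IsDualizing (MvPolynomial (Fin n) R) ((extD R (MvPolynomial (Fin n) R)).obj ω)
  | 0, ω, hω => by
    have hb : Function.Bijective (algebraMap R (MvPolynomial (Fin 0) R)) := by
      have : (algebraMap R (MvPolynomial (Fin 0) R) : R → MvPolynomial (Fin 0) R) =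
          (MvPolynomial.isEmptyAlgEquiv R (Fin 0)).symm := by
        funext r
        exact ((MvPolynomial.isEmptyAlgEquiv R (Fin 0)).symm.commutes r).symm
      rw [this]
      exact (MvPolynomial.isEmptyAlgEquiv R (Fin 0)).symm.bijective
    exact isDualizing_extD_of_bijective hb ω hω
  | n + 1, ω, hω => by
    let Pn := MvPolynomial (Fin n) R
    let Q := Polynomial Pn
    let P' := MvPolynomial (Fin (n + 1)) R
    let σ : P' ≃ₐ[R] Q := MvPolynomial.finSuccEquiv R n
    letI : Algebra Q P' := σ.symm.toAlgHom.toRingHom.toAlgebra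
    have hb : Function.Bijective (algebraMap Q P') := σ.symm.bijective
    haveI : Module.Flat Q P' := by
      let e : Q ≃ₗ[Q] P' :=
        { toFun := fun q => σ.symm q
          invFun := fun p => σ p
          left_inv := fun q => σ.apply_symm_apply q
          right_inv := fun p => σ.symm_apply_apply p
          map_add' := fun x y => map_add σ.symm x y
          map_smul' := fun c x => by
            change σ.symm (c * x) = σ.symm c * σ.symm x
            exact map_mul σ.symm c x }
      exact Module.Flat.of_linearEquiv e.symm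
    haveI : Module.Flat R Q := Module.Flat.trans R Pn Q
    have h1 := isDualizing_extD_mvPolynomial n ω hω
    have h2 : Dual.IsDualizing Q ((extD Pn Q).obj ((extD R Pn).obj ω)) :=
      PolyChar.isDualizing_extD_polynomial _ h1
    have h3 : Dual.IsDualizing P' ((extD Q P').obj ((extD Pn Q).obj ((extD R Pn).obj ω))) :=
      isDualizing_extD_of_bijective hb _ h2
    have hc1 : algebraMap R Q = (algebraMap Pn Q).comp (algebraMap R Pn) := rfl
    have hc2 : algebraMap R P' = (algebraMap Q P').comp (algebraMap R Q) := by
      refine RingHom.ext (fun r => ?_)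
      exact (σ.symm.commutes r).symm
    let i1 := leftAdjCompIso (algebraMap R Pn) (algebraMap Pn Q) (algebraMap R Q) hc1
      (extD R Pn) (extD Pn Q) (extD R Q) (Shr.extAdj R Pn) (Shr.extAdj Pn Q) (Shr.extAdj R Q)
    let i2 := leftAdjCompIso (algebraMap R Q) (algebraMap Q P') (algebraMap R P') hc2
      (extD R Q) (extD Q P') (extD R P') (Shr.extAdj R Q) (Shr.extAdj Q P') (Shr.extAdj R P')
    exact isDualizing_of_iso (i2.app ω ≪≫ (extD Q P').mapIso (i1.app ω)).symm h3

end mv

section shriek

variable (R A : Type u) [CommRing R] [CommRing A] [IsNoetherianRing R] [IsNoetherianRing A]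
  [Algebra R A]

/-- **S1782** -/
theorem isDualizing_shriekVia (n : ℕ) (ψ : MvPolynomial (Fin n) R →ₐ[R] A)
    (hψ : Function.Surjective ψ)
    [DRing.HasLBaseChange (algebraMap R (MvPolynomial (Fin n) R))]
    (Rψ : Dual.D (MvPolynomial (Fin n) R) ⥤ Dual.D A) (adj : DRing.restrictD ψ.toRingHom ⊣ Rψ)
    (ω : Dual.D R) (hω : Dual.IsDualizing R ω) :
    Dual.IsDualizing A (Dual2.shriekVia n Rψ ω) := by
  obtain ⟨e⟩ := nonempty_LBaseChange_iso_extD (A := R) (B := MvPolynomial (Fin n) R) ω
  have h1 : Dual.IsDualizing (MvPolynomial (Fin n) R)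
      ((DRing.LBaseChange (algebraMap R (MvPolynomial (Fin n) R))).obj ω) :=
    isDualizing_of_iso e.symm (isDualizing_extD_mvPolynomial R n ω hω)
  letI : Algebra (MvPolynomial (Fin n) R) A := ψ.toRingHom.toAlgebra
  haveI : Module.Finite (MvPolynomial (Fin n) R) A :=
    Module.Finite.of_surjective (Algebra.linearMap (MvPolynomial (Fin n) R) A) hψ
  have h2 := isDualizing_rightAdjoint (A := MvPolynomial (Fin n) R) (B := A) Rψ adj _ h1
  exact InvTwist.isDualizing_shift _ h2 _

end shriek

end Bid

end Groth.Agent.Lib.Helper18.DR
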