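import Mathlib
import Groth.Agent.Lib.Helper18.HomLoc7

/-!
# Dualizing complexes: local to global on a finite standard open cover (helper18)
-/

set_option autoImplicit false
set_option linter.style.haveILetI false
universe u
open CategoryTheory CategoryTheory.Limits CategoryTheory.Pretriangulated DerivedCategory

attribute [local instance] HasDerivedCategory.standard

namespace Groth.Agent.Lib.Helper18.DR

namespace HomLoc

section fin

variable {A : Type u} [CommRing A] (S : Submonoid A) {ω : Dual.D A}
  {ωB : Dual.D (Localization S)}

lemma finite_localizedModule_HD (hloc : IsLocOf S (Localization S) ω ωB) (j : ℤ)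
    [Module.Finite (Localization S) (Dual.HD (Localization S) ωB j)] :
    Module.Finite (Localization S) (LocalizedModule S ((H A j).obj ω)) := by
  obtain ⟨η, hη, -⟩ := hloc
  haveI hl : IsLocalizedModule S (Hη η j).hom := isLocalizedModule_Hη S hη j
  let Mp : Type u := ((ModuleCat.restrictScalars.{u} (algebraMap A (Localization S))).obj
    ((H (Localization S) j).obj ωB))
  letI iB : Module (Localization S) Mp :=
    inferInstanceAs (Module (Localization S) ((H (Localization S) j).obj ωB))
  haveI : IsScalarTower A (Localization S) Mp :=
    ⟨fun a b v => by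
      rw [Algebra.smul_def, mul_smul]
      rfl⟩
  haveI : Module.Finite (Localization S) Mp :=
    inferInstanceAs (Module.Finite (Localization S) (Dual.HD (Localization S) ωB j))
  let e : LocalizedModule S ((H A j).obj ω) ≃ₗ[A] Mp := IsLocalizedModule.iso S (Hη η j).hom
  exact Module.Finite.equiv (e.extendScalarsOfIsLocalization S (Localization S)).symm

end fin

section main

variable {A : Type u} [CommRing A] [IsNoetherianRing A]

/-- S1787, abstract form -/
theorem isDualizing_of_away_cover {n : ℕ} (f : Fin n → A) (hf : Ideal.span (Set.range f) = ⊤)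
    (ω : Dual.D A) (ωB : ∀ k, Dual.D (Localization.Away (f k)))
    (hloc : ∀ k, IsLocOf (Submonoid.powers (f k)) (Localization.Away (f k)) ω (ωB k))
    (hdual : ∀ k, Dual.IsDualizing (Localization.Away (f k)) (ωB k)) : Dual.IsDualizing A ω := by
  have hcov := covers_powers f hf
  choose ak bk hk using fun k => (hdual k).finite_injective_dimension
  obtain ⟨b, hb⟩ := (Set.finite_range bk).bddAbove
  obtain ⟨a, ha⟩ := (Set.finite_range ak).bddBelow
  have hB : ∀ k, FidIn (ωB k) a b := fun k =>
    FidIn.mono (hk k) (ha ⟨k, rfl⟩) (hb ⟨k, rfl⟩)
  have hfid : FidIn ω a b :=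
    fidIn_of_covers (fun k => Submonoid.powers (f k)) hcov
      (fun k => Localization.Away (f k)) ωB hloc hB
  have hfin : ∀ j : ℤ, Module.Finite A (Dual.HD A ω j) := by
    intro j
    refine Module.Finite.of_localizationSpan (Set.range f) hf ?_
    rintro ⟨_, k, rfl⟩
    haveI := (hdual k).finite_cohomology j
    exact finite_localizedModule_HD (Submonoid.powers (f k)) (hloc k) j
  exact isDualizing_of_covers hfid hfin (fun k => Submonoid.powers (f k)) hcov
    (fun k => Localization.Away (f k)) ωB hloc hdual

/-- S1787 -/
theorem isDualizing_of_LBaseChange_away_cover (n : ℕ) (f : Fin n → A)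
    (hf : Ideal.span (Set.range f) = ⊤) (ω : Dual.D A)
    (h : ∀ i : Fin n, ∃ _ : DRing.HasLBaseChange (algebraMap A (Localization.Away (f i))),
      Dual.IsDualizing (Localization.Away (f i))
        ((DRing.LBaseChange (algebraMap A (Localization.Away (f i)))).obj ω)) :
    Dual.IsDualizing A ω := by
  choose inst hd using h
  exact isDualizing_of_away_cover f hf ω
    (fun k => (@DRing.LBaseChange _ _ _ _ (algebraMap A (Localization.Away (f k))) (inst k)).obj ω)
    (fun k => @isLocOf_LBC _ _ (Submonoid.powers (f k)) (Localization.Away (f k)) _ _ _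
      (inst k) ω) hd

end main

end HomLoc

end Groth.Agent.Lib.Helper18.DR
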