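import Mathlib
import Groth.Agent.Lib.Helper18.HomLoc9
import Groth.Agent.Lib.Helper18.MaxCrit4

/-!
# Dimension functions from dualizing complexes, I: localization of `Ext(M, ω)` (helper18)
-/

set_option autoImplicit false
set_option linter.style.haveILetI false
universe u
open CategoryTheory CategoryTheory.Limits CategoryTheory.Pretriangulated DerivedCategory

attribute [local instance] HasDerivedCategory.standard

namespace Groth.Agent.Lib.Helper18.DR

namespace Dim

open HomLoc HomBC MaxCrit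

section locof

variable {A : Type u} [CommRing A] (S : Submonoid A) (B : Type u) [CommRing B] [Algebra A B]
  [IsLocalization S B]

/-- flat base change to a localization is "the localization" -/
lemma isLocOf_extD (ω : Dual.D A) :
    haveI : Module.Flat A B := IsLocalization.flat B S
    IsLocOf S B ω ((extD A B).obj ω) := by
  haveI : Module.Flat A B := IsLocalization.flat B S
  obtain ⟨P, hP, -, ⟨e⟩⟩ := exists_kprojective_resolution ω
  haveI := hP
  exact (isLocOf_Q S B P).of_iso e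
    ((mapDToDIso (extM (A := A) (B := B)) P).symm ≪≫ (extD A B).mapIso e)

end locof

section shift

variable {A : Type u} [CommRing A]

/-- `Hom(M[-i], K) → Hom(M[0], K[i])` -/
noncomputable def shHom (M : ModuleCat.{u} A) (K : Dual.D A) (i : ℤ) (α : Sg i M ⟶ K) :
    Sg 0 M ⟶ K⟦i⟧ :=
  (SgShiftIso i 0 i (by omega) M).inv ≫ α⟦i⟧'

lemma shHom_bijective (M : ModuleCat.{u} A) (K : Dual.D A) (i : ℤ) :
    Function.Bijective (shHom M K i) := by
  constructor
  · intro α β h
    exact (shiftFunctor (Dual.D A) i).map_injective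
      ((cancel_epi (SgShiftIso i 0 i (by omega) M).inv).1 h)
  · intro φ
    obtain ⟨α, hα⟩ := (shiftFunctor (Dual.D A) i).map_surjective
      ((SgShiftIso i 0 i (by omega) M).hom ≫ φ)
    refine ⟨α, ?_⟩
    change (SgShiftIso i 0 i (by omega) M).inv ≫ α⟦i⟧' = φ
    rw [hα, Iso.inv_hom_id_assoc]

lemma shHom_smul (M : ModuleCat.{u} A) (K : Dual.D A) (i : ℤ) (a : A) (α : Sg i M ⟶ K) :
    shHom M K i (a • α) = a • shHom M K i α := by
  change _ ≫ (a • α)⟦i⟧' = a • (_ ≫ α⟦i⟧')
  rw [Functor.map_smul, Linear.comp_smul]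

lemma shHom_zero (M : ModuleCat.{u} A) (K : Dual.D A) (i : ℤ) : shHom M K i 0 = 0 := by
  change _ ≫ (0 : Sg i M ⟶ K)⟦i⟧' = 0
  rw [Functor.map_zero, comp_zero]

end shift

section main

variable {A : Type u} [CommRing A] [IsNoetherianRing A] (S : Submonoid A) {B : Type u} [CommRing B]
  [Algebra A B] [IsLocalization S B] {ω : Dual.D A} {ωB : Dual.D B}

/-- **(L1)**: `Ext^i_A(M, ω)` localizes to `Ext^i_B(B ⊗ M, ω_B)`; triviality criterion -/
theorem subsingleton_localizedModule_hom_iff (hloc : IsLocOf S B ω ωB) (n₀ : ℤ) [ω.IsGE n₀]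
    (M : ModuleCat.{u} A) [Module.Finite A M] (i : ℤ) :
    Subsingleton (LocalizedModule S (Sg 0 M ⟶ ω⟦i⟧)) ↔
      Subsingleton (Sg 0 ((extM (A := A) (B := B)).obj M) ⟶ ωB⟦i⟧) := by
  haveI : Module.Flat A B := IsLocalization.flat B S
  rw [LocalizedModule.subsingleton_iff, subsingleton_extD_iff]
  constructor
  · intro h
    obtain ⟨η, hη, hb⟩ := hloc
    haveI := isGE_restrict_of_sloc S hη n₀
    have hLP : LocProp S η (Sg i M) :=
      locProp_of_isPseudoCoherent' hη n₀ _ (isPseudoCoherent'_Sg_of_finite M i)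
    obtain ⟨eq⟩ := nonempty_homSg_equiv (B := B) M i ωB
    have hz : ∀ g : Sg i M ⟶ (DRing.restrictD (algebraMap A B)).obj ωB, g = 0 := by
      intro g
      obtain ⟨s, hs, ψ, hψ⟩ := hLP.surj g
      obtain ⟨t, ht, h1⟩ := h (shHom M ω i ψ)
      have h2 : t • ψ = 0 := by
        apply (shHom_bijective M ω i).1
        rw [shHom_smul, h1, shHom_zero]
      have h3 : ((t * s : A)) • g = 0 := by
        rw [mul_smul, hψ, ← Linear.smul_comp, h2, zero_comp]
      exact eq_zero_of_smul_eq_zero S ωB ⟨t * s, S.mul_mem ht hs⟩ g h3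
    refine ⟨fun x y => ?_⟩
    have h1 : eq x = eq y := (hz _).trans (hz _).symm
    exact eq.injective h1
  · intro h g
    obtain ⟨α, rfl⟩ := (shHom_bijective M ω i).2 g
    obtain ⟨s, hs, h1⟩ := exists_smul_homSg_eq_zero S hloc n₀ M i (fun x => h.elim _ _) α
    exact ⟨s, hs, by rw [← shHom_smul, h1, shHom_zero]⟩

/-- the same for a quotient `A ⧸ I` -/
theorem subsingleton_localizedModule_hom_quot_iff (hloc : IsLocOf S B ω ωB) (n₀ : ℤ) [ω.IsGE n₀]
    (I : Ideal A) (i : ℤ) :
    Subsingleton (LocalizedModule S (Sg 0 (ModuleCat.of A (A ⧸ I)) ⟶ ω⟦i⟧)) ↔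
      Subsingleton (Sg 0 (ModuleCat.of B (B ⧸ I.map (algebraMap A B))) ⟶ ωB⟦i⟧) := by
  haveI : Module.Finite A (ModuleCat.of A (A ⧸ I)) :=
    Module.Finite.of_surjective (Submodule.mkQ I) (Submodule.mkQ_surjective I)
  rw [subsingleton_localizedModule_hom_iff S hloc n₀ (ModuleCat.of A (A ⧸ I)) i]
  let iso : Sg 0 ((extM (A := A) (B := B)).obj (ModuleCat.of A (A ⧸ I))) ≅
      Sg 0 (ModuleCat.of B (B ⧸ I.map (algebraMap A B))) :=
    (singleFunctor (ModuleCat.{u} B) 0).mapIso (extMQuotIso I)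
  constructor
  · intro h
    exact ⟨fun x y => by
      rw [← cancel_epi iso.hom]
      exact h.elim _ _⟩
  · intro h
    exact ⟨fun x y => by
      rw [← cancel_epi iso.inv]
      exact h.elim _ _⟩

end main

end Dim

end Groth.Agent.Lib.Helper18.DR
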