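import Mathlib
import Groth.Agent.Lib.Helper18.DimA
import Groth.Agent.Lib.Helper18.UniqB

/-!
# Dimension functions from dualizing complexes, II: one step down in a local ring (helper18)
-/

set_option autoImplicit false
set_option linter.style.haveILetI false
universe u
open CategoryTheory CategoryTheory.Limits CategoryTheory.Pretriangulated DerivedCategory

attribute [local instance] HasDerivedCategory.standard

namespace Groth.Agent.Lib.Helper18.DR

namespace Dim

open HomLoc HomBC MaxCrit Uniq Norm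

section fl

variable {B : Type u} [CommRing B] [IsLocalRing B]

/-- vanishing of `Hom(N[0], W)` for finite length `N` follows from the residue field -/
theorem subsingleton_hom_of_isFiniteLength' (W : Dual.D B)
    (hκ : Subsingleton (Sg 0 (kap B) ⟶ W))
    (N : Type u) [AddCommGroup N] [Module B N] (hN : IsFiniteLength B N) :
    Subsingleton (Sg 0 (ModuleCat.of B N) ⟶ W) := by
  induction hN with
  | @of_subsingleton M _ _ _ =>
    have hz : IsZero (Sg 0 (ModuleCat.of B M)) :=
      (DerivedCategory.singleFunctor (ModuleCat.{u} B) 0).map_isZero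
        (ModuleCat.isZero_of_subsingleton (ModuleCat.of B M))
    exact ⟨fun f g => hz.eq_of_src f g⟩
  | @of_simple_quotient M _ _ N' hs hN' ih =>
    obtain ⟨I, hI, ⟨e⟩⟩ := isSimpleModule_iff_quot_maximal.1 hs
    obtain rfl := IsLocalRing.eq_maximalIdeal hI
    have h3 : Subsingleton (Sg 0 (ModuleCat.of B (M ⧸ N')) ⟶ W) := by
      refine ⟨fun x y => ?_⟩
      rw [← cancel_epi ((DerivedCategory.singleFunctor (ModuleCat.{u} B) 0).map
        e.toModuleIso.inv)]
      exact Subsingleton.elim _ _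
    exact Bid.subsingleton_hom_obj₂ (subSC_shortExact N').singleTriangle
      (subSC_shortExact N').singleTriangle_distinguished W ih h3

variable [IsNoetherianRing B]

/-- `B ⧸ (P + x)` has finite length if `P` is covered by the maximal ideal -/
lemma isFiniteLength_quot_sup_span (P : Ideal B) (hcov : ∀ Q : Ideal B, Q.IsPrime → P ≤ Q →
      Q = P ∨ Q = IsLocalRing.maximalIdeal B)
    (x : B) (hx : x ∈ IsLocalRing.maximalIdeal B) (hxP : x ∉ P)
    (hPm : P ≤ IsLocalRing.maximalIdeal B) :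
    IsFiniteLength B (B ⧸ (P ⊔ Ideal.span {x})) := by
  have hI : P ⊔ Ideal.span {x} ≤ IsLocalRing.maximalIdeal B :=
    sup_le hPm ((Ideal.span_singleton_le_iff_mem _).2 hx)
  have hp : IsLocalRing.maximalIdeal B ∈ (P ⊔ Ideal.span {x}).minimalPrimes := by
    refine ⟨⟨inferInstance, hI⟩, ?_⟩
    rintro Q ⟨hQ, hle⟩ _
    rcases hcov Q hQ (le_sup_left.trans hle) with h | h
    · exfalso
      apply hxP
      rw [← h]
      exact hle (Ideal.mem_sup_right (Ideal.subset_span rfl))
    · exact h.ge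
  haveI : IsArtinianRing (B ⧸ (P ⊔ Ideal.span {x})) :=
    IsLocalRing.quotient_artinian_of_mem_minimalPrimes_of_isLocalRing _ hp
  haveI : IsArtinian B (B ⧸ (P ⊔ Ideal.span {x})) :=
    isArtinian_of_surjective_algebraMap (R := B ⧸ (P ⊔ Ideal.span {x}))
      (M := B ⧸ (P ⊔ Ideal.span {x})) Ideal.Quotient.mk_surjective
  exact isFiniteLength_iff_isNoetherian_isArtinian.2 ⟨inferInstance, inferInstance⟩

/-- **(K1)**: if `Ext^i(κ, K) = 0` for `i ≠ n` and `P` is covered by the maximal ideal, then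
`Ext^i(B/P, K) = 0` for `i ≠ n - 1` -/
theorem subsingleton_hom_quot_of_covBy (K : Dual.D B) (a₀ : ℤ) [K.IsGE a₀]
    (hfin : ∀ j : ℤ, Module.Finite B (Dual.HD B K j)) (n : ℤ)
    (hκ : ∀ i : ℤ, i ≠ n → Subsingleton (Sg 0 (kap B) ⟶ K⟦i⟧))
    (P : Ideal B) [P.IsPrime] (hP : P ≠ IsLocalRing.maximalIdeal B)
    (hcov : ∀ Q : Ideal B, Q.IsPrime → P ≤ Q → Q = P ∨ Q = IsLocalRing.maximalIdeal B)
    (i : ℤ) (hi : i ≠ n - 1) :
    Subsingleton (Sg 0 (ModuleCat.of B (B ⧸ P)) ⟶ K⟦i⟧) := by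
  have hPm : P ≤ IsLocalRing.maximalIdeal B :=
    IsLocalRing.le_maximalIdeal (Ideal.IsPrime.ne_top inferInstance)
  have hlt : P < IsLocalRing.maximalIdeal B := lt_of_le_of_ne hPm hP
  obtain ⟨x, hx, hxP⟩ := Set.exists_of_ssubset hlt
  have hcol : ∀ r, r ∈ P ↔ r * x ∈ P := fun r =>
    ⟨fun hr => P.mul_mem_right x hr,
      fun hr => ((Ideal.IsPrime.mem_or_mem inferInstance hr)).resolve_right hxP⟩
  have hS := colonSC_shortExact P P x hcol
  have hN := isFiniteLength_quot_sup_span P hcov x hx hxP hPm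
  have h₃ : Subsingleton (Sg 0 (colonSC P P x hcol).X₃ ⟶ K⟦i + 1⟧) :=
    subsingleton_hom_of_isFiniteLength' (K⟦i + 1⟧) (hκ (i + 1) (by omega)) _ hN
  let M : ModuleCat.{u} B := ModuleCat.of B (B ⧸ P)
  haveI : Module.Finite B M := Module.Finite.of_surjective (Submodule.mkQ P)
    (Submodule.mkQ_surjective P)
  haveI : Module.Finite B (Sg 0 M ⟶ K⟦i⟧) := finite_hom_Sg_shift M K a₀ hfin i
  refine subsingleton_of_forall_exists_smul _ x hx (fun ψ => ?_)
  obtain ⟨ψ', hψ'⟩ : ∃ ψ' : Sg 0 M ⟶ K⟦i⟧,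
      ψ = (singleFunctor (ModuleCat.{u} B) 0).map (ModuleCat.ofHom (mulQ P P x hcol)) ≫ ψ' :=
    exists_of_mor₁_of_subsingleton hS K i h₃ ψ
  refine ⟨ψ', ?_⟩
  have h1 : ModuleCat.ofHom (mulQ P P x hcol) = x • 𝟙 M := by
    apply ModuleCat.hom_ext
    apply LinearMap.ext
    intro y
    obtain ⟨r, rfl⟩ := Submodule.Quotient.mk_surjective _ y
    change mulQ P P x hcol (Submodule.Quotient.mk r) = x • (Submodule.Quotient.mk r : B ⧸ P)
    rw [mulQ_mk, ← Submodule.Quotient.mk_smul, smul_eq_mul, mul_comm]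
  rw [hψ', h1, Functor.map_smul, CategoryTheory.Functor.map_id, Linear.smul_comp,
    Category.id_comp]

end fl

end Dim

end Groth.Agent.Lib.Helper18.DR
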