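import Mathlib
import Groth.Agent.Lib.Helper18.DimB
import Groth.Agent.Lib.Helper18.NormB

/-!
# Dimension functions from dualizing complexes, III: the degree at a prime (helper18)
-/

set_option autoImplicit false
set_option linter.style.haveILetI false
universe u
open CategoryTheory CategoryTheory.Limits CategoryTheory.Pretriangulated DerivedCategory

attribute [local instance] HasDerivedCategory.standard

namespace Groth.Agent.Lib.Helper18.DR

namespace Dim

open HomLoc HomBC MaxCrit Uniq Norm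

variable {A : Type u} [CommRing A] [IsNoetherianRing A] (ω : Dual.D A)

/-- the localization of `ω` at a prime -/
noncomputable abbrev locAt (p : PrimeSpectrum A) : Dual.D (Localization.AtPrime p.asIdeal) :=
  (extD A (Localization.AtPrime p.asIdeal)).obj ω

/-- `n` is the degree in which `Ext_A(A/p, ω)_p` lives -/
def IsDeg (p : PrimeSpectrum A) (n : ℤ) : Prop :=
  ∀ i : ℤ, Nontrivial (LocalizedModule p.asIdeal.primeCompl
    (Dual.inD A (A ⧸ p.asIdeal) ⟶ ω⟦i⟧)) ↔ i = n

variable {ω}

lemma IsDeg.unique {p : PrimeSpectrum A} {n n' : ℤ} (h : IsDeg ω p n) (h' : IsDeg ω p n') :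
    n = n' := (h' n).1 ((h n).2 rfl)

variable (ω)

lemma isLocOf_locAt (p : PrimeSpectrum A) :
    IsLocOf p.asIdeal.primeCompl (Localization.AtPrime p.asIdeal) ω (locAt ω p) :=
  isLocOf_extD p.asIdeal.primeCompl (Localization.AtPrime p.asIdeal) ω

/-- `Ext_A(A/p, ω)_p ≠ 0` iff `Ext_{A_p}(κ(p), ω_p) ≠ 0` -/
lemma nontrivial_localizedModule_iff (n₀ : ℤ) [ω.IsGE n₀] (p : PrimeSpectrum A) (i : ℤ) :
    Nontrivial (LocalizedModule p.asIdeal.primeCompl
      (Dual.inD A (A ⧸ p.asIdeal) ⟶ ω⟦i⟧)) ↔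
    Nontrivial (Sg 0 (kap (Localization.AtPrime p.asIdeal)) ⟶ (locAt ω p)⟦i⟧) := by
  rw [← not_subsingleton_iff_nontrivial, ← not_subsingleton_iff_nontrivial, not_iff_not]
  have h := subsingleton_localizedModule_hom_quot_iff p.asIdeal.primeCompl (isLocOf_locAt ω p) n₀
    p.asIdeal i
  rw [IsLocalization.AtPrime.map_eq_maximalIdeal p.asIdeal (Localization.AtPrime p.asIdeal)] at h
  exact h

/-- the degree exists when `ω_p` is dualizing -/
theorem exists_isDeg (n₀ : ℤ) [ω.IsGE n₀] (p : PrimeSpectrum A)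
    (hp : Dual.IsDualizing (Localization.AtPrime p.asIdeal) (locAt ω p)) : ∃ n : ℤ, IsDeg ω p n := by
  obtain ⟨n, hn, ⟨L⟩⟩ := exists_degree_residueField (locAt ω p) hp
    (IsLocalRing.maximalIdeal (Localization.AtPrime p.asIdeal))
  refine ⟨n, fun i => ?_⟩
  rw [nontrivial_localizedModule_iff ω n₀ p i]
  constructor
  · intro h
    by_contra hi
    haveI := hn i hi
    exact not_subsingleton _ ‹_›
  · rintro rfl
    exact L.symm.injective.nontrivial

variable {ω}

/-- vanishing of `Ext_{A_p}(κ(p), ω_p)` off the degree -/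
lemma IsDeg.subsingleton_hom (n₀ : ℤ) [ω.IsGE n₀] {p : PrimeSpectrum A} {n : ℤ} (h : IsDeg ω p n)
    (i : ℤ) (hi : i ≠ n) :
    Subsingleton (Sg 0 (kap (Localization.AtPrime p.asIdeal)) ⟶ (locAt ω p)⟦i⟧) := by
  rw [← not_nontrivial_iff_subsingleton, ← nontrivial_localizedModule_iff ω n₀ p i, h i]
  exact hi

/-- **(K2)**: the degree drops by one along a covering -/
theorem isDeg_covBy (n₀ : ℤ) [ω.IsGE n₀] (p q : PrimeSpectrum A) (hpq : p ⋖ q)
    (hq : Dual.IsDualizing (Localization.AtPrime q.asIdeal) (locAt ω q)) (n n' : ℤ)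
    (hn : IsDeg ω q n) (hn' : IsDeg ω p n') : n' = n - 1 := by
  by_contra hne
  let B := Localization.AtPrime q.asIdeal
  let S := q.asIdeal.primeCompl
  let P : Ideal B := p.asIdeal.map (algebraMap A B)
  have hle : p.asIdeal ≤ q.asIdeal := hpq.1.le
  have hdisj : Disjoint (S : Set A) (p.asIdeal : Set A) := by
    rw [Set.disjoint_left]
    intro x hxS hxp
    exact hxS (hle hxp)
  haveI hPprime : P.IsPrime := IsLocalization.isPrime_of_isPrime_disjoint S B _ p.isPrime hdisj
  have hcomapP : P.comap (algebraMap A B) = p.asIdeal :=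
    IsLocalization.comap_map_of_isPrime_disjoint S B p.isPrime hdisj
  have hPm : P ≠ IsLocalRing.maximalIdeal B := by
    intro h
    have h1 : p.asIdeal = q.asIdeal := by
      rw [← hcomapP, h]
      exact IsLocalization.AtPrime.under_maximalIdeal B q.asIdeal
    exact hpq.1.ne (PrimeSpectrum.ext h1)
  have hcov : ∀ Q : Ideal B, Q.IsPrime → P ≤ Q → Q = P ∨ Q = IsLocalRing.maximalIdeal B := by
    intro Q hQ hPQ
    have hQ' := (IsLocalization.isPrime_iff_isPrime_disjoint S B Q).1 hQ
    let c : PrimeSpectrum A := ⟨Q.comap (algebraMap A B), hQ'.1⟩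
    have hcq : c ≤ q := by
      intro x hx
      by_contra hxq
      exact (Set.disjoint_left.1 hQ'.2) hxq hx
    have hpc : p ≤ c := by
      change p.asIdeal ≤ Q.comap (algebraMap A B)
      rw [← hcomapP]
      exact Ideal.comap_mono hPQ
    have hmap : Q = (Q.comap (algebraMap A B)).map (algebraMap A B) :=
      (IsLocalization.map_comap S B Q).symm
    rcases eq_or_lt_of_le hpc with h | h
    · left
      rw [hmap]
      change _ = p.asIdeal.map _
      rw [h]
    · right
      have hcq' : c = q := by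
        rcases eq_or_lt_of_le hcq with h' | h'
        · exact h'
        · exact absurd h' (hpq.2 h)
      rw [hmap]
      have : Q.comap (algebraMap A B) = q.asIdeal := congrArg PrimeSpectrum.asIdeal hcq'
      rw [this]
      exact IsLocalization.AtPrime.map_eq_maximalIdeal q.asIdeal B
  obtain ⟨a, b, hab⟩ := hq.finite_injective_dimension
  have hfid : FidIn (locAt ω q) a b := hab
  haveI := hfid.isGE
  have hvan : Subsingleton (Sg 0 (ModuleCat.of B (B ⧸ P)) ⟶ (locAt ω q)⟦n'⟧) :=
    subsingleton_hom_quot_of_covBy (locAt ω q) a hq.finite_cohomology n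
      (fun i hi => hn.subsingleton_hom n₀ i hi) P hPm hcov n' hne
  have h1 : Subsingleton (LocalizedModule S (Sg 0 (ModuleCat.of A (A ⧸ p.asIdeal)) ⟶ ω⟦n'⟧)) :=
    (subsingleton_localizedModule_hom_quot_iff S (isLocOf_locAt ω q) n₀ p.asIdeal n').2 hvan
  have h2 : Nontrivial (LocalizedModule p.asIdeal.primeCompl
      (Dual.inD A (A ⧸ p.asIdeal) ⟶ ω⟦n'⟧)) := (hn' n').2 rfl
  rw [← not_subsingleton_iff_nontrivial] at h2
  apply h2
  rw [LocalizedModule.subsingleton_iff] at h1 ⊢
  intro g
  obtain ⟨s, hs, hsg⟩ := h1 g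
  exact ⟨s, fun hsp => hs (hle hsp), hsg⟩

end Dim

end Groth.Agent.Lib.Helper18.DR
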