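import Mathlib
import Groth.Agent.Lib.Helper18.DimC

/-!
# Dimension functions from dualizing complexes, IV: the dimension function (helper18)
-/

set_option autoImplicit false
set_option linter.style.haveILetI false
universe u
open CategoryTheory CategoryTheory.Limits CategoryTheory.Pretriangulated DerivedCategory

attribute [local instance] HasDerivedCategory.standard

namespace Groth.Agent.Lib.Helper18.DR

namespace Dim

open HomLoc HomBC MaxCrit Uniq Norm

variable {A : Type u} [CommRing A] [IsNoetherianRing A]

lemma isDualizing_locAt (ω : Dual.D A) (hω : Dual.IsDualizing A ω) (p : PrimeSpectrum A) :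
    Dual.IsDualizing (Localization.AtPrime p.asIdeal) (locAt ω p) :=
  isDualizing_of_isLocOf _ (isLocOf_locAt ω p) hω

/-- **S1722** -/
theorem exists_dimension_function (ω : Dual.D A) (hω : Dual.IsDualizing A ω) :
    ∃ δ : PrimeSpectrum A → ℤ,
      (∀ (p : PrimeSpectrum A) (i : ℤ), Nontrivial (LocalizedModule p.asIdeal.primeCompl
        (Dual.inD A (A ⧸ p.asIdeal) ⟶ ω⟦i⟧)) ↔ i = -δ p) ∧
      ∀ p q : PrimeSpectrum A, p ⋖ q → δ p = δ q + 1 := by
  obtain ⟨a, b, hab⟩ := hω.finite_injective_dimension
  have hfid : FidIn ω a b := hab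
  haveI := hfid.isGE
  choose n hn using fun p => exists_isDeg ω a p (isDualizing_locAt ω hω p)
  refine ⟨fun p => -n p, fun p i => ?_, fun p q hpq => ?_⟩
  · rw [neg_neg]
    exact hn p i
  · have := isDeg_covBy a p q hpq (isDualizing_locAt ω hω q) (n q) (n p) (hn q) (hn p)
    change -n p = -n q + 1
    omega

end Dim

end Groth.Agent.Lib.Helper18.DR
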