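import Mathlib
import Groth.Agent.Lib.Helper18.DimD
import Groth.Agent.Lib.Helper18.BidF
import Groth.Prelude.Def_Found

/-!
# Dimension functions from dualizing complexes, V: finite dimension and catenarity (helper18)
-/

set_option autoImplicit false
set_option linter.style.haveILetI false
universe u
open CategoryTheory CategoryTheory.Limits CategoryTheory.Pretriangulated DerivedCategory

attribute [local instance] HasDerivedCategory.standard

namespace Groth.Agent.Lib.Helper18.DR

namespace Dim

open HomLoc HomBC MaxCrit Uniq Norm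

section order

variable {A : Type u} [CommRing A] [IsNoetherianRing A]

lemma height_toNat_lt (p q : PrimeSpectrum A) (h : p < q) :
    p.asIdeal.height.toNat < q.asIdeal.height.toNat := by
  have hlt : p.asIdeal < q.asIdeal := h
  have h1 := Ideal.height_strict_mono_of_isPrime hlt
  have hp : p.asIdeal.height ≠ ⊤ := Ideal.height_ne_top p.isPrime.ne_top
  have hq : q.asIdeal.height ≠ ⊤ := Ideal.height_ne_top q.isPrime.ne_top
  rw [← ENat.natCast_toNat hp, ← ENat.natCast_toNat hq] at h1
  exact_mod_cast h1

variable (δ : PrimeSpectrum A → ℤ) (hδ : ∀ p q : PrimeSpectrum A, p ⋖ q → δ p = δ q + 1)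

include hδ

/-- a dimension function is strictly decreasing -/
lemma dimFun_lt_aux : ∀ (d : ℕ) (p q : PrimeSpectrum A), p < q →
    q.asIdeal.height.toNat - p.asIdeal.height.toNat ≤ d → δ q + 1 ≤ δ p := by
  intro d
  induction d with
  | zero =>
    intro p q hpq hd
    have := height_toNat_lt p q hpq
    omega
  | succ d ih =>
    intro p q hpq hd
    by_cases hcov : p ⋖ q
    · rw [hδ p q hcov]
    · obtain ⟨r, hpr, hrq⟩ := (not_covBy_iff hpq).1 hcov
      have h1 := height_toNat_lt p r hpr
      have h2 := height_toNat_lt r q hrq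
      have h3 := ih p r hpr (by omega)
      have h4 := ih r q hrq (by omega)
      omega

lemma dimFun_lt (p q : PrimeSpectrum A) (hpq : p < q) : δ q + 1 ≤ δ p :=
  dimFun_lt_aux δ hδ _ p q hpq le_rfl

/-- chains of primes are bounded when there is a bounded dimension function -/
theorem length_le_of_dimFun (lo hi : ℤ) (hb : ∀ p, lo ≤ δ p ∧ δ p ≤ hi)
    (s : LTSeries (PrimeSpectrum A)) : s.length ≤ (hi - lo).toNat := by
  let g : PrimeSpectrum A → Fin ((hi - lo).toNat + 1) := fun p =>
    ⟨(hi - δ p).toNat, by have := hb p; omega⟩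
  have hg : StrictMono g := by
    intro p q hpq
    have h1 := dimFun_lt δ hδ p q hpq
    have h2 := hb p
    have h3 := hb q
    change (hi - δ p).toNat < (hi - δ q).toNat
    omega
  have h4 := (s.map g hg).length_lt_card
  rw [Fintype.card_fin] at h4
  have h5 : (s.map g hg).length = s.length := rfl
  omega

/-- saturated chains have length `δ(head) - δ(last)` -/
theorem length_eq_of_saturated (s : LTSeries (PrimeSpectrum A))
    (hs : ∀ i : Fin s.length, s (Fin.castSucc i) ⋖ s (Fin.succ i)) :
    (s.length : ℤ) = δ s.head - δ s.last := by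
  have key : ∀ i : Fin (s.length + 1), δ (s i) = δ (s 0) - ((i : ℕ) : ℤ) := by
    intro i
    induction i using Fin.induction with
    | zero => simp
    | succ i ih =>
      have h1 := hδ _ _ (hs i)
      rw [ih] at h1
      rw [Fin.val_succ]
      push_cast
      have : ((Fin.castSucc i : Fin (s.length + 1)) : ℕ) = (i : ℕ) := rfl
      rw [this] at h1
      omega
  have h2 := key (Fin.last _)
  rw [Fin.val_last] at h2
  change (s.length : ℤ) = δ (s 0) - δ (s (Fin.last _))
  omega

end order

section main

variable {A : Type u} [CommRing A] [IsNoetherianRing A]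

/-- the dimension function, with its bounds -/
theorem exists_bounded_dimension_function (ω : Dual.D A) (hω : Dual.IsDualizing A ω) :
    ∃ (δ : PrimeSpectrum A → ℤ) (lo hi : ℤ),
      (∀ p q : PrimeSpectrum A, p ⋖ q → δ p = δ q + 1) ∧ ∀ p, lo ≤ δ p ∧ δ p ≤ hi := by
  obtain ⟨δ, h1, h2⟩ := exists_dimension_function ω hω
  obtain ⟨a, b, hab⟩ := hω.finite_injective_dimension
  refine ⟨δ, -b, -a, h2, fun p => ?_⟩
  have h3 := (h1 p (-δ p)).2 rfl
  have h4 : ¬ ((-δ p) < a ∨ b < (-δ p)) := by
    intro h
    haveI := hab (A ⧸ p.asIdeal) (-δ p) h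
    have h5 : Subsingleton (LocalizedModule p.asIdeal.primeCompl
      (Dual.inD A (A ⧸ p.asIdeal) ⟶ ω⟦-δ p⟧)) := inferInstance
    exact not_subsingleton _ h5
  omega

/-- **S0371** -/
theorem ringKrullDim_lt_top_of_dualizing (ω : Dual.D A) (hω : Dual.IsDualizing A ω) :
    ringKrullDim A < ⊤ := by
  obtain ⟨δ, lo, hi, hδ, hb⟩ := exists_bounded_dimension_function ω hω
  rw [ringKrullDim, Order.krullDim]
  have h2 : ((((hi - lo).toNat : ℕ) : ℕ∞) : WithBot ℕ∞) < ⊤ := by
    rw [lt_top_iff_ne_top]
    intro h3
    have h4 : ((((hi - lo).toNat : ℕ) : ℕ∞) : WithBot ℕ∞) = ((⊤ : ℕ∞) : WithBot ℕ∞) := h3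
    exact (ENat.natCast_ne_top _) (WithBot.coe_injective h4)
  refine lt_of_le_of_lt (iSup_le fun s => ?_) h2
  exact_mod_cast length_le_of_dimFun δ hδ lo hi hb s

/-- a Noetherian ring with a dualizing complex is catenary -/
theorem isCatenary_of_dualizing (ω : Dual.D A) (hω : Dual.IsDualizing A ω) :
    CAlg.IsCatenary A := by
  obtain ⟨δ, lo, hi, hδ, hb⟩ := exists_bounded_dimension_function ω hω
  refine ⟨fun p q _ => ⟨(hi - lo).toNat, fun s _ _ => length_le_of_dimFun δ hδ lo hi hb s⟩, ?_⟩
  intro s t hh hl hs ht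
  have h1 := length_eq_of_saturated δ hδ s hs
  have h2 := length_eq_of_saturated δ hδ t ht
  rw [hh, hl] at h1
  omega

/-- finite type algebras over a ring with a dualizing complex have dualizing complexes -/
theorem exists_isDualizing_of_finiteType (ω : Dual.D A) (hω : Dual.IsDualizing A ω)
    (S : Type u) [CommRing S] [Algebra A S] (hS : Algebra.FiniteType A S) :
    ∃ ωS : Dual.D S, Dual.IsDualizing S ωS := by
  obtain ⟨n, ψ, hψ⟩ := Algebra.FiniteType.iff_quotient_mvPolynomial''.1 hS
  haveI : IsNoetherianRing S := Algebra.FiniteType.isNoetherianRing A S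
  have h1 := Bid.isDualizing_extD_mvPolynomial A n ω hω
  letI : Algebra (MvPolynomial (Fin n) A) S := ψ.toRingHom.toAlgebra
  haveI : Module.Finite (MvPolynomial (Fin n) A) S :=
    Module.Finite.of_surjective (Algebra.linearMap (MvPolynomial (Fin n) A) S) hψ
  exact ⟨_, Bid.isDualizing_rightAdjoint (A := MvPolynomial (Fin n) A) (B := S)
    (Shr.coextD (algebraMap (MvPolynomial (Fin n) A) S))
    (Shr.coextAdj (algebraMap (MvPolynomial (Fin n) A) S)) _ h1⟩

/-- **S1721** -/
theorem isUniversallyCatenary_of_dualizing (ω : Dual.D A) (hω : Dual.IsDualizing A ω) :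
    CAlg.IsUniversallyCatenary A := by
  refine ⟨inferInstance, fun S _ _ hS => ?_⟩
  haveI : IsNoetherianRing S := Algebra.FiniteType.isNoetherianRing A S
  obtain ⟨ωS, hωS⟩ := exists_isDualizing_of_finiteType ω hω S hS
  exact isCatenary_of_dualizing ωS hωS

end main

end Dim

end Groth.Agent.Lib.Helper18.DR
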