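import Mathlib
import Groth.Agent.Lib.Helper18.DimE
import Groth.Agent.Lib.Helper18.UniqC

/-!
# Dimension functions from dualizing complexes, VI: minimal primes (helper18)
-/

set_option autoImplicit false
set_option linter.style.haveILetI false
universe u
open CategoryTheory CategoryTheory.Limits CategoryTheory.Pretriangulated DerivedCategory

attribute [local instance] HasDerivedCategory.standard

namespace Groth.Agent.Lib.Helper18.DR

namespace Dim

open HomLoc HomBC MaxCrit Uniq Norm

section loc

variable {A : Type u} [CommRing A] (S : Submonoid A) {B : Type u} [CommRing B] [Algebra A B]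
  [IsLocalization S B] {ω : Dual.D A} {ωB : Dual.D B}

/-- `H^j(ω)_S ≠ 0` iff `H^j(ω_B) ≠ 0` -/
lemma nontrivial_localizedModule_HD_iff (hloc : IsLocOf S B ω ωB) (j : ℤ) :
    Nontrivial (LocalizedModule S (Dual.HD A ω j)) ↔ Nontrivial (Dual.HD B ωB j) := by
  obtain ⟨η, hη, -⟩ := hloc
  haveI := isLocalizedModule_Hη S hη j
  exact (IsLocalizedModule.iso S (Hη η j).hom).toEquiv.nontrivial_congr

end loc

section art

variable {B : Type u} [CommRing B] [IsLocalRing B] [IsNoetherianRing B] [IsArtinianRing B]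

/-- over an Artinian local ring a dualizing complex has cohomology in exactly one degree -/
theorem nontrivial_HD_iff_of_isArtinianRing (ωB : Dual.D B) (hω : Dual.IsDualizing B ωB) (n : ℤ)
    (hn : ∀ i : ℤ, i ≠ n → Subsingleton (Sg 0 (kap B) ⟶ ωB⟦i⟧)) (i : ℤ) :
    Nontrivial (Dual.HD B ωB i) ↔ i = n := by
  have hn' : Dual.IsNormalized B (ωB⟦n⟧) := by
    intro j hj
    haveI := hn (n + j) (by omega)
    let c : (ωB⟦n⟧)⟦j⟧ ≅ ωB⟦n + j⟧ := ((shiftFunctorAdd' (Dual.D B) n j (n + j) rfl).app ωB).symm
    refine ⟨fun x y => ?_⟩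
    rw [← cancel_mono c.hom, ← cancel_epi (kapIso (A := B)).hom]
    exact Subsingleton.elim _ _
  obtain ⟨M, ⟨e⟩⟩ := exists_iso_inD_of_isArtinianRing (ωB⟦n⟧) hn'
  have hz : ∀ j : ℤ, j ≠ n → IsZero ((H B j).obj ωB) := by
    intro j hj
    have h1 : IsZero ((H B (j - n)).obj (Sg 0 M)) := by
      rcases lt_or_gt_of_ne (show j - n ≠ 0 by omega) with h | h
      · exact isZero_of_isGE (Sg 0 M) 0 (j - n) h
      · exact isZero_of_isLE (Sg 0 M) 0 (j - n) h
    exact (h1.of_iso ((H B (j - n)).mapIso e)).of_iso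
      ((HShiftIso B n (j - n) j (by omega)).app ωB).symm
  constructor
  · intro h
    by_contra hi
    haveI := ModuleCat.subsingleton_of_isZero (hz i hi)
    exact not_subsingleton _ ‹_›
  · rintro rfl
    by_contra h
    rw [not_nontrivial_iff_subsingleton] at h
    have hall : ∀ j : ℤ, IsZero ((H B j).obj ωB) := by
      intro j
      by_cases hj : j = i
      · subst hj
        exact ModuleCat.isZero_of_subsingleton _
      · exact hz j hj
    obtain ⟨a, b, hab⟩ := hω.finite_injective_dimension
    have hfid : FidIn ωB a b := hab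
    haveI := hfid.isGE
    haveI : ωB.IsLE (a - 1) := by
      rw [DerivedCategory.isLE_iff]
      exact fun j _ => hall j
    have hzero : IsZero ωB := TStructure.t.isZero ωB (a - 1) a (by omega)
    have h1 : (1 : B) • 𝟙 ωB = (0 : B) • 𝟙 ωB := hzero.eq_of_src _ _
    exact one_ne_zero (hω.toEnd_bijective.1 h1)

end art

section main

variable {A : Type u} [CommRing A] [IsNoetherianRing A]

/-- **S1762** -/
theorem existsUnique_nontrivial_localized_HD (ω : Dual.D A) (hω : Dual.IsDualizing A ω)
    (p : Ideal A) (hp : p ∈ minimalPrimes A) :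
    ∃! i : ℤ, Nontrivial (LocalizedModule (Ideal.primeCompl p (hp := hp.1.1))
      (Dual.HD A ω i)) := by
  haveI := hp.1.1
  let P : PrimeSpectrum A := ⟨p, hp.1.1⟩
  let B := Localization.AtPrime p
  haveI : Ring.KrullDimLE 0 B := Ring.KrullDimLE.of_isLocalization p hp B
  haveI : IsArtinianRing B := IsNoetherianRing.isArtinianRing_of_krullDimLE_zero
  obtain ⟨a, b, hab⟩ := hω.finite_injective_dimension
  have hfid : FidIn ω a b := hab
  haveI := hfid.isGE
  have hB := isDualizing_locAt ω hω P
  obtain ⟨n, hn⟩ := exists_isDeg ω a P hB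
  have key : ∀ i : ℤ, Nontrivial (LocalizedModule p.primeCompl (Dual.HD A ω i)) ↔ i = n := by
    intro i
    rw [nontrivial_localizedModule_HD_iff p.primeCompl (isLocOf_locAt ω P) i]
    exact nontrivial_HD_iff_of_isArtinianRing (locAt ω P) hB n
      (fun j hj => hn.subsingleton_hom a j hj) i
  exact ⟨n, (key n).2 rfl, fun i hi => (key i).1 hi⟩

end main

end Dim

end Groth.Agent.Lib.Helper18.DR
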