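import Mathlib
import Groth.Agent.Lib.Helper18.DimF

/-!
# Dimension functions from dualizing complexes, VII: existence of chains (helper18)
-/

set_option autoImplicit false
set_option linter.style.haveILetI false
universe u
open CategoryTheory CategoryTheory.Limits CategoryTheory.Pretriangulated DerivedCategory

attribute [local instance] HasDerivedCategory.standard

namespace Groth.Agent.Lib.Helper18.DR

namespace Dim

open HomLoc HomBC MaxCrit Uniq Norm

section order

variable {A : Type u} [CommRing A] [IsNoetherianRing A]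
  (δ : PrimeSpectrum A → ℤ) (hδ : ∀ p q : PrimeSpectrum A, p ⋖ q → δ p = δ q + 1)

include hδ

lemma exists_ltSeries_aux : ∀ (k : ℕ) (p q : PrimeSpectrum A), p ≤ q → (δ p - δ q).toNat ≤ k →
    ∃ s : LTSeries (PrimeSpectrum A), s.head = p ∧ s.last = q ∧ (s.length : ℤ) = δ p - δ q := by
  intro k
  induction k with
  | zero =>
    intro p q hpq hk
    rcases eq_or_lt_of_le hpq with rfl | hlt
    · exact ⟨RelSeries.singleton _ p, RelSeries.head_singleton p, RelSeries.last_singleton p,
        by simp⟩
    · have := dimFun_lt δ hδ p q hlt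
      omega
  | succ k ih =>
    intro p q hpq hk
    rcases eq_or_lt_of_le hpq with rfl | hlt
    · exact ⟨RelSeries.singleton _ p, RelSeries.head_singleton p, RelSeries.last_singleton p,
        by simp⟩
    · by_cases hcov : p ⋖ q
      · refine ⟨(RelSeries.singleton _ p).snoc q (by
          rw [RelSeries.last_singleton]; exact hlt), ?_, ?_, ?_⟩
        · rw [RelSeries.head_snoc, RelSeries.head_singleton]
        · rw [RelSeries.last_snoc]
        · rw [hδ p q hcov]
          simp
      · obtain ⟨r, hpr, hrq⟩ := (not_covBy_iff hlt).1 hcov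
        have h1 := dimFun_lt δ hδ p r hpr
        have h2 := dimFun_lt δ hδ r q hrq
        obtain ⟨s₁, hh₁, hl₁, hn₁⟩ := ih p r hpr.le (by omega)
        obtain ⟨s₂, hh₂, hl₂, hn₂⟩ := ih r q hrq.le (by omega)
        refine ⟨s₁.smash s₂ (hl₁.trans hh₂.symm), ?_, ?_, ?_⟩
        · rw [RelSeries.head_smash, hh₁]
        · rw [RelSeries.last_smash, hl₂]
        · change ((s₁.length + s₂.length : ℕ) : ℤ) = _
          push_cast
          omega

/-- chains of length `δ p - δ q` exist -/
theorem exists_ltSeries_of_dimFun (p q : PrimeSpectrum A) (hpq : p ≤ q) :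
    ∃ s : LTSeries (PrimeSpectrum A), s.head = p ∧ s.last = q ∧ (s.length : ℤ) = δ p - δ q :=
  exists_ltSeries_aux δ hδ _ p q hpq le_rfl

end order

end Dim

end Groth.Agent.Lib.Helper18.DR
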