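import Mathlib
import Groth.Agent.Lib.Helper18.DimG

/-!
# Dimension functions from dualizing complexes, VIII: pointwise dualizing complexes (helper18)
-/

set_option autoImplicit false
set_option linter.style.haveILetI false
universe u
open CategoryTheory CategoryTheory.Limits CategoryTheory.Pretriangulated DerivedCategory

attribute [local instance] HasDerivedCategory.standard
open Classical in
attribute [local instance] Classical.propDecidable

namespace Groth.Agent.Lib.Helper18.DR

namespace Dim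

open HomLoc HomBC MaxCrit Uniq Norm

variable {A : Type u} [CommRing A] [IsNoetherianRing A]

omit [IsNoetherianRing A] in
lemma exists_length_le_of_krullDim_lt_top (hdim : ringKrullDim A < ⊤) :
    ∃ d : ℕ, ∀ s : LTSeries (PrimeSpectrum A), s.length ≤ d := by
  have key : ∀ x : WithBot ℕ∞, x < ⊤ → ∃ d : ℕ, x ≤ ((d : ℕ∞) : WithBot ℕ∞) := by
    intro x hx
    induction x using WithBot.recBotCoe with
    | bot => exact ⟨0, bot_le⟩
    | coe y =>
      have hy : y ≠ ⊤ := by
        rintro rfl
        exact lt_irrefl _ hx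
      obtain ⟨d, rfl⟩ := ENat.ne_top_iff_exists.1 hy
      exact ⟨d, le_rfl⟩
  obtain ⟨d, hd⟩ := key _ hdim
  refine ⟨d, fun s => ?_⟩
  have h1 := (Order.LTSeries.length_le_krullDim s).trans hd
  exact_mod_cast h1

/-- **S11173**, in terms of the flat base changes -/
theorem isDualizing_of_pointwise (hdim : ringKrullDim A < ⊤) (R : Dual.D A)
    (hfin : ∀ i : ℤ, Module.Finite A (Dual.HD A R i))
    (hbdd : ∃ a : ℤ, ∀ i : ℤ, i < a → Subsingleton (Dual.HD A R i))
    (hPD : ∀ p : PrimeSpectrum A, Dual.IsDualizing (Localization.AtPrime p.asIdeal) (locAt R p)) :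
    Dual.IsDualizing A R := by
  obtain ⟨a, ha⟩ := hbdd
  haveI : R.IsGE a := by
    rw [DerivedCategory.isGE_iff]
    intro i hi
    haveI := ha i hi
    exact ModuleCat.isZero_of_subsingleton _
  choose n hn using fun p => exists_isDeg R a p (hPD p)
  let δ : PrimeSpectrum A → ℤ := fun p => -n p
  have hδ : ∀ p q : PrimeSpectrum A, p ⋖ q → δ p = δ q + 1 := by
    intro p q hpq
    have := isDeg_covBy a p q hpq (hPD q) (n q) (n p) (hn q) (hn p)
    change -n p = -n q + 1
    omega
  obtain ⟨d, hd⟩ := exists_length_le_of_krullDim_lt_top hdim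
  -- bound on the minimal primes
  let f : Ideal A → ℤ := fun p => if h : p.IsPrime then n ⟨p, h⟩ else 0
  obtain ⟨b₀, hb₀⟩ : ∃ b₀ : ℤ, ∀ p ∈ minimalPrimes A, f p ≤ b₀ := by
    have hfinite : (minimalPrimes A).Finite := minimalPrimes.finite_of_isNoetherianRing A
    obtain ⟨b₀, hb₀⟩ := (hfinite.image f).bddAbove
    exact ⟨b₀, fun p hp => hb₀ ⟨p, hp, rfl⟩⟩
  have hmax : ∀ m : Ideal A, m.IsMaximal → ∀ i : ℤ, b₀ + d < i →
      Subsingleton (Sg 0 (ModuleCat.of A (A ⧸ m)) ⟶ R⟦i⟧) := by
    intro m hm i hi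
    let M : PrimeSpectrum A := ⟨m, hm.isPrime⟩
    obtain ⟨p, hp, hpm⟩ := Ideal.exists_minimalPrimes_le (bot_le : (⊥ : Ideal A) ≤ m)
    let P : PrimeSpectrum A := ⟨p, hp.1.1⟩
    have hPM : P ≤ M := hpm
    obtain ⟨s, -, -, hlen⟩ := exists_ltSeries_of_dimFun δ hδ P M hPM
    have h1 := hd s
    have h2 : f p = n P := dif_pos hp.1.1
    have h3 := hb₀ p hp
    have h4 : n M ≤ b₀ + d := by
      change (s.length : ℤ) = -n P - -n M at hlen
      omega
    have h5 : ¬ Nontrivial (LocalizedModule m.primeCompl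
        (Dual.inD A (A ⧸ m) ⟶ R⟦i⟧)) := by
      rw [hn M i]
      omega
    rw [not_nontrivial_iff_subsingleton, LocalizedModule.subsingleton_iff] at h5
    refine ⟨fun x y => ?_⟩
    have key : ∀ g : Sg 0 (ModuleCat.of A (A ⧸ m)) ⟶ R⟦i⟧, g = 0 := by
      intro g
      obtain ⟨t, ht, htg⟩ := h5 g
      obtain ⟨y, j, hj, hyj⟩ := hm.exists_inv ht
      have h6 : j • g = 0 := smul_hom_quot_eq_zero m j hj _ g
      calc g = (1 : A) • g := (one_smul A g).symm
        _ = (y * t + j) • g := by rw [hyj]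
        _ = 0 := by rw [add_smul, mul_smul, htg, smul_zero, h6, add_zero]
    rw [key x, key y]
  have hfid : FidIn R a (b₀ + d) := fidIn_of_maximal R a (b₀ + d) hfin hmax
  exact isDualizing_of_covers hfid hfin
    (fun p : PrimeSpectrum A => p.asIdeal.primeCompl) covers_prime
    (fun p => Localization.AtPrime p.asIdeal) (fun p => locAt R p)
    (fun p => isLocOf_locAt R p) hPD

/-- **S11173** -/
theorem isDualizing_of_LBaseChange_atPrime (hdim : ringKrullDim A < ⊤) (R : Dual.D A)
    (hfin : ∀ i : ℤ, Module.Finite A (Dual.HD A R i))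
    (hbdd : ∃ a : ℤ, ∀ i : ℤ, i < a → Subsingleton (Dual.HD A R i))
    (h : ∀ p : PrimeSpectrum A,
      ∃ _ : DRing.HasLBaseChange (algebraMap A (Localization.AtPrime p.asIdeal)),
        Dual.IsDualizing (Localization.AtPrime p.asIdeal)
          ((DRing.LBaseChange (algebraMap A (Localization.AtPrime p.asIdeal))).obj R)) :
    Dual.IsDualizing A R := by
  refine isDualizing_of_pointwise hdim R hfin hbdd (fun p => ?_)
  obtain ⟨inst, hp⟩ := h p
  obtain ⟨e⟩ := nonempty_LBaseChange_iso_extD (A := A) (B := Localization.AtPrime p.asIdeal) R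
  exact isDualizing_of_iso e hp

end Dim

end Groth.Agent.Lib.Helper18.DR
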