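import Mathlib
import Groth.Agent.Lib.Helper18.DimH

/-!
# Dimension functions from dualizing complexes, IX: `δ(p) = dim A/p` over a local ring (helper18)
-/

set_option autoImplicit false
set_option linter.style.haveILetI false
universe u
open CategoryTheory CategoryTheory.Limits CategoryTheory.Pretriangulated DerivedCategory

attribute [local instance] HasDerivedCategory.standard

namespace Groth.Agent.Lib.Helper18.DR

namespace Dim

open HomLoc HomBC MaxCrit Uniq Norm

section order

/-- chains are bounded by a bounded strictly decreasing integer valued function -/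
lemma length_le_of_strictAnti {α : Type*} [Preorder α] (g : α → ℤ)
    (hg : ∀ x y : α, x < y → g y + 1 ≤ g x) (lo hi : ℤ) (hb : ∀ x, lo ≤ g x ∧ g x ≤ hi)
    (s : LTSeries α) : s.length ≤ (hi - lo).toNat := by
  let f : α → Fin ((hi - lo).toNat + 1) := fun p =>
    ⟨(hi - g p).toNat, by have := hb p; omega⟩
  have hf : StrictMono f := by
    intro p q hpq
    have h1 := hg p q hpq
    have h2 := hb p
    have h3 := hb q
    change (hi - g p).toNat < (hi - g q).toNat
    omega
  have h4 := (s.map f hf).length_lt_card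
  rw [Fintype.card_fin] at h4
  have h5 : (s.map f hf).length = s.length := rfl
  omega

end order

section loc

variable {A : Type u} [CommRing A] [IsLocalRing A] [IsNoetherianRing A]
  (δ : PrimeSpectrum A → ℤ) (hδ : ∀ p q : PrimeSpectrum A, p ⋖ q → δ p = δ q + 1)

include hδ

/-- over a local ring, a dimension function computes `dim A/p` up to the constant `δ(m)` -/
theorem ringKrullDim_quotient_eq_of_dimFun (p : PrimeSpectrum A) :
    0 ≤ δ p - δ (IsLocalRing.closedPoint A) ∧
      ringKrullDim (A ⧸ p.asIdeal) =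
        (((δ p - δ (IsLocalRing.closedPoint A)).toNat : ℕ) : WithBot ℕ∞) := by
  let M : PrimeSpectrum A := IsLocalRing.closedPoint A
  have hle : ∀ q : PrimeSpectrum A, q ≤ M := fun q =>
    IsLocalRing.le_maximalIdeal q.isPrime.ne_top
  have hanti : ∀ x y : PrimeSpectrum A, x ≤ y → δ y ≤ δ x := by
    intro x y hxy
    rcases eq_or_lt_of_le hxy with rfl | h
    · exact le_rfl
    · have := dimFun_lt δ hδ x y h
      omega
  have h0 : 0 ≤ δ p - δ M := by
    have := hanti p M (hle p)
    omega
  refine ⟨h0, ?_⟩
  rw [ringKrullDim_quotient, Order.krullDim]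
  apply le_antisymm
  · refine iSup_le (fun t => ?_)
    have h1 := length_le_of_strictAnti
      (fun q : PrimeSpectrum.zeroLocus (R := A) (p.asIdeal : Set A) => δ q.1)
      (fun x y hxy => dimFun_lt δ hδ x.1 y.1 hxy) (δ M) (δ p)
      (fun q => ⟨hanti q.1 M (hle q.1), hanti p q.1 q.2⟩) t
    exact_mod_cast h1
  · obtain ⟨s, hh, hl, hlen⟩ := exists_ltSeries_of_dimFun δ hδ p M (hle p)
    let t : LTSeries (PrimeSpectrum.zeroLocus (R := A) (p.asIdeal : Set A)) :=
      { length := s.length
        toFun := fun i => ⟨s i, by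
          have h1 := s.head_le i
          rw [hh] at h1
          exact h1⟩
        step := fun i => s.step i }
    have h2 : ((t.length : ℕ) : WithBot ℕ∞) = (((δ p - δ M).toNat : ℕ) : WithBot ℕ∞) := by
      have : t.length = (δ p - δ M).toNat := by
        change s.length = _
        omega
      rw [this]
    rw [← h2]
    exact le_iSup (fun t : LTSeries (PrimeSpectrum.zeroLocus (R := A) (p.asIdeal : Set A)) =>
      ((t.length : ℕ) : WithBot ℕ∞)) t

end loc

section main

variable {A : Type u} [CommRing A] [IsLocalRing A] [IsNoetherianRing A]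

/-- the degree at the closed point of a normalized dualizing complex is `0` -/
lemma isDeg_closedPoint (ω : Dual.D A) (hn : Dual.IsNormalized A ω) (n : ℤ)
    (h : IsDeg ω (IsLocalRing.closedPoint A) n) : n = 0 := by
  by_contra hne
  have h1 := (h n).2 rfl
  haveI : Subsingleton (Dual.inD A (A ⧸ IsLocalRing.maximalIdeal A) ⟶ ω⟦n⟧) :=
    subsingleton_hom_kap_shift ω n (hn n hne)
  have h2 : Subsingleton (LocalizedModule (IsLocalRing.closedPoint A).asIdeal.primeCompl
    (Dual.inD A (A ⧸ (IsLocalRing.closedPoint A).asIdeal) ⟶ ω⟦n⟧)) := by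
    change Subsingleton (LocalizedModule (IsLocalRing.maximalIdeal A).primeCompl
      (Dual.inD A (A ⧸ IsLocalRing.maximalIdeal A) ⟶ ω⟦n⟧))
    infer_instance
  exact not_subsingleton _ h2

/-- **S1719** -/
theorem nontrivial_localized_HD_iff_minimalPrime (ω : Dual.D A) (hω : Dual.IsDualizing A ω)
    (hn : Dual.IsNormalized A ω) (p : Ideal A) (hp : p ∈ minimalPrimes A) (e : ℕ)
    (he : ringKrullDim (A ⧸ p) = e) (i : ℤ) :
    Nontrivial (LocalizedModule (Ideal.primeCompl p (hp := hp.1.1)) (Dual.HD A ω i)) ↔
      i = -(e : ℤ) := by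
  haveI := hp.1.1
  let P : PrimeSpectrum A := ⟨p, hp.1.1⟩
  let B := Localization.AtPrime p
  haveI : Ring.KrullDimLE 0 B := Ring.KrullDimLE.of_isLocalization p hp B
  haveI : IsArtinianRing B := IsNoetherianRing.isArtinianRing_of_krullDimLE_zero
  obtain ⟨a, b, hab⟩ := hω.finite_injective_dimension
  have hfid : FidIn ω a b := hab
  haveI := hfid.isGE
  choose n hnd using fun q => exists_isDeg ω a q (isDualizing_locAt ω hω q)
  have hδ : ∀ q q' : PrimeSpectrum A, q ⋖ q' → (fun r => -n r) q = (fun r => -n r) q' + 1 := by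
    intro q q' hqq'
    have := isDeg_covBy a q q' hqq' (isDualizing_locAt ω hω q') (n q') (n q) (hnd q') (hnd q)
    change -n q = -n q' + 1
    omega
  have hM : n (IsLocalRing.closedPoint A) = 0 := isDeg_closedPoint ω hn _ (hnd _)
  obtain ⟨h0, hdim⟩ := ringKrullDim_quotient_eq_of_dimFun (fun r => -n r) hδ P
  change 0 ≤ -n P - -n (IsLocalRing.closedPoint A) at h0
  change ringKrullDim (A ⧸ p) =
    (((-n P - -n (IsLocalRing.closedPoint A)).toNat : ℕ) : WithBot ℕ∞) at hdim
  rw [he] at hdim
  have hek : e = (-n P - -n (IsLocalRing.closedPoint A)).toNat := by exact_mod_cast hdim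
  have hnP : n P = -(e : ℤ) := by omega
  rw [nontrivial_localizedModule_HD_iff p.primeCompl (isLocOf_locAt ω P) i, ← hnP]
  exact nontrivial_HD_iff_of_isArtinianRing (locAt ω P) (isDualizing_locAt ω hω P) (n P)
    (fun j hj => (hnd P).subsingleton_hom a j hj) i

end main

end Dim

end Groth.Agent.Lib.Helper18.DR
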