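import Mathlib
import Groth.Agent.Lib.Helper18.DimI

/-!
# `Ext^i(M, K) = 0` for `i < -dim M` (helper18)
-/

set_option autoImplicit false
set_option linter.style.haveILetI false
universe u
open CategoryTheory CategoryTheory.Limits CategoryTheory.Pretriangulated DerivedCategory

attribute [local instance] HasDerivedCategory.standard

namespace Groth.Agent.Lib.Helper18.DR

namespace ExtDim

open HomLoc HomBC MaxCrit Uniq Norm Dim

section aux

lemma wb_aux (x : WithBot ℕ∞) (d : ℕ) (h : x + 1 ≤ (d : WithBot ℕ∞)) (hx : 0 ≤ x) :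
    1 ≤ d ∧ x ≤ (((d - 1 : ℕ) : ℕ) : WithBot ℕ∞) := by
  induction x using WithBot.recBotCoe with
  | bot => exact absurd hx (by simp)
  | coe y =>
    induction y using ENat.recTopCoe with
    | top =>
      exfalso
      have : ((⊤ : ℕ∞) : WithBot ℕ∞) + 1 = ((⊤ : ℕ∞) : WithBot ℕ∞) := by
        rw [← WithBot.coe_one, ← WithBot.coe_add]; simp
      rw [this] at h
      have h2 : ((⊤ : ℕ∞) : WithBot ℕ∞) ≤ ((d : ℕ∞) : WithBot ℕ∞) := h
      rw [WithBot.coe_le_coe] at h2
      exact absurd h2 (by simp)
    | coe n =>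
      have h2 : ((n + 1 : ℕ) : WithBot ℕ∞) ≤ (d : WithBot ℕ∞) := by
        push_cast
        exact h
      have h3 : n + 1 ≤ d := by exact_mod_cast h2
      refine ⟨by omega, ?_⟩
      have : n ≤ d - 1 := by omega
      change ((n : ℕ∞) : WithBot ℕ∞) ≤ (((d - 1 : ℕ) : ℕ∞) : WithBot ℕ∞)
      rw [WithBot.coe_le_coe]
      exact_mod_cast this

lemma ringKrullDim_quot_sup_span_succ_le {A : Type*} [CommRing A] (p : Ideal A) [p.IsPrime]
    (x : A) (hx : x ∉ p) :
    ringKrullDim (A ⧸ (p ⊔ Ideal.span {x})) + 1 ≤ ringKrullDim (A ⧸ p) := by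
  have h1 : Ideal.Quotient.mk p x ∈ nonZeroDivisors (A ⧸ p) := by
    rw [mem_nonZeroDivisors_iff_ne_zero]
    intro h
    exact hx (Ideal.Quotient.eq_zero_iff_mem.1 h)
  have h2 := ringKrullDim_quotient_succ_le_of_nonZeroDivisor h1
  have e := DoubleQuot.quotQuotEquivQuotSup p (Ideal.span {x})
  have h3 : (Ideal.span {x}).map (Ideal.Quotient.mk p) = Ideal.span {Ideal.Quotient.mk p x} := by
    rw [Ideal.map_span, Set.image_singleton]
  rw [← h3] at h2
  rw [← ringKrullDim_eq_of_ringEquiv e]
  exact h2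

end aux

section main

variable {A : Type u} [CommRing A] [IsLocalRing A] [IsNoetherianRing A]
  (K : Dual.D A) (a₀ : ℤ) [K.IsGE a₀] (hfin : ∀ j : ℤ, Module.Finite A (Dual.HD A K j))
  (hκ : ∀ i : ℤ, i < 0 → Subsingleton (Sg 0 (kap A) ⟶ K⟦i⟧))

include a₀ hfin hκ in
/-- **Claim V**: `Ext^i(M, K) = 0` for `i < -dim M` when `Ext^i(κ, K) = 0` for `i < 0` -/
theorem subsingleton_hom_of_lt_neg_supportDim : ∀ (d : ℕ) (M : Type u) [AddCommGroup M]
    [Module A M] [Module.Finite A M], Module.supportDim A M ≤ (d : WithBot ℕ∞) →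
    ∀ i : ℤ, i < -(d : ℤ) → Subsingleton (Sg 0 (ModuleCat.of A M) ⟶ K⟦i⟧) := by
  intro d
  induction d using Nat.strong_induction_on with
  | _ d ih =>
    -- Step 1: cyclic modules `A ⧸ p`
    have step1 : ∀ (p : Ideal A) [p.IsPrime], ringKrullDim (A ⧸ p) ≤ (d : WithBot ℕ∞) →
        ∀ i : ℤ, i < -(d : ℤ) → Subsingleton (Sg 0 (ModuleCat.of A (A ⧸ p)) ⟶ K⟦i⟧) := by
      intro p _ hp i hi
      by_cases hpm : p = IsLocalRing.maximalIdeal A
      · subst hpm
        exact hκ i (by omega)
      · have hPm : p ≤ IsLocalRing.maximalIdeal A :=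
          IsLocalRing.le_maximalIdeal (Ideal.IsPrime.ne_top inferInstance)
        have hlt : p < IsLocalRing.maximalIdeal A := lt_of_le_of_ne hPm hpm
        obtain ⟨x, hx, hxP⟩ := Set.exists_of_ssubset hlt
        have hI : p ⊔ Ideal.span {x} ≤ IsLocalRing.maximalIdeal A :=
          sup_le hPm ((Ideal.span_singleton_le_iff_mem _).2 hx)
        haveI : Nontrivial (A ⧸ (p ⊔ Ideal.span {x})) :=
          Ideal.Quotient.nontrivial_iff.2 (fun h => by
            rw [h] at hI
            exact (IsLocalRing.maximalIdeal.isMaximal A).ne_top (top_le_iff.1 hI))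
        have h1 := (ringKrullDim_quot_sup_span_succ_le p x hxP).trans hp
        obtain ⟨hd1, h2⟩ := wb_aux _ d h1 ringKrullDim_nonneg_of_nontrivial
        have hcol : ∀ r, r ∈ p ↔ r * x ∈ p := fun r =>
          ⟨fun hr => p.mul_mem_right x hr,
            fun hr => ((Ideal.IsPrime.mem_or_mem inferInstance hr)).resolve_right hxP⟩
        have hS := colonSC_shortExact p p x hcol
        haveI : Module.Finite A (A ⧸ (p ⊔ Ideal.span {x})) :=
          Module.Finite.of_surjective (Submodule.mkQ _) (Submodule.mkQ_surjective _)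
        have h₃ : Subsingleton (Sg 0 (colonSC p p x hcol).X₃ ⟶ K⟦i + 1⟧) := by
          refine ih (d - 1) (by omega) (A ⧸ (p ⊔ Ideal.span {x})) ?_ (i + 1) ?_
          · rw [Module.supportDim_quotient_eq_ringKrullDim]
            exact h2
          · have : ((d - 1 : ℕ) : ℤ) = (d : ℤ) - 1 := by omega
            omega
        let M : ModuleCat.{u} A := ModuleCat.of A (A ⧸ p)
        haveI : Module.Finite A M := Module.Finite.of_surjective (Submodule.mkQ p)
          (Submodule.mkQ_surjective p)
        haveI : Module.Finite A (Sg 0 M ⟶ K⟦i⟧) := finite_hom_Sg_shift M K a₀ hfin i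
        refine subsingleton_of_forall_exists_smul _ x hx (fun ψ => ?_)
        obtain ⟨ψ', hψ'⟩ : ∃ ψ' : Sg 0 M ⟶ K⟦i⟧,
            ψ = (singleFunctor (ModuleCat.{u} A) 0).map (ModuleCat.ofHom (mulQ p p x hcol)) ≫
              ψ' :=
          exists_of_mor₁_of_subsingleton hS K i h₃ ψ
        refine ⟨ψ', ?_⟩
        have h4 : ModuleCat.ofHom (mulQ p p x hcol) = x • 𝟙 M := by
          apply ModuleCat.hom_ext
          apply LinearMap.ext
          intro y
          obtain ⟨r, rfl⟩ := Submodule.Quotient.mk_surjective _ y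
          change mulQ p p x hcol (Submodule.Quotient.mk r) =
            x • (Submodule.Quotient.mk r : A ⧸ p)
          rw [mulQ_mk, ← Submodule.Quotient.mk_smul, smul_eq_mul, mul_comm]
        rw [hψ', h4, Functor.map_smul, CategoryTheory.Functor.map_id, Linear.smul_comp,
          Category.id_comp]
    -- Step 2: prime filtration
    intro M _ _ hM
    induction hM using IsNoetherianRing.induction_on_isQuotientEquivQuotientPrime A with
    | subsingleton N =>
      intro _ i _
      have hz : IsZero (Sg 0 (ModuleCat.of A N)) :=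
        (DerivedCategory.singleFunctor (ModuleCat.{u} A) 0).map_isZero
          (ModuleCat.isZero_of_subsingleton (ModuleCat.of A N))
      exact ⟨fun f g => hz.eq_of_src f g⟩
    | quotient N q f =>
      intro hN i hi
      haveI := q.isPrime
      have h1 : ringKrullDim (A ⧸ q.asIdeal) ≤ (d : WithBot ℕ∞) := by
        rw [← Module.supportDim_quotient_eq_ringKrullDim, ← Module.supportDim_eq_of_equiv f]
        exact hN
      haveI := step1 q.asIdeal h1 i hi
      refine ⟨fun x y => ?_⟩
      rw [← cancel_epi ((DerivedCategory.singleFunctor (ModuleCat.{u} A) 0).map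
        f.toModuleIso.inv)]
      exact Subsingleton.elim _ _
    | exact N₁ N₂ N₃ f g hf hg hfg h₁ h₃ =>
      intro hN i hi
      let S : ShortComplex (ModuleCat.{u} A) :=
        ShortComplex.mk (ModuleCat.ofHom f) (ModuleCat.ofHom g) (by
          refine ModuleCat.hom_ext (LinearMap.ext fun p => ?_)
          exact hfg.apply_apply_eq_zero p)
      have hS : S.ShortExact := ModuleCat.shortComplex_shortExact _ hfg hf hg
      exact subsingleton_hom_X₂ hS (K⟦i⟧)
        (h₁ ((Module.supportDim_le_of_injective f hf).trans hN) i hi)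
        (h₃ ((Module.supportDim_le_of_surjective g hg).trans hN) i hi)

end main

end ExtDim

end Groth.Agent.Lib.Helper18.DR
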