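import Mathlib
import Groth.Agent.Lib.Helper18.ExtDimA
import Groth.Agent.Lib.Helper18.NormA

/-!
# Vanishing range and supports of `Ext^i(M, ω)` (helper18)
-/

set_option autoImplicit false
set_option linter.style.haveILetI false
universe u
open CategoryTheory CategoryTheory.Limits CategoryTheory.Pretriangulated DerivedCategory

attribute [local instance] HasDerivedCategory.standard

namespace Groth.Agent.Lib.Helper18.DR

namespace ExtDim

open HomLoc HomBC MaxCrit Uniq Norm Dim

section supp

variable {A : Type u} [CommRing A]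

/-- a module all of whose support primes have `dim A/p ≤ k` has dimension `≤ k` -/
lemma supportDim_le_of_forall_mem_support (N : Type*) [AddCommGroup N] [Module A N] (k : ℕ)
    (h : ∀ p ∈ Module.support A N, ringKrullDim (A ⧸ p.asIdeal) ≤ ((k : ℕ∞) : WithBot ℕ∞)) :
    Module.supportDim A N ≤ ((k : ℕ∞) : WithBot ℕ∞) := by
  rw [Module.supportDim, Order.krullDim]
  refine iSup_le (fun t => ?_)
  have h1 := h t.head.1 t.head.2
  rw [ringKrullDim_quotient, Order.krullDim] at h1
  let t' : LTSeries (PrimeSpectrum.zeroLocus (R := A) (t.head.1.asIdeal : Set A)) :=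
    { length := t.length
      toFun := fun i => ⟨(t i).1, by
        have h2 : t.head ≤ t i := t.head_le i
        exact h2⟩
      step := fun i => t.step i }
  exact (le_iSup (fun s : LTSeries (PrimeSpectrum.zeroLocus (R := A)
    (t.head.1.asIdeal : Set A)) => ((s.length : ℕ∞) : WithBot ℕ∞)) t').trans h1

end supp

section norm

variable {A : Type u} [CommRing A] [IsNoetherianRing A]

/-- the shift of `ω_p` by its degree is normalized -/
lemma isNormalized_locAt_shift (ω : Dual.D A) (n₀ : ℤ) [ω.IsGE n₀] (p : PrimeSpectrum A) (n : ℤ)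
    (h : IsDeg ω p n) : Dual.IsNormalized (Localization.AtPrime p.asIdeal) ((locAt ω p)⟦n⟧) := by
  intro j hj
  haveI := h.subsingleton_hom n₀ (n + j) (by omega)
  let c : ((locAt ω p)⟦n⟧)⟦j⟧ ≅ (locAt ω p)⟦n + j⟧ :=
    ((shiftFunctorAdd' (Dual.D (Localization.AtPrime p.asIdeal)) n j (n + j) rfl).app
      (locAt ω p)).symm
  refine ⟨fun x y => ?_⟩
  rw [← cancel_mono c.hom, ← cancel_epi (kapIso (A := Localization.AtPrime p.asIdeal)).hom]
  exact Subsingleton.elim _ _

end norm

section main

variable {A : Type u} [CommRing A] [IsLocalRing A] [IsNoetherianRing A]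

/-- the degree function of a normalized dualizing complex over a local ring is `-dim A/p` -/
theorem exists_degree_function (ω : Dual.D A) (hω : Dual.IsDualizing A ω)
    (hn : Dual.IsNormalized A ω) :
    ∃ n : PrimeSpectrum A → ℤ, (∀ p, IsDeg ω p (n p)) ∧
      ∀ p, n p ≤ 0 ∧ ringKrullDim (A ⧸ p.asIdeal) = ((((-n p).toNat : ℕ) : ℕ∞) : WithBot ℕ∞) := by
  obtain ⟨a, b, hab⟩ := hω.finite_injective_dimension
  have hfid : FidIn ω a b := hab
  haveI := hfid.isGE
  choose n hnd using fun q => exists_isDeg ω a q (isDualizing_locAt ω hω q)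
  have hδ : ∀ q q' : PrimeSpectrum A, q ⋖ q' → (fun r => -n r) q = (fun r => -n r) q' + 1 := by
    intro q q' hqq'
    have := isDeg_covBy a q q' hqq' (isDualizing_locAt ω hω q') (n q') (n q) (hnd q') (hnd q)
    change -n q = -n q' + 1
    omega
  have hM : n (IsLocalRing.closedPoint A) = 0 := isDeg_closedPoint ω hn _ (hnd _)
  refine ⟨n, hnd, fun p => ?_⟩
  obtain ⟨h0, hdim⟩ := ringKrullDim_quotient_eq_of_dimFun (fun r => -n r) hδ p
  change 0 ≤ -n p - -n (IsLocalRing.closedPoint A) at h0
  change ringKrullDim (A ⧸ p.asIdeal) =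
    (((-n p - -n (IsLocalRing.closedPoint A)).toNat : ℕ) : WithBot ℕ∞) at hdim
  rw [hM] at h0 hdim
  refine ⟨by omega, ?_⟩
  rw [hdim]
  have : (-n p - -0).toNat = (-n p).toNat := by
    congr 1
    omega
  rw [this]
  rfl

/-- **S0366** -/
theorem ext_dualizing_vanishing_and_support (ω : Dual.D A) (hω : Dual.IsDualizing A ω)
    (hn : Dual.IsNormalized A ω) (M : Type u) [AddCommGroup M] [Module A M] [Module.Finite A M]
    (d : ℕ) (hd : Module.supportDim A M = d) (i : ℤ) :
    (Nontrivial (Dual.inD A M ⟶ ω⟦i⟧) → (-(d : ℤ) ≤ i ∧ i ≤ 0)) ∧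
      Module.supportDim A (Dual.inD A M ⟶ ω⟦i⟧) ≤ ((-i).toNat : WithBot ℕ∞) := by
  obtain ⟨a, b, hab⟩ := hω.finite_injective_dimension
  have hfid : FidIn ω a b := hab
  haveI := hfid.isGE
  constructor
  · intro hnt
    constructor
    · by_contra hlt
      haveI := subsingleton_hom_of_lt_neg_supportDim ω a hω.finite_cohomology
        (fun j hj => subsingleton_hom_kap_shift ω j (hn j (by omega))) d M (le_of_eq hd) i
        (by omega)
      exact not_subsingleton _ ‹_›
    · by_contra hlt
      haveI : Subsingleton (Dual.inD A M ⟶ ω⟦i⟧) :=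
        subsingleton_hom_shift_of_normalized ω hω hn (Dual.inD A M) (fun j hj =>
          ModuleCat.subsingleton_of_isZero (isZero_of_isGE (Dual.inD A M) 0 j hj)) i (by omega)
      exact not_subsingleton _ ‹_›
  · obtain ⟨n, hnd, hnp⟩ := exists_degree_function ω hω hn
    change _ ≤ ((((-i).toNat : ℕ) : ℕ∞) : WithBot ℕ∞)
    refine supportDim_le_of_forall_mem_support _ _ (fun p hp => ?_)
    rw [Module.mem_support_iff] at hp
    obtain ⟨hle, hdim⟩ := hnp p
    rw [hdim, WithBot.coe_le_coe]
    -- `i ≤ n p`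
    have hin : i ≤ n p := by
      by_contra hlt
      rw [← not_subsingleton_iff_nontrivial] at hp
      apply hp
      let B := Localization.AtPrime p.asIdeal
      rw [subsingleton_localizedModule_hom_iff p.asIdeal.primeCompl (isLocOf_locAt ω p) a
        (ModuleCat.of A M) i]
      have hB := isDualizing_locAt ω hω p
      have hnorm := isNormalized_locAt_shift ω a p (n p) (hnd p)
      let X : Dual.D B := Sg 0 ((extM (A := A) (B := B)).obj (ModuleCat.of A M))
      have h1 : Subsingleton (X ⟶ ((locAt ω p)⟦n p⟧)⟦i - n p⟧) :=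
        subsingleton_hom_shift_of_normalized ((locAt ω p)⟦n p⟧)
          (InvTwist.isDualizing_shift _ hB _) hnorm X (fun j hj =>
          ModuleCat.subsingleton_of_isZero (isZero_of_isGE X 0 j hj)) (i - n p) (by omega)
      let c : ((locAt ω p)⟦n p⟧)⟦i - n p⟧ ≅ (locAt ω p)⟦i⟧ :=
        ((shiftFunctorAdd' (Dual.D B) (n p) (i - n p) i (by omega)).app (locAt ω p)).symm
      exact ⟨fun x y => by
        rw [← cancel_mono c.inv]
        exact Subsingleton.elim _ _⟩
    have : (-n p).toNat ≤ (-i).toNat := by omega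
    exact_mod_cast this

end main

end ExtDim

end Groth.Agent.Lib.Helper18.DR
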