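import Mathlib
import Groth.Prelude.Def_Fitting
import Groth.Agent.Lib.Helper18.FittLib4

/-!
# Fitting ideals VI: flexible row positions, block determinants (helper18)
-/

namespace Groth.Agent.Lib.Helper18.FittLib

open Matrix

universe u v w

section
variable {R : Type u} [CommRing R] {M : Type v} [AddCommGroup M] [Module R M]

lemma minorIdeal_succ_le {n : ℕ} (Z : Set (Fin n → R)) (t : ℕ) :
    minorIdeal Z (t + 1) ≤ minorIdeal Z t := by
  refine Ideal.span_le.2 ?_
  rintro d ⟨z, e, hz, rfl⟩
  rw [Matrix.det_succ_column_zero]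
  refine Ideal.sum_mem _ fun i _ => Ideal.mul_mem_left _ _ ?_
  refine Ideal.subset_span ⟨fun b => z b.succ, fun a => e (i.succAbove a), fun j => hz _, ?_⟩
  congr 1

lemma minorIdeal_antitone {n : ℕ} (Z : Set (Fin n → R)) {t t' : ℕ} (h : t ≤ t') :
    minorIdeal Z t' ≤ minorIdeal Z t := by
  induction h with
  | refl => exact le_rfl
  | step h ih => exact (minorIdeal_succ_le Z _).trans ih

lemma minorIdeal_zero {n : ℕ} (Z : Set (Fin n → R)) : minorIdeal Z 0 = ⊤ := by
  rw [Ideal.eq_top_iff_one]
  refine Ideal.subset_span ⟨Fin.elim0, Fin.elim0, fun j => j.elim0, ?_⟩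
  simp

lemma det_mem_minorIdeal_flex {n : ℕ} (Z : Set (Fin n → R)) :
    ∀ (N : ℕ) (c : Fin N → Fin n) (A : Matrix (Fin N) (Fin N) R) (S : Finset (Fin N)),
      (∀ i ∉ S, ∃ z ∈ Z, A i = z ∘ c) → A.det ∈ minorIdeal Z (N - S.card) := by
  classical
  intro N
  induction N with
  | zero =>
    intro c A S _
    rw [Nat.zero_sub, minorIdeal_zero]; trivial
  | succ N ih =>
    intro c A S hA
    rcases S.eq_empty_or_nonempty with hS | ⟨i₀, hi₀⟩
    · subst hS
      rw [Finset.card_empty, Nat.sub_zero]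
      choose z hz hzA using fun i => hA i (Finset.notMem_empty i)
      refine Ideal.subset_span ⟨z, c, hz, ?_⟩
      have : A = (Matrix.of fun a b => z b (c a))ᵀ := by
        ext a b; show A a b = _; rw [hzA a]; rfl
      rw [this, Matrix.det_transpose]
    · rw [Matrix.det_succ_row A i₀]
      refine Ideal.sum_mem _ fun j _ => Ideal.mul_mem_left _ _ ?_
      set S' : Finset (Fin N) := Finset.univ.filter (fun i => i₀.succAbove i ∈ S) with hS'
      have h1 := ih (c ∘ j.succAbove) (A.submatrix i₀.succAbove j.succAbove) S' (fun i hi => by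
        have hi' : i₀.succAbove i ∉ S := by simpa [hS'] using hi
        obtain ⟨z, hz, hzA⟩ := hA _ hi'
        refine ⟨z, hz, ?_⟩
        ext k
        simp [Matrix.submatrix_apply, hzA])
      have hcard : S'.card + 1 ≤ S.card := by
        have hsub : (S'.image i₀.succAbove) ⊆ S.erase i₀ := by
          intro y hy
          obtain ⟨i, hi, rfl⟩ := Finset.mem_image.1 hy
          rw [Finset.mem_erase]
          exact ⟨Fin.succAbove_ne i₀ i, by simpa [hS'] using hi⟩
        have h2 := Finset.card_le_card hsub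
        rw [Finset.card_image_of_injective _ Fin.succAbove_right_injective,
          Finset.card_erase_of_mem hi₀] at h2
        have := Finset.card_pos.2 ⟨i₀, hi₀⟩
        omega
      exact minorIdeal_antitone Z (by omega) h1

/-- Flexible membership: enough relation rows anywhere. -/
lemma det_mem_F_flex {N : ℕ} (x : Fin N → M) (l : ℕ) (B : Matrix (Fin N) (Fin N) R)
    (T : Finset (Fin N)) (hT : N - l ≤ T.card) (hrel : ∀ i ∈ T, ∑ j, B i j • x j = 0) :
    B.det ∈ F R x l := by
  classical
  refine minorIdeal_le_F x l ?_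
  have h1 := det_mem_minorIdeal_flex {z : Fin N → R | ∑ i, z i • x i = 0} N id B Tᶜ
    (fun i hi => ⟨B i, hrel i (by simpa using hi), rfl⟩)
  refine minorIdeal_antitone _ ?_ h1
  rw [Finset.card_compl, Fintype.card_fin]
  have := Finset.card_le_univ T
  simp only [Fintype.card_fin] at this
  omega

lemma det_eq_zero_of_rows_supported {ι : Type*} [Fintype ι] [DecidableEq ι] (B : Matrix ι ι R)
    (P C : Finset ι) (h : ∀ i ∈ P, ∀ j ∉ C, B i j = 0) (hc : C.card < P.card) : B.det = 0 := by
  rw [Matrix.det_apply]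
  refine Finset.sum_eq_zero fun σ _ => ?_
  have hex : ∃ i, σ i ∈ P ∧ i ∉ C := by
    by_contra hcon
    push_neg at hcon
    have := Finset.card_le_card_of_injOn σ.symm
      (fun p hp => hcon (σ.symm p) (by simpa using hp)) σ.symm.injective.injOn
    omega
  obtain ⟨i, hi, hiC⟩ := hex
  have hz : ∏ k, B (σ k) k = 0 := Finset.prod_eq_zero (Finset.mem_univ i) (h _ hi _ hiC)
  rw [hz, smul_zero]

lemma det_block_decomp {n n' : ℕ} (B : Matrix (Fin (n + n')) (Fin (n + n')) R)
    (P : Finset (Fin (n + n'))) (hP : P.card = n)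
    (hL : ∀ i ∈ P, ∀ j : Fin n', B i (Fin.natAdd n j) = 0)
    (hR : ∀ i ∉ P, ∀ j : Fin n, B i (Fin.castAdd n' j) = 0) :
    ∃ (eP : Fin n ≃ {i // i ∈ P}) (eQ : Fin n' ≃ {i // i ∉ P}) (ε : R),
      B.det = ε * ((Matrix.of fun i j => B (eP i) (Fin.castAdd n' j)).det *
        (Matrix.of fun i j => B (eQ i) (Fin.natAdd n j)).det) := by
  classical
  have hQ : Fintype.card {i // i ∉ P} = n' := by
    rw [Fintype.card_subtype_compl, Fintype.card_fin, Fintype.card_coe, hP]; omega
  let eP : Fin n ≃ {i // i ∈ P} := (Finset.equivFinOfCardEq hP).symm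
  let eQ : Fin n' ≃ {i // i ∉ P} := (Fintype.equivFinOfCardEq hQ).symm
  let ρ : Fin n ⊕ Fin n' ≃ Fin (n + n') :=
    (Equiv.sumCongr eP eQ).trans (Equiv.sumCompl (· ∈ P))
  let c : Fin n ⊕ Fin n' ≃ Fin (n + n') := finSumFinEquiv
  let σ : Equiv.Perm (Fin (n + n')) := c.symm.trans ρ
  refine ⟨eP, eQ, (((Equiv.Perm.sign σ : ℤˣ) : ℤ) : R), ?_⟩
  set a : Matrix (Fin n) (Fin n) R := Matrix.of fun i j => B (eP i) (Fin.castAdd n' j) with ha
  set a' : Matrix (Fin n') (Fin n') R := Matrix.of fun i j => B (eQ i) (Fin.natAdd n j) with ha'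
  have h1 : B.submatrix ρ c = Matrix.fromBlocks a 0 0 a' := by
    ext (i | i) (j | j)
    · simp [ρ, c, ha]
    · simp [ρ, c, hL _ (eP i).2]
    · simp [ρ, c, hR _ (eQ i).2]
    · simp [ρ, c, ha']
  have h2 : (B.submatrix ρ c).det = (((Equiv.Perm.sign σ : ℤˣ) : ℤ) : R) * B.det := by
    have : B.submatrix ρ c = (B.submatrix σ id).submatrix c c := by
      ext i j; simp [σ]
    rw [this, Matrix.det_submatrix_equiv_self, Matrix.det_permute]
  have h3 : (Matrix.fromBlocks a 0 0 a').det = a.det * a'.det :=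
    Matrix.det_fromBlocks_zero₂₁ a 0 a'
  have h4 : (((Equiv.Perm.sign σ : ℤˣ) : ℤ) : R) * (((Equiv.Perm.sign σ : ℤˣ) : ℤ) : R) = 1 := by
    rw [← Int.cast_mul, ← Units.val_mul, Int.units_mul_self]; simp
  rw [← h3, ← h1, h2, ← mul_assoc, h4, one_mul]

lemma matMinorIdeal_square {n : ℕ} (A : Matrix (Fin n) (Fin n) R) :
    matMinorIdeal A n = Ideal.span {A.det} := by
  classical
  apply le_antisymm
  · refine Ideal.span_le.2 ?_
    rintro d ⟨f, g, rfl⟩
    rw [SetLike.mem_coe, Ideal.mem_span_singleton']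
    by_cases hf : Function.Injective f
    · by_cases hg : Function.Injective g
      · let σ : Equiv.Perm (Fin n) := Equiv.ofBijective f (Finite.injective_iff_bijective.1 hf)
        let τ : Equiv.Perm (Fin n) := Equiv.ofBijective g (Finite.injective_iff_bijective.1 hg)
        refine ⟨(((Equiv.Perm.sign σ : ℤˣ) : ℤ) : R) * (((Equiv.Perm.sign τ : ℤˣ) : ℤ) : R), ?_⟩
        have : A.submatrix f g = (A.submatrix id τ).submatrix σ id := by
          ext i j; rfl
        rw [this, Matrix.det_permute, Matrix.det_permute', mul_assoc]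
      · refine ⟨0, ?_⟩
        simp only [Function.Injective, not_forall] at hg
        obtain ⟨a, a', hgg, hne⟩ := hg
        rw [zero_mul]
        exact (Matrix.det_zero_of_column_eq hne (fun k => by simp [hgg])).symm
    · refine ⟨0, ?_⟩
      simp only [Function.Injective, not_forall] at hf
      obtain ⟨a, a', hff, hne⟩ := hf
      rw [zero_mul]
      exact (Matrix.det_zero_of_row_eq hne (by ext k; simp [hff])).symm
  · rw [Ideal.span_le, Set.singleton_subset_iff]
    have := det_submatrix_mem_matMinorIdeal A (id : Fin n → Fin n) id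
    simpa using this

end

end Groth.Agent.Lib.Helper18.FittLib
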