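import Mathlib
import Groth.Agent.S9282
import Groth.Agent.S2036
import Groth.Agent.Lib.Helper21.GeomRegB

/-!
# Finiteness of `H¹(L_{K/k})` for the residue field of a geometrically regular local ring (helper18)
-/

set_option autoImplicit false
set_option linter.style.haveILetI false
universe u

namespace Groth.Agent.Lib.Helper18.DR.Pc

open IsLocalRing

/-- localizations of geometrically regular algebras are geometrically regular (char `p`) -/
theorem isGeometricallyRegular_localization {k Λ : Type u} [Field k] (p : ℕ) [Fact p.Prime]
    [CharP k p] [CommRing Λ] [Algebra k Λ] [IsNoetherianRing Λ]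
    (hreg : CAlg.IsGeometricallyRegular k Λ) (q : Ideal Λ) [q.IsPrime] :
    CAlg.IsGeometricallyRegular k (Localization.AtPrime q) :=
  (Groth.Agent.S2036.result p).mpr
    (Groth.Agent.Lib.Helper21.GeomReg.forall_adicFS_of_isGeometricallyRegular k Λ hreg q)

theorem finite_h1Cotangent_residueField {k S : Type u} [Field k] (p : ℕ) [Fact p.Prime]
    [CharP k p] [CommRing S] [IsLocalRing S] [IsNoetherianRing S] [Algebra k S]
    (hS : CAlg.IsGeometricallyRegular k S) :
    Module.Finite (ResidueField S) (Algebra.H1Cotangent k (ResidueField S)) := by
  have hfs : CAlgX.IsAdicFormallySmooth k S (maximalIdeal S) := (Groth.Agent.S2036.result p).mp hS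
  haveI : IsLocalHom (algebraMap k S) := by
    refine ⟨fun a ha => ?_⟩
    refine IsUnit.mk0 _ ?_
    rintro rfl
    rw [map_zero] at ha
    exact not_isUnit_zero ha
  have hinj := Groth.Agent.S9282.result k S hfs
  haveI : Algebra.FinitePresentation S (ResidueField S) :=
    Algebra.FinitePresentation.quotient (IsNoetherian.noetherian _)
  haveI : Algebra.FormallyUnramified S (ResidueField S) :=
    Algebra.FormallyUnramified.of_surjective (Algebra.ofId S (ResidueField S))
      Ideal.Quotient.mk_surjective
  haveI : Subsingleton (Ω[ResidueField S⁄S]) := inferInstance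
  haveI : Module.Projective (ResidueField S) (Ω[ResidueField S⁄S]) := inferInstance
  haveI : Module.Finite (ResidueField S) (Algebra.H1Cotangent S (ResidueField S)) := inferInstance
  exact Module.Finite.of_injective
    (Algebra.H1Cotangent.map k S (ResidueField S) (ResidueField S)) hinj

end Groth.Agent.Lib.Helper18.DR.Pc
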