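import Mathlib

/-!
# `H¹(L_{K/P}) = 0` for any field extension of a perfect field (helper18)

Mathlib only has this for finitely generated extensions. We reduce to that case using the
Jacobi–Zariski sequence: a class in `H¹(L_{K/P})` dies in `H¹(L_{K/K₀})` as soon as `K₀` contains
the variables of a representative.
-/

set_option autoImplicit false
set_option linter.style.haveILetI false
universe u v

namespace Groth.Agent.Lib.Helper18.DR.Pb

open MvPolynomial Algebra

/-- the custom hom of generators `P[X_s : s ∈ K] → K₀[X_s : s ∈ K]` sending `X_s` to the constant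
`s` when `s ∈ K₀`. -/
noncomputable def constHom (P : Type v) (K : Type u) [Field P] [Field K] [Algebra P K]
    (K₀ : IntermediateField P K) :
    (Generators.self P K).Hom (Generators.self K₀ K) where
  val s := by
    classical
    exact if h : s ∈ K₀ then C (⟨s, h⟩ : K₀) else X s
  aeval_val s := by
    classical
    by_cases h : s ∈ K₀
    · simp only [dif_pos h, Generators.self_val, aeval_C, id_eq]
      rfl
    · simp only [dif_neg h, Generators.self_val, aeval_X, id_eq]
      rfl

theorem subsingleton_h1Cotangent_of_perfectField (P : Type v) (K : Type u) [Field P] [PerfectField P]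
    [Field K] [Algebra P K] : Subsingleton (Algebra.H1Cotangent P K) := by
  classical
  suffices h : ∀ ξ : Algebra.H1Cotangent P K, ξ = 0 from ⟨fun ξ η => by rw [h ξ, h η]⟩
  intro ξ
  obtain ⟨y, hy⟩ := Algebra.Extension.Cotangent.mk_surjective ξ.1
  let σ : Finset K := (y.1 : MvPolynomial K P).vars
  let K₀ : IntermediateField P K := IntermediateField.adjoin P (σ : Set K)
  haveI : Algebra.EssFiniteType P K₀ := IntermediateField.essFiniteType_iff.mpr ⟨σ, rfl⟩
  haveI : Algebra.FormallySmooth P K₀ := Algebra.FormallySmooth.of_perfectField
  have hex := Algebra.H1Cotangent.exact_liftBaseChange_map_of_flat P K₀ K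
  have key : Algebra.H1Cotangent.map P K₀ K K ξ = 0 := by
    have h1 : Algebra.H1Cotangent.map P K₀ K K =
        Algebra.Extension.H1Cotangent.map (constHom P K K₀).toExtensionHom :=
      Algebra.Extension.H1Cotangent.map_eq _ _
    rw [h1]
    apply Algebra.Extension.h1Cotangentι_ext
    rw [Algebra.Extension.H1Cotangent.map_apply_coe, ← hy, Algebra.Extension.Cotangent.map_mk]
    have hσ : ∀ s ∈ σ, s ∈ K₀ := fun s hs => IntermediateField.subset_adjoin P _ hs
    let g : K → K₀ := fun s => if h : s ∈ K₀ then ⟨s, h⟩ else 0
    have hy0 : (constHom P K K₀).toAlgHom y.1 = 0 := by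
      have e1 : (constHom P K K₀).toAlgHom y.1 =
          MvPolynomial.aeval (fun s => (IsScalarTower.toAlgHom P K₀ (MvPolynomial K K₀)) (g s))
            y.1 := by
        show MvPolynomial.aeval (constHom P K K₀).val y.1 = _
        rw [MvPolynomial.aeval_def, MvPolynomial.aeval_def]
        apply MvPolynomial.eval₂_congr
        intro s c hs hc
        have hsσ : s ∈ σ := by
          rw [MvPolynomial.mem_vars]
          exact ⟨c, MvPolynomial.mem_support_iff.mpr hc, hs⟩
        simp only [constHom, dif_pos (hσ s hsσ), g]
        rfl
      rw [e1, ← MvPolynomial.comp_aeval, AlgHom.comp_apply]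
      have e2 : MvPolynomial.aeval g y.1 = 0 := by
        apply (algebraMap K₀ K).injective
        rw [map_zero]
        have e3 : algebraMap K₀ K (MvPolynomial.aeval g y.1) =
            MvPolynomial.aeval (fun s => (IsScalarTower.toAlgHom P K₀ K) (g s)) y.1 := by
          rw [← MvPolynomial.comp_aeval, AlgHom.comp_apply]
          rfl
        rw [e3]
        have e4 : MvPolynomial.aeval (fun s => (IsScalarTower.toAlgHom P K₀ K) (g s)) y.1 =
            MvPolynomial.aeval (Generators.self P K).val y.1 := by
          rw [MvPolynomial.aeval_def, MvPolynomial.aeval_def]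
          apply MvPolynomial.eval₂_congr
          intro s c hs hc
          have hsσ : s ∈ σ := by
            rw [MvPolynomial.mem_vars]
            exact ⟨c, MvPolynomial.mem_support_iff.mpr hc, hs⟩
          simp only [g, dif_pos (hσ s hsσ)]
          rfl
        rw [e4]
        exact y.2
      rw [e2, map_zero]
    have hmk : ∀ (w : (Generators.self K₀ K).toExtension.ker), w.1 = 0 →
        Algebra.Extension.Cotangent.mk w = 0 := by
      intro w hw
      have : w = 0 := Subtype.ext hw
      rw [this, map_zero]
    rw [hmk _ hy0]
    rfl
  obtain ⟨z, hz⟩ := (hex ξ).mp key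
  have hz0 : z = 0 := Subsingleton.elim _ _
  rw [← hz, hz0, map_zero]

/-- any field extension of a perfect field is formally smooth. -/
theorem formallySmooth_of_perfectField (P : Type v) (K : Type u) [Field P] [PerfectField P]
    [Field K] [Algebra P K] : Algebra.FormallySmooth P K :=
  ⟨inferInstance, subsingleton_h1Cotangent_of_perfectField P K⟩

end Groth.Agent.Lib.Helper18.DR.Pb
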