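import Mathlib

/-!
# Differential bases generate over `p`-th powers (helper18)
-/

set_option autoImplicit false
set_option linter.style.haveILetI false
universe u v

namespace Groth.Agent.Lib.Helper18.DR.Pb

open IntermediateField

/-- Kähler differentials of a field generated by `S` are spanned by `d s`, `s ∈ S`. -/
theorem span_D_adjoin {F : Type v} {L : Type u} [Field F] [Field L] [Algebra F L] (S : Set L) :
    Submodule.span (adjoin F S)
      (Set.range fun s : S => KaehlerDifferential.D F (adjoin F S)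
        ⟨s.1, subset_adjoin F S s.2⟩) = ⊤ := by
  set M := adjoin F S with hM
  set W : Submodule M (Ω[M⁄F]) := Submodule.span M
      (Set.range fun s : S => KaehlerDifferential.D F M ⟨s.1, subset_adjoin F S s.2⟩) with hW
  have key : ∀ x (hx : x ∈ M), KaehlerDifferential.D F M ⟨x, hx⟩ ∈ W := by
    intro x hx
    induction hx using adjoin_induction with
    | mem x hx => exact Submodule.subset_span ⟨⟨x, hx⟩, rfl⟩
    | algebraMap x =>
      have : (⟨algebraMap F L x, IntermediateField.algebraMap_mem _ _⟩ : M) = algebraMap F M x := rfl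
      rw [this, Derivation.map_algebraMap]
      exact zero_mem _
    | add x y hx hy h1 h2 =>
      have : (⟨x + y, add_mem hx hy⟩ : M) = ⟨x, hx⟩ + ⟨y, hy⟩ := rfl
      rw [this, map_add]
      exact add_mem h1 h2
    | inv x hx h1 =>
      have : (⟨x⁻¹, inv_mem hx⟩ : M) = (⟨x, hx⟩ : M)⁻¹ := rfl
      rw [this, Derivation.leibniz_inv]
      exact Submodule.smul_mem _ _ h1
    | mul x y hx hy h1 h2 =>
      have : (⟨x * y, mul_mem hx hy⟩ : M) = ⟨x, hx⟩ * ⟨y, hy⟩ := rfl
      rw [this, Derivation.leibniz]
      exact add_mem (Submodule.smul_mem _ _ h2) (Submodule.smul_mem _ _ h1)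
  rw [eq_top_iff, ← KaehlerDifferential.span_range_derivation, Submodule.span_le]
  rintro _ ⟨x, rfl⟩
  exact key x.1 x.2

section pbasis

variable {k : Type u} [Field k] (p : ℕ) [Fact p.Prime] [CharP k p] [Algebra (ZMod p) k]

/-- If the `d s`, `s ∈ S`, span `Ω_{k/𝔽_p}`, then `k = k^p(S)`. -/
theorem adjoin_frobenius_eq_top (S : Set k)
    (hS : Submodule.span k (Set.range fun s : S => KaehlerDifferential.D (ZMod p) k s.1) = ⊤) :
    adjoin (ZMod p) (Set.range (frobenius k p) ∪ S) = ⊤ := by
  classical
  set M := adjoin (ZMod p) (Set.range (frobenius k p) ∪ S) with hM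
  by_contra hne
  obtain ⟨c, hc⟩ : ∃ c, c ∉ M := by
    by_contra hcon
    push_neg at hcon
    exact hne (eq_top_iff.mpr fun x _ => hcon x)
  -- Zorn
  let 𝒵 : Set (IntermediateField (ZMod p) k) := {M' | M ≤ M' ∧ c ∉ M'}
  obtain ⟨M', hMM', hmax⟩ := zorn_le_nonempty₀ 𝒵 (by
    intro C hC hchain y hy
    haveI : Nonempty C := ⟨⟨y, hy⟩⟩
    have hdir : Directed (· ≤ ·) (fun i : C => i.1) := by
      intro a b
      rcases hchain.total a.2 b.2 with h | h
      · exact ⟨b, h, le_rfl⟩
      · exact ⟨a, le_rfl, h⟩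
    refine ⟨⨆ i : C, i.1, ⟨?_, ?_⟩, fun z hz => le_iSup (fun i : C => i.1) ⟨z, hz⟩⟩
    · exact (hC hy).1.trans (le_iSup (fun i : C => i.1) ⟨y, hy⟩)
    · intro hcm
      rw [← SetLike.mem_coe, coe_iSup_of_directed hdir, Set.mem_iUnion] at hcm
      obtain ⟨i, hi⟩ := hcm
      exact (hC i.2).2 hi) M ⟨le_rfl, hc⟩
  have hM' : M ≤ M' := hmax.1.1
  have hcM' : c ∉ M' := hmax.1.2
  haveI : ExpChar M' p := RingHom.expChar (algebraMap M' k) (algebraMap M' k).injective p
  haveI hpi : IsPurelyInseparable M' k := by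
    rw [isPurelyInseparable_iff_pow_mem M' p]
    intro x
    refine ⟨1, ?_⟩
    have : x ^ p ^ 1 ∈ M' := by
      rw [pow_one]
      exact hM' (subset_adjoin _ _ (Or.inl ⟨x, rfl⟩))
    exact ⟨⟨_, this⟩, rfl⟩
  haveI hunr : Algebra.FormallyUnramified M' k := by
    constructor
    have hD : ∀ x : k, KaehlerDifferential.D M' k x = 0 := by
      intro x
      have hx : KaehlerDifferential.D (ZMod p) k x ∈
          Submodule.span k (Set.range fun s : S => KaehlerDifferential.D (ZMod p) k s.1) := by
        rw [hS]; trivial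
      have h2 : KaehlerDifferential.map (ZMod p) M' k k (KaehlerDifferential.D (ZMod p) k x) ∈
          Submodule.map (KaehlerDifferential.map (ZMod p) M' k k)
          (Submodule.span k (Set.range fun s : S => KaehlerDifferential.D (ZMod p) k s.1)) :=
        Submodule.mem_map_of_mem hx
      rw [Submodule.map_span, KaehlerDifferential.map_D] at h2
      have h3 : (KaehlerDifferential.map (ZMod p) M' k k) ''
          (Set.range fun s : S => KaehlerDifferential.D (ZMod p) k s.1) ⊆ {0} := by
        rintro _ ⟨_, ⟨s, rfl⟩, rfl⟩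
        rw [KaehlerDifferential.map_D]
        have hs : s.1 ∈ M' := hM' (subset_adjoin _ _ (Or.inr s.2))
        have : (algebraMap k k) s.1 = algebraMap M' k ⟨s.1, hs⟩ := rfl
        rw [this, Derivation.map_algebraMap]
        rfl
      have h4 := Submodule.span_mono h3 h2
      rw [Submodule.span_singleton_eq_bot.mpr rfl] at h4
      simpa using h4
    have htop : (⊤ : Submodule k (Ω[k⁄M'])) = ⊥ := by
      rw [← KaehlerDifferential.span_range_derivation, Submodule.span_eq_bot]
      rintro _ ⟨x, rfl⟩
      exact hD x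
    exact (Submodule.subsingleton_iff k).mp (subsingleton_of_bot_eq_top htop.symm)
  -- finrank of simple extensions
  have hint : ∀ x : k, IsIntegral M' x := fun x => IsPurelyInseparable.isIntegral' M' x
  have hfr : ∀ x : k, x ∉ M' → Module.finrank M' M'⟮x⟯ = p := by
    intro x hx
    haveI : FiniteDimensional M' M'⟮x⟯ := adjoin.finiteDimensional (hint x)
    haveI : IsPurelyInseparable M' M'⟮x⟯ := IsPurelyInseparable.tower_bot M' M'⟮x⟯ k
    obtain ⟨n, hn⟩ := IsPurelyInseparable.finrank_eq_pow (F := M') M'⟮x⟯ p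
    have hle : Module.finrank M' M'⟮x⟯ ≤ p := by
      rw [adjoin.finrank (hint x)]
      have hxp : x ^ p ∈ M' := hM' (subset_adjoin _ _ (Or.inl ⟨x, rfl⟩))
      have hdvd : minpoly M' x ∣ Polynomial.X ^ p - Polynomial.C (⟨x ^ p, hxp⟩ : M') := by
        apply minpoly.dvd
        simp only [map_sub, map_pow, Polynomial.aeval_X, Polynomial.aeval_C]
        show x ^ p - x ^ p = 0
        exact sub_self _
      have hne0 : (Polynomial.X ^ p - Polynomial.C (⟨x ^ p, hxp⟩ : M') : Polynomial M') ≠ 0 :=
        Polynomial.X_pow_sub_C_ne_zero (Fact.out : p.Prime).pos _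
      calc (minpoly M' x).natDegree
          ≤ (Polynomial.X ^ p - Polynomial.C (⟨x ^ p, hxp⟩ : M') : Polynomial M').natDegree :=
            Polynomial.natDegree_le_of_dvd hdvd hne0
        _ = p := Polynomial.natDegree_X_pow_sub_C
    rcases Nat.eq_zero_or_pos n with h0 | hpos
    · exfalso
      rw [h0, pow_zero] at hn
      rw [finrank_adjoin_simple_eq_one_iff, IntermediateField.mem_bot] at hn
      obtain ⟨y, rfl⟩ := hn
      exact hx y.2
    · have hp1 : 1 < p := (Fact.out : p.Prime).one_lt
      have : p ^ 1 ≤ p ^ n := Nat.pow_le_pow_right (by omega) hpos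
      rw [pow_one] at this
      omega
  -- k = M'(c)
  have htop : M'⟮c⟯ = ⊤ := by
    rw [eq_top_iff]
    intro c' _
    by_cases hc' : c' ∈ M'
    · have : c' = algebraMap M' k ⟨c', hc'⟩ := rfl
      rw [this]
      exact IntermediateField.algebraMap_mem _ _
    · -- c ∈ M'(c')
      have hcin : c ∈ M'⟮c'⟯ := by
        by_contra hcn
        let N : IntermediateField (ZMod p) k := (M'⟮c'⟯).restrictScalars (ZMod p)
        have hM'N : M' ≤ N := by
          intro x hx
          have : x = algebraMap M' k ⟨x, hx⟩ := rfl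
          show x ∈ M'⟮c'⟯
          rw [this]
          exact IntermediateField.algebraMap_mem _ _
        have hN : N ∈ 𝒵 := ⟨hM'.trans hM'N, hcn⟩
        have := hmax.2 hN hM'N
        exact hc' (this (show c' ∈ M'⟮c'⟯ from mem_adjoin_simple_self M' c'))
      have hle : M'⟮c⟯ ≤ M'⟮c'⟯ := adjoin_simple_le_iff.mpr hcin
      haveI : FiniteDimensional M' M'⟮c'⟯ := adjoin.finiteDimensional (hint c')
      have heq := eq_of_le_of_finrank_eq hle ((hfr c hcM').trans (hfr c' hc').symm)
      rw [heq]
      exact mem_adjoin_simple_self M' c'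
  haveI : FiniteDimensional M' M'⟮c⟯ := adjoin.finiteDimensional (hint c)
  haveI : Module.Finite M' k := by
    have e : M'⟮c⟯ ≃ₐ[M'] k := (IntermediateField.equivOfEq htop).trans IntermediateField.topEquiv
    exact Module.Finite.equiv e.toLinearEquiv
  have hrange := Algebra.FormallyUnramified.range_eq_top_of_isPurelyInseparable M' k
  have : c ∈ (algebraMap M' k).range := by rw [hrange]; trivial
  obtain ⟨y, rfl⟩ := this
  exact hcM' y.2

/-- Iterated version: `k = k^{p^e}(S)`. -/
theorem adjoin_pow_eq_top (S : Set k)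
    (hS : adjoin (ZMod p) (Set.range (frobenius k p) ∪ S) = ⊤) (e : ℕ) :
    adjoin (ZMod p) (Set.range (fun x : k => x ^ p ^ e) ∪ S) = ⊤ := by
  induction e with
  | zero =>
    rw [eq_top_iff]
    intro x _
    exact subset_adjoin _ _ (Or.inl ⟨x, by simp⟩)
  | succ e ih =>
    set T := adjoin (ZMod p) (Set.range (fun x : k => x ^ p ^ (e + 1)) ∪ S) with hT
    rw [eq_top_iff, ← ih, adjoin_le_iff]
    rintro _ (⟨x, rfl⟩ | hs)
    · have hx : x ∈ adjoin (ZMod p) (Set.range (frobenius k p) ∪ S) := by rw [hS]; trivial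
      show x ^ p ^ e ∈ T
      induction hx using adjoin_induction with
      | mem x hx =>
        rcases hx with ⟨y, rfl⟩ | hx
        · have : (frobenius k p y) ^ p ^ e = y ^ p ^ (e + 1) := by
            rw [frobenius_def, ← pow_mul, pow_succ, mul_comm]
          rw [this]
          exact subset_adjoin _ _ (Or.inl ⟨y, rfl⟩)
        · have hxT : x ∈ T := subset_adjoin _ _ (Or.inr hx)
          exact pow_mem hxT _
      | algebraMap x =>
        rw [← map_pow]
        exact IntermediateField.algebraMap_mem _ _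
      | add x y _ _ h1 h2 =>
        rw [add_pow_char_pow]
        exact add_mem h1 h2
      | inv x _ h1 =>
        rw [inv_pow]
        exact inv_mem h1
      | mul x y _ _ h1 h2 =>
        rw [mul_pow]
        exact mul_mem h1 h2
    · exact subset_adjoin _ _ (Or.inr hs)

end pbasis

end Groth.Agent.Lib.Helper18.DR.Pb
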