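import Mathlib
import Groth.Agent.Lib.Helper18.PbA
import Groth.Agent.Lib.Helper18.PbB

/-!
# A big subfield over which a field extension is formally smooth (helper18)
-/

set_option autoImplicit false
set_option linter.style.haveILetI false
universe u

namespace Groth.Agent.Lib.Helper18.DR.Pb

open IntermediateField TensorProduct

/-- injectivity criterion: a spanning family mapped to a linearly independent family. -/
theorem injective_of_span_of_linearIndependent {R M N ι : Type*} [Ring R] [AddCommGroup M]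
    [AddCommGroup N] [Module R M] [Module R N] (f : M →ₗ[R] N) (v : ι → M)
    (hv : Submodule.span R (Set.range v) = ⊤) (hli : LinearIndependent R (f ∘ v)) :
    Function.Injective f := by
  rw [injective_iff_map_eq_zero]
  intro x hx
  have hxs : x ∈ Submodule.span R (Set.range v) := by rw [hv]; trivial
  obtain ⟨c, rfl⟩ := (Finsupp.mem_span_range_iff_exists_finsupp).mp hxs
  rw [Finsupp.sum, map_sum] at hx
  simp only [map_smul] at hx
  have hc : c = 0 := by
    apply linearIndependent_iff.mp hli c
    rw [Finsupp.linearCombination_apply, Finsupp.sum]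
    exact hx
  rw [hc]
  simp

variable {k K : Type u} [Field k] [Field K] [Algebra k K] (p : ℕ) [Fact p.Prime] [CharP k p]
  [Algebra (ZMod p) k] [Algebra (ZMod p) K] [IsScalarTower (ZMod p) k K]

/-- formal smoothness over an intermediate field from injectivity on differentials. -/
theorem formallySmooth_of_injective (k₁ : IntermediateField (ZMod p) k)
    (hinj : Function.Injective (KaehlerDifferential.mapBaseChange (ZMod p) k₁ K)) :
    Algebra.FormallySmooth k₁ K := by
  refine ⟨inferInstance, ?_⟩
  haveI : Subsingleton (Algebra.H1Cotangent (ZMod p) K) :=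
    subsingleton_h1Cotangent_of_perfectField (ZMod p) K
  suffices h : ∀ ξ : Algebra.H1Cotangent k₁ K, ξ = 0 from ⟨fun ξ η => by rw [h ξ, h η]⟩
  intro ξ
  have h1 : Algebra.H1Cotangent.δ (ZMod p) k₁ K ξ = 0 := by
    apply hinj
    rw [map_zero]
    exact (Algebra.H1Cotangent.exact_δ_mapBaseChange (ZMod p) k₁ K _).mpr ⟨ξ, rfl⟩
  obtain ⟨z, hz⟩ := (Algebra.H1Cotangent.exact_map_δ (ZMod p) k₁ K ξ).mp h1
  rw [← hz, Subsingleton.elim z 0, map_zero]

theorem exists_formallySmooth_subfield
    (hH : Module.Finite K (Algebra.H1Cotangent k K)) :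
    ∃ (k₁ : IntermediateField (ZMod p) k) (S₁ : Finset k),
      Algebra.FormallySmooth k₁ K ∧
      ∀ e : ℕ, adjoin (ZMod p)
        (Set.range (fun x : k => x ^ p ^ e) ∪ ((k₁ : Set k) ∪ (S₁ : Set k))) = ⊤ := by
  classical
  obtain ⟨b, hb_sub, hb_span, hb_li⟩ :=
    exists_linearIndependent k (Set.range (KaehlerDifferential.D (ZMod p) k))
  rw [KaehlerDifferential.span_range_derivation] at hb_span
  have hrep : ∀ ω : b, ∃ s : k, KaehlerDifferential.D (ZMod p) k s = ω.1 := fun ω => hb_sub ω.2
  choose rep hrepD using hrep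
  let B : Module.Basis b k (Ω[k⁄ZMod p]) := Module.Basis.mk hb_li (by
    rw [Subtype.range_coe_subtype]
    exact hb_span.ge)
  have hB : ∀ ω : b, B ω = ω.1 := fun ω => by simp [B]
  let B' : Module.Basis b K (K ⊗[k] Ω[k⁄ZMod p]) := B.baseChange K
  have hB' : ∀ ω : b, B' ω = 1 ⊗ₜ ω.1 := fun ω => by
    rw [Module.Basis.baseChange_apply, hB]
  let g := KaehlerDifferential.mapBaseChange (ZMod p) k K
  have hgB' : ∀ ω : b, g (B' ω) = KaehlerDifferential.D (ZMod p) K (algebraMap k K (rep ω)) := by
    intro ω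
    rw [hB', KaehlerDifferential.mapBaseChange_tmul, one_smul, ← hrepD ω,
      KaehlerDifferential.map_D]
  -- the kernel is finitely generated
  have hVfg : (LinearMap.ker g).FG := by
    have hex := Algebra.H1Cotangent.exact_δ_mapBaseChange (ZMod p) k K
    have : LinearMap.ker g = LinearMap.range (Algebra.H1Cotangent.δ (ZMod p) k K) :=
      (LinearMap.exact_iff.mp hex)
    rw [this, LinearMap.range_eq_map]
    exact Submodule.FG.map _ (Module.finite_def.mp hH)
  obtain ⟨t, ht⟩ := hVfg
  let ι₁ : Finset b := t.biUnion fun x => (B'.repr x).support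
  have hV : LinearMap.ker g ≤ Submodule.span K (B' '' (ι₁ : Set b)) := by
    rw [← ht, Submodule.span_le]
    intro x hx
    rw [SetLike.mem_coe, Module.Basis.mem_span_image]
    intro i hi
    exact Finset.mem_biUnion.mpr ⟨x, hx, hi⟩
  let ι₀ : Set b := (ι₁ : Set b)ᶜ
  have hli₀ : LinearIndependent K (fun i : ι₀ => g (B' i.1)) := by
    have h1 : LinearIndependent K (fun i : ι₀ => B' i.1) :=
      B'.linearIndependent.comp _ Subtype.val_injective
    refine h1.map ?_
    have : Set.range (fun i : ι₀ => B' i.1) = B' '' ι₀ := by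
      ext x
      constructor
      · rintro ⟨i, rfl⟩
        exact ⟨i.1, i.2, rfl⟩
      · rintro ⟨i, hi, rfl⟩
        exact ⟨⟨i, hi⟩, rfl⟩
    rw [this]
    exact (B'.linearIndependent.disjoint_span_image
      (disjoint_compl_left (a := (ι₁ : Set b)))).mono_right hV
  -- the subfield
  let s₀ : ι₀ → k := fun i => rep i.1
  let k₁ : IntermediateField (ZMod p) k := adjoin (ZMod p) (Set.range s₀)
  let S₁ : Finset k := ι₁.image rep
  refine ⟨k₁, S₁, ?_, ?_⟩
  · apply formallySmooth_of_injective p k₁
    have hs₀ : ∀ i : ι₀, s₀ i ∈ k₁ := fun i => subset_adjoin _ _ ⟨i, rfl⟩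
    let v : ι₀ → K ⊗[k₁] Ω[k₁⁄ZMod p] := fun i =>
      1 ⊗ₜ KaehlerDifferential.D (ZMod p) k₁ ⟨s₀ i, hs₀ i⟩
    apply injective_of_span_of_linearIndependent _ v
    · have h1 := span_D_adjoin (F := ZMod p) (Set.range s₀)
      have h2 : (Submodule.span k₁ (Set.range fun s : Set.range s₀ =>
          KaehlerDifferential.D (ZMod p) k₁ ⟨s.1, subset_adjoin (ZMod p) _ s.2⟩)).baseChange K
          = ⊤ := by
        rw [h1, Submodule.baseChange_top]
      rw [Submodule.baseChange_span] at h2
      rw [eq_top_iff, ← h2]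
      apply Submodule.span_mono
      rintro _ ⟨_, ⟨⟨_, ⟨i, rfl⟩⟩, rfl⟩, rfl⟩
      exact ⟨i, rfl⟩
    · have hfun : (KaehlerDifferential.mapBaseChange (ZMod p) k₁ K) ∘ v =
          fun i : ι₀ => g (B' i.1) := by
        funext i
        show KaehlerDifferential.mapBaseChange (ZMod p) k₁ K (v i) = g (B' i.1)
        rw [hgB', KaehlerDifferential.mapBaseChange_tmul, one_smul, KaehlerDifferential.map_D]
        rfl
      rw [hfun]
      exact hli₀
  · intro e
    have hS : Submodule.span k (Set.range fun s : Set.range rep =>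
        KaehlerDifferential.D (ZMod p) k s.1) = ⊤ := by
      rw [eq_top_iff, ← hb_span]
      apply Submodule.span_mono
      intro ω hω
      exact ⟨⟨rep ⟨ω, hω⟩, ⟨_, rfl⟩⟩, hrepD ⟨ω, hω⟩⟩
    have h1 := adjoin_pow_eq_top p (Set.range rep) (adjoin_frobenius_eq_top p _ hS) e
    rw [eq_top_iff, ← h1]
    apply adjoin.mono
    rintro x (hx | ⟨ω, rfl⟩)
    · exact Or.inl hx
    · right
      by_cases hω : ω ∈ ι₁
      · right
        exact Finset.mem_coe.mpr (Finset.mem_image_of_mem rep hω)
      · left
        exact subset_adjoin _ _ ⟨⟨ω, hω⟩, rfl⟩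

end Groth.Agent.Lib.Helper18.DR.Pb
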