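import Mathlib
import Groth.Agent.Lib.Helper18.PbC

/-!
# Coefficient fields of Artinian local rings in characteristic `p` containing a big subfield
(helper18)
-/

set_option autoImplicit false
set_option linter.style.haveILetI false
universe u

namespace Groth.Agent.Lib.Helper18.DR.Pb

open IntermediateField IsLocalRing

/-- An Artinian local ring with a coefficient field is finite over it. -/
theorem finite_of_section {K Λ : Type*} [Field K] [CommRing Λ] [IsLocalRing Λ] [IsArtinianRing Λ]
    [Algebra K Λ] (h : ∀ x : Λ, ∃ κ : K, x - algebraMap K Λ κ ∈ maximalIdeal Λ) :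
    Module.Finite K Λ := by
  classical
  set m := maximalIdeal Λ with hm
  obtain ⟨n, hn⟩ : ∃ n : ℕ, m ^ n = ⊥ := by
    have := IsArtinianRing.isNilpotent_jacobson_bot (R := Λ)
    rw [IsLocalRing.jacobson_eq_maximalIdeal ⊥ bot_ne_top] at this
    exact this
  have step : ∀ j : ℕ, (((m ^ (j + 1) : Ideal Λ)).restrictScalars K).FG →
      (((m ^ j : Ideal Λ)).restrictScalars K).FG := by
    intro j hj
    obtain ⟨X, hX⟩ : (m ^ j : Ideal Λ).FG := IsNoetherian.noetherian _
    have heq : ((m ^ j : Ideal Λ)).restrictScalars K =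
        Submodule.span K (X : Set Λ) ⊔ ((m ^ (j + 1) : Ideal Λ)).restrictScalars K := by
      apply le_antisymm
      · intro y hy
        have hy' : y ∈ Submodule.span Λ (X : Set Λ) := by
          have : y ∈ Ideal.span (X : Set Λ) := by rw [hX]; exact hy
          exact this
        obtain ⟨f, -, rfl⟩ := Submodule.mem_span_finset.mp hy'
        refine Submodule.sum_mem _ fun x hx => ?_
        obtain ⟨κ, hκ⟩ := h (f x)
        have hxm : x ∈ m ^ j := by rw [← hX]; exact Submodule.subset_span hx
        have : f x • x = κ • x + (f x - algebraMap K Λ κ) * x := by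
          rw [smul_eq_mul, Algebra.smul_def κ x]; ring
        rw [this]
        refine Submodule.add_mem_sup (Submodule.smul_mem _ _ (Submodule.subset_span hx)) ?_
        show (f x - algebraMap K Λ κ) * x ∈ m ^ (j + 1)
        rw [pow_succ']
        exact Ideal.mul_mem_mul hκ hxm
      · refine sup_le ?_ ?_
        · rw [Submodule.span_le]
          intro x hx
          show x ∈ m ^ j
          rw [← hX]
          exact Submodule.subset_span hx
        · intro y hy
          exact Ideal.pow_le_pow_right (Nat.le_succ j) hy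
    rw [heq]
    exact (Submodule.fg_span X.finite_toSet).sup hj
  have hbase : (((m ^ n : Ideal Λ)).restrictScalars K).FG := by
    rw [hn]
    have : ((⊥ : Ideal Λ)).restrictScalars K = ⊥ := by
      ext x; simp
    rw [this]
    exact Submodule.fg_bot
  have h0 : (((m ^ 0 : Ideal Λ)).restrictScalars K).FG :=
    Nat.decreasingInduction (fun j _ hj => step j hj) hbase (Nat.zero_le n)
  rw [pow_zero, Ideal.one_eq_top] at h0
  have : ((⊤ : Ideal Λ)).restrictScalars K = ⊤ := by
    ext x; simp
  rw [this] at h0
  exact ⟨h0⟩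

theorem exists_coefficient_field {k Λ : Type u} [Field k] (p : ℕ) [Fact p.Prime] [CharP k p]
    [CommRing Λ] [Algebra k Λ] [IsArtinianRing Λ] [IsLocalRing Λ] [Algebra (ZMod p) k]
    (hH : Module.Finite (ResidueField Λ) (Algebra.H1Cotangent k (ResidueField Λ))) :
    ∃ (σ : ResidueField Λ →+* Λ) (k₀ : IntermediateField (ZMod p) k) (S₁ : Finset k),
      (∀ x, IsLocalRing.residue Λ (σ x) = x) ∧
      (∀ c ∈ k₀, σ (algebraMap k (ResidueField Λ) c) = algebraMap k Λ c) ∧
      adjoin (ZMod p) ((k₀ : Set k) ∪ (S₁ : Set k)) = ⊤ ∧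
      (∀ s ∈ S₁, ∃ e : ℕ, s ^ p ^ e ∈ k₀) := by
  classical
  set K := ResidueField Λ with hK
  letI : Algebra (ZMod p) K := ((algebraMap k K).comp (algebraMap (ZMod p) k)).toAlgebra
  haveI : IsScalarTower (ZMod p) k K := IsScalarTower.of_algebraMap_eq fun _ => rfl
  haveI : CharP Λ p := charP_of_injective_algebraMap (algebraMap k Λ).injective p
  obtain ⟨k₁, S₁, hsm, hgen⟩ := exists_formallySmooth_subfield (k := k) (K := K) p hH
  haveI := hsm
  -- nilpotency
  set m := maximalIdeal Λ with hm
  have hnil : IsNilpotent m := by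
    have := IsArtinianRing.isNilpotent_jacobson_bot (R := Λ)
    rwa [IsLocalRing.jacobson_eq_maximalIdeal ⊥ bot_ne_top] at this
  obtain ⟨n, hn⟩ := hnil
  -- the section
  let g : K →ₐ[k₁] Λ ⧸ m :=
    { toRingHom := RingHom.id (Λ ⧸ m)
      commutes' := fun r => rfl }
  obtain ⟨σ, hσ⟩ := Algebra.FormallySmooth.exists_lift m ⟨n, hn⟩ g
  have hres : ∀ x, IsLocalRing.residue Λ (σ x) = x := by
    intro x
    have := AlgHom.congr_fun hσ x
    exact this
  -- p^e-th powers
  let e := n
  have hne : n ≤ p ^ e := (Nat.lt_pow_self (Fact.out : p.Prime).one_lt).le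
  have hpow : ∀ x : Λ, x ^ p ^ e = σ ((residue Λ x) ^ p ^ e) := by
    intro x
    have h1 : x - σ (residue Λ x) ∈ m := by
      rw [hm, ← Ideal.Quotient.eq_zero_iff_mem, map_sub]
      have := hres (residue Λ x)
      show residue Λ x - residue Λ (σ (residue Λ x)) = 0
      rw [this, sub_self]
    have h2 : (x - σ (residue Λ x)) ^ p ^ e = 0 := by
      have : (x - σ (residue Λ x)) ^ p ^ e ∈ m ^ n :=
        Ideal.pow_le_pow_right hne (Ideal.pow_mem_pow h1 _)
      rw [hn] at this
      exact this
    rw [sub_pow_char_pow, sub_eq_zero] at h2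
    rw [h2, map_pow]
  let k₀ : IntermediateField (ZMod p) k :=
    adjoin (ZMod p) (Set.range (fun x : k => x ^ p ^ e) ∪ (k₁ : Set k))
  refine ⟨σ.toRingHom, k₀, S₁, hres, ?_, ?_, ?_⟩
  · intro c hc
    show σ (algebraMap k K c) = algebraMap k Λ c
    induction hc using adjoin_induction with
    | mem c hc =>
      rcases hc with ⟨x, rfl⟩ | hc
      · have := hpow (algebraMap k Λ x)
        simp only [map_pow] at this ⊢
        rw [this]
        rfl
      · have := σ.commutes (⟨c, hc⟩ : k₁)
        exact this
    | algebraMap z =>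
      have h1 : ((σ.toRingHom.comp (algebraMap k K)).comp (algebraMap (ZMod p) k)) =
          ((algebraMap k Λ).comp (algebraMap (ZMod p) k)) := Subsingleton.elim _ _
      exact RingHom.congr_fun h1 z
    | add x y _ _ h1 h2 => rw [map_add, map_add, map_add, h1, h2]
    | inv x _ h1 =>
      by_cases hx : x = 0
      · subst hx; simp
      · have e1 : σ (algebraMap k K x⁻¹) * σ (algebraMap k K x) = 1 := by
          rw [← map_mul, ← map_mul, inv_mul_cancel₀ hx, map_one, map_one]
        have e2 : algebraMap k Λ x * algebraMap k Λ x⁻¹ = 1 := by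
          rw [← map_mul, mul_inv_cancel₀ hx, map_one]
        calc σ (algebraMap k K x⁻¹)
            = σ (algebraMap k K x⁻¹) * (algebraMap k Λ x * algebraMap k Λ x⁻¹) := by
              rw [e2, mul_one]
          _ = (σ (algebraMap k K x⁻¹) * σ (algebraMap k K x)) * algebraMap k Λ x⁻¹ := by
              rw [h1]; ring
          _ = algebraMap k Λ x⁻¹ := by rw [e1, one_mul]
    | mul x y _ _ h1 h2 => rw [map_mul, map_mul, map_mul, h1, h2]
  · rw [eq_top_iff, ← hgen e]
    apply adjoin.mono
    rintro x (hx | hx | hx)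
    · exact Or.inl (subset_adjoin _ _ (Or.inl hx))
    · exact Or.inl (subset_adjoin _ _ (Or.inr hx))
    · exact Or.inr hx
  · intro s _
    exact ⟨e, subset_adjoin _ _ (Or.inl ⟨s, rfl⟩)⟩

end Groth.Agent.Lib.Helper18.DR.Pb
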