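import Mathlib
import Groth.Agent.Lib.Helper18.PbD

/-!
# Coefficient fields relative to a surjection onto a field (helper18)
-/

set_option autoImplicit false
set_option linter.style.haveILetI false
universe u

namespace Groth.Agent.Lib.Helper18.DR.Pc

open IntermediateField IsLocalRing Groth.Agent.Lib.Helper18.DR.Pb

theorem exists_coefficient_field' {k Λ K : Type u} [Field k] (p : ℕ) [Fact p.Prime] [CharP k p]
    [CommRing Λ] [Algebra k Λ] [IsArtinianRing Λ] [IsLocalRing Λ] [Algebra (ZMod p) k]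
    [Field K] [Algebra k K] (ρ : Λ →ₐ[k] K) (hρ : Function.Surjective ρ)
    (hH : Module.Finite K (Algebra.H1Cotangent k K)) :
    ∃ (σ : K →+* Λ) (k₀ : IntermediateField (ZMod p) k) (S₁ : Finset k) (e : ℕ),
      (∀ x, ρ (σ x) = x) ∧
      (∀ c ∈ k₀, σ (algebraMap k K c) = algebraMap k Λ c) ∧
      adjoin (ZMod p) ((k₀ : Set k) ∪ (S₁ : Set k)) = ⊤ ∧
      (∀ s ∈ S₁, ∃ e : ℕ, s ^ p ^ e ∈ k₀) ∧
      (∀ x : Λ, x ^ p ^ e = σ ((ρ x) ^ p ^ e)) := by
  classical
  letI : Algebra (ZMod p) K := ((algebraMap k K).comp (algebraMap (ZMod p) k)).toAlgebra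
  haveI : IsScalarTower (ZMod p) k K := IsScalarTower.of_algebraMap_eq fun _ => rfl
  haveI : CharP Λ p := charP_of_injective_algebraMap (algebraMap k Λ).injective p
  obtain ⟨k₁, S₁, hsm, hgen⟩ := exists_formallySmooth_subfield (k := k) (K := K) p hH
  haveI := hsm
  -- the kernel of `ρ`
  set I : Ideal Λ := RingHom.ker ρ.toRingHom with hI
  have hIm : I ≤ maximalIdeal Λ := by
    apply IsLocalRing.le_maximalIdeal
    exact RingHom.ker_ne_top _
  have hnilm : IsNilpotent (maximalIdeal Λ) := by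
    have := IsArtinianRing.isNilpotent_jacobson_bot (R := Λ)
    rwa [IsLocalRing.jacobson_eq_maximalIdeal ⊥ bot_ne_top] at this
  obtain ⟨n, hn⟩ := hnilm
  have hIn : I ^ n = ⊥ := by
    rw [eq_bot_iff]
    have h0 : maximalIdeal Λ ^ n = ⊥ := hn
    rw [← h0]
    exact Ideal.pow_right_mono hIm n
  -- the section
  let ρ₁ : Λ →ₐ[k₁] K := ρ.restrictScalars k₁
  have hρ₁ : Function.Surjective ρ₁ := hρ
  let g : K →ₐ[k₁] Λ ⧸ I :=
    ((Ideal.quotientKerAlgEquivOfSurjective hρ₁).symm : K ≃ₐ[k₁] (Λ ⧸ RingHom.ker ρ₁)).toAlgHom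
  obtain ⟨σ, hσ⟩ := Algebra.FormallySmooth.exists_lift I ⟨n, hIn⟩ g
  have hres : ∀ x, ρ (σ x) = x := by
    intro x
    have h1 : Ideal.Quotient.mk I (σ x) = g x := AlgHom.congr_fun hσ x
    have h2 : (Ideal.quotientKerAlgEquivOfSurjective hρ₁) (Ideal.Quotient.mk I (σ x)) = x := by
      rw [h1]
      exact (Ideal.quotientKerAlgEquivOfSurjective hρ₁).apply_symm_apply x
    exact h2
  -- p^e-th powers
  let e := n
  have hne : n ≤ p ^ e := (Nat.lt_pow_self (Fact.out : p.Prime).one_lt).le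
  have hpow : ∀ x : Λ, x ^ p ^ e = σ ((ρ x) ^ p ^ e) := by
    intro x
    have h1 : x - σ (ρ x) ∈ I := by
      rw [hI, RingHom.mem_ker, map_sub]
      show ρ x - ρ (σ (ρ x)) = 0
      rw [hres, sub_self]
    have h2 : (x - σ (ρ x)) ^ p ^ e = 0 := by
      have : (x - σ (ρ x)) ^ p ^ e ∈ I ^ n :=
        Ideal.pow_le_pow_right hne (Ideal.pow_mem_pow h1 _)
      rw [hIn] at this
      exact this
    rw [sub_pow_char_pow, sub_eq_zero] at h2
    rw [h2, map_pow]
  let k₀ : IntermediateField (ZMod p) k :=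
    adjoin (ZMod p) (Set.range (fun x : k => x ^ p ^ e) ∪ (k₁ : Set k))
  refine ⟨σ.toRingHom, k₀, S₁, e, hres, ?_, ?_, ?_, hpow⟩
  · intro c hc
    show σ (algebraMap k K c) = algebraMap k Λ c
    induction hc using adjoin_induction with
    | mem c hc =>
      rcases hc with ⟨x, rfl⟩ | hc
      · have := hpow (algebraMap k Λ x)
        simp only [map_pow] at this ⊢
        rw [this, AlgHom.commutes]
      · have := σ.commutes (⟨c, hc⟩ : k₁)
        exact this
    | algebraMap z =>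
      have h1 : ((σ.toRingHom.comp (algebraMap k K)).comp (algebraMap (ZMod p) k)) =
          ((algebraMap k Λ).comp (algebraMap (ZMod p) k)) := Subsingleton.elim _ _
      exact RingHom.congr_fun h1 z
    | add x y _ _ h1 h2 => rw [map_add, map_add, map_add, h1, h2]
    | inv x _ h1 =>
      by_cases hx : x = 0
      · subst hx; simp
      · have e1 : σ (algebraMap k K x⁻¹) * σ (algebraMap k K x) = 1 := by
          rw [← map_mul, ← map_mul, inv_mul_cancel₀ hx, map_one, map_one]
        have e2 : algebraMap k Λ x * algebraMap k Λ x⁻¹ = 1 := by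
          rw [← map_mul, mul_inv_cancel₀ hx, map_one]
        calc σ (algebraMap k K x⁻¹)
            = σ (algebraMap k K x⁻¹) * (algebraMap k Λ x * algebraMap k Λ x⁻¹) := by
              rw [e2, mul_one]
          _ = (σ (algebraMap k K x⁻¹) * σ (algebraMap k K x)) * algebraMap k Λ x⁻¹ := by
              rw [h1]; ring
          _ = algebraMap k Λ x⁻¹ := by rw [e1, one_mul]
    | mul x y _ _ h1 h2 => rw [map_mul, map_mul, map_mul, h1, h2]
  · rw [eq_top_iff, ← hgen e]
    apply adjoin.mono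
    rintro x (hx | hx | hx)
    · exact Or.inl (subset_adjoin _ _ (Or.inl hx))
    · exact Or.inl (subset_adjoin _ _ (Or.inr hx))
    · exact Or.inr hx
  · intro s _
    exact ⟨e, subset_adjoin _ _ (Or.inl ⟨s, rfl⟩)⟩

end Groth.Agent.Lib.Helper18.DR.Pc
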