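import Mathlib

/-!
# Descent of a finite-dimensional algebra to a finitely generated subfield (helper18)
-/

set_option autoImplicit false
set_option linter.style.haveILetI false
universe u v

namespace Groth.Agent.Lib.Helper18.DR.Pb

open IntermediateField IsLocalRing TensorProduct

section descend

variable {P : Type v} {k K Λ : Type u} [Field P] [Field k] [Algebra P k] [Field K] [Algebra k K]
  [CommRing Λ] [Algebra k Λ] [Algebra K Λ] [Module.Finite K Λ]

/-- The `F`-span of a `K`-basis, for `F` containing enough structure constants. -/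
theorem exists_structure_field (L : Type u) [Field L] [Algebra L K] (G : Finset Λ) :
    ∃ (F : IntermediateField L K) (d : ℕ) (β : Module.Basis (Fin d) K Λ), F.FG ∧
      (1 : Λ) ∈ Submodule.span F (Set.range β) ∧
      (∀ x ∈ Submodule.span F (Set.range β), ∀ y ∈ Submodule.span F (Set.range β),
        x * y ∈ Submodule.span F (Set.range β)) ∧
      (∀ g ∈ G, g ∈ Submodule.span F (Set.range β)) := by
  classical
  let d := Module.finrank K Λ
  let β : Module.Basis (Fin d) K Λ := Module.finBasis K Λ
  let C : Finset K := (Finset.univ.image fun l => β.repr 1 l) ∪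
    (Finset.univ.biUnion fun ij : Fin d × Fin d =>
      Finset.univ.image fun l => β.repr (β ij.1 * β ij.2) l) ∪
    (G.biUnion fun g => Finset.univ.image fun l => β.repr g l)
  let F : IntermediateField L K := adjoin L (C : Set K)
  have hmem : ∀ x : Λ, (∀ l, β.repr x l ∈ F) → x ∈ Submodule.span F (Set.range β) := by
    intro x hx
    rw [← β.sum_repr x]
    refine Submodule.sum_mem _ fun l _ => ?_
    have : β.repr x l • β l = (⟨β.repr x l, hx l⟩ : F) • β l := rfl
    rw [this]
    exact Submodule.smul_mem _ _ (Submodule.subset_span ⟨l, rfl⟩)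
  have hC : ∀ c ∈ C, c ∈ F := fun c hc => subset_adjoin L _ hc
  have hβmul : ∀ i j, β i * β j ∈ Submodule.span F (Set.range β) := by
    intro i j
    apply hmem
    intro l
    apply hC
    simp only [C, Finset.mem_union, Finset.mem_biUnion, Finset.mem_image, Finset.mem_univ,
      true_and]
    exact Or.inl (Or.inr ⟨(i, j), l, rfl⟩)
  refine ⟨F, d, β, ⟨C, rfl⟩, ?_, ?_, ?_⟩
  · apply hmem
    intro l
    apply hC
    simp only [C, Finset.mem_union, Finset.mem_biUnion, Finset.mem_image, Finset.mem_univ,
      true_and]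
    exact Or.inl (Or.inl ⟨l, rfl⟩)
  · intro x hx y hy
    induction hx using Submodule.span_induction with
    | mem x hx =>
      obtain ⟨i, rfl⟩ := hx
      induction hy using Submodule.span_induction with
      | mem y hy =>
        obtain ⟨j, rfl⟩ := hy
        exact hβmul i j
      | zero => rw [mul_zero]; exact zero_mem _
      | add y z _ _ h1 h2 => rw [mul_add]; exact add_mem h1 h2
      | smul f y _ h1 => rw [mul_smul_comm]; exact Submodule.smul_mem _ _ h1
    | zero => rw [zero_mul]; exact zero_mem _
    | add x z _ _ h1 h2 => rw [add_mul]; exact add_mem h1 h2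
    | smul f x _ h1 => rw [smul_mul_assoc]; exact Submodule.smul_mem _ _ h1
  · intro g hg
    apply hmem
    intro l
    apply hC
    simp only [C, Finset.mem_union, Finset.mem_biUnion, Finset.mem_image, Finset.mem_univ,
      true_and]
    exact Or.inr ⟨g, hg, l, rfl⟩

end descend

section assemble

variable {P : Type v} {k K Λ : Type u} [Field P] [Field k] [Algebra P k] [Field K] [Algebra k K]
  [CommRing Λ] [IsLocalRing Λ] [Algebra k Λ] [Algebra K Λ] [Module.Finite K Λ]

theorem descend (k₀ : IntermediateField P k)
    (hcompat : ∀ c ∈ k₀, algebraMap K Λ (algebraMap k K c) = algebraMap k Λ c)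
    (S₁ : Finset k) (hgen : adjoin P ((k₀ : Set k) ∪ (S₁ : Set k)) = ⊤)
    (halg : ∀ s ∈ S₁, IsAlgebraic k₀ s) (G : Finset Λ) :
    ∃ (A : Subalgebra k Λ) (_ : IsLocalRing A), (G : Set Λ) ⊆ A ∧ IsArtinianRing A ∧
      Module.Flat A Λ ∧ Algebra.EssFiniteType k A ∧
      ∀ x : A, x ∈ maximalIdeal A ↔ (x : Λ) ∈ maximalIdeal Λ := by
  classical
  obtain ⟨F, d, β, hFfg, h1, hmul, hG⟩ :=
    exists_structure_field (K := K) (Λ := Λ) k₀ (G ∪ S₁.image (algebraMap k Λ))
  set W : Submodule F Λ := Submodule.span F (Set.range β) with hW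
  -- `F ⊆ W`
  have hFW : ∀ f : F, algebraMap K Λ (f : K) ∈ W := by
    intro f
    have : algebraMap K Λ (f : K) = f • (1 : Λ) := by
      rw [Algebra.algebraMap_eq_smul_one]; rfl
    rw [this]
    exact Submodule.smul_mem _ _ h1
  -- `k ⊆ W`
  have hkW : ∀ c : k, algebraMap k Λ c ∈ W := by
    have htop : Algebra.adjoin k₀ (S₁ : Set k) = ⊤ := by
      rw [← adjoin_toSubalgebra_of_isAlgebraic (fun s hs => halg s hs)]
      have : adjoin k₀ (S₁ : Set k) = ⊤ := by
        apply IntermediateField.restrictScalars_injective P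
        rw [restrictScalars_adjoin, hgen, restrictScalars_top]
      rw [this, top_toSubalgebra]
    intro c
    have hc : c ∈ Algebra.adjoin k₀ (S₁ : Set k) := by rw [htop]; trivial
    induction hc using Algebra.adjoin_induction with
    | mem s hs =>
      apply hG
      exact Finset.mem_union_right _ (Finset.mem_image_of_mem _ hs)
    | algebraMap c₀ =>
      have e1 : algebraMap k Λ (algebraMap k₀ k c₀) =
          algebraMap K Λ (algebraMap k K (c₀ : k)) := (hcompat c₀ c₀.2).symm
      rw [e1]
      have hcF : algebraMap k K (c₀ : k) ∈ F := F.algebraMap_mem c₀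
      exact hFW ⟨_, hcF⟩
    | add x y _ _ hx hy => rw [map_add]; exact add_mem hx hy
    | mul x y _ _ hx hy => rw [map_mul]; exact hmul _ hx _ hy
  -- the subalgebra
  let A : Subalgebra k Λ :=
    { carrier := W
      mul_mem' := fun {x y} hx hy => hmul x hx y hy
      one_mem' := h1
      add_mem' := fun {x y} hx hy => W.add_mem hx hy
      zero_mem' := W.zero_mem
      algebraMap_mem' := hkW }
  have hAW : ∀ x : Λ, x ∈ A ↔ x ∈ W := fun x => Iff.rfl
  -- the `F`-algebra structure
  let φ : F →+* A := ((algebraMap K Λ).comp (algebraMap F K)).codRestrict A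
    (fun f => (hAW _).mpr (hFW f))
  letI : Algebra F A := φ.toAlgebra
  haveI : IsScalarTower F A Λ := IsScalarTower.of_algebraMap_eq fun f => rfl
  let ιA : A →ₗ[F] Λ := (IsScalarTower.toAlgHom F A Λ).toLinearMap
  have hιA : ∀ a : A, ιA a = (a : Λ) := fun a => rfl
  -- basis
  let v : Fin d → A := fun i => ⟨β i, (hAW _).mpr (Submodule.subset_span ⟨i, rfl⟩)⟩
  have hvli : LinearIndependent F v := by
    apply LinearIndependent.of_comp ιA
    have : ιA ∘ v = β := rfl
    rw [this]
    refine β.linearIndependent.restrict_scalars (R := F) ?_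
    intro a b hab
    have : (a : K) * 1 = (b : K) * 1 := hab
    rw [mul_one, mul_one] at this
    exact Subtype.ext this
  have hvspan : ⊤ ≤ Submodule.span F (Set.range v) := by
    intro a _
    have ha : (a : Λ) ∈ W := (hAW _).mp a.2
    have hrange : Set.range β = ιA '' Set.range v := by
      rw [← Set.range_comp]; rfl
    rw [hW, hrange, ← Submodule.map_span] at ha
    obtain ⟨a', ha', hEq⟩ := ha
    have : a' = a := Subtype.ext hEq
    rw [← this]
    exact ha'
  let bA : Module.Basis (Fin d) F A := Module.Basis.mk hvli hvspan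
  have hbA : ∀ i, ((bA i : A) : Λ) = β i := fun i => by simp [bA, v]
  haveI : Module.Finite F A := Module.Finite.of_basis bA
  haveI hArt : IsArtinianRing A := IsArtinianRing.of_finite F A
  -- units
  have hunit : ∀ a : A, IsUnit (a : Λ) → IsUnit a := by
    intro a ha
    apply IsArtinianRing.isUnit_of_mem_nonZeroDivisors
    rw [mem_nonZeroDivisors_iff_right]
    intro b hb
    have : (b : Λ) * (a : Λ) = 0 := congrArg Subtype.val hb
    have hb0 : (b : Λ) = 0 := by
      rwa [ha.mul_left_eq_zero] at this
    exact Subtype.ext hb0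
  have hunit' : ∀ a : A, IsUnit a ↔ IsUnit (a : Λ) :=
    fun a => ⟨fun h => h.map A.val, hunit a⟩
  haveI : Nontrivial A := ⟨⟨0, 1, fun h => zero_ne_one (α := Λ) (congrArg Subtype.val h)⟩⟩
  have hloc : IsLocalRing A := by
    apply IsLocalRing.of_isUnit_or_isUnit_one_sub_self
    intro a
    rcases IsLocalRing.isUnit_or_isUnit_one_sub_self (a : Λ) with h | h
    · exact Or.inl (hunit a h)
    · exact Or.inr (hunit (1 - a) h)
  refine ⟨A, hloc, ?_, hArt, ?_, ?_, ?_⟩
  · intro g hg
    exact (hAW g).mpr (hG g (Finset.mem_union_left _ hg))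
  · -- flatness
    let l : K →ₗ[F] Λ := (Algebra.linearMap K Λ).restrictScalars F
    let ψ : A ⊗[F] K →ₗ[A] Λ := l.liftBaseChange A
    have hψ : ∀ (a : A) (κ : K), ψ (a ⊗ₜ κ) = (a : Λ) * algebraMap K Λ κ := fun a κ => rfl
    have hinj : Function.Injective ψ := by
      rw [injective_iff_map_eq_zero]
      intro x hx
      set c := TensorProduct.equivFinsuppOfBasisLeft bA x with hc
      have hxc : x = c.sum fun i n => bA i ⊗ₜ n := by
        rw [← TensorProduct.equivFinsuppOfBasisLeft_symm_apply, hc, LinearEquiv.symm_apply_apply]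
      have hlc : Finsupp.linearCombination K β c = 0 := by
        rw [Finsupp.linearCombination_apply, Finsupp.sum]
        rw [hxc, Finsupp.sum, map_sum] at hx
        rw [← hx]
        apply Finset.sum_congr rfl
        intro i _
        rw [hψ, hbA, Algebra.smul_def, mul_comm]
      have hc0 : c = 0 := linearIndependent_iff.mp β.linearIndependent c hlc
      rw [hxc, hc0]
      simp
    have hsurj : Function.Surjective ψ := by
      intro y
      refine ⟨∑ i, bA i ⊗ₜ β.repr y i, ?_⟩
      rw [map_sum]
      conv_rhs => rw [← β.sum_repr y]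
      apply Finset.sum_congr rfl
      intro i _
      rw [hψ, hbA, Algebra.smul_def, mul_comm]
    exact Module.Flat.of_linearEquiv (LinearEquiv.ofBijective ψ ⟨hinj, hsurj⟩).symm
  · -- essentially of finite type
    haveI : Algebra.EssFiniteType k₀ F := essFiniteType_iff.mpr hFfg
    haveI : Algebra.EssFiniteType F A := inferInstance
    haveI : IsScalarTower k₀ F A :=
      IsScalarTower.of_algebraMap_eq fun c => Subtype.ext (hcompat c c.2).symm
    haveI : Algebra.EssFiniteType k₀ A := Algebra.EssFiniteType.comp k₀ F A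
    exact Algebra.EssFiniteType.of_comp k₀ k A
  · intro x
    rw [IsLocalRing.mem_maximalIdeal, IsLocalRing.mem_maximalIdeal, mem_nonunits_iff,
      mem_nonunits_iff, hunit']

end assemble

end Groth.Agent.Lib.Helper18.DR.Pb
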