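import Mathlib
import Groth.Agent.Lib.Helper18.PbE

/-!
# Descent to a subfield generated by prescribed elements (helper18)
-/

set_option autoImplicit false
set_option linter.style.haveILetI false
universe u v

namespace Groth.Agent.Lib.Helper18.DR.Pc

open IntermediateField IsLocalRing TensorProduct

section

variable {P : Type v} {k K Λ : Type u} [Field P] [Field k] [Algebra P k] [Field K] [Algebra k K]
  [Algebra P K] [IsScalarTower P k K]
  [CommRing Λ] [IsLocalRing Λ] [Algebra k Λ] [Algebra K Λ] [Module.Finite K Λ]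

set_option maxHeartbeats 1600000 in
theorem descend' (ρ : Λ →+* K) (hρσ : ∀ x : K, ρ (algebraMap K Λ x) = x)
    (hρk : ∀ c : k, ρ (algebraMap k Λ c) = algebraMap k K c)
    (k₀ : IntermediateField P k)
    (hcompat : ∀ c ∈ k₀, algebraMap K Λ (algebraMap k K c) = algebraMap k Λ c)
    (S₁ : Finset k) (hgen : adjoin P ((k₀ : Set k) ∪ (S₁ : Set k)) = ⊤)
    (halg : ∀ s ∈ S₁, IsAlgebraic k₀ s) (G : Finset Λ)
    (K₀ : Set K) (hgood : ∀ c : K, ∃ T : Finset K, (T : Set K) ⊆ K₀ ∧ c ∈ adjoin P (T : Set K)) :
    ∃ (A : Subalgebra k Λ) (_ : IsLocalRing A) (GK : Finset K), (G : Set Λ) ⊆ A ∧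
      IsArtinianRing A ∧ Module.Flat A Λ ∧ Algebra.EssFiniteType k A ∧
      (∀ x : A, IsUnit x ↔ IsUnit (x : Λ)) ∧
      (GK : Set K) ⊆ K₀ ∧
      (∀ x ∈ A, ρ x ∈ adjoin k (GK : Set K)) ∧
      (∀ f ∈ adjoin k (GK : Set K), algebraMap K Λ f ∈ A) := by
  classical
  let d := Module.finrank K Λ
  let β : Module.Basis (Fin d) K Λ := Module.finBasis K Λ
  let G' : Finset Λ := G ∪ S₁.image (algebraMap k Λ)
  let C : Finset K := (Finset.univ.image fun l => β.repr 1 l) ∪
    (Finset.univ.biUnion fun ij : Fin d × Fin d =>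
      Finset.univ.image fun l => β.repr (β ij.1 * β ij.2) l) ∪
    (G'.biUnion fun g => Finset.univ.image fun l => β.repr g l) ∪
    (Finset.univ.image fun l => ρ (β l))
  choose Tc hTc hcTc using hgood
  let GK : Finset K := C.biUnion Tc
  have hGK : (GK : Set K) ⊆ K₀ := by
    intro x hx
    rw [Finset.mem_coe, Finset.mem_biUnion] at hx
    obtain ⟨c, _, hxc⟩ := hx
    exact hTc c (Finset.mem_coe.mpr hxc)
  let F : IntermediateField k₀ K := adjoin k₀ (GK : Set K)
  have hFfg : F.FG := ⟨GK, rfl⟩
  have hC : ∀ c ∈ C, c ∈ F := by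
    intro c hc
    have h1 : adjoin P (Tc c : Set K) ≤ (adjoin k₀ (GK : Set K)).restrictScalars P := by
      rw [adjoin_le_iff]
      intro x hx
      exact subset_adjoin k₀ _ (Finset.mem_coe.mpr
        (Finset.mem_biUnion.mpr ⟨c, hc, Finset.mem_coe.mp hx⟩))
    exact h1 (hcTc c)
  have hmem : ∀ x : Λ, (∀ l, β.repr x l ∈ F) → x ∈ Submodule.span F (Set.range β) := by
    intro x hx
    rw [← β.sum_repr x]
    refine Submodule.sum_mem _ fun l _ => ?_
    have : β.repr x l • β l = (⟨β.repr x l, hx l⟩ : F) • β l := rfl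
    rw [this]
    exact Submodule.smul_mem _ _ (Submodule.subset_span ⟨l, rfl⟩)
  have hβmul : ∀ i j, β i * β j ∈ Submodule.span F (Set.range β) := by
    intro i j
    apply hmem
    intro l
    apply hC
    simp only [C, Finset.mem_union, Finset.mem_biUnion, Finset.mem_image, Finset.mem_univ,
      true_and]
    exact Or.inl (Or.inl (Or.inr ⟨(i, j), l, rfl⟩))
  have h1 : (1 : Λ) ∈ Submodule.span F (Set.range β) := by
    apply hmem
    intro l
    apply hC
    simp only [C, Finset.mem_union, Finset.mem_biUnion, Finset.mem_image, Finset.mem_univ,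
      true_and]
    exact Or.inl (Or.inl (Or.inl ⟨l, rfl⟩))
  have hmul : ∀ x ∈ Submodule.span F (Set.range β), ∀ y ∈ Submodule.span F (Set.range β),
      x * y ∈ Submodule.span F (Set.range β) := by
    intro x hx y hy
    induction hx using Submodule.span_induction with
    | mem x hx =>
      obtain ⟨i, rfl⟩ := hx
      induction hy using Submodule.span_induction with
      | mem y hy =>
        obtain ⟨j, rfl⟩ := hy
        exact hβmul i j
      | zero => rw [mul_zero]; exact zero_mem _
      | add y z _ _ h1 h2 => rw [mul_add]; exact add_mem h1 h2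
      | smul f y _ h1 => rw [mul_smul_comm]; exact Submodule.smul_mem _ _ h1
    | zero => rw [zero_mul]; exact zero_mem _
    | add x z _ _ h1 h2 => rw [add_mul]; exact add_mem h1 h2
    | smul f x _ h1 => rw [smul_mul_assoc]; exact Submodule.smul_mem _ _ h1
  have hG : ∀ g ∈ G', g ∈ Submodule.span F (Set.range β) := by
    intro g hg
    apply hmem
    intro l
    apply hC
    simp only [C, Finset.mem_union, Finset.mem_biUnion, Finset.mem_image, Finset.mem_univ,
      true_and]
    exact Or.inl (Or.inr ⟨g, hg, l, rfl⟩)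
  have hρβ : ∀ l, ρ (β l) ∈ F := by
    intro l
    apply hC
    simp only [C, Finset.mem_union, Finset.mem_biUnion, Finset.mem_image, Finset.mem_univ,
      true_and]
    exact Or.inr ⟨l, rfl⟩
  set W : Submodule F Λ := Submodule.span F (Set.range β) with hW
  -- `F ⊆ W`
  have hFW : ∀ f : F, algebraMap K Λ (f : K) ∈ W := by
    intro f
    have : algebraMap K Λ (f : K) = f • (1 : Λ) := by
      rw [Algebra.algebraMap_eq_smul_one]; rfl
    rw [this]
    exact Submodule.smul_mem _ _ h1
  -- `k ⊆ W`
  have hkW : ∀ c : k, algebraMap k Λ c ∈ W := by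
    have htop : Algebra.adjoin k₀ (S₁ : Set k) = ⊤ := by
      rw [← adjoin_toSubalgebra_of_isAlgebraic (fun s hs => halg s hs)]
      have : adjoin k₀ (S₁ : Set k) = ⊤ := by
        apply IntermediateField.restrictScalars_injective P
        rw [restrictScalars_adjoin, hgen, restrictScalars_top]
      rw [this, top_toSubalgebra]
    intro c
    have hc : c ∈ Algebra.adjoin k₀ (S₁ : Set k) := by rw [htop]; trivial
    induction hc using Algebra.adjoin_induction with
    | mem s hs =>
      apply hG
      exact Finset.mem_union_right _ (Finset.mem_image_of_mem _ hs)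
    | algebraMap c₀ =>
      have e1 : algebraMap k Λ (algebraMap k₀ k c₀) =
          algebraMap K Λ (algebraMap k K (c₀ : k)) := (hcompat c₀ c₀.2).symm
      rw [e1]
      have hcF : algebraMap k K (c₀ : k) ∈ F := F.algebraMap_mem c₀
      exact hFW ⟨_, hcF⟩
    | add x y _ _ hx hy => rw [map_add]; exact add_mem hx hy
    | mul x y _ _ hx hy => rw [map_mul]; exact hmul _ hx _ hy
  -- `ρ W ⊆ F`
  have hρW : ∀ x ∈ W, ρ x ∈ F := by
    intro x hx
    induction hx using Submodule.span_induction with
    | mem x hx =>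
      obtain ⟨l, rfl⟩ := hx
      exact hρβ l
    | zero => rw [map_zero]; exact zero_mem _
    | add x y _ _ h1 h2 => rw [map_add]; exact add_mem h1 h2
    | smul f x _ h1 =>
      have : f • x = algebraMap K Λ (f : K) * x := by
        rw [Algebra.smul_def]; rfl
      rw [this, map_mul, hρσ]
      exact F.mul_mem f.2 h1
  -- the subalgebra
  let A : Subalgebra k Λ :=
    { carrier := W
      mul_mem' := fun {x y} hx hy => hmul x hx y hy
      one_mem' := h1
      add_mem' := fun {x y} hx hy => W.add_mem hx hy
      zero_mem' := W.zero_mem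
      algebraMap_mem' := hkW }
  have hAW : ∀ x : Λ, x ∈ A ↔ x ∈ W := fun x => Iff.rfl
  -- the `F`-algebra structure
  let φ : F →+* A := ((algebraMap K Λ).comp (algebraMap F K)).codRestrict A
    (fun f => (hAW _).mpr (hFW f))
  letI : Algebra F A := φ.toAlgebra
  haveI : IsScalarTower F A Λ := IsScalarTower.of_algebraMap_eq fun f => rfl
  let ιA : A →ₗ[F] Λ := (IsScalarTower.toAlgHom F A Λ).toLinearMap
  have hιA : ∀ a : A, ιA a = (a : Λ) := fun a => rfl
  -- basis
  let v : Fin d → A := fun i => ⟨β i, (hAW _).mpr (Submodule.subset_span ⟨i, rfl⟩)⟩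
  have hvli : LinearIndependent F v := by
    apply LinearIndependent.of_comp ιA
    have : ιA ∘ v = β := rfl
    rw [this]
    refine β.linearIndependent.restrict_scalars (R := F) ?_
    intro a b hab
    have : (a : K) * 1 = (b : K) * 1 := hab
    rw [mul_one, mul_one] at this
    exact Subtype.ext this
  have hvspan : ⊤ ≤ Submodule.span F (Set.range v) := by
    intro a _
    have ha : (a : Λ) ∈ W := (hAW _).mp a.2
    have hrange : Set.range β = ιA '' Set.range v := by
      rw [← Set.range_comp]; rfl
    rw [hW, hrange, ← Submodule.map_span] at ha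
    obtain ⟨a', ha', hEq⟩ := ha
    have : a' = a := Subtype.ext hEq
    rw [← this]
    exact ha'
  let bA : Module.Basis (Fin d) F A := Module.Basis.mk hvli hvspan
  have hbA : ∀ i, ((bA i : A) : Λ) = β i := fun i => by simp [bA, v]
  haveI : Module.Finite F A := Module.Finite.of_basis bA
  haveI hArt : IsArtinianRing A := IsArtinianRing.of_finite F A
  -- units
  have hunit : ∀ a : A, IsUnit (a : Λ) → IsUnit a := by
    intro a ha
    apply IsArtinianRing.isUnit_of_mem_nonZeroDivisors
    rw [mem_nonZeroDivisors_iff_right]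
    intro b hb
    have : (b : Λ) * (a : Λ) = 0 := congrArg Subtype.val hb
    have hb0 : (b : Λ) = 0 := by
      rwa [ha.mul_left_eq_zero] at this
    exact Subtype.ext hb0
  have hunit' : ∀ a : A, IsUnit a ↔ IsUnit (a : Λ) :=
    fun a => ⟨fun h => h.map A.val, hunit a⟩
  haveI : Nontrivial A := ⟨⟨0, 1, fun h => zero_ne_one (α := Λ) (congrArg Subtype.val h)⟩⟩
  have hloc : IsLocalRing A := by
    apply IsLocalRing.of_isUnit_or_isUnit_one_sub_self
    intro a
    rcases IsLocalRing.isUnit_or_isUnit_one_sub_self (a : Λ) with h | h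
    · exact Or.inl (hunit a h)
    · exact Or.inr (hunit (1 - a) h)
  -- `F` and `adjoin k GK` have the same elements
  have hkF : ∀ c : k, algebraMap k K c ∈ F := by
    intro c
    have h2 := hρW _ (hkW c)
    rwa [hρk] at h2
  have hFle : ∀ f ∈ adjoin k (GK : Set K), f ∈ F := by
    intro f hf
    induction hf using adjoin_induction with
    | mem x hx => exact subset_adjoin k₀ _ hx
    | algebraMap c => exact hkF c
    | add x y _ _ h1 h2 => exact F.add_mem h1 h2
    | inv x _ h1 => exact F.inv_mem h1
    | mul x y _ _ h1 h2 => exact F.mul_mem h1 h2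
  have hFge : ∀ f ∈ F, f ∈ adjoin k (GK : Set K) := by
    intro f hf
    induction hf using adjoin_induction with
    | mem x hx => exact subset_adjoin k _ hx
    | algebraMap c =>
      have : algebraMap k₀ K c = algebraMap k K (c : k) := rfl
      rw [this]
      exact IntermediateField.algebraMap_mem _ _
    | add x y _ _ h1 h2 => exact add_mem h1 h2
    | inv x _ h1 => exact inv_mem h1
    | mul x y _ _ h1 h2 => exact mul_mem h1 h2
  refine ⟨A, hloc, GK, ?_, hArt, ?_, ?_, hunit', hGK, ?_, ?_⟩
  · intro g hg
    exact (hAW g).mpr (hG g (Finset.mem_union_left _ hg))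
  · -- flatness
    let l : K →ₗ[F] Λ := (Algebra.linearMap K Λ).restrictScalars F
    let ψ : A ⊗[F] K →ₗ[A] Λ := l.liftBaseChange A
    have hψ : ∀ (a : A) (κ : K), ψ (a ⊗ₜ κ) = (a : Λ) * algebraMap K Λ κ := fun a κ => rfl
    have hinj : Function.Injective ψ := by
      rw [injective_iff_map_eq_zero]
      intro x hx
      set c := TensorProduct.equivFinsuppOfBasisLeft bA x with hc
      have hxc : x = c.sum fun i n => bA i ⊗ₜ n := by
        rw [← TensorProduct.equivFinsuppOfBasisLeft_symm_apply, hc, LinearEquiv.symm_apply_apply]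
      have hlc : Finsupp.linearCombination K β c = 0 := by
        rw [Finsupp.linearCombination_apply, Finsupp.sum]
        rw [hxc, Finsupp.sum, map_sum] at hx
        rw [← hx]
        apply Finset.sum_congr rfl
        intro i _
        rw [hψ, hbA, Algebra.smul_def, mul_comm]
      have hc0 : c = 0 := linearIndependent_iff.mp β.linearIndependent c hlc
      rw [hxc, hc0]
      simp
    have hsurj : Function.Surjective ψ := by
      intro y
      refine ⟨∑ i, bA i ⊗ₜ β.repr y i, ?_⟩
      rw [map_sum]
      conv_rhs => rw [← β.sum_repr y]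
      apply Finset.sum_congr rfl
      intro i _
      rw [hψ, hbA, Algebra.smul_def, mul_comm]
    exact Module.Flat.of_linearEquiv (LinearEquiv.ofBijective ψ ⟨hinj, hsurj⟩).symm
  · -- essentially of finite type
    haveI : Algebra.EssFiniteType k₀ F := essFiniteType_iff.mpr hFfg
    haveI : Algebra.EssFiniteType F A := inferInstance
    haveI : IsScalarTower k₀ F A :=
      IsScalarTower.of_algebraMap_eq fun c => Subtype.ext (hcompat c c.2).symm
    haveI : Algebra.EssFiniteType k₀ A := Algebra.EssFiniteType.comp k₀ F A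
    exact Algebra.EssFiniteType.of_comp k₀ k A
  · intro x hx
    exact hFge _ (hρW x ((hAW x).mp hx))
  · intro f hf
    exact (hAW _).mpr (hFW ⟨f, hFle f hf⟩)

end

end Groth.Agent.Lib.Helper18.DR.Pc
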