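import Mathlib
import Groth.Agent.Lib.Helper18.PcB
import Groth.Agent.Lib.Helper18.PcC

/-!
# The Artinian quotient `Λ_q / q^N Λ_q` and perfectly lifted residues (helper18)
-/

set_option autoImplicit false
set_option linter.style.haveILetI false
universe u

namespace Groth.Agent.Lib.Helper18.DR.Pc

open IntermediateField IsLocalRing TensorProduct

section basic

variable {k Λ : Type u} [Field k] [CommRing Λ] [Algebra k Λ] (q : Ideal Λ) [q.IsPrime] (N : ℕ)

/-- the Artinian quotient `Λ_q / (q Λ_q)^N` -/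
abbrev Lb : Type u :=
  Localization.AtPrime q ⧸ (maximalIdeal (Localization.AtPrime q)) ^ N

/-- the class map `Λ → Λ_q / (q Λ_q)^N` -/
noncomputable def cl : Λ →ₐ[k] Lb q N :=
  (Ideal.Quotient.mkₐ k _).comp (IsScalarTower.toAlgHom k Λ (Localization.AtPrime q))

theorem cl_apply (a : Λ) : cl (k := k) q N a =
    Ideal.Quotient.mk _ (algebraMap Λ (Localization.AtPrime q) a) := rfl

variable {N} in
/-- the residue map `Λ_q / (q Λ_q)^N → κ(q)` -/
noncomputable def rho (hN : 0 < N) : Lb q N →ₐ[k] ResidueField (Localization.AtPrime q) :=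
  Ideal.Quotient.liftₐ _ (IsScalarTower.toAlgHom k (Localization.AtPrime q)
    (ResidueField (Localization.AtPrime q))) (fun a ha => by
      show residue _ a = 0
      rw [residue_eq_zero_iff]
      exact Ideal.pow_le_self (Nat.pos_iff_ne_zero.mp hN) ha)

variable {N}

theorem rho_mk (hN : 0 < N) (s : Localization.AtPrime q) :
    rho (k := k) q hN (Ideal.Quotient.mk _ s) = residue _ s := rfl

theorem rho_surjective (hN : 0 < N) : Function.Surjective (rho (k := k) q hN) := by
  intro x
  obtain ⟨s, rfl⟩ := residue_surjective x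
  exact ⟨Ideal.Quotient.mk _ s, rfl⟩

theorem rho_eq_zero_iff (hN : 0 < N) (s : Localization.AtPrime q) :
    rho (k := k) q hN (Ideal.Quotient.mk _ s) = 0 ↔ s ∈ maximalIdeal (Localization.AtPrime q) := by
  rw [rho_mk, residue_eq_zero_iff]

theorem nontrivial_Lb (hN : 0 < N) : Nontrivial (Lb q N) := by
  apply Ideal.Quotient.nontrivial_iff.mpr
  intro h
  have : maximalIdeal (Localization.AtPrime q) ^ N ≤ maximalIdeal (Localization.AtPrime q) :=
    Ideal.pow_le_self (Nat.pos_iff_ne_zero.mp hN)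
  rw [h, top_le_iff] at this
  exact (maximalIdeal.isMaximal _).ne_top this

theorem isLocalRing_Lb (hN : 0 < N) : IsLocalRing (Lb q N) := by
  haveI := nontrivial_Lb q hN
  exact IsLocalRing.of_surjective' (Ideal.Quotient.mk _) Ideal.Quotient.mk_surjective

theorem maximalIdeal_Lb (hN : 0 < N) :
    letI := isLocalRing_Lb q hN
    maximalIdeal (Lb q N) = (maximalIdeal (Localization.AtPrime q)).map (Ideal.Quotient.mk _) := by
  letI := isLocalRing_Lb q hN
  exact (IsLocalRing.map_maximalIdeal_of_surjective (Ideal.Quotient.mk _)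
    Ideal.Quotient.mk_surjective).symm

theorem isArtinianRing_Lb [IsNoetherianRing Λ] (hN : 0 < N) : IsArtinianRing (Lb q N) := by
  letI := isLocalRing_Lb q hN
  rw [isArtinianRing_iff_isNilpotent_maximalIdeal]
  refine ⟨N, ?_⟩
  rw [maximalIdeal_Lb q hN, ← Ideal.map_pow, Ideal.zero_eq_bot, Ideal.map_quotient_self]

/-- elements of the kernel of the residue map are fractions of elements of `q` -/
theorem exists_frac_of_rho_eq_zero (hN : 0 < N) (ν : Lb q N) (hν : rho (k := k) q hN ν = 0) :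
    ∃ b s : Λ, b ∈ q ∧ s ∉ q ∧ ν * cl (k := k) q N s = cl (k := k) q N b := by
  obtain ⟨ν', rfl⟩ := Ideal.Quotient.mk_surjective ν
  rw [rho_eq_zero_iff] at hν
  obtain ⟨⟨b, s⟩, hbs⟩ := IsLocalization.surj q.primeCompl ν'
  refine ⟨b, s, ?_, s.2, ?_⟩
  · rw [← IsLocalization.AtPrime.to_map_mem_maximal_iff (Localization.AtPrime q) q b]
    change ν' * algebraMap Λ _ (s : Λ) = algebraMap Λ _ b at hbs
    rw [← hbs]
    exact Ideal.mul_mem_right _ _ hν
  · rw [cl_apply, cl_apply, ← map_mul]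
    congr 1

theorem rho_cl (hN : 0 < N) (a : Λ) :
    rho (k := k) q hN (cl (k := k) q N a) =
      residue _ (algebraMap Λ (Localization.AtPrime q) a) := rfl

theorem rho_cl_ne_zero (hN : 0 < N) (s : Λ) (hs : s ∉ q) :
    rho (k := k) q hN (cl (k := k) q N s) ≠ 0 := by
  rw [rho_cl, Ne, residue_eq_zero_iff,
    IsLocalization.AtPrime.to_map_mem_maximal_iff (Localization.AtPrime q) q s]
  exact hs

/-- every residue is a quotient of residues of elements of `Λ` -/
theorem exists_frac_residue (hN : 0 < N) (c : ResidueField (Localization.AtPrime q)) :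
    ∃ a s : Λ, s ∉ q ∧ c * rho (k := k) q hN (cl (k := k) q N s) =
      rho (k := k) q hN (cl (k := k) q N a) := by
  obtain ⟨c', rfl⟩ := residue_surjective c
  obtain ⟨⟨a, s⟩, has⟩ := IsLocalization.surj q.primeCompl c'
  refine ⟨a, s, s.2, ?_⟩
  rw [rho_cl, rho_cl, ← map_mul]
  congr 1

end basic

section goodlift

variable {Λ Lbar K : Type*} [CommRing Λ] [CommRing Lbar] [Field K]

/-- the perfect lift: `a s^M - b s^(M-1)` has class `σ(res a · res s ^ M)` -/
theorem good_lift (c : Λ →+* Lbar) (ρ : Lbar →+* K) (σ : K →+* Lbar)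
    (M : ℕ) (hM : 0 < M)
    (hpow : ∀ x : Lbar, x ^ M = σ ((ρ x) ^ M))
    (a b s : Λ) (hb : (c a - σ (ρ (c a))) * c s = c b) :
    c (a * s ^ M - b * s ^ (M - 1)) = σ (ρ (c a) * ρ (c s) ^ M) := by
  obtain ⟨M', rfl⟩ : ∃ M', M = M' + 1 := ⟨M - 1, by omega⟩
  have h1 : c (a * s ^ (M' + 1) - b * s ^ (M' + 1 - 1)) =
      c a * c s ^ (M' + 1) - c b * c s ^ M' := by
    simp only [map_sub, map_mul, map_pow, Nat.add_sub_cancel]
  rw [h1, ← hb, map_mul, ← hpow]
  ring

end goodlift

end Groth.Agent.Lib.Helper18.DR.Pc
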