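import Mathlib
import Groth.Agent.Lib.Helper18.PcD

/-!
# The flat Artinian subalgebra `D` with a differential basis lifted to `Λ` (helper18)
-/

set_option autoImplicit false
set_option linter.style.haveILetI false
universe u

namespace Groth.Agent.Lib.Helper18.DR.Pc

open IntermediateField IsLocalRing TensorProduct Groth.Agent.Lib.Helper18.DR.Pb

set_option maxHeartbeats 3200000 in
theorem exists_D {k Λ : Type u} [Field k] (p : ℕ) [Fact p.Prime] [CharP k p] [CommRing Λ]
    [Algebra k Λ] [IsNoetherianRing Λ] (q : Ideal Λ) [q.IsPrime] {N : ℕ} (hN : 0 < N)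
    (hH : Module.Finite (ResidueField (Localization.AtPrime q))
      (Algebra.H1Cotangent k (ResidueField (Localization.AtPrime q))))
    (E : Finset Λ) :
    ∃ (D : Subalgebra k (Lb q N)) (_ : IsLocalRing D)
      (F : IntermediateField k (ResidueField (Localization.AtPrime q)))
      (t : ℕ) (y : Fin t → Λ) (hyF : ∀ i, rho (k := k) q hN (cl (k := k) q N (y i)) ∈ F),
      (∀ e ∈ E, cl (k := k) q N e ∈ D) ∧ IsArtinianRing D ∧ Module.Flat D (Lb q N) ∧
      Algebra.EssFiniteType k D ∧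
      (∀ x : D, IsUnit x ↔ IsUnit (x : Lb q N)) ∧
      F.FG ∧ (∀ x ∈ D, rho (k := k) q hN x ∈ F) ∧
      (∀ f ∈ F, ∃ x ∈ D, rho (k := k) q hN x = f) ∧
      (∀ i, cl (k := k) q N (y i) ∈ D) ∧
      LinearIndependent F (fun i => KaehlerDifferential.D k F
        ⟨rho (k := k) q hN (cl (k := k) q N (y i)), hyF i⟩) ∧
      Submodule.span F (Set.range fun i => KaehlerDifferential.D k F
        ⟨rho (k := k) q hN (cl (k := k) q N (y i)), hyF i⟩) = ⊤ := by
  classical
  set K := ResidueField (Localization.AtPrime q) with hK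
  letI : Algebra (ZMod p) k := ZMod.algebra k p
  letI : Algebra (ZMod p) K := ((algebraMap k K).comp (algebraMap (ZMod p) k)).toAlgebra
  haveI : IsScalarTower (ZMod p) k K := IsScalarTower.of_algebraMap_eq fun _ => rfl
  haveI := isLocalRing_Lb q hN
  haveI := isArtinianRing_Lb q hN
  set ρ := rho (k := k) q hN with hρdef
  set c := cl (k := k) q N with hcdef
  obtain ⟨σ, k₀, S₁, e, hres, hcompat, hgen, hS₁, hpow⟩ :=
    exists_coefficient_field' p ρ (rho_surjective q hN) hH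
  letI algK : Algebra K (Lb q N) := σ.toAlgebra
  have hker_le : ∀ x : Lb q N, ρ x = 0 → x ∈ maximalIdeal (Lb q N) := by
    intro x hx
    rw [mem_maximalIdeal, mem_nonunits_iff]
    intro hu
    have := hu.map ρ
    rw [hx] at this
    exact not_isUnit_zero this
  haveI : Module.Finite K (Lb q N) :=
    finite_of_section (fun x => ⟨ρ x, by
      apply hker_le
      rw [map_sub]
      show ρ x - ρ (σ (ρ x)) = 0
      rw [hres, sub_self]⟩)
  -- the perfectly lifted residues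
  let K₀ : Set K := {x | ∃ a : Λ, c a = σ x}
  set M := p ^ e with hMdef
  have hM : 0 < M := pow_pos (Fact.out : p.Prime).pos e
  have hlift : ∀ a : Λ, ∃ s : Λ, s ∉ q ∧ ρ (c a) * ρ (c s) ^ M ∈ K₀ ∧ ρ (c s) ^ M ∈ K₀ := by
    intro a
    have hν : ρ (c a - σ (ρ (c a))) = 0 := by
      rw [map_sub, hres, sub_self]
    obtain ⟨b, s, -, hs, hbs⟩ := exists_frac_of_rho_eq_zero (k := k) q hN _ hν
    refine ⟨s, hs, ⟨a * s ^ M - b * s ^ (M - 1), ?_⟩, ⟨s ^ M, ?_⟩⟩
    · exact good_lift (c : Λ →+* Lb q N) (ρ : Lb q N →+* K) σ M hM hpow a b s hbs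
    · rw [map_pow]
      exact hpow (c s)
  have hgood : ∀ x : K, ∃ T : Finset K, (T : Set K) ⊆ K₀ ∧ x ∈ adjoin (ZMod p) (T : Set K) := by
    intro x
    obtain ⟨a, s, hs, has⟩ := exists_frac_residue (k := k) q hN x
    obtain ⟨sa, hsa, h1, h2⟩ := hlift a
    obtain ⟨ss, hss, h3, h4⟩ := hlift s
    have hne1 : ρ (c sa) ^ M ≠ 0 := pow_ne_zero _ (rho_cl_ne_zero q hN sa hsa)
    have hne2 : ρ (c ss) ^ M ≠ 0 := pow_ne_zero _ (rho_cl_ne_zero q hN ss hss)
    have hne3 : ρ (c s) ≠ 0 := rho_cl_ne_zero q hN s hs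
    refine ⟨{ρ (c a) * ρ (c sa) ^ M, ρ (c sa) ^ M, ρ (c s) * ρ (c ss) ^ M, ρ (c ss) ^ M}, ?_, ?_⟩
    · intro z hz
      simp only [Finset.coe_insert, Finset.coe_singleton, Set.mem_insert_iff,
        Set.mem_singleton_iff] at hz
      rcases hz with rfl | rfl | rfl | rfl
      · exact h1
      · exact h2
      · exact h3
      · exact h4
    · set T : Finset K :=
        {ρ (c a) * ρ (c sa) ^ M, ρ (c sa) ^ M, ρ (c s) * ρ (c ss) ^ M, ρ (c ss) ^ M} with hT
      have m1 : ρ (c a) * ρ (c sa) ^ M ∈ adjoin (ZMod p) (T : Set K) :=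
        subset_adjoin _ _ (by simp [hT])
      have m2 : ρ (c sa) ^ M ∈ adjoin (ZMod p) (T : Set K) :=
        subset_adjoin _ _ (by simp [hT])
      have m3 : ρ (c s) * ρ (c ss) ^ M ∈ adjoin (ZMod p) (T : Set K) :=
        subset_adjoin _ _ (by simp [hT])
      have m4 : ρ (c ss) ^ M ∈ adjoin (ZMod p) (T : Set K) :=
        subset_adjoin _ _ (by simp [hT])
      have hx : x = (ρ (c a) * ρ (c sa) ^ M / ρ (c sa) ^ M) /
          (ρ (c s) * ρ (c ss) ^ M / ρ (c ss) ^ M) := by
        rw [mul_div_cancel_right₀ _ hne1, mul_div_cancel_right₀ _ hne2, ← has,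
          mul_div_cancel_right₀ _ hne3]
      rw [hx]
      exact div_mem (div_mem m1 m2) (div_mem m3 m4)
  have halg : ∀ s ∈ S₁, IsAlgebraic k₀ s := by
    intro s hs
    obtain ⟨e', he'⟩ := hS₁ s hs
    refine ⟨Polynomial.X ^ p ^ e' - Polynomial.C (⟨s ^ p ^ e', he'⟩ : k₀),
      Polynomial.X_pow_sub_C_ne_zero (pow_pos (Fact.out : p.Prime).pos e') _, ?_⟩
    simp only [map_sub, map_pow, Polynomial.aeval_X, Polynomial.aeval_C]
    show s ^ p ^ e' - s ^ p ^ e' = 0
    exact sub_self _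
  obtain ⟨A, hloc, GK, hG, hArt, hflat, hess, hunit, hGK, hρA, hFA⟩ :=
    descend' (P := ZMod p) (K := K) (Λ := Lb q N) (ρ : Lb q N →+* K) hres
      (fun x => ρ.commutes x) k₀ hcompat S₁ hgen halg (E.image c) K₀ hgood
  set F : IntermediateField k K := adjoin k (GK : Set K) with hF
  -- differential basis
  let v : ↥(↑GK : Set K) → Ω[F⁄k] := fun s =>
    KaehlerDifferential.D k F ⟨s.1, subset_adjoin k _ s.2⟩
  have hvspan : Submodule.span F (Set.range v) = ⊤ := span_D_adjoin (F := k) (L := K) (GK : Set K)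
  obtain ⟨b, hbsub, hbspan, hbli⟩ := exists_linearIndependent F (Set.range v)
  have hbfin : b.Finite := (Set.finite_range v).subset hbsub
  haveI : Fintype b := hbfin.fintype
  let t := Fintype.card b
  let eb : Fin t ≃ b := (Fintype.equivFin b).symm
  have hchoose : ∀ ω : b, ∃ s : ↥(↑GK : Set K), v s = ω.1 := fun ω => hbsub ω.2
  choose sω hsω using hchoose
  have hlift' : ∀ ω : b, ∃ a : Λ, c a = σ (sω ω).1 := fun ω => hGK (sω ω).2
  choose yω hyω using hlift'
  have hρy : ∀ ω : b, ρ (c (yω ω)) = (sω ω).1 := by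
    intro ω
    rw [hyω, hres]
  have hyF : ∀ i, ρ (c (yω (eb i))) ∈ F := by
    intro i
    rw [hρy]
    exact subset_adjoin k _ (sω (eb i)).2
  have hDeq : ∀ i, KaehlerDifferential.D k F ⟨ρ (c (yω (eb i))), hyF i⟩ = ((eb i : b) : Ω[F⁄k]) := by
    intro i
    rw [← hsω (eb i)]
    show _ = KaehlerDifferential.D k F ⟨(sω (eb i)).1, _⟩
    congr 1
    exact Subtype.ext (hρy (eb i))
  refine ⟨A, hloc, F, t, fun i => yω (eb i), hyF, ?_, hArt, hflat, hess, hunit, ⟨GK, rfl⟩, hρA,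
    ?_, ?_, ?_, ?_⟩
  · intro x hx
    exact hG (Finset.mem_coe.mpr (Finset.mem_image_of_mem _ hx))
  · intro f hf
    exact ⟨σ f, hFA f hf, hres f⟩
  · intro i
    show c (yω (eb i)) ∈ A
    rw [hyω]
    exact hFA _ (subset_adjoin k _ (sω (eb i)).2)
  · have : (fun i => KaehlerDifferential.D k F ⟨ρ (c (yω (eb i))), hyF i⟩) =
        (Subtype.val : b → Ω[F⁄k]) ∘ eb := by
      funext i
      exact hDeq i
    rw [this]
    exact hbli.comp _ eb.injective
  · have : (Set.range fun i => KaehlerDifferential.D k F ⟨ρ (c (yω (eb i))), hyF i⟩) = b := by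
      ext ω
      constructor
      · rintro ⟨i, rfl⟩
        show KaehlerDifferential.D k F ⟨ρ (c (yω (eb i))), hyF i⟩ ∈ b
        rw [hDeq]
        exact (eb i).2
      · intro hω
        refine ⟨eb.symm ⟨ω, hω⟩, ?_⟩
        show KaehlerDifferential.D k F ⟨ρ (c (yω (eb (eb.symm ⟨ω, hω⟩)))), hyF _⟩ = ω
        rw [hDeq, Equiv.apply_symm_apply]
    rw [this, hbspan, hvspan]

end Groth.Agent.Lib.Helper18.DR.Pc
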