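import Mathlib

/-!
# Selecting a minimal generating subfamily of the maximal ideal (helper18)
-/

set_option autoImplicit false
set_option linter.style.haveILetI false
universe u

namespace Groth.Agent.Lib.Helper18.DR.Pc

open IsLocalRing

theorem exists_subfamily_generating {B : Type u} [CommRing B] [IsLocalRing B] [IsNoetherianRing B]
    {n : ℕ} (g : Fin n → B) (hg : Ideal.span (Set.range g) = maximalIdeal B) :
    ∃ (r : ℕ) (ι : Fin r → Fin n), Ideal.span (Set.range (g ∘ ι)) = maximalIdeal B ∧
      r = (maximalIdeal B).spanFinrank := by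
  classical
  have hgm : ∀ i, g i ∈ maximalIdeal B := fun i => hg ▸ Ideal.subset_span ⟨i, rfl⟩
  let g' : Fin n → maximalIdeal B := fun i => ⟨g i, hgm i⟩
  let gb : Fin n → CotangentSpace B := fun i => (maximalIdeal B).toCotangent (g' i)
  have hspan' : Submodule.span B (Set.range g') = ⊤ := by
    apply Submodule.map_injective_of_injective (Submodule.injective_subtype (maximalIdeal B))
    rw [Submodule.map_span, ← Set.range_comp, Submodule.map_top, Submodule.range_subtype]
    exact hg
  have hspan : Submodule.span (ResidueField B) (Set.range gb) = ⊤ := by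
    have : Set.range gb = (maximalIdeal B).toCotangent '' Set.range g' := by
      rw [← Set.range_comp]; rfl
    rw [this, CotangentSpace.span_image_eq_top_iff]
    exact hspan'
  obtain ⟨b, hbsub, hbspan, hbli⟩ := exists_linearIndependent (ResidueField B) (Set.range gb)
  rw [hspan] at hbspan
  have hbfin : b.Finite := (Set.finite_range gb).subset hbsub
  haveI : Fintype b := hbfin.fintype
  let bas : Module.Basis b (ResidueField B) (CotangentSpace B) :=
    Module.Basis.mk hbli (by rw [Subtype.range_coe_subtype]; exact hbspan.ge)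
  have hcard : Fintype.card b = (maximalIdeal B).spanFinrank := by
    rw [spanFinrank_maximalIdeal_eq_finrank_cotangentSpace, Module.finrank_eq_card_basis bas]
  let eb : Fin (Fintype.card b) ≃ b := (Fintype.equivFin b).symm
  have hch : ∀ ω : b, ∃ i : Fin n, gb i = ω.1 := fun ω => hbsub ω.2
  choose idx hidx using hch
  refine ⟨Fintype.card b, fun j => idx (eb j), ?_, hcard⟩
  -- Nakayama
  let s : Set (maximalIdeal B) := Set.range fun j => g' (idx (eb j))
  have hs : Submodule.span (ResidueField B) ((maximalIdeal B).toCotangent '' s) = ⊤ := by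
    have : (maximalIdeal B).toCotangent '' s = b := by
      ext ω
      constructor
      · rintro ⟨_, ⟨j, rfl⟩, rfl⟩
        show gb (idx (eb j)) ∈ b
        rw [hidx]
        exact (eb j).2
      · intro hω
        refine ⟨g' (idx ⟨ω, hω⟩), ⟨eb.symm ⟨ω, hω⟩, ?_⟩, ?_⟩
        · show g' (idx (eb (eb.symm ⟨ω, hω⟩))) = _
          rw [Equiv.apply_symm_apply]
        · exact hidx ⟨ω, hω⟩
    rw [this]
    exact hbspan
  rw [CotangentSpace.span_image_eq_top_iff] at hs
  have := congrArg (Submodule.map (maximalIdeal B).subtype) hs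
  rw [Submodule.map_span, Submodule.map_top, Submodule.range_subtype] at this
  rw [← this]
  congr 1
  ext z
  constructor
  · rintro ⟨j, rfl⟩
    exact ⟨g' (idx (eb j)), ⟨j, rfl⟩, rfl⟩
  · rintro ⟨_, ⟨j, rfl⟩, rfl⟩
    exact ⟨j, rfl⟩

end Groth.Agent.Lib.Helper18.DR.Pc
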