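import Mathlib
import Groth.Agent.S2082
import Groth.Agent.S4693
import Groth.Agent.Lib.Helper4.RegCM

/-!
# Flatness after adjoining variables mapping to parameters of the fibre (helper18)
-/

set_option autoImplicit false
set_option linter.style.haveILetI false
universe u

namespace Groth.Agent.Lib.Helper18.DR.Pc

open IsLocalRing MvPolynomial

/-- a polynomial minus its constant coefficient lies in the ideal of the variables -/
theorem sub_C_constantCoeff_mem {R₀ : Type*} [CommRing R₀] {r : ℕ}
    (f : MvPolynomial (Fin r) R₀) :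
    f - C (constantCoeff f) ∈ Ideal.span (Set.range (X : Fin r → MvPolynomial (Fin r) R₀)) := by
  classical
  rw [← Set.image_univ, mem_ideal_span_X_image]
  intro m hm
  by_contra hcon
  push_neg at hcon
  have hm0 : m = 0 := by
    ext i
    exact hcon i (Set.mem_univ i)
  rw [mem_support_iff, hm0, coeff_sub, coeff_zero_C, ← constantCoeff_eq, sub_self] at hm
  exact hm rfl

set_option maxHeartbeats 3200000 in
theorem flat_extend {R₀ Λ : Type u} [CommRing R₀] [IsRegularRing R₀]
    [CommRing Λ] [IsNoetherianRing Λ] (q : Ideal Λ) [q.IsPrime]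
    [IsRegularLocalRing (Localization.AtPrime q)] (ψ₀ : R₀ →+* Λ)
    (r : ℕ) (x : Fin r → Λ) (hxq : ∀ j, x j ∈ q)
    (hgen : (q.comap ψ₀).map ((algebraMap Λ (Localization.AtPrime q)).comp ψ₀) ⊔
      Ideal.span (Set.range fun j => algebraMap Λ (Localization.AtPrime q) (x j)) =
        maximalIdeal (Localization.AtPrime q))
    (hr : ringKrullDim (Localization.AtPrime q) =
      ringKrullDim (Localization.AtPrime (q.comap ψ₀)) + r) :
    ((algebraMap Λ (Localization.AtPrime q)).comp (eval₂Hom ψ₀ x)).Flat ∧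
    (q.comap (eval₂Hom ψ₀ x)).map
      ((algebraMap Λ (Localization.AtPrime q)).comp (eval₂Hom ψ₀ x)) =
        maximalIdeal (Localization.AtPrime q) ∧
    ringKrullDim (Localization.AtPrime (q.comap (eval₂Hom ψ₀ x))) =
      ringKrullDim (Localization.AtPrime q) := by
  classical
  set S := Localization.AtPrime q with hS
  set R := MvPolynomial (Fin r) R₀ with hR
  set ψ : R →+* Λ := eval₂Hom ψ₀ x with hψ
  set ψS : R →+* S := (algebraMap Λ S).comp ψ with hψS
  set pp : Ideal R := q.comap ψ with hpp
  set p' : Ideal R₀ := q.comap ψ₀ with hp'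
  have hψC : ∀ f₀ : R₀, ψ (C f₀) = ψ₀ f₀ := fun f₀ => eval₂Hom_C _ _ _
  have hψX : ∀ j, ψ (X j) = x j := fun j => eval₂Hom_X' _ _ _
  have hXpp : ∀ j, (X j : R) ∈ pp := by
    intro j
    show ψ (X j) ∈ q
    rw [hψX]
    exact hxq j
  have hCpp : ∀ f₀ : R₀, (C f₀ : R) ∈ pp ↔ f₀ ∈ p' := by
    intro f₀
    show ψ (C f₀) ∈ q ↔ ψ₀ f₀ ∈ q
    rw [hψC]
  have hspanX : Ideal.span (Set.range (X : Fin r → R)) ≤ pp := by
    rw [Ideal.span_le]
    rintro _ ⟨j, rfl⟩
    exact hXpp j
  -- (a)
  have hmap : pp.map ψS = maximalIdeal S := by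
    apply le_antisymm
    · rw [Ideal.map_le_iff_le_comap]
      intro f hf
      show algebraMap Λ S (ψ f) ∈ maximalIdeal S
      rw [IsLocalization.AtPrime.to_map_mem_maximal_iff S q]
      exact hf
    · rw [← hgen]
      apply sup_le
      · rw [Ideal.map_le_iff_le_comap]
        intro f₀ hf₀
        show algebraMap Λ S (ψ₀ f₀) ∈ pp.map ψS
        rw [← hψC]
        exact Ideal.mem_map_of_mem ψS ((hCpp f₀).mpr hf₀)
      · rw [Ideal.span_le]
        rintro _ ⟨j, rfl⟩
        show algebraMap Λ S (x j) ∈ pp.map ψS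
        rw [← hψX]
        exact Ideal.mem_map_of_mem ψS (hXpp j)
  rw [and_comm, and_assoc]
  refine ⟨hmap, ?_⟩
  -- (b) the algebra structures
  letI algRS : Algebra R S := ψS.toAlgebra
  set A := Localization.AtPrime pp with hA
  have hunit : ∀ y : pp.primeCompl, IsUnit (algebraMap R S y) := by
    intro y
    show IsUnit (algebraMap Λ S (ψ y))
    exact IsLocalization.map_units S (⟨ψ y, y.2⟩ : q.primeCompl)
  let ψ' : A →+* S := IsLocalization.lift hunit
  letI algAS : Algebra A S := ψ'.toAlgebra
  have hψ' : ∀ f : R, algebraMap A S (algebraMap R A f) = algebraMap R S f :=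
    fun f => IsLocalization.lift_eq hunit f
  haveI : IsScalarTower R A S := IsScalarTower.of_algebraMap_eq (fun f => (hψ' f).symm)
  have hmem_iff : ∀ f : R, algebraMap R S f ∈ maximalIdeal S ↔ f ∈ pp := by
    intro f
    show algebraMap Λ S (ψ f) ∈ maximalIdeal S ↔ ψ f ∈ q
    rw [IsLocalization.AtPrime.to_map_mem_maximal_iff S q]
  haveI : IsLocalHom (algebraMap A S) := by
    refine ⟨fun a ha => ?_⟩
    obtain ⟨⟨f, s⟩, hfs'⟩ := IsLocalization.surj pp.primeCompl a
    have h1 : algebraMap A S a * algebraMap R S s = algebraMap R S f := by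
      rw [← hψ', ← hψ' f, ← map_mul, hfs']
    have h2 : IsUnit (algebraMap R S f) := by
      rw [← h1]; exact ha.mul (hunit s)
    have h3 : f ∉ pp := by
      intro hf
      exact (mem_maximalIdeal _).mp ((hmem_iff f).mpr hf) h2
    have h4 : IsUnit (algebraMap R A f) :=
      IsLocalization.map_units A (⟨f, h3⟩ : pp.primeCompl)
    rw [← hfs'] at h4
    exact isUnit_of_mul_isUnit_left h4
  haveI : IsRegularLocalRing A := inferInstance
  -- (d) generators of the maximal ideal of `A`
  set A₀ := Localization.AtPrime p' with hA₀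
  haveI : IsRegularLocalRing A₀ := inferInstance
  obtain ⟨h, hh⟩ := Groth.Agent.Lib.Helper4.RegCM.exists_nat_ringKrullDim A₀
  have hfg : (maximalIdeal A₀).FG := (maximalIdeal A₀).fg_of_isNoetherianRing
  obtain ⟨s, hscard, hsspan⟩ := Submodule.FG.exists_span_finset_card_eq_spanFinrank hfg
  have hsh : s.card = h := by
    have h1 : ((maximalIdeal A₀).spanFinrank : WithBot ℕ∞) = ringKrullDim A₀ :=
      IsRegularLocalRing.spanFinrank_maximalIdeal
    rw [hh] at h1
    have h2 : (maximalIdeal A₀).spanFinrank = h := by exact_mod_cast h1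
    rw [hscard, h2]
  have hsurj : ∀ a : A₀, ∃ (g : R₀) (u : R₀), u ∉ p' ∧
      a * algebraMap R₀ A₀ u = algebraMap R₀ A₀ g := by
    intro a
    obtain ⟨⟨g, u⟩, hgu⟩ := IsLocalization.surj p'.primeCompl a
    exact ⟨g, u, u.2, hgu⟩
  choose num den hden hnd using hsurj
  have hp'comap : p' = pp.comap (C : R₀ →+* R) := by
    ext f₀
    exact (hCpp f₀).symm
  let χ : A₀ →+* A := Localization.localRingHom p' pp C hp'comap
  have hχ : ∀ f₀ : R₀, χ (algebraMap R₀ A₀ f₀) = algebraMap R A (C f₀) :=
    fun f₀ => Localization.localRingHom_to_map p' pp C hp'comap f₀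
  let T₁ : Finset A := s.image fun a => algebraMap R A (C (num a))
  let T₂ : Finset A := Finset.univ.image fun j : Fin r => algebraMap R A (X j)
  have hT₁ : ∀ a ∈ s, χ a ∈ Ideal.span ((T₁ ∪ T₂ : Finset A) : Set A) := by
    intro a ha
    have h1 : χ a * algebraMap R A (C (den a)) = algebraMap R A (C (num a)) := by
      rw [← hχ, ← hχ, ← map_mul, hnd]
    have h2 : IsUnit (algebraMap R A (C (den a))) :=
      IsLocalization.map_units A (⟨C (den a), fun hc => hden a ((hCpp _).mp hc)⟩ : pp.primeCompl)
    obtain ⟨w, hw⟩ := h2.exists_right_inv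
    have h3 : χ a = algebraMap R A (C (num a)) * w := by
      rw [← h1, mul_assoc, hw, mul_one]
    rw [h3]
    refine Ideal.mul_mem_right _ _ (Ideal.subset_span ?_)
    rw [Finset.coe_union]
    exact Or.inl (Finset.mem_coe.mpr (Finset.mem_image_of_mem _ ha))
  have hle : maximalIdeal A ≤ Ideal.span ((T₁ ∪ T₂ : Finset A) : Set A) := by
    rw [← Localization.AtPrime.map_eq_maximalIdeal, Ideal.map_le_iff_le_comap]
    intro f hf
    rw [Ideal.mem_comap]
    have hdec : f = C (constantCoeff f) + (f - C (constantCoeff f)) := by ring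
    have h2 := sub_C_constantCoeff_mem f
    have h1 : constantCoeff f ∈ p' := by
      rw [← hCpp]
      have : C (constantCoeff f) = f - (f - C (constantCoeff f)) := by ring
      rw [this]
      exact pp.sub_mem hf (hspanX h2)
    rw [hdec, map_add]
    apply Ideal.add_mem
    · rw [← hχ]
      have h3 : algebraMap R₀ A₀ (constantCoeff f) ∈ maximalIdeal A₀ := by
        rw [IsLocalization.AtPrime.to_map_mem_maximal_iff A₀ p']
        exact h1
      rw [← hsspan] at h3
      have h4 : χ (algebraMap R₀ A₀ (constantCoeff f)) ∈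
          (Ideal.span (s : Set A₀)).map χ := Ideal.mem_map_of_mem χ h3
      rw [Ideal.map_span] at h4
      refine (Ideal.span_le.mpr ?_) h4
      rintro _ ⟨a, ha, rfl⟩
      exact hT₁ a ha
    · have h5 : algebraMap R A (f - C (constantCoeff f)) ∈
          (Ideal.span (Set.range (X : Fin r → R))).map (algebraMap R A) :=
        Ideal.mem_map_of_mem _ h2
      rw [Ideal.map_span, ← Set.range_comp] at h5
      refine (Ideal.span_le.mpr ?_) h5
      rintro _ ⟨j, rfl⟩
      apply Ideal.subset_span
      rw [Finset.coe_union]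
      exact Or.inr (Finset.mem_coe.mpr (Finset.mem_image_of_mem _ (Finset.mem_univ j)))
  have hge : Ideal.span ((T₁ ∪ T₂ : Finset A) : Set A) ≤ maximalIdeal A := by
    rw [Ideal.span_le]
    intro z hz
    rw [Finset.coe_union] at hz
    rcases hz with hz | hz
    · obtain ⟨a, ha, rfl⟩ := Finset.mem_image.mp (Finset.mem_coe.mp hz)
      rw [SetLike.mem_coe, IsLocalization.AtPrime.to_map_mem_maximal_iff A pp, hCpp]
      have h1 : algebraMap R₀ A₀ (num a) ∈ maximalIdeal A₀ := by
        rw [← hnd]
        refine Ideal.mul_mem_right _ _ ?_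
        rw [← hsspan]
        exact Ideal.subset_span ha
      rwa [IsLocalization.AtPrime.to_map_mem_maximal_iff A₀ p'] at h1
    · obtain ⟨j, -, rfl⟩ := Finset.mem_image.mp (Finset.mem_coe.mp hz)
      rw [SetLike.mem_coe, IsLocalization.AtPrime.to_map_mem_maximal_iff A pp]
      exact hXpp j
  have hmA : maximalIdeal A = Ideal.span ((T₁ ∪ T₂ : Finset A) : Set A) := le_antisymm hle hge
  have hcardT : (T₁ ∪ T₂).card ≤ h + r := by
    refine le_trans (Finset.card_union_le _ _) ?_
    refine add_le_add (le_trans Finset.card_image_le hsh.le) ?_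
    refine le_trans Finset.card_image_le ?_
    simp
  have hdimA : ringKrullDim A ≤ ((h + r : ℕ) : WithBot ℕ∞) := by
    refine le_trans (ringKrullDim_le_spanFinrank_maximalIdeal A) ?_
    have h1 : (maximalIdeal A).spanFinrank ≤ (T₁ ∪ T₂).card := by
      rw [hmA]
      refine le_trans (Submodule.spanFinrank_span_le_ncard_of_finite (Finset.finite_toSet _)) ?_
      rw [Set.ncard_coe_finset]
    exact_mod_cast le_trans h1 hcardT
  -- (e)
  have hmAS : (maximalIdeal A).map (algebraMap A S) = maximalIdeal S := by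
    have h0 : maximalIdeal A = pp.map (algebraMap R A) :=
      (Localization.AtPrime.map_eq_maximalIdeal (I := pp)).symm
    rw [h0, Ideal.map_map, ← hmap]
    congr 1
    exact RingHom.ext fun f => hψ' f
  have hfield : IsField (S ⧸ (maximalIdeal A).map (algebraMap A S)) := by
    rw [hmAS]
    exact (Ideal.Quotient.maximal_ideal_iff_isField_quotient _).mp (maximalIdeal.isMaximal S)
  have hfib0 : ringKrullDim (S ⧸ (maximalIdeal A).map (algebraMap A S)) = 0 := by
    letI := hfield.toField
    exact ringKrullDim_eq_zero_of_field _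
  have hSA : ringKrullDim S ≤ ringKrullDim A := (Groth.Agent.S4693.result A S hfib0).1
  have hAS : ringKrullDim A ≤ ringKrullDim S := by
    rw [hr, hh]
    exact_mod_cast hdimA
  have hdimeq : ringKrullDim S = ringKrullDim A +
      ringKrullDim (S ⧸ (maximalIdeal A).map (algebraMap A S)) := by
    rw [hfib0, add_zero]
    exact le_antisymm hSA hAS
  haveI : LocCoh.IsCohenMacaulayLocalRing S := Groth.Agent.Lib.Helper4.RegCM.isCohenMacaulayLocalRing S
  haveI hflatAS : Module.Flat A S := Groth.Agent.S2082.result hdimeq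
  haveI : Module.Flat R A := IsLocalization.flat A pp.primeCompl
  refine ⟨le_antisymm hAS hSA, ?_⟩
  show Module.Flat R S
  exact Module.Flat.trans R A S

end Groth.Agent.Lib.Helper18.DR.Pc
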