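import Mathlib
import Groth.Agent.Lib.Helper4.FlatRing

/-!
# The dimension formula for a flat map into a localization (helper18)
-/

set_option autoImplicit false
set_option linter.style.haveILetI false
universe u

namespace Groth.Agent.Lib.Helper18.DR.Pc

open IsLocalRing

set_option maxHeartbeats 1600000 in
theorem dim_formula {R₀ Λ : Type u} [CommRing R₀] [IsNoetherianRing R₀] [CommRing Λ]
    [IsNoetherianRing Λ] (q : Ideal Λ) [q.IsPrime] (ψ₀ : R₀ →+* Λ)
    (hflat : ((algebraMap Λ (Localization.AtPrime q)).comp ψ₀).Flat) :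
    ringKrullDim (Localization.AtPrime q) =
      ringKrullDim (Localization.AtPrime (q.comap ψ₀)) +
        ringKrullDim (Localization.AtPrime q ⧸
          (q.comap ψ₀).map ((algebraMap Λ (Localization.AtPrime q)).comp ψ₀)) := by
  classical
  set S := Localization.AtPrime q with hS
  set ψS : R₀ →+* S := (algebraMap Λ S).comp ψ₀ with hψS
  set p' : Ideal R₀ := q.comap ψ₀ with hp'
  letI algRS : Algebra R₀ S := ψS.toAlgebra
  haveI : Module.Flat R₀ S := hflat
  set A := Localization.AtPrime p' with hA
  have hunit : ∀ y : p'.primeCompl, IsUnit (algebraMap R₀ S y) := by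
    intro y
    show IsUnit (algebraMap Λ S (ψ₀ y))
    exact IsLocalization.map_units S (⟨ψ₀ y, y.2⟩ : q.primeCompl)
  let ψ' : A →+* S := IsLocalization.lift hunit
  letI algAS : Algebra A S := ψ'.toAlgebra
  have hψ' : ∀ f : R₀, algebraMap A S (algebraMap R₀ A f) = algebraMap R₀ S f :=
    fun f => IsLocalization.lift_eq hunit f
  haveI : IsScalarTower R₀ A S := IsScalarTower.of_algebraMap_eq (fun f => (hψ' f).symm)
  have hmem_iff : ∀ f : R₀, algebraMap R₀ S f ∈ maximalIdeal S ↔ f ∈ p' := by
    intro f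
    show algebraMap Λ S (ψ₀ f) ∈ maximalIdeal S ↔ ψ₀ f ∈ q
    rw [IsLocalization.AtPrime.to_map_mem_maximal_iff S q]
  haveI : IsLocalHom (algebraMap A S) := by
    refine ⟨fun a ha => ?_⟩
    obtain ⟨⟨f, s⟩, hfs'⟩ := IsLocalization.surj p'.primeCompl a
    have h1 : algebraMap A S a * algebraMap R₀ S s = algebraMap R₀ S f := by
      rw [← hψ', ← hψ' f, ← map_mul, hfs']
    have h2 : IsUnit (algebraMap R₀ S f) := by
      rw [← h1]; exact ha.mul (hunit s)
    have h3 : f ∉ p' := by
      intro hf
      exact (mem_maximalIdeal _).mp ((hmem_iff f).mpr hf) h2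
    have h4 : IsUnit (algebraMap R₀ A f) :=
      IsLocalization.map_units A (⟨f, h3⟩ : p'.primeCompl)
    rw [← hfs'] at h4
    exact isUnit_of_mul_isUnit_left h4
  haveI : Module.Flat A S := (Module.flat_iff_of_isLocalization A p'.primeCompl S).mpr inferInstance
  have hideal : (maximalIdeal A).map (algebraMap A S) = p'.map ψS := by
    have h0 : maximalIdeal A = p'.map (algebraMap R₀ A) :=
      (Localization.AtPrime.map_eq_maximalIdeal (I := p')).symm
    rw [h0, Ideal.map_map]
    congr 1
    exact RingHom.ext fun f => hψ' f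
  have h1 := Groth.Agent.Lib.Helper4.FlatRing.dim_eq_add_fibRing A S
  rw [h1]
  congr 1
  exact ringKrullDim_eq_of_ringEquiv (Ideal.quotEquivOfEq hideal)

end Groth.Agent.Lib.Helper18.DR.Pc
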