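import Mathlib
import Groth.Agent.Lib.Helper18.PcA
import Groth.Agent.Lib.Helper18.PcE
import Groth.Agent.Lib.Helper18.PcF
import Groth.Agent.Lib.Helper18.PcG
import Groth.Agent.Lib.Helper18.PcG2
import Groth.Agent.Lib.Helper14.DiffBasisD
import Groth.Agent.Lib.Helper6.AnnStable2
import Groth.Agent.Lib.Helper21.KDiffSmoothB

/-!
# Lemma L, geometric part: the polynomial ring `P → Λ` and the subalgebra `D` (helper18)
-/

set_option autoImplicit false
set_option linter.style.haveILetI false
universe u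

namespace Groth.Agent.Lib.Helper18.DR.Pc

open IntermediateField IsLocalRing TensorProduct MvPolynomial

/-- lifts to `Λ` of a regular system of parameters of `Λ_q` -/
theorem exists_rsop_lift {Λ : Type u} [CommRing Λ] [IsNoetherianRing Λ] (q : Ideal Λ) [q.IsPrime]
    [IsRegularLocalRing (Localization.AtPrime q)] {d : ℕ}
    (hd : ringKrullDim (Localization.AtPrime q) = d) :
    ∃ π : Fin d → Λ, (∀ l, π l ∈ q) ∧
      Ideal.span (Set.range fun l => algebraMap Λ (Localization.AtPrime q) (π l)) =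
        maximalIdeal (Localization.AtPrime q) := by
  classical
  obtain ⟨x, hx, -⟩ := Groth.Agent.Lib.Helper4.RegCM.exists_regular_system
    (Localization.AtPrime q) d hd
  choose a ha using fun i => IsLocalization.surj q.primeCompl (x i)
  have hgen0 : Ideal.span (Set.range fun i =>
      algebraMap Λ (Localization.AtPrime q) (a i).1) =
      IsLocalRing.maximalIdeal (Localization.AtPrime q) := by
    rw [← hx]
    apply Groth.Agent.Lib.Helper6.AnnStable.span_range_unit_mul
    intro i
    refine ⟨algebraMap Λ (Localization.AtPrime q) ((a i).2 : Λ),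
      IsLocalization.map_units _ (a i).2, ?_⟩
    rw [← ha i, mul_comm]
  refine ⟨fun i => (a i).1, ?_, hgen0⟩
  intro i
  rw [← IsLocalization.AtPrime.to_map_mem_maximal_iff (Localization.AtPrime q) q, ← hgen0]
  exact Ideal.subset_span ⟨i, rfl⟩

set_option maxHeartbeats 3200000 in
theorem lemmaL_geom {k Λ : Type u} [Field k] (p : ℕ) [Fact p.Prime] [CharP k p] [CommRing Λ]
    [Algebra k Λ] [IsNoetherianRing Λ] (hreg : CAlg.IsGeometricallyRegular k Λ)
    (q : Ideal Λ) [q.IsPrime] {N : ℕ} (hN : 0 < N) (E : Finset Λ) :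
    ∃ (t r : ℕ) (ψ : MvPolynomial (Fin r) (MvPolynomial (Fin t) k) →ₐ[k] Λ)
      (D : Subalgebra k (Lb q N)) (_ : IsLocalRing D)
      (F : IntermediateField k (ResidueField (Localization.AtPrime q))),
      ((algebraMap Λ (Localization.AtPrime q)).comp ψ.toRingHom).Flat ∧
      (q.comap ψ.toRingHom).map ((algebraMap Λ (Localization.AtPrime q)).comp ψ.toRingHom) =
        maximalIdeal (Localization.AtPrime q) ∧
      ringKrullDim (Localization.AtPrime (q.comap ψ.toRingHom)) =
        ringKrullDim (Localization.AtPrime q) ∧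
      (∀ e ∈ E, cl (k := k) q N e ∈ D) ∧ (∀ f, cl (k := k) q N (ψ f) ∈ D) ∧
      IsArtinianRing D ∧ Module.Flat D (Lb q N) ∧ Algebra.EssFiniteType k D ∧
      (∀ x : D, IsUnit x ↔ IsUnit (x : Lb q N)) ∧
      F.FG ∧ (∀ x ∈ D, rho (k := k) q hN x ∈ F) ∧
      (∀ f ∈ F, ∃ x ∈ D, rho (k := k) q hN x = f) ∧
      ∃ hψF : ∀ f, rho (k := k) q hN (cl (k := k) q N (ψ f)) ∈ F,
        Submodule.span F (Set.range fun f => KaehlerDifferential.D k F
          ⟨rho (k := k) q hN (cl (k := k) q N (ψ f)), hψF f⟩) = ⊤ := by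
  classical
  set S := Localization.AtPrime q with hS
  have hSreg : CAlg.IsGeometricallyRegular k S := isGeometricallyRegular_localization p hreg q
  have hfs : CAlgX.IsAdicFormallySmooth k S (maximalIdeal S) :=
    Groth.Agent.Lib.Helper21.GeomReg.forall_adicFS_of_isGeometricallyRegular k Λ hreg q
  haveI : IsRegularLocalRing S := (Groth.Agent.Lib.Helper21.KDiffSmooth.S2471_aux.mp hfs).1
  obtain ⟨d, hd⟩ := Groth.Agent.Lib.Helper4.RegCM.exists_nat_ringKrullDim S
  obtain ⟨π, hπq, hπgen⟩ := exists_rsop_lift q hd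
  have hH := finite_h1Cotangent_residueField p hSreg
  obtain ⟨D, hloc, F, t, y, hyF, hE, hArt, hflatD, hess, hunit, hFfg, hρD, hFD, hyD, hli, hspan⟩ :=
    exists_D (k := k) p q hN hH (E ∪ Finset.univ.image π)
  -- the first polynomial ring
  set R₀ := MvPolynomial (Fin t) k with hR₀
  let ψ₀ : R₀ →ₐ[k] Λ := aeval y
  have hψ₀X : ∀ i, ψ₀ (X i) = y i := fun i => aeval_X y i
  letI algR₀S : Algebra R₀ S := ((algebraMap Λ S).comp ψ₀.toRingHom).toAlgebra
  have halg₀ : ∀ f : R₀, algebraMap R₀ S f = algebraMap Λ S (ψ₀ f) := fun f => rfl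
  haveI : IsScalarTower k R₀ S := IsScalarTower.of_algebraMap_eq fun c => by
    rw [halg₀, AlgHom.commutes, ← IsScalarTower.algebraMap_apply]
  set p' : Ideal R₀ := Ideal.comap (algebraMap R₀ S) (maximalIdeal S) with hp'
  haveI : p'.IsPrime := Ideal.comap_isPrime _ _
  have hp'q : p' = q.comap ψ₀.toRingHom := by
    ext f
    show algebraMap Λ S (ψ₀ f) ∈ maximalIdeal S ↔ ψ₀ f ∈ q
    rw [IsLocalization.AtPrime.to_map_mem_maximal_iff S q]
  have hφ : ∀ i : Fin t, residue S (algebraMap R₀ S (X i)) ∈ F := by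
    intro i
    rw [halg₀, hψ₀X]
    exact hyF i
  have hb : LinearIndependent F (fun i : Fin t =>
      KaehlerDifferential.D k F ⟨residue S (algebraMap R₀ S (X i)), hφ i⟩) := by
    convert hli using 2 with i
    congr 1
    apply Subtype.ext
    show residue S (algebraMap R₀ S (X i)) = _
    rw [halg₀, hψ₀X]
    rfl
  obtain ⟨hflat₀, hregfib⟩ :=
    Groth.Agent.Lib.Helper14.DiffBasis.main' p k S hfs F t p' rfl hφ hb
  -- the fibre ring and the choice of the further variables
  set B := S ⧸ Ideal.map (algebraMap R₀ S) p' with hB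
  haveI := hregfib
  have hπB : Ideal.span (Set.range fun l => Ideal.Quotient.mk (Ideal.map (algebraMap R₀ S) p')
      (algebraMap Λ S (π l))) = maximalIdeal B := by
    have h1 := IsLocalRing.map_maximalIdeal_of_surjective
      (Ideal.Quotient.mk (Ideal.map (algebraMap R₀ S) p')) Ideal.Quotient.mk_surjective
    rw [← h1, ← hπgen, Ideal.map_span, ← Set.range_comp]
    rfl
  obtain ⟨r, ι, hιgen, hrank⟩ := exists_subfamily_generating _ hπB
  let x : Fin r → Λ := fun j => π (ι j)
  have hxq : ∀ j, x j ∈ q := fun j => hπq _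
  have hp'map : (q.comap ψ₀.toRingHom).map ((algebraMap Λ S).comp ψ₀.toRingHom) =
      Ideal.map (algebraMap R₀ S) p' := by
    rw [hp'q]
    rfl
  have hgen : (q.comap ψ₀.toRingHom).map ((algebraMap Λ S).comp ψ₀.toRingHom) ⊔
      Ideal.span (Set.range fun j => algebraMap Λ S (x j)) = maximalIdeal S := by
    rw [hp'map]
    have h1 : (maximalIdeal B).comap (Ideal.Quotient.mk (Ideal.map (algebraMap R₀ S) p')) =
        maximalIdeal S := by
      have := IsLocalRing.map_maximalIdeal_of_surjective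
        (Ideal.Quotient.mk (Ideal.map (algebraMap R₀ S) p')) Ideal.Quotient.mk_surjective
      rw [← this, Ideal.comap_map_of_surjective _ Ideal.Quotient.mk_surjective,
        ← RingHom.ker_eq_comap_bot, Ideal.mk_ker, sup_eq_left]
      have hle : Ideal.map (algebraMap R₀ S) p' ≤ maximalIdeal S := by
        rw [Ideal.map_le_iff_le_comap]
      exact hle
    rw [← h1, ← hιgen]
    have h2 : (Set.range ((fun l => Ideal.Quotient.mk (Ideal.map (algebraMap R₀ S) p')
        (algebraMap Λ S (π l))) ∘ ι)) =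
        (Ideal.Quotient.mk (Ideal.map (algebraMap R₀ S) p')) ''
          (Set.range fun j => algebraMap Λ S (x j)) := by
      rw [← Set.range_comp]
      rfl
    rw [h2, ← Ideal.map_span, Ideal.comap_map_of_surjective _ Ideal.Quotient.mk_surjective,
      ← RingHom.ker_eq_comap_bot, Ideal.mk_ker, sup_comm]
  have hflat₀' : ((algebraMap Λ S).comp ψ₀.toRingHom).Flat := hflat₀
  have hdimB : ringKrullDim B = r := by
    have h1 : ((maximalIdeal B).spanFinrank : WithBot ℕ∞) = ringKrullDim B :=
      IsRegularLocalRing.spanFinrank_maximalIdeal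
    rw [← h1, hrank]
  have hr : ringKrullDim S = ringKrullDim (Localization.AtPrime (q.comap ψ₀.toRingHom)) + r := by
    rw [dim_formula q ψ₀.toRingHom hflat₀']
    congr 1
    rw [← hdimB]
    exact ringKrullDim_eq_of_ringEquiv (Ideal.quotEquivOfEq hp'map)
  obtain ⟨hflat, hmap, hdimeq⟩ := flat_extend q ψ₀.toRingHom r x hxq hgen hr
  -- the algebra map
  let ψ : MvPolynomial (Fin r) R₀ →ₐ[k] Λ :=
    { toRingHom := eval₂Hom ψ₀.toRingHom x
      commutes' := fun c => by
        show eval₂Hom ψ₀.toRingHom x (C (algebraMap k R₀ c)) = algebraMap k Λ c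
        rw [eval₂Hom_C]
        exact ψ₀.commutes c }
  have hψC : ∀ f₀ : R₀, ψ (C f₀) = ψ₀ f₀ := fun f₀ => eval₂Hom_C _ _ _
  have hψX : ∀ j, ψ (X j) = x j := fun j => eval₂Hom_X' _ _ _
  -- the image of `P` lies in `D`
  have hψ₀D : ∀ f₀ : R₀, cl (k := k) q N (ψ₀ f₀) ∈ D := by
    intro f₀
    induction f₀ using MvPolynomial.induction_on with
    | C c =>
      rw [← MvPolynomial.algebraMap_eq, AlgHom.commutes, AlgHom.commutes]
      exact D.algebraMap_mem c
    | add f g hf hg =>
      rw [map_add, map_add]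
      exact D.add_mem hf hg
    | mul_X f i hf =>
      rw [map_mul, map_mul, hψ₀X]
      exact D.mul_mem hf (hyD i)
  have hψD : ∀ f, cl (k := k) q N (ψ f) ∈ D := by
    intro f
    induction f using MvPolynomial.induction_on with
    | C f₀ =>
      rw [hψC]
      exact hψ₀D f₀
    | add f g hf hg =>
      rw [map_add, map_add]
      exact D.add_mem hf hg
    | mul_X f j hf =>
      rw [map_mul, map_mul, hψX]
      refine D.mul_mem hf (hE _ ?_)
      exact Finset.mem_union_right _ (Finset.mem_image_of_mem _ (Finset.mem_univ _))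
  have hψF : ∀ f, rho (k := k) q hN (cl (k := k) q N (ψ f)) ∈ F := fun f => hρD _ (hψD f)
  refine ⟨t, r, ψ, D, hloc, F, hflat, hmap, hdimeq, ?_, hψD, hArt, hflatD, hess, hunit, hFfg, hρD, hFD,
    hψF, ?_⟩
  · intro e he
    exact hE e (Finset.mem_union_left _ he)
  · rw [eq_top_iff, ← hspan]
    apply Submodule.span_mono
    rintro _ ⟨i, rfl⟩
    refine ⟨C (X i), ?_⟩
    show KaehlerDifferential.D k F ⟨rho (k := k) q hN (cl (k := k) q N (ψ (C (X i)))), _⟩ = _
    congr 1
    apply Subtype.ext
    show rho (k := k) q hN (cl (k := k) q N (ψ (C (X i)))) = _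
    rw [hψC, hψ₀X]

end Groth.Agent.Lib.Helper18.DR.Pc
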