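import Mathlib
import Groth.Prelude.Def_Smoothing
import Groth.Agent.Lib.Helper27.DvrC
import Groth.Agent.Lib.Helper14.ComplEtale

/-!
# Lemma L, part (4): the subalgebra `D` is ind-smooth over `P_p / p^N P_p` (helper18)
-/

set_option autoImplicit false
set_option linter.style.haveILetI false
universe u

namespace Groth.Agent.Lib.Helper18.DR.Pc

open IsLocalRing TensorProduct

/-- flat base change to quotients -/
theorem flat_quot {A S : Type*} [CommRing A] [CommRing S] [Algebra A S] [Module.Flat A S]
    (I : Ideal A) (J : Ideal S) (hIJ : I.map (algebraMap A S) = J)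
    (φ : (A ⧸ I) →+* (S ⧸ J))
    (hφ : ∀ a, φ (Ideal.Quotient.mk I a) = Ideal.Quotient.mk J (algebraMap A S a)) :
    @Module.Flat (A ⧸ I) (S ⧸ J) _ _ φ.toAlgebra.toModule := by
  subst hIJ
  have h : φ.toAlgebra = (inferInstance : Algebra (A ⧸ I) (S ⧸ I.map (algebraMap A S))) := by
    refine Algebra.algebra_ext _ _ (fun r => ?_)
    obtain ⟨a, rfl⟩ := Ideal.Quotient.mk_surjective r
    exact hφ a
  rw [h]
  exact Module.Flat.of_linearEquiv
    (Algebra.TensorProduct.quotIdealMapEquivQuotTensor S I).toLinearEquiv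

/-- a formally unramified, essentially finite type field extension is geometrically reduced -/
theorem isGeometricallyReduced_of_unramified (κ F : Type u) [Field κ] [Field F] [Algebra κ F]
    [Algebra.EssFiniteType κ F] [Algebra.FormallyUnramified κ F] :
    Algebra.IsGeometricallyReduced κ F := by
  rw [Algebra.isGeometricallyReduced_field_iff]
  exact Algebra.FormallyUnramified.isReduced_of_field (AlgebraicClosure κ) _

set_option maxHeartbeats 1600000 in
theorem indSmooth_D {k A S : Type u} [Field k] [CommRing A] [CommRing S] [Algebra k A]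
    [Algebra k S] [Algebra A S] [IsScalarTower k A S] [IsLocalRing A] [IsLocalRing S]
    [Module.Flat A S]
    (hmS : (maximalIdeal A).map (algebraMap A S) = maximalIdeal S) {N : ℕ} (hN : 0 < N)
    (ρ : (S ⧸ maximalIdeal S ^ N) →ₐ[k] ResidueField S)
    (hρ : ∀ s, ρ (Ideal.Quotient.mk _ s) = residue S s)
    (D : Subalgebra k (S ⧸ maximalIdeal S ^ N)) [IsLocalRing D]
    [Module.Flat D (S ⧸ maximalIdeal S ^ N)]
    (hunit : ∀ x : D, IsUnit x ↔ IsUnit (x : S ⧸ maximalIdeal S ^ N))
    (hAD : ∀ a : A, Ideal.Quotient.mk (maximalIdeal S ^ N) (algebraMap A S a) ∈ D)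
    (F : IntermediateField k (ResidueField S)) (hFfg : F.FG)
    (hρD : ∀ x ∈ D, ρ x ∈ F) (hFD : ∀ f ∈ F, ∃ x ∈ D, ρ x = f)
    {ι : Type*} (g : ι → A)
    (hspan : Submodule.span F (Set.range fun i : ι => KaehlerDifferential.D k F
      ⟨ρ (Ideal.Quotient.mk _ (algebraMap A S (g i))), hρD _ (hAD (g i))⟩) = ⊤) :
    ∃ θ : (A ⧸ maximalIdeal A ^ N) →+* D,
      (∀ a, (θ (Ideal.Quotient.mk _ a) : S ⧸ maximalIdeal S ^ N) =
        Ideal.Quotient.mk _ (algebraMap A S a)) ∧
      @Smoothing.IndSmooth (A ⧸ maximalIdeal A ^ N) _ D _ θ.toAlgebra := by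
  classical
  set Lb := S ⧸ maximalIdeal S ^ N with hLb
  set Pn := A ⧸ maximalIdeal A ^ N with hPn
  have hN0 : N ≠ 0 := Nat.pos_iff_ne_zero.mp hN
  -- the map `θ`
  let θ₀ : A →+* D := RingHom.codRestrict
    ((Ideal.Quotient.mk (maximalIdeal S ^ N)).comp (algebraMap A S)) D hAD
  have hθ₀ : ∀ a, (θ₀ a : Lb) = Ideal.Quotient.mk _ (algebraMap A S a) := fun a => rfl
  have hpow : (maximalIdeal A ^ N).map (algebraMap A S) = maximalIdeal S ^ N := by
    rw [Ideal.map_pow, hmS]
  have hkill : ∀ a ∈ maximalIdeal A ^ N, θ₀ a = 0 := by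
    intro a ha
    apply Subtype.ext
    rw [hθ₀]
    show _ = (0 : Lb)
    rw [Ideal.Quotient.eq_zero_iff_mem, ← hpow]
    exact Ideal.mem_map_of_mem _ ha
  let θ : Pn →+* D := Ideal.Quotient.lift (maximalIdeal A ^ N) θ₀ hkill
  have hθ : ∀ a, θ (Ideal.Quotient.mk _ a) = θ₀ a := fun a => rfl
  refine ⟨θ, fun a => rfl, ?_⟩
  letI algPnD : Algebra Pn D := θ.toAlgebra
  let φL : Pn →+* Lb := (D.val.toRingHom).comp θ
  letI algPnLb : Algebra Pn Lb := φL.toAlgebra
  haveI : IsScalarTower Pn D Lb := IsScalarTower.of_algebraMap_eq fun _ => rfl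
  -- flatness
  haveI hflatLb : Module.Flat Pn Lb :=
    flat_quot (maximalIdeal A ^ N) (maximalIdeal S ^ N) hpow φL (fun a => rfl)
  haveI : Nontrivial Lb := by
    apply Ideal.Quotient.nontrivial_iff.mpr
    intro h
    have : maximalIdeal S ^ N ≤ maximalIdeal S := Ideal.pow_le_self hN0
    rw [h, top_le_iff] at this
    exact (maximalIdeal.isMaximal _).ne_top this
  haveI : IsLocalRing Lb :=
    IsLocalRing.of_surjective' (Ideal.Quotient.mk _) Ideal.Quotient.mk_surjective
  haveI : IsLocalHom (algebraMap D Lb) := ⟨fun x hx => (hunit x).mpr hx⟩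
  haveI : Module.FaithfullyFlat D Lb := Module.FaithfullyFlat.of_flat_of_isLocalHom
  haveI : Module.Flat Pn D :=
    Groth.Agent.Lib.Helper14.ComplEtale.flat_of_faithfullyFlat_of_flat Pn D Lb
  -- the residue maps
  let p₀ : Pn →+* ResidueField A := Ideal.Quotient.lift (maximalIdeal A ^ N) (residue A)
    (fun a ha => (residue_eq_zero_iff a).mpr (Ideal.pow_le_self hN0 ha))
  have hp₀ : ∀ a, p₀ (Ideal.Quotient.mk _ a) = residue A a := fun a => rfl
  let q₀ : D →+* F := RingHom.codRestrict (ρ.toRingHom.comp D.val.toRingHom) F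
    (fun x => hρD x.1 x.2)
  have hq₀ : ∀ x : D, (q₀ x : ResidueField S) = ρ x := fun x => rfl
  have hp₀s : Function.Surjective p₀ := by
    intro c
    obtain ⟨a, rfl⟩ := residue_surjective c
    exact ⟨Ideal.Quotient.mk _ a, rfl⟩
  have hq₀s : Function.Surjective q₀ := by
    intro f
    obtain ⟨x, hx, hxf⟩ := hFD f.1 f.2
    exact ⟨⟨x, hx⟩, Subtype.ext hxf⟩
  -- the residue field extension
  let φ₀ : A →+* F := q₀.comp θ₀
  have hφ₀ : ∀ a, (φ₀ a : ResidueField S) = residue S (algebraMap A S a) := by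
    intro a
    show ρ (Ideal.Quotient.mk _ (algebraMap A S a)) = _
    rw [hρ]
  have hmem : ∀ a : A, algebraMap A S a ∈ maximalIdeal S ↔ a ∈ maximalIdeal A := by
    intro a
    constructor
    · intro h
      by_contra hc
      have hu : IsUnit a := by
        by_contra hu
        exact hc ((mem_maximalIdeal a).mpr hu)
      exact (mem_maximalIdeal _).mp h (hu.map _)
    · intro h
      rw [← hmS]
      exact Ideal.mem_map_of_mem _ h
  haveI : IsLocalHom φ₀ := by
    refine ⟨fun a ha => ?_⟩
    by_contra hu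
    have h1 : a ∈ maximalIdeal A := (mem_maximalIdeal a).mpr hu
    have h2 : (φ₀ a : ResidueField S) = 0 := by
      rw [hφ₀, residue_eq_zero_iff, hmem]
      exact h1
    have h3 : φ₀ a = 0 := Subtype.ext h2
    rw [h3] at ha
    exact not_isUnit_zero ha
  letI algκF : Algebra (ResidueField A) F := (ResidueField.lift φ₀).toAlgebra
  have halgκF : ∀ a, algebraMap (ResidueField A) F (residue A a) = φ₀ a :=
    fun a => ResidueField.lift_residue_apply φ₀ a
  have hcomm : ∀ r, q₀ (algebraMap Pn D r) = algebraMap (ResidueField A) F (p₀ r) := by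
    intro r
    obtain ⟨a, rfl⟩ := Ideal.Quotient.mk_surjective r
    rw [hp₀, halgκF]
    rfl
  -- nilpotence
  have hkerp : RingHom.ker p₀ = (maximalIdeal A).map (Ideal.Quotient.mk (maximalIdeal A ^ N)) := by
    apply le_antisymm
    · intro x hx
      obtain ⟨a, rfl⟩ := Ideal.Quotient.mk_surjective x
      rw [RingHom.mem_ker, hp₀, residue_eq_zero_iff] at hx
      exact Ideal.mem_map_of_mem _ hx
    · rw [Ideal.map_le_iff_le_comap]
      intro a ha
      rw [Ideal.mem_comap, RingHom.mem_ker, hp₀, residue_eq_zero_iff]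
      exact ha
  have hnil : IsNilpotent (RingHom.ker p₀) := by
    refine ⟨N, ?_⟩
    rw [hkerp, ← Ideal.map_pow, Ideal.zero_eq_bot, Ideal.map_quotient_self]
  -- the kernel of `q₀`
  have hker : RingHom.ker q₀ = (RingHom.ker p₀).map (algebraMap Pn D) := by
    apply le_antisymm
    · intro x hx
      rw [← Ideal.comap_map_eq_self_of_faithfullyFlat (B := Lb)
        ((RingHom.ker p₀).map (algebraMap Pn D)), Ideal.mem_comap, Ideal.map_map, hkerp,
        Ideal.map_map]
      have hx' : ρ (x : Lb) = 0 := by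
        have := congrArg (Subtype.val) (RingHom.mem_ker.mp hx)
        exact this
      obtain ⟨s, hs⟩ := Ideal.Quotient.mk_surjective (x : Lb)
      have hs' : s ∈ maximalIdeal S := by
        rw [← residue_eq_zero_iff, ← hρ, hs]
        exact hx'
      rw [← hmS] at hs'
      have h1 : Ideal.Quotient.mk (maximalIdeal S ^ N) s ∈
          ((maximalIdeal A).map (algebraMap A S)).map (Ideal.Quotient.mk (maximalIdeal S ^ N)) :=
        Ideal.mem_map_of_mem _ hs'
      rw [Ideal.map_map] at h1
      show algebraMap D Lb x ∈ _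
      have h2 : algebraMap D Lb x = Ideal.Quotient.mk (maximalIdeal S ^ N) s := hs.symm
      rw [h2]
      have hhom : ((algebraMap D Lb).comp (algebraMap Pn D)).comp
          (Ideal.Quotient.mk (maximalIdeal A ^ N)) =
          (Ideal.Quotient.mk (maximalIdeal S ^ N)).comp (algebraMap A S) :=
        RingHom.ext fun a => rfl
      rw [hhom]
      exact h1
    · rw [Ideal.map_le_iff_le_comap]
      intro r hr
      rw [Ideal.mem_comap, RingHom.mem_ker, hcomm, RingHom.mem_ker.mp hr, map_zero]
  -- separability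
  haveI : IsScalarTower k (ResidueField A) F := IsScalarTower.of_algebraMap_eq fun c => by
    apply Subtype.ext
    show algebraMap k (ResidueField S) c = _
    have h1 : algebraMap k (ResidueField A) c = residue A (algebraMap k A c) := rfl
    rw [h1, halgκF, hφ₀, ← IsScalarTower.algebraMap_apply k A S]
    rfl
  haveI : Algebra.EssFiniteType k F := IntermediateField.essFiniteType_iff.mpr hFfg
  haveI : Algebra.EssFiniteType (ResidueField A) F :=
    Algebra.EssFiniteType.of_comp k (ResidueField A) F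
  haveI : Algebra.FormallyUnramified (ResidueField A) F := by
    refine ⟨?_⟩
    have hsurj := KaehlerDifferential.map_surjective k (ResidueField A) F
    have htop : (⊤ : Submodule F (Ω[F⁄ResidueField A])) = ⊥ := by
      rw [← LinearMap.range_eq_top.mpr hsurj, LinearMap.range_eq_map, ← hspan,
        Submodule.map_span, Submodule.span_eq_bot]
      rintro _ ⟨_, ⟨i, rfl⟩, rfl⟩
      rw [KaehlerDifferential.map_D]
      have h1 : (algebraMap F F) ⟨ρ (Ideal.Quotient.mk _ (algebraMap A S (g i))),
          hρD _ (hAD (g i))⟩ = algebraMap (ResidueField A) F (residue A (g i)) := by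
        rw [halgκF]
        rfl
      rw [h1]
      exact (KaehlerDifferential.D (ResidueField A) F).map_algebraMap _
    exact (Submodule.subsingleton_iff _).mp (subsingleton_of_bot_eq_top htop.symm)
  haveI : Algebra.IsGeometricallyReduced (ResidueField A) F :=
    isGeometricallyReduced_of_unramified _ _
  exact Groth.Agent.Lib.Helper27.DvrC.indSmooth_of_residue p₀ q₀ hp₀s hq₀s hcomm hnil hker

end Groth.Agent.Lib.Helper18.DR.Pc
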