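import Mathlib
import Groth.Agent.Lib.Helper18.PcD
import Groth.Agent.Lib.Helper18.PcG2
import Groth.Agent.Lib.Helper18.PcI

/-!
# Lemma L, part (4) for a general source ring `P` (helper18)
-/

set_option autoImplicit false
set_option linter.style.haveILetI false
universe u

namespace Groth.Agent.Lib.Helper18.DR.Pc

open IntermediateField IsLocalRing TensorProduct

/-- the Artinian quotient `P_pp / pp^N P_pp` -/
abbrev PnQ {P : Type u} [CommRing P] (pp : Ideal P) [pp.IsPrime] (N : ℕ) : Type u :=
  Localization.AtPrime pp ⧸ maximalIdeal (Localization.AtPrime pp) ^ N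

/-- the canonical map `P → P_pp / pp^N P_pp` -/
noncomputable def toPnQ {P : Type u} [CommRing P] (pp : Ideal P) [pp.IsPrime] (N : ℕ) :
    P →+* PnQ pp N :=
  (Ideal.Quotient.mk _).comp (algebraMap P (Localization.AtPrime pp))

theorem toPnQ_apply {P : Type u} [CommRing P] (pp : Ideal P) [pp.IsPrime] (N : ℕ) (f : P) :
    toPnQ pp N f = Ideal.Quotient.mk _ (algebraMap P (Localization.AtPrime pp) f) := rfl

/-- equality of dimensions for a flat map with `pp Λ_q = q Λ_q` -/
theorem dim_eq_of_flat_of_map {P Λ : Type u} [CommRing P] [IsNoetherianRing P] [CommRing Λ]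
    [IsNoetherianRing Λ] (q : Ideal Λ) [q.IsPrime] (ψ : P →+* Λ)
    (hflat : ((algebraMap Λ (Localization.AtPrime q)).comp ψ).Flat)
    (hmap : (q.comap ψ).map ((algebraMap Λ (Localization.AtPrime q)).comp ψ) =
      maximalIdeal (Localization.AtPrime q)) :
    ringKrullDim (Localization.AtPrime (q.comap ψ)) = ringKrullDim (Localization.AtPrime q) := by
  have h1 := dim_formula q ψ hflat
  have h2 : ringKrullDim (Localization.AtPrime q ⧸
      (q.comap ψ).map ((algebraMap Λ (Localization.AtPrime q)).comp ψ)) = 0 := by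
    have hfield : IsField (Localization.AtPrime q ⧸
        (q.comap ψ).map ((algebraMap Λ (Localization.AtPrime q)).comp ψ)) := by
      rw [hmap]
      exact (Ideal.Quotient.maximal_ideal_iff_isField_quotient _).mp
        (maximalIdeal.isMaximal (Localization.AtPrime q))
    letI := hfield.toField
    exact ringKrullDim_eq_zero_of_field _
  rw [h1, h2, add_zero]

set_option maxHeartbeats 1600000 in
theorem lemmaL_aux {k Λ P : Type u} [Field k] [CommRing Λ] [Algebra k Λ] [CommRing P]
    [Algebra k P] (q : Ideal Λ) [q.IsPrime] {N : ℕ} (hN : 0 < N) (ψ : P →ₐ[k] Λ)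
    (D : Subalgebra k (Lb q N)) [IsLocalRing D] [Module.Flat D (Lb q N)]
    (F : IntermediateField k (ResidueField (Localization.AtPrime q)))
    (hflat : ((algebraMap Λ (Localization.AtPrime q)).comp ψ.toRingHom).Flat)
    (hmap : (q.comap ψ.toRingHom).map ((algebraMap Λ (Localization.AtPrime q)).comp ψ.toRingHom) =
      maximalIdeal (Localization.AtPrime q))
    (hψD : ∀ f, cl (k := k) q N (ψ f) ∈ D)
    (hunit : ∀ x : D, IsUnit x ↔ IsUnit (x : Lb q N))
    (hFfg : F.FG) (hρD : ∀ x ∈ D, rho (k := k) q hN x ∈ F)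
    (hFD : ∀ f ∈ F, ∃ x ∈ D, rho (k := k) q hN x = f)
    (hspan : Submodule.span F (Set.range fun f => KaehlerDifferential.D k F
      ⟨rho (k := k) q hN (cl (k := k) q N (ψ f)), hρD _ (hψD f)⟩) = ⊤) :
    ∃ θ : PnQ (q.comap ψ.toRingHom) N →+* D,
      (∀ f, (θ (toPnQ (q.comap ψ.toRingHom) N f) : Lb q N) = cl (k := k) q N (ψ f)) ∧
      @Smoothing.IndSmooth _ _ D _ θ.toAlgebra := by
  classical
  set S := Localization.AtPrime q with hS
  set pp : Ideal P := q.comap ψ.toRingHom with hpp
  set A := Localization.AtPrime pp with hA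
  let χ : A →+* S := Localization.localRingHom pp q ψ.toRingHom rfl
  letI algAS : Algebra A S := χ.toAlgebra
  have hAS : ∀ f : P, algebraMap A S (algebraMap P A f) = algebraMap Λ S (ψ f) :=
    fun f => Localization.localRingHom_to_map pp q ψ.toRingHom rfl f
  letI algPS : Algebra P S := ((algebraMap Λ S).comp ψ.toRingHom).toAlgebra
  haveI : IsScalarTower P A S := IsScalarTower.of_algebraMap_eq fun f => (hAS f).symm
  haveI : IsScalarTower k A S := IsScalarTower.of_algebraMap_eq fun c => by
    rw [IsScalarTower.algebraMap_apply k P A, hAS, AlgHom.commutes,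
      ← IsScalarTower.algebraMap_apply]
  haveI hPS : Module.Flat P S := hflat
  haveI : Module.Flat A S := (Module.flat_iff_of_isLocalization A pp.primeCompl S).mpr hPS
  have hmS : (maximalIdeal A).map (algebraMap A S) = maximalIdeal S := by
    rw [← Localization.AtPrime.map_eq_maximalIdeal (I := pp), Ideal.map_map, ← hmap]
    congr 1
    exact RingHom.ext fun f => hAS f
  have hAD : ∀ a : A, Ideal.Quotient.mk (maximalIdeal S ^ N) (algebraMap A S a) ∈ D := by
    intro a
    obtain ⟨⟨x, s⟩, hxs⟩ := IsLocalization.surj pp.primeCompl a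
    have h1 : Ideal.Quotient.mk (maximalIdeal S ^ N) (algebraMap A S a) *
        cl (k := k) q N (ψ s) = cl (k := k) q N (ψ x) := by
      rw [cl_apply, cl_apply, ← hAS, ← hAS, ← map_mul, ← map_mul, hxs]
    have hsq : ψ (s : P) ∉ q := s.2
    have hu : IsUnit (cl (k := k) q N (ψ s)) := by
      rw [cl_apply]
      exact (IsLocalization.map_units S (⟨ψ s, hsq⟩ : q.primeCompl)).map _
    have hu' : IsUnit (⟨cl (k := k) q N (ψ s), hψD s⟩ : D) := (hunit _).mpr hu
    obtain ⟨v, hv⟩ := hu'.exists_right_inv
    have hv' : cl (k := k) q N (ψ s) * (v : Lb q N) = 1 := congrArg Subtype.val hv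
    have h2 : Ideal.Quotient.mk (maximalIdeal S ^ N) (algebraMap A S a) =
        cl (k := k) q N (ψ x) * (v : Lb q N) := by
      rw [← h1, mul_assoc, hv', mul_one]
    rw [h2]
    exact D.mul_mem (hψD x) v.2
  have hspan' : Submodule.span F (Set.range fun f : P => KaehlerDifferential.D k F
      ⟨rho (k := k) q hN (Ideal.Quotient.mk _ (algebraMap A S (algebraMap P A f))),
        hρD _ (hAD (algebraMap P A f))⟩) = ⊤ := by
    rw [← hspan]
    congr 2
    funext f
    congr 1
    apply Subtype.ext
    show rho (k := k) q hN (Ideal.Quotient.mk _ (algebraMap A S (algebraMap P A f))) =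
      rho (k := k) q hN (cl (k := k) q N (ψ f))
    rw [hAS]
    rfl
  obtain ⟨θ, hθ, hind⟩ := indSmooth_D (k := k) (A := A) (S := S) hmS hN (rho (k := k) q hN)
    (fun s => rfl) D hunit hAD F hFfg hρD hFD (fun f : P => algebraMap P A f) hspan'
  refine ⟨θ, ?_, hind⟩
  intro f
  rw [toPnQ_apply, hθ, hAS]
  rfl

end Groth.Agent.Lib.Helper18.DR.Pc
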