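import Mathlib
import Groth.Agent.Lib.Helper18.PcH
import Groth.Agent.Lib.Helper18.PcJ

/-!
# Lemma L (Stacks 16.11.2-type local lemma), final form (helper18)

`k` a field of characteristic `p`, `Λ` a Noetherian geometrically regular `k`-algebra, `q` a prime
of `Λ`, `N > 0`, `E` a finite subset of `Λ`.  Then there are a polynomial ring `P` over `k`
(given as an abstract `k`-algebra with an isomorphism to some `k[X_1..X_m]`, so that no instance
diamonds can arise downstream) and a `k`-algebra map `ψ : P → Λ` with `pp = ψ⁻¹ q` such that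
`P → Λ_q` is flat, `pp Λ_q = q Λ_q`, `dim P_pp = dim Λ_q`, and a local Artinian `k`-subalgebra
`D ⊆ Λ_q / q^N Λ_q` over which the latter is flat, which contains the classes of `E` and of `ψ(P)`,
and which is ind-smooth over `P_pp / pp^N P_pp`.
-/

set_option autoImplicit false
set_option linter.style.haveILetI false
universe u

namespace Groth.Agent.Lib.Helper18.DR.Pc

open IntermediateField IsLocalRing TensorProduct MvPolynomial

set_option maxHeartbeats 1600000 in
theorem lemmaL {k Λ : Type u} [Field k] (p : ℕ) [Fact p.Prime] [CharP k p] [CommRing Λ]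
    [Algebra k Λ] [IsNoetherianRing Λ] (hreg : CAlg.IsGeometricallyRegular k Λ)
    (q : Ideal Λ) [q.IsPrime] {N : ℕ} (hN : 0 < N) (E : Finset Λ) :
    ∃ (P : Type u) (_ : CommRing P) (_ : Algebra k P) (_ : IsDomain P) (_ : IsNoetherianRing P)
      (_ : IsRegularRing P) (_ : Algebra.Smooth k P) (m : ℕ)
      (_ : P ≃ₐ[k] MvPolynomial (Fin m) k)
      (ψ : P →ₐ[k] Λ) (D : Subalgebra k (Lb q N)) (_ : IsLocalRing D),
      ((algebraMap Λ (Localization.AtPrime q)).comp ψ.toRingHom).Flat ∧
      (q.comap ψ.toRingHom).map ((algebraMap Λ (Localization.AtPrime q)).comp ψ.toRingHom) =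
        maximalIdeal (Localization.AtPrime q) ∧
      ringKrullDim (Localization.AtPrime (q.comap ψ.toRingHom)) =
        ringKrullDim (Localization.AtPrime q) ∧
      (∀ e ∈ E, cl (k := k) q N e ∈ D) ∧ (∀ f, cl (k := k) q N (ψ f) ∈ D) ∧
      IsArtinianRing D ∧ Module.Flat D (Lb q N) ∧ Algebra.EssFiniteType k D ∧
      (∀ x : D, IsUnit x ↔ IsUnit (x : Lb q N)) ∧
      ∃ θ : PnQ (q.comap ψ.toRingHom) N →+* D,
        (∀ f, (θ (toPnQ (q.comap ψ.toRingHom) N f) : Lb q N) = cl (k := k) q N (ψ f)) ∧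
        @Smoothing.IndSmooth _ _ D _ θ.toAlgebra := by
  classical
  obtain ⟨t, r, ψ, D, hloc, F, hflat, hmap, -, hE, hψD, hArt, hflatD, hess, hunit, hFfg, hρD,
    hFD, hψF, hspan⟩ := lemmaL_geom p hreg q hN E
  let e : MvPolynomial (Fin r) (MvPolynomial (Fin t) k) ≃ₐ[k] MvPolynomial (Fin (r + t)) k :=
    (MvPolynomial.sumAlgEquiv k (Fin r) (Fin t)).symm.trans
      (MvPolynomial.renameEquiv k finSumFinEquiv)
  haveI : Algebra.Smooth k (MvPolynomial (Fin (r + t)) k) := {}
  have hsm : Algebra.Smooth k (MvPolynomial (Fin r) (MvPolynomial (Fin t) k)) :=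
    Algebra.Smooth.of_equiv e.symm
  haveI := hloc
  haveI := hflatD
  refine ⟨MvPolynomial (Fin r) (MvPolynomial (Fin t) k), inferInstance, inferInstance,
    inferInstance, inferInstance, inferInstance, hsm, r + t, e, ψ, D, hloc, hflat, hmap,
    dim_eq_of_flat_of_map q ψ.toRingHom hflat hmap, hE, hψD, hArt, hflatD, hess, hunit,
    lemmaL_aux q hN ψ D F hflat hmap hψD hunit hFfg hρD hFD hspan⟩

end Groth.Agent.Lib.Helper18.DR.Pc
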