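import Mathlib
import Groth.Prelude.Def_Smoothing
import Groth.Agent.Lib.Helper27.HfpSmooth
import Groth.Agent.Lib.Helper3.HenselPair

/-!
# Approximation for Henselian pairs from ind-smoothness of the completion (helper18)
-/

set_option autoImplicit false
set_option linter.style.haveILetI false
universe u

namespace Groth.Agent.Lib.Helper18.DR.Pop

open MvPolynomial

/-- Kernel of `evalₐ` in terms of the extended ideal. -/
theorem mem_map_pow_of_evalₐ_eq_zero {A : Type u} [CommRing A] (I : Ideal A) (hI : I.FG) (N : ℕ)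
    (x : AdicCompletion I A) (hx : AdicCompletion.evalₐ I N x = 0) :
    x ∈ (I ^ N).map (algebraMap A (AdicCompletion I A)) := by
  have h1 : AdicCompletion.eval I A N x = 0 := by
    rw [← AdicCompletion.factor_evalₐ_eq_eval I x (by simp), hx, map_zero]
  have h2 : x ∈ (I ^ N • ⊤ : Submodule A (AdicCompletion I A)) := by
    rw [AdicCompletion.pow_smul_top_eq_ker_eval hI]
    exact h1
  have h3 : (I ^ N • ⊤ : Submodule A (AdicCompletion I A)) ≤
      ((I ^ N).map (algebraMap A (AdicCompletion I A))).restrictScalars A := by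
    rw [Submodule.smul_le]
    intro r hr y _
    show r • y ∈ (I ^ N).map (algebraMap A (AdicCompletion I A))
    rw [Algebra.smul_def]
    exact Ideal.mul_mem_right _ _ (Ideal.mem_map_of_mem _ hr)
  exact h3 h2

theorem approx_of_indSmooth (A : Type u) [CommRing A] [IsNoetherianRing A]
    (I : Ideal A) [HenselianRing A I] (hP : Smoothing.IndSmooth A (AdicCompletion I A)) (n m : ℕ)
    (F : Fin m → MvPolynomial (Fin n) A) (a : Fin n → (AdicCompletion I A))
    (ha : ∀ j, MvPolynomial.eval a
      (MvPolynomial.map (algebraMap A (AdicCompletion I A)) (F j)) = 0) (N : ℕ) :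
    ∃ b : Fin n → A, (∀ j, MvPolynomial.eval b (F j) = 0) ∧
      ∀ i, a i - algebraMap A (AdicCompletion I A) (b i) ∈
        (I ^ N).map (algebraMap A (AdicCompletion I A)) := by
  wlog hN : 1 ≤ N generalizing N
  · obtain ⟨b, hb, -⟩ := this 1 le_rfl
    refine ⟨b, hb, fun i => ?_⟩
    have : N = 0 := by omega
    subst this
    simp [Ideal.map_top]
  -- the finitely presented algebra
  let J : Ideal (MvPolynomial (Fin n) A) := Ideal.span (Set.range F)
  let C := MvPolynomial (Fin n) A ⧸ J
  haveI : Algebra.FinitePresentation A C :=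
    Algebra.FinitePresentation.quotient (Submodule.fg_span (Set.finite_range F))
  have hJ : ∀ p ∈ J, (MvPolynomial.aeval a : MvPolynomial (Fin n) A →ₐ[A] _) p = 0 := by
    intro p hp
    have : J ≤ RingHom.ker (MvPolynomial.aeval a : MvPolynomial (Fin n) A →ₐ[A] _).toRingHom := by
      rw [Ideal.span_le]
      rintro _ ⟨j, rfl⟩
      have := ha j
      rw [MvPolynomial.eval_map] at this
      exact this
    exact this hp
  let f : C →ₐ[A] AdicCompletion I A := Ideal.Quotient.liftₐ J (MvPolynomial.aeval a) hJ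
  obtain ⟨B, _, _, hB, g, h, hgh⟩ := hP C inferInstance f
  haveI := hB
  let σ' : B →ₐ[A] A ⧸ I ^ N := (AdicCompletion.evalₐ I N).comp h
  haveI : HenselianRing A (I ^ N) :=
    Groth.Agent.Lib.Helper3.henselianRing_of_le inferInstance
      (Ideal.pow_le_self (by omega))
  obtain ⟨φ₀, hφ₀⟩ :=
    Groth.Agent.Lib.Helper27.HfpSmooth.exists_algHom_lift_quot_smooth (A := A) (E := B) A (I ^ N) σ'
  let ψ : MvPolynomial (Fin n) A →ₐ[A] A := (φ₀.comp g).comp (Ideal.Quotient.mkₐ A J)
  let b : Fin n → A := fun i => ψ (X i)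
  have hψ : ψ = MvPolynomial.aeval b := MvPolynomial.aeval_unique ψ
  refine ⟨b, fun j => ?_, fun i => ?_⟩
  · have : ψ (F j) = 0 := by
      show φ₀ (g (Ideal.Quotient.mk J (F j))) = 0
      have h0 : Ideal.Quotient.mk J (F j) = 0 :=
        Ideal.Quotient.eq_zero_iff_mem.mpr (Ideal.subset_span (Set.mem_range_self j))
      rw [h0, map_zero, map_zero]
    rw [hψ] at this
    rw [← this, MvPolynomial.aeval_def, MvPolynomial.eval₂_eq_eval_map]
    simp
  · apply mem_map_pow_of_evalₐ_eq_zero I (IsNoetherian.noetherian I) N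
    rw [map_sub, sub_eq_zero]
    have h1 : a i = h (g (Ideal.Quotient.mk J (X i))) := by
      have := DFunLike.congr_fun hgh (Ideal.Quotient.mk J (X i))
      rw [AlgHom.comp_apply] at this
      rw [this]
      show a i = Ideal.Quotient.liftₐ J (MvPolynomial.aeval a) hJ (Ideal.Quotient.mk J (X i))
      rw [Ideal.Quotient.liftₐ_apply, Ideal.Quotient.lift_mk]
      simp
    rw [h1]
    have h2 := hφ₀ (g (Ideal.Quotient.mk J (X i)))
    show AdicCompletion.evalₐ I N (h (g (Ideal.Quotient.mk J (X i)))) =
      AdicCompletion.evalₐ I N (algebraMap A _ (φ₀ (g (Ideal.Quotient.mk J (X i)))))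
    rw [AlgHom.commutes]
    exact h2.symm

end Groth.Agent.Lib.Helper18.DR.Pop
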