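import Mathlib
import Groth.Agent.Lib.Helper1.FibreInj

/-!
# Lifting regular sequences from the closed fibre; Ext vanishing below a regular sequence
(helper18)
-/

set_option autoImplicit false
set_option linter.style.haveILetI false
universe u

open IsLocalRing RingTheory.Sequence TensorProduct CategoryTheory Abelian Limits

namespace Groth.Agent.Lib.Helper18.Fd

section ext

variable {B : Type u} [CommRing B]

/-- `Ext^i(N, M) = 0` for `i` smaller than the length of an `M`-regular sequence contained in
the annihilator of `N` -/
theorem subsingleton_ext_of_isWeaklyRegular (N : ModuleCat.{u} B) :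
    ∀ (rs : List B) (M : ModuleCat.{u} B), (∀ r ∈ rs, r ∈ Module.annihilator B N) →
      IsWeaklyRegular M rs → ∀ i < rs.length, Subsingleton (Ext N M i) := by
  intro rs
  induction rs with
  | nil => intro M _ _ i hi; simp at hi
  | cons a rs ih =>
    intro M mem reg i hi
    simp only [isWeaklyRegular_cons_iff] at reg
    have ha : a ∈ Module.annihilator B N := mem a List.mem_cons_self
    have mem' : ∀ r ∈ rs, r ∈ Module.annihilator B N := fun r hr =>
      mem r (List.mem_cons_of_mem _ hr)
    match i with
    | 0 =>
      have : Subsingleton (N →ₗ[B] M) := by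
        refine ⟨fun f g => ?_⟩
        ext x
        apply reg.1
        change a • f x = a • g x
        rw [← map_smul, ← map_smul, Module.mem_annihilator.1 ha x, map_zero, map_zero]
      exact (Ext.addEquiv₀.trans ModuleCat.homAddEquiv).subsingleton
    | i + 1 =>
      let g := (AddCommGrpCat.ofHom ((Ext.mk₀ (ModuleCat.smulShortComplex M a).f).postcomp N
        (add_zero (i + 1))))
      have mono_g : Mono g := by
        apply (Ext.covariant_sequence_exact₁' N reg.1.smulShortComplex_shortExact i (i + 1)
          rfl).mono_g ((AddCommGrpCat.isZero_of_iff_subsingleton.mpr ?_).eq_zero_of_src _)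
        exact ih (ModuleCat.of B (QuotSMulTop a M)) mem' reg.2 i
          (by simp only [List.length_cons] at hi; omega)
      have zero_g : g = 0 := Ext.postcomp_smul_id_eq_zero_of_mem_annihilator ha (i + 1)
      exact AddCommGrpCat.subsingleton_of_isZero (IsZero.of_mono_eq_zero _ zero_g)

end ext

section quot

open scoped Pointwise

variable (A : Type u) {S : Type u} [CommRing A] [CommRing S] [Algebra A S]
  (K : Type u) [AddCommGroup K] [Module A K]
  (M : Type u) [AddCommGroup M] [Module A M] [Module S M] [IsScalarTower A S M] (y : S)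

/-- the quotient map tensored with `K`, as an `S`-linear map -/
noncomputable def quotTensorMap : M ⊗[A] K →ₗ[S] (QuotSMulTop y M) ⊗[A] K :=
  TensorProduct.AlgebraTensorModule.map (Submodule.mkQ (y • (⊤ : Submodule S M)))
    (LinearMap.id : K →ₗ[A] K)

@[simp] lemma quotTensorMap_tmul (m : M) (c : K) :
    quotTensorMap A K M y (m ⊗ₜ[A] c) = (Submodule.Quotient.mk m : QuotSMulTop y M) ⊗ₜ[A] c := rfl

lemma quotTensorMap_surjective : Function.Surjective (quotTensorMap A K M y) := by
  intro w
  induction w using TensorProduct.induction_on with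
  | zero => exact ⟨0, map_zero _⟩
  | tmul m c =>
    obtain ⟨m, rfl⟩ := Submodule.Quotient.mk_surjective _ m
    exact ⟨m ⊗ₜ[A] c, rfl⟩
  | add w w' hw hw' =>
    obtain ⟨z, rfl⟩ := hw
    obtain ⟨z', rfl⟩ := hw'
    exact ⟨z + z', map_add _ _ _⟩

lemma smul_quotTensor_eq_zero (w : (QuotSMulTop y M) ⊗[A] K) : y • w = 0 := by
  induction w using TensorProduct.induction_on with
  | zero => exact smul_zero _
  | tmul m c =>
    obtain ⟨m, rfl⟩ := Submodule.Quotient.mk_surjective _ m
    rw [TensorProduct.smul_tmul', ← Submodule.Quotient.mk_smul,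
      (Submodule.Quotient.mk_eq_zero _).2
        (Submodule.smul_mem_pointwise_smul m y ⊤ Submodule.mem_top), TensorProduct.zero_tmul]
  | add w w' hw hw' => rw [smul_add, hw, hw', add_zero]

lemma ker_quotTensorMap :
    LinearMap.ker (quotTensorMap A K M y) = y • (⊤ : Submodule S (M ⊗[A] K)) := by
  apply le_antisymm
  · intro z hz
    rw [LinearMap.mem_ker] at hz
    let u : M →ₗ[A] M := (LinearMap.lsmul S M y).restrictScalars A
    let π : M →ₗ[A] QuotSMulTop y M := (Submodule.mkQ (y • (⊤ : Submodule S M))).restrictScalars A
    have hex : Function.Exact u π := by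
      intro m
      change (Submodule.Quotient.mk m : QuotSMulTop y M) = 0 ↔ m ∈ Set.range u
      rw [Submodule.Quotient.mk_eq_zero, Submodule.mem_smul_pointwise_iff_exists]
      constructor
      · rintro ⟨m', -, rfl⟩
        exact ⟨m', rfl⟩
      · rintro ⟨m', rfl⟩
        exact ⟨m', Submodule.mem_top, rfl⟩
    have hπ : Function.Surjective π := Submodule.mkQ_surjective _
    have hex' := rTensor_exact K hex hπ
    have h1 : π.rTensor K z = 0 := by
      have : (quotTensorMap A K M y).restrictScalars A = π.rTensor K := by
        apply TensorProduct.ext'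
        intro m c
        rfl
      rw [← this]
      exact hz
    obtain ⟨w, hw⟩ := (hex' z).1 h1
    have h2 : ∀ w : M ⊗[A] K, u.rTensor K w = y • w := by
      intro w
      induction w using TensorProduct.induction_on with
      | zero => rw [map_zero, smul_zero]
      | tmul m c => rfl
      | add w w' hw hw' => rw [map_add, hw, hw', smul_add]
    rw [← hw, h2]
    exact Submodule.smul_mem_pointwise_smul w y ⊤ Submodule.mem_top
  · intro z hz
    rw [Submodule.mem_smul_pointwise_iff_exists] at hz
    obtain ⟨w, -, rfl⟩ := hz
    rw [LinearMap.mem_ker, map_smul]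
    exact smul_quotTensor_eq_zero A K M y _

/-- `(M ⊗ K)/y(M ⊗ K) ≃ (M/yM) ⊗ K`, `S`-linearly -/
noncomputable def quotTensorEquiv :
    QuotSMulTop y (M ⊗[A] K) ≃ₗ[S] (QuotSMulTop y M) ⊗[A] K :=
  (Submodule.quotEquivOfEq _ _ (ker_quotTensorMap A K M y).symm) ≪≫ₗ
    (quotTensorMap A K M y).quotKerEquivOfSurjective (quotTensorMap_surjective A K M y)

end quot

section lift

open scoped Pointwise

variable {R₀ S : Type u} [CommRing R₀] [IsLocalRing R₀] [CommRing S] [IsLocalRing S]
  [IsNoetherianRing S] [Algebra R₀ S] [IsLocalHom (algebraMap R₀ S)]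

/-- a sequence which is regular on the closed fibre of a flat module is regular -/
theorem isWeaklyRegular_of_tensor_residueField :
    ∀ (ys : List S) (M : Type u) [AddCommGroup M] [Module R₀ M] [Module S M]
      [IsScalarTower R₀ S M] [Module.Finite S M] [Module.Flat R₀ M],
      IsWeaklyRegular (M ⊗[R₀] ResidueField R₀) ys → IsWeaklyRegular M ys := by
  intro ys
  induction ys with
  | nil => intro M _ _ _ _ _ _ _; exact IsWeaklyRegular.nil S M
  | cons y ys ih =>
    intro M _ _ _ _ _ _ h
    rw [isWeaklyRegular_cons_iff] at h ⊢
    let u : M →ₗ[R₀] M := (LinearMap.lsmul S M y).restrictScalars R₀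
    have h2 : ∀ w : M ⊗[R₀] ResidueField R₀, u.rTensor (ResidueField R₀) w = y • w := by
      intro w
      induction w using TensorProduct.induction_on with
      | zero => rw [map_zero, smul_zero]
      | tmul m c => rfl
      | add w w' hw hw' => rw [map_add, hw, hw', smul_add]
    have hr : Function.Injective (u.rTensor (ResidueField R₀)) := by
      intro w w' hww
      rw [h2, h2] at hww
      exact h.1 hww
    have hinj : Function.Injective (LinearMap.lTensor (ResidueField R₀) u) := by
      rw [← LinearMap.comm_comp_rTensor_comp_comm_eq]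
      exact (TensorProduct.comm R₀ M (ResidueField R₀)).injective.comp
        (hr.comp (TensorProduct.comm R₀ (ResidueField R₀) M).injective)
    obtain ⟨hu, hflat⟩ :=
      Groth.Agent.Lib.Helper1.FibreInj.injective_and_flat_of_injective_residue S u hinj
    have hreg : IsSMulRegular M y := hu
    refine ⟨hreg, ?_⟩
    -- flatness of the quotient
    have heq : LinearMap.range u = (y • (⊤ : Submodule S M)).restrictScalars R₀ := by
      ext m
      rw [Submodule.restrictScalars_mem, Submodule.mem_smul_pointwise_iff_exists]
      constructor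
      · rintro ⟨m', rfl⟩
        exact ⟨m', Submodule.mem_top, rfl⟩
      · rintro ⟨m', -, rfl⟩
        exact ⟨m', rfl⟩
    let e : (M ⧸ LinearMap.range u) ≃ₗ[R₀] QuotSMulTop y M :=
      (Submodule.quotEquivOfEq _ _ heq) ≪≫ₗ
        Submodule.Quotient.restrictScalarsEquiv R₀ (y • (⊤ : Submodule S M))
    haveI : Module.Flat R₀ (QuotSMulTop y M) := Module.Flat.of_linearEquiv e.symm
    apply ih (QuotSMulTop y M)
    exact ((quotTensorEquiv R₀ (ResidueField R₀) M y).isWeaklyRegular_congr ys).1 h.2

end lift

end Groth.Agent.Lib.Helper18.Fd
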