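import Mathlib
import Groth.Agent.Lib.Helper18.EmbB
import Groth.Agent.Lib.Helper18.HullW

/-!
# Functoriality of the local classifying map of a first-order embedded deformation (helper18)

For `z` in `localHilb X x I₀ A` and `u : A ⟶ k[ε]`, the classifying map of `u_* z` is computed from a
decomposition `q_z^♯ g = ∑ a_z(mᵢ) cᵢ` with `mᵢ` in the maximal ideal of `A`.
-/

set_option autoImplicit false
set_option linter.style.haveILetI false
set_option linter.unusedSectionVars false
universe u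

open CategoryTheory CategoryTheory.Limits AlgebraicGeometry

namespace Groth.Agent.Lib.Helper18.EmbG

open ArtFun ArtFun.Art Groth.Agent.Lib.Helper18.EmbA Groth.Agent.Lib.Helper18.EmbB
open Groth.Agent.Lib.Helper28.Pinch

variable {k : Type u} [Field k] {X : Scheme.{u}} {x : X ⟶ specPt k} {I₀ : X.IdealSheafData}
  {A : Art k k} (z : (localHilb X x I₀).obj A)

/-- the projection `Z_z ⟶ X` -/
noncomputable abbrev qqA : z.1.subscheme ⟶ X := z.1.subschemeι ≫ pullback.fst x (specOver A)

/-- the structure map -/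
noncomputable abbrev ffA : z.1.subscheme ⟶ spec A := z.1.subschemeι ≫ XApr x A

/-- the closed fibre -/
noncomputable abbrev ttA : I₀.subscheme ⟶ z.1.subscheme := (objectOf z).i

lemma ttA_qqA : ttA z ≫ qqA z = I₀.subschemeι := by
  change (objectOf z).i ≫ z.1.subschemeι ≫ pullback.fst x (specOver A) = _
  rw [← Category.assoc, objectOf_i_compat, Category.assoc, XAincl_fst, Category.comp_id]

variable (U : X.Opens)

/-- `q_z⁻¹U` -/
noncomputable abbrev WWA : z.1.subscheme.Opens := qqA z ⁻¹ᵁ U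

lemma VV_eqA : VV (I₀ := I₀) U = ttA z ⁻¹ᵁ WWA z U := by
  change I₀.subschemeι ⁻¹ᵁ U = ttA z ⁻¹ᵁ (qqA z ⁻¹ᵁ U)
  rw [← Scheme.Hom.comp_preimage, ttA_qqA]

/-- restriction to the closed fibre -/
noncomputable def tauA : Γ(z.1.subscheme, WWA z U) ⟶ Γ(I₀.subscheme, VV (I₀ := I₀) U) :=
  (ttA z).appLE (WWA z U) (VV U) (VV_eqA z U).le

/-- the structure map of `Γ(Z_z, q_z⁻¹U)` -/
noncomputable def aCA : CommRingCat.of A ⟶ Γ(z.1.subscheme, WWA z U) :=
  (Scheme.ΓSpecIso (CommRingCat.of A)).inv ≫ (ffA z).appLE ⊤ (WWA z U) le_top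

/-- the structure map `k → Γ(Y₀, ι₀⁻¹U)` -/
noncomputable def kap : CommRingCat.of k ⟶ Γ(I₀.subscheme, VV (I₀ := I₀) U) :=
  (Scheme.ΓSpecIso (CommRingCat.of k)).inv ≫ (subOver x I₀).appLE ⊤ (VV U) le_top

lemma aCA_tauA : aCA z U ≫ tauA z U = CommRingCat.ofHom A.res.toRingHom ≫ kap (x := x) U := by
  unfold aCA tauA kap
  exact HullR.key (CommRingCat.ofHom A.res.toRingHom) (ffA z) (subOver x I₀) (ttA z)
    (objectOf z).isPullback.w (WWA z U) (VV U) (VV_eqA z U).le

lemma qqA_app_tauA : (qqA z).app U ≫ tauA z U = I₀.subschemeι.app U := by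
  unfold tauA
  rw [Scheme.Hom.app_eq_appLE, Scheme.Hom.appLE_comp_appLE, appLE_congr' (ttA_qqA z),
    ← Scheme.Hom.app_eq_appLE]

section BaseChange

variable (u : A ⟶ dual k k)

/-- the pushed forward deformation -/
noncomputable abbrev push : (localHilb X x I₀).obj (dual k k) := (localHilb X x I₀).map u z

lemma exists_beta :
    ∃ β : (push z u).1.subscheme ⟶ z.1.subscheme,
      β ≫ ffA z = ff (push z u) ≫ specMap u ∧
      β ≫ z.1.subschemeι = (push z u).1.subschemeι ≫ XAmap x u := by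
  obtain ⟨β, h1, h2⟩ := HullW.exists_square x u z.1 (push z u).1 rfl
  exact ⟨β, h1.w, h2⟩

variable {z u} (β : (push z u).1.subscheme ⟶ z.1.subscheme)
  (hβf : β ≫ ffA z = ff (push z u) ≫ specMap u)
  (hβj : β ≫ z.1.subschemeι = (push z u).1.subschemeι ≫ XAmap x u)

include hβj in
lemma beta_qqA : β ≫ qqA z = qq (push z u) := by
  change β ≫ z.1.subschemeι ≫ pullback.fst x (specOver A) = _
  rw [← Category.assoc, hβj, Category.assoc, XAmap_fst]

include hβj in
lemma tt_beta : tt (push z u) ≫ β = ttA z := by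
  rw [← cancel_mono z.1.subschemeι, Category.assoc, hβj]
  change (objectOf (push z u)).i ≫ (push z u).1.subschemeι ≫ XAmap x u = (objectOf z).i ≫ _
  rw [← Category.assoc, objectOf_i_compat, objectOf_i_compat, Category.assoc, XAincl_XAmap]

include hβj in
lemma WW_le : WW (push z u) U ≤ β ⁻¹ᵁ WWA z U := by
  change qq (push z u) ⁻¹ᵁ U ≤ β ⁻¹ᵁ (qqA z ⁻¹ᵁ U)
  rw [← Scheme.Hom.comp_preimage, beta_qqA β hβj]

/-- the base change map on sections -/
noncomputable def bb : Γ(z.1.subscheme, WWA z U) ⟶ Γ((push z u).1.subscheme, WW (push z u) U) :=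
  β.appLE (WWA z U) (WW (push z u) U) (WW_le U β hβj)

lemma qqA_app_bb : (qqA z).app U ≫ bb U β hβj = (qq (push z u)).app U := by
  unfold bb
  rw [Scheme.Hom.app_eq_appLE, Scheme.Hom.appLE_comp_appLE, appLE_congr' (beta_qqA β hβj),
    ← Scheme.Hom.app_eq_appLE]

lemma bb_tau : bb U β hβj ≫ tau (push z u) U = tauA z U := by
  unfold bb tau tauA
  rw [Scheme.Hom.appLE_comp_appLE, appLE_congr' (tt_beta β hβj)]

include hβf in
lemma aCA_bb : aCA z U ≫ bb U β hβj =
    CommRingCat.ofHom u.toAlgHom.toRingHom ≫ aC (push z u) U := by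
  unfold aCA bb aC
  exact HullR.key (CommRingCat.ofHom u.toAlgHom.toRingHom) (ffA z) (ff (push z u)) β hβf
    (WWA z U) (WW (push z u) U) (WW_le U β hβj)

end BaseChange

section FL

variable {U} (hU : IsAffineOpen U) (u : A ⟶ dual k k)

/-- `snd` of an element of `k[ε]` -/
def sndD (d : (dual k k : Type u)) : k := TrivSqZeroExt.snd (d : TrivSqZeroExt k k)

/-- `inl` into `k[ε]` -/
def inlD (s : k) : (dual k k : Type u) := (TrivSqZeroExt.inl s : TrivSqZeroExt k k)

lemma eq_inl_mul_epsD (d : (dual k k : Type u)) (hd : (dual k k).res d = 0) :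
    d = inlD (sndD d) * epsD :=
  (tsz_aux (d : TrivSqZeroExt k k) hd).symm

lemma res_inl (s : k) : (dual k k).res (inlD s) = s := rfl

include hU in
/-- the functoriality lemma -/
theorem delta_push (g : Γ(X, U)) (hg : (I₀.subschemeι.app U).hom g = 0) (n : ℕ) (m : Fin n → A)
    (hm : ∀ i, A.res (m i) = 0) (c : Fin n → Γ(z.1.subscheme, WWA z U))
    (hdec : ((qqA z).app U).hom g = ∑ i, (aCA z U).hom (m i) * c i) :
    delta (push z u) hU g hg =
      ∑ i, (kap (x := x) (I₀ := I₀) U).hom (sndD (u (m i))) * (tauA z U).hom (c i) := by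
  obtain ⟨β, hβf, hβj⟩ := exists_beta z u
  have hres : ∀ i, (dual k k).res (u (m i)) = 0 := by
    intro i
    have h1 : (dual k k).res (u (m i)) = A.res (m i) :=
      congrArg (fun φ => φ (m i)) u.res_comp
    rw [h1, hm i]
  -- the decomposition downstairs
  have h1 : ((qq (push z u)).app U).hom g =
      epsC (push z u) U * ∑ i, (aC (push z u) U).hom
        (inlD (sndD (u (m i)))) * (bb U β hβj).hom (c i) := by
    have e1 : ((qq (push z u)).app U).hom g = (bb U β hβj).hom (((qqA z).app U).hom g) :=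
      (congrArg (fun φ => φ.hom g) (qqA_app_bb U β hβj)).symm
    rw [e1, hdec, map_sum, Finset.mul_sum]
    refine Finset.sum_congr rfl (fun i _ => ?_)
    have e2 : (bb U β hβj).hom ((aCA z U).hom (m i)) = (aC (push z u) U).hom (u (m i)) :=
      congrArg (fun φ => φ.hom (m i)) (aCA_bb U β hβf hβj)
    rw [map_mul, e2]
    conv_lhs => rw [eq_inl_mul_epsD (u (m i)) (hres i)]
    rw [map_mul]
    change _ * epsC (push z u) U * _ = _
    ring
  rw [delta_eq (push z u) hU g hg _ h1, map_sum]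
  refine Finset.sum_congr rfl (fun i _ => ?_)
  rw [map_mul]
  have e3 : (tau (push z u) U).hom ((bb U β hβj).hom (c i)) = (tauA z U).hom (c i) :=
    congrArg (fun φ => φ.hom (c i)) (bb_tau U β hβj)
  have e4 : ∀ d : (dual k k : Type u), (tau (push z u) U).hom ((aC (push z u) U).hom d) =
      (kap (x := x) (I₀ := I₀) U).hom ((dual k k).res d) := fun d =>
    congrArg (fun φ => φ.hom d) (aCA_tauA (push z u) U)
  rw [e3, e4, res_inl]

end FL

end Groth.Agent.Lib.Helper18.EmbG
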