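import Mathlib
import Groth.Agent.Lib.Helper18.EmbG
import Groth.Agent.Lib.Helper18.EmbC

/-!
# Linearity of the classifying map of first-order embedded deformations (helper18)
-/

set_option autoImplicit false
set_option linter.style.haveILetI false
set_option linter.unusedSectionVars false
universe u

open CategoryTheory CategoryTheory.Limits AlgebraicGeometry

namespace Groth.Agent.Lib.Helper18.EmbH

open ArtFun ArtFun.Art Groth.Agent.Lib.Helper18.EmbA Groth.Agent.Lib.Helper18.EmbB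
open Groth.Agent.Lib.Helper18.EmbG
open Groth.Agent.Lib.Helper28.Pinch

variable {k : Type u} [Field k] {X : Scheme.{u}} {x : X ⟶ specPt k} {I₀ : X.IdealSheafData}

section General

variable {A : Art k k} (z : (localHilb X x I₀).obj A) {U : X.Opens} (hU : IsAffineOpen U)

instance : IsAffineHom (qqA z) := by
  haveI : IsAffineHom (specOver A) := by
    change IsAffineHom (Spec.map _)
    infer_instance
  haveI : IsAffineHom (pullback.fst x (specOver A)) :=
    MorphismProperty.pullback_fst (P := @IsAffineHom) _ _ inferInstance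
  infer_instance

include hU in
lemma isPushout_tauA :
    IsPushout (aCA z U) (CommRingCat.ofHom A.res.toRingHom) (tauA z U) (kap (x := x) U) :=
  HullR.sect' (CommRingCat.ofHom A.res.toRingHom) (objectOf z).isPullback
    (hU.preimage (qqA z)) (VV U) (VV_eqA z U)

include hU in
lemma ker_tauA :
    RingHom.ker (tauA z U).hom =
      (RingHom.ker (A.res.toRingHom : A →+* k)).map (aCA z U).hom :=
  (HullB.surj_ker_of_isPushout A.res.toRingHom A.res_surjective (aCA z U).hom
    (kap (x := x) (I₀ := I₀) U).hom (tauA z U).hom (isPushout_tauA z hU)).2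

end General


section Two

/-- `ε₁` -/
def e1 : (dual2 k k : Type u) := (TrivSqZeroExt.inr ((1 : k), (0 : k)) : TrivSqZeroExt k (k × k))

/-- `ε₂` -/
def e2 : (dual2 k k : Type u) := (TrivSqZeroExt.inr ((0 : k), (1 : k)) : TrivSqZeroExt k (k × k))

lemma res_e1 : (dual2 k k).res (e1 (k := k)) = 0 := rfl
lemma res_e2 : (dual2 k k).res (e2 (k := k)) = 0 := rfl

lemma tsz2_aux (y : TrivSqZeroExt k (k × k)) (hy : y.fst = 0) :
    TrivSqZeroExt.inl y.snd.1 * (TrivSqZeroExt.inr ((1 : k), (0 : k)) : TrivSqZeroExt k (k × k)) +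
      TrivSqZeroExt.inl y.snd.2 * (TrivSqZeroExt.inr ((0 : k), (1 : k)) : TrivSqZeroExt k (k × k))
      = y := by
  apply TrivSqZeroExt.ext
  · simp [hy]
  · ext <;> simp

lemma tsz2_aux2 (a b : TrivSqZeroExt k (k × k)) :
    (a * (TrivSqZeroExt.inr ((1 : k), (0 : k)) : TrivSqZeroExt k (k × k)) +
      b * (TrivSqZeroExt.inr ((0 : k), (1 : k)) : TrivSqZeroExt k (k × k))).fst = 0 := by
  simp

lemma ker_res_dual2 :
    RingHom.ker ((dual2 k k).res.toRingHom : (dual2 k k) →+* k) =
      Ideal.span ({e1 (k := k), e2} : Set (dual2 k k)) := by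
  ext y
  rw [RingHom.mem_ker, Ideal.mem_span_pair]
  constructor
  · intro hy
    exact ⟨(TrivSqZeroExt.inl (TrivSqZeroExt.snd (y : TrivSqZeroExt k (k × k))).1 :
        TrivSqZeroExt k (k × k)),
      (TrivSqZeroExt.inl (TrivSqZeroExt.snd (y : TrivSqZeroExt k (k × k))).2 :
        TrivSqZeroExt k (k × k)), tsz2_aux y hy⟩
  · rintro ⟨a, b, rfl⟩
    exact tsz2_aux2 a b

variable (z : (localHilb X x I₀).obj (dual2 k k)) {U : X.Opens} (hU : IsAffineOpen U)

include hU in
lemma exists_dec2 (g : Γ(X, U)) (hg : (I₀.subschemeι.app U).hom g = 0) :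
    ∃ c₁ c₂ : Γ(z.1.subscheme, WWA z U), ((qqA z).app U).hom g =
      (aCA z U).hom e1 * c₁ + (aCA z U).hom e2 * c₂ := by
  have h1 : (tauA z U).hom (((qqA z).app U).hom g) = 0 := by
    have := congrArg (fun φ => φ.hom g) (qqA_app_tauA z U)
    exact this.trans hg
  have h2 : ((qqA z).app U).hom g ∈
      Ideal.span ({(aCA z U).hom e1, (aCA z U).hom e2} : Set Γ(z.1.subscheme, WWA z U)) := by
    have h3 : ((qqA z).app U).hom g ∈ RingHom.ker (tauA z U).hom := h1
    rw [ker_tauA z hU, ker_res_dual2, Ideal.map_span, Set.image_pair] at h3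
    exact h3
  obtain ⟨c₁, c₂, hc⟩ := Ideal.mem_span_pair.1 h2
  exact ⟨c₁, c₂, by rw [← hc]; ring⟩

lemma sndD_pr₁_e1 : sndD ((pr₁ : dual2 k k ⟶ dual k k) e1) = 1 := rfl
lemma sndD_pr₁_e2 : sndD ((pr₁ : dual2 k k ⟶ dual k k) e2) = 0 := rfl
lemma sndD_pr₂_e1 : sndD ((pr₂ : dual2 k k ⟶ dual k k) e1) = 0 := rfl
lemma sndD_pr₂_e2 : sndD ((pr₂ : dual2 k k ⟶ dual k k) e2) = 1 := rfl
lemma sndD_plus_e1 : sndD ((plus : dual2 k k ⟶ dual k k) e1) = 1 := by
  change (1 : k) + 0 = 1
  rw [add_zero]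
lemma sndD_plus_e2 : sndD ((plus : dual2 k k ⟶ dual k k) e2) = 1 := by
  change (0 : k) + 1 = 1
  rw [zero_add]

include hU in
/-- additivity of the classifying map -/
theorem delta_plus (g : Γ(X, U)) (hg : (I₀.subschemeι.app U).hom g = 0) :
    delta (push z plus) hU g hg = delta (push z pr₁) hU g hg + delta (push z pr₂) hU g hg := by
  obtain ⟨c₁, c₂, hc⟩ := exists_dec2 z hU g hg
  have hdec : ((qqA z).app U).hom g =
      ∑ i : Fin 2, (aCA z U).hom (![e1, e2] i) * (![c₁, c₂] i) := by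
    rw [Fin.sum_univ_two]
    exact hc
  have hm : ∀ i : Fin 2, (dual2 k k).res (![e1 (k := k), e2] i) = 0 := by
    intro i
    fin_cases i
    · exact res_e1
    · exact res_e2
  rw [delta_push z hU plus g hg 2 _ hm _ hdec, delta_push z hU pr₁ g hg 2 _ hm _ hdec,
    delta_push z hU pr₂ g hg 2 _ hm _ hdec, Fin.sum_univ_two, Fin.sum_univ_two, Fin.sum_univ_two]
  change (kap U).hom (sndD (plus e1)) * _ + (kap U).hom (sndD (plus e2)) * _ =
    ((kap U).hom (sndD (pr₁ e1)) * _ + (kap U).hom (sndD (pr₁ e2)) * _) +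
    ((kap U).hom (sndD (pr₂ e1)) * _ + (kap U).hom (sndD (pr₂ e2)) * _)
  rw [sndD_plus_e1, sndD_plus_e2, sndD_pr₁_e1, sndD_pr₁_e2, sndD_pr₂_e1, sndD_pr₂_e2, map_one,
    map_zero]
  ring

end Two

section Scale

variable (I : (localHilb X x I₀).obj (dual k k)) {U : X.Opens} (hU : IsAffineOpen U)

lemma sndD_scale_epsD (c : k) : sndD ((scale c : dual k k ⟶ dual k k) epsD) = c := by
  change c • (1 : k) = c
  rw [smul_eq_mul, mul_one]

lemma res_epsD : (dual k k).res (epsD (k := k)) = 0 := rfl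

include hU in
/-- homogeneity of the classifying map -/
theorem delta_scale (c : k) (g : Γ(X, U)) (hg : (I₀.subschemeι.app U).hom g = 0) :
    delta (push I (scale c)) hU g hg = (kap (x := x) (I₀ := I₀) U).hom c * delta I hU g hg := by
  obtain ⟨c', hc'⟩ := exists_eq_epsC_mul I hU g hg
  have hdec : ((qqA I).app U).hom g =
      ∑ i : Fin 1, (aCA I U).hom ((fun _ => epsD (k := k)) i) * ((fun _ => c') i) := by
    rw [Fin.sum_univ_one]
    exact hc'
  rw [delta_push I hU (scale c) g hg 1 _ (fun _ => res_epsD) _ hdec, Fin.sum_univ_one,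
    sndD_scale_epsD, delta_eq I hU g hg c' hc']
  rfl

end Scale

end Groth.Agent.Lib.Helper18.EmbH
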