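import Mathlib
import Groth.Agent.Lib.Helper18.EmbH
import Groth.Agent.Lib.Helper19.ArtFunTangent
import Groth.Prelude.Def_KLin

/-!
# The classifying map `t_F → Hom(I₀, O/I₀)` of the local Hilbert functor is `k`-linear (helper18)
-/

set_option autoImplicit false
set_option linter.style.haveILetI false
set_option linter.unusedSectionVars false
universe u

open CategoryTheory CategoryTheory.Limits AlgebraicGeometry

namespace Groth.Agent.Lib.Helper18.EmbI

open ArtFun ArtFun.Art Groth.Agent.Lib.Helper18.EmbA Groth.Agent.Lib.Helper18.EmbB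
open Groth.Agent.Lib.Helper18.EmbC Groth.Agent.Lib.Helper18.EmbG Groth.Agent.Lib.Helper18.EmbH
open Groth.Agent.Lib.Helper28.Pinch Groth.Agent.Lib.Helper3

variable {k : Type u} [Field k] {X : Scheme.{u}} {x : X ⟶ specPt k} {I₀ : X.IdealSheafData}

lemma kap_eq (U : X.Opens) (c : k) :
    (I₀.subschemeι.app U).hom
      (X.presheaf.map (homOfLE (le_top : U ≤ ⊤)).op (Coh.toGlobal x c)) =
      (kap (x := x) (I₀ := I₀) U).hom c := by
  have e1 : kap (x := x) (I₀ := I₀) U =
      (Scheme.ΓSpecIso (CommRingCat.of k)).inv ≫ x.appLE ⊤ U le_top ≫ I₀.subschemeι.app U := by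
    unfold kap
    rw [Scheme.Hom.app_eq_appLE, Scheme.Hom.appLE_comp_appLE]
  rw [e1]
  rfl

/-- the classifying morphism -/
noncomputable def Phi (I : (localHilb X x I₀).obj (dual k k)) :
    ClSub.idealMod I₀ ⟶ ClSub.quotMod I₀ := (exists_hom I).choose

lemma Phi_app (I : (localHilb X x I₀).obj (dual k k)) (U : X.AffineZariskiSite)
    (s : Γ(ClSub.idealMod I₀, U.1)) : (Phi I).app U.1 s = DU I U s :=
  (exists_hom I).choose_spec U s

lemma Phi_plus (z : (localHilb X x I₀).obj (dual2 k k)) :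
    Phi (push z plus) = Phi (push z pr₁) + Phi (push z pr₂) := by
  apply AffExt.hom_ext_of_affine
  intro U s
  have e : (Phi (push z pr₁) + Phi (push z pr₂)).app U.1 s =
      (Phi (push z pr₁)).app U.1 s + (Phi (push z pr₂)).app U.1 s := rfl
  rw [e, Phi_app, Phi_app, Phi_app, DU_apply, DU_apply, DU_apply,
    delta_plus z U.2 (IdealMod.val I₀ s) (IdealMod.app_val I₀ s)]
  rfl

lemma Phi_scale (I : (localHilb X x I₀).obj (dual k k)) (c : k) :
    letI : X.Over (Spec (CommRingCat.of k)) := ⟨x⟩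
    Phi (push I (scale c)) = c • Phi I := by
  letI : X.Over (Spec (CommRingCat.of k)) := ⟨x⟩
  apply AffExt.hom_ext_of_affine
  intro U s
  rw [KLin.smul_app_apply, Phi_app, Phi_app, DU_apply, DU_apply,
    delta_scale I U.2 c (IdealMod.val I₀ s) (IdealMod.app_val I₀ s), ← kap_eq]
  rfl

end Groth.Agent.Lib.Helper18.EmbI
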