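import Mathlib
import Groth.Agent.Lib.Helper18.EmbC
import Groth.Agent.Lib.Helper20.DualSect

/-!
# The first-order embedded deformation attached to a homomorphism `I₀ ⟶ O/I₀`: topology (helper18)
-/

set_option autoImplicit false
set_option linter.style.haveILetI false
set_option linter.unusedSectionVars false
universe u

open CategoryTheory CategoryTheory.Limits AlgebraicGeometry

namespace Groth.Agent.Lib.Helper18.EmbK

open ArtFun ArtFun.Art Groth.Agent.Lib.Helper18.EmbA Groth.Agent.Lib.Helper18.EmbB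
open Groth.Agent.Lib.Helper18.EmbC Groth.Agent.Lib.Helper20.DualSect
open Groth.Agent.Lib.Helper28.Pinch Groth.Agent.Lib.Helper3

variable {k : Type u} [Field k] {X : Scheme.{u}} (x : X ⟶ specPt k)

lemma surjective_specRes (A : Art k k) : Surjective (specRes A) := by
  constructor
  intro p
  haveI : Ring.KrullDimLE 0 A := inferInstance
  haveI : Subsingleton (PrimeSpectrum A) := Ring.KrullDimLE.subsingleton_primeSpectrum A
  haveI : Nonempty (specPt k) := inferInstanceAs (Nonempty (PrimeSpectrum k))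
  obtain ⟨q⟩ := (inferInstance : Nonempty (specPt k))
  exact ⟨q, Subsingleton.elim (α := PrimeSpectrum A) _ _⟩

instance surjective_XAincl (A : Art k k) : Surjective (XAincl x A) :=
  MorphismProperty.of_isPullback (P := @Surjective) (isPullback_XAincl x A).flip
    (surjective_specRes A)

instance isClosedImmersion_specRes (A : Art k k) : IsClosedImmersion (specRes A) :=
  IsClosedImmersion.spec_of_surjective _ A.res_surjective

instance isClosedImmersion_XAincl (A : Art k k) : IsClosedImmersion (XAincl x A) :=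
  MorphismProperty.of_isPullback (P := @IsClosedImmersion) (isPullback_XAincl x A).flip
    (isClosedImmersion_specRes A)

lemma XAincl_pr_apply (A : Art k k) (p : XA x A) :
    (XAincl x A).base ((pullback.fst x (specOver A)).base p) = p := by
  obtain ⟨q, rfl⟩ := (XAincl x A).surjective p
  have h : (XAincl x A ≫ pullback.fst x (specOver A)).base q = q := by
    rw [XAincl_fst]; rfl
  have h2 : (pullback.fst x (specOver A)).base ((XAincl x A).base q) = q := h
  rw [h2]

/-- every open of `X ×_k Spec A` is the preimage of its trace on `X` -/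
lemma preimage_preimage (A : Art k k) (W : (XA x A).Opens) :
    pullback.fst x (specOver A) ⁻¹ᵁ (XAincl x A ⁻¹ᵁ W) = W := by
  ext p
  change (XAincl x A).base ((pullback.fst x (specOver A)).base p) ∈ W ↔ p ∈ W
  rw [XAincl_pr_apply]

section Def

variable {x} 

/-- the trace on `X` of an open of `X ×_k Spec k[ε]` -/
noncomputable abbrev trU (W : (XA x (dual k k)).Opens) : X.Opens := XAincl x (dual k k) ⁻¹ᵁ W

lemma le_pre (W : (XA x (dual k k)).Opens) : W ≤ pr x ⁻¹ᵁ (trU W) :=
  (preimage_preimage x _ W).ge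

lemma isAffineOpen_trU {W : (XA x (dual k k)).Opens} (hW : IsAffineOpen W) :
    IsAffineOpen (trU W) := hW.preimage (XAincl x (dual k k))

/-- `π^♯ : Γ(X, W ∩ X) → Γ(X[ε], W)` -/
noncomputable def PW (W : (XA x (dual k k)).Opens) :
    Γ(X, trU W) ⟶ Γ(XA x (dual k k), W) := (pr x).appLE (trU W) W (le_pre W)

/-- the structure map `k[ε] → Γ(X[ε], W)` -/
noncomputable def aW (W : (XA x (dual k k)).Opens) :
    CommRingCat.of (dual k k) ⟶ Γ(XA x (dual k k), W) :=
  (Scheme.ΓSpecIso (CommRingCat.of (dual k k))).inv ≫ (XApr x (dual k k)).appLE ⊤ W le_top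

/-- `ε` on `W` -/
noncomputable def epsW (W : (XA x (dual k k)).Opens) : Γ(XA x (dual k k), W) :=
  (aW W).hom (epsD (k := k))

lemma epsW_mul_self (W : (XA x (dual k k)).Opens) : epsW W * epsW W = 0 := by
  unfold epsW
  rw [← map_mul, epsD_mul_self, map_zero]

/-- sections of `O/I₀` as functions on `Y₀` -/
def fromQ {I₀ : X.IdealSheafData} (U : X.Opens) (c : Γ(ClSub.quotMod I₀, U)) :
    Γ(I₀.subscheme, VV (I₀ := I₀) U) := c

lemma exists_decomp' {U : X.Opens} (hU : IsAffineOpen U) (W : (XA x (dual k k)).Opens)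
    (h : W = pr x ⁻¹ᵁ U) (w : Γ(XA x (dual k k), W)) :
    ∃ f g : Γ(X, U), w = ((pr x).appLE U W h.le).hom f +
      (aW W).hom (epsD (k := k)) * ((pr x).appLE U W h.le).hom g := by
  subst h
  obtain ⟨f, g, hfg⟩ := exists_decomp x hU w
  refine ⟨f, g, ?_⟩
  rw [hfg, Scheme.Hom.app_eq_appLE]
  rfl

lemma exists_decompW {W : (XA x (dual k k)).Opens} (hW : IsAffineOpen W)
    (w : Γ(XA x (dual k k), W)) :
    ∃ f g : Γ(X, trU W), w = (PW W).hom f + epsW W * (PW W).hom g :=
  exists_decomp' (isAffineOpen_trU hW) W (preimage_preimage x _ W).symm w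

variable (I₀ : X.IdealSheafData) (φ : ClSub.idealMod I₀ ⟶ ClSub.quotMod I₀)

/-- the sections over `W` of the ideal of the first-order deformation attached to `φ` -/
def Jset (W : (XA x (dual k k)).Opens) : Set Γ(XA x (dual k k), W) :=
  {w | ∃ (s : Γ(ClSub.idealMod I₀, trU W)) (g : Γ(X, trU W)),
    w = (PW W).hom (IdealMod.val I₀ s) + epsW W * (PW W).hom g ∧
    (I₀.subschemeι.app (trU W)).hom g + fromQ (trU W) (φ.app (trU W) s) = 0}

lemma fromQ_add (U : X.Opens) (c c' : Γ(ClSub.quotMod I₀, U)) :
    fromQ U (c + c') = fromQ U c + fromQ U c' := rfl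

lemma fromQ_smul (U : X.Opens) (a : Γ(X, U)) (c : Γ(ClSub.quotMod I₀, U)) :
    fromQ U (a • c) = (I₀.subschemeι.app U).hom a * fromQ U c := rfl

lemma fromQ_zero (U : X.Opens) : fromQ U (0 : Γ(ClSub.quotMod I₀, U)) = 0 := rfl

/-- the ideal over an affine open `W` -/
def J {W : (XA x (dual k k)).Opens} (hW : IsAffineOpen W) : Ideal Γ(XA x (dual k k), W) where
  carrier := Jset I₀ φ W
  zero_mem' := by
    refine ⟨0, 0, ?_, ?_⟩
    · have e : IdealMod.val I₀ (0 : Γ(ClSub.idealMod I₀, trU W)) = 0 := by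
        have h := IdealMod.val_add I₀ (0 : Γ(ClSub.idealMod I₀, trU W)) 0
        rw [add_zero] at h
        exact left_eq_add.mp h
      rw [e, map_zero, mul_zero, add_zero]
    · rw [map_zero, map_zero, fromQ_zero, add_zero]
  add_mem' := by
    rintro _ _ ⟨s, g, rfl, h⟩ ⟨s', g', rfl, h'⟩
    refine ⟨s + s', g + g', ?_, ?_⟩
    · rw [IdealMod.val_add, map_add, map_add]
      ring
    · rw [map_add, map_add, fromQ_add]
      linear_combination h + h'
  smul_mem' := by
    rintro b _ ⟨s, g, rfl, h⟩
    obtain ⟨a, b', rfl⟩ := exists_decompW hW b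
    refine ⟨a • s, a * g + b' * IdealMod.val I₀ s, ?_, ?_⟩
    · rw [IdealMod.val_smul, map_mul, map_add, map_mul, map_mul, smul_eq_mul]
      linear_combination ((PW W).hom b' * (PW W).hom g) * epsW_mul_self W
    · rw [Scheme.Modules.Hom.app_smul, fromQ_smul, map_add, map_mul, map_mul]
      have hv : (I₀.subschemeι.app (trU W)).hom (IdealMod.val I₀ s) = 0 := IdealMod.app_val I₀ s
      rw [hv, mul_zero, add_zero]
      linear_combination (I₀.subschemeι.app (trU W)).hom a * h

end Def

end Groth.Agent.Lib.Helper18.EmbK
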