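import Mathlib
import Groth.Agent.Lib.Helper18.DRPerf

/-!
# Hom-exact functors on `D(R)` and dévissage over perfect objects (helper18)

A functor `G` out of a pretriangulated category is *hom-exact* if `Hom(T, G(-))` is exact on
distinguished triangles.  A natural transformation between hom-exact functors on `D(R)` which is an
isomorphism on all shifts of `R[0]` is an isomorphism on all perfect objects.
-/

set_option autoImplicit false
set_option linter.style.haveILetI false
universe u
open CategoryTheory CategoryTheory.Limits CategoryTheory.Pretriangulated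

attribute [local instance] HasDerivedCategory.standard

namespace Groth.Agent.Lib.Helper18.DR

namespace DTenE

section general

variable {C : Type*} [Category C] [HasZeroObject C] [HasShift C ℤ] [Preadditive C]
  [∀ n : ℤ, (shiftFunctor C n).Additive] [Pretriangulated C]
  {D : Type*} [Category D] [Preadditive D]

/-- `Hom(T, G(-))` is exact at the third vertex of every distinguished triangle. -/
def HomExact (G : C ⥤ D) : Prop :=
  ∀ (Tr : Triangle C), Tr ∈ distTriang C → ∀ (T : D) (y : T ⟶ G.obj Tr.obj₃),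
    y ≫ G.map Tr.mor₃ = 0 → ∃ x : T ⟶ G.obj Tr.obj₂, x ≫ G.map Tr.mor₂ = y

variable {G G' : C ⥤ D} [G.PreservesZeroMorphisms] [G'.PreservesZeroMorphisms]

lemma HomExact.exact₃ (hG : HomExact G) (Tr : Triangle C) (hTr : Tr ∈ distTriang C) (T : D) :
    Function.Exact (Preadditive.rightComp T (G.map Tr.mor₂))
      (Preadditive.rightComp T (G.map Tr.mor₃)) := by
  intro y
  constructor
  · intro hy
    obtain ⟨x, hx⟩ := hG Tr hTr T y hy
    exact ⟨x, hx⟩
  · rintro ⟨x, rfl⟩
    change (x ≫ G.map Tr.mor₂) ≫ G.map Tr.mor₃ = 0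
    rw [Category.assoc, ← G.map_comp, comp_distTriang_mor_zero₂₃ _ hTr, G.map_zero, comp_zero]

lemma HomExact.exact₂ (hG : HomExact G) (Tr : Triangle C) (hTr : Tr ∈ distTriang C) (T : D) :
    Function.Exact (Preadditive.rightComp T (G.map Tr.mor₁))
      (Preadditive.rightComp T (G.map Tr.mor₂)) := by
  intro y
  constructor
  · intro hy
    have hy' : y ≫ G.map Tr.mor₂ = 0 := hy
    obtain ⟨x, hx⟩ := hG Tr.invRotate (inv_rot_of_distTriang _ hTr) T y (by
      change y ≫ G.map (Tr.mor₂ ≫ _) = 0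
      rw [G.map_comp, ← Category.assoc, hy', zero_comp])
    exact ⟨x, hx⟩
  · rintro ⟨x, rfl⟩
    change (x ≫ G.map Tr.mor₁) ≫ G.map Tr.mor₂ = 0
    rw [Category.assoc, ← G.map_comp, comp_distTriang_mor_zero₁₂ _ hTr, G.map_zero, comp_zero]

lemma HomExact.exact₁ (hG : HomExact G) (Tr : Triangle C) (hTr : Tr ∈ distTriang C) (T : D) :
    Function.Exact (Preadditive.rightComp T (G.map Tr.mor₃))
      (Preadditive.rightComp T (G.map Tr.rotate.mor₃)) :=
  hG.exact₃ Tr.rotate (rot_of_distTriang _ hTr) T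

/-- five lemma: a natural transformation between hom-exact functors which is invertible at the
first two vertices of a distinguished triangle and their shifts is invertible at the third. -/
theorem isIso_app_obj₃ (hG : HomExact G) (hG' : HomExact G') (τ : G ⟶ G')
    (Tr : Triangle C) (hTr : Tr ∈ distTriang C)
    (h₁ : IsIso (τ.app Tr.obj₁)) (h₂ : IsIso (τ.app Tr.obj₂))
    (h₄ : IsIso (τ.app (Tr.obj₁⟦(1 : ℤ)⟧))) (h₅ : IsIso (τ.app (Tr.obj₂⟦(1 : ℤ)⟧))) :
    IsIso (τ.app Tr.obj₃) := by
  refine isIso_of_yoneda_map_bijective _ (fun T => ?_)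
  have hbij : ∀ (X : C), IsIso (τ.app X) →
      Function.Bijective (Preadditive.rightComp T (τ.app X)) := by
    intro X hX
    refine ⟨fun a b hab => ?_, fun b => ⟨b ≫ inv (τ.app X), ?_⟩⟩
    · exact (cancel_mono (τ.app X)).1 hab
    · change (b ≫ inv (τ.app X)) ≫ τ.app X = b
      rw [Category.assoc, IsIso.inv_hom_id, Category.comp_id]
  have hc : ∀ {X Y : C} (m : X ⟶ Y),
      (Preadditive.rightComp T (G'.map m)).comp (Preadditive.rightComp T (τ.app X)) =
        (Preadditive.rightComp T (τ.app Y)).comp (Preadditive.rightComp T (G.map m)) := by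
    intro X Y m
    refine AddMonoidHom.ext fun x => ?_
    change (x ≫ τ.app X) ≫ G'.map m = (x ≫ G.map m) ≫ τ.app Y
    rw [Category.assoc, Category.assoc, τ.naturality]
  exact AddMonoidHom.bijective_of_surjective_of_bijective_of_bijective_of_injective
    (Preadditive.rightComp T (G.map Tr.mor₁)) (Preadditive.rightComp T (G.map Tr.mor₂))
    (Preadditive.rightComp T (G.map Tr.mor₃)) (Preadditive.rightComp T (G.map Tr.rotate.mor₃))
    (Preadditive.rightComp T (G'.map Tr.mor₁)) (Preadditive.rightComp T (G'.map Tr.mor₂))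
    (Preadditive.rightComp T (G'.map Tr.mor₃)) (Preadditive.rightComp T (G'.map Tr.rotate.mor₃))
    (Preadditive.rightComp T (τ.app Tr.obj₁)) (Preadditive.rightComp T (τ.app Tr.obj₂))
    (Preadditive.rightComp T (τ.app Tr.obj₃)) (Preadditive.rightComp T (τ.app (Tr.obj₁⟦(1 : ℤ)⟧)))
    (Preadditive.rightComp T (τ.app (Tr.obj₂⟦(1 : ℤ)⟧)))
    (hc _) (hc _) (hc _) (hc _)
    (hG.exact₂ Tr hTr T) (hG.exact₃ Tr hTr T) (hG.exact₁ Tr hTr T)
    (hG'.exact₂ Tr hTr T) (hG'.exact₃ Tr hTr T) (hG'.exact₁ Tr hTr T)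
    (hbij _ h₁).2 (hbij _ h₂) (hbij _ h₄) (hbij _ h₅).1

omit [G.PreservesZeroMorphisms] [G'.PreservesZeroMorphisms] in
lemma isIso_app_of_iso (τ : G ⟶ G') {X Y : C} (e : X ≅ Y) (h : IsIso (τ.app X)) :
    IsIso (τ.app Y) := by
  have : τ.app Y = G.map e.inv ≫ τ.app X ≫ G'.map e.hom := by
    rw [← τ.naturality, ← G.map_comp_assoc, e.inv_hom_id, G.map_id, Category.id_comp]
  rw [this]
  infer_instance

omit [G.PreservesZeroMorphisms] [G'.PreservesZeroMorphisms] in
lemma isIso_app_of_retract (τ : G ⟶ G') {X Z : C} (i : X ⟶ Z) (r : Z ⟶ X) (hir : i ≫ r = 𝟙 X)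
    (h : IsIso (τ.app Z)) : IsIso (τ.app X) := by
  refine ⟨G'.map i ≫ inv (τ.app Z) ≫ G.map r, ?_, ?_⟩
  · rw [← τ.naturality_assoc, IsIso.hom_inv_id_assoc, ← G.map_comp, hir, G.map_id]
  · rw [Category.assoc, Category.assoc, τ.naturality, IsIso.inv_hom_id_assoc, ← G'.map_comp, hir,
      G'.map_id]

end general

section perfect

variable {R : Type u} [CommRing R] {G G' : Dual.D R ⥤ Dual.D R}
  [G.PreservesZeroMorphisms] [G'.PreservesZeroMorphisms]

/-- dévissage: a natural transformation between hom-exact endofunctors of `D(R)` which is an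
isomorphism on every shift of `R[0]` is an isomorphism on every perfect object. -/
theorem isIso_app_of_isPerfect (hG : HomExact G) (hG' : HomExact G') (τ : G ⟶ G')
    (h₀ : ∀ j : ℤ, IsIso (τ.app ((Dual.inD R R)⟦j⟧)))
    (K : Dual.D R) (hK : DRing.IsPerfect R K) : IsIso (τ.app K) := by
  let Pr : ObjectProperty (Dual.D R) := fun K => ∀ j : ℤ, IsIso (τ.app (K⟦j⟧))
  haveI : Pr.IsClosedUnderIsomorphisms :=
    ⟨fun {X Y} e hX j => isIso_app_of_iso τ ((shiftFunctor (Dual.D R) j).mapIso e) (hX j)⟩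
  have hshift : ∀ (K : Dual.D R) (n : ℤ), Pr K → Pr ((shiftFunctor (Dual.D R) n).obj K) := by
    intro K n hK j
    exact isIso_app_of_iso τ ((shiftFunctorAdd' (Dual.D R) n j (n + j) rfl).app K) (hK (n + j))
  have main : Pr K := by
    refine perfect_induction Pr h₀ hshift ?_ ?_ K hK
    · intro Tr hTr h1 h3 j
      -- the triangle `(obj₃⟦-1⟧, obj₁, obj₂)` shifted by `j`
      have hT' := Triangle.shift_distinguished _ (inv_rot_of_distTriang _ hTr) j
      refine isIso_app_obj₃ hG hG' τ _ hT' ?_ ?_ ?_ ?_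
      · exact hshift _ (-1) h3 j
      · exact h1 j
      · exact hshift _ j (hshift _ (-1) h3) 1
      · exact hshift _ j h1 1
    · intro X Y _ hXY j
      refine isIso_app_of_retract τ ((shiftFunctor (Dual.D R) j).map biprod.inl)
        ((shiftFunctor (Dual.D R) j).map biprod.fst) ?_ (hXY j)
      rw [← Functor.map_comp, biprod.inl_fst, CategoryTheory.Functor.map_id]
  exact isIso_app_of_iso τ ((shiftFunctorZero (Dual.D R) ℤ).app K) (main 0)

end perfect

end DTenE

end Groth.Agent.Lib.Helper18.DR
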