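import Mathlib
import Groth.Agent.Lib.Helper18.DTenE

/-!
# Contravariant hom-exact functors and dévissage over perfect complexes (helper18)
-/

set_option autoImplicit false
set_option linter.style.haveILetI false
universe u
open CategoryTheory CategoryTheory.Limits CategoryTheory.Pretriangulated DerivedCategory Opposite

attribute [local instance] HasDerivedCategory.standard

namespace Groth.Agent.Lib.Helper18.DR

namespace ContraExact

section general

variable {C : Type*} [Category C] [HasZeroObject C] [HasShift C ℤ] [Preadditive C]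
  [∀ n : ℤ, (shiftFunctor C n).Additive] [Pretriangulated C]
  {D : Type*} [Category D] [Preadditive D]

/-- `Hom(T, G(-))` is exact at the second vertex of every distinguished triangle, for a
contravariant functor `G`. -/
def HomExactOp (G : Cᵒᵖ ⥤ D) : Prop :=
  ∀ (Tr : Triangle C), Tr ∈ distTriang C → ∀ (T : D) (y : T ⟶ G.obj (op Tr.obj₂)),
    y ≫ G.map Tr.mor₁.op = 0 → ∃ x : T ⟶ G.obj (op Tr.obj₃), x ≫ G.map Tr.mor₂.op = y

variable {G G' : Cᵒᵖ ⥤ D} [G.PreservesZeroMorphisms] [G'.PreservesZeroMorphisms]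

lemma HomExactOp.exact₂ (hG : HomExactOp G) (Tr : Triangle C) (hTr : Tr ∈ distTriang C) (T : D) :
    Function.Exact (Preadditive.rightComp T (G.map Tr.mor₂.op))
      (Preadditive.rightComp T (G.map Tr.mor₁.op)) := by
  intro y
  constructor
  · intro hy
    obtain ⟨x, hx⟩ := hG Tr hTr T y hy
    exact ⟨x, hx⟩
  · rintro ⟨x, rfl⟩
    change (x ≫ G.map Tr.mor₂.op) ≫ G.map Tr.mor₁.op = 0
    rw [Category.assoc, ← G.map_comp, ← op_comp, comp_distTriang_mor_zero₁₂ _ hTr, op_zero,
      G.map_zero, comp_zero]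

lemma HomExactOp.exact₃ (hG : HomExactOp G) (Tr : Triangle C) (hTr : Tr ∈ distTriang C) (T : D) :
    Function.Exact (Preadditive.rightComp T (G.map Tr.mor₃.op))
      (Preadditive.rightComp T (G.map Tr.mor₂.op)) :=
  hG.exact₂ Tr.rotate (rot_of_distTriang _ hTr) T

lemma HomExactOp.exact₁ (hG : HomExactOp G) (Tr : Triangle C) (hTr : Tr ∈ distTriang C) (T : D) :
    Function.Exact (Preadditive.rightComp T (G.map Tr.rotate.mor₃.op))
      (Preadditive.rightComp T (G.map Tr.mor₃.op)) :=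
  hG.exact₃ Tr.rotate (rot_of_distTriang _ hTr) T

/-- five lemma, contravariant version -/
theorem isIso_app_obj₃ (hG : HomExactOp G) (hG' : HomExactOp G') (τ : G ⟶ G')
    (Tr : Triangle C) (hTr : Tr ∈ distTriang C)
    (h₁ : IsIso (τ.app (op Tr.obj₁))) (h₂ : IsIso (τ.app (op Tr.obj₂)))
    (h₄ : IsIso (τ.app (op (Tr.obj₁⟦(1 : ℤ)⟧)))) (h₅ : IsIso (τ.app (op (Tr.obj₂⟦(1 : ℤ)⟧)))) :
    IsIso (τ.app (op Tr.obj₃)) := by
  refine isIso_of_yoneda_map_bijective _ (fun T => ?_)
  have hbij : ∀ (X : Cᵒᵖ), IsIso (τ.app X) →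
      Function.Bijective (Preadditive.rightComp T (τ.app X)) := by
    intro X hX
    refine ⟨fun a b hab => ?_, fun b => ⟨b ≫ inv (τ.app X), ?_⟩⟩
    · exact (cancel_mono (τ.app X)).1 hab
    · change (b ≫ inv (τ.app X)) ≫ τ.app X = b
      rw [Category.assoc, IsIso.inv_hom_id, Category.comp_id]
  have hc : ∀ {X Y : Cᵒᵖ} (m : X ⟶ Y),
      (Preadditive.rightComp T (G'.map m)).comp (Preadditive.rightComp T (τ.app X)) =
        (Preadditive.rightComp T (τ.app Y)).comp (Preadditive.rightComp T (G.map m)) := by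
    intro X Y m
    refine AddMonoidHom.ext fun x => ?_
    change (x ≫ τ.app X) ≫ G'.map m = (x ≫ G.map m) ≫ τ.app Y
    rw [Category.assoc, Category.assoc, τ.naturality]
  exact AddMonoidHom.bijective_of_surjective_of_bijective_of_bijective_of_injective
    (Preadditive.rightComp T (G.map Tr.rotate.mor₃.op)) (Preadditive.rightComp T (G.map Tr.mor₃.op))
    (Preadditive.rightComp T (G.map Tr.mor₂.op)) (Preadditive.rightComp T (G.map Tr.mor₁.op))
    (Preadditive.rightComp T (G'.map Tr.rotate.mor₃.op))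
    (Preadditive.rightComp T (G'.map Tr.mor₃.op))
    (Preadditive.rightComp T (G'.map Tr.mor₂.op)) (Preadditive.rightComp T (G'.map Tr.mor₁.op))
    (Preadditive.rightComp T (τ.app (op (Tr.obj₂⟦(1 : ℤ)⟧))))
    (Preadditive.rightComp T (τ.app (op (Tr.obj₁⟦(1 : ℤ)⟧))))
    (Preadditive.rightComp T (τ.app (op Tr.obj₃))) (Preadditive.rightComp T (τ.app (op Tr.obj₂)))
    (Preadditive.rightComp T (τ.app (op Tr.obj₁)))
    (hc _) (hc _) (hc _) (hc _)
    (hG.exact₁ Tr hTr T) (hG.exact₃ Tr hTr T) (hG.exact₂ Tr hTr T)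
    (hG'.exact₁ Tr hTr T) (hG'.exact₃ Tr hTr T) (hG'.exact₂ Tr hTr T)
    (hbij _ h₅).2 (hbij _ h₄) (hbij _ h₂) (hbij _ h₁).1

omit [G.PreservesZeroMorphisms] [G'.PreservesZeroMorphisms] in
lemma isIso_app_of_iso (τ : G ⟶ G') {X Y : C} (e : X ≅ Y) (h : IsIso (τ.app (op X))) :
    IsIso (τ.app (op Y)) := by
  have : τ.app (op Y) = G.map e.hom.op ≫ τ.app (op X) ≫ G'.map e.inv.op := by
    rw [← τ.naturality, ← G.map_comp_assoc, ← op_comp, e.inv_hom_id, op_id, G.map_id,
      Category.id_comp]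
  rw [this]
  infer_instance

omit [G.PreservesZeroMorphisms] [G'.PreservesZeroMorphisms] in
lemma isIso_app_of_retract (τ : G ⟶ G') {X Z : C} (i : X ⟶ Z) (r : Z ⟶ X) (hir : i ≫ r = 𝟙 X)
    (h : IsIso (τ.app (op Z))) : IsIso (τ.app (op X)) := by
  refine ⟨G'.map r.op ≫ inv (τ.app (op Z)) ≫ G.map i.op, ?_, ?_⟩
  · rw [← τ.naturality_assoc, IsIso.hom_inv_id_assoc, ← G.map_comp, ← op_comp, hir, op_id,
      G.map_id]
  · rw [Category.assoc, Category.assoc, τ.naturality, IsIso.inv_hom_id_assoc, ← G'.map_comp,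
      ← op_comp, hir, op_id, G'.map_id]

end general

section perfect

variable {R : Type u} [CommRing R] {G G' : (Dual.D R)ᵒᵖ ⥤ Dual.D R}
  [G.PreservesZeroMorphisms] [G'.PreservesZeroMorphisms]

/-- dévissage, contravariant version -/
theorem isIso_app_of_isPerfect (hG : HomExactOp G) (hG' : HomExactOp G') (τ : G ⟶ G')
    (h₀ : ∀ j : ℤ, IsIso (τ.app (op ((Dual.inD R R)⟦j⟧))))
    (K : Dual.D R) (hK : DRing.IsPerfect R K) : IsIso (τ.app (op K)) := by
  let Pr : ObjectProperty (Dual.D R) := fun K => ∀ j : ℤ, IsIso (τ.app (op (K⟦j⟧)))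
  haveI : Pr.IsClosedUnderIsomorphisms :=
    ⟨fun {X Y} e hX j => isIso_app_of_iso τ ((shiftFunctor (Dual.D R) j).mapIso e) (hX j)⟩
  have hshift : ∀ (K : Dual.D R) (n : ℤ), Pr K → Pr ((shiftFunctor (Dual.D R) n).obj K) := by
    intro K n hK j
    exact isIso_app_of_iso τ ((shiftFunctorAdd' (Dual.D R) n j (n + j) rfl).app K) (hK (n + j))
  have main : Pr K := by
    refine perfect_induction Pr h₀ hshift ?_ ?_ K hK
    · intro Tr hTr h1 h3 j
      have hT' := Triangle.shift_distinguished _ (inv_rot_of_distTriang _ hTr) j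
      refine isIso_app_obj₃ hG hG' τ _ hT' ?_ ?_ ?_ ?_
      · exact hshift _ (-1) h3 j
      · exact h1 j
      · exact hshift _ j (hshift _ (-1) h3) 1
      · exact hshift _ j h1 1
    · intro X Y _ hXY j
      refine isIso_app_of_retract τ ((shiftFunctor (Dual.D R) j).map biprod.inl)
        ((shiftFunctor (Dual.D R) j).map biprod.fst) ?_ (hXY j)
      rw [← Functor.map_comp, biprod.inl_fst, CategoryTheory.Functor.map_id]
  exact isIso_app_of_iso τ ((shiftFunctorZero (Dual.D R) ℤ).app K) (main 0)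

end perfect

end ContraExact

end Groth.Agent.Lib.Helper18.DR
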