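import Mathlib
import Groth.Agent.Lib.Helper18.DTenA
import Groth.Agent.Lib.Helper2.Tot.DRingSymm
import Groth.Agent.Lib.Helper18.KProjC
import Groth.Prelude.Def_DTen2

/-!
# K-projective complexes are K-flat; consequences for the derived tensor product (helper18)
-/

set_option autoImplicit false
set_option linter.style.haveILetI false
universe u
open CategoryTheory CategoryTheory.Limits MonoidalCategory DerivedCategory HomologicalComplex

attribute [local instance] HasDerivedCategory.standard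

namespace Groth.Agent.Lib.Helper18.DR

namespace DTenB

open DTen Groth.Agent.Lib.Helper2.Tot Groth.Agent.Lib.Helper2.Tot.DR

section abstract

variable {C : Type*} [Category C] [Abelian C]

lemma acyclic_of_retract {K L : CochainComplex C ℤ} (i : L ⟶ K) (r : K ⟶ L)
    (H : Homotopy (i ≫ r) (𝟙 L)) (hK : K.Acyclic) : L.Acyclic := by
  intro n
  rw [exactAt_iff_isZero_homology]
  have hz : IsZero (K.homology n) := (K.exactAt_iff_isZero_homology n).1 (hK n)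
  have h1 : homologyMap i n ≫ homologyMap r n = 𝟙 (L.homology n) := by
    rw [← homologyMap_comp, H.homologyMap_eq, homologyMap_id]
  rw [IsZero.iff_id_eq_zero, ← h1, hz.eq_of_tgt (homologyMap i n) 0, zero_comp]

variable {C₁ C₂ D : Type*} [Category C₁] [Category C₂] [Category D]
  [Abelian C₁] [Abelian C₂] [Abelian D]
  {F : C₁ ⥤ C₂ ⥤ D} [F.Additive] [∀ X₁, (F.obj X₁).Additive]
  [∀ (K₁ : CochainComplex C₁ ℤ) (K₂ : CochainComplex C₂ ℤ),
    HasMapBifunctor K₁ K₂ F (ComplexShape.up ℤ)]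

lemma KFlat.of_retract {K L : CochainComplex C₂ ℤ} (i : L ⟶ K) (r : K ⟶ L)
    (H : Homotopy (i ≫ r) (𝟙 L)) (hK : KFlat F K) : KFlat F L := fun K₁ h₁ =>
  acyclic_of_retract (((F.map₂CochainComplex).obj K₁).map i)
    (((F.map₂CochainComplex).obj K₁).map r)
    ((Homotopy.ofEq (((F.map₂CochainComplex).obj K₁).map_comp i r).symm).trans
      ((mapBifunctorMapHomotopy₂ (𝟙 K₁) H F (ComplexShape.up ℤ)).trans
        (Homotopy.ofEq (((F.map₂CochainComplex).obj K₁).map_id L)))) (hK K₁ h₁)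

end abstract

section kproj

variable {A : Type u} [CommRing A]

lemma exists_kflat_retract (P : DRing.Cx A) [P.IsKProjective] :
    ∃ (K : DRing.Cx A) (f : K ⟶ P) (s : P ⟶ K), KFlat (T A) K ∧ KFlat (T A).flip K ∧
      Nonempty (Homotopy (s ≫ f) (𝟙 P)) := by
  obtain ⟨K, f, h1, h2, -, hq, -⟩ := exists_resolution P
  haveI := hq
  obtain ⟨s, hs⟩ := exists_map_eq P K (inv (DerivedCategory.Q.map f))
  have h3 : DerivedCategory.Q.map (s ≫ f) = DerivedCategory.Q.map (𝟙 P) := by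
    rw [Functor.map_comp, hs, IsIso.inv_hom_id, CategoryTheory.Functor.map_id]
  obtain ⟨H⟩ := nonempty_homotopy_of_map_eq P P _ _ h3
  exact ⟨K, f, s, h1, h2, ⟨H⟩⟩

theorem kflat_of_isKProjective (P : DRing.Cx A) [P.IsKProjective] : KFlat (T A) P := by
  obtain ⟨K, f, s, h1, -, ⟨H⟩⟩ := exists_kflat_retract P
  exact KFlat.of_retract s f H h1

theorem kflat_flip_of_isKProjective (P : DRing.Cx A) [P.IsKProjective] : KFlat (T A).flip P := by
  obtain ⟨K, f, s, -, h2, ⟨H⟩⟩ := exists_kflat_retract P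
  exact KFlat.of_retract s f H h2

instance quasiIso_whiskerLeft (P : DRing.Cx A) [P.IsKProjective] {L L' : DRing.Cx A} (g : L ⟶ L')
    [QuasiIso g] : QuasiIso (P ◁ g) :=
  quasiIso_map₂_of_kflat_flip (kflat_flip_of_isKProjective P) g

instance quasiIso_whiskerRight (P : DRing.Cx A) [P.IsKProjective] {L L' : DRing.Cx A} (g : L ⟶ L')
    [QuasiIso g] : QuasiIso (g ▷ P) :=
  quasiIso_map₁_of_kflat (kflat_of_isKProjective P) g

end kproj


section eps

variable {A : Type u} [CommRing A]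

/-- a K-projective resolution by an honest quasi-isomorphism -/
lemma exists_kprojective_quasiIso (L : DRing.Cx A) :
    ∃ (P : DRing.Cx A) (g : P ⟶ L), P.IsKProjective ∧ QuasiIso g := by
  obtain ⟨P, hP, -, ⟨e⟩⟩ := exists_kprojective_resolution (DerivedCategory.Q.obj L)
  haveI := hP
  obtain ⟨g, hg⟩ := exists_map_eq P L e.hom
  haveI : IsIso (DerivedCategory.Q.map g) := by rw [hg]; infer_instance
  exact ⟨P, g, hP, (DerivedCategory.isIso_Q_map_iff_quasiIso _ g).1 inferInstance⟩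

variable [HasLTen A]

theorem isIso_ε_app_left (P L : DRing.Cx A) [P.IsKProjective] : IsIso ((ε A).app (P, L)) := by
  obtain ⟨P₂, g, hP₂, hg⟩ := exists_kprojective_quasiIso L
  haveI := hP₂
  haveI := hg
  let u : (P, P₂) ⟶ (P, L) := Prod.mkHom (𝟙 P) g
  have hnat := (ε A).naturality u
  haveI : IsIso ((QQ A).map u) := by
    change IsIso (Prod.mkHom (DerivedCategory.Q.map (𝟙 P)) (DerivedCategory.Q.map g))
    exact (isIso_prod_iff _ _).2 ⟨inferInstance, inferInstance⟩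
  haveI : IsIso ((QQ A ⋙ LTen₂ A).map u) := by
    change IsIso ((LTen₂ A).map ((QQ A).map u))
    infer_instance
  haveI := DTenA.isIso_ε_app P P₂
  haveI : IsIso ((tensor₂ A).map u) := by
    change IsIso (DerivedCategory.Q.map ((𝟙 P) ▷ P₂ ≫ P ◁ g))
    rw [MonoidalCategory.id_whiskerRight, Category.id_comp]
    infer_instance
  have h : (ε A).app (P, L) =
      inv ((QQ A ⋙ LTen₂ A).map u) ≫ (ε A).app (P, P₂) ≫ (tensor₂ A).map u := by
    rw [IsIso.eq_inv_comp]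
    exact hnat
  rw [h]
  infer_instance

theorem isIso_ε_app_right (L P : DRing.Cx A) [P.IsKProjective] : IsIso ((ε A).app (L, P)) := by
  obtain ⟨P₂, g, hP₂, hg⟩ := exists_kprojective_quasiIso L
  haveI := hP₂
  haveI := hg
  let u : (P₂, P) ⟶ (L, P) := Prod.mkHom g (𝟙 P)
  have hnat := (ε A).naturality u
  haveI : IsIso ((QQ A).map u) := by
    change IsIso (Prod.mkHom (DerivedCategory.Q.map g) (DerivedCategory.Q.map (𝟙 P)))
    exact (isIso_prod_iff _ _).2 ⟨inferInstance, inferInstance⟩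
  haveI : IsIso ((QQ A ⋙ LTen₂ A).map u) := by
    change IsIso ((LTen₂ A).map ((QQ A).map u))
    infer_instance
  haveI := DTenA.isIso_ε_app P₂ P
  haveI : IsIso ((tensor₂ A).map u) := by
    change IsIso (DerivedCategory.Q.map (g ▷ P ≫ L ◁ (𝟙 P)))
    rw [MonoidalCategory.whiskerLeft_id, Category.comp_id]
    infer_instance
  have h : (ε A).app (L, P) =
      inv ((QQ A ⋙ LTen₂ A).map u) ≫ (ε A).app (P₂, P) ≫ (tensor₂ A).map u := by
    rw [IsIso.eq_inv_comp]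
    exact hnat
  rw [h]
  infer_instance

end eps


section triple

variable {A : Type u} [CommRing A]

noncomputable def tensorHomHomotopy {K K' L L' : DRing.Cx A} {f f' : K ⟶ K'} {g g' : L ⟶ L'}
    (hf : Homotopy f f') (hg : Homotopy g g') : Homotopy (f ⊗ₘ g) (f' ⊗ₘ g') :=
  (HomologicalComplex.mapBifunctorMapHomotopy₁ hf g (curriedTensor (ModuleCat.{u} A))
    (ComplexShape.up ℤ)).trans
    (HomologicalComplex.mapBifunctorMapHomotopy₂ f' hg (curriedTensor (ModuleCat.{u} A))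
      (ComplexShape.up ℤ))

lemma QQQ_map_surjective (P₁ P₂ P₃ : DRing.Cx A) [P₁.IsKProjective] [P₂.IsKProjective]
    [P₃.IsKProjective] (c : DRing.Cx A × (DRing.Cx A × DRing.Cx A)) :
    Function.Surjective (fun f : (P₁, (P₂, P₃)) ⟶ c => (QQQ A).map f) := by
  intro g
  obtain ⟨f₁, hf₁⟩ := exists_map_eq P₁ c.1 g.1
  obtain ⟨f₂, hf₂⟩ := exists_map_eq P₂ c.2.1 g.2.1
  obtain ⟨f₃, hf₃⟩ := exists_map_eq P₃ c.2.2 g.2.2
  exact ⟨(f₁, (f₂, f₃)), Prod.ext hf₁ (Prod.ext hf₂ hf₃)⟩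

lemma tensor₃_map_eq (P₁ P₂ P₃ : DRing.Cx A) [P₁.IsKProjective] [P₂.IsKProjective]
    [P₃.IsKProjective] (c : DRing.Cx A × (DRing.Cx A × DRing.Cx A))
    (f g : (P₁, (P₂, P₃)) ⟶ c) (h : (QQQ A).map f = (QQQ A).map g) :
    (tensor₃ A).map f = (tensor₃ A).map g := by
  have h1 : DerivedCategory.Q.map f.1 = DerivedCategory.Q.map g.1 := congrArg Prod.fst h
  have h2 : DerivedCategory.Q.map f.2.1 = DerivedCategory.Q.map g.2.1 :=
    congrArg (fun x => x.2.1) h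
  have h3 : DerivedCategory.Q.map f.2.2 = DerivedCategory.Q.map g.2.2 :=
    congrArg (fun x => x.2.2) h
  obtain ⟨H1⟩ := nonempty_homotopy_of_map_eq P₁ c.1 f.1 g.1 h1
  obtain ⟨H2⟩ := nonempty_homotopy_of_map_eq P₂ c.2.1 f.2.1 g.2.1 h2
  obtain ⟨H3⟩ := nonempty_homotopy_of_map_eq P₃ c.2.2 f.2.2 g.2.2 h3
  change DerivedCategory.Q.map (f.1 ▷ (P₂ ⊗ P₃) ≫ c.1 ◁ (f.2.1 ▷ P₃ ≫ c.2.1 ◁ f.2.2)) =
    DerivedCategory.Q.map (g.1 ▷ (P₂ ⊗ P₃) ≫ c.1 ◁ (g.2.1 ▷ P₃ ≫ c.2.1 ◁ g.2.2))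
  rw [← MonoidalCategory.tensorHom_def f.2.1, ← MonoidalCategory.tensorHom_def g.2.1,
    ← MonoidalCategory.tensorHom_def, ← MonoidalCategory.tensorHom_def]
  exact DerivedCategory.Q_map_eq_of_homotopy _ (tensorHomHomotopy H1 (tensorHomHomotopy H2 H3))

theorem isIso_ε₃_app [HasLTen₃ A] (P₁ P₂ P₃ : DRing.Cx A) [P₁.IsKProjective] [P₂.IsKProjective]
    [P₃.IsKProjective] : IsIso ((ε₃ A).app (P₁, (P₂, P₃))) := by
  haveI : (LTen₃ A).IsRightKanExtension (ε₃ A) :=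
    (Functor.isLeftDerivedFunctor_iff_isRightKanExtension (LTen₃ A) (ε₃ A) (qis₃ A)).1
      inferInstance
  exact Kan2.isIso_counit_app (QQQ A) (qis₃ A) (LTen₃ A) (ε₃ A) (P₁, (P₂, P₃))
    (QQQ_map_surjective P₁ P₂ P₃) (tensor₃_map_eq P₁ P₂ P₃)

variable [HasLTen A]

theorem isIso_βR_app (P₁ P₂ P₃ : DRing.Cx A) [P₁.IsKProjective] [P₂.IsKProjective]
    [P₃.IsKProjective] : IsIso ((βR A).app (P₁, (P₂, P₃))) := by
  haveI := DTenA.isIso_ε_app P₂ P₃
  haveI := isIso_ε_app_left P₁ (P₂ ⊗ P₃)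
  change IsIso ((LTen₂ A).map (Prod.mkHom (𝟙 (DerivedCategory.Q.obj P₁)) ((ε A).app (P₂, P₃))) ≫
    (ε A).app (P₁, P₂ ⊗ P₃))
  haveI : IsIso (Prod.mkHom (𝟙 (DerivedCategory.Q.obj P₁)) ((ε A).app (P₂, P₃))) :=
    (isIso_prod_iff _ _).2 ⟨inferInstance, inferInstance⟩
  infer_instance

theorem isIso_βL_app (P₁ P₂ P₃ : DRing.Cx A) [P₁.IsKProjective] [P₂.IsKProjective]
    [P₃.IsKProjective] : IsIso ((βL A).app (P₁, (P₂, P₃))) := by
  haveI := DTenA.isIso_ε_app P₁ P₂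
  haveI := isIso_ε_app_right (P₁ ⊗ P₂) P₃
  change IsIso ((LTen₂ A).map (Prod.mkHom ((ε A).app (P₁, P₂)) (𝟙 (DerivedCategory.Q.obj P₃))) ≫
    (ε A).app (P₁ ⊗ P₂, P₃) ≫ DerivedCategory.Q.map (α_ P₁ P₂ P₃).hom)
  haveI : IsIso (Prod.mkHom ((ε A).app (P₁, P₂)) (𝟙 (DerivedCategory.Q.obj P₃))) :=
    (isIso_prod_iff _ _).2 ⟨inferInstance, inferInstance⟩
  infer_instance

variable [HasLTen₃ A]

/-- S13577 -/
theorem isIso_assoc_app (a b c : Dual.D A) :
    IsIso ((assocL A).app (a, (b, c))) ∧ IsIso ((assocR A).app (a, (b, c))) := by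
  obtain ⟨P₁, hP₁, -, ⟨e₁⟩⟩ := exists_kprojective_resolution a
  obtain ⟨P₂, hP₂, -, ⟨e₂⟩⟩ := exists_kprojective_resolution b
  obtain ⟨P₃, hP₃, -, ⟨e₃⟩⟩ := exists_kprojective_resolution c
  haveI := hP₁
  haveI := hP₂
  haveI := hP₃
  have e : (QQQ A).obj (P₁, (P₂, P₃)) ≅ (a, (b, c)) := Iso.prod e₁ (Iso.prod e₂ e₃)
  rw [← NatTrans.isIso_app_iff_of_iso (assocL A) e, ← NatTrans.isIso_app_iff_of_iso (assocR A) e]
  haveI := isIso_ε₃_app P₁ P₂ P₃
  haveI := isIso_βR_app P₁ P₂ P₃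
  haveI := isIso_βL_app P₁ P₂ P₃
  exact ⟨IsIso.of_isIso_fac_right (assocL_fac A (P₁, (P₂, P₃))),
    IsIso.of_isIso_fac_right (assocR_fac A (P₁, (P₂, P₃)))⟩

end triple

end DTenB

end Groth.Agent.Lib.Helper18.DR
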