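import Mathlib
import Groth.Agent.Lib.Helper18.DTenB
import Groth.Agent.Lib.Helper18.DTenE
import Groth.Prelude.Def_DTen3

/-!
# The derived tensor product is hom-exact in its first variable (helper18)
-/

set_option autoImplicit false
set_option linter.style.haveILetI false
universe u
open CategoryTheory CategoryTheory.Limits CategoryTheory.Pretriangulated MonoidalCategory
  DerivedCategory HomologicalComplex

attribute [local instance] HasDerivedCategory.standard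

namespace Groth.Agent.Lib.Helper18.DR

namespace DTenF

open DTen DTenE Groth.Agent.Lib.Helper2.Tot Groth.Agent.Lib.Helper2.Tot.DR

variable {A : Type u} [CommRing A]

/-- tensoring the (degreewise split) rotated mapping cone sequence with `Y` stays short exact -/
lemma shortExact_rotate_tensor {C₁ C₂ : DRing.Cx A} (φ : C₁ ⟶ C₂) (Y : DRing.Cx A) :
    ((CochainComplex.mappingCone.triangleRotateShortComplex φ).map
      ((T A).map₂CochainComplex.flip.obj Y)).ShortExact :=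
  shortExact_map₁ (T A) Y _ (fun p q =>
    ((CochainComplex.mappingCone.triangleRotateShortComplexSplitting φ p).map
      ((T A).flip.obj (Y.X q))).shortExact)

variable [HasLTen A]

/-- naturality of the counit in the first variable -/
lemma ε_naturality_left {C C' : DRing.Cx A} (f : C ⟶ C') (Y : DRing.Cx A) :
    (LTen₂ A).map (Prod.mkHom (DerivedCategory.Q.map f) (𝟙 (DerivedCategory.Q.obj Y))) ≫
      (ε A).app (C', Y) = (ε A).app (C, Y) ≫ DerivedCategory.Q.map (f ▷ Y) := by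
  have e := (ε A).naturality (Prod.mkHom f (𝟙 Y))
  dsimp at e
  simp only [MonoidalCategory.whiskerLeft_id, Category.comp_id] at e
  rw [← e, CategoryTheory.Functor.map_id]

/-- naturality of the counit in the second variable -/
lemma ε_naturality_right (C : DRing.Cx A) {Y Y' : DRing.Cx A} (g : Y ⟶ Y') :
    (LTen₂ A).map (Prod.mkHom (𝟙 (DerivedCategory.Q.obj C)) (DerivedCategory.Q.map g)) ≫
      (ε A).app (C, Y') = (ε A).app (C, Y) ≫ DerivedCategory.Q.map (C ◁ g) := by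
  have e := (ε A).naturality (Prod.mkHom (𝟙 C) g)
  dsimp at e
  simp only [MonoidalCategory.id_whiskerRight, Category.id_comp] at e
  rw [← e, CategoryTheory.Functor.map_id]

/-- **Lemma E**: `Hom(T, - ⊗^L X)` is exact on distinguished triangles. -/
theorem homExact_tensorRightD (X : Dual.D A) : HomExact (tensorRightD A X) := by
  intro Tr hTr T y hy
  obtain ⟨Y, hY, -, ⟨e⟩⟩ := exists_kprojective_resolution X
  haveI := hY
  obtain ⟨C₁, C₂, φ, ⟨eT⟩⟩ : ∃ (C₁ C₂ : DRing.Cx A) (φ : C₁ ⟶ C₂),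
      Nonempty (Tr ≅ DerivedCategory.Q.mapTriangle.obj (CochainComplex.mappingCone.triangle φ)) :=
    (DerivedCategory.mem_distTriang_iff Tr).1 hTr
  have hS := shortExact_rotate_tensor φ Y
  have hdist := triangleOfSES_distinguished hS
  haveI i₂ : IsIso ((ε A).app (C₂, Y)) := DTenB.isIso_ε_app_right C₂ Y
  haveI i₃ : IsIso ((ε A).app (CochainComplex.mappingCone φ, Y)) :=
    DTenB.isIso_ε_app_right (CochainComplex.mappingCone φ) Y
  haveI i₁ : IsIso ((ε A).app (C₁⟦(1 : ℤ)⟧, Y)) := DTenB.isIso_ε_app_right (C₁⟦(1 : ℤ)⟧) Y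
  -- the comparison isomorphisms
  let δ : CochainComplex.mappingCone φ ⟶ C₁⟦(1 : ℤ)⟧ :=
    (CochainComplex.mappingCone.triangle φ).mor₃
  let d₂ : Tr.obj₂ ≅ DerivedCategory.Q.obj C₂ := Triangle.π₂.mapIso eT
  let d₃ : Tr.obj₃ ≅ DerivedCategory.Q.obj (CochainComplex.mappingCone φ) := Triangle.π₃.mapIso eT
  let d₁ : Tr.obj₁ ≅ DerivedCategory.Q.obj C₁ := Triangle.π₁.mapIso eT
  let e' : X ≅ DerivedCategory.Q.obj Y := e.symm
  let b₁ : Tr.obj₁⟦(1 : ℤ)⟧ ≅ DerivedCategory.Q.obj (C₁⟦(1 : ℤ)⟧) :=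
    (shiftFunctor (Dual.D A) (1 : ℤ)).mapIso d₁ ≪≫
      ((DerivedCategory.Q.commShiftIso (1 : ℤ)).app C₁).symm
  let c₂ : (LTen₂ A).obj (DerivedCategory.Q.obj C₂, DerivedCategory.Q.obj Y) ≅
      DerivedCategory.Q.obj (C₂ ⊗ Y) := @asIso _ _ _ _ ((ε A).app (C₂, Y)) i₂
  let c₃ : (LTen₂ A).obj (DerivedCategory.Q.obj (CochainComplex.mappingCone φ),
      DerivedCategory.Q.obj Y) ≅ DerivedCategory.Q.obj (CochainComplex.mappingCone φ ⊗ Y) :=
    @asIso _ _ _ _ ((ε A).app (CochainComplex.mappingCone φ, Y)) i₃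
  let c₁ : (LTen₂ A).obj (DerivedCategory.Q.obj (C₁⟦(1 : ℤ)⟧), DerivedCategory.Q.obj Y) ≅
      DerivedCategory.Q.obj ((C₁⟦(1 : ℤ)⟧) ⊗ Y) := @asIso _ _ _ _ ((ε A).app (C₁⟦(1 : ℤ)⟧, Y)) i₁
  let a₂ : (LTen₂ A).obj (Tr.obj₂, X) ≅ DerivedCategory.Q.obj (C₂ ⊗ Y) :=
    (LTen₂ A).mapIso (Iso.prod d₂ e') ≪≫ c₂
  let a₃ : (LTen₂ A).obj (Tr.obj₃, X) ≅
      DerivedCategory.Q.obj (CochainComplex.mappingCone φ ⊗ Y) :=
    (LTen₂ A).mapIso (Iso.prod d₃ e') ≪≫ c₃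
  let a₁ : (LTen₂ A).obj (Tr.obj₁⟦(1 : ℤ)⟧, X) ≅ DerivedCategory.Q.obj ((C₁⟦(1 : ℤ)⟧) ⊗ Y) :=
    (LTen₂ A).mapIso (Iso.prod b₁ e') ≪≫ c₁
  have hc₂ : Tr.mor₂ ≫ d₃.hom = d₂.hom ≫ DerivedCategory.Q.map (CochainComplex.mappingCone.inr φ) :=
    eT.hom.comm₂
  have hc₃ : Tr.mor₃ ≫ b₁.hom = d₃.hom ≫ DerivedCategory.Q.map δ := by
    have h := eT.hom.comm₃
    have h' : Tr.mor₃ ≫ (shiftFunctor (Dual.D A) (1 : ℤ)).map d₁.hom =
        d₃.hom ≫ DerivedCategory.Q.map δ ≫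
          (DerivedCategory.Q.commShiftIso (1 : ℤ)).hom.app C₁ := h
    change Tr.mor₃ ≫ (shiftFunctor (Dual.D A) (1 : ℤ)).map d₁.hom ≫
      (DerivedCategory.Q.commShiftIso (1 : ℤ)).inv.app C₁ = _
    rw [reassoc_of% h', Iso.hom_inv_id_app]
    erw [Category.comp_id]
  have sq₂ : (LTen₂ A).map (Prod.mkHom Tr.mor₂ (𝟙 X)) ≫ a₃.hom =
      a₂.hom ≫ DerivedCategory.Q.map ((CochainComplex.mappingCone.inr φ) ▷ Y) := by
    have h1 : (LTen₂ A).map (Prod.mkHom Tr.mor₂ (𝟙 X)) ≫ (LTen₂ A).map (Prod.mkHom d₃.hom e'.hom) =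
        (LTen₂ A).map (Prod.mkHom d₂.hom e'.hom) ≫
          (LTen₂ A).map (Prod.mkHom (DerivedCategory.Q.map (CochainComplex.mappingCone.inr φ))
            (𝟙 (DerivedCategory.Q.obj Y))) := by
      rw [← Functor.map_comp, ← Functor.map_comp]
      congr 1
      change Prod.mkHom (Tr.mor₂ ≫ d₃.hom) (𝟙 X ≫ e'.hom) = Prod.mkHom (d₂.hom ≫ _) (e'.hom ≫ 𝟙 _)
      rw [hc₂, Category.id_comp, Category.comp_id]
    change (LTen₂ A).map (Prod.mkHom Tr.mor₂ (𝟙 X)) ≫ (LTen₂ A).map (Prod.mkHom d₃.hom e'.hom) ≫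
      (ε A).app (CochainComplex.mappingCone φ, Y) =
      ((LTen₂ A).map (Prod.mkHom d₂.hom e'.hom) ≫ (ε A).app (C₂, Y)) ≫ _
    rw [reassoc_of% h1, ε_naturality_left, Category.assoc]
  have sq₃ : (LTen₂ A).map (Prod.mkHom Tr.mor₃ (𝟙 X)) ≫ a₁.hom =
      a₃.hom ≫ DerivedCategory.Q.map (δ ▷ Y) := by
    have h1 : (LTen₂ A).map (Prod.mkHom Tr.mor₃ (𝟙 X)) ≫ (LTen₂ A).map (Prod.mkHom b₁.hom e'.hom) =
        (LTen₂ A).map (Prod.mkHom d₃.hom e'.hom) ≫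
          (LTen₂ A).map (Prod.mkHom (DerivedCategory.Q.map δ)
            (𝟙 (DerivedCategory.Q.obj Y))) := by
      rw [← Functor.map_comp, ← Functor.map_comp]
      congr 1
      change Prod.mkHom (Tr.mor₃ ≫ b₁.hom) (𝟙 X ≫ e'.hom) = Prod.mkHom (d₃.hom ≫ _) (e'.hom ≫ 𝟙 _)
      rw [hc₃, Category.id_comp, Category.comp_id]
    change (LTen₂ A).map (Prod.mkHom Tr.mor₃ (𝟙 X)) ≫ (LTen₂ A).map (Prod.mkHom b₁.hom e'.hom) ≫
      (ε A).app (C₁⟦(1 : ℤ)⟧, Y) =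
      ((LTen₂ A).map (Prod.mkHom d₃.hom e'.hom) ≫ (ε A).app (CochainComplex.mappingCone φ, Y)) ≫ _
    rw [reassoc_of% h1, ε_naturality_left, Category.assoc]
  -- exactness of the distinguished triangle of the short exact sequence
  have hy2 : y ≫ (LTen₂ A).map (Prod.mkHom Tr.mor₃ (𝟙 X)) = 0 := hy
  have hy3 : y ≫ a₃.hom ≫ DerivedCategory.Q.map (δ ▷ Y) = 0 := by
    rw [← sq₃, reassoc_of% hy2, zero_comp]
  have hy' : (y ≫ a₃.hom) ≫ (triangleOfSES hS).mor₂ = 0 := by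
    rw [Category.assoc]
    exact hy3
  obtain ⟨x', hx''⟩ : ∃ x' : T ⟶ DerivedCategory.Q.obj (C₂ ⊗ Y),
      y ≫ a₃.hom = x' ≫ DerivedCategory.Q.map ((CochainComplex.mappingCone.inr φ) ▷ Y) :=
    Triangle.coyoneda_exact₂ _ hdist (y ≫ a₃.hom) hy'
  refine ⟨x' ≫ a₂.inv, ?_⟩
  change (x' ≫ a₂.inv) ≫ (LTen₂ A).map (Prod.mkHom Tr.mor₂ (𝟙 X)) = y
  have h3 : a₂.inv ≫ (LTen₂ A).map (Prod.mkHom Tr.mor₂ (𝟙 X)) =
      DerivedCategory.Q.map ((CochainComplex.mappingCone.inr φ) ▷ Y) ≫ a₃.inv := by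
    rw [Iso.inv_comp_eq, ← Category.assoc, ← sq₂, Category.assoc, Iso.hom_inv_id, Category.comp_id]
  rw [Category.assoc, h3, ← Category.assoc, ← hx'', Category.assoc, Iso.hom_inv_id, Category.comp_id]

end DTenF

end Groth.Agent.Lib.Helper18.DR
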