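import Mathlib
import Groth.Agent.Lib.Helper18.DTenF

/-!
# `K ⊗^L RHom(M, L) ⟶ RHom(M, K ⊗^L L)` is an isomorphism for perfect `K` (helper18)
-/

set_option autoImplicit false
set_option linter.style.haveILetI false
universe u
open CategoryTheory CategoryTheory.Limits CategoryTheory.Pretriangulated MonoidalCategory
  DerivedCategory HomologicalComplex

attribute [local instance] HasDerivedCategory.standard

namespace Groth.Agent.Lib.Helper18.DR

namespace DTenG

open DTen DTenE DTenF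

variable {A : Type u} [CommRing A]

section chain

/-- chain level: `(𝟙_⟦j⟧) ⊗ Y ≅ Y⟦j⟧` -/
noncomputable def unitShiftTensorIso (j : ℤ) (Y : DRing.Cx A) :
    ((𝟙_ (DRing.Cx A))⟦j⟧) ⊗ Y ≅ Y⟦j⟧ :=
  CochainComplex.mapBifunctorShift₁Iso (𝟙_ (DRing.Cx A)) Y (curriedTensor (ModuleCat.{u} A)) j ≪≫
    (shiftFunctor (DRing.Cx A) j).mapIso (λ_ Y)

lemma unitShiftTensorIso_naturality (j : ℤ) {Y Y' : DRing.Cx A} (g : Y ⟶ Y') :
    (((𝟙_ (DRing.Cx A))⟦j⟧) ◁ g) ≫ (unitShiftTensorIso j Y').hom =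
      (unitShiftTensorIso j Y).hom ≫ g⟦j⟧' := by
  have h1 := NatTrans.shift_app_comm
    ((curriedTensor (ModuleCat.{u} A)).map₂CochainComplex.flip.map g) j (𝟙_ (DRing.Cx A))
  have h2 : (𝟙_ (DRing.Cx A) ◁ g) ≫ (λ_ Y').hom = (λ_ Y).hom ≫ g :=
    MonoidalCategory.leftUnitor_naturality g
  have h1' : (CochainComplex.mapBifunctorShift₁Iso (𝟙_ (DRing.Cx A)) Y
        (curriedTensor (ModuleCat.{u} A)) j).hom ≫ (𝟙_ (DRing.Cx A) ◁ g)⟦j⟧' =
      (((𝟙_ (DRing.Cx A))⟦j⟧) ◁ g) ≫ (CochainComplex.mapBifunctorShift₁Iso (𝟙_ (DRing.Cx A)) Y'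
        (curriedTensor (ModuleCat.{u} A)) j).hom := h1
  dsimp [unitShiftTensorIso]
  rw [← Category.assoc, ← h1', Category.assoc, Category.assoc, ← Functor.map_comp,
    ← Functor.map_comp, h2]

end chain

section base

variable [HasLTen A]

instance : Projective (𝟙_ (ModuleCat.{u} A)) :=
  (IsProjective.iff_projective (R := A) (P := A)).1 inferInstance

instance isKProjective_unit : (𝟙_ (DRing.Cx A)).IsKProjective :=
  isKProjective_single 0 (𝟙_ (ModuleCat.{u} A))

/-- `Q(𝟙_⟦j⟧) ⊗^L Q(Y) ≅ (Q Y)⟦j⟧`, natural in the complex `Y` -/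
noncomputable def shiftL₀ (j : ℤ) :
    DerivedCategory.Q ⋙ (LTen A).obj (DerivedCategory.Q.obj ((𝟙_ (DRing.Cx A))⟦j⟧)) ≅
      DerivedCategory.Q ⋙ shiftFunctor (Dual.D A) j :=
  NatIso.ofComponents (fun Y =>
    @asIso _ _ _ _ ((ε A).app ((𝟙_ (DRing.Cx A))⟦j⟧, Y)) (DTenB.isIso_ε_app_left _ Y) ≪≫
      DerivedCategory.Q.mapIso (unitShiftTensorIso j Y) ≪≫
        (DerivedCategory.Q.commShiftIso j).app Y)
    (fun {Y Y'} g => by
      have h1 := ε_naturality_right ((𝟙_ (DRing.Cx A))⟦j⟧) g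
      have h2 := unitShiftTensorIso_naturality j g
      have h3 := (DerivedCategory.Q.commShiftIso j).hom.naturality g
      change (LTen₂ A).map (Prod.mkHom (𝟙 _) (DerivedCategory.Q.map g)) ≫
        (ε A).app ((𝟙_ (DRing.Cx A))⟦j⟧, Y') ≫ DerivedCategory.Q.map (unitShiftTensorIso j Y').hom ≫
          (DerivedCategory.Q.commShiftIso j).hom.app Y' =
        ((ε A).app ((𝟙_ (DRing.Cx A))⟦j⟧, Y) ≫ DerivedCategory.Q.map (unitShiftTensorIso j Y).hom ≫
          (DerivedCategory.Q.commShiftIso j).hom.app Y) ≫ (DerivedCategory.Q.map g)⟦j⟧'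
      rw [reassoc_of% h1, ← Functor.map_comp_assoc, h2, Functor.map_comp_assoc]
      simp only [Category.assoc]
      congr 2)

/-- `A[0]⟦j⟧ ⊗^L - ≅ (-)⟦j⟧` -/
noncomputable def shiftLIso (j : ℤ) :
    (LTen A).obj ((unit A)⟦j⟧) ≅ shiftFunctor (Dual.D A) j :=
  (LTen A).mapIso (show (unit A)⟦j⟧ ≅ DerivedCategory.Q.obj ((𝟙_ (DRing.Cx A))⟦j⟧) from
      ((DerivedCategory.Q.commShiftIso j).app (𝟙_ (DRing.Cx A))).symm) ≪≫
    Localization.liftNatIso DerivedCategory.Q (qis A)
      (DerivedCategory.Q ⋙ (LTen A).obj (DerivedCategory.Q.obj ((𝟙_ (DRing.Cx A))⟦j⟧)))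
      (DerivedCategory.Q ⋙ shiftFunctor (Dual.D A) j)
      ((LTen A).obj (DerivedCategory.Q.obj ((𝟙_ (DRing.Cx A))⟦j⟧)))
      (shiftFunctor (Dual.D A) j) (shiftL₀ j)

instance isEquivalence_LTen_unit_shift (j : ℤ) : ((LTen A).obj ((unit A)⟦j⟧)).IsEquivalence :=
  Functor.isEquivalence_of_iso (shiftLIso j).symm

end base

section main

variable [HasLTen A] [HasLTen₃ A] [IsSymMonoidal A]

/-- the associator as a natural isomorphism of functors of the triple -/
noncomputable def assocNatIso : LTenL A ≅ LTenR A :=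
  asIso (assocL A) ≪≫ (asIso (assocR A)).symm

lemma assocNatIso_hom_app (a b c : Dual.D A) :
    (assocNatIso (A := A)).hom.app (a, (b, c)) = (DTen.associator a b c).hom := rfl

lemma associator_naturality {a a' b b' c c' : Dual.D A} (f : a ⟶ a') (g : b ⟶ b') (h : c ⟶ c') :
    (LTen₂ A).map (Prod.mkHom ((LTen₂ A).map (Prod.mkHom f g)) h) ≫ (DTen.associator a' b' c').hom =
      (DTen.associator a b c).hom ≫
        (LTen₂ A).map (Prod.mkHom f ((LTen₂ A).map (Prod.mkHom g h))) := by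
  have := (assocNatIso (A := A)).hom.naturality
    (X := (a, (b, c))) (Y := (a', (b', c'))) (Prod.mkHom f (Prod.mkHom g h))
  rw [assocNatIso_hom_app, assocNatIso_hom_app] at this
  exact this

variable [HasRHom A]

/-- `evalTen` as a natural transformation in `K` -/
noncomputable def evalTenNat (L M : Dual.D A) :
    tensorRightD A ((RHomR A M).obj L) ⟶ tensorRightD A L ⋙ RHomR A M where
  app K := evalTen K L M
  naturality K K' k := by
    change (LTen₂ A).map (Prod.mkHom k (𝟙 _)) ≫ (rhomAdj A M).homEquiv _ _ (evalTenAux K' L M) =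
      (rhomAdj A M).homEquiv _ _ (evalTenAux K L M) ≫
        (RHomR A M).map ((LTen₂ A).map (Prod.mkHom k (𝟙 L)))
    rw [← Adjunction.homEquiv_naturality_right, ← Adjunction.homEquiv_naturality_left]
    congr 1
    change (LTen₂ A).map (Prod.mkHom ((LTen₂ A).map (Prod.mkHom k (𝟙 _))) (𝟙 M)) ≫
      (DTen.associator K' ((RHomR A M).obj L) M).hom ≫ (LTen₂ A).map (Prod.mkHom (𝟙 K') (ev M L)) =
      ((DTen.associator K ((RHomR A M).obj L) M).hom ≫ (LTen₂ A).map (Prod.mkHom (𝟙 K) (ev M L))) ≫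
        (LTen₂ A).map (Prod.mkHom k (𝟙 L))
    rw [← Category.assoc, associator_naturality, Category.assoc, Category.assoc,
      ← Functor.map_comp, ← Functor.map_comp]
    congr 2
    change Prod.mkHom (k ≫ 𝟙 K') ((LTen₂ A).map (Prod.mkHom (𝟙 _) (𝟙 M)) ≫ ev M L) =
      Prod.mkHom (𝟙 K ≫ k) (ev M L ≫ 𝟙 L)
    rw [Category.comp_id, Category.id_comp, Category.comp_id]
    congr 1
    have : (Prod.mkHom (𝟙 ((RHomR A M).obj L)) (𝟙 M)) = 𝟙 ((RHomR A M).obj L, M) := rfl
    rw [this, CategoryTheory.Functor.map_id, Category.id_comp]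

/-- composing a hom-exact functor with a right adjoint gives a hom-exact functor -/
lemma homExact_comp_rightAdjoint {G : Dual.D A ⥤ Dual.D A} (hG : HomExact G)
    {Fl Rr : Dual.D A ⥤ Dual.D A} (adj : Fl ⊣ Rr) : HomExact (G ⋙ Rr) := by
  haveI : Fl.IsLeftAdjoint := adj.isLeftAdjoint
  intro Tr hTr T y hy
  have hy' : y ≫ Rr.map (G.map Tr.mor₃) = 0 := hy
  have h1 : (adj.homEquiv T _).symm y ≫ G.map Tr.mor₃ = 0 := by
    rw [← Adjunction.homEquiv_naturality_right_symm, hy', Adjunction.homEquiv_counit,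
      Functor.map_zero, zero_comp]
  obtain ⟨x', hx'⟩ := hG Tr hTr (Fl.obj T) _ h1
  refine ⟨adj.homEquiv T _ x', ?_⟩
  change adj.homEquiv T _ x' ≫ Rr.map (G.map Tr.mor₂) = y
  rw [← Adjunction.homEquiv_naturality_right, hx', Equiv.apply_symm_apply]

/-- if `K ⊗^L -` is an equivalence then `evalTen K L M` is an isomorphism -/
theorem isIso_evalTen_of_isEquivalence (K L M : Dual.D A) [((LTen A).obj K).IsEquivalence] :
    IsIso (evalTen K L M) := by
  let F := (LTen A).obj K
  let R := (RHomR A M).obj L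
  let adj := rhomAdj A M
  let Fl := tensorRightD A M
  refine isIso_of_yoneda_map_bijective _ (fun T => ?_)
  let H := F.objPreimage T
  let u : F.obj H ≅ T := F.objObjPreimageIso T
  let α := DTen.associator K H M
  have key : ∀ h : H ⟶ R, (u.inv ≫ F.map h) ≫ evalTen K L M =
      adj.homEquiv T _ (Fl.map u.inv ≫ α.hom ≫ F.map ((adj.homEquiv H L).symm h)) := by
    intro h
    change (u.inv ≫ F.map h) ≫ adj.homEquiv _ _ (evalTenAux K L M) = _
    rw [← Adjunction.homEquiv_naturality_left]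
    congr 1
    rw [Functor.map_comp, Category.assoc]
    congr 1
    change (LTen₂ A).map (Prod.mkHom ((LTen₂ A).map (Prod.mkHom (𝟙 K) h)) (𝟙 M)) ≫
      (DTen.associator K R M).hom ≫ (LTen₂ A).map (Prod.mkHom (𝟙 K) (ev M L)) =
      (DTen.associator K H M).hom ≫ (LTen₂ A).map (Prod.mkHom (𝟙 K) ((adj.homEquiv H L).symm h))
    rw [← Category.assoc, associator_naturality, Category.assoc, ← Functor.map_comp]
    congr 2
  constructor
  · intro g₁ g₂ hg
    have hg' : g₁ ≫ evalTen K L M = g₂ ≫ evalTen K L M := hg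
    have e₁ : g₁ = u.inv ≫ F.map (F.preimage (u.hom ≫ g₁)) := by
      rw [F.map_preimage, Iso.inv_hom_id_assoc]
    have e₂ : g₂ = u.inv ≫ F.map (F.preimage (u.hom ≫ g₂)) := by
      rw [F.map_preimage, Iso.inv_hom_id_assoc]
    rw [e₁, e₂, key, key] at hg'
    have h2 := (adj.homEquiv T _).injective hg'
    have h3 : F.map ((adj.homEquiv H L).symm (F.preimage (u.hom ≫ g₁))) =
        F.map ((adj.homEquiv H L).symm (F.preimage (u.hom ≫ g₂))) := by
      have h4 := (cancel_epi (Fl.map u.inv)).1 h2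
      exact (cancel_epi α.hom).1 h4
    have h5 := (adj.homEquiv H L).symm.injective (F.map_injective h3)
    rw [e₁, e₂, h5]
  · intro z
    let z' := (adj.homEquiv T _).symm z
    let k : Fl.obj H ⟶ L := F.preimage (α.inv ≫ Fl.map u.hom ≫ z')
    refine ⟨u.inv ≫ F.map (adj.homEquiv H L k), ?_⟩
    change (u.inv ≫ F.map (adj.homEquiv H L k)) ≫ evalTen K L M = z
    rw [key, Equiv.symm_apply_apply, F.map_preimage, Iso.hom_inv_id_assoc,
      ← Functor.map_comp_assoc, Iso.inv_hom_id, CategoryTheory.Functor.map_id, Category.id_comp]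
    exact Equiv.apply_symm_apply _ z

/-- **evalTen is an isomorphism for perfect `K`.** -/
theorem isIso_evalTen_of_isPerfect (K L M : Dual.D A) (hK : DRing.IsPerfect A K) :
    IsIso (evalTen K L M) := by
  have h := isIso_app_of_isPerfect (homExact_tensorRightD ((RHomR A M).obj L))
    (homExact_comp_rightAdjoint (homExact_tensorRightD L) (rhomAdj A M)) (evalTenNat L M)
    (fun j => by
      change IsIso (evalTen ((unit A)⟦j⟧) L M)
      exact isIso_evalTen_of_isEquivalence _ L M) K hK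
  exact h

end main

end DTenG

end Groth.Agent.Lib.Helper18.DR
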