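import Mathlib
import Groth.Agent.Lib.Helper18.DTenF
import Groth.Prelude.Def_DTen3

/-!
# Composable pairs isomorphic to two maps of a distinguished triangle; tensoring (helper18)
-/

set_option autoImplicit false
set_option linter.style.haveILetI false
universe u
open CategoryTheory CategoryTheory.Limits CategoryTheory.Pretriangulated MonoidalCategory
  DerivedCategory HomologicalComplex

attribute [local instance] HasDerivedCategory.standard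

namespace Groth.Agent.Lib.Helper18.DR

namespace DistPair

section general

variable {C : Type*} [Category C] [HasZeroObject C] [HasShift C ℤ] [Preadditive C]
  [∀ n : ℤ, (shiftFunctor C n).Additive] [Pretriangulated C]

/-- a composable pair isomorphic to the first two maps of a distinguished triangle -/
def IsDistPair {X Y Z : C} (f : X ⟶ Y) (g : Y ⟶ Z) : Prop :=
  ∃ (Tr : Triangle C) (_ : Tr ∈ distTriang C) (a : X ≅ Tr.obj₁) (b : Y ≅ Tr.obj₂)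
    (c : Z ≅ Tr.obj₃), f ≫ b.hom = a.hom ≫ Tr.mor₁ ∧ g ≫ c.hom = b.hom ≫ Tr.mor₂

variable {X Y Z X' Y' Z' : C} {f : X ⟶ Y} {g : Y ⟶ Z} {f' : X' ⟶ Y'} {g' : Y' ⟶ Z'}

lemma IsDistPair.of_iso (h : IsDistPair f g) (a : X' ≅ X) (b : Y' ≅ Y) (c : Z' ≅ Z)
    (h1 : f' ≫ b.hom = a.hom ≫ f) (h2 : g' ≫ c.hom = b.hom ≫ g) : IsDistPair f' g' := by
  obtain ⟨Tr, hTr, a₀, b₀, c₀, e1, e2⟩ := h
  refine ⟨Tr, hTr, a ≪≫ a₀, b ≪≫ b₀, c ≪≫ c₀, ?_, ?_⟩
  · rw [Iso.trans_hom, Iso.trans_hom, ← Category.assoc, h1, Category.assoc, e1, Category.assoc]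
  · rw [Iso.trans_hom, Iso.trans_hom, ← Category.assoc, h2, Category.assoc, e2, Category.assoc]

lemma IsDistPair.coyoneda_exact (h : IsDistPair f g) {T : C} (y : T ⟶ Y) (hy : y ≫ g = 0) :
    ∃ x : T ⟶ X, x ≫ f = y := by
  obtain ⟨Tr, hTr, a, b, c, e1, e2⟩ := h
  have hy' : (y ≫ b.hom) ≫ Tr.mor₂ = 0 := by
    rw [Category.assoc, ← e2, reassoc_of% hy, zero_comp]
  obtain ⟨x', hx'⟩ := Triangle.coyoneda_exact₂ _ hTr (y ≫ b.hom) hy'
  refine ⟨x' ≫ a.inv, ?_⟩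
  have e1' : a.inv ≫ f = Tr.mor₁ ≫ b.inv := by
    rw [Iso.inv_comp_eq, ← Category.assoc, ← e1, Category.assoc, Iso.hom_inv_id, Category.comp_id]
  rw [Category.assoc, e1', ← Category.assoc, ← hx', Category.assoc, Iso.hom_inv_id,
    Category.comp_id]

lemma IsDistPair.yoneda_exact (h : IsDistPair f g) {T : C} (y : Y ⟶ T) (hy : f ≫ y = 0) :
    ∃ x : Z ⟶ T, g ≫ x = y := by
  obtain ⟨Tr, hTr, a, b, c, e1, e2⟩ := h
  have hy' : Tr.mor₁ ≫ (b.inv ≫ y) = 0 := by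
    have : Tr.mor₁ ≫ b.inv = a.inv ≫ f := by
      rw [Iso.eq_inv_comp, ← Category.assoc, ← e1, Category.assoc, Iso.hom_inv_id,
        Category.comp_id]
    rw [← Category.assoc, this, Category.assoc, hy, comp_zero]
  obtain ⟨x', hx'⟩ := Triangle.yoneda_exact₂ _ hTr (b.inv ≫ y) hy'
  refine ⟨c.hom ≫ x', ?_⟩
  rw [← Category.assoc, e2, Category.assoc, ← hx', Iso.hom_inv_id_assoc]

lemma isDistPair_mor₁₂ (Tr : Triangle C) (hTr : Tr ∈ distTriang C) :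
    IsDistPair Tr.mor₁ Tr.mor₂ :=
  ⟨Tr, hTr, Iso.refl _, Iso.refl _, Iso.refl _, by simp, by simp⟩

lemma isDistPair_mor₂₃ (Tr : Triangle C) (hTr : Tr ∈ distTriang C) :
    IsDistPair Tr.mor₂ Tr.mor₃ :=
  ⟨Tr.rotate, rot_of_distTriang _ hTr, Iso.refl _, Iso.refl _, Iso.refl _,
    by erw [Category.comp_id, Category.id_comp]; rfl,
    by erw [Category.comp_id, Category.id_comp]; rfl⟩

/-- a distinguished pair is also isomorphic to the last two maps of a distinguished triangle -/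
lemma IsDistPair.exists_mor₂₃ (h : IsDistPair f g) :
    ∃ (Tr : Triangle C) (_ : Tr ∈ distTriang C) (a : X ≅ Tr.obj₂) (b : Y ≅ Tr.obj₃)
      (c : Z ≅ Tr.obj₁⟦(1 : ℤ)⟧), f ≫ b.hom = a.hom ≫ Tr.mor₂ ∧ g ≫ c.hom = b.hom ≫ Tr.mor₃ := by
  obtain ⟨Tr, hTr, a, b, c, e1, e2⟩ := h
  refine ⟨Tr.invRotate, inv_rot_of_distTriang _ hTr, a, b,
    c ≪≫ ((shiftEquiv C (1 : ℤ)).counitIso.app Tr.obj₃).symm, e1, ?_⟩
  change g ≫ c.hom ≫ (shiftEquiv C (1 : ℤ)).counitIso.inv.app Tr.obj₃ =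
    b.hom ≫ Tr.mor₂ ≫ (shiftEquiv C (1 : ℤ)).counitIso.inv.app Tr.obj₃
  rw [reassoc_of% e2]

end general

section tensor

open DTen DTenE Groth.Agent.Lib.Helper2.Tot Groth.Agent.Lib.Helper2.Tot.DR DTenF

variable {A : Type u} [CommRing A] [HasLTen A]

/-- **Lemma E, strong form**: `- ⊗^L X` sends the last two maps of a distinguished triangle to a
distinguished pair. -/
theorem isDistPair_tensorRight_mor₂₃ (Tr : Triangle (Dual.D A)) (hTr : Tr ∈ distTriang (Dual.D A))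
    (X : Dual.D A) :
    IsDistPair ((tensorRightD A X).map Tr.mor₂) ((tensorRightD A X).map Tr.mor₃) := by
  obtain ⟨Y, hY, -, ⟨e⟩⟩ := exists_kprojective_resolution X
  haveI := hY
  obtain ⟨C₁, C₂, φ, ⟨eT⟩⟩ : ∃ (C₁ C₂ : DRing.Cx A) (φ : C₁ ⟶ C₂),
      Nonempty (Tr ≅ DerivedCategory.Q.mapTriangle.obj (CochainComplex.mappingCone.triangle φ)) :=
    (DerivedCategory.mem_distTriang_iff Tr).1 hTr
  have hS := shortExact_rotate_tensor φ Y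
  have hdist := triangleOfSES_distinguished hS
  haveI i₂ : IsIso ((ε A).app (C₂, Y)) := DTenB.isIso_ε_app_right C₂ Y
  haveI i₃ : IsIso ((ε A).app (CochainComplex.mappingCone φ, Y)) :=
    DTenB.isIso_ε_app_right (CochainComplex.mappingCone φ) Y
  haveI i₁ : IsIso ((ε A).app (C₁⟦(1 : ℤ)⟧, Y)) := DTenB.isIso_ε_app_right (C₁⟦(1 : ℤ)⟧) Y
  let δ : CochainComplex.mappingCone φ ⟶ C₁⟦(1 : ℤ)⟧ :=
    (CochainComplex.mappingCone.triangle φ).mor₃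
  let d₂ : Tr.obj₂ ≅ DerivedCategory.Q.obj C₂ := Triangle.π₂.mapIso eT
  let d₃ : Tr.obj₃ ≅ DerivedCategory.Q.obj (CochainComplex.mappingCone φ) := Triangle.π₃.mapIso eT
  let d₁ : Tr.obj₁ ≅ DerivedCategory.Q.obj C₁ := Triangle.π₁.mapIso eT
  let e' : X ≅ DerivedCategory.Q.obj Y := e.symm
  let b₁ : Tr.obj₁⟦(1 : ℤ)⟧ ≅ DerivedCategory.Q.obj (C₁⟦(1 : ℤ)⟧) :=
    (shiftFunctor (Dual.D A) (1 : ℤ)).mapIso d₁ ≪≫
      ((DerivedCategory.Q.commShiftIso (1 : ℤ)).app C₁).symm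
  let c₂ : (LTen₂ A).obj (DerivedCategory.Q.obj C₂, DerivedCategory.Q.obj Y) ≅
      DerivedCategory.Q.obj (C₂ ⊗ Y) := @asIso _ _ _ _ ((ε A).app (C₂, Y)) i₂
  let c₃ : (LTen₂ A).obj (DerivedCategory.Q.obj (CochainComplex.mappingCone φ),
      DerivedCategory.Q.obj Y) ≅ DerivedCategory.Q.obj (CochainComplex.mappingCone φ ⊗ Y) :=
    @asIso _ _ _ _ ((ε A).app (CochainComplex.mappingCone φ, Y)) i₃
  let c₁ : (LTen₂ A).obj (DerivedCategory.Q.obj (C₁⟦(1 : ℤ)⟧), DerivedCategory.Q.obj Y) ≅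
      DerivedCategory.Q.obj ((C₁⟦(1 : ℤ)⟧) ⊗ Y) := @asIso _ _ _ _ ((ε A).app (C₁⟦(1 : ℤ)⟧, Y)) i₁
  let a₂ : (LTen₂ A).obj (Tr.obj₂, X) ≅ DerivedCategory.Q.obj (C₂ ⊗ Y) :=
    (LTen₂ A).mapIso (Iso.prod d₂ e') ≪≫ c₂
  let a₃ : (LTen₂ A).obj (Tr.obj₃, X) ≅
      DerivedCategory.Q.obj (CochainComplex.mappingCone φ ⊗ Y) :=
    (LTen₂ A).mapIso (Iso.prod d₃ e') ≪≫ c₃
  let a₁ : (LTen₂ A).obj (Tr.obj₁⟦(1 : ℤ)⟧, X) ≅ DerivedCategory.Q.obj ((C₁⟦(1 : ℤ)⟧) ⊗ Y) :=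
    (LTen₂ A).mapIso (Iso.prod b₁ e') ≪≫ c₁
  have hc₂ : Tr.mor₂ ≫ d₃.hom = d₂.hom ≫ DerivedCategory.Q.map (CochainComplex.mappingCone.inr φ) :=
    eT.hom.comm₂
  have hc₃ : Tr.mor₃ ≫ b₁.hom = d₃.hom ≫ DerivedCategory.Q.map δ := by
    have h := eT.hom.comm₃
    have h' : Tr.mor₃ ≫ (shiftFunctor (Dual.D A) (1 : ℤ)).map d₁.hom =
        d₃.hom ≫ DerivedCategory.Q.map δ ≫
          (DerivedCategory.Q.commShiftIso (1 : ℤ)).hom.app C₁ := h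
    change Tr.mor₃ ≫ (shiftFunctor (Dual.D A) (1 : ℤ)).map d₁.hom ≫
      (DerivedCategory.Q.commShiftIso (1 : ℤ)).inv.app C₁ = _
    rw [reassoc_of% h', Iso.hom_inv_id_app]
    erw [Category.comp_id]
  have sq₂ : (LTen₂ A).map (Prod.mkHom Tr.mor₂ (𝟙 X)) ≫ a₃.hom =
      a₂.hom ≫ DerivedCategory.Q.map ((CochainComplex.mappingCone.inr φ) ▷ Y) := by
    have h1 : (LTen₂ A).map (Prod.mkHom Tr.mor₂ (𝟙 X)) ≫ (LTen₂ A).map (Prod.mkHom d₃.hom e'.hom) =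
        (LTen₂ A).map (Prod.mkHom d₂.hom e'.hom) ≫
          (LTen₂ A).map (Prod.mkHom (DerivedCategory.Q.map (CochainComplex.mappingCone.inr φ))
            (𝟙 (DerivedCategory.Q.obj Y))) := by
      rw [← Functor.map_comp, ← Functor.map_comp]
      congr 1
      change Prod.mkHom (Tr.mor₂ ≫ d₃.hom) (𝟙 X ≫ e'.hom) = Prod.mkHom (d₂.hom ≫ _) (e'.hom ≫ 𝟙 _)
      rw [hc₂, Category.id_comp, Category.comp_id]
    change (LTen₂ A).map (Prod.mkHom Tr.mor₂ (𝟙 X)) ≫ (LTen₂ A).map (Prod.mkHom d₃.hom e'.hom) ≫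
      (ε A).app (CochainComplex.mappingCone φ, Y) =
      ((LTen₂ A).map (Prod.mkHom d₂.hom e'.hom) ≫ (ε A).app (C₂, Y)) ≫ _
    rw [reassoc_of% h1, ε_naturality_left, Category.assoc]
  have sq₃ : (LTen₂ A).map (Prod.mkHom Tr.mor₃ (𝟙 X)) ≫ a₁.hom =
      a₃.hom ≫ DerivedCategory.Q.map (δ ▷ Y) := by
    have h1 : (LTen₂ A).map (Prod.mkHom Tr.mor₃ (𝟙 X)) ≫ (LTen₂ A).map (Prod.mkHom b₁.hom e'.hom) =
        (LTen₂ A).map (Prod.mkHom d₃.hom e'.hom) ≫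
          (LTen₂ A).map (Prod.mkHom (DerivedCategory.Q.map δ)
            (𝟙 (DerivedCategory.Q.obj Y))) := by
      rw [← Functor.map_comp, ← Functor.map_comp]
      congr 1
      change Prod.mkHom (Tr.mor₃ ≫ b₁.hom) (𝟙 X ≫ e'.hom) = Prod.mkHom (d₃.hom ≫ _) (e'.hom ≫ 𝟙 _)
      rw [hc₃, Category.id_comp, Category.comp_id]
    change (LTen₂ A).map (Prod.mkHom Tr.mor₃ (𝟙 X)) ≫ (LTen₂ A).map (Prod.mkHom b₁.hom e'.hom) ≫
      (ε A).app (C₁⟦(1 : ℤ)⟧, Y) =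
      ((LTen₂ A).map (Prod.mkHom d₃.hom e'.hom) ≫ (ε A).app (CochainComplex.mappingCone φ, Y)) ≫ _
    rw [reassoc_of% h1, ε_naturality_left, Category.assoc]
  exact ⟨triangleOfSES hS, hdist, a₂, a₃, a₁, sq₂, sq₃⟩

/-- `- ⊗^L X` preserves distinguished pairs -/
theorem IsDistPair.tensorRight {X₁ X₂ X₃ : Dual.D A} {f : X₁ ⟶ X₂} {g : X₂ ⟶ X₃}
    (h : IsDistPair f g) (X : Dual.D A) :
    IsDistPair ((tensorRightD A X).map f) ((tensorRightD A X).map g) := by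
  obtain ⟨Tr, hTr, a, b, c, e1, e2⟩ := h.exists_mor₂₃
  refine (isDistPair_tensorRight_mor₂₃ Tr hTr X).of_iso ((tensorRightD A X).mapIso a)
    ((tensorRightD A X).mapIso b) ((tensorRightD A X).mapIso c) ?_ ?_
  · rw [Functor.mapIso_hom, Functor.mapIso_hom, ← Functor.map_comp, ← Functor.map_comp, e1]
  · rw [Functor.mapIso_hom, Functor.mapIso_hom, ← Functor.map_comp, ← Functor.map_comp, e2]

variable [HasLTen₃ A] [IsSymMonoidal A]

/-- `X ⊗^L -` preserves distinguished pairs -/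
theorem IsDistPair.tensorLeft {X₁ X₂ X₃ : Dual.D A} {f : X₁ ⟶ X₂} {g : X₂ ⟶ X₃}
    (h : IsDistPair f g) (X : Dual.D A) :
    IsDistPair (((LTen A).obj X).map f) (((LTen A).obj X).map g) := by
  have nat : ∀ {Y Y' : Dual.D A} (m : Y ⟶ Y'),
      ((LTen A).obj X).map m ≫ (braiding Y' X).hom =
        (braiding Y X).hom ≫ (tensorRightD A X).map m := by
    intro Y Y' m
    have := (symm A).naturality (Prod.mkHom m (𝟙 X) : (Y, X) ⟶ (Y', X))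
    exact this
  exact (h.tensorRight X).of_iso (braiding _ X) (braiding _ X) (braiding _ X) (nat f) (nat g)

end tensor

end DistPair

end Groth.Agent.Lib.Helper18.DR
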