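import Mathlib
import Groth.Prelude.Def_DRing4

/-!
# Chain-level tensor–Hom adjunction on cochains: uncurrying (helper18)

For complexes `X K L` of `A`-modules, a cochain `z : X ⟶ Hom•(K, L)` of degree `n` gives a cochain
`unc z : X ⊗ K ⟶ L` of degree `n`, compatibly with the differentials `δ`.
-/

set_option autoImplicit false
set_option linter.style.haveILetI false
universe u
open CategoryTheory CategoryTheory.Limits MonoidalCategory HomologicalComplex
  CochainComplex.HomComplex

namespace Groth.Agent.Lib.Helper18.DR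

namespace HomCx

variable {A : Type u} [CommRing A] (X K L : DRing.Cx A)

/-- the differential of the tensor product on a summand -/
lemma ι_d (p q m : ℤ) (h : p + q = m) (m' : ℤ) (hm : m + 1 = m') :
    ιMapBifunctor X K (curriedTensor (ModuleCat.{u} A)) (ComplexShape.up ℤ) p q m h ≫
      (mapBifunctor X K (curriedTensor (ModuleCat.{u} A)) (ComplexShape.up ℤ)).d m m' =
    (X.d p (p + 1) ▷ K.X q) ≫
        ιMapBifunctor X K (curriedTensor (ModuleCat.{u} A)) (ComplexShape.up ℤ) (p + 1) q m'
          (by change p + 1 + q = m'; omega) +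
      p.negOnePow • ((X.X p ◁ K.d q (q + 1)) ≫
        ιMapBifunctor X K (curriedTensor (ModuleCat.{u} A)) (ComplexShape.up ℤ) p (q + 1) m'
          (by change p + (q + 1) = m'; omega)) := by
  rw [mapBifunctor.d_eq, Preadditive.comp_add, mapBifunctor.ι_D₁, mapBifunctor.ι_D₂,
    mapBifunctor.d₁_eq X K (curriedTensor (ModuleCat.{u} A)) (ComplexShape.up ℤ)
      (show (ComplexShape.up ℤ).Rel p (p + 1) from rfl) q m' (by change p + 1 + q = m'; omega),
    mapBifunctor.d₂_eq X K (curriedTensor (ModuleCat.{u} A)) (ComplexShape.up ℤ) p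
      (show (ComplexShape.up ℤ).Rel q (q + 1) from rfl) m' (by change p + (q + 1) = m'; omega)]
  have h1 : ComplexShape.ε₁ (ComplexShape.up ℤ) (ComplexShape.up ℤ) (ComplexShape.up ℤ) (p, q) = 1 :=
    rfl
  have h2 : ComplexShape.ε₂ (ComplexShape.up ℤ) (ComplexShape.up ℤ) (ComplexShape.up ℤ) (p, q) =
      p.negOnePow := rfl
  rw [h1, h2, one_smul]
  rfl

/-- evaluation of a component of a cochain, as a linear map -/
noncomputable def vLin (N q m : ℤ) (h : q + N = m) :
    Cochain K L N →ₗ[A] (K.X q →ₗ[A] L.X m) where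
  toFun z := (z.v q m h).hom
  map_add' z z' := by simp
  map_smul' a z := by simp

@[simp] lemma vLin_apply (N q m : ℤ) (h : q + N = m) (z : Cochain K L N) (k : K.X q) :
    vLin K L N q m h z k = (z.v q m h).hom k := rfl

variable {X K L}

/-- the component `X^p ⊗ K^q ⟶ L^m` of the uncurried cochain -/
noncomputable def uncComp {n : ℤ} (z : Cochain X (DRing.homCx K L) n) (p p' q m : ℤ)
    (hp : p + n = p') (hq : q + p' = m) : (X.X p) ⊗ (K.X q) ⟶ L.X m :=
  ModuleCat.ofHom (TensorProduct.lift ((vLin K L p' q m hq).comp (z.v p p' hp).hom))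

lemma uncComp_tmul {n : ℤ} (z : Cochain X (DRing.homCx K L) n) (p p' q m : ℤ)
    (hp : p + n = p') (hq : q + p' = m) (x : X.X p) (k : K.X q) :
    (uncComp z p p' q m hp hq).hom (x ⊗ₜ[A] k) =
      (((z.v p p' hp).hom x : Cochain K L p').v q m hq).hom k := rfl

lemma uncComp_congr {n : ℤ} (z : Cochain X (DRing.homCx K L) n) (p p' p'' q m : ℤ)
    (hp : p + n = p') (hq : q + p' = m) (hp' : p + n = p'') (hq' : q + p'' = m) :
    uncComp z p p' q m hp hq = uncComp z p p'' q m hp' hq' := by
  obtain rfl : p' = p'' := by omega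
  rfl

/-- uncurrying of cochains: `Hom^n(X, Hom•(K, L)) → Hom^n(X ⊗ K, L)` -/
noncomputable def unc {n : ℤ} (z : Cochain X (DRing.homCx K L) n) : Cochain (X ⊗ K) L n :=
  Cochain.mk (fun m m' hm => mapBifunctorDesc (fun p q hpq =>
    uncComp z p (p + n) q m' rfl (by
      have h' : p + q = m := hpq
      omega)))

lemma ι_unc_v {n : ℤ} (z : Cochain X (DRing.homCx K L) n) (p p' q m m' : ℤ) (hpq : p + q = m)
    (hm : m + n = m') (hp : p + n = p') :
    ιMapBifunctor X K (curriedTensor (ModuleCat.{u} A)) (ComplexShape.up ℤ) p q m hpq ≫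
      (unc z).v m m' hm = uncComp z p p' q m' hp (by omega) := by
  rw [uncComp_congr z p p' (p + n) q m' hp (by omega) rfl (by omega)]
  dsimp [unc]
  exact ι_mapBifunctorDesc _ _ _ _

/-- elementwise form -/
lemma unc_v_ι_tmul {n : ℤ} (z : Cochain X (DRing.homCx K L) n) (p p' q m m' : ℤ) (hpq : p + q = m)
    (hm : m + n = m') (hp : p + n = p') (x : X.X p) (k : K.X q) :
    ((unc z).v m m' hm).hom
      ((ιMapBifunctor X K (curriedTensor (ModuleCat.{u} A)) (ComplexShape.up ℤ) p q m hpq).hom
        (x ⊗ₜ[A] k)) =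
      (((z.v p p' hp).hom x : Cochain K L p').v q m' (by omega)).hom k := by
  have h := ι_unc_v z p p' q m m' hpq hm hp
  have h2 := congrArg (fun f => f.hom (x ⊗ₜ[A] k)) h
  exact h2

end HomCx

end Groth.Agent.Lib.Helper18.DR
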