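import Mathlib
import Groth.Agent.Lib.Helper18.HomCxA

/-!
# Uncurrying is compatible with differentials (helper18)
-/

set_option autoImplicit false
set_option linter.style.haveILetI false
universe u
open CategoryTheory CategoryTheory.Limits MonoidalCategory HomologicalComplex
  CochainComplex.HomComplex

namespace Groth.Agent.Lib.Helper18.DR

namespace HomCx

variable {A : Type u} [CommRing A] (X K L : DRing.Cx A)

/-- evaluation of a component, on the carrier of the term of the Hom complex -/
noncomputable def evL (N q m : ℤ) (h : q + N = m) :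
    ((DRing.homCx K L).X N) →ₗ[A] (K.X q →ₗ[A] L.X m) := vLin K L N q m h

/-- the terms of the Hom complex are the modules of cochains -/
noncomputable def toCochain (N : ℤ) : ((DRing.homCx K L).X N) ≃ₗ[A] Cochain K L N :=
  LinearEquiv.refl A _

lemma evL_apply (N q m : ℤ) (h : q + N = m) (w : (DRing.homCx K L).X N) (k : K.X q) :
    evL K L N q m h w k = ((toCochain K L N w).v q m h).hom k := rfl

variable {X K L}

lemma toCochain_d (p p' : ℤ) (w : (DRing.homCx K L).X p) :
    toCochain K L p' (((DRing.homCx K L).d p p').hom w) = δ p p' (toCochain K L p w) := rfl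

lemma evL_d (p' p'' q m₁ m'' : ℤ) (hp : p' + 1 = p'') (hq : q + p' = m₁) (hm : m₁ + 1 = m'')
    (w : (DRing.homCx K L).X p') (k : K.X q) :
    evL K L p'' q m'' (by omega) (((DRing.homCx K L).d p' p'').hom w) k =
      (L.d m₁ m'').hom (evL K L p' q m₁ hq w k) +
        p''.negOnePow • evL K L p' (q + 1) m'' (by omega) w ((K.d q (q + 1)).hom k) := by
  rw [evL_apply, evL_apply, evL_apply, toCochain_d,
    δ_v p' p'' hp (toCochain K L p' w) q m'' (by omega) m₁ (q + 1) (by omega) rfl]
  rw [ModuleCat.hom_add, LinearMap.add_apply, ModuleCat.hom_comp, LinearMap.comp_apply]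
  congr 1

lemma units_smul_hom_apply {M N : ModuleCat.{u} A} (u : ℤˣ) (f : M ⟶ N) (x : M) :
    (u • f).hom x = u • f.hom x := by
  rw [Units.smul_def, ModuleCat.hom_zsmul, LinearMap.smul_apply, ← Units.smul_def]

lemma evL_units_smul (N q m : ℤ) (h : q + N = m) (u : ℤˣ) (w : (DRing.homCx K L).X N)
    (k : K.X q) : evL K L N q m h (u • w) k = u • evL K L N q m h w k := by
  rw [Units.smul_def, map_zsmul, LinearMap.smul_apply, ← Units.smul_def]

lemma uncComp_tmul' {n : ℤ} (z : Cochain X (DRing.homCx K L) n) (p p' q m : ℤ)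
    (hp : p + n = p') (hq : q + p' = m) (x : X.X p) (k : K.X q) :
    (uncComp z p p' q m hp hq).hom (x ⊗ₜ[A] k) =
      evL K L p' q m hq ((z.v p p' hp).hom x) k := rfl

lemma uncComp_add {n : ℤ} (z z' : Cochain X (DRing.homCx K L) n) (p p' q m : ℤ)
    (hp : p + n = p') (hq : q + p' = m) :
    uncComp (z + z') p p' q m hp hq = uncComp z p p' q m hp hq + uncComp z' p p' q m hp hq := by
  refine ModuleCat.hom_ext (TensorProduct.ext' (fun x k => ?_))
  rw [ModuleCat.hom_add, LinearMap.add_apply, uncComp_tmul', uncComp_tmul', uncComp_tmul',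
    Cochain.add_v, ModuleCat.hom_add, LinearMap.add_apply, map_add, LinearMap.add_apply]

lemma uncComp_smul {n : ℤ} (a : A) (z : Cochain X (DRing.homCx K L) n) (p p' q m : ℤ)
    (hp : p + n = p') (hq : q + p' = m) :
    uncComp (a • z) p p' q m hp hq = a • uncComp z p p' q m hp hq := by
  refine ModuleCat.hom_ext (TensorProduct.ext' (fun x k => ?_))
  rw [ModuleCat.hom_smul, LinearMap.smul_apply, uncComp_tmul', uncComp_tmul',
    Cochain.smul_v, ModuleCat.hom_smul, LinearMap.smul_apply, map_smul, LinearMap.smul_apply]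

lemma uncComp_δ {n n' : ℤ} (hn : n + 1 = n') (z : Cochain X (DRing.homCx K L) n)
    (p p' p'' q m₁ m'' : ℤ) (hp : p + n = p') (hp'' : p + n' = p'') (hq : q + p' = m₁)
    (hm : m₁ + 1 = m'') :
    uncComp (δ n n' z) p p'' q m'' hp'' (by omega) =
      uncComp z p p' q m₁ hp hq ≫ L.d m₁ m'' +
        n'.negOnePow • ((X.d p (p + 1) ▷ K.X q) ≫
            uncComp z (p + 1) p'' q m'' (by omega) (by omega) +
          p.negOnePow • ((X.X p ◁ K.d q (q + 1)) ≫
            uncComp z p p' (q + 1) m'' hp (by omega))) := by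
  refine ModuleCat.hom_ext (TensorProduct.ext' (fun x k => ?_))
  have e1 : (δ n n' z).v p p'' hp'' = z.v p p' hp ≫ (DRing.homCx K L).d p' p'' +
      n'.negOnePow • X.d p (p + 1) ≫ z.v (p + 1) p'' (by omega) :=
    δ_v n n' hn z p p'' hp'' p' (p + 1) (by omega) rfl
  have e2 : ((δ n n' z).v p p'' hp'').hom x =
      ((DRing.homCx K L).d p' p'').hom ((z.v p p' hp).hom x) +
        n'.negOnePow • (z.v (p + 1) p'' (by omega)).hom ((X.d p (p + 1)).hom x) := by
    rw [e1, ModuleCat.hom_add, LinearMap.add_apply, units_smul_hom_apply]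
    rfl
  have e3 : (uncComp z p p' q m₁ hp hq ≫ L.d m₁ m'' +
        n'.negOnePow • ((X.d p (p + 1) ▷ K.X q) ≫
            uncComp z (p + 1) p'' q m'' (by omega) (by omega) +
          p.negOnePow • ((X.X p ◁ K.d q (q + 1)) ≫
            uncComp z p p' (q + 1) m'' hp (by omega)))).hom (x ⊗ₜ[A] k) =
      (L.d m₁ m'').hom (evL K L p' q m₁ hq ((z.v p p' hp).hom x) k) +
        n'.negOnePow • (evL K L p'' q m'' (by omega)
            ((z.v (p + 1) p'' (by omega)).hom ((X.d p (p + 1)).hom x)) k +
          p.negOnePow • evL K L p' (q + 1) m'' (by omega) ((z.v p p' hp).hom x)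
            ((K.d q (q + 1)).hom k)) := by
    rw [ModuleCat.hom_add, LinearMap.add_apply, units_smul_hom_apply, ModuleCat.hom_add,
      LinearMap.add_apply, units_smul_hom_apply]
    rfl
  rw [e3, uncComp_tmul', e2, map_add, LinearMap.add_apply,
    evL_d p' p'' q m₁ m'' (by omega) hq hm, evL_units_smul, smul_add, smul_smul]
  have hs : p''.negOnePow = n'.negOnePow * p.negOnePow := by
    rw [← hp'', Int.negOnePow_add, mul_comm]
  rw [hs]
  abel

end HomCx

end Groth.Agent.Lib.Helper18.DR
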