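import Mathlib
import Groth.Agent.Lib.Helper18.HomCxB

/-!
# Uncurrying as a linear map commuting with `δ`; currying (helper18)
-/

set_option autoImplicit false
set_option linter.style.haveILetI false
universe u
open CategoryTheory CategoryTheory.Limits MonoidalCategory HomologicalComplex
  CochainComplex.HomComplex

namespace Groth.Agent.Lib.Helper18.DR

namespace HomCx

variable {A : Type u} [CommRing A] {X K L : DRing.Cx A}

lemma cochain_tensor_ext {n : ℤ} (w w' : Cochain (X ⊗ K) L n)
    (h : ∀ (p q m m' : ℤ) (hpq : p + q = m) (hm : m + n = m'),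
      ιMapBifunctor X K (curriedTensor (ModuleCat.{u} A)) (ComplexShape.up ℤ) p q m hpq ≫
        w.v m m' hm =
      ιMapBifunctor X K (curriedTensor (ModuleCat.{u} A)) (ComplexShape.up ℤ) p q m hpq ≫
        w'.v m m' hm) : w = w' := by
  refine Cochain.ext _ _ (fun m m' hm => ?_)
  exact mapBifunctor.hom_ext (fun p q hpq => h p q m m' hpq hm)

lemma unc_add {n : ℤ} (z z' : Cochain X (DRing.homCx K L) n) :
    unc (z + z') = unc z + unc z' := by
  refine cochain_tensor_ext _ _ (fun p q m m' hpq hm => ?_)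
  rw [Cochain.add_v, Preadditive.comp_add, ι_unc_v _ p (p + n) q m m' hpq hm rfl,
    ι_unc_v _ p (p + n) q m m' hpq hm rfl, ι_unc_v _ p (p + n) q m m' hpq hm rfl, uncComp_add]

lemma unc_smul {n : ℤ} (a : A) (z : Cochain X (DRing.homCx K L) n) :
    unc (a • z) = a • unc z := by
  refine cochain_tensor_ext _ _ (fun p q m m' hpq hm => ?_)
  rw [Cochain.smul_v, Linear.comp_smul, ι_unc_v _ p (p + n) q m m' hpq hm rfl,
    ι_unc_v _ p (p + n) q m m' hpq hm rfl, uncComp_smul]

variable (X K L) in
/-- uncurrying as a linear map -/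
noncomputable def uncLin (n : ℤ) : Cochain X (DRing.homCx K L) n →ₗ[A] Cochain (X ⊗ K) L n where
  toFun := unc
  map_add' := unc_add
  map_smul' := unc_smul

@[simp] lemma uncLin_apply {n : ℤ} (z : Cochain X (DRing.homCx K L) n) :
    uncLin X K L n z = unc z := rfl

lemma unc_zero {n : ℤ} : unc (0 : Cochain X (DRing.homCx K L) n) = 0 :=
  (uncLin X K L n).map_zero

lemma ι_d' (p q m : ℤ) (h : p + q = m) (m' : ℤ) (hm : m + 1 = m') :
    ιMapBifunctor X K (curriedTensor (ModuleCat.{u} A)) (ComplexShape.up ℤ) p q m h ≫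
      (X ⊗ K).d m m' =
    (X.d p (p + 1) ▷ K.X q) ≫
        ιMapBifunctor X K (curriedTensor (ModuleCat.{u} A)) (ComplexShape.up ℤ) (p + 1) q m'
          (by change p + 1 + q = m'; omega) +
      p.negOnePow • ((X.X p ◁ K.d q (q + 1)) ≫
        ιMapBifunctor X K (curriedTensor (ModuleCat.{u} A)) (ComplexShape.up ℤ) p (q + 1) m'
          (by change p + (q + 1) = m'; omega)) := ι_d X K p q m h m' hm

lemma δ_unc {n n' : ℤ} (z : Cochain X (DRing.homCx K L) n) :
    δ n n' (unc z) = unc (δ n n' z) := by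
  by_cases hn : n + 1 = n'
  · refine cochain_tensor_ext _ _ (fun p q m m'' hpq hm => ?_)
    rw [ι_unc_v (δ n n' z) p (p + n') q m m'' hpq hm rfl,
      uncComp_δ hn z p (p + n) (p + n') q (m'' - 1) m'' rfl rfl (by omega) (by omega),
      δ_v n n' hn (unc z) m m'' hm (m'' - 1) (m + 1) rfl rfl, Preadditive.comp_add,
      Linear.comp_units_smul, ← Category.assoc, ← Category.assoc,
      ι_unc_v z p (p + n) q m (m'' - 1) hpq (by omega) rfl, ι_d' p q m hpq (m + 1) rfl,
      Preadditive.add_comp, Linear.units_smul_comp, Category.assoc, Category.assoc,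
      ι_unc_v z (p + 1) (p + n') q (m + 1) m'' (by omega) (by omega) (by omega),
      ι_unc_v z p (p + n) (q + 1) (m + 1) m'' (by omega) (by omega) rfl]
  · rw [δ_shape _ _ hn, δ_shape _ _ hn, unc_zero]

end HomCx

end Groth.Agent.Lib.Helper18.DR
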