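import Mathlib
import Groth.Agent.Lib.Helper18.HomCxC

/-!
# Currying; the isomorphism of complexes `Hom•(X, Hom•(K, L)) ≅ Hom•(X ⊗ K, L)` (helper18)
-/

set_option autoImplicit false
set_option linter.style.haveILetI false
universe u
open CategoryTheory CategoryTheory.Limits MonoidalCategory HomologicalComplex
  CochainComplex.HomComplex

namespace Groth.Agent.Lib.Helper18.DR

namespace HomCx

variable {A : Type u} [CommRing A] {X K L : DRing.Cx A}

/-- the component `X^p ⊗ K^q ⟶ L^m` of a cochain on the tensor product -/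
noncomputable def compOf {n : ℤ} (w : Cochain (X ⊗ K) L n) (p q m : ℤ) (h : p + q + n = m) :
    (X.X p) ⊗ (K.X q) ⟶ L.X m :=
  ιMapBifunctor X K (curriedTensor (ModuleCat.{u} A)) (ComplexShape.up ℤ) p q (p + q) rfl ≫
    w.v (p + q) m h

lemma compOf_eq {n : ℤ} (w : Cochain (X ⊗ K) L n) (p q m₀ m : ℤ) (hpq : p + q = m₀)
    (hm : m₀ + n = m) :
    compOf w p q m (by omega) =
      ιMapBifunctor X K (curriedTensor (ModuleCat.{u} A)) (ComplexShape.up ℤ) p q m₀ hpq ≫
        w.v m₀ m hm := by
  subst hpq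
  rfl

lemma compOf_add {n : ℤ} (w w' : Cochain (X ⊗ K) L n) (p q m : ℤ) (h : p + q + n = m) :
    compOf (w + w') p q m h = compOf w p q m h + compOf w' p q m h := by
  simp [compOf]

lemma compOf_smul {n : ℤ} (a : A) (w : Cochain (X ⊗ K) L n) (p q m : ℤ) (h : p + q + n = m) :
    compOf (a • w) p q m h = a • compOf w p q m h := by
  simp [compOf]

/-- the currying of a cochain, as a linear map on a component of `X` -/
noncomputable def curLin {n : ℤ} (w : Cochain (X ⊗ K) L n) (p p' : ℤ) (hp : p + n = p') :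
    X.X p →ₗ[A] Cochain K L p' where
  toFun x := Cochain.mk (fun q m hq => ModuleCat.ofHom
    ((compOf w p q m (by omega)).hom.comp (TensorProduct.mk A (X.X p) (K.X q) x)))
  map_add' x x' := by
    refine Cochain.ext _ _ (fun q m hq => ModuleCat.hom_ext (LinearMap.ext (fun k => ?_)))
    change (compOf w p q m _).hom ((x + x') ⊗ₜ[A] k) =
      (compOf w p q m _).hom (x ⊗ₜ[A] k) + (compOf w p q m _).hom (x' ⊗ₜ[A] k)
    rw [TensorProduct.add_tmul, map_add]
  map_smul' a x := by
    refine Cochain.ext _ _ (fun q m hq => ModuleCat.hom_ext (LinearMap.ext (fun k => ?_)))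
    change (compOf w p q m _).hom ((a • x) ⊗ₜ[A] k) = a • (compOf w p q m _).hom (x ⊗ₜ[A] k)
    rw [← TensorProduct.smul_tmul', map_smul]

lemma curLin_apply_v {n : ℤ} (w : Cochain (X ⊗ K) L n) (p p' : ℤ) (hp : p + n = p') (x : X.X p)
    (q m : ℤ) (hq : q + p' = m) (k : K.X q) :
    ((curLin w p p' hp x).v q m hq).hom k = (compOf w p q m (by omega)).hom (x ⊗ₜ[A] k) := rfl

/-- currying of cochains: `Hom^n(X ⊗ K, L) → Hom^n(X, Hom•(K, L))` -/
noncomputable def cur {n : ℤ} (w : Cochain (X ⊗ K) L n) : Cochain X (DRing.homCx K L) n :=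
  Cochain.mk (fun p p' hp => ModuleCat.ofHom
    ((toCochain K L p').symm.toLinearMap.comp (curLin w p p' hp)))

lemma toCochain_cur_v {n : ℤ} (w : Cochain (X ⊗ K) L n) (p p' : ℤ) (hp : p + n = p')
    (x : X.X p) : toCochain K L p' (((cur w).v p p' hp).hom x) = curLin w p p' hp x := rfl

lemma unc_cur {n : ℤ} (w : Cochain (X ⊗ K) L n) : unc (cur w) = w := by
  refine cochain_tensor_ext _ _ (fun p q m m' hpq hm => ?_)
  rw [ι_unc_v _ p (p + n) q m m' hpq hm rfl, ← compOf_eq w p q m m' hpq hm]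
  refine ModuleCat.hom_ext (TensorProduct.ext' (fun x k => ?_))
  rw [uncComp_tmul', evL_apply, toCochain_cur_v, curLin_apply_v]

lemma cur_unc {n : ℤ} (z : Cochain X (DRing.homCx K L) n) : cur (unc z) = z := by
  refine Cochain.ext _ _ (fun p p' hp => ModuleCat.hom_ext (LinearMap.ext (fun x => ?_)))
  apply (toCochain K L p').injective
  rw [toCochain_cur_v]
  refine Cochain.ext _ _ (fun q m hq => ModuleCat.hom_ext (LinearMap.ext (fun k => ?_)))
  rw [curLin_apply_v, compOf_eq (unc z) p q (p + q) m rfl (by omega),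
    ι_unc_v z p p' q (p + q) m rfl (by omega) hp, uncComp_tmul', evL_apply]

variable (X K L) in
/-- uncurrying as a linear equivalence -/
noncomputable def uncEquiv (n : ℤ) :
    Cochain X (DRing.homCx K L) n ≃ₗ[A] Cochain (X ⊗ K) L n where
  __ := uncLin X K L n
  invFun := cur
  left_inv := cur_unc
  right_inv := unc_cur

lemma δ_cur {n n' : ℤ} (w : Cochain (X ⊗ K) L n) : δ n n' (cur w) = cur (δ n n' w) := by
  conv_lhs => rw [← cur_unc (δ n n' (cur w)), ← δ_unc, unc_cur]

variable (X K L) in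
/-- the adjunction isomorphism of complexes `Hom•(X, Hom•(K, L)) ≅ Hom•(X ⊗ K, L)` -/
noncomputable def homCxAdjIso :
    DRing.homCx X (DRing.homCx K L) ≅ DRing.homCx (X ⊗ K) L :=
  HomologicalComplex.Hom.isoOfComponents (fun n => (uncEquiv X K L n).toModuleIso)
    (fun i j _ => by
      refine ModuleCat.hom_ext (LinearMap.ext (fun z => ?_))
      change δ i j (unc z) = unc (δ i j z)
      exact δ_unc z)

end HomCx

end Groth.Agent.Lib.Helper18.DR
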