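import Mathlib
import Groth.Agent.Lib.Helper18.HomCxD

/-!
# Currying and uncurrying of chain maps and homotopies; naturality (helper18)
-/

set_option autoImplicit false
set_option linter.style.haveILetI false
universe u
open CategoryTheory CategoryTheory.Limits MonoidalCategory HomologicalComplex
  CochainComplex.HomComplex

namespace Groth.Agent.Lib.Helper18.DR

namespace HomCx

variable {A : Type u} [CommRing A] {X X' K K' L : DRing.Cx A}

lemma cur_add {n : ℤ} (w w' : Cochain (X ⊗ K) L n) : cur (w + w') = cur w + cur w' :=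
  (uncEquiv X K L n).symm.map_add w w'

lemma cur_zero {n : ℤ} : cur (0 : Cochain (X ⊗ K) L n) = 0 :=
  (uncEquiv X K L n).symm.map_zero

/-- uncurrying of chain maps -/
noncomputable def uncurryHom (t : X ⟶ DRing.homCx K L) : X ⊗ K ⟶ L :=
  Cocycle.homOf (Cocycle.mk (unc (Cochain.ofHom t)) 1 (zero_add 1)
    (by rw [δ_unc, δ_ofHom, unc_zero]))

lemma ofHom_uncurryHom (t : X ⟶ DRing.homCx K L) :
    Cochain.ofHom (uncurryHom t) = unc (Cochain.ofHom t) := by
  simp [uncurryHom]

/-- currying of chain maps -/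
noncomputable def curryHom (s : X ⊗ K ⟶ L) : X ⟶ DRing.homCx K L :=
  Cocycle.homOf (Cocycle.mk (cur (Cochain.ofHom s)) 1 (zero_add 1)
    (by rw [δ_cur, δ_ofHom, cur_zero]))

lemma ofHom_curryHom (s : X ⊗ K ⟶ L) :
    Cochain.ofHom (curryHom s) = cur (Cochain.ofHom s) := by
  simp [curryHom]

lemma uncurryHom_curryHom (s : X ⊗ K ⟶ L) : uncurryHom (curryHom s) = s := by
  apply Cochain.ofHom_injective
  rw [ofHom_uncurryHom, ofHom_curryHom, unc_cur]

lemma curryHom_uncurryHom (t : X ⟶ DRing.homCx K L) : curryHom (uncurryHom t) = t := by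
  apply Cochain.ofHom_injective
  rw [ofHom_curryHom, ofHom_uncurryHom, cur_unc]

lemma uncurryHom_zero : uncurryHom (0 : X ⟶ DRing.homCx K L) = 0 := by
  apply Cochain.ofHom_injective
  rw [ofHom_uncurryHom, Cochain.ofHom_zero, Cochain.ofHom_zero, unc_zero]

/-- uncurrying of homotopies -/
noncomputable def uncurryHomotopy {t₁ t₂ : X ⟶ DRing.homCx K L} (h : Homotopy t₁ t₂) :
    Homotopy (uncurryHom t₁) (uncurryHom t₂) :=
  (Cochain.equivHomotopy _ _).symm ⟨unc (Cochain.equivHomotopy _ _ h).1, by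
    rw [ofHom_uncurryHom, ofHom_uncurryHom, δ_unc, ← unc_add, ← (Cochain.equivHomotopy _ _ h).2]⟩

/-- currying of homotopies -/
noncomputable def curryHomotopy {s₁ s₂ : X ⊗ K ⟶ L} (h : Homotopy s₁ s₂) :
    Homotopy (curryHom s₁) (curryHom s₂) :=
  (Cochain.equivHomotopy _ _).symm ⟨cur (Cochain.equivHomotopy _ _ h).1, by
    rw [ofHom_curryHom, ofHom_curryHom, δ_cur, ← cur_add, ← (Cochain.equivHomotopy _ _ h).2]⟩

/-- a homotopy between uncurried maps gives a homotopy between the maps -/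
noncomputable def homotopyOfUncurry {t₁ t₂ : X ⟶ DRing.homCx K L}
    (h : Homotopy (uncurryHom t₁) (uncurryHom t₂)) : Homotopy t₁ t₂ :=
  (Homotopy.ofEq (curryHom_uncurryHom t₁).symm).trans
    ((curryHomotopy h).trans (Homotopy.ofEq (curryHom_uncurryHom t₂)))

/-! ## Precomposition -/

/-- precomposition with a chain map, as a linear map on cochains -/
noncomputable def precompLin (b : K' ⟶ K) (L : DRing.Cx A) (i : ℤ) :
    Cochain K L i →ₗ[A] Cochain K' L i where
  toFun z := (Cochain.ofHom b).comp z (zero_add i)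
  map_add' z z' := by simp
  map_smul' a z := by simp

/-- functoriality of `Hom•(-, L)` in the first variable -/
noncomputable def precomp (b : K' ⟶ K) (L : DRing.Cx A) : DRing.homCx K L ⟶ DRing.homCx K' L where
  f i := ModuleCat.ofHom (precompLin b L i)
  comm' i j _ := by
    ext z
    change δ i j ((Cochain.ofHom b).comp z (zero_add i)) =
      (Cochain.ofHom b).comp (δ i j z) (zero_add j)
    exact δ_ofHom_comp b z j

lemma toCochain_precomp (b : K' ⟶ K) (L : DRing.Cx A) (i : ℤ) (w : (DRing.homCx K L).X i) :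
    toCochain K' L i (((precomp b L).f i).hom w) =
      (Cochain.ofHom b).comp (toCochain K L i w) (zero_add i) := rfl

lemma evL_precomp (b : K' ⟶ K) (N q m : ℤ) (h : q + N = m) (w : (DRing.homCx K L).X N)
    (k : K'.X q) :
    evL K' L N q m h (((precomp b L).f N).hom w) k = evL K L N q m h w ((b.f q).hom k) := by
  rw [evL_apply, evL_apply, toCochain_precomp, Cochain.zero_cochain_comp_v, Cochain.ofHom_v,
    ModuleCat.hom_comp, LinearMap.comp_apply]

/-! ## Naturality of uncurrying -/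

lemma uncComp_comp_left (a : X' ⟶ X) {n : ℤ} (z : Cochain X (DRing.homCx K L) n)
    (p p' q m : ℤ) (hp : p + n = p') (hq : q + p' = m) :
    uncComp ((Cochain.ofHom a).comp z (zero_add n)) p p' q m hp hq =
      (a.f p ▷ K.X q) ≫ uncComp z p p' q m hp hq := by
  refine ModuleCat.hom_ext (TensorProduct.ext' (fun x k => ?_))
  have e : ((a.f p ▷ K.X q) ≫ uncComp z p p' q m hp hq).hom (x ⊗ₜ[A] k) =
      (uncComp z p p' q m hp hq).hom ((a.f p).hom x ⊗ₜ[A] k) := rfl
  rw [e, uncComp_tmul', uncComp_tmul', Cochain.zero_cochain_comp_v, Cochain.ofHom_v,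
    ModuleCat.hom_comp, LinearMap.comp_apply]

lemma uncComp_precomp (b : K' ⟶ K) {n : ℤ} (z : Cochain X (DRing.homCx K L) n)
    (p p' q m : ℤ) (hp : p + n = p') (hq : q + p' = m) :
    uncComp (z.comp (Cochain.ofHom (precomp b L)) (add_zero n)) p p' q m hp hq =
      (X.X p ◁ b.f q) ≫ uncComp z p p' q m hp hq := by
  refine ModuleCat.hom_ext (TensorProduct.ext' (fun x k => ?_))
  have e : ((X.X p ◁ b.f q) ≫ uncComp z p p' q m hp hq).hom (x ⊗ₜ[A] k) =
      (uncComp z p p' q m hp hq).hom (x ⊗ₜ[A] (b.f q).hom k) := rfl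
  rw [e, uncComp_tmul', uncComp_tmul', Cochain.comp_zero_cochain_v, Cochain.ofHom_v,
    ModuleCat.hom_comp, LinearMap.comp_apply, evL_precomp]

lemma ι_whiskerRight_f (a : X' ⟶ X) (K : DRing.Cx A) (p q m : ℤ) (h : p + q = m) :
    ιMapBifunctor X' K (curriedTensor (ModuleCat.{u} A)) (ComplexShape.up ℤ) p q m h ≫
      (a ▷ K).f m =
    (a.f p ▷ K.X q) ≫
      ιMapBifunctor X K (curriedTensor (ModuleCat.{u} A)) (ComplexShape.up ℤ) p q m h := by
  change ιMapBifunctor X' K (curriedTensor (ModuleCat.{u} A)) (ComplexShape.up ℤ) p q m h ≫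
      (mapBifunctorMap a (𝟙 K) (curriedTensor (ModuleCat.{u} A)) (ComplexShape.up ℤ)).f m = _
  rw [ι_mapBifunctorMap]
  simp

lemma ι_whiskerLeft_f (X : DRing.Cx A) (b : K' ⟶ K) (p q m : ℤ) (h : p + q = m) :
    ιMapBifunctor X K' (curriedTensor (ModuleCat.{u} A)) (ComplexShape.up ℤ) p q m h ≫
      (X ◁ b).f m =
    (X.X p ◁ b.f q) ≫
      ιMapBifunctor X K (curriedTensor (ModuleCat.{u} A)) (ComplexShape.up ℤ) p q m h := by
  change ιMapBifunctor X K' (curriedTensor (ModuleCat.{u} A)) (ComplexShape.up ℤ) p q m h ≫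
      (mapBifunctorMap (𝟙 X) b (curriedTensor (ModuleCat.{u} A)) (ComplexShape.up ℤ)).f m = _
  rw [ι_mapBifunctorMap]
  simp

lemma unc_comp_left (a : X' ⟶ X) {n : ℤ} (z : Cochain X (DRing.homCx K L) n) :
    unc ((Cochain.ofHom a).comp z (zero_add n)) =
      (Cochain.ofHom (a ▷ K)).comp (unc z) (zero_add n) := by
  refine cochain_tensor_ext _ _ (fun p q m m' hpq hm => ?_)
  rw [ι_unc_v _ p (p + n) q m m' hpq hm rfl, uncComp_comp_left, Cochain.zero_cochain_comp_v,
    Cochain.ofHom_v, ← Category.assoc, ι_whiskerRight_f, Category.assoc,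
    ι_unc_v _ p (p + n) q m m' hpq hm rfl]

lemma unc_precomp (b : K' ⟶ K) {n : ℤ} (z : Cochain X (DRing.homCx K L) n) :
    unc (z.comp (Cochain.ofHom (precomp b L)) (add_zero n)) =
      (Cochain.ofHom (X ◁ b)).comp (unc z) (zero_add n) := by
  refine cochain_tensor_ext _ _ (fun p q m m' hpq hm => ?_)
  rw [ι_unc_v _ p (p + n) q m m' hpq hm rfl, uncComp_precomp, Cochain.zero_cochain_comp_v,
    Cochain.ofHom_v, ← Category.assoc, ι_whiskerLeft_f, Category.assoc,
    ι_unc_v _ p (p + n) q m m' hpq hm rfl]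

/-! ## The evaluation map -/

variable (K L) in
/-- the evaluation `Hom•(K, L) ⊗ K ⟶ L` -/
noncomputable def evCx : DRing.homCx K L ⊗ K ⟶ L := uncurryHom (𝟙 _)

lemma uncurryHom_eq (t : X ⟶ DRing.homCx K L) : uncurryHom t = (t ▷ K) ≫ evCx K L := by
  apply Cochain.ofHom_injective
  rw [ofHom_uncurryHom, Cochain.ofHom_comp, evCx, ofHom_uncurryHom, ← unc_comp_left,
    ← Cochain.ofHom_comp, Category.comp_id]

/-- dinaturality of the evaluation -/
lemma evCx_dinatural (b : K' ⟶ K) (L : DRing.Cx A) :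
    (precomp b L ▷ K') ≫ evCx K' L = (DRing.homCx K L ◁ b) ≫ evCx K L := by
  apply Cochain.ofHom_injective
  rw [← uncurryHom_eq, ofHom_uncurryHom, Cochain.ofHom_comp, evCx, ofHom_uncurryHom,
    ← unc_precomp, ← Cochain.ofHom_comp, Category.id_comp]

end HomCx

end Groth.Agent.Lib.Helper18.DR
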