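import Mathlib
import Groth.Agent.Lib.Helper18.HomCxE
import Groth.Agent.Lib.Helper2.Tot.KFlat

/-!
# `Hom•(P, Z)` is acyclic for `P` K-projective and `Z` acyclic; tensor products of K-projectives
(helper18)
-/

set_option autoImplicit false
set_option linter.style.haveILetI false
universe u
open CategoryTheory CategoryTheory.Limits MonoidalCategory HomologicalComplex
  CochainComplex.HomComplex

namespace Groth.Agent.Lib.Helper18.DR

namespace HomCx

variable {A : Type u} [CommRing A]

/-- Spaltenstein's criterion (one direction): `Hom•(P, Z)` is acyclic for `P` K-projective and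
`Z` acyclic. -/
theorem acyclic_homCx (P Z : DRing.Cx A) [P.IsKProjective] (hZ : Z.Acyclic) :
    (DRing.homCx P Z).Acyclic := by
  intro n
  rw [HomologicalComplex.exactAt_iff' _ (n - 1) n (n + 1) (by simp) (by simp),
    ShortComplex.moduleCat_exact_iff]
  intro x hx
  have hx' : δ n (n + 1) (toCochain P Z n x) = 0 := hx
  let c : Cocycle P Z n := Cocycle.mk (toCochain P Z n x) (n + 1) rfl hx'
  have hc : c ∈ coboundaries P Z n := by
    rw [← CohomologyClass.toHom_mk_eq_zero_iff, CohomologyClass.toHom_mk,
      HomotopyCategory.quotient_map_eq_zero_iff]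
    exact CochainComplex.IsKProjective.nonempty_homotopy_zero _
      (Groth.Agent.Lib.Helper2.Tot.acyclic_shift hZ n)
  rw [mem_coboundaries_iff c (n - 1) (by omega)] at hc
  obtain ⟨β, hβ⟩ := hc
  exact ⟨(toCochain P Z (n - 1)).symm β, hβ⟩

/-- the tensor product of two K-projective complexes is K-projective -/
theorem isKProjective_tensor (P' P : DRing.Cx A) [P'.IsKProjective] [P.IsKProjective] :
    (P' ⊗ P).IsKProjective := by
  refine ⟨fun {Z} f hZ => ?_⟩
  obtain ⟨h⟩ := CochainComplex.IsKProjective.nonempty_homotopy_zero (curryHom f)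
    (acyclic_homCx P Z hZ)
  exact ⟨(Homotopy.ofEq (uncurryHom_curryHom f).symm).trans
    ((uncurryHomotopy h).trans (Homotopy.ofEq uncurryHom_zero))⟩

end HomCx

end Groth.Agent.Lib.Helper18.DR
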