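import Mathlib
import Groth.Agent.Lib.Helper18.HomCxE

/-!
# `Hom•(-, Y)` sends degreewise split short exact sequences to short exact sequences (helper18)
-/

set_option autoImplicit false
set_option linter.style.haveILetI false
universe u
open CategoryTheory CategoryTheory.Limits MonoidalCategory HomologicalComplex
  CochainComplex.HomComplex

namespace Groth.Agent.Lib.Helper18.DR

namespace HomCx

variable {A : Type u} [CommRing A] {K K' K'' L : DRing.Cx A}

/-- precomposition with a cochain of degree `0`, as a linear map on cochains -/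
noncomputable def compLeftLin (c : Cochain K' K 0) (L : DRing.Cx A) (i : ℤ) :
    Cochain K L i →ₗ[A] Cochain K' L i where
  toFun z := c.comp z (zero_add i)
  map_add' z z' := by simp
  map_smul' a z := by simp

lemma precomp_f (b : K' ⟶ K) (L : DRing.Cx A) (i : ℤ) :
    (precomp b L).f i = ModuleCat.ofHom (compLeftLin (Cochain.ofHom b) L i) := rfl

lemma compLeftLin_comp (c : Cochain K'' K' 0) (c' : Cochain K' K 0) (L : DRing.Cx A) (i : ℤ) :
    compLeftLin (c.comp c' (zero_add 0)) L i = (compLeftLin c L i).comp (compLeftLin c' L i) := by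
  refine LinearMap.ext (fun z => ?_)
  exact Cochain.comp_assoc_of_first_is_zero_cochain c c' z (zero_add i)

lemma compLeftLin_add (c c' : Cochain K' K 0) (L : DRing.Cx A) (i : ℤ) :
    compLeftLin (c + c') L i = compLeftLin c L i + compLeftLin c' L i := by
  refine LinearMap.ext (fun z => ?_)
  exact Cochain.add_comp c c' z (zero_add i)

lemma compLeftLin_id (L : DRing.Cx A) (i : ℤ) :
    compLeftLin (Cochain.ofHom (𝟙 K)) L i = LinearMap.id := by
  refine LinearMap.ext (fun z => ?_)
  exact Cochain.id_comp z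

lemma compLeftLin_zero (L : DRing.Cx A) (i : ℤ) :
    compLeftLin (0 : Cochain K' K 0) L i = 0 := by
  refine LinearMap.ext (fun z => ?_)
  exact Cochain.zero_comp z (zero_add i)

lemma precomp_comp (a : K'' ⟶ K') (b : K' ⟶ K) (L : DRing.Cx A) :
    precomp (a ≫ b) L = precomp b L ≫ precomp a L := by
  refine HomologicalComplex.hom_ext _ _ (fun i => ?_)
  rw [HomologicalComplex.comp_f, precomp_f, precomp_f, precomp_f, Cochain.ofHom_comp,
    compLeftLin_comp]
  rfl

lemma precomp_zero (L : DRing.Cx A) : precomp (0 : K' ⟶ K) L = 0 := by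
  refine HomologicalComplex.hom_ext _ _ (fun i => ?_)
  rw [precomp_f, Cochain.ofHom_zero, compLeftLin_zero]
  rfl

lemma precomp_id (L : DRing.Cx A) : precomp (𝟙 K) L = 𝟙 _ := by
  refine HomologicalComplex.hom_ext _ _ (fun i => ?_)
  rw [precomp_f, compLeftLin_id]
  rfl

/-- `Hom•(-, Y)` applied to a short complex of complexes -/
noncomputable def homCxSC (S : ShortComplex (DRing.Cx A)) (Y : DRing.Cx A) :
    ShortComplex (DRing.Cx A) :=
  ShortComplex.mk (precomp S.g Y) (precomp S.f Y)
    (by rw [← precomp_comp, S.zero, precomp_zero])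

/-- the splitting in degree `n` -/
noncomputable def homCxSCSplitting (S : ShortComplex (DRing.Cx A))
    (σ : ∀ p, (S.map (HomologicalComplex.eval _ _ p)).Splitting) (Y : DRing.Cx A) (n : ℤ) :
    ((homCxSC S Y).map (HomologicalComplex.eval _ _ n)).Splitting where
  r := ModuleCat.ofHom (compLeftLin (Cochain.ofHoms (fun p => (σ p).s)) Y n)
  s := ModuleCat.ofHom (compLeftLin (Cochain.ofHoms (fun p => (σ p).r)) Y n)
  f_r := by
    change ModuleCat.ofHom (compLeftLin (Cochain.ofHom S.g) Y n) ≫
      ModuleCat.ofHom (compLeftLin (Cochain.ofHoms (fun p => (σ p).s)) Y n) = 𝟙 _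
    rw [← ModuleCat.ofHom_comp, ← compLeftLin_comp]
    have h : (Cochain.ofHoms (fun p => (σ p).s)).comp (Cochain.ofHom S.g) (zero_add 0) =
        Cochain.ofHom (𝟙 S.X₃) := by
      change (Cochain.ofHoms (fun p => (σ p).s)).comp (Cochain.ofHoms (fun p => S.g.f p))
        (zero_add 0) = Cochain.ofHoms (fun p => (𝟙 S.X₃ : S.X₃ ⟶ S.X₃).f p)
      rw [Cochain.ofHoms_comp]
      congr 1
      funext p
      exact (σ p).s_g
    rw [h, compLeftLin_id]
    rfl
  s_g := by
    change ModuleCat.ofHom (compLeftLin (Cochain.ofHoms (fun p => (σ p).r)) Y n) ≫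
      ModuleCat.ofHom (compLeftLin (Cochain.ofHom S.f) Y n) = 𝟙 _
    rw [← ModuleCat.ofHom_comp, ← compLeftLin_comp]
    have h : (Cochain.ofHom S.f).comp (Cochain.ofHoms (fun p => (σ p).r)) (zero_add 0) =
        Cochain.ofHom (𝟙 S.X₁) := by
      change (Cochain.ofHoms (fun p => S.f.f p)).comp (Cochain.ofHoms (fun p => (σ p).r))
        (zero_add 0) = Cochain.ofHoms (fun p => (𝟙 S.X₁ : S.X₁ ⟶ S.X₁).f p)
      rw [Cochain.ofHoms_comp]
      congr 1
      funext p
      exact (σ p).f_r
    rw [h, compLeftLin_id]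
    rfl
  id := by
    change ModuleCat.ofHom (compLeftLin (Cochain.ofHoms (fun p => (σ p).s)) Y n) ≫
        ModuleCat.ofHom (compLeftLin (Cochain.ofHom S.g) Y n) +
      ModuleCat.ofHom (compLeftLin (Cochain.ofHom S.f) Y n) ≫
        ModuleCat.ofHom (compLeftLin (Cochain.ofHoms (fun p => (σ p).r)) Y n) = 𝟙 _
    rw [← ModuleCat.ofHom_comp, ← ModuleCat.ofHom_comp, ← compLeftLin_comp, ← compLeftLin_comp,
      ← ModuleCat.ofHom_add, ← compLeftLin_add]
    have h : (Cochain.ofHom S.g).comp (Cochain.ofHoms (fun p => (σ p).s)) (zero_add 0) +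
        (Cochain.ofHoms (fun p => (σ p).r)).comp (Cochain.ofHom S.f) (zero_add 0) =
        Cochain.ofHom (𝟙 S.X₂) := by
      change (Cochain.ofHoms (fun p => S.g.f p)).comp (Cochain.ofHoms (fun p => (σ p).s))
          (zero_add 0) +
        (Cochain.ofHoms (fun p => (σ p).r)).comp (Cochain.ofHoms (fun p => S.f.f p))
          (zero_add 0) = Cochain.ofHoms (fun p => (𝟙 S.X₂ : S.X₂ ⟶ S.X₂).f p)
      rw [Cochain.ofHoms_comp, Cochain.ofHoms_comp]
      refine Cochain.ext₀ _ _ (fun p => ?_)
      rw [Cochain.add_v, Cochain.ofHoms_v, Cochain.ofHoms_v, Cochain.ofHoms_v, add_comm]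
      exact (σ p).id
    rw [h, compLeftLin_id]
    rfl

theorem homCxSC_shortExact (S : ShortComplex (DRing.Cx A))
    (σ : ∀ p, (S.map (HomologicalComplex.eval _ _ p)).Splitting) (Y : DRing.Cx A) :
    (homCxSC S Y).ShortExact :=
  HomologicalComplex.shortExact_of_degreewise_shortExact _
    (fun n => (homCxSCSplitting S σ Y n).shortExact)

end HomCx

end Groth.Agent.Lib.Helper18.DR
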