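import Mathlib
import Groth.Agent.Lib.Helper18.HomCxF
import Groth.Agent.Lib.Helper18.HomCxG
import Groth.Agent.Lib.Helper18.DTenF
import Groth.Prelude.Def_DTen3

/-!
# `RHom(P, Y)` is computed by `Hom•(P, Y)` for K-projective `P` (helper18)
-/

set_option autoImplicit false
set_option linter.style.haveILetI false
universe u
open CategoryTheory CategoryTheory.Limits CategoryTheory.Pretriangulated MonoidalCategory
  DerivedCategory HomologicalComplex

attribute [local instance] HasDerivedCategory.standard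

namespace Groth.Agent.Lib.Helper18.DR

namespace HomCx

open DTen

variable {A : Type u} [CommRing A] [HasLTen A] [HasRHom A]

/-- the evaluation `Q(Hom•(P, Y)) ⊗^L QP ⟶ QY` in `D(A)` -/
noncomputable def eD (P Y : DRing.Cx A) :
    (LTen₂ A).obj (DerivedCategory.Q.obj (DRing.homCx P Y), DerivedCategory.Q.obj P) ⟶
      DerivedCategory.Q.obj Y :=
  (ε A).app (DRing.homCx P Y, P) ≫ DerivedCategory.Q.map (evCx P Y)

/-- the comparison map `Q(Hom•(P, Y)) ⟶ RHom(QP, QY)` -/
noncomputable def ρ (P Y : DRing.Cx A) :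
    DerivedCategory.Q.obj (DRing.homCx P Y) ⟶
      (RHomR A (DerivedCategory.Q.obj P)).obj (DerivedCategory.Q.obj Y) :=
  rhomHomEquiv _ _ _ (eD P Y)

lemma ρ_fac (P Y : DRing.Cx A) :
    (LTen₂ A).map (Prod.mkHom (ρ P Y) (𝟙 (DerivedCategory.Q.obj P))) ≫
      ev (DerivedCategory.Q.obj P) (DerivedCategory.Q.obj Y) = eD P Y :=
  ((rhomAdj A (DerivedCategory.Q.obj P)).homEquiv _ _).left_inv (eD P Y)

lemma map_comp_eD (P' P Y : DRing.Cx A) (t : P' ⟶ DRing.homCx P Y) :
    (LTen₂ A).map (Prod.mkHom (DerivedCategory.Q.map t) (𝟙 (DerivedCategory.Q.obj P))) ≫ eD P Y =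
      (ε A).app (P', P) ≫ DerivedCategory.Q.map (uncurryHom t) := by
  rw [eD, ← Category.assoc, DTenF.ε_naturality_left, Category.assoc, ← Functor.map_comp,
    ← uncurryHom_eq]

/-- the adjunct of `g ≫ ρ` -/
lemma adjunct_comp_ρ (P Y : DRing.Cx A) {T : Dual.D A}
    (g : T ⟶ DerivedCategory.Q.obj (DRing.homCx P Y)) :
    (rhomHomEquiv T (DerivedCategory.Q.obj P) (DerivedCategory.Q.obj Y)).symm (g ≫ ρ P Y) =
      (LTen₂ A).map (Prod.mkHom g (𝟙 (DerivedCategory.Q.obj P))) ≫ eD P Y := by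
  rw [ρ]
  erw [Adjunction.homEquiv_naturality_left_symm]
  rw [Equiv.symm_apply_apply]
  rfl

theorem bijective_comp_ρ_Q (P Y P' : DRing.Cx A) [P.IsKProjective] [P'.IsKProjective] :
    Function.Bijective (fun g : DerivedCategory.Q.obj P' ⟶
      DerivedCategory.Q.obj (DRing.homCx P Y) => g ≫ ρ P Y) := by
  haveI := isKProjective_tensor P' P
  haveI : IsIso ((ε A).app (P', P)) := DTenB.isIso_ε_app_left P' P
  have hΦ : Function.Bijective (fun g : DerivedCategory.Q.obj P' ⟶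
      DerivedCategory.Q.obj (DRing.homCx P Y) =>
        (LTen₂ A).map (Prod.mkHom g (𝟙 (DerivedCategory.Q.obj P))) ≫ eD P Y) := by
    constructor
    · intro g₁ g₂ h
      obtain ⟨t₁, rfl⟩ := exists_map_eq P' (DRing.homCx P Y) g₁
      obtain ⟨t₂, rfl⟩ := exists_map_eq P' (DRing.homCx P Y) g₂
      have h' : (ε A).app (P', P) ≫ DerivedCategory.Q.map (uncurryHom t₁) =
          (ε A).app (P', P) ≫ DerivedCategory.Q.map (uncurryHom t₂) := by
        rw [← map_comp_eD, ← map_comp_eD]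
        exact h
      have h'' : DerivedCategory.Q.map (uncurryHom t₁) = DerivedCategory.Q.map (uncurryHom t₂) :=
        (cancel_epi _).1 h'
      obtain ⟨H⟩ := nonempty_homotopy_of_map_eq (P' ⊗ P) Y _ _ h''
      exact DerivedCategory.Q_map_eq_of_homotopy _ (homotopyOfUncurry H)
    · intro h
      obtain ⟨s, hs⟩ := exists_map_eq (P' ⊗ P) Y (inv ((ε A).app (P', P)) ≫ h)
      refine ⟨DerivedCategory.Q.map (curryHom s), ?_⟩
      change (LTen₂ A).map (Prod.mkHom (DerivedCategory.Q.map (curryHom s))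
        (𝟙 (DerivedCategory.Q.obj P))) ≫ eD P Y = h
      rw [map_comp_eD, uncurryHom_curryHom, hs, IsIso.hom_inv_id_assoc]
  have : (fun g : DerivedCategory.Q.obj P' ⟶ DerivedCategory.Q.obj (DRing.homCx P Y) =>
      g ≫ ρ P Y) = (rhomHomEquiv _ _ _) ∘ (fun g : DerivedCategory.Q.obj P' ⟶
      DerivedCategory.Q.obj (DRing.homCx P Y) =>
        (LTen₂ A).map (Prod.mkHom g (𝟙 (DerivedCategory.Q.obj P))) ≫ eD P Y) := by
    funext g
    change g ≫ ρ P Y = rhomHomEquiv _ _ _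
      ((LTen₂ A).map (Prod.mkHom g (𝟙 (DerivedCategory.Q.obj P))) ≫ eD P Y)
    rw [← adjunct_comp_ρ, Equiv.apply_symm_apply]
  rw [this]
  exact (Equiv.bijective _).comp hΦ

/-- **`RHom` is computed by the Hom complex on K-projective complexes.** -/
theorem isIso_ρ (P Y : DRing.Cx A) [P.IsKProjective] : IsIso (ρ P Y) := by
  refine isIso_of_yoneda_map_bijective _ (fun T => ?_)
  obtain ⟨P', hP', -, ⟨e⟩⟩ := exists_kprojective_resolution T
  haveI := hP'
  have hb := bijective_comp_ρ_Q P Y P'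
  constructor
  · intro g₁ g₂ h
    have h' : (e.hom ≫ g₁) ≫ ρ P Y = (e.hom ≫ g₂) ≫ ρ P Y := by
      rw [Category.assoc, Category.assoc]
      exact congrArg (fun m => e.hom ≫ m) h
    exact (cancel_epi e.hom).1 (hb.1 h')
  · intro h
    obtain ⟨g, hg⟩ := hb.2 (e.hom ≫ h)
    refine ⟨e.inv ≫ g, ?_⟩
    change (e.inv ≫ g) ≫ ρ P Y = h
    have hg' : g ≫ ρ P Y = e.hom ≫ h := hg
    rw [Category.assoc, hg', Iso.inv_hom_id_assoc]

/-- naturality of the comparison map in the first variable -/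
theorem ρ_naturality {P P' : DRing.Cx A} (a : P ⟶ P') (Y : DRing.Cx A) :
    DerivedCategory.Q.map (precomp a Y) ≫ ρ P Y =
      ρ P' Y ≫ RHomMap (DerivedCategory.Q.map a) (DerivedCategory.Q.obj Y) := by
  apply (rhomHomEquiv _ _ _).symm.injective
  rw [adjunct_comp_ρ]
  have h2 : (rhomHomEquiv _ _ _).symm
      (ρ P' Y ≫ RHomMap (DerivedCategory.Q.map a) (DerivedCategory.Q.obj Y)) =
      (LTen₂ A).map (Prod.mkHom (ρ P' Y ≫ RHomMap (DerivedCategory.Q.map a)
        (DerivedCategory.Q.obj Y)) (𝟙 (DerivedCategory.Q.obj P))) ≫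
        ev (DerivedCategory.Q.obj P) (DerivedCategory.Q.obj Y) := rfl
  rw [h2]
  have h3 : (LTen₂ A).map (Prod.mkHom (ρ P' Y ≫ RHomMap (DerivedCategory.Q.map a)
        (DerivedCategory.Q.obj Y)) (𝟙 (DerivedCategory.Q.obj P))) =
      (LTen₂ A).map (Prod.mkHom (ρ P' Y) (𝟙 (DerivedCategory.Q.obj P))) ≫
        (LTen₂ A).map (Prod.mkHom (RHomMap (DerivedCategory.Q.map a)
          (DerivedCategory.Q.obj Y)) (𝟙 (DerivedCategory.Q.obj P))) := by
    rw [← Functor.map_comp]
    congr 1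
  rw [h3, Category.assoc, RHom_map_ev]
  have h4 : (LTen₂ A).map (Prod.mkHom (ρ P' Y) (𝟙 (DerivedCategory.Q.obj P))) ≫
      (LTen₂ A).map (Prod.mkHom (𝟙 _) (DerivedCategory.Q.map a)) =
      (LTen₂ A).map (Prod.mkHom (𝟙 _) (DerivedCategory.Q.map a)) ≫
        (LTen₂ A).map (Prod.mkHom (ρ P' Y) (𝟙 (DerivedCategory.Q.obj P'))) := by
    rw [← Functor.map_comp, ← Functor.map_comp]
    congr 1
    change Prod.mkHom (_ ≫ _) (_ ≫ _) = Prod.mkHom (_ ≫ _) (_ ≫ _)
    rw [Category.comp_id, Category.id_comp, Category.comp_id, Category.id_comp]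
  rw [reassoc_of% h4, ρ_fac, eD, eD, ← Category.assoc, ← Category.assoc,
    DTenF.ε_naturality_left, DTenF.ε_naturality_right, Category.assoc, Category.assoc,
    ← Functor.map_comp, ← Functor.map_comp, evCx_dinatural]

end HomCx

end Groth.Agent.Lib.Helper18.DR
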