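import Mathlib
import Groth.Agent.Lib.Helper18.HomCxH
import Groth.Agent.Lib.Helper18.DistPair

/-!
# `RHom(-, L)` sends distinguished triangles to distinguished pairs (helper18)
-/

set_option autoImplicit false
set_option linter.style.haveILetI false
universe u
open CategoryTheory CategoryTheory.Limits CategoryTheory.Pretriangulated MonoidalCategory
  DerivedCategory HomologicalComplex Opposite

attribute [local instance] HasDerivedCategory.standard

namespace Groth.Agent.Lib.Helper18.DR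

namespace HomCx

open DTen DistPair

variable {A : Type u} [CommRing A] [HasLTen A] [HasRHom A]

lemma RHomMap_comp {X X' X'' : Dual.D A} (u : X' ⟶ X) (u' : X'' ⟶ X') (M : Dual.D A) :
    RHomMap (u' ≫ u) M = RHomMap u M ≫ RHomMap u' M := by
  change ((RHom A).map (u' ≫ u).op).app M = _
  rw [op_comp, Functor.map_comp, NatTrans.comp_app]
  rfl

lemma RHomMap_naturality {X X' : Dual.D A} (u : X' ⟶ X) {M M' : Dual.D A} (v : M ⟶ M') :
    RHomMap u M ≫ (RHomR A X').map v = (RHomR A X).map v ≫ RHomMap u M' :=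
  (((RHom A).map u.op).naturality v).symm

/-- comparison of `RHom(X, L)` with the Hom complex of representatives -/
noncomputable def Ψ {X L : Dual.D A} {P Y : DRing.Cx A} [P.IsKProjective]
    (d : DerivedCategory.Q.obj P ≅ X) (eL : DerivedCategory.Q.obj Y ≅ L) :
    (RHomR A X).obj L ≅ DerivedCategory.Q.obj (DRing.homCx P Y) :=
  ((RHom A).mapIso d.op).app L ≪≫ (RHomR A (DerivedCategory.Q.obj P)).mapIso eL.symm ≪≫
    (@asIso _ _ _ _ (ρ P Y) (isIso_ρ P Y)).symm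

lemma Ψ_hom {X L : Dual.D A} {P Y : DRing.Cx A} [P.IsKProjective]
    (d : DerivedCategory.Q.obj P ≅ X) (eL : DerivedCategory.Q.obj Y ≅ L) :
    (Ψ d eL).hom = RHomMap d.hom L ≫ (RHomR A (DerivedCategory.Q.obj P)).map eL.inv ≫
      @inv _ _ _ _ (ρ P Y) (isIso_ρ P Y) := rfl

lemma Ψ_naturality {X X' L : Dual.D A} {P P' Y : DRing.Cx A} [P.IsKProjective]
    [P'.IsKProjective] (d : DerivedCategory.Q.obj P ≅ X) (d' : DerivedCategory.Q.obj P' ≅ X')
    (eL : DerivedCategory.Q.obj Y ≅ L) (u : X' ⟶ X) (a : P' ⟶ P)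
    (h : DerivedCategory.Q.map a ≫ d.hom = d'.hom ≫ u) :
    RHomMap u L ≫ (Ψ d' eL).hom = (Ψ d eL).hom ≫ DerivedCategory.Q.map (precomp a Y) := by
  haveI := isIso_ρ (A := A) P Y
  haveI := isIso_ρ (A := A) P' Y
  have h1 : RHomMap (DerivedCategory.Q.map a) (DerivedCategory.Q.obj Y) ≫ inv (ρ P' Y) =
      inv (ρ P Y) ≫ DerivedCategory.Q.map (precomp a Y) := by
    rw [IsIso.eq_inv_comp, ← Category.assoc, ← ρ_naturality, Category.assoc, IsIso.hom_inv_id,
      Category.comp_id]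
  rw [Ψ_hom, Ψ_hom, ← Category.assoc, ← RHomMap_comp, ← h, RHomMap_comp, Category.assoc,
    Category.assoc, Category.assoc, ← h1, ← Category.assoc (RHomMap (DerivedCategory.Q.map a) L),
    RHomMap_naturality, Category.assoc]

/-- **`RHom(-, L)` sends (the last two maps of) distinguished triangles to distinguished pairs** -/
theorem isDistPair_RHomMap (Tr : Triangle (Dual.D A)) (hTr : Tr ∈ distTriang (Dual.D A))
    (L : Dual.D A) : IsDistPair (RHomMap Tr.mor₃ L) (RHomMap Tr.mor₂ L) := by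
  obtain ⟨P₁, hP₁, -, ⟨e₁⟩⟩ := exists_kprojective_resolution Tr.obj₁
  obtain ⟨P₂, hP₂, -, ⟨e₂⟩⟩ := exists_kprojective_resolution Tr.obj₂
  obtain ⟨Y, -, -, ⟨eL⟩⟩ := exists_kprojective_resolution L
  haveI := hP₁
  haveI := hP₂
  obtain ⟨φ, eT, -, -, -⟩ := exists_cone_triangle_iso Tr hTr P₁ P₂ e₁ e₂
  haveI : (CochainComplex.mappingCone φ).IsKProjective := isKProjective_mappingCone φ
  let S := CochainComplex.mappingCone.triangleRotateShortComplex φ
  have hS := homCxSC_shortExact S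
    (CochainComplex.mappingCone.triangleRotateShortComplexSplitting φ) Y
  have hdist := triangleOfSES_distinguished hS
  let δ : CochainComplex.mappingCone φ ⟶ P₁⟦(1 : ℤ)⟧ :=
    (CochainComplex.mappingCone.triangle φ).mor₃
  let d₂ : DerivedCategory.Q.obj P₂ ≅ Tr.obj₂ := Triangle.π₂.mapIso eT
  let d₃ : DerivedCategory.Q.obj (CochainComplex.mappingCone φ) ≅ Tr.obj₃ := Triangle.π₃.mapIso eT
  let d₁ : DerivedCategory.Q.obj P₁ ≅ Tr.obj₁ := Triangle.π₁.mapIso eT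
  let b₁ : DerivedCategory.Q.obj (P₁⟦(1 : ℤ)⟧) ≅ Tr.obj₁⟦(1 : ℤ)⟧ :=
    (DerivedCategory.Q.commShiftIso (1 : ℤ)).app P₁ ≪≫
      (shiftFunctor (Dual.D A) (1 : ℤ)).mapIso d₁
  have hc₂ : DerivedCategory.Q.map (CochainComplex.mappingCone.inr φ) ≫ d₃.hom =
      d₂.hom ≫ Tr.mor₂ := eT.hom.comm₂
  have hc₃ : DerivedCategory.Q.map δ ≫ b₁.hom = d₃.hom ≫ Tr.mor₃ := by
    have h := eT.hom.comm₃
    have h' : (DerivedCategory.Q.map δ ≫ (DerivedCategory.Q.commShiftIso (1 : ℤ)).hom.app P₁) ≫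
        (shiftFunctor (Dual.D A) (1 : ℤ)).map d₁.hom = d₃.hom ≫ Tr.mor₃ := h
    rw [← h', Category.assoc]
    rfl
  let a : (RHomR A (Tr.obj₁⟦(1 : ℤ)⟧)).obj L ≅
      DerivedCategory.Q.obj (DRing.homCx (P₁⟦(1 : ℤ)⟧) Y) := Ψ b₁ eL
  let b : (RHomR A Tr.obj₃).obj L ≅
      DerivedCategory.Q.obj (DRing.homCx (CochainComplex.mappingCone φ) Y) := Ψ d₃ eL
  let c : (RHomR A Tr.obj₂).obj L ≅ DerivedCategory.Q.obj (DRing.homCx P₂ Y) := Ψ d₂ eL
  have h1 : RHomMap Tr.mor₃ L ≫ b.hom = a.hom ≫ DerivedCategory.Q.map (precomp δ Y) :=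
    Ψ_naturality b₁ d₃ eL Tr.mor₃ δ hc₃
  have h2 : RHomMap Tr.mor₂ L ≫ c.hom = b.hom ≫
      DerivedCategory.Q.map (precomp (CochainComplex.mappingCone.inr φ) Y) :=
    Ψ_naturality d₃ d₂ eL Tr.mor₂ (CochainComplex.mappingCone.inr φ) hc₂
  exact ⟨triangleOfSES hS, hdist, a, b, c, h1, h2⟩

end HomCx

end Groth.Agent.Lib.Helper18.DR
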