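import Mathlib
import Groth.Agent.Lib.Helper18.HomCxI
import Groth.Agent.Lib.Helper18.ContraExact
import Groth.Agent.Lib.Helper18.DTenG

/-!
# `K ⊗^L RHom(M, L) ⟶ RHom(M, K ⊗^L L)` is an isomorphism for perfect `M` (helper18)
-/

set_option autoImplicit false
set_option linter.style.haveILetI false
universe u
open CategoryTheory CategoryTheory.Limits CategoryTheory.Pretriangulated MonoidalCategory
  DerivedCategory HomologicalComplex Opposite

attribute [local instance] HasDerivedCategory.standard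

namespace Groth.Agent.Lib.Helper18.DR

namespace EvalM

open DTen DTenE DTenF DTenG DistPair ContraExact HomCx

variable {A : Type u} [CommRing A] [HasLTen A] [HasLTen₃ A] [IsSymMonoidal A]

/-- `K ⊗^L - ≅ - ⊗^L K` -/
noncomputable def braidNatIso (K : Dual.D A) : (LTen A).obj K ≅ tensorRightD A K :=
  NatIso.ofComponents (fun Y => braiding Y K) (fun {Y Y'} m =>
    (symm A).naturality (Prod.mkHom m (𝟙 K) : (Y, K) ⟶ (Y', K)))

instance isEquivalence_tensorRightD_unit_shift (j : ℤ) :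
    (tensorRightD A ((unit A)⟦j⟧)).IsEquivalence :=
  Functor.isEquivalence_of_iso (braidNatIso ((unit A)⟦j⟧))

variable [HasRHom A]

instance isLeftAdjoint_LTen_obj (K : Dual.D A) : ((LTen A).obj K).IsLeftAdjoint :=
  Functor.isLeftAdjoint_of_iso (braidNatIso K).symm

lemma tensor_map_zero_right (K : Dual.D A) {Y Y' : Dual.D A} :
    (LTen₂ A).map (Prod.mkHom (𝟙 K) (0 : Y ⟶ Y')) = 0 :=
  ((LTen A).obj K).map_zero Y Y'

lemma tensor_map_zero_left (K : Dual.D A) {Y Y' : Dual.D A} :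
    (LTen₂ A).map (Prod.mkHom (0 : Y ⟶ Y') (𝟙 K)) = 0 :=
  (tensorRightD A K).map_zero Y Y'

lemma RHomMap_zero (M M' L : Dual.D A) : RHomMap (0 : M' ⟶ M) L = 0 := by
  apply (rhomHomEquiv _ _ _).symm.injective
  change (LTen₂ A).map (Prod.mkHom (RHomMap 0 L) (𝟙 M')) ≫ ev M' L =
    (LTen₂ A).map (Prod.mkHom 0 (𝟙 M')) ≫ ev M' L
  rw [RHom_map_ev, tensor_map_zero_right, tensor_map_zero_left, zero_comp, zero_comp]

instance preservesZeroMorphisms_RHom_flip (X : Dual.D A) :
    ((RHom A).flip.obj X).PreservesZeroMorphisms :=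
  ⟨fun M M' => RHomMap_zero (unop M) (unop M') X⟩

lemma isDistPair_RHomMap₁₂ (Tr : Triangle (Dual.D A)) (hTr : Tr ∈ distTriang (Dual.D A))
    (L : Dual.D A) : IsDistPair (RHomMap Tr.mor₂ L) (RHomMap Tr.mor₁ L) := by
  have h := isDistPair_RHomMap Tr.invRotate (inv_rot_of_distTriang _ hTr) L
  let κ : Tr.obj₃ ≅ (Tr.obj₃⟦(-1 : ℤ)⟧)⟦(1 : ℤ)⟧ :=
    ((shiftEquiv (Dual.D A) (1 : ℤ)).counitIso.app Tr.obj₃).symm
  let m₃ : Tr.obj₂ ⟶ (Tr.obj₃⟦(-1 : ℤ)⟧)⟦(1 : ℤ)⟧ := Tr.mor₂ ≫ κ.hom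
  have e : m₃ ≫ κ.inv = Tr.mor₂ := by
    change (Tr.mor₂ ≫ κ.hom) ≫ κ.inv = _
    rw [Category.assoc, Iso.hom_inv_id, Category.comp_id]
  have hcomp : RHomMap κ.inv L ≫ RHomMap m₃ L = RHomMap Tr.mor₂ L := by
    rw [← RHomMap_comp, e]
  refine h.of_iso (((RHom A).mapIso κ.symm.op).app L) (Iso.refl _) (Iso.refl _) ?_ ?_
  · change RHomMap Tr.mor₂ L ≫ 𝟙 _ = RHomMap κ.inv L ≫ RHomMap m₃ L
    rw [hcomp, Category.comp_id]
  · change RHomMap Tr.mor₁ L ≫ 𝟙 _ = 𝟙 _ ≫ RHomMap Tr.mor₁ L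
    rw [Category.comp_id, Category.id_comp]

lemma homExactOp_RHom (X : Dual.D A) : HomExactOp ((RHom A).flip.obj X) := by
  intro Tr hTr T y hy
  exact (isDistPair_RHomMap₁₂ Tr hTr X).coyoneda_exact y hy

lemma homExactOp_tensor_RHom (K L : Dual.D A) :
    HomExactOp ((RHom A).flip.obj L ⋙ (LTen A).obj K) := by
  intro Tr hTr T y hy
  exact ((isDistPair_RHomMap₁₂ Tr hTr L).tensorLeft K).coyoneda_exact y hy

/-- the adjunct of `g ≫ RHomMap u M` -/
lemma adjunct_comp_RHomMap {T X X' M : Dual.D A} (y : T ⟶ (RHomR A X).obj M) (u : X' ⟶ X) :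
    (rhomHomEquiv T X' M).symm (y ≫ RHomMap u M) =
      (LTen₂ A).map (Prod.mkHom (𝟙 T) u) ≫ (rhomHomEquiv T X M).symm y := by
  change (LTen₂ A).map (Prod.mkHom (y ≫ RHomMap u M) (𝟙 X')) ≫ ev X' M =
    (LTen₂ A).map (Prod.mkHom (𝟙 T) u) ≫ (LTen₂ A).map (Prod.mkHom y (𝟙 X)) ≫ ev X M
  have h3 : (LTen₂ A).map (Prod.mkHom (y ≫ RHomMap u M) (𝟙 X')) =
      (LTen₂ A).map (Prod.mkHom y (𝟙 X')) ≫ (LTen₂ A).map (Prod.mkHom (RHomMap u M) (𝟙 X')) := by
    rw [← Functor.map_comp]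
    congr 1
  rw [h3, Category.assoc, RHom_map_ev, ← Category.assoc, ← Category.assoc, ← Functor.map_comp,
    ← Functor.map_comp]
  congr 2
  change Prod.mkHom (y ≫ 𝟙 _) (𝟙 X' ≫ u) = Prod.mkHom (𝟙 T ≫ y) (u ≫ 𝟙 X)
  rw [Category.comp_id, Category.id_comp, Category.comp_id, Category.id_comp]

/-- `evalTen` as a natural transformation in `M` -/
noncomputable def evalTenNatM (K L : Dual.D A) :
    (RHom A).flip.obj L ⋙ (LTen A).obj K ⟶ (RHom A).flip.obj ((LTen₂ A).obj (K, L)) where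
  app M := evalTen K L (unop M)
  naturality M M' m := by
    apply (rhomHomEquiv _ _ _).symm.injective
    change (rhomHomEquiv _ _ _).symm
        ((LTen₂ A).map (Prod.mkHom (𝟙 K) (RHomMap m.unop L)) ≫ evalTen K L (unop M')) =
      (rhomHomEquiv _ _ _).symm
        (evalTen K L (unop M) ≫ RHomMap m.unop ((LTen₂ A).obj (K, L)))
    rw [adjunct_comp_RHomMap]
    have h1 : (rhomHomEquiv _ _ _).symm
        ((LTen₂ A).map (Prod.mkHom (𝟙 K) (RHomMap m.unop L)) ≫ evalTen K L (unop M')) =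
        (LTen₂ A).map (Prod.mkHom ((LTen₂ A).map (Prod.mkHom (𝟙 K) (RHomMap m.unop L)))
          (𝟙 (unop M'))) ≫ evalTenAux K L (unop M') := by
      change (LTen₂ A).map (Prod.mkHom ((LTen₂ A).map (Prod.mkHom (𝟙 K) (RHomMap m.unop L)) ≫
        evalTen K L (unop M')) (𝟙 (unop M'))) ≫ ev (unop M') _ = _
      rw [← evalTen_fac, ← Category.assoc, ← Functor.map_comp]
      congr 2
    have h2 : (rhomHomEquiv _ _ _).symm (evalTen K L (unop M)) = evalTenAux K L (unop M) :=
      evalTen_fac K L (unop M)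
    rw [h1, h2, evalTenAux, evalTenAux]
    have hL : (LTen₂ A).map (Prod.mkHom ((LTen₂ A).map (Prod.mkHom (𝟙 K) (RHomMap m.unop L)))
          (𝟙 (unop M'))) ≫ (DTen.associator K ((RHomR A (unop M')).obj L) (unop M')).hom ≫
          (LTen₂ A).map (Prod.mkHom (𝟙 K) (ev (unop M') L)) =
        (DTen.associator K ((RHomR A (unop M)).obj L) (unop M')).hom ≫
          (LTen₂ A).map (Prod.mkHom (𝟙 K)
            ((LTen₂ A).map (Prod.mkHom (RHomMap m.unop L) (𝟙 (unop M'))) ≫ ev (unop M') L)) := by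
      rw [← Category.assoc, DTenG.associator_naturality, Category.assoc, ← Functor.map_comp]
      congr 2
    have hid : (𝟙 ((LTen₂ A).obj (K, (RHomR A (unop M)).obj L))) =
        (LTen₂ A).map (Prod.mkHom (𝟙 K) (𝟙 ((RHomR A (unop M)).obj L))) :=
      ((LTen₂ A).map_id _).symm
    have hR : (LTen₂ A).map (Prod.mkHom (𝟙 ((LTen₂ A).obj (K, (RHomR A (unop M)).obj L))) m.unop) ≫
          (DTen.associator K ((RHomR A (unop M)).obj L) (unop M)).hom ≫
          (LTen₂ A).map (Prod.mkHom (𝟙 K) (ev (unop M) L)) =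
        (DTen.associator K ((RHomR A (unop M)).obj L) (unop M')).hom ≫
          (LTen₂ A).map (Prod.mkHom (𝟙 K)
            ((LTen₂ A).map (Prod.mkHom (𝟙 ((RHomR A (unop M)).obj L)) m.unop) ≫
              ev (unop M) L)) := by
      rw [hid, ← Category.assoc, DTenG.associator_naturality, Category.assoc, ← Functor.map_comp]
      congr 2
    rw [hL, hR, RHom_map_ev]

/-- if `- ⊗^L M` is an equivalence then `evalTen K L M` is an isomorphism -/
theorem isIso_evalTen_of_isEquivalence_right (K L M : Dual.D A)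
    [(tensorRightD A M).IsEquivalence] : IsIso (evalTen K L M) := by
  let F := tensorRightD A M
  refine isIso_of_yoneda_map_bijective _ (fun T => ?_)
  haveI : IsIso (ev M L) := inferInstanceAs (IsIso ((rhomAdj A M).counit.app L))
  haveI : IsIso (evalTenAux K L M) := by
    unfold evalTenAux
    haveI : IsIso ((LTen₂ A).map (Prod.mkHom (𝟙 K) (ev M L))) :=
      inferInstanceAs (IsIso (((LTen A).obj K).map (ev M L)))
    infer_instance
  have key : ∀ g : T ⟶ (LTen₂ A).obj (K, (RHomR A M).obj L), g ≫ evalTen K L M =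
      rhomHomEquiv _ _ _ (F.map g ≫ evalTenAux K L M) := by
    intro g
    change g ≫ (rhomAdj A M).homEquiv _ _ (evalTenAux K L M) = _
    rw [← Adjunction.homEquiv_naturality_left]
  constructor
  · intro g₁ g₂ h
    have h' : g₁ ≫ evalTen K L M = g₂ ≫ evalTen K L M := h
    rw [key, key] at h'
    have h2 := (rhomHomEquiv _ _ _).injective h'
    exact F.map_injective ((cancel_mono (evalTenAux K L M)).1 h2)
  · intro z
    refine ⟨F.preimage ((rhomHomEquiv _ _ _).symm z ≫ inv (evalTenAux K L M)), ?_⟩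
    change _ ≫ evalTen K L M = z
    rw [key, F.map_preimage, Category.assoc, IsIso.inv_hom_id, Category.comp_id,
      Equiv.apply_symm_apply]

/-- **evalTen is an isomorphism for perfect `M`.** -/
theorem isIso_evalTen_of_isPerfect_hom_source (K L M : Dual.D A) (hM : DRing.IsPerfect A M) :
    IsIso (evalTen K L M) := by
  have h := ContraExact.isIso_app_of_isPerfect (homExactOp_tensor_RHom K L)
    (homExactOp_RHom ((LTen₂ A).obj (K, L))) (evalTenNatM K L)
    (fun j => by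
      change IsIso (evalTen K L ((unit A)⟦j⟧))
      exact isIso_evalTen_of_isEquivalence_right K L _) M hM
  exact h

end EvalM

end Groth.Agent.Lib.Helper18.DR
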