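import Mathlib
import Groth.Agent.Lib.Helper18.EvalM

/-!
# `RHom(L, M) ⊗^L K ⟶ RHom(RHom(K, L), M)` is an isomorphism for perfect `K` (helper18)
-/

set_option autoImplicit false
set_option linter.style.haveILetI false
universe u
open CategoryTheory CategoryTheory.Limits CategoryTheory.Pretriangulated MonoidalCategory
  DerivedCategory HomologicalComplex Opposite

attribute [local instance] HasDerivedCategory.standard

namespace Groth.Agent.Lib.Helper18.DR

namespace EvalK

open DTen DTenE DTenF DTenG DistPair ContraExact HomCx EvalM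

variable {A : Type u} [CommRing A] [HasLTen A] [HasLTen₃ A] [IsSymMonoidal A] [HasRHom A]

/-- `K ↦ RHom(RHom(K, L), M)` -/
noncomputable def RR (L M : Dual.D A) : Dual.D A ⥤ Dual.D A :=
  ((RHom A).flip.obj L).rightOp ⋙ (RHom A).flip.obj M

lemma RR_map (L M : Dual.D A) {K K' : Dual.D A} (k : K ⟶ K') :
    (RR L M).map k = RHomMap (RHomMap k L) M := rfl

instance (L M : Dual.D A) : (RR L M).PreservesZeroMorphisms :=
  ⟨fun K K' => by
    change RHomMap (RHomMap (0 : K ⟶ K') L) M = 0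
    rw [RHomMap_zero, RHomMap_zero]⟩

lemma adjunct_zero (T X M : Dual.D A) :
    (rhomHomEquiv T X M).symm 0 = 0 := by
  change (LTen₂ A).map (Prod.mkHom 0 (𝟙 X)) ≫ ev X M = 0
  rw [tensor_map_zero_left, zero_comp]

lemma homExact_RR (L M : Dual.D A) : HomExact (RR L M) := by
  intro Tr hTr T y₀ hy
  let y : T ⟶ (RHomR A ((RHomR A Tr.obj₃).obj L)).obj M := y₀
  have hy' : y ≫ RHomMap (RHomMap Tr.mor₃ L) M = 0 := hy
  let y' : (LTen₂ A).obj (T, (RHomR A Tr.obj₃).obj L) ⟶ M :=
    (rhomHomEquiv T ((RHomR A Tr.obj₃).obj L) M).symm y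
  have h1 : (LTen₂ A).map (Prod.mkHom (𝟙 T) (RHomMap Tr.mor₃ L)) ≫ y' = 0 := by
    rw [← adjunct_comp_RHomMap, hy', adjunct_zero]
  obtain ⟨x', hx'⟩ := ((isDistPair_RHomMap Tr hTr L).tensorLeft T).yoneda_exact y' h1
  refine ⟨rhomHomEquiv T ((RHomR A Tr.obj₂).obj L) M x', ?_⟩
  apply (rhomHomEquiv T ((RHomR A Tr.obj₃).obj L) M).symm.injective
  change (rhomHomEquiv T ((RHomR A Tr.obj₃).obj L) M).symm
    (rhomHomEquiv T ((RHomR A Tr.obj₂).obj L) M x' ≫ RHomMap (RHomMap Tr.mor₂ L) M) = y'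
  rw [adjunct_comp_RHomMap, Equiv.symm_apply_apply]
  exact hx'

lemma homExact_LTen_obj (X : Dual.D A) : HomExact ((LTen A).obj X) := by
  intro Tr hTr T y hy
  exact ((isDistPair_mor₂₃ Tr hTr).tensorLeft X).coyoneda_exact y hy

/-- naturality of the symmetry -/
lemma symm_naturality {X X' Y Y' : Dual.D A} (f : X ⟶ X') (g : Y ⟶ Y') :
    (LTen₂ A).map (Prod.mkHom g f) ≫ (symm A).app (X', Y') =
      (symm A).app (X, Y) ≫ (LTen₂ A).map (Prod.mkHom f g) :=
  (symm A).naturality (Prod.mkHom f g : (X, Y) ⟶ (X', Y'))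

/-- `evalHom` as a natural transformation in `K` -/
noncomputable def evalHomNat (L M : Dual.D A) : (LTen A).obj ((RHomR A L).obj M) ⟶ RR L M where
  app K := evalHom K L M
  naturality K K' k := by
    apply (rhomHomEquiv _ _ _).symm.injective
    change (rhomHomEquiv _ _ _).symm
        ((LTen₂ A).map (Prod.mkHom (𝟙 ((RHomR A L).obj M)) k) ≫ evalHom K' L M) =
      (rhomHomEquiv _ _ _).symm (evalHom K L M ≫ RHomMap (RHomMap k L) M)
    rw [adjunct_comp_RHomMap]
    have h1 : (rhomHomEquiv _ _ _).symm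
        ((LTen₂ A).map (Prod.mkHom (𝟙 ((RHomR A L).obj M)) k) ≫ evalHom K' L M) =
        (LTen₂ A).map (Prod.mkHom ((LTen₂ A).map (Prod.mkHom (𝟙 ((RHomR A L).obj M)) k))
          (𝟙 ((RHomR A K').obj L))) ≫ evalHomAux K' L M := by
      change (LTen₂ A).map (Prod.mkHom ((LTen₂ A).map (Prod.mkHom (𝟙 _) k) ≫
        evalHom K' L M) (𝟙 _)) ≫ ev _ _ = _
      rw [← evalHom_fac, ← Category.assoc, ← Functor.map_comp]
      congr 2
    have h2 : (rhomHomEquiv _ _ _).symm (evalHom K L M) = evalHomAux K L M :=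
      evalHom_fac K L M
    rw [h1, h2, evalHomAux, evalHomAux]
    have hL : (LTen₂ A).map (Prod.mkHom ((LTen₂ A).map (Prod.mkHom (𝟙 ((RHomR A L).obj M)) k))
          (𝟙 ((RHomR A K').obj L))) ≫
          (DTen.associator ((RHomR A L).obj M) K' ((RHomR A K').obj L)).hom ≫
          (LTen₂ A).map (Prod.mkHom (𝟙 ((RHomR A L).obj M))
            ((symm A).app ((RHomR A K').obj L, K') ≫ ev K' L)) ≫ ev L M =
        (DTen.associator ((RHomR A L).obj M) K ((RHomR A K').obj L)).hom ≫
          (LTen₂ A).map (Prod.mkHom (𝟙 ((RHomR A L).obj M))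
            ((LTen₂ A).map (Prod.mkHom k (𝟙 ((RHomR A K').obj L))) ≫
              (symm A).app ((RHomR A K').obj L, K') ≫ ev K' L)) ≫ ev L M := by
      rw [← Category.assoc, DTenG.associator_naturality, Category.assoc, ← Category.assoc
        ((LTen₂ A).map _), ← Functor.map_comp]
      congr 3
    have hid : (𝟙 ((LTen₂ A).obj ((RHomR A L).obj M, K))) =
        (LTen₂ A).map (Prod.mkHom (𝟙 ((RHomR A L).obj M)) (𝟙 K)) :=
      ((LTen₂ A).map_id _).symm
    have hR : (LTen₂ A).map (Prod.mkHom (𝟙 ((LTen₂ A).obj ((RHomR A L).obj M, K)))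
          (RHomMap k L)) ≫
          (DTen.associator ((RHomR A L).obj M) K ((RHomR A K).obj L)).hom ≫
          (LTen₂ A).map (Prod.mkHom (𝟙 ((RHomR A L).obj M))
            ((symm A).app ((RHomR A K).obj L, K) ≫ ev K L)) ≫ ev L M =
        (DTen.associator ((RHomR A L).obj M) K ((RHomR A K').obj L)).hom ≫
          (LTen₂ A).map (Prod.mkHom (𝟙 ((RHomR A L).obj M))
            ((LTen₂ A).map (Prod.mkHom (𝟙 K) (RHomMap k L)) ≫
              (symm A).app ((RHomR A K).obj L, K) ≫ ev K L)) ≫ ev L M := by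
      rw [hid, ← Category.assoc, DTenG.associator_naturality, Category.assoc, ← Category.assoc
        ((LTen₂ A).map _), ← Functor.map_comp]
      congr 3
    have hin : (LTen₂ A).map (Prod.mkHom k (𝟙 ((RHomR A K').obj L))) ≫
          (symm A).app ((RHomR A K').obj L, K') ≫ ev K' L =
        (LTen₂ A).map (Prod.mkHom (𝟙 K) (RHomMap k L)) ≫
          (symm A).app ((RHomR A K).obj L, K) ≫ ev K L := by
      rw [← Category.assoc, symm_naturality, Category.assoc, ← RHom_map_ev, ← Category.assoc,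
        ← Category.assoc, symm_naturality]
    rw [hL, hR, hin]

/-- if `- ⊗^L K` is an equivalence then `evalHom K L M` is an isomorphism -/
theorem isIso_evalHom_of_isEquivalence (K L M : Dual.D A) [(tensorRightD A K).IsEquivalence] :
    IsIso (evalHom K L M) := by
  let F := tensorRightD A K
  let R := (RHomR A K).obj L
  let RLM := (RHomR A L).obj M
  let F' := tensorRightD A R
  refine isIso_of_yoneda_map_bijective _ (fun T => ?_)
  let H := F.objPreimage T
  let u : F.obj H ≅ T := F.objObjPreimageIso T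
  let α := DTen.associator H K R
  haveI : IsIso (ev K L) := inferInstanceAs (IsIso ((rhomAdj A K).counit.app L))
  let c : (LTen₂ A).obj (K, R) ⟶ L := (symm A).app (R, K) ≫ ev K L
  haveI : IsIso c := by
    dsimp only [c]
    infer_instance
  haveI : IsIso ((LTen₂ A).map (Prod.mkHom (𝟙 H) c)) :=
    inferInstanceAs (IsIso (((LTen A).obj H).map c))
  have key : ∀ h : H ⟶ RLM, (u.inv ≫ F.map h) ≫ evalHom K L M =
      rhomHomEquiv T R M (F'.map u.inv ≫ α.hom ≫ (LTen₂ A).map (Prod.mkHom (𝟙 H) c) ≫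
        (rhomHomEquiv H L M).symm h) := by
    intro h
    change (u.inv ≫ F.map h) ≫ (rhomAdj A R).homEquiv _ _ (evalHomAux K L M) = _
    rw [← Adjunction.homEquiv_naturality_left]
    congr 1
    rw [Functor.map_comp, Category.assoc]
    congr 1
    change (LTen₂ A).map (Prod.mkHom ((LTen₂ A).map (Prod.mkHom h (𝟙 K))) (𝟙 R)) ≫
      (DTen.associator RLM K R).hom ≫ (LTen₂ A).map (Prod.mkHom (𝟙 RLM) c) ≫ ev L M =
      (DTen.associator H K R).hom ≫ (LTen₂ A).map (Prod.mkHom (𝟙 H) c) ≫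
        (LTen₂ A).map (Prod.mkHom h (𝟙 L)) ≫ ev L M
    rw [← Category.assoc, DTenG.associator_naturality, Category.assoc,
      ← Category.assoc ((LTen₂ A).map _), ← Functor.map_comp,
      ← Category.assoc ((LTen₂ A).map (Prod.mkHom (𝟙 H) c)), ← Functor.map_comp]
    congr 3
    change Prod.mkHom (h ≫ 𝟙 RLM) ((LTen₂ A).map (Prod.mkHom (𝟙 K) (𝟙 R)) ≫ c) =
      Prod.mkHom (𝟙 H ≫ h) (c ≫ 𝟙 L)
    have : (Prod.mkHom (𝟙 K) (𝟙 R)) = 𝟙 (K, R) := rfl
    rw [this, CategoryTheory.Functor.map_id, Category.id_comp, Category.comp_id, Category.id_comp,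
      Category.comp_id]
  constructor
  · intro g₁ g₂ hg
    have hg' : g₁ ≫ evalHom K L M = g₂ ≫ evalHom K L M := hg
    have e₁ : g₁ = u.inv ≫ F.map (F.preimage (u.hom ≫ g₁)) := by
      rw [F.map_preimage, Iso.inv_hom_id_assoc]
    have e₂ : g₂ = u.inv ≫ F.map (F.preimage (u.hom ≫ g₂)) := by
      rw [F.map_preimage, Iso.inv_hom_id_assoc]
    rw [e₁, e₂, key, key] at hg'
    have h2 := (rhomHomEquiv T R M).injective hg'
    have h3 := (cancel_epi (F'.map u.inv)).1 h2
    have h4 := (cancel_epi α.hom).1 h3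
    have h5 := (cancel_epi ((LTen₂ A).map (Prod.mkHom (𝟙 H) c))).1 h4
    have h6 := (rhomHomEquiv H L M).symm.injective h5
    rw [e₁, e₂, h6]
  · intro z
    let z' := (rhomHomEquiv T R M).symm z
    let w : (LTen₂ A).obj (H, L) ⟶ M :=
      inv ((LTen₂ A).map (Prod.mkHom (𝟙 H) c)) ≫ α.inv ≫ F'.map u.hom ≫ z'
    refine ⟨u.inv ≫ F.map (rhomHomEquiv H L M w), ?_⟩
    change (u.inv ≫ F.map (rhomHomEquiv H L M w)) ≫ evalHom K L M = z
    rw [key, Equiv.symm_apply_apply]
    dsimp only [w]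
    rw [IsIso.hom_inv_id_assoc, Iso.hom_inv_id_assoc, ← Functor.map_comp_assoc, Iso.inv_hom_id,
      CategoryTheory.Functor.map_id, Category.id_comp]
    exact Equiv.apply_symm_apply _ z

/-- **evalHom is an isomorphism for perfect `K`.** -/
theorem isIso_evalHom_of_isPerfect (K L M : Dual.D A) (hK : DRing.IsPerfect A K) :
    IsIso (evalHom K L M) := by
  have h := DTenE.isIso_app_of_isPerfect (homExact_LTen_obj ((RHomR A L).obj M))
    (homExact_RR L M) (evalHomNat L M)
    (fun j => by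
      change IsIso (evalHom ((unit A)⟦j⟧) L M)
      exact isIso_evalHom_of_isEquivalence _ L M) K hK
  exact h

end EvalK

end Groth.Agent.Lib.Helper18.DR
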