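import Mathlib
import Groth.Agent.Lib.Helper18.DTenE
import Groth.Agent.Lib.Helper18.DRTrunc
import Groth.Agent.Lib.Helper18.DRInjAmp

/-!
# A way-out lemma for hom-exact functors on pseudo-coherent objects (helper18)
-/

set_option autoImplicit false
set_option linter.style.haveILetI false
universe u
open CategoryTheory CategoryTheory.Limits CategoryTheory.Pretriangulated DerivedCategory

attribute [local instance] HasDerivedCategory.standard

namespace Groth.Agent.Lib.Helper18.DR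

namespace WayOut

open DTenE

variable {R : Type u} [CommRing R]

/-- a morphism of `D(R)` inducing bijections on `Hom(R[-i], -)` for all `i` is an isomorphism -/
theorem isIso_of_bijective_hom_Sg {X Y : Dual.D R} (f : X ⟶ Y)
    (h : ∀ i : ℤ, Function.Bijective (fun φ : Sg i (ModuleCat.of R R) ⟶ X => φ ≫ f)) :
    IsIso f := by
  rw [DerivedCategory.isIso_iff]
  intro n
  rw [ConcreteCategory.isIso_iff_bijective]
  constructor
  · rw [injective_iff_map_eq_zero]
    intro x hx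
    obtain ⟨φ, hφ⟩ := exists_hom_Sg n (ModuleCat.of R R) X
      (ModuleCat.ofHom (LinearMap.toSpanSingleton R _ x))
    have h1 : (H R n).map (φ ≫ f) = 0 := by
      rw [← cancel_epi (HSg n (ModuleCat.of R R)).inv, comp_zero, Functor.map_comp,
        ← Category.assoc, hφ]
      refine ModuleCat.hom_ext (LinearMap.ext_ring ?_)
      change ((H R n).map f).hom (LinearMap.toSpanSingleton R _ x (1 : R)) = 0
      rw [LinearMap.toSpanSingleton_apply, one_smul]
      exact hx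
    have h2 : φ ≫ f = 0 := hom_Sg_eq_zero n _ _ _ h1
    have h3 : φ = 0 := (h n).1 (by change φ ≫ f = 0 ≫ f; rw [h2, zero_comp])
    rw [h3, Functor.map_zero, comp_zero] at hφ
    have := congrArg (fun g => g.hom (1 : R)) hφ
    simpa using this.symm
  · intro y
    obtain ⟨ψ, hψ⟩ := exists_hom_Sg n (ModuleCat.of R R) Y
      (ModuleCat.ofHom (LinearMap.toSpanSingleton R _ y))
    obtain ⟨φ, hφ⟩ := (h n).2 ψ
    have hφ' : φ ≫ f = ψ := hφ
    refine ⟨((HSg n (ModuleCat.of R R)).inv ≫ (H R n).map φ).hom (1 : R), ?_⟩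
    have := congrArg (fun g => g.hom (1 : R)) hψ
    rw [← hφ', Functor.map_comp] at this
    simpa using this

variable {G G' : Dual.D R ⥤ Dual.D R} [G.PreservesZeroMorphisms] [G'.PreservesZeroMorphisms]

/-- **way-out lemma**: a natural transformation between hom-exact functors which send `D^{≤ -N}`
into `D^{≤ c - N}`, invertible on perfect objects, is invertible on pseudo-coherent objects. -/
theorem isIso_app_of_isPseudoCoherent (hG : HomExact G) (hG' : HomExact G') (τ : G ⟶ G') (c : ℤ)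
    (hc : ∀ (N : ℤ) (X : Dual.D R), X.IsLE (-N) → (G.obj X).IsLE (c - N))
    (hc' : ∀ (N : ℤ) (X : Dual.D R), X.IsLE (-N) → (G'.obj X).IsLE (c - N))
    (hperf : ∀ P : Dual.D R, DRing.IsPerfect R P → IsIso (τ.app P))
    (K : Dual.D R) (hK : DRing.IsPseudoCoherent' R K) : IsIso (τ.app K) := by
  obtain ⟨E, b, hEb, hEf, ⟨e⟩⟩ := hK
  suffices hE : IsIso (τ.app (DRing.toD E)) from isIso_app_of_iso τ e hE
  refine isIso_of_bijective_hom_Sg _ (fun i => ?_)
  -- choose the truncation level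
  let N : ℤ := c - i + 2
  let Tr := sigmaTriangle E (-N)
  have hTr : Tr ∈ distTriang (Dual.D R) := sigmaTriangle_distinguished E (-N)
  have hperf₁ : DRing.IsPerfect R Tr.obj₁ :=
    ⟨sigmaGE E (-N), -N, b, vanishesOutside_sigmaGE E (-N) hEb,
      fun j => ⟨((termwiseFiniteFree_sigmaGE E (-N) hEf) j).1,
        haveI := ((termwiseFiniteFree_sigmaGE E (-N) hEf) j).2; inferInstance⟩, ⟨Iso.refl _⟩⟩
  haveI : IsIso (τ.app Tr.obj₁) := hperf _ hperf₁
  have hLE₃ : Tr.obj₃.IsLE (-N - 1) := by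
    change (DerivedCategory.Q.obj (sigmaLT E (-N))).IsLE (-N - 1)
    infer_instance
  have hLE₃' : Tr.obj₃.IsLE (-(N + 1)) := by
    have : -(N + 1) = -N - 1 := by ring
    rw [this]; exact hLE₃
  have hLE₃s : (Tr.obj₃⟦(-1 : ℤ)⟧).IsLE (-N) := by
    haveI := hLE₃
    exact TStructure.t.isLE_shift Tr.obj₃ (-N - 1) (-1) (-N) (by ring)
  -- vanishing of the outer terms
  let T := Sg i (ModuleCat.of R R)
  have hz : ∀ (F : Dual.D R ⥤ Dual.D R) (X : Dual.D R) (m : ℤ), (F.obj X).IsLE m → m < i →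
      ∀ φ : T ⟶ F.obj X, φ = 0 := by
    intro F X m hm hmi φ
    haveI : (F.obj X).IsLE (i - 1) := TStructure.t.isLE_of_le _ m (i - 1) (by omega)
    exact hom_Sg_eq_zero_of_isLE i _ _ φ
  have hm : c - (N + 1) < i := by dsimp only [N]; omega
  have hm' : c - N < i := by dsimp only [N]; omega
  -- injectivity and surjectivity of `Hom(T, F(mor₁))`
  have hinj : ∀ (F : Dual.D R ⥤ Dual.D R) [F.PreservesZeroMorphisms], HomExact F →
      (∀ (N : ℤ) (X : Dual.D R), X.IsLE (-N) → (F.obj X).IsLE (c - N)) →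
      ∀ y : T ⟶ F.obj Tr.obj₁, y ≫ F.map Tr.mor₁ = 0 → y = 0 := by
    intro F _ hF hcF y hy
    obtain ⟨x, hx⟩ := ((hF.exact₂ Tr.invRotate (inv_rot_of_distTriang _ hTr) T) y).1 hy
    have hx0 : x = 0 := hz F _ _ (hcF N _ hLE₃s) hm' x
    rw [← hx, hx0]
    exact (zero_comp : (0 : T ⟶ _) ≫ F.map Tr.invRotate.mor₁ = 0)
  have hsurj : ∀ (F : Dual.D R ⥤ Dual.D R) [F.PreservesZeroMorphisms], HomExact F →
      (∀ (N : ℤ) (X : Dual.D R), X.IsLE (-N) → (F.obj X).IsLE (c - N)) →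
      ∀ z : T ⟶ F.obj Tr.obj₂, ∃ x : T ⟶ F.obj Tr.obj₁, x ≫ F.map Tr.mor₁ = z := by
    intro F _ hF hcF z
    have hz0 : z ≫ F.map Tr.mor₂ = 0 := hz F _ _ (hcF (N + 1) _ hLE₃') hm _
    obtain ⟨x, hx⟩ := ((hF.exact₂ Tr hTr T) z).1 hz0
    exact ⟨x, hx⟩
  constructor
  · intro z₁ z₂ hzz
    have hzz' : z₁ ≫ τ.app Tr.obj₂ = z₂ ≫ τ.app Tr.obj₂ := hzz
    obtain ⟨x₁, rfl⟩ := hsurj G hG hc z₁
    obtain ⟨x₂, rfl⟩ := hsurj G hG hc z₂
    erw [Category.assoc, Category.assoc, τ.naturality, ← Category.assoc, ← Category.assoc] at hzz'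
    have h0 : (x₁ ≫ τ.app Tr.obj₁ - x₂ ≫ τ.app Tr.obj₁) = 0 :=
      hinj G' hG' hc' _ (by rw [Preadditive.sub_comp, hzz', sub_self])
    have h1 : x₁ ≫ τ.app Tr.obj₁ = x₂ ≫ τ.app Tr.obj₁ := sub_eq_zero.1 h0
    rw [(cancel_mono (τ.app Tr.obj₁)).1 h1]
  · intro w
    obtain ⟨x', rfl⟩ := hsurj G' hG' hc' w
    refine ⟨(x' ≫ inv (τ.app Tr.obj₁)) ≫ G.map Tr.mor₁, ?_⟩
    change ((x' ≫ inv (τ.app Tr.obj₁)) ≫ G.map Tr.mor₁) ≫ τ.app Tr.obj₂ = _
    rw [Category.assoc, τ.naturality, Category.assoc, IsIso.inv_hom_id_assoc]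

end WayOut

end Groth.Agent.Lib.Helper18.DR
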