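import Mathlib
import Groth.Agent.Lib.Helper18.EvalK
import Groth.Agent.Lib.Helper18.WayOut
import Groth.Agent.Lib.Helper18.DRInjFin
import Groth.Agent.Lib.Helper18.DRRes

/-!
# Amplitude estimates for `⊗^L` and `RHom`; `evalHom` for pseudo-coherent `K` (helper18)
-/

set_option autoImplicit false
set_option linter.style.haveILetI false
universe u
open CategoryTheory CategoryTheory.Limits CategoryTheory.Pretriangulated MonoidalCategory
  DerivedCategory HomologicalComplex Opposite

attribute [local instance] HasDerivedCategory.standard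

namespace Groth.Agent.Lib.Helper18.DR

namespace Ampl

open DTen DTenE DTenF DTenG DistPair ContraExact HomCx EvalM EvalK

variable {A : Type u} [CommRing A]

/-- terms of a tensor product of complexes vanish above the sum of the bounds -/
lemma vanishesAbove_tensor (E E' : DRing.Cx A) (p q : ℤ) (hE : DRing.VanishesAbove E p)
    (hE' : DRing.VanishesAbove E' q) : DRing.VanishesAbove (E ⊗ E') (p + q) := by
  intro m hm
  rw [IsZero.iff_id_eq_zero]
  refine mapBifunctor.hom_ext (fun i j hij => ?_)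
  have hij' : i + j = m := hij
  have hz : IsZero ((E.X i) ⊗ (E'.X j)) := by
    by_cases hi : p < i
    · exact ((tensorRight (E'.X j)).map_isZero (hE i hi))
    · exact ((tensorLeft (E.X i)).map_isZero (hE' j (by omega)))
  exact hz.eq_of_src _ _

variable [HasLTen A]

/-- **amplitude of the derived tensor product** -/
theorem isLE_LTen₂ (X Y : Dual.D A) (p q : ℤ) [X.IsLE p] [Y.IsLE q] :
    ((LTen₂ A).obj (X, Y)).IsLE (p + q) := by
  obtain ⟨E, hE, hEf, ⟨e⟩⟩ := exists_free_resolution X p
  obtain ⟨E', hE', hEf', ⟨e'⟩⟩ := exists_free_resolution Y q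
  haveI : E.IsKProjective := isKProjective_of_vanishesAbove E p hE
    (fun i => haveI := hEf i; inferInstance)
  haveI := DTenB.isIso_ε_app_left E E'
  haveI := isStrictlyLE_of_vanishesAbove (E ⊗ E') (p + q) (vanishesAbove_tensor E E' p q hE hE')
  haveI h1 : ((tensor₂ A).obj (E, E')).IsLE (p + q) :=
    (inferInstance : (DerivedCategory.Q.obj (E ⊗ E')).IsLE (p + q))
  exact TStructure.t.isLE_of_iso
    ((asIso ((ε A).app (E, E'))).symm ≪≫ (LTen₂ A).mapIso (Iso.prod e e')) (p + q)

variable [HasRHom A]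

/-- `Hom(A[j], RHom(X, M))` vanishes when `Hom(X[j], M)` does -/
lemma subsingleton_hom_unit_shift_RHom (X M : Dual.D A) (j : ℤ)
    (h : Subsingleton (X⟦j⟧ ⟶ M)) : Subsingleton ((unit A)⟦j⟧ ⟶ (RHomR A X).obj M) := by
  let e₁ := rhomHomEquiv ((unit A)⟦j⟧) X M
  let e₂ : ((LTen₂ A).obj ((unit A)⟦j⟧, X) ⟶ M) ≃ (X⟦j⟧ ⟶ M) :=
    (((shiftLIso j).app X).homFromEquiv : _ ≃ _)
  exact (e₁.symm.trans e₂).subsingleton

lemma subsingleton_hom_Sg_RHom (X M : Dual.D A) (i : ℤ)
    (h : Subsingleton (X⟦-i⟧ ⟶ M)) :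
    Subsingleton (Sg i (ModuleCat.of A A) ⟶ (RHomR A X).obj M) := by
  haveI := subsingleton_hom_unit_shift_RHom X M (-i) h
  let e : Sg i (ModuleCat.of A A) ≅ (unit A)⟦-i⟧ :=
    (SgShiftIso (-i) i 0 (by omega) (ModuleCat.of A A)).symm
  exact (e.homFromEquiv : (Sg i (ModuleCat.of A A) ⟶ (RHomR A X).obj M) ≃ _).subsingleton

/-- **amplitude of `RHom`, injective bound** -/
theorem isLE_RHom (X M : Dual.D A) (n' a b : ℤ) [X.IsGE n']
    (hM : DRing.HasInjAmplitudeIn A a b M) : ((RHomR A X).obj M).IsLE (b - n') := by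
  obtain ⟨E, hE, hinj, ⟨eM⟩⟩ := hM
  rw [DerivedCategory.isLE_iff]
  intro i hi
  apply isZero_H_of_subsingleton_hom
  apply subsingleton_hom_Sg_RHom
  haveI : (X⟦-i⟧).IsGE (n' + i) := TStructure.t.isGE_shift X n' (-i) (n' + i) (by ring)
  haveI : (X⟦-i⟧).IsGE (b + 1) := TStructure.t.isGE_of_ge _ (b + 1) (n' + i) (by omega)
  refine ⟨fun f g => ?_⟩
  have hf : f ≫ eM.inv = 0 := hom_eq_zero_of_isGE_of_injAmp E a b hE hinj _ _
  have hg : g ≫ eM.inv = 0 := hom_eq_zero_of_isGE_of_injAmp E a b hE hinj _ _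
  rw [← cancel_mono eM.inv, hf, hg]

/-- **amplitude of `RHom`, lower bound** -/
theorem isGE_RHom (X L : Dual.D A) (p n : ℤ) [X.IsLE p] [L.IsGE n] :
    ((RHomR A X).obj L).IsGE (n - p) := by
  rw [DerivedCategory.isGE_iff]
  intro i hi
  apply isZero_H_of_subsingleton_hom
  apply subsingleton_hom_Sg_RHom
  haveI : (X⟦-i⟧).IsLE (p + i) := TStructure.t.isLE_shift X p (-i) (p + i) (by ring)
  refine ⟨fun f g => ?_⟩
  rw [TStructure.t.zero f (p + i) n (by omega), TStructure.t.zero g (p + i) n (by omega)]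

variable [HasLTen₃ A] [IsSymMonoidal A]

/-- **evalHom is an isomorphism for `K` pseudo-coherent, `L` bounded below, `M` of finite
injective dimension** -/
theorem isIso_evalHom_of_isPseudoCoherent (K L M : Dual.D A) (hK : DRing.IsPseudoCoherent' A K)
    (n : ℤ) (hL : L.IsGE n) (hM : DRing.HasFiniteInjDim A M) : IsIso (evalHom K L M) := by
  obtain ⟨a, b, hab⟩ := hM
  haveI := hL
  haveI hR : ((RHomR A L).obj M).IsLE (b - n) := isLE_RHom L M n a b hab
  have h := WayOut.isIso_app_of_isPseudoCoherent (homExact_LTen_obj ((RHomR A L).obj M))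
    (homExact_RR L M) (evalHomNat L M) (b - n)
    (fun N X hX => by
      haveI := hX
      have := isLE_LTen₂ ((RHomR A L).obj M) X (b - n) (-N)
      have e : b - n + -N = b - n - N := by ring
      rw [e] at this
      exact this)
    (fun N X hX => by
      haveI := hX
      haveI : ((RHomR A X).obj L).IsGE (n - -N) := isGE_RHom X L (-N) n
      have := isLE_RHom ((RHomR A X).obj L) M (n - -N) a b hab
      have e : b - (n - -N) = b - n - N := by ring
      rw [e] at this
      exact this)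
    (fun P hP => isIso_evalHom_of_isPerfect P L M hP) K hK
  exact h

end Ampl

end Groth.Agent.Lib.Helper18.DR
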