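import Mathlib
import Groth.Prelude.Def_ArtFun2
import Groth.Agent.Lib.Helper19.ArtFunBasic

/-!
# Strongly versal families: `H0`, `S1`, `Heps`
-/

set_option autoImplicit false
universe u v

open CategoryTheory

namespace Groth.Agent.Lib.Helper18.ArtFunVersal

open ArtFun ArtFun.Art

variable {Λ : Type u} {k : Type u} [CommRing Λ] [Field k] [Algebra Λ k]
variable {R : Type u} [CommRing R] [Algebra Λ R] {resR : R →ₐ[Λ] k}

theorem homSet_lift_of_isFibreProd {B A A' A'' : Art Λ k} {p' : B ⟶ A'} {p'' : B ⟶ A''}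
    {f' : A' ⟶ A} {f'' : A'' ⟶ A} (h : IsFibreProd p' p'' f' f'')
    (φ' : HomSet R resR A') (φ'' : HomSet R resR A'')
    (hφ : HomSet.map f' φ' = HomSet.map f'' φ'') :
    ∃ ψ : HomSet R resR B, HomSet.map p' ψ = φ' ∧ HomSet.map p'' ψ = φ'' := by
  obtain ⟨ψ, h1, h2⟩ := Groth.Agent.Lib.Helper19.ArtFunBasic.exists_lift_of_isFibreProd h φ'.1 φ''.1
    (congrArg Subtype.val hφ)
  have hres : B.res.comp ψ = resR := by
    rw [← p'.res_comp, AlgHom.comp_assoc, h1]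
    exact φ'.2
  exact ⟨⟨ψ, hres⟩, Subtype.ext h1, Subtype.ext h2⟩

theorem homSet_ext_of_isFibreProd {B A A' A'' : Art Λ k} {p' : B ⟶ A'} {p'' : B ⟶ A''}
    {f' : A' ⟶ A} {f'' : A'' ⟶ A} (h : IsFibreProd p' p'' f' f'')
    (ψ₁ ψ₂ : HomSet R resR B) (h1 : HomSet.map p' ψ₁ = HomSet.map p' ψ₂)
    (h2 : HomSet.map p'' ψ₁ = HomSet.map p'' ψ₂) : ψ₁ = ψ₂ := by
  apply Subtype.ext
  apply AlgHom.ext
  intro r
  apply h.inj
  · exact DFunLike.congr_fun (congrArg Subtype.val h1) r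
  · exact DFunLike.congr_fun (congrArg Subtype.val h2) r

theorem subsingleton_homSet_base : Subsingleton (HomSet R resR (base Λ k)) := by
  refine ⟨fun a b => Subtype.ext ?_⟩
  have ha : a.1 = resR := (AlgHom.id_comp a.1).symm.trans a.2
  have hb : b.1 = resR := (AlgHom.id_comp b.1).symm.trans b.2
  rw [ha, hb]

variable {F : Art Λ k ⥤ Type v}

theorem h0_of_surjective (ξ : Family R resR F)
    (hsurj : Function.Surjective (ξ.app (base Λ k))) : H0 F := by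
  refine ⟨⟨ξ.app _ ⟨resR, AlgHom.id_comp _⟩⟩, ⟨fun a b => ?_⟩⟩
  obtain ⟨φ, rfl⟩ := hsurj a
  obtain ⟨ψ, rfl⟩ := hsurj b
  rw [(subsingleton_homSet_base (R := R) (resR := resR)).elim φ ψ]

theorem s1_of_isVersal_of_surjective (ξ : Family R resR F) (hξ : IsVersal ξ)
    (hsurj : ∀ A : Art Λ k, Function.Surjective (ξ.app A)) : S1 F := by
  intro B A A' A'' p' p'' f' f'' h hf'' x
  obtain ⟨⟨a', a''⟩, hx⟩ := x
  change F.map f' a' = F.map f'' a'' at hx
  obtain ⟨φ', rfl⟩ := hsurj A' a'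
  obtain ⟨ψ'', hψ1, hψ2⟩ := hξ f'' hf'' (HomSet.map f' φ') a'' (by rw [ξ.natural, hx])
  obtain ⟨ψ, h1, h2⟩ := homSet_lift_of_isFibreProd h φ' ψ'' hψ1.symm
  refine ⟨ξ.app B ψ, ?_⟩
  apply FibProd.ext
  · change F.map p' (ξ.app B ψ) = ξ.app A' φ'
    rw [← ξ.natural, h1]
  · change F.map p'' (ξ.app B ψ) = a''
    rw [← ξ.natural, h2, hψ2]

theorem heps_of_isMiniversal_of_surjective (ξ : Family R resR F) (hξ : IsMiniversal ξ)
    (hsurj : ∀ A : Art Λ k, Function.Surjective (ξ.app A)) : Heps F := by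
  intro B A' p' p'' h
  refine ⟨?_, ?_⟩
  · intro z₁ z₂ hz
    have hz1 : F.map p' z₁ = F.map p' z₂ := congrArg (fun t => t.1.1) hz
    have hz2 : F.map p'' z₁ = F.map p'' z₂ := congrArg (fun t => t.1.2) hz
    obtain ⟨ψ₁, rfl⟩ := hsurj B z₁
    have hp' : Function.Surjective p' := by
      intro a'
      obtain ⟨c, hc⟩ := (dual Λ k).res_surjective (A'.res a')
      obtain ⟨b, hb, -⟩ := h.surj a' c hc.symm
      exact ⟨b, hb⟩
    obtain ⟨ψ₂, hψ1, hψ2⟩ := hξ.1 p' hp' (HomSet.map p' ψ₁) z₂ (by rw [ξ.natural, hz1])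
    have htan : HomSet.map p'' ψ₂ = HomSet.map p'' ψ₁ := by
      apply hξ.2.1
      rw [ξ.natural, ξ.natural, hψ2, hz2]
    rw [← hψ2, homSet_ext_of_isFibreProd h ψ₂ ψ₁ hψ1 htan]
  · exact s1_of_isVersal_of_surjective ξ hξ.1 hsurj p' p'' _ _ h (dual Λ k).res_surjective

end Groth.Agent.Lib.Helper18.ArtFunVersal
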