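import Mathlib
import Groth.Agent.S3625
import Groth.Agent.Lib.Helper4.GorHomSch

/-!
# Flat families over an Artinian local ring with Gorenstein closed fibre (helper18)
-/

set_option autoImplicit false
set_option linter.style.haveILetI false
universe u
open CategoryTheory CategoryTheory.Limits AlgebraicGeometry

noncomputable section

namespace Groth.Agent.Lib.Helper18.ArtGorFib

variable {A : Type u} [CommRing A] [IsArtinianRing A] [IsLocalRing A]

omit [IsArtinianRing A] in
/-- every prime of an Artinian local ring is the maximal ideal -/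
lemma asIdeal_eq_maximalIdeal [IsArtinianRing A] (y : PrimeSpectrum A) :
    y.asIdeal = IsLocalRing.maximalIdeal A :=
  IsLocalRing.eq_maximalIdeal (IsArtinianRing.isMaximal_of_isPrime y.asIdeal)

/-- the residue field of `A` is the residue field at any point of `Spec A` -/
def resEquiv (y : PrimeSpectrum A) :
    IsLocalRing.ResidueField A ≃+* y.asIdeal.ResidueField :=
  haveI : y.asIdeal.IsMaximal := IsArtinianRing.isMaximal_of_isPrime y.asIdeal
  (Ideal.quotEquivOfEq (asIdeal_eq_maximalIdeal y).symm).trans
    (RingEquiv.ofBijective _ y.asIdeal.bijective_algebraMap_quotient_residueField)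

lemma resEquiv_residue (y : PrimeSpectrum A) (a : A) :
    resEquiv y (IsLocalRing.residue A a) = algebraMap A y.asIdeal.ResidueField a := by
  rfl

/-- `Spec κ(y) ≅ Spec k` over `Spec A` -/
def specResIso (y : Spec (CommRingCat.of A)) :
    Spec ((Spec (CommRingCat.of A)).residueField y) ≅
      Spec (CommRingCat.of (IsLocalRing.ResidueField A)) :=
  (Scheme.Spec.mapIso (Scheme.Spec.residueFieldIso (CommRingCat.of A) y).op).symm ≪≫
    (Scheme.Spec.mapIso (resEquiv (A := A) y).toCommRingCatIso.op)

lemma specResIso_hom_comp (y : Spec (CommRingCat.of A)) :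
    (specResIso y).hom ≫ Spec.map (CommRingCat.ofHom (IsLocalRing.residue A)) =
      (Spec (CommRingCat.of A)).fromSpecResidueField y := by
  rw [← Scheme.Spec.map_residueFieldIso_inv_eq_fromSpecResidueField]
  simp only [specResIso, Iso.trans_hom, Iso.symm_hom, Functor.mapIso_inv, Functor.mapIso_hom,
    Iso.op_inv, Iso.op_hom, Scheme.Spec_map, Quiver.Hom.unop_op, Category.assoc]
  congr 1
  rw [← Spec.map_comp]
  congr 1

variable {P X : Scheme.{u}} (f : P ⟶ Spec (CommRingCat.of A))
  (i : X ⟶ P) (q : X ⟶ Spec (CommRingCat.of (IsLocalRing.ResidueField A)))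
  (hsq : IsPullback i q f (Spec.map (CommRingCat.ofHom (IsLocalRing.residue A))))

include hsq in
/-- the closed fibre is the scheme-theoretic fibre over any point -/
lemma isPullback_fiber (y : Spec (CommRingCat.of A)) :
    IsPullback i (q ≫ (specResIso y).inv) f ((Spec (CommRingCat.of A)).fromSpecResidueField y) := by
  refine IsPullback.of_iso hsq (Iso.refl _) (Iso.refl _) (specResIso y).symm (Iso.refl _)
    (by simp) (by simp) (by simp) ?_
  simp only [Iso.symm_hom, Iso.refl_hom, Category.comp_id]
  rw [← specResIso_hom_comp y, Iso.inv_hom_id_assoc]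

include hsq in
lemma isLocallyNoetherian_fiber [IsLocallyNoetherian X] (y : Spec (CommRingCat.of A)) :
    IsLocallyNoetherian (f.fiber y) := by
  let e : X ≅ f.fiber y := (isPullback_fiber f i q hsq y).isoPullback
  exact isLocallyNoetherian_of_isOpenImmersion e.inv

include hsq in
lemma surjective_closedFibre : Function.Surjective i := by
  haveI : Surjective (Spec.map (CommRingCat.ofHom (IsLocalRing.residue A))) := by
    constructor
    intro y
    refine ⟨⟨⊥, Ideal.isPrime_bot⟩, ?_⟩
    apply PrimeSpectrum.ext
    change Ideal.comap (IsLocalRing.residue A) ⊥ = y.asIdeal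
    rw [asIdeal_eq_maximalIdeal y]
    exact IsLocalRing.ker_residue
  haveI : Surjective i :=
    MorphismProperty.of_isPullback (P := @Surjective) hsq.flip inferInstance
  exact i.surjective

/-- the stalks of the spectrum of a field are fields -/
lemma isField_stalk_spec_field (k : Type u) [Field k] (z : Spec (CommRingCat.of k)) :
    IsField ((Spec (CommRingCat.of k)).presheaf.stalk z) := by
  haveI : Subsingleton (Spec (CommRingCat.of k)) :=
    inferInstanceAs (Subsingleton (PrimeSpectrum k))
  have hz : z = genericPoint (Spec (CommRingCat.of k)) := Subsingleton.elim _ _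
  rw [hz]
  exact Field.toIsField (Spec (CommRingCat.of k)).functionField

/-- a morphism to the spectrum of a field is Gorenstein at the points with Gorenstein local
ring -/
lemma isGorensteinAt_over_field (k : Type u) [Field k] {X : Scheme.{u}}
    (q : X ⟶ Spec (CommRingCat.of k)) (x : X)
    (hx : LocCoh.IsGorensteinLocalRing (X.presheaf.stalk x)) : Dual3.IsGorensteinAt q x := by
  rw [Groth.Agent.Lib.Helper4.GorHomSch.isGorensteinAt_iff]
  have hF := isField_stalk_spec_field k (q x)
  have hbot : IsLocalRing.maximalIdeal ((Spec (CommRingCat.of k)).presheaf.stalk (q x)) = ⊥ :=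
    IsLocalRing.isField_iff_maximalIdeal_eq.mp hF
  refine ⟨?_, ?_⟩
  · letI := hF.toField
    letI : Algebra ((Spec (CommRingCat.of k)).presheaf.stalk (q x)) (X.presheaf.stalk x) :=
      (q.stalkMap x).hom.toAlgebra
    change Module.Flat ((Spec (CommRingCat.of k)).presheaf.stalk (q x)) (X.presheaf.stalk x)
    infer_instance
  · rw [hbot, Ideal.map_bot]
    exact Groth.Agent.Lib.Helper4.GorFlat.gor_of_ringEquiv
      (RingEquiv.quotientBot (X.presheaf.stalk x)).symm hx

include hsq in
/-- **S16185** -/
theorem isGorensteinMor_of_closedFibre [Flat f] (hX : Dual3.IsGorenstein X) :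
    Dual3.IsGorensteinMor f := by
  obtain ⟨hXN, hXG⟩ := hX
  haveI := hXN
  haveI : LocallyOfFiniteType (Spec.map (CommRingCat.ofHom (IsLocalRing.residue A))) := by
    rw [HasRingHomProperty.Spec_iff (P := @LocallyOfFiniteType)]
    exact RingHom.FiniteType.of_surjective _ IsLocalRing.residue_surjective
  intro x
  obtain ⟨x', rfl⟩ := surjective_closedFibre f i q hsq x
  have h := (Groth.Agent.S3625.result P (Spec (CommRingCat.of A)) X
    (Spec (CommRingCat.of (IsLocalRing.ResidueField A))) f
    (Spec.map (CommRingCat.ofHom (IsLocalRing.residue A))) q i hsq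
    (fun y => isLocallyNoetherian_fiber f i q hsq y) x').2.1
  exact h (AlgebraicGeometry.Flat.stalkMap f (i x'))
    (isGorensteinAt_over_field _ q x' (hXG x'))

end Groth.Agent.Lib.Helper18.ArtGorFib
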