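import Mathlib
import Groth.Prelude.Def_ArtFun5

/-!
# Maps from an augmented `k`-algebra to the dual numbers (case `Λ = k`)
-/

set_option autoImplicit false
universe u v

open CategoryTheory

namespace Groth.Agent.Lib.Helper18.ArtTangent

open ArtFun ArtFun.Art

variable {k : Type u} [Field k]

/-- The algebra map `T → k[ε]`, `t ↦ (res t, f t)` attached to a functional killing `1` and products of
elements of the augmentation ideal. -/
noncomputable def augTangentHom (T : Type u) [CommRing T] [Algebra k T] (res : T →ₐ[k] k)
    (f : T →ₗ[k] k) (h1 : f 1 = 0)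
    (h2 : ∀ a b : T, res a = 0 → res b = 0 → f (a * b) = 0) : T →ₐ[k] DualNumber k :=
  have hc : ∀ c : k, f (algebraMap k T c) = 0 := by
    intro c
    rw [Algebra.algebraMap_eq_smul_one, map_smul, h1, smul_zero]
  have hm : ∀ r : T, res (r - algebraMap k T (res r)) = 0 := by
    intro r
    rw [map_sub, AlgHom.commutes, Algebra.algebraMap_self_apply, sub_self]
  { toFun := fun r => ((res r, f r) : TrivSqZeroExt k k)
    map_one' := TrivSqZeroExt.ext (map_one res) h1
    map_mul' := fun r s => by
      refine TrivSqZeroExt.ext (map_mul res r s) ?_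
      change f (r * s) = res r • f s + MulOpposite.op (res s) • f r
      have e : r * s = (r - algebraMap k T (res r)) * (s - algebraMap k T (res s))
          + res r • s + res s • r - algebraMap k T (res r * res s) := by
        rw [Algebra.smul_def, Algebra.smul_def, map_mul]
        ring
      rw [e, map_sub, map_add, map_add, h2 _ _ (hm r) (hm s), hc, map_smul, map_smul]
      simp only [smul_eq_mul, MulOpposite.smul_eq_mul_unop, MulOpposite.unop_op]
      ring
    map_zero' := TrivSqZeroExt.ext (map_zero res) (map_zero f)
    map_add' := fun r s => TrivSqZeroExt.ext (map_add res r s) (map_add f r s)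
    commutes' := fun c => by
      refine TrivSqZeroExt.ext ?_ ?_
      · change res (algebraMap k T c) = _
        rw [AlgHom.commutes]
        rfl
      · change f (algebraMap k T c) = _
        rw [hc]
        rfl }

theorem augTangentHom_snd (T : Type u) [CommRing T] [Algebra k T] (res : T →ₐ[k] k)
    (f : T →ₗ[k] k) (h1 : f 1 = 0)
    (h2 : ∀ a b : T, res a = 0 → res b = 0 → f (a * b) = 0) (r : T) :
    (augTangentHom T res f h1 h2 r).snd = f r := rfl

theorem augTangentHom_res (T : Type u) [CommRing T] [Algebra k T] (res : T →ₐ[k] k)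
    (f : T →ₗ[k] k) (h1 : f 1 = 0)
    (h2 : ∀ a b : T, res a = 0 → res b = 0 → f (a * b) = 0) :
    (dual k k).res.comp (augTangentHom T res f h1 h2) = res :=
  AlgHom.ext fun _ => rfl

/-- In an object `T` of `Art k k` whose maximal ideal has square zero, the morphisms `T ⟶ k[ε]`
separate the points of `T`. -/
theorem exists_hom_dual_ne (T : Art k k)
    (hsq : ∀ a b : T, T.res a = 0 → T.res b = 0 → a * b = 0) (d : T) (hd : d ≠ 0) :
    ∃ p : T ⟶ dual k k, p d ≠ 0 := by
  classical
  by_cases hres : T.res d = 0
  · have hdp : d ∉ Submodule.span k {(1 : T)} := by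
      intro hmem
      obtain ⟨c, rfl⟩ := Submodule.mem_span_singleton.1 hmem
      rw [map_smul, map_one, smul_eq_mul, mul_one] at hres
      rw [hres, zero_smul] at hd
      exact hd rfl
    obtain ⟨f, hfd, hfp⟩ := Submodule.exists_dual_map_eq_bot_of_notMem hdp inferInstance
    have h1 : f 1 = 0 := by
      have : f 1 ∈ (Submodule.span k {(1 : T)}).map f :=
        Submodule.mem_map_of_mem (Submodule.mem_span_singleton_self 1)
      rw [hfp] at this
      exact this
    have h2 : ∀ a b : T, T.res a = 0 → T.res b = 0 → f (a * b) = 0 := by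
      intro a b ha hb
      rw [hsq a b ha hb, map_zero]
    refine ⟨⟨augTangentHom T T.res f h1 h2, augTangentHom_res T T.res f h1 h2⟩, ?_⟩
    intro h0
    apply hfd
    have := congrArg TrivSqZeroExt.snd h0
    exact this
  · refine ⟨⟨augTangentHom T T.res 0 rfl (fun _ _ _ _ => rfl),
      augTangentHom_res T T.res 0 rfl (fun _ _ _ _ => rfl)⟩, ?_⟩
    intro h0
    apply hres
    have := congrArg TrivSqZeroExt.fst h0
    exact this

end Groth.Agent.Lib.Helper18.ArtTangent
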