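import Mathlib

/-!
# The total complex `Tot F(M[0], W)` is `F(M, W^•)` (helper18)
-/

set_option autoImplicit false
open CategoryTheory CategoryTheory.Limits HomologicalComplex

namespace Groth.Agent.Lib.Helper18.TotSingle

variable {C₁ C₂ D : Type*} [Category C₁] [Category C₂] [Category D]
  [Preadditive C₁] [HasZeroObject C₁] [Preadditive C₂] [Preadditive D]
  (F : C₁ ⥤ C₂ ⥤ D) [F.PreservesZeroMorphisms] [∀ X, (F.obj X).PreservesZeroMorphisms]
  (M : C₁) (W : CochainComplex C₂ ℤ)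

/-- the complex `M[0]` -/
noncomputable abbrev Sg₀ : CochainComplex C₁ ℤ :=
  (HomologicalComplex.single C₁ (ComplexShape.up ℤ) 0).obj M

variable [HasMapBifunctor (Sg₀ M) W F (ComplexShape.up ℤ)]

/-- the components of the comparison map -/
noncomputable def φ (n : ℤ) :
    (F.obj M).obj (W.X n) ⟶ (mapBifunctor (Sg₀ M) W F (ComplexShape.up ℤ)).X n :=
  (F.map (singleObjXSelf (ComplexShape.up ℤ) 0 M).inv).app (W.X n) ≫
    ιMapBifunctor (Sg₀ M) W F (ComplexShape.up ℤ) 0 n n (zero_add n)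

lemma isZero_X_of_ne (p : ℤ) (hp : p ≠ 0) : IsZero ((Sg₀ M).X p) :=
  isZero_single_obj_X (ComplexShape.up ℤ) 0 M p hp

lemma isZero_F_of_ne (p : ℤ) (hp : p ≠ 0) (Y : C₂) : IsZero ((F.obj ((Sg₀ M).X p)).obj Y) := by
  rw [IsZero.iff_id_eq_zero]
  have h1 : 𝟙 ((Sg₀ M).X p) = 0 := (isZero_X_of_ne M p hp).eq_of_src _ _
  have h2 : 𝟙 ((F.obj ((Sg₀ M).X p)).obj Y) = (F.map (𝟙 ((Sg₀ M).X p))).app Y := by
    rw [CategoryTheory.Functor.map_id]; rfl
  rw [h2, h1, Functor.map_zero]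
  rfl

/-- the components of the inverse -/
noncomputable def ψ (n : ℤ) :
    (mapBifunctor (Sg₀ M) W F (ComplexShape.up ℤ)).X n ⟶ (F.obj M).obj (W.X n) :=
  mapBifunctorDesc (fun p q h =>
    if hp : p = 0 then
      (F.map (eqToHom (by rw [hp]) ≫ (singleObjXSelf (ComplexShape.up ℤ) 0 M).hom)).app (W.X q) ≫
        (F.obj M).map (eqToHom (by
          have h' : p + q = n := h
          congr 1
          omega))
    else 0)

lemma φ_ψ (n : ℤ) : φ F M W n ≫ ψ F M W n = 𝟙 _ := by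
  dsimp [φ, ψ]
  rw [Category.assoc, ι_mapBifunctorDesc, dif_pos rfl]
  simp only [eqToHom_refl, Category.id_comp, CategoryTheory.Functor.map_id, Category.comp_id]
  rw [← NatTrans.comp_app, ← Functor.map_comp, Iso.inv_hom_id, CategoryTheory.Functor.map_id]
  rfl

lemma ψ_φ (n : ℤ) : ψ F M W n ≫ φ F M W n = 𝟙 _ := by
  apply mapBifunctor.hom_ext
  intro p q h
  by_cases hp : p = 0
  · subst hp
    have hq : q = n := by
      have h' : (0 : ℤ) + q = n := h
      omega
    subst hq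
    dsimp [φ, ψ]
    rw [ι_mapBifunctorDesc_assoc, dif_pos rfl]
    simp only [eqToHom_refl, Category.id_comp, CategoryTheory.Functor.map_id, Category.comp_id]
    rw [← NatTrans.comp_app_assoc, ← Functor.map_comp, Iso.hom_inv_id,
      CategoryTheory.Functor.map_id]
    simp
  · exact (isZero_F_of_ne F M p hp (W.X q)).eq_of_src _ _


lemma φ_comm (n m : ℤ) :
    φ F M W n ≫ (mapBifunctor (Sg₀ M) W F (ComplexShape.up ℤ)).d n m =
      (F.obj M).map (W.d n m) ≫ φ F M W m := by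
  by_cases hnm : (ComplexShape.up ℤ).Rel n m
  · have h1 : mapBifunctor.d₁ (Sg₀ M) W F (ComplexShape.up ℤ) 0 n m = 0 := by
      rw [mapBifunctor.d₁_eq (Sg₀ M) W F (ComplexShape.up ℤ)
        (show (ComplexShape.up ℤ).Rel 0 1 from rfl) n m (by
          have : n + 1 = m := hnm
          change (1 : ℤ) + n = m
          omega)]
      rw [single_obj_d, Functor.map_zero]
      simp
    have h2 := mapBifunctor.d₂_eq (Sg₀ M) W F (ComplexShape.up ℤ) 0 hnm m (zero_add m)
    dsimp [φ]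
    rw [Category.assoc, mapBifunctor.d_eq, Preadditive.comp_add, mapBifunctor.ι_D₁,
      mapBifunctor.ι_D₂, h1, zero_add, h2]
    have h3 : ComplexShape.ε₂ (ComplexShape.up ℤ) (ComplexShape.up ℤ) (ComplexShape.up ℤ)
        ((0 : ℤ), n) = 1 := ComplexShape.ε_zero _
    rw [h3, one_smul, ← Category.assoc, ← Category.assoc]
    congr 1
    exact ((F.map (singleObjXSelf (ComplexShape.up ℤ) 0 M).inv).naturality (W.d n m)).symm
  · rw [HomologicalComplex.shape _ _ _ hnm, W.shape _ _ hnm, Functor.map_zero, comp_zero,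
      zero_comp]

/-- `Tot F(M[0], W) ≅ F(M, W^•)` -/
noncomputable def iso :
    ((F.obj M).mapHomologicalComplex (ComplexShape.up ℤ)).obj W ≅
      mapBifunctor (Sg₀ M) W F (ComplexShape.up ℤ) :=
  Hom.isoOfComponents (fun n => ⟨φ F M W n, ψ F M W n, φ_ψ F M W n, ψ_φ F M W n⟩)
    (fun n m _ => φ_comm F M W n m)

lemma iso_hom_f (n : ℤ) : (iso F M W).hom.f n = φ F M W n := rfl


lemma iso_hom_naturality {W W' : CochainComplex C₂ ℤ} (g : W ⟶ W')
    [HasMapBifunctor (Sg₀ M) W F (ComplexShape.up ℤ)]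
    [HasMapBifunctor (Sg₀ M) W' F (ComplexShape.up ℤ)] :
    ((F.obj M).mapHomologicalComplex (ComplexShape.up ℤ)).map g ≫ (iso F M W').hom =
      (iso F M W).hom ≫ mapBifunctorMap (𝟙 (Sg₀ M)) g F (ComplexShape.up ℤ) := by
  ext n
  change (F.obj M).map (g.f n) ≫ φ F M W' n =
    φ F M W n ≫ (mapBifunctorMap (𝟙 (Sg₀ M)) g F (ComplexShape.up ℤ)).f n
  dsimp [φ]
  rw [Category.assoc, ι_mapBifunctorMap]
  simp only [HomologicalComplex.id_f, CategoryTheory.Functor.map_id, NatTrans.id_app,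
    Category.id_comp]
  rw [← Category.assoc, ← Category.assoc]
  congr 1
  exact (F.map (singleObjXSelf (ComplexShape.up ℤ) 0 M).inv).naturality (g.f n)

end Groth.Agent.Lib.Helper18.TotSingle
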