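import Mathlib
import Groth.Agent.Lib.Helper18.DTenB
import Groth.Agent.Lib.Helper18.TotSingle

/-!
# Extension of scalars preserves quasi-isomorphisms between K-flat complexes (helper18)
-/

set_option autoImplicit false
set_option linter.style.haveILetI false
universe u
open CategoryTheory CategoryTheory.Limits MonoidalCategory DerivedCategory HomologicalComplex
open TensorProduct

attribute [local instance] HasDerivedCategory.standard

namespace Groth.Agent.Lib.Helper18.DR

namespace DTenC

open DTen Groth.Agent.Lib.Helper2.Tot Groth.Agent.Lib.Helper2.Tot.DR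

section extres

variable {B C : Type u} [CommRing B] [CommRing C] (ψ : B →+* C)

/-- `C` as a `B`-module -/
noncomputable abbrev CB : ModuleCat.{u} B :=
  (ModuleCat.restrictScalars.{u} ψ).obj (ModuleCat.of C C)

/-- `C ⊗_B N` with its two `B`-module structures -/
noncomputable def extResEquiv (N : ModuleCat.{u} B) :
    ((tensorLeft (CB ψ)).obj N : ModuleCat.{u} B) ≃ₗ[B]
      ((ModuleCat.restrictScalars.{u} ψ).obj ((ModuleCat.extendScalars.{u, u, u} ψ).obj N)) :=
  { toFun := fun x => x
    invFun := fun x => x
    map_add' := fun _ _ => rfl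
    map_smul' := by
      intro r x
      let m2 : Module B (↑(CB ψ) ⊗[B] ↑N) := ((ModuleCat.restrictScalars.{u} ψ).obj
          ((ModuleCat.extendScalars.{u, u, u} ψ).obj N)).isModule
      change r • x = m2.toDistribMulAction.toMulAction.toSMul.smul r x
      induction x using TensorProduct.induction_on with
      | zero => exact (smul_zero r).trans (m2.toDistribMulAction.smul_zero r).symm
      | tmul c n => rfl
      | add x y hx hy =>
        exact (smul_add r x y).trans ((congrArg₂ (· + ·) hx hy).trans
          (m2.toDistribMulAction.smul_add r x y).symm)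
    left_inv := fun _ => rfl
    right_inv := fun _ => rfl }

/-- `C ⊗_B - ≅ (- ⊗_B C)|_B` -/
noncomputable def extResIso :
    tensorLeft (CB ψ) ≅
      ModuleCat.extendScalars.{u, u, u} ψ ⋙ ModuleCat.restrictScalars.{u} ψ :=
  NatIso.ofComponents (fun N => (extResEquiv ψ N).toModuleIso) (by
    intro N N' l
    apply ModuleCat.hom_ext
    apply TensorProduct.ext'
    intro c n
    rfl)

end extres


section core

variable {B C : Type u} [CommRing B] [CommRing C] (ψ : B →+* C)

/-- tensoring with a module preserves quasi-isomorphisms between K-flat complexes -/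
theorem quasiIso_tensorLeft_map (M : ModuleCat.{u} B) {X Y : DRing.Cx B} (hX : KFlat (T B) X)
    (hY : KFlat (T B) Y) (g : X ⟶ Y) [QuasiIso g] :
    QuasiIso (((tensorLeft M).mapHomologicalComplex (ComplexShape.up ℤ)).map g) := by
  haveI h1 : QuasiIso (mapBifunctorMap (𝟙 (TotSingle.Sg₀ M)) g (T B) (ComplexShape.up ℤ)) :=
    quasiIso_map₂ hX hY g _
  have hnat := TotSingle.iso_hom_naturality (T B) M g
  have h2 : ((tensorLeft M).mapHomologicalComplex (ComplexShape.up ℤ)).map g =
      (TotSingle.iso (T B) M X).hom ≫
        mapBifunctorMap (𝟙 (TotSingle.Sg₀ M)) g (T B) (ComplexShape.up ℤ) ≫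
          (TotSingle.iso (T B) M Y).inv := by
    rw [← Category.assoc, ← hnat, Category.assoc, Iso.hom_inv_id, Category.comp_id]
  rw [h2]
  infer_instance

/-- extension of scalars preserves quasi-isomorphisms between K-flat complexes -/
theorem quasiIso_extCx_map {X Y : DRing.Cx B} (hX : KFlat (T B) X) (hY : KFlat (T B) Y)
    (g : X ⟶ Y) [QuasiIso g] : QuasiIso ((extCx ψ).map g) := by
  haveI h1 := quasiIso_tensorLeft_map (CB ψ) hX hY g
  let e := NatIso.mapHomologicalComplex (extResIso ψ) (ComplexShape.up ℤ)
  have hnat := e.hom.naturality g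
  haveI h3 : QuasiIso (((ModuleCat.extendScalars.{u, u, u} ψ ⋙
      ModuleCat.restrictScalars.{u} ψ).mapHomologicalComplex (ComplexShape.up ℤ)).map g) := by
    have h4 : ((ModuleCat.extendScalars.{u, u, u} ψ ⋙
        ModuleCat.restrictScalars.{u} ψ).mapHomologicalComplex (ComplexShape.up ℤ)).map g =
        e.inv.app X ≫ ((tensorLeft (CB ψ)).mapHomologicalComplex (ComplexShape.up ℤ)).map g ≫
          e.hom.app Y := by
      rw [hnat, Iso.inv_hom_id_app_assoc]
    rw [h4]
    infer_instance
  have h5 : QuasiIso (((ModuleCat.restrictScalars.{u} ψ).mapHomologicalComplex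
      (ComplexShape.up ℤ)).map ((extCx ψ).map g)) := h3
  exact (HomologicalComplex.quasiIso_map_iff_of_preservesHomology _
    (ModuleCat.restrictScalars.{u} ψ)).1 h5

end core


section baseCmp

variable {R A : Type u} [CommRing R] [CommRing A] (φ : R →+* A)

/-- S13894: derived base change is computed termwise on K-flat complexes -/
theorem isIso_baseCmp_app_of_kflat [HasLBase φ] (K : DRing.Cx R) (hK : DRing.IsKFlat R K) :
    IsIso ((baseCmp φ).app K) := by
  have hK' : KFlat (T R) K := (kflat_iff K).1 hK
  obtain ⟨P, g, hP, hg⟩ := DTenB.exists_kprojective_quasiIso K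
  haveI := hP
  haveI := hg
  have hnat := (baseCmp φ).naturality g
  haveI := DTenA.isIso_baseCmp_app φ P
  haveI : QuasiIso ((extCx φ).map g) :=
    quasiIso_extCx_map φ (DTenB.kflat_of_isKProjective P) hK' g
  haveI : IsIso ((extCx φ ⋙ DerivedCategory.Q).map g) := by
    change IsIso (DerivedCategory.Q.map ((extCx φ).map g))
    infer_instance
  haveI : IsIso ((DerivedCategory.Q ⋙ LBase φ).map g) := by
    change IsIso ((LBase φ).map (DerivedCategory.Q.map g))
    infer_instance
  have h : (baseCmp φ).app K = inv ((DerivedCategory.Q ⋙ LBase φ).map g) ≫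
      (baseCmp φ).app P ≫ (extCx φ ⋙ DerivedCategory.Q).map g := by
    rw [IsIso.eq_inv_comp]
    exact hnat
  rw [h]
  infer_instance

end baseCmp

end DTenC

end Groth.Agent.Lib.Helper18.DR
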