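import Mathlib
import Groth.Agent.Lib.Helper18.DTenC
import Groth.Agent.Lib.Helper2.LDer.Constructors
import Groth.Prelude.Def_DTen6

/-!
# `(E ⊗^L_R R')|_R ≅ R'[0] ⊗^L_R E`, naturally in `E` (helper18)

Both sides are left derived functors of `K ↦ Q((K ⊗_R R')|_R)`.
-/

set_option autoImplicit false
set_option linter.style.haveILetI false
universe u
open CategoryTheory CategoryTheory.Limits MonoidalCategory DerivedCategory HomologicalComplex

attribute [local instance] HasDerivedCategory.standard

namespace Groth.Agent.Lib.Helper18.DR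

namespace BcA

open DTen Groth.Agent.Lib.Helper2.Tot Groth.Agent.Lib.Helper2.Tot.DR Groth.Agent.Lib.Helper2.LDer

variable {R R' : Type u} [CommRing R] [CommRing R'] (φ : R →+* R')

/-- the functor `K ↦ Q((K ⊗_R R')|_R)` -/
noncomputable abbrev F : DRing.Cx R ⥤ Dual.D R := extCx φ ⋙ resCx φ ⋙ DerivedCategory.Q

/-- the class of K-projective complexes -/
def KP (K : DRing.Cx R) : Prop := K.IsKProjective

theorem adapted : Adapted (HomologicalComplex.quasiIso (ModuleCat.{u} R) (ComplexShape.up ℤ))
    DerivedCategory.Q (F φ) KP := by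
  refine Adapted.of_cochainComplex _ _ ?_ ?_ ?_
  · intro K L f g h
    have h1 := ((ModuleCat.extendScalars.{u, u, u} φ).mapHomotopy h)
    have h2 := ((ModuleCat.restrictScalars.{u} φ).mapHomotopy h1)
    exact DerivedCategory.Q_map_eq_of_homotopy _ h2
  · intro X
    obtain ⟨P, g, hP, hg⟩ := DTenB.exists_kprojective_quasiIso X
    exact ⟨P, g, hP, hg⟩
  · intro Y Y' s hY hY' hs
    haveI : Y.IsKProjective := hY
    haveI : Y'.IsKProjective := hY'
    haveI := hs
    haveI : QuasiIso ((extCx φ).map s) :=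
      DTenC.quasiIso_extCx_map φ (DTenB.kflat_of_isKProjective Y) (DTenB.kflat_of_isKProjective Y') s
    haveI : QuasiIso ((resCx φ).map ((extCx φ).map s)) :=
      (HomologicalComplex.quasiIso_map_iff_of_preservesHomology _
        (ModuleCat.restrictScalars.{u} φ)).2 inferInstance
    change IsIso (DerivedCategory.Q.map ((resCx φ).map ((extCx φ).map s)))
    infer_instance

instance : (F φ).HasLeftDerivedFunctor
    (HomologicalComplex.quasiIso (ModuleCat.{u} R) (ComplexShape.up ℤ)) :=
  (adapted φ).hasLeftDerivedFunctor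

/-- the left derived functor of `F` -/
noncomputable abbrev LF : Dual.D R ⥤ Dual.D R :=
  (F φ).totalLeftDerived DerivedCategory.Q
    (HomologicalComplex.quasiIso (ModuleCat.{u} R) (ComplexShape.up ℤ))

/-- its counit -/
noncomputable abbrev αF : DerivedCategory.Q ⋙ LF φ ⟶ F φ :=
  (F φ).totalLeftDerivedCounit DerivedCategory.Q
    (HomologicalComplex.quasiIso (ModuleCat.{u} R) (ComplexShape.up ℤ))

/-- a functor with a transformation to `F` which is invertible on K-projective complexes is
isomorphic to the left derived functor of `F` -/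
theorem isIso_lift (G : Dual.D R ⥤ Dual.D R) (β : DerivedCategory.Q ⋙ G ⟶ F φ)
    (hβ : ∀ K : DRing.Cx R, K.IsKProjective → IsIso (β.app K)) :
    IsIso ((LF φ).leftDerivedLift (αF φ)
      (HomologicalComplex.quasiIso (ModuleCat.{u} R) (ComplexShape.up ℤ)) G β) := by
  set γ := (LF φ).leftDerivedLift (αF φ)
    (HomologicalComplex.quasiIso (ModuleCat.{u} R) (ComplexShape.up ℤ)) G β with hγ
  haveI : ∀ X : Dual.D R, IsIso (γ.app X) := by
    intro X
    obtain ⟨P, hP, -, ⟨e⟩⟩ := exists_kprojective_resolution X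
    haveI := hP
    have hfac : γ.app (DerivedCategory.Q.obj P) ≫ (αF φ).app P = β.app P :=
      (LF φ).leftDerived_fac_app (αF φ) _ G β P
    haveI := hβ P hP
    haveI : IsIso ((αF φ).app P) := (adapted φ).isIso_app (LF φ) (αF φ) (Y := P) hP
    haveI : IsIso (γ.app (DerivedCategory.Q.obj P)) := by
      have : γ.app (DerivedCategory.Q.obj P) = β.app P ≫ inv ((αF φ).app P) := by
        rw [← hfac, Category.assoc, IsIso.hom_inv_id, Category.comp_id]
      rw [this]
      infer_instance
    have hnat := γ.naturality e.hom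
    have : γ.app X = G.map e.inv ≫ γ.app (DerivedCategory.Q.obj P) ≫ (LF φ).map e.hom := by
      rw [← hnat, ← Category.assoc, ← Functor.map_comp, Iso.inv_hom_id,
        CategoryTheory.Functor.map_id, Category.id_comp]
    rw [this]
    infer_instance
  exact NatIso.isIso_of_isIso_app γ

/-! ### the first functor: restriction of derived base change -/

section first

variable [HasLBase φ]

/-- `(QK ⊗^L_R R')|_R ⟶ Q((K ⊗_R R')|_R)` -/
noncomputable def β₂ : DerivedCategory.Q ⋙ (LBase φ ⋙ DRing.restrictD φ) ⟶ F φ where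
  app K := (DRing.restrictD φ).map ((baseCmp φ).app K) ≫
    (resFactors φ).hom.app ((extCx φ).obj K)
  naturality K K' f := by
    have h1 := (baseCmp φ).naturality f
    have h2 := (resFactors φ).hom.naturality ((extCx φ).map f)
    dsimp at h1 h2 ⊢
    rw [Category.assoc, ← h2, ← Category.assoc, ← Category.assoc, ← Functor.map_comp,
      ← Functor.map_comp, h1]

lemma isIso_β₂_app (K : DRing.Cx R) [K.IsKProjective] : IsIso ((β₂ φ).app K) := by
  haveI := DTenA.isIso_baseCmp_app φ K
  change IsIso ((DRing.restrictD φ).map ((baseCmp φ).app K) ≫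
    (resFactors φ).hom.app ((extCx φ).obj K))
  infer_instance

end first

/-! ### the second functor: derived tensor product with `R'[0]` -/

section second

variable [HasLTen R]

/-- `R'` as a complex of `R`-modules in degree `0` -/
noncomputable abbrev X₀ : DRing.Cx R := TotSingle.Sg₀ (DTenC.CB φ)

/-- `R'[0] ⊗ K ≅ (K ⊗_R R')|_R` -/
noncomputable def ι (K : DRing.Cx R) : X₀ φ ⊗ K ≅ (resCx φ).obj ((extCx φ).obj K) :=
  (TotSingle.iso (T R) (DTenC.CB φ) K).symm ≪≫
    (NatIso.mapHomologicalComplex (DTenC.extResIso φ) (ComplexShape.up ℤ)).app K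

lemma ι_naturality {K K' : DRing.Cx R} (f : K ⟶ K') :
    (X₀ φ ◁ f) ≫ (ι φ K').hom = (ι φ K).hom ≫ (resCx φ).map ((extCx φ).map f) := by
  have h1 := TotSingle.iso_hom_naturality (T R) (DTenC.CB φ) f
  have h2 := (NatIso.mapHomologicalComplex (DTenC.extResIso φ) (ComplexShape.up ℤ)).hom.naturality f
  have h3 : X₀ φ ◁ f = mapBifunctorMap (𝟙 (TotSingle.Sg₀ (DTenC.CB φ))) f (T R) (ComplexShape.up ℤ) := by
    rw [← MonoidalCategory.id_tensorHom]
    rfl
  have h1' : (TotSingle.iso (T R) (DTenC.CB φ) K).inv ≫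
      (((T R).obj (DTenC.CB φ)).mapHomologicalComplex (ComplexShape.up ℤ)).map f =
      mapBifunctorMap (𝟙 (TotSingle.Sg₀ (DTenC.CB φ))) f (T R) (ComplexShape.up ℤ) ≫
        (TotSingle.iso (T R) (DTenC.CB φ) K').inv := by
    rw [Iso.inv_comp_eq, ← Category.assoc, ← h1, Category.assoc, Iso.hom_inv_id, Category.comp_id]
  change (X₀ φ ◁ f) ≫ (TotSingle.iso (T R) (DTenC.CB φ) K').inv ≫ _ =
    ((TotSingle.iso (T R) (DTenC.CB φ) K).inv ≫ _) ≫ _
  rw [h3, ← Category.assoc, ← h1', Category.assoc, Category.assoc]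
  congr 1

/-- `R'[0] ⊗^L QK ⟶ Q((K ⊗_R R')|_R)` -/
noncomputable def β₁ :
    DerivedCategory.Q ⋙ (LTen R).obj (DerivedCategory.Q.obj (X₀ φ)) ⟶ F φ where
  app K := (ε R).app (X₀ φ, K) ≫ DerivedCategory.Q.map (ι φ K).hom
  naturality K K' f := by
    have h1 := (εLeft R (X₀ φ)).naturality f
    dsimp [εLeft] at h1 ⊢
    rw [Category.assoc, ← Functor.map_comp, ← ι_naturality, Functor.map_comp,
      ← Category.assoc, ← Category.assoc]
    congr 1

lemma isIso_β₁_app (K : DRing.Cx R) [K.IsKProjective] : IsIso ((β₁ φ).app K) := by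
  haveI := DTenB.isIso_ε_app_right (X₀ φ) K
  change IsIso ((ε R).app (X₀ φ, K) ≫ DerivedCategory.Q.map (ι φ K).hom)
  infer_instance

end second

/-- **the restriction of derived base change is the derived tensor product with `R'[0]`** -/
noncomputable def resBaseIso [HasLTen R] [HasLBase φ] :
    (LTen R).obj (DerivedCategory.Q.obj (X₀ φ)) ≅ LBase φ ⋙ DRing.restrictD φ :=
  haveI := isIso_lift φ _ (β₁ φ) (fun K hK => by haveI := hK; exact isIso_β₁_app φ K)
  haveI := isIso_lift φ _ (β₂ φ) (fun K hK => by haveI := hK; exact isIso_β₂_app φ K)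
  asIso ((LF φ).leftDerivedLift (αF φ)
      (HomologicalComplex.quasiIso (ModuleCat.{u} R) (ComplexShape.up ℤ)) _ (β₁ φ)) ≪≫
    (asIso ((LF φ).leftDerivedLift (αF φ)
      (HomologicalComplex.quasiIso (ModuleCat.{u} R) (ComplexShape.up ℤ)) _ (β₂ φ))).symm

end BcA

end Groth.Agent.Lib.Helper18.DR
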