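import Mathlib
import Groth.Agent.Lib.Helper18.BcA
import Groth.Agent.Lib.Helper18.DTenG
import Groth.Agent.Lib.Helper2.KInj.DProd
import Groth.Agent.Lib.Helper18.BCHom3
import Groth.Prelude.Def_DTen6

/-!
# Derived base change along a perfect algebra preserves products (helper18)
-/

set_option autoImplicit false
set_option linter.style.haveILetI false
universe u
open CategoryTheory CategoryTheory.Limits MonoidalCategory DerivedCategory HomologicalComplex
  CategoryTheory.Pretriangulated

attribute [local instance] HasDerivedCategory.standard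

namespace Groth.Agent.Lib.Helper18.DR

namespace BcB

open DTen DTenE DTenF DTenG

variable {R : Type u} [CommRing R]

instance hasProducts : HasProducts.{u} (Dual.D R) :=
  Groth.Agent.Lib.Helper2.KInj.DProd.hasProducts

section prod

variable [HasLTen R] [HasRHom R] {I : Type u} (Y : I → Dual.D R)

/-- `P ↦ ∏ (P ⊗^L Y_i)` -/
noncomputable def prodTen : Dual.D R ⥤ Dual.D R where
  obj P := ∏ᶜ fun i => ((LTen R).obj P).obj (Y i)
  map f := Limits.Pi.map fun i => ((LTen R).map f).app (Y i)
  map_id P := by
    apply Limits.Pi.hom_ext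
    intro i
    simp
  map_comp f g := by
    apply Limits.Pi.hom_ext
    intro i
    simp

/-- the projections -/
noncomputable def pr (P : Dual.D R) (i : I) : (prodTen Y).obj P ⟶ ((LTen R).obj P).obj (Y i) :=
  Limits.Pi.π (fun i => ((LTen R).obj P).obj (Y i)) i

lemma prodTen_map_pr {P P' : Dual.D R} (f : P ⟶ P') (i : I) :
    (prodTen Y).map f ≫ pr Y P' i = pr Y P i ≫ ((LTen R).map f).app (Y i) :=
  Limits.Pi.map_π (f := fun i => ((LTen R).obj P).obj (Y i))
    (g := fun i => ((LTen R).obj P').obj (Y i)) (fun i => ((LTen R).map f).app (Y i)) i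

lemma prodTen_hom_ext {T P : Dual.D R} (a b : T ⟶ (prodTen Y).obj P)
    (h : ∀ i, a ≫ pr Y P i = b ≫ pr Y P i) : a = b :=
  Limits.Pi.hom_ext (f := fun i => ((LTen R).obj P).obj (Y i)) a b h

/-- lifting to the product -/
noncomputable def lft {T P : Dual.D R} (x : ∀ i, T ⟶ ((LTen R).obj P).obj (Y i)) :
    T ⟶ (prodTen Y).obj P :=
  Limits.Pi.lift (f := fun i => ((LTen R).obj P).obj (Y i)) x

lemma lft_pr {T P : Dual.D R} (x : ∀ i, T ⟶ ((LTen R).obj P).obj (Y i)) (i : I) :
    lft Y x ≫ pr Y P i = x i :=
  Limits.Pi.lift_π (f := fun i => ((LTen R).obj P).obj (Y i)) x i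

instance : (prodTen Y).PreservesZeroMorphisms where
  map_zero P P' := by
    apply prodTen_hom_ext
    intro i
    have : ((LTen R).map (0 : P ⟶ P')).app (Y i) = 0 := (tensorRightD R (Y i)).map_zero P P'
    rw [prodTen_map_pr, this, comp_zero, zero_comp]

/-- the comparison `P ⊗^L ∏ Y_i ⟶ ∏ (P ⊗^L Y_i)`, components -/
noncomputable def cmpApp (P : Dual.D R) :
    (tensorRightD R (∏ᶜ Y)).obj P ⟶ (prodTen Y).obj P :=
  piComparison ((LTen R).obj P) Y

lemma cmpApp_pr (P : Dual.D R) (i : I) :
    cmpApp Y P ≫ pr Y P i = ((LTen R).obj P).map (Limits.Pi.π Y i) :=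
  piComparison_comp_π _ _ _

/-- the comparison `P ⊗^L ∏ Y_i ⟶ ∏ (P ⊗^L Y_i)` -/
noncomputable def cmpProd : tensorRightD R (∏ᶜ Y) ⟶ prodTen Y where
  app P := cmpApp Y P
  naturality P P' f := by
    apply prodTen_hom_ext
    intro i
    rw [Category.assoc, Category.assoc, cmpApp_pr, prodTen_map_pr, ← Category.assoc, cmpApp_pr]
    exact (((LTen R).map f).naturality (Limits.Pi.π Y i)).symm

lemma homExact_prodTen : HomExact (prodTen Y) := by
  intro Tr hTr T y hy
  have h : ∀ i, ∃ x : T ⟶ (tensorRightD R (Y i)).obj Tr.obj₂,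
      x ≫ (tensorRightD R (Y i)).map Tr.mor₂ = y ≫ pr Y Tr.obj₃ i := by
    intro i
    refine homExact_tensorRightD (Y i) Tr hTr T (y ≫ pr Y Tr.obj₃ i) ?_
    have h1 : (y ≫ (prodTen Y).map Tr.mor₃) ≫ pr Y _ i = 0 := by
      rw [hy, zero_comp]
    rw [Category.assoc, prodTen_map_pr] at h1
    rw [Category.assoc]
    exact h1
  choose x hx using h
  refine ⟨lft Y x, ?_⟩
  apply prodTen_hom_ext
  intro i
  rw [Category.assoc, prodTen_map_pr, ← Category.assoc, lft_pr]
  exact hx i

/-- **derived tensor product with a perfect object preserves products** -/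
theorem isIso_piComparison_of_isPerfect (P : Dual.D R) (hP : DRing.IsPerfect R P) :
    IsIso (piComparison ((LTen R).obj P) Y) := by
  have h := isIso_app_of_isPerfect (homExact_tensorRightD (∏ᶜ Y)) (homExact_prodTen Y) (cmpProd Y)
    (fun j => by
      change IsIso (piComparison ((LTen R).obj ((unit R)⟦j⟧)) Y)
      infer_instance) P hP
  exact h

theorem preservesLimit_of_isPerfect (P : Dual.D R) (hP : DRing.IsPerfect R P) :
    PreservesLimit (Discrete.functor Y) ((LTen R).obj P) := by
  haveI := isIso_piComparison_of_isPerfect Y P hP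
  exact PreservesProduct.of_iso_comparison _ _

end prod

section base

variable {R' : Type u} [CommRing R'] (φ : R →+* R')

/-- restriction of scalars on derived categories reflects isomorphisms -/
theorem isIso_of_isIso_restrictD {X Y : Dual.D R'} (f : X ⟶ Y)
    (h : IsIso ((DRing.restrictD φ).map f)) : IsIso f := by
  rw [DerivedCategory.isIso_iff]
  intro i
  have h1 : IsIso ((H R i).map ((DRing.restrictD φ).map f)) := inferInstance
  have h2 : IsIso ((ModuleCat.restrictScalars.{u} φ).map ((H R' i).map f)) := by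
    have := (NatIso.isIso_map_iff (HomBC.homologyNatIso (ModuleCat.restrictScalars.{u} φ) i) f).1 h1
    exact this
  exact isIso_of_reflects_iso _ (ModuleCat.restrictScalars.{u} φ)

instance : (DRing.restrictD φ).ReflectsIsomorphisms :=
  ⟨fun f h => isIso_of_isIso_restrictD φ f h⟩

variable [HasLTen R] [HasRHom R] [HasLBase φ]

/-- **derived base change along `R → R'` with `R'` perfect over `R` preserves products** -/
theorem preservesLimit_LBase (hperf : DRing.IsPerfect R (DerivedCategory.Q.obj (BcA.X₀ φ)))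
    {I : Type u} (Y : I → Dual.D R) : PreservesLimit (Discrete.functor Y) (LBase φ) := by
  haveI : PreservesLimit (Discrete.functor Y) ((LTen R).obj (DerivedCategory.Q.obj (BcA.X₀ φ))) :=
    preservesLimit_of_isPerfect Y _ hperf
  haveI : PreservesLimit (Discrete.functor Y) (LBase φ ⋙ DRing.restrictD φ) :=
    preservesLimit_of_natIso _ (BcA.resBaseIso φ)
  haveI : PreservesLimitsOfSize.{u, u} (DRing.restrictD φ) :=
    (baseAdj φ).rightAdjoint_preservesLimits
  haveI : ReflectsLimit (Discrete.functor Y ⋙ LBase φ) (DRing.restrictD φ) :=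
    reflectsLimit_of_reflectsIsomorphisms _ _
  exact preservesLimit_of_reflects_of_preserves (LBase φ) (DRing.restrictD φ)

end base

end BcB

end Groth.Agent.Lib.Helper18.DR
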