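import Mathlib
import Groth.Prelude.Def_CohDer
import Groth.Prelude.Def_DRing2
import Groth.Agent.Lib.Helper2.CompactEnv
import Groth.Agent.Lib.Helper2.DCoprod
import Groth.Agent.Lib.Helper2.KInj.SingleProj
import Groth.Agent.Lib.Helper5.CompactBdd
import Groth.Agent.Lib.Helper2.Brown.ModCompact
import Groth.Agent.Lib.Helper18.DCoprodU
import Groth.Agent.Lib.Helper18.DRPerf

/-!
# Compact objects of `D(R)` (per-family form, standard universe) (helper18)
-/

set_option autoImplicit false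
set_option linter.style.haveILetI false
universe u
open CategoryTheory CategoryTheory.Limits CategoryTheory.Pretriangulated DerivedCategory
  HomologicalComplex

attribute [local instance] HasDerivedCategory.standard

namespace Groth.Agent.Lib.Helper18.DR.Cpt

open Groth.Agent.Lib.Helper2 Groth.Agent.Lib.Helper2.CompactEnv

variable {R : Type u} [CommRing R]

/-- the index-lifted family -/
abbrev fam {I : Type u} (E : I → Dual.D R) : ULift.{u + 1} I → Dual.D R := fun i => E i.down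

/-- per-family compactness in `D(R)`: every map to a (`Type u`-indexed) coproduct has finite
support. -/
def IsCpt (K : Dual.D R) : Prop :=
  ∀ (I : Type u) (E : I → Dual.D R) [HasCoproduct (fam E)] (φ : K ⟶ ∐ fam E), IsFin (fam E) φ

theorem isCpt_iff (K : Dual.D R) :
    IsCpt K ↔ ∀ (I : Type u) (E : I → Dual.D R)
      [HasCoproduct fun i : ULift.{u + 1} I => E i.down],
      Function.Bijective (CohDer.homSumToHomCoprod K (fun i : ULift.{u + 1} I => E i.down)) := by
  constructor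
  · intro h I E _
    exact Groth.Agent.Lib.Helper5.CompactBdd.bijective_of_isFin (fun φ => h I E φ)
  · intro h I E _ φ
    classical
    obtain ⟨x, rfl⟩ := (h I E).2 φ
    induction x using DirectSum.induction_on with
    | zero => rw [map_zero]; exact zero_mem _
    | of k g =>
      have : (CohDer.homSumToHomCoprod K fun i : ULift.{u + 1} I => E i.down)
          ((DirectSum.of (fun i : ULift.{u + 1} I => K ⟶ E i.down) k) g) = g ≫ Sigma.ι (fam E) k := by
        convert CompactEnv.homSumToHomCoprod_of K (fam E) k g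
      rw [this]; exact isFin_comp_ι (X := fam E) k g
    | add x y hx hy => rw [map_add]; exact hx.add hy

lemma IsCpt.exists_sum {K : Dual.D R} (hK : IsCpt K) {I : Type u} (E : I → Dual.D R)
    (cf : Cofan (fam E)) (hcf : IsColimit cf) (ψ : K ⟶ cf.pt) :
    ∃ (F : Finset I) (g : ∀ i, K ⟶ E i), ψ = ∑ i ∈ F, g i ≫ cf.inj ⟨i⟩ := by
  classical
  haveI : HasCoproduct (fam E) := ⟨⟨⟨cf, hcf⟩⟩⟩
  let θ : (∐ fam E) ≅ cf.pt := (coproductIsCoproduct _).coconePointUniqueUpToIso hcf
  have hθ : ∀ i, Sigma.ι (fam E) i ≫ θ.hom = cf.inj i := fun i =>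
    (coproductIsCoproduct _).comp_coconePointUniqueUpToIso_hom hcf ⟨i⟩
  obtain ⟨F, hF⟩ := (hK I E (ψ ≫ θ.inv)).exists_finset
  have h1 := eq_sum_of_comp_compl_eq_zero (fam E) hF
  refine ⟨F.image ULift.down, fun i => (ψ ≫ θ.inv) ≫ sigmaπ (fam E) ⟨i⟩, ?_⟩
  have h2 : ψ = (ψ ≫ θ.inv) ≫ θ.hom := by
    rw [Category.assoc, Iso.inv_hom_id, Category.comp_id]
  rw [Finset.sum_image (fun a _ b _ h => ULift.ext a b h)]
  conv_lhs => rw [h2, h1, Preadditive.sum_comp]
  refine Finset.sum_congr rfl (fun k _ => ?_)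
  rw [Category.assoc, hθ]

lemma IsCpt.of_retract {K L : Dual.D R} (i : K ⟶ L) (r : L ⟶ K) (hir : i ≫ r = 𝟙 K)
    (h : IsCpt L) : IsCpt K := by
  intro I E _ φ
  have := (h I E (r ≫ φ)).precomp i
  rwa [← Category.assoc, hir, Category.id_comp] at this

lemma IsCpt.of_iso {K L : Dual.D R} (e : K ≅ L) (h : IsCpt L) : IsCpt K :=
  IsCpt.of_retract e.hom e.inv e.hom_inv_id h

lemma IsCpt.ext₂ (T : Triangle (Dual.D R)) (hT : T ∈ distTriang (Dual.D R))
    (h₁ : IsCpt T.obj₁) (h₃ : IsCpt T.obj₃) : IsCpt T.obj₂ := by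
  intro I E _ φ
  obtain ⟨F, hF⟩ := (h₁ I E (T.mor₁ ≫ φ)).exists_finset
  rw [Category.assoc] at hF
  obtain ⟨ψ, hψ⟩ := Triangle.yoneda_exact₂ T hT (φ ≫ compl (fam E) F) hF
  apply isFin_of_comp_compl_isFin (F := F)
  rw [hψ]
  exact (h₃ I E ψ).precomp T.mor₂

lemma IsCpt.shift {K : Dual.D R} (hK : IsCpt K) (n : ℤ) :
    IsCpt ((shiftFunctor (Dual.D R) n).obj K) := by
  intro I E _ φ
  classical
  let G := shiftFunctor (Dual.D R) (-n)
  let E' : I → Dual.D R := fun i => G.obj (E i)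
  let cf : Cofan (fam E') := Cofan.mk (G.obj (∐ fam E)) (fun i => G.map (Sigma.ι (fam E) i))
  have hcf : IsColimit cf := isColimitOfHasCoproductOfPreservesColimit G (fam E)
  let e : K ≅ G.obj ((shiftFunctor (Dual.D R) n).obj K) :=
    ((shiftFunctorCompIsoId (Dual.D R) n (-n) (by simp)).app K).symm
  obtain ⟨F, g, hg⟩ := hK.exists_sum E' cf hcf (e.hom ≫ G.map φ)
  have : φ = ∑ i ∈ F, G.preimage (e.inv ≫ g i) ≫ Sigma.ι (fam E) ⟨i⟩ := by
    apply G.map_injective
    rw [G.map_sum]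
    have h2 : G.map φ = e.inv ≫ (e.hom ≫ G.map φ) := by
      rw [Iso.inv_hom_id_assoc]
    rw [h2, hg, Preadditive.comp_sum]
    refine Finset.sum_congr rfl (fun i _ => ?_)
    rw [G.map_comp, G.map_preimage, Category.assoc]
    rfl
  rw [this]
  exact isFin_sum _ _ (fun i _ => isFin_comp_ι _ _)

/-! ## `R[0]` is compact -/

/-- reindexing a colimit cofan along `ULift` -/
noncomputable def isColimitUlift {C : Type*} [Category C] {I : Type u} {X : I → C} (c : Cofan X)
    (hc : IsColimit c) :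
    IsColimit (Cofan.mk c.pt (fun i : ULift.{u + 1} I => c.inj i.down) :
      Cofan (fun i : ULift.{u + 1} I => X i.down)) :=
  Cofan.IsColimit.mk _ (fun s => Cofan.IsColimit.desc hc (fun i => s.inj ⟨i⟩))
    (fun s i => Cofan.IsColimit.fac hc _ i.down)
    (fun s m hm => Cofan.IsColimit.hom_ext hc _ _ (fun i => by
      rw [Cofan.IsColimit.fac]; exact hm ⟨i⟩))

/-- `Q` of a coproduct of complexes, as a colimit cofan indexed by `ULift I` -/
noncomputable def isColimitCofanQU {I : Type u} (L : I → DRing.Cx R) :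
    IsColimit (Cofan.mk (Q.obj (∐ L)) (fun i : ULift.{u + 1} I => Q.map (Sigma.ι L i.down)) :
      Cofan (fam (fun i => Q.obj (L i)))) :=
  isColimitUlift _ (DCoprodU.isColimitCofanQ L)

theorem single_exists_sum (j : ℤ) {I : Type u} (L : I → DRing.Cx R)
    (φ : Q.obj ((single (ModuleCat.{u} R) (ComplexShape.up ℤ) j).obj (ModuleCat.of R R)) ⟶
      Q.obj (∐ L)) :
    ∃ (F : Finset I) (g : ∀ i, Q.obj ((single (ModuleCat.{u} R) (ComplexShape.up ℤ) j).obj
      (ModuleCat.of R R)) ⟶ Q.obj (L i)), φ = ∑ i ∈ F, g i ≫ Q.map (Sigma.ι L i) := by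
  classical
  obtain ⟨z, hz, hφ⟩ := KInj.exists_cocycle_of_single (∐ L) φ
  obtain ⟨F, hF⟩ := (ModCompact.isFin_of_ring (fun k => (L k).X j)
    (z ≫ inv (DCoprod.cmp L j))).exists_finset
  have hzF : z ≫ (CompactEnv.compl L F).f j = 0 := by
    have h1 := ModCompact.cmp_compl L F j
    calc z ≫ (CompactEnv.compl L F).f j
        = (z ≫ inv (DCoprod.cmp L j)) ≫ DCoprod.cmp L j ≫ (CompactEnv.compl L F).f j := by simp
      _ = ((z ≫ inv (DCoprod.cmp L j)) ≫ CompactEnv.compl (fun k => (L k).X j) F) ≫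
            DCoprod.cmp L j := by
        rw [h1]
        simp only [Category.assoc]
      _ = 0 := by rw [hF, zero_comp]
  have hψ : mkHomFromSingle z hz ≫ CompactEnv.compl L F = 0 := by
    apply from_single_hom_ext
    rw [comp_f, mkHomFromSingle_f, Category.assoc, hzF, comp_zero, zero_f]
  have hsum := eq_sum_of_comp_compl_eq_zero L hψ
  refine ⟨F, fun k => Q.map (mkHomFromSingle z hz ≫ sigmaπ L k), ?_⟩
  rw [hφ]
  conv_lhs => rw [hsum, Functor.map_sum]
  refine Finset.sum_congr rfl (fun k _ => ?_)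
  rw [Functor.map_comp]

theorem isCpt_Qsingle (j : ℤ) :
    IsCpt (Q.obj ((single (ModuleCat.{u} R) (ComplexShape.up ℤ) j).obj (ModuleCat.of R R))) := by
  intro I E _ φ
  classical
  let L : I → DRing.Cx R := fun k => Q.objPreimage (E k)
  let e : ∀ k, Q.obj (L k) ≅ E k := fun k => Q.objObjPreimageIso (E k)
  have hc := isColimitCofanQU L
  let θ : ∐ fam E ⟶ Q.obj (∐ L) :=
    Sigma.desc (fun k : ULift.{u + 1} I => (e k.down).inv ≫ Q.map (Sigma.ι L k.down))
  let θ' : Q.obj (∐ L) ⟶ ∐ fam E :=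
    Cofan.IsColimit.desc hc (fun k : ULift.{u + 1} I => (e k.down).hom ≫ Sigma.ι (fam E) k)
  have hθ' : ∀ k : ULift.{u + 1} I,
      Q.map (Sigma.ι L k.down) ≫ θ' = (e k.down).hom ≫ Sigma.ι (fam E) k :=
    fun k => Cofan.IsColimit.fac hc _ k
  have hθ : θ ≫ θ' = 𝟙 _ := by
    apply Sigma.hom_ext
    intro k
    rw [Sigma.ι_desc_assoc, Category.assoc, hθ', Iso.inv_hom_id_assoc, Category.comp_id]
  obtain ⟨F, g, hg⟩ := single_exists_sum j L (φ ≫ θ)
  have h2 : φ = (φ ≫ θ) ≫ θ' := by rw [Category.assoc, hθ, Category.comp_id]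
  rw [h2, hg, Preadditive.sum_comp]
  apply isFin_sum
  intro k _
  rw [Category.assoc, hθ' ⟨k⟩, ← Category.assoc]
  exact isFin_comp_ι (X := fam E) ⟨k⟩ _

theorem isCpt_inD : IsCpt (Dual.inD R R) :=
  IsCpt.of_iso ((DerivedCategory.singleFunctorIsoCompQ (ModuleCat.{u} R) 0).app (ModuleCat.of R R))
    (isCpt_Qsingle 0)

instance : ObjectProperty.IsClosedUnderIsomorphisms (IsCpt (R := R)) where
  of_iso e h := IsCpt.of_iso e.symm h

/-- perfect objects are compact -/
theorem isCpt_of_isPerfect (K : Dual.D R) (hK : DRing.IsPerfect R K) : IsCpt K :=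
  perfect_induction (IsCpt (R := R)) isCpt_inD (fun K n h => h.shift n)
    (fun T hT h₁ h₃ => IsCpt.ext₂ T hT h₁ h₃)
    (fun X Y _ h => IsCpt.of_retract biprod.inl biprod.fst biprod.inl_fst h) K hK

end Groth.Agent.Lib.Helper18.DR.Cpt
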