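import Mathlib
import Groth.Agent.Lib.Helper18.CptA
import Groth.Agent.Lib.Helper18.DRTrunc

/-!
# Compact objects of `D(R)`: cutting down a free term to a finite free one (helper18)
-/

set_option autoImplicit false
set_option linter.style.haveILetI false
universe u
open CategoryTheory CategoryTheory.Limits CategoryTheory.Pretriangulated DerivedCategory
  HomologicalComplex

attribute [local instance] HasDerivedCategory.standard

namespace Groth.Agent.Lib.Helper18.DR.Cpt

open Groth.Agent.Lib.Helper2 Groth.Agent.Lib.Helper2.CompactEnv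

variable {R : Type u} [CommRing R]

/-! ## Subcomplexes which differ from the complex in a single degree -/

section DegSub

variable (L : DRing.Cx R) (c : ℤ) (N : Submodule R (L.X c))

/-- the family of submodules equal to `N` in degree `c` and to `⊤` elsewhere -/
def degSub (j : ℤ) : Submodule R (L.X j) :=
  ⨅ (h : j = c), N.comap (L.XIsoOfEq h).hom.hom

lemma degSub_self : degSub L c N c = N := by
  unfold degSub
  rw [iInf_pos rfl]
  ext x
  simp [HomologicalComplex.XIsoOfEq]

lemma degSub_of_ne {j : ℤ} (h : j ≠ c) : degSub L c N j = ⊤ := by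
  unfold degSub
  rw [iInf_neg h]

lemma mem_degSub_self (x : L.X c) : x ∈ degSub L c N c ↔ x ∈ N := by rw [degSub_self]

variable (hN : ∀ (j : ℤ) (x : L.X j), (L.d j c).hom x ∈ N)

include hN in
lemma degSub_stable (i j : ℤ) (x : L.X i) (_ : x ∈ degSub L c N i) :
    (L.d i j).hom x ∈ degSub L c N j := by
  by_cases h : j = c
  · subst h
    rw [mem_degSub_self]
    exact hN i x
  · rw [degSub_of_ne L c N h]; trivial

/-- the subcomplex -/
noncomputable def degSubCx : DRing.Cx R := subCx L (degSub L c N) (degSub_stable L c N hN)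

/-- its inclusion -/
noncomputable def degSubCxι : degSubCx L c N hN ⟶ L := subCxι L _ _

/-- the terms away from `c` -/
noncomputable def degSubCxEquivOfNe {j : ℤ} (h : j ≠ c) : (degSubCx L c N hN).X j ≃ₗ[R] L.X j :=
  (LinearEquiv.ofEq _ _ (degSub_of_ne L c N h)).trans Submodule.topEquiv

/-- the term in degree `c` -/
noncomputable def degSubCxEquivSelf : (degSubCx L c N hN).X c ≃ₗ[R] N :=
  LinearEquiv.ofEq _ _ (degSub_self L c N)

lemma vanishesOutside_degSubCx {a b : ℤ} (hL : DRing.VanishesOutside L a b) :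
    DRing.VanishesOutside (degSubCx L c N hN) a b := by
  intro j hj
  have hz := hL j hj
  haveI : Subsingleton (L.X j) := ModuleCat.subsingleton_of_isZero hz
  haveI : Subsingleton ((degSubCx L c N hN).X j) :=
    (inferInstance : Subsingleton (degSub L c N j))
  exact ModuleCat.isZero_of_subsingleton _

end DegSub

/-! ## Lifting along the kernel of a map to a complex concentrated in one degree -/

section LiftKer

variable (L : DRing.Cx R) (c : ℤ) {M : ModuleCat.{u} R} (P : L.X c ⟶ M)
  (hP : ∀ i, L.d i c ≫ P = 0)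

/-- the chain map to `M[-c]` -/
noncomputable def toSingle : L ⟶ (single (ModuleCat.{u} R) (ComplexShape.up ℤ) c).obj M :=
  mkHomToSingle P (fun i _ => hP i)

lemma toSingle_f : (toSingle L c P hP).f c = P ≫ (singleObjXSelf (ComplexShape.up ℤ) c M).inv :=
  mkHomToSingle_f _ _

include hP in
lemma ker_stable (j : ℤ) (x : L.X j) : (L.d j c).hom x ∈ LinearMap.ker P.hom := by
  rw [LinearMap.mem_ker, ← ModuleCat.comp_apply, hP]; rfl

lemma toSingle_f_apply_eq_zero_iff (y : L.X c) :
    ((toSingle L c P hP).f c).hom y = 0 ↔ P.hom y = 0 := by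
  rw [toSingle_f, ModuleCat.comp_apply]
  constructor
  · intro h
    have := congrArg (singleObjXSelf (ComplexShape.up ℤ) c M).hom.hom h
    rwa [← ModuleCat.comp_apply, Iso.inv_hom_id, map_zero] at this
  · intro h
    rw [h, map_zero]

/-- the short complex `ker → L → M[-c]` -/
noncomputable def kerSC : ShortComplex (DRing.Cx R) where
  X₁ := degSubCx L c (LinearMap.ker P.hom) (ker_stable L c P hP)
  X₂ := L
  X₃ := (single (ModuleCat.{u} R) (ComplexShape.up ℤ) c).obj M
  f := degSubCxι L c (LinearMap.ker P.hom) (ker_stable L c P hP)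
  g := toSingle L c P hP
  zero := by
    apply to_single_hom_ext
    rw [comp_f, zero_f]
    ext x
    change ((toSingle L c P hP).f c).hom (x.1 : L.X c) = 0
    rw [toSingle_f_apply_eq_zero_iff]
    exact (mem_degSub_self L c _ _).mp x.2

lemma kerSC_shortExact (hsurj : Function.Surjective P.hom) : (kerSC L c P hP).ShortExact := by
  apply HomologicalComplex.shortExact_of_degreewise_shortExact
  intro j
  apply ModuleCat.shortComplex_shortExact
  · intro (y : L.X j)
    constructor
    · intro hy
      by_cases h : j = c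
      · subst h
        have hy' : ((toSingle L j P hP).f j).hom y = 0 := hy
        rw [toSingle_f_apply_eq_zero_iff] at hy'
        exact ⟨⟨y, (mem_degSub_self L j _ _).mpr hy'⟩, rfl⟩
      · exact ⟨⟨y, by rw [degSub_of_ne _ _ _ h]; trivial⟩, rfl⟩
    · rintro ⟨x, rfl⟩
      have h0 := congrArg (fun φ => (φ.f j).hom x) (kerSC L c P hP).zero
      exact h0
  · intro x y h
    exact Subtype.ext h
  · by_cases h : j = c
    · subst h
      intro z
      obtain ⟨y, hy⟩ := hsurj ((singleObjXSelf (ComplexShape.up ℤ) j M).hom.hom z)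
      refine ⟨y, ?_⟩
      change ((toSingle L j P hP).f j).hom y = z
      rw [toSingle_f, ModuleCat.comp_apply, hy, ← ModuleCat.comp_apply, Iso.hom_inv_id]
      rfl
    · intro z
      haveI : Subsingleton (((single (ModuleCat.{u} R) (ComplexShape.up ℤ) c).obj M).X j) :=
        ModuleCat.subsingleton_of_isZero (isZero_single_obj_X _ _ _ _ h)
      exact ⟨0, Subsingleton.elim (α := ((single (ModuleCat.{u} R) (ComplexShape.up ℤ) c).obj M).X j)
        _ _⟩

theorem exists_lift_ker (hsurj : Function.Surjective P.hom) {K : Dual.D R} (i : K ⟶ Q.obj L)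
    (hi : i ≫ Q.map (toSingle L c P hP) = 0) :
    ∃ i' : K ⟶ Q.obj (degSubCx L c (LinearMap.ker P.hom) (ker_stable L c P hP)),
      i' ≫ Q.map (degSubCxι L c (LinearMap.ker P.hom) (ker_stable L c P hP)) = i := by
  have hT := DerivedCategory.triangleOfSES_distinguished (kerSC_shortExact L c P hP hsurj)
  obtain ⟨i', hi'⟩ := Triangle.coyoneda_exact₂ _ hT i hi
  exact ⟨i', hi'.symm⟩

end LiftKer

/-! ## Free modules placed in one degree as coproducts in `D(R)` -/

section BasisCofan

variable {M : ModuleCat.{u} R} {Λ : Type u} (b : Module.Basis Λ R M)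

/-- a free module is the coproduct of copies of `R` -/
noncomputable def isColimitBasisCofan :
    IsColimit (Cofan.mk M (fun l : Λ => ModCompact.ofElt (b l)) :
      Cofan (fun _ : Λ => ModuleCat.of R R)) :=
  Cofan.IsColimit.mk _ (fun s => ModuleCat.ofHom (b.constr R (fun l => (s.inj l).hom (1 : R))))
    (fun s l => by
      change ModCompact.ofElt (b l) ≫ _ = s.inj l
      rw [ModCompact.ofElt_comp, ModuleCat.hom_ofHom, Module.Basis.constr_basis]
      exact (ModCompact.eq_ofElt _).symm)
    (fun s m hm => by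
      refine ModuleCat.hom_ext (b.ext fun l => ?_)
      rw [ModuleCat.hom_ofHom, Module.Basis.constr_basis]
      have := hm l
      change ModCompact.ofElt (b l) ≫ m = s.inj l at this
      rw [← this, ModCompact.ofElt_comp]
      change m.hom (b l) = (1 : R) • m.hom (b l)
      rw [one_smul])

/-- `Q` of a colimit cofan of complexes, as a colimit cofan indexed by `ULift I` -/
noncomputable def isColimitCofanQ' {I : Type u} {X : I → DRing.Cx R} (cf : Cofan X)
    (hcf : IsColimit cf) :
    IsColimit (Cofan.mk (Q.obj cf.pt) (fun i : ULift.{u + 1} I => Q.map (cf.inj i.down)) :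
      Cofan (fam (fun i => Q.obj (X i)))) := by
  let e : (∐ X) ≅ cf.pt := (coproductIsCoproduct X).coconePointUniqueUpToIso hcf
  have he : ∀ i, Sigma.ι X i ≫ e.hom = cf.inj i := fun i =>
    (coproductIsCoproduct X).comp_coconePointUniqueUpToIso_hom hcf ⟨i⟩
  refine IsColimit.ofIsoColimit (isColimitCofanQU X) (Cofan.ext (Q.mapIso e) ?_)
  intro i
  change Q.map (Sigma.ι X i.down) ≫ Q.map e.hom = Q.map (cf.inj i.down)
  rw [← Functor.map_comp, he]

/-- a free module placed in degree `c` is a coproduct of copies of `R[-c]` in `D(R)` -/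
noncomputable def isColimitSingleBasisCofan (c : ℤ) :
    IsColimit (Cofan.mk (Q.obj ((single (ModuleCat.{u} R) (ComplexShape.up ℤ) c).obj M))
      (fun l : ULift.{u + 1} Λ => Q.map ((single (ModuleCat.{u} R) (ComplexShape.up ℤ) c).map
        (ModCompact.ofElt (b l.down)))) :
      Cofan (fam (fun _ : Λ => Q.obj ((single (ModuleCat.{u} R) (ComplexShape.up ℤ) c).obj
        (ModuleCat.of R R))))) :=
  isColimitCofanQ' _ (isColimitCofanMkObjOfIsColimit
    (single (ModuleCat.{u} R) (ComplexShape.up ℤ) c) _ _ (isColimitBasisCofan b))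

lemma IsCpt.exists_sum_single_basis {K : Dual.D R} (hK : IsCpt K) (c : ℤ)
    (ψ : K ⟶ Q.obj ((single (ModuleCat.{u} R) (ComplexShape.up ℤ) c).obj M)) :
    ∃ (F : Finset Λ) (g : Λ → (K ⟶ Q.obj ((single (ModuleCat.{u} R) (ComplexShape.up ℤ) c).obj
        (ModuleCat.of R R)))),
      ψ = ∑ l ∈ F, g l ≫ Q.map ((single (ModuleCat.{u} R) (ComplexShape.up ℤ) c).map
        (ModCompact.ofElt (b l))) :=
  hK.exists_sum _ _ (isColimitSingleBasisCofan b c) ψ

end BasisCofan

/-! ## Coordinates outside a finite set of basis vectors -/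

section Proj

variable {M : Type u} [AddCommGroup M] [Module R M] {Λ : Type u} (β : Module.Basis Λ R M)

/-- coordinates outside a finite set -/
noncomputable def projOut (s : Finset Λ) : M →ₗ[R] ({l : Λ // l ∉ s} →₀ R) :=
  (Finsupp.lcomapDomain (Subtype.val : {l : Λ // l ∉ s} → Λ) Subtype.val_injective) ∘ₗ
    β.repr.toLinearMap

lemma projOut_apply (s : Finset Λ) (x : M) (l : {l : Λ // l ∉ s}) :
    projOut β s x l = β.repr x l.1 := by
  simp [projOut, Finsupp.lcomapDomain_apply, Finsupp.comapDomain_apply]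

lemma ker_projOut (s : Finset Λ) :
    LinearMap.ker (projOut β s) = Submodule.span R (β '' (s : Set Λ)) := by
  ext x
  rw [LinearMap.mem_ker, Module.Basis.mem_span_image]
  constructor
  · intro h l hl
    by_contra hls
    have h1 : projOut β s x ⟨l, hls⟩ = 0 := by rw [h]; rfl
    rw [projOut_apply] at h1
    exact (Finsupp.mem_support_iff.mp hl) h1
  · intro h
    ext ⟨l, hl⟩
    rw [projOut_apply, Finsupp.zero_apply]
    by_contra hne
    exact hl (h (Finsupp.mem_support_iff.mpr hne))

lemma projOut_surjective (s : Finset Λ) : Function.Surjective (projOut β s) := by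
  intro f
  refine ⟨β.repr.symm (Finsupp.embDomain (Function.Embedding.subtype _) f), ?_⟩
  ext l
  rw [projOut_apply, LinearEquiv.apply_symm_apply]
  exact Finsupp.embDomain_apply_self (Function.Embedding.subtype _) f l

/-- forgetting more coordinates -/
noncomputable def restr (s t : Finset Λ) (hst : s ⊆ t) :
    ({l : Λ // l ∉ s} →₀ R) →ₗ[R] ({l : Λ // l ∉ t} →₀ R) :=
  Finsupp.lcomapDomain (fun l : {l : Λ // l ∉ t} => (⟨l.1, fun h => l.2 (hst h)⟩ : {l : Λ // l ∉ s}))
    (fun a b h => Subtype.ext (congrArg (fun z : {l : Λ // l ∉ s} => z.1) h))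

lemma restr_apply (s t : Finset Λ) (hst : s ⊆ t) (f : {l : Λ // l ∉ s} →₀ R)
    (l : {l : Λ // l ∉ t}) : restr (R := R) s t hst f l = f ⟨l.1, fun h => l.2 (hst h)⟩ := by
  simp [restr, Finsupp.lcomapDomain_apply, Finsupp.comapDomain_apply]

lemma restr_comp_projOut (s t : Finset Λ) (hst : s ⊆ t) :
    (restr (R := R) s t hst) ∘ₗ projOut β s = projOut β t := by
  ext x l
  rw [LinearMap.comp_apply, restr_apply, projOut_apply, projOut_apply]

lemma restr_single_of_mem (s t : Finset Λ) (hst : s ⊆ t) (l : {l : Λ // l ∉ s}) (hl : l.1 ∈ t) :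
    restr (R := R) s t hst (Finsupp.single l 1) = 0 := by
  classical
  ext m
  rw [restr_apply, Finsupp.zero_apply, Finsupp.single_apply, if_neg]
  intro h
  apply m.2
  have : l.1 = m.1 := congrArg Subtype.val h
  rw [← this]; exact hl

lemma exists_finset_span_of_fg (N : Submodule R M) (hN : N.FG) :
    ∃ s : Finset Λ, N ≤ Submodule.span R (β '' (s : Set Λ)) := by
  classical
  obtain ⟨t, rfl⟩ := hN
  refine ⟨t.biUnion (fun x => (β.repr x).support), ?_⟩
  rw [Submodule.span_le]
  intro x hx
  rw [SetLike.mem_coe, Module.Basis.mem_span_image]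
  intro l hl
  rw [Finset.coe_biUnion, Set.mem_iUnion₂]
  exact ⟨x, hx, hl⟩

lemma finite_span_image (s : Finset Λ) :
    Module.Finite R (Submodule.span R (β '' (s : Set Λ))) :=
  Module.Finite.span_of_finite R (s.finite_toSet.image β)

lemma free_span_image (s : Finset Λ) :
    Module.Free R (Submodule.span R (β '' (s : Set Λ))) := by
  have hli : LinearIndependent R (fun l : {x // x ∈ s} => β l.1) :=
    β.linearIndependent.comp (fun l : {x // x ∈ s} => l.1) Subtype.val_injective
  have h : Set.range (fun l : {x // x ∈ s} => β l.1) = β '' (s : Set Λ) := by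
    ext x
    constructor
    · rintro ⟨l, rfl⟩
      exact ⟨l.1, l.2, rfl⟩
    · rintro ⟨l, hl, rfl⟩
      exact ⟨⟨l, hl⟩, rfl⟩
  have hb := Module.Basis.span hli
  rw [h] at hb
  exact Module.Free.of_basis hb

end Proj

/-! ## The cutting step -/

section Cut

theorem exists_cut (K : Dual.D R) (hK : IsCpt K) (L : DRing.Cx R) (c c' : ℤ) (hc : c' + 1 = c)
    [Module.Free R (L.X c)] [Module.Finite R (L.X c')] (i : K ⟶ Q.obj L) :
    ∃ (N : Submodule R (L.X c)) (hN : ∀ (j : ℤ) (x : L.X j), (L.d j c).hom x ∈ N),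
      Module.Finite R N ∧ Module.Free R N ∧
      ∃ i' : K ⟶ Q.obj (degSubCx L c N hN), i' ≫ Q.map (degSubCxι L c N hN) = i := by
  classical
  let Λ := Module.Free.ChooseBasisIndex R (L.X c)
  let β : Module.Basis Λ R (L.X c) := Module.Free.chooseBasis R (L.X c)
  have hfg : (LinearMap.range (L.d c' c).hom).FG := by
    rw [LinearMap.range_eq_map]
    exact Submodule.FG.map _ Module.Finite.fg_top
  obtain ⟨s₀, hs₀⟩ := exists_finset_span_of_fg β _ hfg
  have hd : ∀ (s : Finset Λ), s₀ ⊆ s → ∀ j, L.d j c ≫ ModuleCat.ofHom (projOut β s) = 0 := by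
    intro s hs j
    by_cases hj : j + 1 = c
    · obtain rfl : j = c' := by omega
      refine ModuleCat.hom_ext (LinearMap.ext fun x => ?_)
      change projOut β s ((L.d j c).hom x) = 0
      rw [← LinearMap.mem_ker, ker_projOut]
      exact Submodule.span_mono (Set.image_mono (by exact_mod_cast hs)) (hs₀ ⟨x, rfl⟩)
    · rw [L.shape j c hj, zero_comp]
  obtain ⟨F, g, hg⟩ := hK.exists_sum_single_basis
    (Finsupp.basisSingleOne (R := R) (ι := {l : Λ // l ∉ s₀})) c
    (i ≫ Q.map (toSingle L c (ModuleCat.ofHom (projOut β s₀)) (hd s₀ subset_rfl)))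
  let s : Finset Λ := s₀ ∪ F.map (Function.Embedding.subtype _)
  have hs : s₀ ⊆ s := Finset.subset_union_left
  have hρ : toSingle L c (ModuleCat.ofHom (projOut β s)) (hd s hs) =
      toSingle L c (ModuleCat.ofHom (projOut β s₀)) (hd s₀ subset_rfl) ≫
        (single (ModuleCat.{u} R) (ComplexShape.up ℤ) c).map
          (ModuleCat.ofHom (restr (R := R) s₀ s hs)) := by
    apply to_single_hom_ext
    rw [comp_f, toSingle_f, toSingle_f, single_map_f_self, Category.assoc, Iso.inv_hom_id_assoc,
      ← Category.assoc, ← ModuleCat.ofHom_comp, restr_comp_projOut]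
  have hzero : i ≫ Q.map (toSingle L c (ModuleCat.ofHom (projOut β s)) (hd s hs)) = 0 := by
    rw [hρ, Functor.map_comp, ← Category.assoc, hg, Preadditive.sum_comp]
    apply Finset.sum_eq_zero
    intro l hl
    rw [Category.assoc, ← Functor.map_comp, ← Functor.map_comp, ModCompact.ofElt_comp]
    have h0 : (ModuleCat.ofHom (restr (R := R) s₀ s hs)).hom
        ((Finsupp.basisSingleOne (R := R) (ι := {l : Λ // l ∉ s₀})) l) = 0 := by
      rw [ModuleCat.hom_ofHom, Finsupp.coe_basisSingleOne]
      apply restr_single_of_mem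
      exact Finset.mem_union_right _ (Finset.mem_map_of_mem _ hl)
    rw [h0, ModCompact.ofElt_zero, Functor.map_zero, Functor.map_zero, comp_zero]
  obtain ⟨i', hi'⟩ := exists_lift_ker L c (ModuleCat.ofHom (projOut β s)) (hd s hs)
    (projOut_surjective β s) i hzero
  have hker : LinearMap.ker (ModuleCat.ofHom (projOut β s)).hom =
      Submodule.span R (β '' (s : Set Λ)) := ker_projOut β s
  refine ⟨LinearMap.ker (ModuleCat.ofHom (projOut β s)).hom, ker_stable L c _ (hd s hs), ?_, ?_,
    i', hi'⟩
  · haveI := finite_span_image β s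
    exact Module.Finite.equiv (LinearEquiv.ofEq _ _ hker.symm)
  · haveI := free_span_image β s
    exact Module.Free.of_equiv (LinearEquiv.ofEq _ _ hker.symm)

end Cut

end Groth.Agent.Lib.Helper18.DR.Cpt
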