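import Mathlib
import Groth.Agent.Lib.Helper18.KProjD

/-!
# Exactness after tensoring: reduction to finitely presented modules (helper18)
-/

set_option autoImplicit false
set_option linter.style.haveILetI false
universe u
open TensorProduct

namespace Groth.Agent.Lib.Helper18.DR

namespace FPApprox

variable {R : Type u} [CommRing R] {X Y Z : Type u} [AddCommGroup X] [Module R X]
  [AddCommGroup Y] [Module R Y] [AddCommGroup Z] [Module R Z] (d : X →ₗ[R] Y) (d' : Y →ₗ[R] Z)

/-- the "kernel ⊂ image" half of exactness of `M ⊗ X → M ⊗ Y → M ⊗ Z` -/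
def KerLeIm (M : Type u) [AddCommGroup M] [Module R M] : Prop :=
  ∀ y : M ⊗[R] Y, (d'.lTensor M) y = 0 → ∃ x : M ⊗[R] X, (d.lTensor M) x = y

variable {d d'}

/-- from finitely presented to finitely generated modules -/
lemma kerLeIm_of_finite
    (H : ∀ (M : Type u) [AddCommGroup M] [Module R M], Module.FinitePresentation R M →
      KerLeIm d d' M)
    (N : Type u) [AddCommGroup N] [Module R N] [Module.Finite R N] : KerLeIm d d' N := by
  intro y hy
  obtain ⟨n, π, hπ⟩ := Module.Finite.exists_fin' R N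
  let K := LinearMap.ker π
  have hex : Function.Exact K.subtype π := by
    intro a
    constructor
    · intro h
      exact ⟨⟨a, h⟩, rfl⟩
    · rintro ⟨b, rfl⟩
      exact b.2
  obtain ⟨yt, hyt⟩ := LinearMap.rTensor_surjective Y hπ y
  have h1 : (π.rTensor Z) ((d'.lTensor (Fin n → R)) yt) = 0 := by
    rw [rTensor_lTensor_comm, hyt, hy]
  obtain ⟨u, hu⟩ := (rTensor_exact Z hex hπ _).mp h1
  obtain ⟨K₀', hK₀', hu₀⟩ := TensorProduct.exists_finite_submodule_left_of_setFinite {u}
    (Set.finite_singleton u)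
  obtain ⟨u₀, hu₀⟩ := hu₀ (Set.mem_singleton u)
  let K₀ : Submodule R (Fin n → R) := K₀'.map K.subtype
  have hK₀fg : K₀.FG := (Module.Finite.iff_fg.mp hK₀').map _
  have hK₀le : K₀ ≤ LinearMap.ker π := by
    rintro _ ⟨a, _, rfl⟩
    exact a.2
  let M' := (Fin n → R) ⧸ K₀
  have hfp : Module.FinitePresentation R M' :=
    Module.finitePresentation_of_free_of_surjective K₀.mkQ (Submodule.mkQ_surjective K₀)
      (by rw [Submodule.ker_mkQ]; exact hK₀fg)
  let φ : M' →ₗ[R] N := K₀.liftQ π hK₀le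
  have hφ : φ ∘ₗ K₀.mkQ = π := Submodule.liftQ_mkQ K₀ π hK₀le
  have hzero : K₀.mkQ ∘ₗ K.subtype ∘ₗ K₀'.subtype = 0 := by
    ext a
    change K₀.mkQ (K.subtype (K₀'.subtype a)) = 0
    rw [Submodule.mkQ_apply, Submodule.Quotient.mk_eq_zero]
    exact ⟨a.1, a.2, rfl⟩
  have hy' : (d'.lTensor M') ((K₀.mkQ.rTensor Y) yt) = 0 := by
    rw [← rTensor_lTensor_comm, ← hu, ← hu₀, ← LinearMap.rTensor_comp_apply,
      ← LinearMap.rTensor_comp_apply, LinearMap.comp_assoc, hzero, LinearMap.rTensor_zero,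
      LinearMap.zero_apply]
  obtain ⟨x', hx'⟩ := H M' hfp _ hy'
  refine ⟨(φ.rTensor X) x', ?_⟩
  rw [← rTensor_lTensor_comm, hx', ← LinearMap.rTensor_comp_apply, hφ, hyt]

/-- from finitely generated to arbitrary modules -/
lemma kerLeIm_of_forall_finite
    (H : ∀ (N : Type u) [AddCommGroup N] [Module R N] [Module.Finite R N], KerLeIm d d' N)
    (M : Type u) [AddCommGroup M] [Module R M] : KerLeIm d d' M := by
  intro y hy
  obtain ⟨N, hN, hyN⟩ := TensorProduct.exists_finite_submodule_left_of_setFinite {y}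
    (Set.finite_singleton y)
  obtain ⟨y₀, hy₀⟩ := hyN (Set.mem_singleton y)
  have h1 : (N.subtype.rTensor Z) ((d'.lTensor N) y₀) = (N.subtype.rTensor Z) 0 := by
    rw [rTensor_lTensor_comm, hy₀, hy, map_zero]
  obtain ⟨N', hN', hle, h2⟩ :=
    (Module.Finite.iff_fg.mp hN).exists_rTensor_fg_inclusion_eq h1
  rw [map_zero, rTensor_lTensor_comm] at h2
  haveI : Module.Finite R N' := Module.Finite.iff_fg.mpr hN'
  obtain ⟨x₁, hx₁⟩ := H N' _ h2
  refine ⟨(N'.subtype.rTensor X) x₁, ?_⟩
  rw [← rTensor_lTensor_comm, hx₁, ← LinearMap.rTensor_comp_apply]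
  have h3 : N'.subtype ∘ₗ N.inclusion hle = N.subtype := by
    ext a
    rfl
  rw [h3, hy₀]

theorem kerLeIm_of_finitePresentation
    (H : ∀ (M : Type u) [AddCommGroup M] [Module R M], Module.FinitePresentation R M →
      KerLeIm d d' M)
    (M : Type u) [AddCommGroup M] [Module R M] : KerLeIm d d' M :=
  kerLeIm_of_forall_finite (fun N _ _ _ => kerLeIm_of_finite H N) M

end FPApprox

end Groth.Agent.Lib.Helper18.DR
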