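import Mathlib
import Groth.Agent.Lib.Helper18.DRInd
import Groth.Agent.Lib.Helper18.DRPerf

/-!
# Chain-level induction over strictly perfect complexes (helper18)

A property of cochain complexes which is invariant under isomorphism, closed under shifts, under
extensions (short exact sequences with termwise projective cokernel) and under direct summands, and
which holds for `A[0]`, holds for every bounded complex of finite projective modules.
-/

set_option autoImplicit false
set_option linter.style.haveILetI false
universe u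
open CategoryTheory CategoryTheory.Limits HomologicalComplex

namespace Groth.Agent.Lib.Helper18.DR

namespace SPInd

variable {A : Type u} [CommRing A]

/-- the single complex functor -/
noncomputable abbrev sg (i : ℤ) : ModuleCat.{u} A ⥤ DRing.Cx A :=
  HomologicalComplex.single (ModuleCat.{u} A) (ComplexShape.up ℤ) i

lemma isZero_of_forall_isZero (K : DRing.Cx A) (h : ∀ i, IsZero (K.X i)) : IsZero K := by
  rw [IsZero.iff_id_eq_zero]
  ext i : 1
  exact (h i).eq_of_src _ _

/-- a short exact sequence of modules with projective cokernel splits -/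
lemma nonempty_splitting_of_projective (S : ShortComplex (ModuleCat.{u} A)) (hS : S.ShortExact)
    (hp : Module.Projective A S.X₃) : Nonempty S.Splitting := by
  haveI : Projective S.X₃ := (IsProjective.iff_projective (R := A) (P := S.X₃)).1 hp
  haveI := hS.epi_g
  haveI := hS.mono_f
  exact ⟨ShortComplex.Splitting.ofExactOfSection S hS.exact (Projective.factorThru (𝟙 _) S.g)
    (Projective.factorThru_comp _ _) inferInstance⟩

/-- degreewise splittings of a short exact sequence of complexes with termwise projective cokernel -/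
lemma nonempty_degreewise_splitting (S : ShortComplex (DRing.Cx A)) (hS : S.ShortExact)
    (hp : ∀ i, Module.Projective A (S.X₃.X i)) (i : ℤ) :
    Nonempty (S.map (HomologicalComplex.eval _ _ i)).Splitting :=
  nonempty_splitting_of_projective _ (hS.map_of_exact (HomologicalComplex.eval _ _ i)) (hp i)

lemma projective_sg_X (i j : ℤ) (M : ModuleCat.{u} A) (hM : Module.Projective A M) :
    Module.Projective A (((sg i).obj M).X j) := by
  by_cases h : j = i
  · subst h
    exact (projProp A).iso (HomologicalComplex.singleObjXSelf (ComplexShape.up ℤ) j M).symm hM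
  · exact (projProp A).zero (HomologicalComplex.isZero_single_obj_X (ComplexShape.up ℤ) i M j h)

section BI

variable (Pc : DRing.Cx A → Prop) (hiso : ∀ {X Y : DRing.Cx A}, (X ≅ Y) → Pc X → Pc Y)
  (hzero : ∀ X : DRing.Cx A, IsZero X → Pc X)
  (hses : ∀ S : ShortComplex (DRing.Cx A), S.ShortExact →
    (∀ i, Module.Projective A (S.X₃.X i)) → Pc S.X₁ → Pc S.X₃ → Pc S.X₂)

include hiso hzero hses

/-- induction on the length of a bounded complex of projective modules (chain level) -/
theorem bounded_induction (K : DRing.Cx A) (a b : ℤ) (hK : DRing.VanishesOutside K a b)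
    (hp : ∀ i, Module.Projective A (K.X i))
    (h : ∀ i : ℤ, a ≤ i → i ≤ b → Pc ((sg i).obj (K.X i))) : Pc K := by
  obtain ⟨N, hN⟩ : ∃ N : ℕ, b - a + 1 ≤ N := ⟨(b - a + 1).toNat, by omega⟩
  induction N generalizing K a with
  | zero =>
    exact hzero _ (isZero_of_forall_isZero K (fun i => hK i (by omega)))
  | succ N ih =>
    refine hses (subQuotSC K (sigmaSub K (a + 1)) (sigmaSub_stable K (a + 1)))
      (subQuotSC_shortExact _ _ _) ?_ ?_ ?_
    · intro i
      exact (projProp A).sigmaLT K (a + 1) hp i
    · change Pc (sigmaGE K (a + 1))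
      refine ih (sigmaGE K (a + 1)) (a + 1)
        (vanishesOutside_sigmaGE K (a + 1) (VanishesOutside.above hK))
        (fun i => (projProp A).sigmaGE K (a + 1) hp i) (fun i hi hib => ?_)
        (by push_cast at hN; omega)
      exact hiso ((sg i).mapIso (sigmaGEXIso K (a + 1) hi).symm) (h i (by omega) hib)
    · change Pc (sigmaLT K (a + 1))
      haveI : (sigmaLT K (a + 1)).IsStrictlyLE a := by
        have : (sigmaLT K (a + 1)).IsStrictlyLE (a + 1 - 1) := inferInstance
        simpa using this
      haveI : (sigmaLT K (a + 1)).IsStrictlyGE a := by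
        rw [CochainComplex.isStrictlyGE_iff]
        intro i hi
        exact vanishesOutside_sigmaLT' K (a + 1) hK i (Or.inl hi)
      by_cases hab : a ≤ b
      · refine hiso (isoSingleOfStrictly (sigmaLT K (a + 1)) a).symm ?_
        exact hiso ((sg a).mapIso (sigmaLTXIso K (a + 1) (by omega))) (h a le_rfl hab)
      · exact hzero _ (isZero_of_forall_isZero _
          (fun i => vanishesOutside_sigmaLT' K (a + 1) hK i (by omega)))

end BI

/-- **Chain-level induction over strictly perfect complexes.** -/
theorem strictlyPerfect_induction (Pc : DRing.Cx A → Prop)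
    (hiso : ∀ {X Y : DRing.Cx A}, (X ≅ Y) → Pc X → Pc Y)
    (hunit : Pc ((sg 0).obj (ModuleCat.of A A)))
    (hshift : ∀ (X : DRing.Cx A) (n : ℤ), Pc X → Pc (X⟦n⟧))
    (hses : ∀ S : ShortComplex (DRing.Cx A), S.ShortExact →
      (∀ i, Module.Projective A (S.X₃.X i)) → Pc S.X₁ → Pc S.X₃ → Pc S.X₂)
    (hsum : ∀ (X Y : DRing.Cx A), Pc (X ⊞ Y) → Pc X)
    (E : DRing.Cx A) (a b : ℤ) (hE : DRing.VanishesOutside E a b)
    (hp : DRing.TermwiseFiniteProjective E) : Pc E := by
  classical
  have hzero : ∀ X : DRing.Cx A, IsZero X → Pc X := by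
    intro X hX
    have h0 : Pc (X ⊞ (sg 0).obj (ModuleCat.of A A)) := hiso (isoZeroBiprod hX) hunit
    exact hsum X _ h0
  have hbiprod : ∀ X Y : DRing.Cx A, (∀ i, Module.Projective A (Y.X i)) → Pc X → Pc Y →
      Pc (X ⊞ Y) := fun X Y hY hX hY' =>
    hses (ShortComplex.mk (biprod.inl : X ⟶ X ⊞ Y) (biprod.snd : X ⊞ Y ⟶ Y) (by simp))
      (ShortComplex.Splitting.ofHasBinaryBiproduct X Y).shortExact hY hX hY'
  have hRi : ∀ i : ℤ, Pc ((sg i).obj (ModuleCat.of A A)) := fun i =>
    hiso (((CochainComplex.singleFunctors (ModuleCat.{u} A)).shiftIso (-i) i 0 (by omega)).app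
      (ModuleCat.of A A)) (hshift _ (-i) hunit)
  have hSgbiprod : ∀ (i : ℤ) (M N : ModuleCat.{u} A), Module.Projective A N →
      Pc ((sg i).obj M) → Pc ((sg i).obj N) → Pc ((sg i).obj (M ⊞ N)) := fun i M N hN hM hN' => by
    haveI := preservesBinaryBiproducts_of_preservesBiproducts (sg (A := A) i)
    exact hiso ((sg i).mapBiprod M N).symm
      (hbiprod _ _ (fun j => projective_sg_X i j N hN) hM hN')
  have hfree : ∀ (i : ℤ) (n : ℕ), Pc ((sg i).obj (ModuleCat.of A (Fin n → A))) := by
    intro i n
    induction n with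
    | zero =>
      apply hzero
      apply Functor.map_isZero
      exact ModuleCat.isZero_of_subsingleton _
    | succ n ih =>
      have e : ModuleCat.of A (Fin (n + 1) → A) ≅ ModuleCat.of A A ⊞ ModuleCat.of A (Fin n → A) :=
        (Fin.consLinearEquiv A (fun _ : Fin (n + 1) => A)).symm.toModuleIso ≪≫
          (ModuleCat.biprodIsoProd (ModuleCat.of A A) (ModuleCat.of A (Fin n → A))).symm
      exact hiso ((sg i).mapIso e.symm)
        (hSgbiprod i _ _ (inferInstanceAs (Module.Projective A (Fin n → A))) (hRi i) ih)
  have hproj : ∀ (i : ℤ) (M : ModuleCat.{u} A), Module.Finite A M → Module.Projective A M →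
      Pc ((sg i).obj M) := by
    intro i M _ _
    obtain ⟨n, f, g, hf, -, hfg⟩ := Module.Finite.exists_comp_eq_id_of_projective A M
    have hfg' : ∀ m, f (g m) = m := fun m => by simpa using LinearMap.congr_fun hfg m
    have e' : ModuleCat.of A (Fin n → A) ≅ M ⊞ ModuleCat.of A (LinearMap.ker f) :=
      (retractEquiv f g hfg').toModuleIso ≪≫
        (ModuleCat.biprodIsoProd M (ModuleCat.of A (LinearMap.ker f))).symm
    have h1 : Pc ((sg i).obj (M ⊞ ModuleCat.of A (LinearMap.ker f))) :=
      hiso ((sg i).mapIso e') (hfree i n)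
    haveI := preservesBinaryBiproducts_of_preservesBiproducts (sg (A := A) i)
    have h2 := hiso ((sg i).mapBiprod M (ModuleCat.of A (LinearMap.ker f))) h1
    exact hsum _ _ h2
  exact bounded_induction Pc hiso hzero hses E a b hE (fun i => (hp i).2)
    (fun i _ _ => hproj i (E.X i) (hp i).1 (hp i).2)

end SPInd

end Groth.Agent.Lib.Helper18.DR
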