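import Mathlib
import Groth.Agent.Lib.Helper2.Tot.Bounded
import Groth.Agent.Lib.Helper2.Tot.Colim
import Groth.Agent.Lib.Helper2.Tot.DRing
import Groth.Agent.Lib.Helper18.FPApprox
import Groth.Agent.Lib.Helper18.SPInd
import Groth.Agent.Lib.Helper18.TotSingle

/-!
# K-flatness from acyclicity of `K ⊗ M` for finitely presented `M` (helper18)
-/

set_option autoImplicit false
set_option linter.style.haveILetI false
universe u
open CategoryTheory CategoryTheory.Limits HomologicalComplex MonoidalCategory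

namespace Groth.Agent.Lib.Helper18.DR

namespace KFlatFP

open Groth.Agent.Lib.Helper2.Tot Groth.Agent.Lib.Helper2.Tot.DR SPInd

variable {R : Type u} [CommRing R]

/-! ### degreewise split induction -/

lemma sigma_splitting (K : DRing.Cx R) (n i : ℤ) :
    Nonempty ((subQuotSC K (sigmaSub K n) (sigmaSub_stable K n)).map
      (HomologicalComplex.eval _ _ i)).Splitting := by
  have hS := (subQuotSC_shortExact K (sigmaSub K n) (sigmaSub_stable K n)).map_of_exact
    (HomologicalComplex.eval (ModuleCat.{u} R) (ComplexShape.up ℤ) i)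
  by_cases h : n ≤ i
  · exact ⟨ShortComplex.Splitting.ofIsIsoOfIsZero _ (hS.isIso_f_iff.2 (isZero_sigmaLT_X K n h))
      (isZero_sigmaLT_X K n h)⟩
  · exact ⟨ShortComplex.Splitting.ofIsZeroOfIsIso _ (isZero_sigmaGE_X K n (by omega))
      (hS.isIso_g_iff.2 (isZero_sigmaGE_X K n (by omega)))⟩

section BI

variable (Pc : DRing.Cx R → Prop) (hiso : ∀ {X Y : DRing.Cx R}, (X ≅ Y) → Pc X → Pc Y)
  (hzero : ∀ X : DRing.Cx R, IsZero X → Pc X)
  (hses : ∀ S : ShortComplex (DRing.Cx R), S.ShortExact →
    (∀ i, Nonempty (S.map (HomologicalComplex.eval _ _ i)).Splitting) →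
      Pc S.X₁ → Pc S.X₃ → Pc S.X₂)

include hiso hzero hses

/-- induction on the length of a bounded complex (degreewise split extensions) -/
theorem bounded_induction' (K : DRing.Cx R) (a b : ℤ) (hK : DRing.VanishesOutside K a b)
    (h : ∀ i : ℤ, a ≤ i → i ≤ b → Pc ((sg i).obj (K.X i))) : Pc K := by
  obtain ⟨N, hN⟩ : ∃ N : ℕ, b - a + 1 ≤ N := ⟨(b - a + 1).toNat, by omega⟩
  induction N generalizing K a with
  | zero =>
    exact hzero _ (isZero_of_forall_isZero K (fun i => hK i (by omega)))
  | succ N ih =>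
    refine hses (subQuotSC K (sigmaSub K (a + 1)) (sigmaSub_stable K (a + 1)))
      (subQuotSC_shortExact _ _ _) (fun i => sigma_splitting K (a + 1) i) ?_ ?_
    · change Pc (sigmaGE K (a + 1))
      refine ih (sigmaGE K (a + 1)) (a + 1)
        (vanishesOutside_sigmaGE K (a + 1) (VanishesOutside.above hK)) (fun i hi hib => ?_)
        (by push_cast at hN; omega)
      exact hiso ((sg i).mapIso (sigmaGEXIso K (a + 1) hi).symm) (h i (by omega) hib)
    · change Pc (sigmaLT K (a + 1))
      haveI : (sigmaLT K (a + 1)).IsStrictlyLE a := by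
        have : (sigmaLT K (a + 1)).IsStrictlyLE (a + 1 - 1) := inferInstance
        simpa using this
      haveI : (sigmaLT K (a + 1)).IsStrictlyGE a := by
        rw [CochainComplex.isStrictlyGE_iff]
        intro i hi
        exact vanishesOutside_sigmaLT' K (a + 1) hK i (Or.inl hi)
      by_cases hab : a ≤ b
      · refine hiso (isoSingleOfStrictly (sigmaLT K (a + 1)) a).symm ?_
        exact hiso ((sg a).mapIso (sigmaLTXIso K (a + 1) (by omega))) (h a le_rfl hab)
      · exact hzero _ (isZero_of_forall_isZero _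
          (fun i => vanishesOutside_sigmaLT' K (a + 1) hK i (by omega)))

end BI

/-! ### `M ⊗ K` is acyclic for every module `M` -/

section Mod

open TensorProduct

lemma comm_lTensor {X Y : Type u} [AddCommGroup X] [Module R X] [AddCommGroup Y] [Module R Y]
    (d : X →ₗ[R] Y) (M : Type u) [AddCommGroup M] [Module R M] (t : M ⊗[R] X) :
    TensorProduct.comm R M Y ((d.lTensor M) t) = (d.rTensor M) (TensorProduct.comm R M X t) := by
  induction t using TensorProduct.induction_on with
  | zero => simp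
  | tmul m x => simp
  | add a b ha hb => simp only [map_add, ha, hb]

variable (K : DRing.Cx R)

/-- the termwise tensor product `M ⊗ K^•` -/
noncomputable abbrev lT (M : ModuleCat.{u} R) : DRing.Cx R :=
  ((tensorLeft M).mapHomologicalComplex (ComplexShape.up ℤ)).obj K

lemma lT_d_hom (M : ModuleCat.{u} R) (i j : ℤ) :
    ((lT K M).d i j).hom = (K.d i j).hom.lTensor M := rfl

lemma tensorCx_d_hom (M : ModuleCat.{u} R) (i j : ℤ) :
    ((DRing.tensorCx K M).d i j).hom = (K.d i j).hom.rTensor M := rfl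

theorem acyclic_lT_of_fp
    (hK : ∀ (M : Type u) [AddCommGroup M] [Module R M], Module.FinitePresentation R M →
      (∀ i : ℤ, IsZero ((DRing.tensorCx K (ModuleCat.of R M)).homology i)))
    (M : ModuleCat.{u} R) : (lT K M).Acyclic := by
  intro j
  have hfp : ∀ (M' : Type u) [AddCommGroup M'] [Module R M'], Module.FinitePresentation R M' →
      FPApprox.KerLeIm (K.d (j - 1) j).hom (K.d j (j + 1)).hom M' := by
    intro M' _ _ hM' y hy
    have h1 : Function.Exact ((K.d (j - 1) j).hom.rTensor M')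
        ((K.d j (j + 1)).hom.rTensor M') := by
      have h0 := hK M' hM' j
      rw [← HomologicalComplex.exactAt_iff_isZero_homology,
        exactAt_iff_function_exact _ (j - 1) j (j + 1) (by omega) rfl] at h0
      exact h0
    have h2 : ((K.d j (j + 1)).hom.rTensor M') (TensorProduct.comm R M' _ y) = 0 := by
      rw [← comm_lTensor, hy, map_zero]
    obtain ⟨x', hx'⟩ := (h1 _).mp h2
    refine ⟨(TensorProduct.comm R M' _).symm x', ?_⟩
    apply (TensorProduct.comm R M' _).injective
    rw [comm_lTensor, LinearEquiv.apply_symm_apply, hx']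
  have hall := FPApprox.kerLeIm_of_finitePresentation hfp M
  have key : Function.Exact ((K.d (j - 1) j).hom.lTensor M)
      ((K.d j (j + 1)).hom.lTensor M) := by
    intro y
    constructor
    · intro hy
      exact hall y hy
    · rintro ⟨x, rfl⟩
      rw [← LinearMap.comp_apply, ← LinearMap.lTensor_comp]
      have h0 : (K.d j (j + 1)).hom ∘ₗ (K.d (j - 1) j).hom = 0 := by
        rw [← ModuleCat.hom_comp, K.d_comp_d]
        rfl
      rw [h0, LinearMap.lTensor_zero, LinearMap.zero_apply]
  rw [exactAt_iff_function_exact _ (j - 1) j (j + 1) (by omega) rfl]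
  exact key

end Mod

/-! ### bounded complexes -/

section Tot

variable (K : DRing.Cx R)

/-- `X ⊗ K` is acyclic -/
def PK (X : DRing.Cx R) : Prop := (mapBifunctor X K (T R) (ComplexShape.up ℤ)).Acyclic

/-- the functor `X ↦ X ⊗ K` -/
noncomputable abbrev GK : DRing.Cx R ⥤ DRing.Cx R := ((T R).map₂CochainComplex).flip.obj K

variable {K}

lemma PK_iso {X Y : DRing.Cx R} (e : X ≅ Y) (h : PK K X) : PK K Y :=
  acyclic_of_iso ((GK K).mapIso e) h

lemma PK_zero (X : DRing.Cx R) (hX : IsZero X) : PK K X := by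
  have h0 : IsZero ((GK K).obj X) := (GK K).map_isZero hX
  intro n
  exact ShortComplex.exact_of_isZero_X₂ _
    ((HomologicalComplex.eval _ _ n).map_isZero h0)

lemma PK_ses (S : ShortComplex (DRing.Cx R)) (hS : S.ShortExact)
    (hsp : ∀ i, Nonempty (S.map (HomologicalComplex.eval _ _ i)).Splitting)
    (h₁ : PK K S.X₁) (h₃ : PK K S.X₃) : PK K S.X₂ := by
  have hses := shortExact_map₁ (T R) K S (fun p q => by
    obtain ⟨σ⟩ := hsp p
    exact (σ.map ((T R).flip.obj (K.X q))).shortExact)
  exact hses.acyclic_X₂ h₁ h₃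

lemma PK_shift (X : DRing.Cx R) (n : ℤ) (h : PK K X) : PK K (X⟦n⟧) :=
  acyclic_of_iso (CochainComplex.mapBifunctorShift₁Iso X K (T R) n).symm (acyclic_shift h n)

lemma PK_single (hM : ∀ M : ModuleCat.{u} R, (lT K M).Acyclic) (i : ℤ) (M : ModuleCat.{u} R) :
    PK K ((sg i).obj M) := by
  have h0 : PK K ((sg 0).obj M) := acyclic_of_iso (TotSingle.iso (T R) M K) (hM M)
  have e : ((sg 0).obj M)⟦-i⟧ ≅ (sg i).obj M :=
    ((CochainComplex.singleFunctors (ModuleCat.{u} R)).shiftIso (-i) i 0 (by omega)).app M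
  exact PK_iso e (PK_shift _ _ h0)

theorem PK_of_bounded (hM : ∀ M : ModuleCat.{u} R, (lT K M).Acyclic) (L : DRing.Cx R) (a b : ℤ)
    (hL : DRing.VanishesOutside L a b) : PK K L :=
  bounded_induction' (PK K) (fun e h => PK_iso e h) PK_zero PK_ses L a b hL
    (fun i _ _ => PK_single hM i _)

end Tot

/-! ### the exhaustive system of stupid truncations -/

section SigmaSystem

variable (K : DRing.Cx R)

/-- inclusion between subcomplexes -/
noncomputable def subCxMap (S S' : ∀ i, Submodule R (K.X i))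
    (hS : ∀ i j (x : K.X i), x ∈ S i → (K.d i j).hom x ∈ S j)
    (hS' : ∀ i j (x : K.X i), x ∈ S' i → (K.d i j).hom x ∈ S' j) (h : ∀ i, S i ≤ S' i) :
    subCx K S hS ⟶ subCx K S' hS' where
  f i := ModuleCat.ofHom (Submodule.inclusion (h i))
  comm' i j _ := ModuleCat.hom_ext (LinearMap.ext fun x => rfl)

lemma subCxMap_ι (S S' : ∀ i, Submodule R (K.X i))
    (hS : ∀ i j (x : K.X i), x ∈ S i → (K.d i j).hom x ∈ S j)
    (hS' : ∀ i j (x : K.X i), x ∈ S' i → (K.d i j).hom x ∈ S' j) (h : ∀ i, S i ≤ S' i) :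
    subCxMap K S S' hS hS' h ≫ subCxι K S' hS' = subCxι K S hS := rfl

lemma sigmaSub_mono {n n' : ℤ} (h : n' ≤ n) (i : ℤ) : sigmaSub K n i ≤ sigmaSub K n' i := by
  by_cases hi : n ≤ i
  · rw [sigmaSub_of_le K n' (show n' ≤ i by omega)]
    exact le_top
  · rw [sigmaSub_of_lt K n (by omega)]
    exact bot_le

variable (a : ℤ)

/-- the system `σ_{≥ a - n} K` -/
noncomputable def sigmaSystem : ℕ ⥤ DRing.Cx R :=
  Functor.ofSequence (X := fun n : ℕ => sigmaGE K (a - n)) (fun n =>
    subCxMap K _ _ (sigmaSub_stable K (a - n)) (sigmaSub_stable K (a - (n + 1 : ℕ)))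
      (sigmaSub_mono K (by push_cast; omega)))

/-- the cocone of the stupid truncations with point `K` -/
noncomputable def sigmaCocone : Cocone (sigmaSystem K a) where
  pt := K
  ι := NatTrans.ofSequence (fun n => sigmaGEι K (a - n)) (fun n => by
    dsimp only [sigmaSystem, Functor.const_obj_obj, Functor.const_obj_map]
    rw [Functor.ofSequence_map_homOfLE_succ]
    exact (subCxMap_ι K _ _ _ _ _).trans (Category.comp_id _).symm)

lemma isIso_sigmaGEι_f (n i : ℤ) (h : n ≤ i) : IsIso ((sigmaGEι K n).f i) := by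
  have : (sigmaGEι K n).f i = (sigmaGEXIso K n h).hom := rfl
  rw [this]
  infer_instance

/-- the stupid truncations exhaust `K` -/
noncomputable def isColimitSigmaCocone : IsColimit (sigmaCocone K a) :=
  isColimitOfEval _ _ (fun i =>
    Groth.Agent.Lib.Helper2.PRes.isColimitOfEventuallyIso _ _ (a - i).toNat (fun n hn =>
      isIso_sigmaGEι_f K (a - n) i (by
        have := Int.self_le_toNat (a - i)
        have : ((a - i).toNat : ℤ) ≤ (n : ℤ) := by exact_mod_cast hn
        omega)))

end SigmaSystem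

/-! ### conclusion -/

section Final

variable {K : DRing.Cx R}

theorem PK_of_isStrictlyLE (hM : ∀ M : ModuleCat.{u} R, (lT K M).Acyclic) (L : DRing.Cx R)
    (a : ℤ) [L.IsStrictlyLE a] : PK K L := by
  haveI : ∀ Y : ModuleCat.{u} R, PreservesColimitsOfShape ℕ ((T R).flip.obj Y) := fun Y =>
    inferInstanceAs (PreservesColimitsOfShape ℕ (MonoidalCategory.tensorRight Y))
  haveI : HasExactColimitsOfShape ℕ (ModuleCat.{u} R) :=
    Groth.Agent.Lib.Helper2.FreeSum.hasExactColimitsOfShape_nat
  haveI := preservesColimitsOfShape_map₁ (J := ℕ) (T R) K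
  have hc := isColimitOfPreserves (GK K) (isColimitSigmaCocone L a)
  refine acyclic_of_isColimit hc (fun n => ?_)
  have hobj : (sigmaSystem L a).obj n = sigmaGE L (a - n) := rfl
  change PK K ((sigmaSystem L a).obj n)
  rw [hobj]
  exact PK_of_bounded hM _ (a - n) a
    (vanishesOutside_sigmaGE L (a - n) (fun i hi => L.isZero_of_isStrictlyLE a i hi))

theorem PK_all (hM : ∀ M : ModuleCat.{u} R, (lT K M).Acyclic) (L : DRing.Cx R) : PK K L := by
  haveI : ∀ Y : ModuleCat.{u} R, PreservesColimitsOfShape ℕ ((T R).flip.obj Y) := fun Y =>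
    inferInstanceAs (PreservesColimitsOfShape ℕ (MonoidalCategory.tensorRight Y))
  haveI : HasExactColimitsOfShape ℕ (ModuleCat.{u} R) :=
    Groth.Agent.Lib.Helper2.FreeSum.hasExactColimitsOfShape_nat
  haveI := preservesColimitsOfShape_map₁ (J := ℕ) (T R) K
  let m : ℕ → ℤ := fun n => (n : ℤ)
  have hm : ∀ n, m n ≤ m (n + 1) := fun n => by simp [m]
  have hm' : ∀ i : ℤ, ∃ N : ℕ, ∀ n, N ≤ n → i < m n := fun i =>
    ⟨(i + 1).toNat, fun n hn => by
      have := Int.self_le_toNat (i + 1)
      have : ((i + 1).toNat : ℤ) ≤ (n : ℤ) := by exact_mod_cast hn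
      simp only [m]
      omega⟩
  have hc := isColimitOfPreserves (GK K)
    (Groth.Agent.Lib.Helper2.PRes.isColimitTruncCocone L m hm hm')
  refine acyclic_of_isColimit hc (fun n => ?_)
  have hobj : (Groth.Agent.Lib.Helper2.PRes.truncSystem L m hm).obj n = L.truncLE (m n) := rfl
  change PK K ((Groth.Agent.Lib.Helper2.PRes.truncSystem L m hm).obj n)
  rw [hobj]
  exact PK_of_isStrictlyLE hM (L.truncLE (m n)) (m n)

/-- S6904 -/
theorem kflat_of_fp (K : DRing.Cx R)
    (hK : ∀ (M : Type u) [AddCommGroup M] [Module R M], Module.FinitePresentation R M →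
      (∀ i : ℤ, IsZero ((DRing.tensorCx K (ModuleCat.of R M)).homology i))) :
    (∀ L : DRing.Cx R, (∀ i : ℤ, IsZero (L.homology i)) →
      ∀ i : ℤ, IsZero ((L ⊗ K).homology i)) := by
  rw [kflat_iff]
  intro L _
  exact PK_all (acyclic_lT_of_fp K hK) L

end Final

end KFlatFP

end Groth.Agent.Lib.Helper18.DR
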