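import Mathlib
import Groth.Agent.Lib.Helper18.KProjB
import Groth.Agent.Lib.Helper18.DCoprodU

/-!
# The telescope short exact sequence of a sequential colimit of complexes (helper18)
-/

set_option autoImplicit false
set_option linter.style.haveILetI false
universe u
open CategoryTheory CategoryTheory.Limits CategoryTheory.Pretriangulated DerivedCategory

attribute [local instance] HasDerivedCategory.standard

namespace Groth.Agent.Lib.Helper18.DR

namespace TelColim

section Alg

open DirectSum

variable {A : Type u} [CommRing A] {M : ℕ → Type u} [∀ n, AddCommGroup (M n)]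
  [∀ n, Module A (M n)] (j : ∀ n, M n →ₗ[A] M (n + 1))
  (J : ∀ n m, n ≤ m → (M n →ₗ[A] M m))
  (hJself : ∀ n x, J n n le_rfl x = x)
  (hJsucc : ∀ n m (h : n ≤ m) x, J n (m + 1) (Nat.le_succ_of_le h) x = j m (J n m h x))

include hJself hJsucc in
lemma lof_sub_lof (n m : ℕ) (h : n ≤ m) (x : M n) :
    ∃ r : ⨁ n, M n, DirectSum.lof A ℕ M n x - DirectSum.lof A ℕ M m (J n m h x) =
      r - telσ j r := by
  induction m, h using Nat.le_induction with
  | base => exact ⟨0, by rw [hJself, sub_self, map_zero, sub_zero]⟩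
  | succ m h ih =>
    obtain ⟨r, hr⟩ := ih
    refine ⟨r + DirectSum.lof A ℕ M m (J n m h x), ?_⟩
    rw [map_add, telσ_lof, hJsucc n m h x, add_sub_add_comm, ← hr]
    abel

variable {T : Type u} [AddCommGroup T] [Module A T] (π : ∀ n, M n →ₗ[A] T)
  (hπJ : ∀ n m (h : n ≤ m) x, π m (J n m h x) = π n x)

include hJself hJsucc hπJ in
lemma exists_stage (s : ⨁ n, M n) :
    ∃ N : ℕ, ∀ m, N ≤ m → ∃ (r : ⨁ n, M n) (y : M m),
      s = (r - telσ j r) + DirectSum.lof A ℕ M m y ∧ DirectSum.toModule A ℕ T π s = π m y := by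
  induction s using DirectSum.induction_on with
  | zero =>
    exact ⟨0, fun m _ => ⟨0, 0, by rw [map_zero, map_zero, sub_zero, add_zero],
      by rw [map_zero, map_zero]⟩⟩
  | of n x =>
    refine ⟨n, fun m hm => ?_⟩
    obtain ⟨r, hr⟩ := lof_sub_lof j J hJself hJsucc n m hm x
    refine ⟨r, J n m hm x, ?_, ?_⟩
    · rw [← hr, ← DirectSum.lof_eq_of A]
      abel
    · rw [← DirectSum.lof_eq_of A, DirectSum.toModule_lof, hπJ]
  | add s s' hs hs' =>
    obtain ⟨N, hN⟩ := hs
    obtain ⟨N', hN'⟩ := hs'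
    refine ⟨max N N', fun m hm => ?_⟩
    obtain ⟨r, y, h1, h2⟩ := hN m (le_trans (le_max_left _ _) hm)
    obtain ⟨r', y', h1', h2'⟩ := hN' m (le_trans (le_max_right _ _) hm)
    refine ⟨r + r', y + y', ?_, ?_⟩
    · conv_lhs => rw [h1, h1']
      rw [map_add, map_add]
      abel
    · rw [map_add, h2, h2', map_add]

include hJself hJsucc hπJ in
/-- exactness of the telescope sequence in the middle -/
lemma tel_exact (hker : ∀ n (x : M n), π n x = 0 → ∃ (m : ℕ) (h : n ≤ m), J n m h x = 0)
    (s : ⨁ n, M n) (hs : DirectSum.toModule A ℕ T π s = 0) :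
    ∃ r : ⨁ n, M n, s = r - telσ j r := by
  obtain ⟨N, hN⟩ := exists_stage j J hJself hJsucc π hπJ s
  obtain ⟨r, y, h1, h2⟩ := hN N le_rfl
  rw [hs] at h2
  obtain ⟨m, hm, hy⟩ := hker N y h2.symm
  obtain ⟨r', hr'⟩ := lof_sub_lof j J hJself hJsucc N m hm y
  rw [hy, map_zero, sub_zero] at hr'
  refine ⟨r + r', ?_⟩
  rw [h1, hr', map_add]
  abel

include hπJ hJself hJsucc in
lemma tel_comp_zero (r : ⨁ n, M n) : DirectSum.toModule A ℕ T π (r - telσ j r) = 0 := by
  induction r using DirectSum.induction_on with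
  | zero => rw [map_zero, sub_zero, map_zero]
  | of n x =>
    rw [← DirectSum.lof_eq_of A, telσ_lof, map_sub, DirectSum.toModule_lof, DirectSum.toModule_lof]
    have := hπJ n (n + 1) (Nat.le_succ n) x
    rw [hJsucc n n le_rfl x, hJself] at this
    rw [this, sub_self]
  | add s s' hs hs' =>
    rw [map_add, add_sub_add_comm, map_add, hs, hs', add_zero]

lemma tel_injective (s : ⨁ n, M n) (hs : s - telσ j s = 0) : s = 0 := by
  have h1 := tel_inj j (fun _ => ⊥) (fun n x hx => by
    rw [Submodule.mem_bot] at hx ⊢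
    rw [hx, map_zero]) s (fun n => by
    rw [hs, Submodule.mem_bot]
    rfl)
  refine DFinsupp.ext fun n => ?_
  have := h1 n
  rwa [Submodule.mem_bot] at this

lemma toModule_surjective (hsurj : ∀ t : T, ∃ (n : ℕ) (x : M n), π n x = t) :
    Function.Surjective (DirectSum.toModule A ℕ T π) := by
  intro t
  obtain ⟨n, x, rfl⟩ := hsurj t
  exact ⟨DirectSum.lof A ℕ M n x, DirectSum.toModule_lof _ _ _⟩

end Alg

section Cx

variable {R : Type u} [CommRing R] (L : ℕ ⥤ DRing.Cx R) (c : Cocone L) (hc : IsColimit c)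

instance preservesColimitsOfShape_nat_forget :
    PreservesColimitsOfShape ℕ (forget (ModuleCat.{u} R)) :=
  haveI := preservesSmallestFilteredColimits_of_preservesFilteredColimits
    (forget (ModuleCat.{u} R))
  PreservesFilteredColimitsOfSize.preserves_filtered_colimits ℕ

/-- the transition maps -/
noncomputable abbrev jj (n : ℕ) : L.obj n ⟶ L.obj (n + 1) := L.map (homOfLE (Nat.le_succ n))

/-- the cocone maps -/
noncomputable abbrev ιn (n : ℕ) : L.obj n ⟶ c.pt := c.ι.app n

/-- the map from the direct sum to the colimit -/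
noncomputable abbrev sumToColim : SumCx L.obj ⟶ c.pt := sumDesc (fun n => ιn L c n)

lemma tel_comp : telφ L.obj (jj L) ≫ sumToColim L c = 0 := by
  refine sum_hom_ext (fun n => ?_)
  rw [telφ, sumι_desc_assoc, Preadditive.sub_comp, sumι_desc, Category.assoc, sumι_desc, comp_zero,
    sub_eq_zero]
  exact (c.w (homOfLE (Nat.le_succ n))).symm

/-- the telescope short complex -/
noncomputable def telSC : ShortComplex (DRing.Cx R) :=
  ShortComplex.mk (telφ L.obj (jj L)) (sumToColim L c) (tel_comp L c)

include hc in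
lemma exists_rep (i : ℤ) (t : c.pt.X i) :
    ∃ (n : ℕ) (x : (L.obj n).X i), ((ιn L c n).f i).hom x = t := by
  have h1 := isColimitOfPreserves (HomologicalComplex.eval (ModuleCat.{u} R) (ComplexShape.up ℤ) i) hc
  obtain ⟨n, x, hx⟩ := Concrete.isColimit_exists_rep _ h1 t
  exact ⟨n, x, hx⟩

include hc in
lemma exists_of_rep_eq_zero (i : ℤ) (n : ℕ) (x : (L.obj n).X i)
    (hx : ((ιn L c n).f i).hom x = 0) :
    ∃ (m : ℕ) (h : n ≤ m), ((L.map (homOfLE h)).f i).hom x = 0 := by
  have h1 := isColimitOfPreserves (HomologicalComplex.eval (ModuleCat.{u} R) (ComplexShape.up ℤ) i) hc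
  obtain ⟨k, f, g, hfg⟩ := Concrete.isColimit_exists_of_rep_eq _ h1 (i := n) (j := n) x 0
    (by
      change ((ιn L c n).f i).hom x = ((ιn L c n).f i).hom 0
      rw [hx, map_zero])
  refine ⟨k, leOfHom f, ?_⟩
  have h2 : ((L.map g).f i).hom (0 : (L.obj n).X i) = 0 := map_zero _
  have h3 : homOfLE (leOfHom f) = f := Subsingleton.elim _ _
  rw [h3]
  exact hfg.trans h2

include hc in
lemma telSC_shortExact : (telSC L c).ShortExact := by
  apply HomologicalComplex.shortExact_of_degreewise_shortExact
  intro i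
  have hJself : ∀ n (x : (L.obj n).X i), ((L.map (homOfLE (le_refl n))).f i).hom x = x := by
    intro n x
    have h1 : homOfLE (le_refl n) = 𝟙 n := Subsingleton.elim _ _
    rw [h1, L.map_id]
    rfl
  have hJsucc : ∀ n m (h : n ≤ m) (x : (L.obj n).X i),
      ((L.map (homOfLE (Nat.le_succ_of_le h))).f i).hom x =
        ((jj L m).f i).hom (((L.map (homOfLE h)).f i).hom x) := by
    intro n m h x
    have h1 : homOfLE (Nat.le_succ_of_le h) = homOfLE h ≫ homOfLE (Nat.le_succ m) :=
      Subsingleton.elim _ _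
    rw [h1, L.map_comp]
    rfl
  have hπJ : ∀ n m (h : n ≤ m) (x : (L.obj n).X i),
      ((ιn L c m).f i).hom (((L.map (homOfLE h)).f i).hom x) = ((ιn L c n).f i).hom x := by
    intro n m h x
    have h1 := c.w (homOfLE h)
    exact congrArg (fun (t : L.obj n ⟶ c.pt) => (t.f i).hom x) h1
  have hg : ∀ y : (SumCx L.obj).X i, ((sumToColim L c).f i).hom y =
      DirectSum.toModule R ℕ (c.pt.X i) (fun n => ((ιn L c n).f i).hom) y := fun y => rfl
  have hex : ∀ y : (SumCx L.obj).X i, ((sumToColim L c).f i).hom y = 0 →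
      ∃ r : (SumCx L.obj).X i, ((telφ L.obj (jj L)).f i).hom r = y := by
    intro y hy
    rw [hg] at hy
    obtain ⟨r, hr⟩ := tel_exact (M := fun n => ((L.obj n).X i : Type u)) (T := c.pt.X i)
      (fun n => ((jj L n).f i).hom)
      (fun n m h => ((L.map (homOfLE h)).f i).hom) hJself hJsucc
      (fun n => ((ιn L c n).f i).hom) hπJ
      (fun n x hx => exists_of_rep_eq_zero L c hc i n x hx) y hy
    exact ⟨r, (telφ_f_apply L.obj (jj L) i r).trans hr.symm⟩
  have hinj : Function.Injective ((telφ L.obj (jj L)).f i).hom := by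
    intro y y' hyy'
    have h1 : ((telφ L.obj (jj L)).f i).hom (y - y') = 0 := by
      rw [map_sub]
      exact sub_eq_zero.mpr hyy'
    rw [telφ_f_apply] at h1
    exact sub_eq_zero.mp (tel_injective (M := fun n => ((L.obj n).X i : Type u))
      (fun n => ((jj L n).f i).hom) (y - y') h1)
  have hsurj : Function.Surjective ((sumToColim L c).f i).hom := by
    intro t
    obtain ⟨y, hy⟩ := toModule_surjective (M := fun n => ((L.obj n).X i : Type u))
      (T := c.pt.X i) (fun n => ((ιn L c n).f i).hom) (exists_rep L c hc i) t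
    exact ⟨y, (hg y).trans hy⟩
  exact
    { exact := (ShortComplex.ShortExact.moduleCat_exact_iff_function_exact _).mpr (by
        intro (y : (SumCx L.obj).X i)
        constructor
        · intro hy
          exact hex y hy
        · rintro ⟨r, rfl⟩
          exact congrArg (fun (t : SumCx L.obj ⟶ c.pt) => (t.f i).hom r) (tel_comp L c))
      mono_f := (ModuleCat.mono_iff_injective _).mpr hinj
      epi_g := (ModuleCat.epi_iff_surjective _).mpr hsurj }

/-- the telescope triangle -/
noncomputable def telTriangle : Triangle (Dual.D R) :=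
  DerivedCategory.triangleOfSES (telSC_shortExact L c hc)

lemma telTriangle_distinguished : telTriangle L c hc ∈ distTriang (Dual.D R) :=
  DerivedCategory.triangleOfSES_distinguished _

end Cx

end TelColim

end Groth.Agent.Lib.Helper18.DR
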