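import Mathlib
import Groth.Prelude.Def_CohDer
import Groth.Agent.Lib.Helper18.TelColim

/-!
# Maps from a countably compact object to a sequential colimit (helper18)
-/

set_option autoImplicit false
set_option linter.style.haveILetI false
universe u
open CategoryTheory CategoryTheory.Limits CategoryTheory.Pretriangulated DerivedCategory

attribute [local instance] HasDerivedCategory.standard

namespace Groth.Agent.Lib.Helper18.DR

namespace TelColim

section Abstract

variable {C : Type (u + 1)} [Category.{u + 1} C] [Preadditive C]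

lemma homSumToHomCoprod_of {ι : Type (u + 1)} [inst : DecidableEq ι] (K : C) (X : ι → C)
    [HasCoproduct X] (i : ι) (x : K ⟶ X i) :
    CohDer.homSumToHomCoprod K X (DirectSum.of (fun i => K ⟶ X i) i x) = x ≫ Sigma.ι X i := by
  have : inst = fun a b => Classical.propDecidable (a = b) := Subsingleton.elim _ _
  subst this
  letI : DecidableEq ι := fun a b => Classical.propDecidable (a = b)
  unfold CohDer.homSumToHomCoprod
  exact DirectSum.toAddMonoid_of _ _ _

variable (K : C) (E : ℕ → C) (cf : Cofan (fun i : ULift.{u + 1} ℕ => E i.down))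

/-- the canonical map `⊕ Hom(K, E n) → Hom(K, ⊕ E n)` for an ℕ-indexed family -/
noncomputable def sumHom : (DirectSum ℕ (fun n => K ⟶ E n)) →+ (K ⟶ cf.pt) :=
  DirectSum.toAddMonoid (fun n => Preadditive.rightComp K (cf.inj ⟨n⟩))

lemma sumHom_of (n : ℕ) (x : K ⟶ E n) :
    sumHom K E cf (DirectSum.of (fun n => K ⟶ E n) n x) = x ≫ cf.inj ⟨n⟩ :=
  DirectSum.toAddMonoid_of _ _ _

variable {K E cf}

lemma sumHom_surjective (hcf : IsColimit cf)
    (hK : ∀ [HasCoproduct fun i : ULift.{u + 1} ℕ => E i.down],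
      Function.Surjective (CohDer.homSumToHomCoprod K (fun i : ULift.{u + 1} ℕ => E i.down))) :
    Function.Surjective (sumHom K E cf) := by
  classical
  haveI : HasCoproduct fun i : ULift.{u + 1} ℕ => E i.down := ⟨⟨⟨cf, hcf⟩⟩⟩
  let φ : (∐ fun i : ULift.{u + 1} ℕ => E i.down) ≅ cf.pt :=
    (coproductIsCoproduct _).coconePointUniqueUpToIso hcf
  have hφ : ∀ i : ULift.{u + 1} ℕ, Sigma.ι (fun i : ULift.{u + 1} ℕ => E i.down) i ≫ φ.hom =
      cf.inj i := fun i =>
    (coproductIsCoproduct _).comp_coconePointUniqueUpToIso_hom hcf ⟨i⟩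
  intro w
  obtain ⟨s, hs⟩ := hK (w ≫ φ.inv)
  have key : ∀ s : DirectSum (ULift.{u + 1} ℕ) (fun i => K ⟶ E i.down),
      ∃ t, sumHom K E cf t =
        CohDer.homSumToHomCoprod K (fun i : ULift.{u + 1} ℕ => E i.down) s ≫ φ.hom := by
    intro s
    induction s using DirectSum.induction_on with
    | zero => exact ⟨0, by rw [map_zero, map_zero, zero_comp]⟩
    | of i x =>
      refine ⟨DirectSum.of (fun n => K ⟶ E n) i.down x, ?_⟩
      rw [sumHom_of, homSumToHomCoprod_of, Category.assoc, hφ]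
    | add a b ha hb =>
      obtain ⟨ta, hta⟩ := ha
      obtain ⟨tb, htb⟩ := hb
      exact ⟨ta + tb, by rw [map_add, map_add, hta, htb, Preadditive.add_comp]⟩
  obtain ⟨t, ht⟩ := key s
  exact ⟨t, by rw [ht, hs, Category.assoc, Iso.inv_hom_id, Category.comp_id]⟩

/-- components of a map into the coproduct -/
lemma sumHom_comp_proj (q : ∀ m, cf.pt ⟶ E m) (hq_same : ∀ m, cf.inj ⟨m⟩ ≫ q m = 𝟙 _)
    (hq_ne : ∀ n m, n ≠ m → cf.inj ⟨n⟩ ≫ q m = 0) (t : DirectSum ℕ (fun n => K ⟶ E n)) (m : ℕ) :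
    sumHom K E cf t ≫ q m = t m := by
  induction t using DirectSum.induction_on with
  | zero => rw [map_zero, zero_comp]; rfl
  | of n x =>
    rw [sumHom_of, Category.assoc]
    by_cases hnm : n = m
    · subst hnm
      rw [hq_same, Category.comp_id, DirectSum.of_eq_same]
    · rw [hq_ne n m hnm, comp_zero, DirectSum.of_eq_of_ne _ _ _ (Ne.symm hnm)]
  | add a b ha hb =>
    rw [map_add, Preadditive.add_comp, ha, hb, DirectSum.add_apply]

lemma eq_zero_of_forall_proj (hsurj : Function.Surjective (sumHom K E cf))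
    (q : ∀ m, cf.pt ⟶ E m) (hq_same : ∀ m, cf.inj ⟨m⟩ ≫ q m = 𝟙 _)
    (hq_ne : ∀ n m, n ≠ m → cf.inj ⟨n⟩ ≫ q m = 0) (w : K ⟶ cf.pt)
    (hw : ∀ m, w ≫ q m = 0) : w = 0 := by
  obtain ⟨t, rfl⟩ := hsurj w
  have ht : t = 0 := by
    refine DFinsupp.ext fun m => ?_
    rw [← sumHom_comp_proj q hq_same hq_ne t m, hw m]
    rfl
  rw [ht, map_zero]

lemma exists_forall_proj_eq_zero (hsurj : Function.Surjective (sumHom K E cf))
    (q : ∀ m, cf.pt ⟶ E m) (hq_same : ∀ m, cf.inj ⟨m⟩ ≫ q m = 𝟙 _)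
    (hq_ne : ∀ n m, n ≠ m → cf.inj ⟨n⟩ ≫ q m = 0) (w : K ⟶ cf.pt) :
    ∃ M : ℕ, ∀ m, M < m → w ≫ q m = 0 := by
  classical
  obtain ⟨t, rfl⟩ := hsurj w
  obtain ⟨t₀, ht₀⟩ : ∃ t₀ : Π₀ n, (K ⟶ E n), t₀ = t := ⟨_, rfl⟩
  refine ⟨t₀.support.sup id, fun m hm => ?_⟩
  rw [sumHom_comp_proj q hq_same hq_ne t m]
  by_contra hne
  have hmem : m ∈ t₀.support := by
    rw [DFinsupp.mem_support_iff, ht₀]; exact hne
  have h2 : id m ≤ t₀.support.sup id := Finset.le_sup (f := id) hmem
  exact absurd h2 (by simpa using hm)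

end Abstract

section Stage

variable {R : Type u} [CommRing R] (L : ℕ ⥤ DRing.Cx R)

/-- push everything to stage `m` -/
noncomputable def pStage (m : ℕ) : SumCx L.obj ⟶ L.obj m :=
  sumDesc (fun i => if h : i ≤ m then L.map (homOfLE h) else 0)

lemma sumι_pStage_of_le (n m : ℕ) (h : n ≤ m) :
    sumι L.obj n ≫ pStage L m = L.map (homOfLE h) := by
  rw [pStage, sumι_desc, dif_pos h]

lemma sumι_pStage_of_not_le (n m : ℕ) (h : ¬ n ≤ m) :
    sumι L.obj n ≫ pStage L m = 0 := by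
  rw [pStage, sumι_desc, dif_neg h]

/-- the `m`-th projection, written as `(1 - shift) ≫ pStage` -/
noncomputable def qProj (m : ℕ) : SumCx L.obj ⟶ L.obj m := telφ L.obj (jj L) ≫ pStage L m

lemma sumι_telφ (n : ℕ) :
    sumι L.obj n ≫ telφ L.obj (jj L) = sumι L.obj n - jj L n ≫ sumι L.obj (n + 1) := by
  rw [telφ, sumι_desc]

lemma sumι_qProj_same (m : ℕ) : sumι L.obj m ≫ qProj L m = 𝟙 _ := by
  rw [qProj, ← Category.assoc, sumι_telφ, Preadditive.sub_comp, Category.assoc,
    sumι_pStage_of_le L m m le_rfl, sumι_pStage_of_not_le L (m + 1) m (by omega), comp_zero,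
    sub_zero]
  have h1 : homOfLE (le_refl m) = 𝟙 m := Subsingleton.elim _ _
  rw [h1, L.map_id]

lemma sumι_qProj_ne (n m : ℕ) (h : n ≠ m) : sumι L.obj n ≫ qProj L m = 0 := by
  rw [qProj, ← Category.assoc, sumι_telφ, Preadditive.sub_comp, Category.assoc]
  rcases lt_or_gt_of_ne h with hlt | hgt
  · rw [sumι_pStage_of_le L n m hlt.le, sumι_pStage_of_le L (n + 1) m hlt, sub_eq_zero,
      ← L.map_comp]
    congr 1
  · rw [sumι_pStage_of_not_le L n m (by omega), sumι_pStage_of_not_le L (n + 1) m (by omega),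
      comp_zero, sub_zero]

end Stage

section Main

variable {R : Type u} [CommRing R] (L : ℕ ⥤ DRing.Cx R) (c : Cocone L) (hc : IsColimit c)

instance hasExactColimitsOfShape_ulift_nat :
    HasExactColimitsOfShape (Discrete (ULift.{u + 1} ℕ)) (ModuleCat.{u} R) :=
  HasExactColimitsOfShape.of_domain_equivalence (ModuleCat.{u} R)
    (Discrete.equivalence (Equiv.ulift.{u + 1, 0}).symm : Discrete ℕ ≌ Discrete (ULift.{u + 1} ℕ))

/-- the explicit direct sum as a cofan indexed by `ULift ℕ` -/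
noncomputable def sumCofanU : Cofan (fun i : ULift.{u + 1} ℕ => L.obj i.down) :=
  Cofan.mk (SumCx L.obj) (fun i => sumι L.obj i.down)

noncomputable def isColimitSumCofanU : IsColimit (sumCofanU L) :=
  mkCofanColimit _ (fun s => sumDesc (fun n => s.inj ⟨n⟩))
    (fun s i => sumι_desc (fun n => s.inj ⟨n⟩) i.down)
    (fun s m hm => sum_hom_ext (fun n => by
      rw [sumι_desc]
      exact hm ⟨n⟩))

/-- the image in `D(R)` of the explicit direct sum, as a cofan -/
noncomputable def cofQ : Cofan (fun i : ULift.{u + 1} ℕ => (fun n => DerivedCategory.Q.obj (L.obj n)) i.down) :=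
  Cofan.mk (DerivedCategory.Q.obj (SumCx L.obj)) (fun i => DerivedCategory.Q.map (sumι L.obj i.down))

noncomputable def isColimitCofQ : IsColimit (cofQ L) := by
  let K' : ULift.{u + 1} ℕ → DRing.Cx R := fun i => L.obj i.down
  let e : (∐ K') ≅ SumCx L.obj :=
    (coproductIsCoproduct K').coconePointUniqueUpToIso (isColimitSumCofanU L)
  have he : ∀ i, Sigma.ι K' i ≫ e.hom = sumι L.obj i.down := fun i =>
    (coproductIsCoproduct K').comp_coconePointUniqueUpToIso_hom (isColimitSumCofanU L) ⟨i⟩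
  refine IsColimit.ofIsoColimit (DCoprodU.isColimitCofanQ K') (Cofan.ext (DerivedCategory.Q.mapIso e) ?_)
  intro i
  change DerivedCategory.Q.map (Sigma.ι K' i) ≫ DerivedCategory.Q.map e.hom =
    DerivedCategory.Q.map (sumι L.obj i.down)
  rw [← Functor.map_comp, he]

/-- the shifted cofan -/
noncomputable def cofQ' : Cofan (fun i : ULift.{u + 1} ℕ =>
    (fun n => (DerivedCategory.Q.obj (L.obj n))⟦(1 : ℤ)⟧) i.down) :=
  Cofan.mk ((DerivedCategory.Q.obj (SumCx L.obj))⟦(1 : ℤ)⟧)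
    (fun i => (DerivedCategory.Q.map (sumι L.obj i.down))⟦(1 : ℤ)⟧')

noncomputable def isColimitCofQ' : IsColimit (cofQ' L) :=
  isColimitMapCoconeCofanMkEquiv (shiftFunctor (Dual.D R) (1 : ℤ)) _ _
    (isColimitOfPreserves (shiftFunctor (Dual.D R) (1 : ℤ)) (isColimitCofQ L))

include hc in
lemma exists_telTriangle :
    ∃ δ : DerivedCategory.Q.obj c.pt ⟶ (DerivedCategory.Q.obj (SumCx L.obj))⟦(1 : ℤ)⟧,
      Triangle.mk (DerivedCategory.Q.map (telφ L.obj (jj L)))
        (DerivedCategory.Q.map (sumToColim L c)) δ ∈ distTriang (Dual.D R) :=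
  ⟨_, telTriangle_distinguished L c hc⟩

lemma Q_sumι_qProj_same (m : ℕ) :
    DerivedCategory.Q.map (sumι L.obj m) ≫ DerivedCategory.Q.map (qProj L m) =
      𝟙 (DerivedCategory.Q.obj (L.obj m)) := by
  rw [← Functor.map_comp, sumι_qProj_same, CategoryTheory.Functor.map_id]

lemma Q_sumι_qProj_ne (n m : ℕ) (h : n ≠ m) :
    DerivedCategory.Q.map (sumι L.obj n) ≫ DerivedCategory.Q.map (qProj L m) = 0 := by
  rw [← Functor.map_comp, sumι_qProj_ne L n m h, Functor.map_zero]

lemma Q_sumι_qProj_same' (m : ℕ) :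
    (DerivedCategory.Q.map (sumι L.obj m))⟦(1 : ℤ)⟧' ≫
        (DerivedCategory.Q.map (qProj L m))⟦(1 : ℤ)⟧' =
      𝟙 ((DerivedCategory.Q.obj (L.obj m))⟦(1 : ℤ)⟧) := by
  rw [← Functor.map_comp, Q_sumι_qProj_same, CategoryTheory.Functor.map_id]

lemma Q_sumι_qProj_ne' (n m : ℕ) (h : n ≠ m) :
    (DerivedCategory.Q.map (sumι L.obj n))⟦(1 : ℤ)⟧' ≫
        (DerivedCategory.Q.map (qProj L m))⟦(1 : ℤ)⟧' = 0 := by
  rw [← Functor.map_comp, Q_sumι_qProj_ne L n m h, Functor.map_zero]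

variable (K : Dual.D R)
  (hK : ∀ (E : ℕ → Dual.D R) [HasCoproduct fun i : ULift.{u + 1} ℕ => E i.down],
      Function.Bijective (CohDer.homSumToHomCoprod K (fun i : ULift.{u + 1} ℕ => E i.down)))

include hK in
lemma sumHom_cofQ_surjective :
    Function.Surjective (sumHom K (fun n => DerivedCategory.Q.obj (L.obj n)) (cofQ L)) :=
  sumHom_surjective (isColimitCofQ L)
    (fun {_} => (hK (fun n => DerivedCategory.Q.obj (L.obj n))).2)

include hK in
lemma sumHom_cofQ'_surjective :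
    Function.Surjective (sumHom K (fun n => (DerivedCategory.Q.obj (L.obj n))⟦(1 : ℤ)⟧) (cofQ' L)) :=
  sumHom_surjective (isColimitCofQ' L)
    (fun {_} => (hK (fun n => (DerivedCategory.Q.obj (L.obj n))⟦(1 : ℤ)⟧)).2)

/-- any finite sum of maps to the stages factors through a single stage -/
lemma exists_stage_factor (t : DirectSum ℕ (fun n => K ⟶ DerivedCategory.Q.obj (L.obj n))) :
    ∃ N : ℕ, ∀ m, N ≤ m → ∃ y : K ⟶ DerivedCategory.Q.obj (L.obj m),
      y ≫ DerivedCategory.Q.map (ιn L c m) =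
        sumHom K (fun n => DerivedCategory.Q.obj (L.obj n)) (cofQ L) t ≫
          DerivedCategory.Q.map (sumToColim L c) := by
  induction t using DirectSum.induction_on with
  | zero => exact ⟨0, fun m _ => ⟨0, by rw [map_zero, zero_comp, zero_comp]⟩⟩
  | of n x =>
    refine ⟨n, fun m hm => ⟨x ≫ DerivedCategory.Q.map (L.map (homOfLE hm)), ?_⟩⟩
    rw [sumHom_of, Category.assoc, Category.assoc]
    change _ = x ≫ DerivedCategory.Q.map (sumι L.obj n) ≫ _
    rw [← Functor.map_comp, ← Functor.map_comp, sumι_desc]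
    congr 2
    exact c.w (homOfLE hm)
  | add a b ha hb =>
    obtain ⟨Na, hNa⟩ := ha
    obtain ⟨Nb, hNb⟩ := hb
    refine ⟨max Na Nb, fun m hm => ?_⟩
    obtain ⟨ya, hya⟩ := hNa m (le_trans (le_max_left _ _) hm)
    obtain ⟨yb, hyb⟩ := hNb m (le_trans (le_max_right _ _) hm)
    exact ⟨ya + yb, by rw [Preadditive.add_comp, hya, hyb, map_add, Preadditive.add_comp]⟩

include hc hK in
/-- S7014 -/
theorem hom_colimit :
    (∀ x : K ⟶ DRing.toD c.pt, ∃ (n : ℕ) (y : K ⟶ DRing.toD (L.obj n)),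
        y ≫ DerivedCategory.Q.map (c.ι.app n) = x) ∧
      (∀ (n : ℕ) (y : K ⟶ DRing.toD (L.obj n)), y ≫ DerivedCategory.Q.map (c.ι.app n) = 0 →
        ∃ (m : ℕ) (h : n ≤ m), y ≫ DerivedCategory.Q.map (L.map (homOfLE h)) = 0) := by
  obtain ⟨δ, hT⟩ := exists_telTriangle L c hc
  have h31 : δ ≫ (DerivedCategory.Q.map (telφ L.obj (jj L)))⟦(1 : ℤ)⟧' = 0 :=
    comp_distTriang_mor_zero₃₁ _ hT
  have hex3 : ∀ x : K ⟶ DerivedCategory.Q.obj c.pt, x ≫ δ = 0 →
      ∃ x' : K ⟶ DerivedCategory.Q.obj (SumCx L.obj),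
        x = x' ≫ DerivedCategory.Q.map (sumToColim L c) := fun x hx =>
    Triangle.coyoneda_exact₃ _ hT x hx
  have hex2 : ∀ w : K ⟶ DerivedCategory.Q.obj (SumCx L.obj),
      w ≫ DerivedCategory.Q.map (sumToColim L c) = 0 →
      ∃ z : K ⟶ DerivedCategory.Q.obj (SumCx L.obj),
        w = z ≫ DerivedCategory.Q.map (telφ L.obj (jj L)) := fun w hw =>
    Triangle.coyoneda_exact₂ _ hT w hw
  constructor
  · intro x
    -- `x ≫ δ = 0`
    have hx : x ≫ δ = 0 := by
      have hq : ∀ m, (x ≫ δ) ≫ (DerivedCategory.Q.map (qProj L m))⟦(1 : ℤ)⟧' = 0 := by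
        intro m
        rw [qProj, Functor.map_comp, Functor.map_comp, Category.assoc, reassoc_of% h31, zero_comp,
          comp_zero]
      exact eq_zero_of_forall_proj (E := fun n => (DerivedCategory.Q.obj (L.obj n))⟦(1 : ℤ)⟧)
        (cf := cofQ' L) (sumHom_cofQ'_surjective L K hK)
        (fun m => (DerivedCategory.Q.map (qProj L m))⟦(1 : ℤ)⟧')
        (fun m => Q_sumι_qProj_same' L m) (fun n m hnm => Q_sumι_qProj_ne' L n m hnm)
        (x ≫ δ) hq
    obtain ⟨x', hx'⟩ := hex3 x hx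
    obtain ⟨t, rfl⟩ := sumHom_cofQ_surjective L K hK x'
    obtain ⟨N, hN⟩ := exists_stage_factor L c K t
    obtain ⟨y, hy⟩ := hN N le_rfl
    exact ⟨N, y, hy.trans hx'.symm⟩
  · intro n y hy
    have hw : (y ≫ DerivedCategory.Q.map (sumι L.obj n)) ≫
        DerivedCategory.Q.map (sumToColim L c) = 0 := by
      rw [Category.assoc, ← Functor.map_comp, sumι_desc]
      exact hy
    obtain ⟨z, hz⟩ := hex2 _ hw
    obtain ⟨M, hM⟩ := exists_forall_proj_eq_zero
      (E := fun n => DerivedCategory.Q.obj (L.obj n)) (cf := cofQ L)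
      (sumHom_cofQ_surjective L K hK)
      (fun m => DerivedCategory.Q.map (qProj L m))
      (fun m => Q_sumι_qProj_same L m) (fun n m hnm => Q_sumι_qProj_ne L n m hnm) z
    refine ⟨max (M + 1) n, le_max_right _ _, ?_⟩
    have h1 : z ≫ DerivedCategory.Q.map (qProj L (max (M + 1) n)) = 0 :=
      hM (max (M + 1) n) (lt_of_lt_of_le (Nat.lt_succ_self M) (le_max_left _ _))
    rw [qProj, Functor.map_comp, ← Category.assoc, ← hz, Category.assoc, ← Functor.map_comp,
      sumι_pStage_of_le L n _ (le_max_right _ _)] at h1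
    exact h1

end Main

end TelColim

end Groth.Agent.Lib.Helper18.DR
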