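import Mathlib
import Groth.Agent.Lib.Helper18.CptB
import Groth.Agent.Lib.Helper18.TelColimD
import Groth.Agent.Lib.Helper18.KFlatFP
import Groth.Agent.Lib.Helper2.PResColim
import Groth.Agent.Lib.Helper18.DRRes
import Groth.Agent.Lib.Helper18.DRPerf2

/-!
# Compact objects of `D(R)` are perfect (Stacks 07LT) (helper18)
-/

set_option autoImplicit false
set_option linter.style.haveILetI false
universe u
open CategoryTheory CategoryTheory.Limits CategoryTheory.Pretriangulated DerivedCategory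
  HomologicalComplex

attribute [local instance] HasDerivedCategory.standard

namespace Groth.Agent.Lib.Helper18.DR.Cpt

open Groth.Agent.Lib.Helper2 Groth.Agent.Lib.Helper2.CompactEnv

variable {R : Type u} [CommRing R]

/-- countable compactness in the form needed by `hom_colimit` -/
lemma IsCpt.bijective_nat {K : Dual.D R} (hK : IsCpt K) (E : ℕ → Dual.D R)
    [HasCoproduct fun i : ULift.{u + 1} ℕ => E i.down] :
    Function.Bijective (CohDer.homSumToHomCoprod K (fun i : ULift.{u + 1} ℕ => E i.down)) := by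
  apply Groth.Agent.Lib.Helper5.CompactBdd.bijective_of_isFin
  intro φ
  let E' : ULift.{u} ℕ → Dual.D R := fun i => E i.down
  let cf : Cofan (fam E') := Cofan.mk (∐ fun i : ULift.{u + 1} ℕ => E i.down)
    (fun i => Sigma.ι (fun i : ULift.{u + 1} ℕ => E i.down) ⟨i.down.down⟩)
  have hcf : IsColimit cf := Cofan.IsColimit.mk _
    (fun s => Sigma.desc (fun i : ULift.{u + 1} ℕ => s.inj ⟨⟨i.down⟩⟩))
    (fun s i => Limits.Sigma.ι_desc _ _)
    (fun s m hm => by
      refine Limits.Sigma.hom_ext (f := fun i : ULift.{u + 1} ℕ => E i.down) _ _ (fun i => ?_)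
      rw [Limits.Sigma.ι_desc]; exact hm ⟨⟨i.down⟩⟩)
  obtain ⟨F, g, hg⟩ := hK.exists_sum E' cf hcf φ
  rw [hg]
  exact isFin_sum _ _ (fun i _ =>
    isFin_comp_ι (X := fun i : ULift.{u + 1} ℕ => E i.down) ⟨i.down⟩ (g i))

lemma isLE_of_retract {K L : Dual.D R} (i : K ⟶ L) (r : L ⟶ K) (hir : i ≫ r = 𝟙 K) (n : ℤ)
    [L.IsLE n] : K.IsLE n := by
  rw [DerivedCategory.isLE_iff]
  intro j hj
  rw [IsZero.iff_id_eq_zero, ← CategoryTheory.Functor.map_id, ← hir, Functor.map_comp]
  have hz : IsZero ((homologyFunctor (ModuleCat.{u} R) j).obj L) := L.isZero_of_isLE n j hj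
  rw [hz.eq_of_tgt ((homologyFunctor (ModuleCat.{u} R) j).map i) 0, zero_comp]

/-- direct summands of perfect objects are perfect -/
theorem isPerfect_of_retract' {K L : Dual.D R} (i : K ⟶ L) (r : L ⟶ K) (hir : i ≫ r = 𝟙 K)
    (hL : DRing.IsPerfect R L) : DRing.IsPerfect R K := by
  obtain ⟨C, f, g, hT⟩ := distinguished_cocone_triangle i
  have hg : g = 0 := by
    have h1 : g ≫ i⟦(1 : ℤ)⟧' = 0 := comp_distTriang_mor_zero₃₁ _ hT
    have h2 : i⟦(1 : ℤ)⟧' ≫ r⟦(1 : ℤ)⟧' = 𝟙 _ := by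
      rw [← Functor.map_comp, hir, CategoryTheory.Functor.map_id]
    calc g = g ≫ i⟦(1 : ℤ)⟧' ≫ r⟦(1 : ℤ)⟧' := by rw [h2, Category.comp_id]
      _ = 0 := by rw [reassoc_of% h1, zero_comp]
  obtain ⟨e, -, -⟩ := exists_iso_binaryBiproduct_of_distTriang _ hT hg
  have hb : DRing.IsPerfect R (K ⊞ C) := by
    obtain ⟨E, a, b, h1, h2, ⟨e'⟩⟩ := hL
    exact ⟨E, a, b, h1, h2, ⟨e' ≪≫ e⟩⟩
  exact (isPerfect_of_biprod K C hb).1

/-- a compact object is a direct summand of a bounded complex of free modules -/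
theorem exists_retract_bounded_free (K : Dual.D R) (hK : IsCpt K) :
    ∃ (L : DRing.Cx R) (a b : ℤ) (i : K ⟶ Q.obj L) (r : Q.obj L ⟶ K), i ≫ r = 𝟙 K ∧
      DRing.VanishesOutside L a b ∧ ∀ j, Module.Free R (L.X j) := by
  let X := Q.objPreimage K
  let eX : Q.obj X ≅ K := Q.objObjPreimageIso K
  let m : ℕ → ℤ := fun n => (n : ℤ)
  have hm : ∀ n, m n ≤ m (n + 1) := fun n => by simp [m]
  have hm' : ∀ i : ℤ, ∃ N : ℕ, ∀ n, N ≤ n → i < m n := fun i =>
    ⟨(i + 1).toNat, fun n hn => by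
      have h1 := Int.self_le_toNat (i + 1)
      have h2 : ((i + 1).toNat : ℤ) ≤ (n : ℤ) := by exact_mod_cast hn
      simp only [m]; omega⟩
  obtain ⟨n, y', hy'⟩ : ∃ (n : ℕ) (y : K ⟶ Q.obj (X.truncLE (m n))),
      y ≫ Q.map (X.ιTruncLE (m n)) = eX.inv :=
    (TelColim.hom_colimit (PRes.truncSystem X m hm) (PRes.truncCocone X m hm)
      (PRes.isColimitTruncCocone X m hm hm') K (fun E _ => hK.bijective_nat E)).1 eX.inv
  haveI : (Q.obj (X.truncLE (m n))).IsLE (m n) := inferInstance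
  haveI : K.IsLE (m n) := isLE_of_retract (L := Q.obj (X.truncLE (m n))) y'
    (Q.map (X.ιTruncLE (m n)) ≫ eX.hom) (by
      rw [reassoc_of% hy', Iso.inv_hom_id]) (m n)
  obtain ⟨G, hGb, hGfree, ⟨eG⟩⟩ := exists_free_resolution K (m n)
  obtain ⟨k, y₂', hy₂'⟩ : ∃ (k : ℕ) (y : K ⟶ Q.obj (sigmaGE G (0 - k))),
      y ≫ Q.map (sigmaGEι G (0 - k)) = eG.inv :=
    (TelColim.hom_colimit (KFlatFP.sigmaSystem G 0) (KFlatFP.sigmaCocone G 0)
      (KFlatFP.isColimitSigmaCocone G 0) K (fun E _ => hK.bijective_nat E)).1 eG.inv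
  refine ⟨sigmaGE G (0 - k), 0 - k, m n, y₂', Q.map (sigmaGEι G (0 - k)) ≫ eG.hom, ?_,
    vanishesOutside_sigmaGE G (0 - k) hGb, ?_⟩
  · rw [reassoc_of% hy₂', Iso.inv_hom_id]
  · intro j
    by_cases hj : 0 - (k : ℤ) ≤ j
    · haveI := hGfree j
      exact Module.Free.of_equiv (sigmaGEXIso G (0 - k) hj).symm.toLinearEquiv
    · haveI : Subsingleton ((sigmaGE G (0 - k)).X j) :=
        ModuleCat.subsingleton_of_isZero (isZero_sigmaGE_X G (0 - k) (by omega))
      exact Module.Free.of_subsingleton R _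

/-- the inductive statement: `K` is a retract of a bounded complex of free modules whose terms in
degrees `< c` are finite -/
def Fact (K : Dual.D R) (a b c : ℤ) : Prop :=
  ∃ (L : DRing.Cx R) (i : K ⟶ Q.obj L) (r : Q.obj L ⟶ K), i ≫ r = 𝟙 K ∧
    DRing.VanishesOutside L a b ∧ (∀ j, Module.Free R (L.X j)) ∧
    ∀ j, j < c → Module.Finite R (L.X j)

lemma fact_succ {K : Dual.D R} (hK : IsCpt K) (a b c : ℤ) (h : Fact K a b c) :
    Fact K a b (c + 1) := by
  obtain ⟨L, i, r, hir, hL, hfree, hfin⟩ := h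
  haveI := hfree c
  haveI := hfin (c - 1) (by omega)
  obtain ⟨N, hN, hNfin, hNfree, i', hi'⟩ := exists_cut K hK L c (c - 1) (by omega) i
  refine ⟨degSubCx L c N hN, i', Q.map (degSubCxι L c N hN) ≫ r, ?_,
    vanishesOutside_degSubCx L c N hN hL, ?_, ?_⟩
  · rw [← Category.assoc, hi', hir]
  · intro j
    by_cases hj : j = c
    · subst hj
      exact Module.Free.of_equiv (degSubCxEquivSelf L j N hN).symm
    · haveI := hfree j
      exact Module.Free.of_equiv (degSubCxEquivOfNe L c N hN hj).symm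
  · intro j hj
    by_cases hjc : j = c
    · subst hjc
      exact Module.Finite.equiv (degSubCxEquivSelf L j N hN).symm
    · haveI := hfin j (by omega)
      exact Module.Finite.equiv (degSubCxEquivOfNe L c N hN hjc).symm

lemma fact_add {K : Dual.D R} (hK : IsCpt K) (a b : ℤ) (h : Fact K a b a) (k : ℕ) :
    Fact K a b (a + k) := by
  induction k with
  | zero => simpa using h
  | succ k ih =>
    have := fact_succ hK a b (a + k) ih
    have e : a + (k : ℤ) + 1 = a + ((k + 1 : ℕ) : ℤ) := by push_cast; ring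
    rwa [e] at this

/-- Stacks 07LT: compact objects of `D(R)` are perfect -/
theorem isPerfect_of_isCpt (K : Dual.D R) (hK : IsCpt K) : DRing.IsPerfect R K := by
  obtain ⟨L, a, b, i, r, hir, hL, hfree⟩ := exists_retract_bounded_free K hK
  have h0 : Fact K a b a := ⟨L, i, r, hir, hL, hfree, fun j hj => by
    haveI : Subsingleton (L.X j) := ModuleCat.subsingleton_of_isZero (hL j (Or.inl hj))
    exact Module.Finite.of_finite⟩
  obtain ⟨L', i', r', hir', hL', hfree', hfin'⟩ := fact_add hK a b h0 (b + 1 - a).toNat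
  have hfin : ∀ j, Module.Finite R (L'.X j) := by
    intro j
    by_cases hj : j ≤ b
    · apply hfin' j
      have := Int.self_le_toNat (b + 1 - a)
      omega
    · haveI : Subsingleton (L'.X j) :=
        ModuleCat.subsingleton_of_isZero (hL' j (Or.inr (by omega)))
      exact Module.Finite.of_finite
  have hperf : DRing.IsPerfect R (Q.obj L') :=
    ⟨L', a, b, hL', fun j => ⟨hfin j, by haveI := hfree' j; exact Module.Projective.of_free⟩,
      ⟨Iso.refl _⟩⟩
  exact isPerfect_of_retract' i' r' hir' hperf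

/-- Stacks 07LT -/
theorem isPerfect_iff_isCpt (K : Dual.D R) : DRing.IsPerfect R K ↔ IsCpt K :=
  ⟨isCpt_of_isPerfect K, isPerfect_of_isCpt K⟩

end Groth.Agent.Lib.Helper18.DR.Cpt
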