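import Mathlib
import Groth.Agent.Lib.Helper18.CptC
import Groth.Agent.Lib.Helper18.DRInd

/-!
# `D(A)` is generated by `A` as a localizing subcategory (helper18)
-/

set_option autoImplicit false
set_option linter.style.haveILetI false
universe u
open CategoryTheory CategoryTheory.Limits CategoryTheory.Pretriangulated DerivedCategory
  HomologicalComplex

attribute [local instance] HasDerivedCategory.standard

namespace Groth.Agent.Lib.Helper18.DR.Gen

open Groth.Agent.Lib.Helper2 Cpt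

variable {A : Type u} [CommRing A]

section

variable (𝒮 : Dual.D A → Prop)
  (hiso : ∀ {X Y : Dual.D A}, (X ≅ Y) → 𝒮 X → 𝒮 Y)
  (hA : 𝒮 (Dual.inD A A))
  (hshift : ∀ (K : Dual.D A) (n : ℤ), 𝒮 K → 𝒮 ((shiftFunctor (Dual.D A) n).obj K))
  (hext : ∀ T : Triangle (Dual.D A), T ∈ distTriang (Dual.D A) → 𝒮 T.obj₁ → 𝒮 T.obj₃ → 𝒮 T.obj₂)
  (hcoprod : ∀ (I : Type u) (E : I → Dual.D A) (cf : Cofan (fam E)) (_ : IsColimit cf),
    (∀ i, 𝒮 (E i)) → 𝒮 cf.pt)

include hiso hA hshift hext in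
lemma gen_zero (X : Dual.D A) (hX : IsZero X) : 𝒮 X := by
  have hT := rot_of_distTriang _ (contractible_distinguished (Dual.inD A A))
  have h0 : 𝒮 (Triangle.rotate (contractibleTriangle (Dual.inD A A))).obj₂ :=
    hext _ hT hA (hshift _ 1 hA)
  exact hiso ((isZero_zero (Dual.D A)).iso hX) h0

include hshift hext in
lemma gen_ext₃ (T : Triangle (Dual.D A)) (hT : T ∈ distTriang (Dual.D A)) (h₁ : 𝒮 T.obj₁)
    (h₂ : 𝒮 T.obj₂) : 𝒮 T.obj₃ :=
  hext _ (rot_of_distTriang _ hT) h₂ (hshift _ 1 h₁)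

include hiso hA hshift hcoprod in
lemma gen_single_free (c : ℤ) (M : ModuleCat.{u} A) [Module.Free A M] :
    𝒮 (Q.obj ((single (ModuleCat.{u} A) (ComplexShape.up ℤ) c).obj M)) := by
  let b := Module.Free.chooseBasis A M
  refine hcoprod _ _ _ (isColimitSingleBasisCofan b c) (fun _ => ?_)
  have e : (shiftFunctor (Dual.D A) (-c)).obj (Dual.inD A A) ≅
      Q.obj ((single (ModuleCat.{u} A) (ComplexShape.up ℤ) c).obj (ModuleCat.of A A)) :=
    SgShiftIso (-c) c 0 (by omega) (ModuleCat.of A A) ≪≫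
      (DerivedCategory.singleFunctorIsoCompQ (ModuleCat.{u} A) c).app (ModuleCat.of A A)
  exact hiso e (hshift _ (-c) hA)

include hiso hA hshift hext hcoprod in
lemma gen_bounded_free (L : DRing.Cx A) (a b : ℤ) (hL : DRing.VanishesOutside L a b)
    (hfree : ∀ i, Module.Free A (L.X i)) : 𝒮 (Q.obj L) := by
  refine bounded_induction 𝒮 (fun e h => hiso e h) (gen_zero 𝒮 hiso hA hshift hext) hext L a b hL
    (fun i _ _ => ?_)
  haveI := hfree i
  exact hiso ((DerivedCategory.singleFunctorIsoCompQ (ModuleCat.{u} A) i).app (L.X i)).symm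
    (gen_single_free 𝒮 hiso hA hshift hcoprod i (L.X i))

include hiso hshift hext hcoprod in
/-- closure under sequential colimits of complexes -/
lemma gen_seq_colimit (L : ℕ ⥤ DRing.Cx A) (c : Cocone L) (hc : IsColimit c)
    (h : ∀ n, 𝒮 (Q.obj (L.obj n))) : 𝒮 (Q.obj c.pt) := by
  have hsum : 𝒮 (Q.obj (SumCx L.obj)) := by
    let E' : ULift.{u} ℕ → Dual.D A := fun i => Q.obj (L.obj i.down)
    let cf : Cofan (fam E') := Cofan.mk (Q.obj (SumCx L.obj))
      (fun i => (TelColim.cofQ L).inj ⟨i.down.down⟩)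
    have hcf : IsColimit cf := Cofan.IsColimit.mk _
      (fun s => (Cofan.IsColimit.desc (TelColim.isColimitCofQ L)
        (fun i : ULift.{u + 1} ℕ => s.inj ⟨⟨i.down⟩⟩) : Q.obj (SumCx L.obj) ⟶ s.pt))
      (fun s i => Cofan.IsColimit.fac (TelColim.isColimitCofQ L) _ ⟨i.down.down⟩)
      (fun s m hm => Cofan.IsColimit.hom_ext (TelColim.isColimitCofQ L) _ _ (fun i => by
        rw [Cofan.IsColimit.fac]; exact hm ⟨⟨i.down⟩⟩))
    exact hcoprod _ E' cf hcf (fun i => h i.down)
  exact gen_ext₃ 𝒮 hshift hext _ (TelColim.telTriangle_distinguished L c hc) hsum hsum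

include hiso hA hshift hext hcoprod in
lemma gen_bounded_above_free (G : DRing.Cx A) (b : ℤ) (hG : DRing.VanishesAbove G b)
    (hfree : ∀ i, Module.Free A (G.X i)) : 𝒮 (Q.obj G) := by
  refine gen_seq_colimit 𝒮 hiso hshift hext hcoprod (KFlatFP.sigmaSystem G 0)
    (KFlatFP.sigmaCocone G 0) (KFlatFP.isColimitSigmaCocone G 0) (fun n => ?_)
  change 𝒮 (Q.obj (sigmaGE G (0 - n)))
  refine gen_bounded_free 𝒮 hiso hA hshift hext hcoprod _ (0 - n) b
    (vanishesOutside_sigmaGE G (0 - n) hG) (fun j => ?_)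
  by_cases hj : 0 - (n : ℤ) ≤ j
  · haveI := hfree j
    exact Module.Free.of_equiv (sigmaGEXIso G (0 - n) hj).symm.toLinearEquiv
  · haveI : Subsingleton ((sigmaGE G (0 - n)).X j) :=
      ModuleCat.subsingleton_of_isZero (isZero_sigmaGE_X G (0 - n) (by omega))
    exact Module.Free.of_subsingleton A _

include hiso hA hshift hext hcoprod in
/-- a localizing subcategory of `D(A)` containing `A` is everything -/
theorem generation (K : Dual.D A) : 𝒮 K := by
  let X := Q.objPreimage K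
  let eX : Q.obj X ≅ K := Q.objObjPreimageIso K
  refine hiso eX ?_
  let m : ℕ → ℤ := fun n => (n : ℤ)
  have hm : ∀ n, m n ≤ m (n + 1) := fun n => by simp [m]
  have hm' : ∀ i : ℤ, ∃ N : ℕ, ∀ n, N ≤ n → i < m n := fun i =>
    ⟨(i + 1).toNat, fun n hn => by
      have h1 := Int.self_le_toNat (i + 1)
      have h2 : ((i + 1).toNat : ℤ) ≤ (n : ℤ) := by exact_mod_cast hn
      simp only [m]; omega⟩
  refine gen_seq_colimit 𝒮 hiso hshift hext hcoprod (PRes.truncSystem X m hm)
    (PRes.truncCocone X m hm) (PRes.isColimitTruncCocone X m hm hm') (fun n => ?_)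
  change 𝒮 (Q.obj (X.truncLE (m n)))
  haveI : (Q.obj (X.truncLE (m n))).IsLE (m n) := inferInstance
  obtain ⟨G, hGb, hGfree, ⟨eG⟩⟩ := exists_free_resolution (Q.obj (X.truncLE (m n))) (m n)
  exact hiso eG (gen_bounded_above_free 𝒮 hiso hA hshift hext hcoprod G (m n) hGb hGfree)

end

end Groth.Agent.Lib.Helper18.DR.Gen
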