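import Mathlib
import Groth.Prelude.Def_DTen6
import Groth.Agent.Lib.Helper18.DTenC

/-!
# The iterated mixed derived tensor products agree with the jointly derived one (helper18)
-/

set_option autoImplicit false
set_option linter.style.haveILetI false
universe u
open CategoryTheory CategoryTheory.Limits MonoidalCategory DerivedCategory HomologicalComplex

attribute [local instance] HasDerivedCategory.standard

namespace Groth.Agent.Lib.Helper18.DR

namespace DTenD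

open DTen Groth.Agent.Lib.Helper2.Tot Groth.Agent.Lib.Helper2.Tot.DR

section kflat

variable {B : Type u} [CommRing B]

/-- the tensor product of K-flat complexes is K-flat -/
lemma kflat_tensor {X Y : DRing.Cx B} (hX : KFlat (T B) X) (hY : KFlat (T B) Y) :
    KFlat (T B) (X ⊗ Y) := fun Z hZ =>
  acyclic_of_iso (α_ Z X Y) (hY (Z ⊗ X) (hX Z hZ))

end kflat

section mixed

variable {B C : Type u} [CommRing B] [CommRing C] (ψ : B →+* C) [HasLTenMix ψ]

theorem isIso_εMix_app_of_kflat (L : DRing.Cx B) (K : DRing.Cx C) [K.IsKProjective]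
    (hL : KFlat (T B) L) : IsIso ((εMix ψ).app (L, K)) := by
  obtain ⟨P, g, hP, hg⟩ := DTenB.exists_kprojective_quasiIso L
  haveI := hP
  haveI := hg
  let u : (P, K) ⟶ (L, K) := Prod.mkHom g (𝟙 K)
  have hnat := (εMix ψ).naturality u
  haveI : IsIso ((QMix B C).map u) := by
    change IsIso (Prod.mkHom (DerivedCategory.Q.map g) (DerivedCategory.Q.map (𝟙 K)))
    exact (isIso_prod_iff _ _).2 ⟨inferInstance, inferInstance⟩
  haveI : IsIso ((QMix B C ⋙ LTenMix ψ).map u) := by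
    change IsIso ((LTenMix ψ).map ((QMix B C).map u))
    infer_instance
  haveI := DTenA.isIso_εMix_app ψ P K
  haveI : QuasiIso ((extCx ψ).map g) :=
    DTenC.quasiIso_extCx_map ψ (DTenB.kflat_of_isKProjective P) hL g
  haveI : IsIso ((mix₂ ψ).map u) := by
    change IsIso (DerivedCategory.Q.map ((extCx ψ).map g ▷ K ≫ (extCx ψ).obj L ◁ (𝟙 K)))
    rw [MonoidalCategory.whiskerLeft_id, Category.comp_id]
    infer_instance
  have h : (εMix ψ).app (L, K) =
      inv ((QMix B C ⋙ LTenMix ψ).map u) ≫ (εMix ψ).app (P, K) ≫ (mix₂ ψ).map u := by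
    rw [IsIso.eq_inv_comp]
    exact hnat
  rw [h]
  infer_instance

theorem isIso_εMix_app_left (M : DRing.Cx B) [M.IsKProjective] (L : DRing.Cx C) :
    IsIso ((εMix ψ).app (M, L)) := by
  obtain ⟨P, g, hP, hg⟩ := DTenB.exists_kprojective_quasiIso L
  haveI := hP
  haveI := hg
  let u : (M, P) ⟶ (M, L) := Prod.mkHom (𝟙 M) g
  have hnat := (εMix ψ).naturality u
  haveI : IsIso ((QMix B C).map u) := by
    change IsIso (Prod.mkHom (DerivedCategory.Q.map (𝟙 M)) (DerivedCategory.Q.map g))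
    exact (isIso_prod_iff _ _).2 ⟨inferInstance, inferInstance⟩
  haveI : IsIso ((QMix B C ⋙ LTenMix ψ).map u) := by
    change IsIso ((LTenMix ψ).map ((QMix B C).map u))
    infer_instance
  haveI := DTenA.isIso_εMix_app ψ M P
  haveI : ((extCx ψ).obj M).IsKProjective := isKProjective_extendScalars ψ M
  haveI : IsIso ((mix₂ ψ).map u) := by
    change IsIso (DerivedCategory.Q.map ((extCx ψ).map (𝟙 M) ▷ P ≫ (extCx ψ).obj M ◁ g))
    rw [CategoryTheory.Functor.map_id, MonoidalCategory.id_whiskerRight, Category.id_comp]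
    infer_instance
  have h : (εMix ψ).app (M, L) =
      inv ((QMix B C ⋙ LTenMix ψ).map u) ≫ (εMix ψ).app (M, P) ≫ (mix₂ ψ).map u := by
    rw [IsIso.eq_inv_comp]
    exact hnat
  rw [h]
  infer_instance

end mixed


section triple

variable {A B C : Type u} [CommRing A] [CommRing B] [CommRing C] (φ : A →+* B) (ψ : B →+* C)

lemma QMix₃_map_surjective (M : DRing.Cx A) (N : DRing.Cx B) (K : DRing.Cx C) [M.IsKProjective]
    [N.IsKProjective] [K.IsKProjective] (c : DRing.Cx A × (DRing.Cx B × DRing.Cx C)) :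
    Function.Surjective (fun f : (M, (N, K)) ⟶ c => (QMix₃ A B C).map f) := by
  intro g
  obtain ⟨f₁, hf₁⟩ := exists_map_eq M c.1 g.1
  obtain ⟨f₂, hf₂⟩ := exists_map_eq N c.2.1 g.2.1
  obtain ⟨f₃, hf₃⟩ := exists_map_eq K c.2.2 g.2.2
  exact ⟨(f₁, (f₂, f₃)), Prod.ext hf₁ (Prod.ext hf₂ hf₃)⟩

/-- `mixT` respects homotopies -/
noncomputable def mixTMapHomotopy {M M' : DRing.Cx A} {N N' : DRing.Cx B} {f f' : M ⟶ M'}
    {g g' : N ⟶ N'} (H1 : Homotopy f f') (H2 : Homotopy g g') :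
    Homotopy ((mixT φ).map (Prod.mkHom f g : (M, N) ⟶ (M', N')))
      ((mixT φ).map (Prod.mkHom f' g' : (M, N) ⟶ (M', N'))) :=
  (Homotopy.ofEq (show (mixT φ).map (Prod.mkHom f g : (M, N) ⟶ (M', N')) =
      (extCx φ).map f ⊗ₘ g from (MonoidalCategory.tensorHom_def _ _).symm)).trans
    ((DTenB.tensorHomHomotopy ((ModuleCat.extendScalars.{u, u, u} φ).mapHomotopy H1) H2).trans
      (Homotopy.ofEq (show (extCx φ).map f' ⊗ₘ g' =
        (mixT φ).map (Prod.mkHom f' g' : (M, N) ⟶ (M', N')) from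
          MonoidalCategory.tensorHom_def _ _)))

lemma mix₃_map_eq (M : DRing.Cx A) (N : DRing.Cx B) (K : DRing.Cx C) [M.IsKProjective]
    [N.IsKProjective] [K.IsKProjective] (c : DRing.Cx A × (DRing.Cx B × DRing.Cx C))
    (f g : (M, (N, K)) ⟶ c) (h : (QMix₃ A B C).map f = (QMix₃ A B C).map g) :
    (mix₃ φ ψ).map f = (mix₃ φ ψ).map g := by
  have h1 : DerivedCategory.Q.map f.1 = DerivedCategory.Q.map g.1 := congrArg Prod.fst h
  have h2 : DerivedCategory.Q.map f.2.1 = DerivedCategory.Q.map g.2.1 :=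
    congrArg (fun x => x.2.1) h
  have h3 : DerivedCategory.Q.map f.2.2 = DerivedCategory.Q.map g.2.2 :=
    congrArg (fun x => x.2.2) h
  obtain ⟨H1⟩ := nonempty_homotopy_of_map_eq M c.1 f.1 g.1 h1
  obtain ⟨H2⟩ := nonempty_homotopy_of_map_eq N c.2.1 f.2.1 g.2.1 h2
  obtain ⟨H3⟩ := nonempty_homotopy_of_map_eq K c.2.2 f.2.2 g.2.2 h3
  exact DerivedCategory.Q_map_eq_of_homotopy _
    (mixTMapHomotopy ψ (mixTMapHomotopy φ H1 H2) H3)

theorem isIso_εMix₃_app [HasLTenMix₃ φ ψ] (M : DRing.Cx A) (N : DRing.Cx B) (K : DRing.Cx C)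
    [M.IsKProjective] [N.IsKProjective] [K.IsKProjective] :
    IsIso ((εMix₃ φ ψ).app (M, (N, K))) := by
  haveI : (LTenMix₃ φ ψ).IsRightKanExtension (εMix₃ φ ψ) :=
    (Functor.isLeftDerivedFunctor_iff_isRightKanExtension (LTenMix₃ φ ψ) (εMix₃ φ ψ)
      (qisMix₃ A B C)).1 inferInstance
  exact Kan2.isIso_counit_app (QMix₃ A B C) (qisMix₃ A B C) (LTenMix₃ φ ψ) (εMix₃ φ ψ)
    (M, (N, K)) (QMix₃_map_surjective M N K) (mix₃_map_eq φ ψ M N K)

theorem isIso_β₃L_app [HasLTenMix φ] [HasLTenMix ψ] (M : DRing.Cx A) (N : DRing.Cx B)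
    (K : DRing.Cx C) [M.IsKProjective] [N.IsKProjective] [K.IsKProjective] :
    IsIso ((β₃L φ ψ).app (M, (N, K))) := by
  haveI := DTenA.isIso_εMix_app φ M N
  haveI : ((extCx φ).obj M).IsKProjective := isKProjective_extendScalars φ M
  haveI := isIso_εMix_app_of_kflat ψ ((mixT φ).obj (M, N)) K
    (kflat_tensor (DTenB.kflat_of_isKProjective ((extCx φ).obj M))
      (DTenB.kflat_of_isKProjective N))
  change IsIso ((LTenMix ψ).map (Prod.mkHom ((εMix φ).app (M, N)) (𝟙 _)) ≫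
    (εMix ψ).app ((mixT φ).obj (M, N), K))
  haveI : IsIso (Prod.mkHom ((εMix φ).app (M, N)) (𝟙 (DerivedCategory.Q.obj K))) :=
    (isIso_prod_iff _ _).2 ⟨inferInstance, inferInstance⟩
  infer_instance

theorem isIso_β₃R_app [HasLTenMix ψ] [HasLTenMix (ψ.comp φ)] (M : DRing.Cx A) (N : DRing.Cx B)
    (K : DRing.Cx C) [M.IsKProjective] [N.IsKProjective] [K.IsKProjective] :
    IsIso ((β₃R φ ψ).app (M, (N, K))) := by
  haveI := DTenA.isIso_εMix_app ψ N K
  haveI := isIso_εMix_app_left (ψ.comp φ) M ((mixT ψ).obj (N, K))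
  change IsIso ((LTenMix (ψ.comp φ)).map (Prod.mkHom (𝟙 _) ((εMix ψ).app (N, K))) ≫
    (εMix (ψ.comp φ)).app (M, (mixT ψ).obj (N, K)) ≫
      DerivedCategory.Q.map ((θ₃ φ ψ).inv.app (M, (N, K))))
  haveI : IsIso (Prod.mkHom (𝟙 (DerivedCategory.Q.obj M)) ((εMix ψ).app (N, K))) :=
    (isIso_prod_iff _ _).2 ⟨inferInstance, inferInstance⟩
  infer_instance

/-- S14268 -/
theorem isIso_leg₃_app [HasLTenMix φ] [HasLTenMix ψ] [HasLTenMix (ψ.comp φ)] [HasLTenMix₃ φ ψ]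
    (E : Dual.D A) (F : Dual.D B) (G : Dual.D C) :
    IsIso ((leg₃L φ ψ).app (E, (F, G))) ∧ IsIso ((leg₃R φ ψ).app (E, (F, G))) := by
  obtain ⟨P₁, hP₁, -, ⟨e₁⟩⟩ := exists_kprojective_resolution E
  obtain ⟨P₂, hP₂, -, ⟨e₂⟩⟩ := exists_kprojective_resolution F
  obtain ⟨P₃, hP₃, -, ⟨e₃⟩⟩ := exists_kprojective_resolution G
  haveI := hP₁
  haveI := hP₂
  haveI := hP₃
  have e : (QMix₃ A B C).obj (P₁, (P₂, P₃)) ≅ (E, (F, G)) := Iso.prod e₁ (Iso.prod e₂ e₃)
  rw [← NatTrans.isIso_app_iff_of_iso (leg₃L φ ψ) e,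
    ← NatTrans.isIso_app_iff_of_iso (leg₃R φ ψ) e]
  haveI := isIso_εMix₃_app φ ψ P₁ P₂ P₃
  haveI := isIso_β₃L_app φ ψ P₁ P₂ P₃
  haveI := isIso_β₃R_app φ ψ P₁ P₂ P₃
  exact ⟨IsIso.of_isIso_fac_right (leg₃L_fac φ ψ (P₁, (P₂, P₃))),
    IsIso.of_isIso_fac_right (leg₃R_fac φ ψ (P₁, (P₂, P₃)))⟩

end triple

end DTenD

end Groth.Agent.Lib.Helper18.DR
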