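import Mathlib
import Groth.Agent.Lib.Helper18.BcB
import Groth.Agent.Lib.Helper18.GenA
import Groth.Agent.Lib.Helper21.RGp

/-!
# Base change for derived hom along a perfect algebra (helper18)

`bcRHom φ K M` is an isomorphism for all `K`, `M` when `R'` is perfect over `R`: generation in `K`
(contravariant), with `RHom(-, N)` turning coproducts into products and derived base change
preserving products.
-/

set_option autoImplicit false
set_option linter.style.haveILetI false
set_option linter.unusedSectionVars false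
universe u
open CategoryTheory CategoryTheory.Limits CategoryTheory.Pretriangulated Opposite

attribute [local instance] HasDerivedCategory.standard

namespace Groth.Agent.Lib.Helper18.DR

namespace BcC

open DTen ContraExact Groth.Agent.Lib.Helper21.RGo Groth.Agent.Lib.Helper21.RGp

/-! ### general lemmas -/

section general

variable {C : Type*} [Category C]

lemma isIso_of_isLimit_fans {I : Type*} {X Y : I → C} (c : Fan X) (hc : IsLimit c) (d : Fan Y)
    (hd : IsLimit d) (f : c.pt ⟶ d.pt) (g : ∀ i, X i ⟶ Y i) [∀ i, IsIso (g i)]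
    (h : ∀ i, f ≫ d.proj i = c.proj i ≫ g i) : IsIso f := by
  refine ⟨Fan.IsLimit.lift hc (fun i => d.proj i ≫ inv (g i)), ?_, ?_⟩
  · refine Fan.IsLimit.hom_ext hc _ _ (fun i => ?_)
    rw [Category.assoc, Fan.IsLimit.fac, ← Category.assoc, h, Category.assoc,
      IsIso.hom_inv_id, Category.comp_id, Category.id_comp]
  · refine Fan.IsLimit.hom_ext hd _ _ (fun i => ?_)
    rw [Category.assoc, h, ← Category.assoc, Fan.IsLimit.fac, Category.assoc,
      IsIso.inv_hom_id, Category.comp_id, Category.id_comp]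

noncomputable def isColimit_map_cofan {D : Type*} [Category D] {I : Type*} {E : I → C} (G : C ⥤ D)
    [PreservesColimit (Discrete.functor E) G] (cf : Cofan E) (hcf : IsColimit cf) :
    IsColimit (Cofan.mk (G.obj cf.pt) (fun i => G.map (cf.inj i)) : Cofan fun i => G.obj (E i)) :=
  isColimitCofanMkObjOfIsColimit G _ _
    (IsColimit.ofIsoColimit hcf (Cocone.ext (Iso.refl _) (fun ⟨i⟩ => by simp [Cofan.inj])) :
      IsColimit (Cofan.mk cf.pt cf.inj))

end general

/-! ### `RHom(-, N)` is self-adjoint on the right -/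

section selfadj

variable {A : Type u} [CommRing A] [HasLTen A] [HasRHom A]

/-- the braiding `X ⊗^L T ⟶ T ⊗^L X` -/
noncomputable def br (X T : Dual.D A) : (LTen₂ A).obj (X, T) ⟶ (LTen₂ A).obj (T, X) :=
  (symm A).app (T, X)

instance (X T : Dual.D A) : IsIso (br X T) := Groth.Agent.S13576.result A T X

lemma br_nat {X X' : Dual.D A} (u : X' ⟶ X) (T : Dual.D A) :
    tm A u (𝟙 T) ≫ br X T = br X' T ≫ tm A (𝟙 T) u :=
  (symm A).naturality (Prod.mkHom (𝟙 T) u : ((T, X') : Dual.D A × Dual.D A) ⟶ (T, X))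

/-- `Hom(T, RHom(X, N)) ≃ Hom(X, RHom(T, N))` -/
noncomputable def σ (T X N : Dual.D A) :
    (T ⟶ (RHomR A X).obj N) ≃ (X ⟶ (RHomR A T).obj N) where
  toFun g := rhomHomEquiv X T N (br X T ≫ (rhomHomEquiv T X N).symm g)
  invFun h := rhomHomEquiv T X N (inv (br X T) ≫ (rhomHomEquiv X T N).symm h)
  left_inv g := by
    simp only [Equiv.symm_apply_apply, IsIso.inv_hom_id_assoc, Equiv.apply_symm_apply]
  right_inv h := by
    simp only [Equiv.symm_apply_apply, IsIso.hom_inv_id_assoc, Equiv.apply_symm_apply]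

lemma σ_nat {T X X' N : Dual.D A} (u : X' ⟶ X) (g : T ⟶ (RHomR A X).obj N) :
    σ T X' N (g ≫ RHomMap u N) = u ≫ σ T X N g := by
  have h1 : (rhomHomEquiv T X' N).symm (g ≫ RHomMap u N) =
      tm A (𝟙 T) u ≫ (rhomHomEquiv T X N).symm g := by
    rw [adj_symm, adj_symm, tm_comp_left, Category.assoc, rhom_map_ev, tm_exchange_assoc]
  change rhomHomEquiv X' T N (br X' T ≫ (rhomHomEquiv T X' N).symm (g ≫ RHomMap u N)) =
    u ≫ rhomHomEquiv X T N (br X T ≫ (rhomHomEquiv T X N).symm g)
  rw [h1, ← Category.assoc, ← br_nat, Category.assoc]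
  exact (rhomAdj A T).homEquiv_naturality_left u _

variable {I : Type u} {E : I → Dual.D A} (cf : Cofan E) (hcf : IsColimit cf) (N : Dual.D A)

/-- the fan `RHom(∐ E_i, N) ⟶ RHom(E_i, N)` -/
noncomputable def rhomFan : Fan (fun i => (RHomR A (E i)).obj N) :=
  Fan.mk ((RHomR A cf.pt).obj N) (fun i => RHomMap (cf.inj i) N)

/-- `RHom(-, N)` turns coproducts into products -/
noncomputable def isLimitRhomFan : IsLimit (rhomFan cf N) :=
  Fan.IsLimit.mk _
    (fun s => (σ s.pt cf.pt N).symm
      (Cofan.IsColimit.desc hcf (fun i => σ s.pt (E i) N (s.proj i))))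
    (fun s i => by
      apply (σ s.pt (E i) N).injective
      change σ s.pt (E i) N (_ ≫ RHomMap (cf.inj i) N) = _
      rw [σ_nat, Equiv.apply_symm_apply, Cofan.IsColimit.fac])
    (fun s m hm => by
      apply (σ s.pt cf.pt N).injective
      rw [Equiv.apply_symm_apply]
      refine Cofan.IsColimit.hom_ext hcf _ _ (fun i => ?_)
      rw [Cofan.IsColimit.fac, ← σ_nat]
      congr 1
      exact hm i)

end selfadj

/-! ### contravariant dévissage over all of `D(R)` -/

section gen

variable {R : Type u} [CommRing R] {D : Type*} [Category D] [Preadditive D]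
  {G G' : (Dual.D R)ᵒᵖ ⥤ D} [G.PreservesZeroMorphisms] [G'.PreservesZeroMorphisms]

theorem isIso_app_of_generation (hG : HomExactOp G) (hG' : HomExactOp G') (τ : G ⟶ G')
    (h₀ : ∀ j : ℤ, IsIso (τ.app (op ((Dual.inD R R)⟦j⟧))))
    (hprod : ∀ (I : Type u) (E : I → Dual.D R) (cf : Cofan E) (_ : IsColimit cf),
      (∀ i, IsIso (τ.app (op (E i)))) → IsIso (τ.app (op cf.pt)))
    (K : Dual.D R) : IsIso (τ.app (op K)) := by
  let 𝒮 : Dual.D R → Prop := fun K => ∀ j : ℤ, IsIso (τ.app (op (K⟦j⟧)))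
  have hiso : ∀ {X Y : Dual.D R}, (X ≅ Y) → 𝒮 X → 𝒮 Y := fun e hX j =>
    ContraExact.isIso_app_of_iso τ ((shiftFunctor (Dual.D R) j).mapIso e) (hX j)
  have hshift : ∀ (K : Dual.D R) (n : ℤ), 𝒮 K → 𝒮 ((shiftFunctor (Dual.D R) n).obj K) := by
    intro K n hK j
    exact ContraExact.isIso_app_of_iso τ
      ((shiftFunctorAdd' (Dual.D R) n j (n + j) rfl).app K) (hK (n + j))
  have hext : ∀ T : Triangle (Dual.D R), T ∈ distTriang (Dual.D R) → 𝒮 T.obj₁ → 𝒮 T.obj₃ →
      𝒮 T.obj₂ := by
    intro Tr hTr h1 h3 j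
    have hT' := Triangle.shift_distinguished _ (inv_rot_of_distTriang _ hTr) j
    refine ContraExact.isIso_app_obj₃ hG hG' τ _ hT' ?_ ?_ ?_ ?_
    · exact hshift _ (-1) h3 j
    · exact h1 j
    · exact hshift _ j (hshift _ (-1) h3) 1
    · exact hshift _ j h1 1
  have hcoprod : ∀ (I : Type u) (E : I → Dual.D R) (cf : Cofan (Cpt.fam E)) (_ : IsColimit cf),
      (∀ i, 𝒮 (E i)) → 𝒮 cf.pt := by
    intro I E cf hcf hE j
    have hcf₁ : IsColimit (Cofan.mk cf.pt (fun i => cf.inj ⟨i⟩) : Cofan E) := Cofan.IsColimit.mk _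
      (fun s => Cofan.IsColimit.desc hcf (fun i : ULift.{u + 1} I => s.inj i.down))
      (fun s i => Cofan.IsColimit.fac hcf _ ⟨i⟩)
      (fun s m hm => Cofan.IsColimit.hom_ext hcf _ _ (fun i => by
        rw [Cofan.IsColimit.fac]; exact hm i.down))
    have hcf' := isColimitCofanMkObjOfIsColimit (shiftFunctor (Dual.D R) j) E _ hcf₁
    exact hprod I _ _ hcf' (fun i => hE i j)
  have main := Gen.generation 𝒮 hiso h₀ hshift hext hcoprod K
  exact ContraExact.isIso_app_of_iso τ ((shiftFunctorZero (Dual.D R) ℤ).app K) (main 0)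

end gen

/-! ### the main theorem -/

section main

variable {R R' : Type u} [CommRing R] [CommRing R'] (φ : R →+* R')
  [HasLTen R] [HasLTen R'] [HasLBase φ] [HasResTen φ] [ResLegIso φ] [HasRHom R] [HasRHom R']

/-- **base change for derived hom along a perfect algebra** -/
theorem isIso_bcRHom_of_perfect_algebra
    (hperf : DRing.IsPerfect R (DerivedCategory.Q.obj (BcA.X₀ φ))) (K M : Dual.D R) :
    IsIso (bcRHom φ K M) := by
  have h := isIso_app_of_generation (homExactOp_G₁ φ M) (homExactOp_G₂ φ M) (τ φ M)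
    (fun j => by
      change IsIso (bcRHom φ ((unit R)⟦j⟧) M)
      exact isIso_bcRHom_of_isEquivalence φ _ M)
    (fun I E cf hcf hE => by
      change IsIso (bcRHom φ cf.pt M)
      haveI : ∀ i, IsIso (bcRHom φ (E i) M) := hE
      have hl₁ : IsLimit (rhomFan cf M) := isLimitRhomFan cf hcf M
      haveI := BcB.preservesLimit_LBase φ hperf (fun i => (RHomR R (E i)).obj M)
      have hL₁ := isLimitFanMkObjOfIsLimit (LBase φ) _ _ hl₁
      haveI : PreservesColimitsOfSize.{u, u} (LBase φ) :=
        (baseAdj φ).leftAdjoint_preservesColimits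
      have hcL := isColimit_map_cofan (LBase φ) cf hcf
      have hL₂ := isLimitRhomFan _ hcL ((LBase φ).obj M)
      exact isIso_of_isLimit_fans _ hL₁ _ hL₂ (bcRHom φ cf.pt M) (fun i => bcRHom φ (E i) M)
        (fun i => (bcRHom_nat φ (cf.inj i) M).symm)) K
  exact h

end main

end BcC

end Groth.Agent.Lib.Helper18.DR
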