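import Mathlib
import Groth.Agent.Lib.Helper18.HomCxG

/-!
# `Hom•(-, L)` preserves homotopies; unit and shift isomorphisms (helper18)
-/

set_option autoImplicit false
set_option linter.style.haveILetI false
universe u
open CategoryTheory CategoryTheory.Limits MonoidalCategory HomologicalComplex
  CochainComplex.HomComplex

namespace Groth.Agent.Lib.Helper18.DR

namespace HomCx

variable {A : Type u} [CommRing A] {K K' L : DRing.Cx A}

/-- precomposition with a cochain of degree `n`, as a linear map on cochains -/
noncomputable def compLeftLinN {n : ℤ} (c : Cochain K' K n) (L : DRing.Cx A) (p q : ℤ)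
    (h : n + p = q) : Cochain K L p →ₗ[A] Cochain K' L q where
  toFun z := c.comp z h
  map_add' z z' := by simp
  map_smul' a z := by simp

/-- the cochain of degree `-1` on Hom complexes induced by a cochain of degree `-1` -/
noncomputable def precompCochain (γ : Cochain K' K (-1)) (L : DRing.Cx A) :
    Cochain (DRing.homCx K L) (DRing.homCx K' L) (-1) :=
  Cochain.mk (fun p q hpq =>
    ModuleCat.ofHom (p.negOnePow • compLeftLinN γ L p q (by omega)))

lemma δ_precompCochain (γ : Cochain K' K (-1)) (f f' : K' ⟶ K) (L : DRing.Cx A)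
    (hγ : Cochain.ofHom f = δ (-1) 0 γ + Cochain.ofHom f') :
    Cochain.ofHom (precomp f L) =
      δ (-1) 0 (precompCochain γ L) + Cochain.ofHom (precomp f' L) := by
  refine Cochain.ext _ _ (fun p q hpq => ?_)
  obtain rfl : p = q := by omega
  rw [Cochain.add_v, Cochain.ofHom_v, Cochain.ofHom_v,
    δ_v (-1) 0 (by norm_num) _ p p (by omega) (p - 1) (p + 1) rfl rfl,
    Int.negOnePow_zero, one_smul]
  refine ModuleCat.hom_ext (LinearMap.ext fun (z : Cochain K L p) => ?_)
  change (Cochain.ofHom f).comp z (zero_add p) =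
    δ (p - 1) p (p.negOnePow • γ.comp z (by omega)) +
      (p + 1).negOnePow • γ.comp (δ p (p + 1) z) (by omega) +
      (Cochain.ofHom f').comp z (zero_add p)
  rw [hγ, Cochain.add_comp, δ_units_smul,
    δ_comp γ z (show (-1 : ℤ) + p = p - 1 by omega) 0 (p + 1) p (by omega) (by norm_num) rfl,
    smul_add, smul_smul, Int.units_mul_self, one_smul, Int.negOnePow_succ, Units.neg_smul]
  abel

/-- `Hom•(-, L)` preserves homotopies -/
noncomputable def precompHomotopy {f f' : K' ⟶ K} (h : Homotopy f f') (L : DRing.Cx A) :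
    Homotopy (precomp f L) (precomp f' L) :=
  (Cochain.equivHomotopy _ _).symm ⟨precompCochain (Cochain.equivHomotopy _ _ h).1 L,
    δ_precompCochain _ _ _ L (Cochain.equivHomotopy _ _ h).2⟩

/-- `Hom•(-, L)` preserves homotopy equivalences -/
noncomputable def precompHomotopyEquiv (e : HomotopyEquiv K' K) (L : DRing.Cx A) :
    HomotopyEquiv (DRing.homCx K L) (DRing.homCx K' L) where
  hom := precomp e.hom L
  inv := precomp e.inv L
  homotopyHomInvId :=
    (Homotopy.ofEq (precomp_comp e.inv e.hom L).symm).trans
      ((precompHomotopy e.homotopyInvHomId L).trans (Homotopy.ofEq (precomp_id L)))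
  homotopyInvHomId :=
    (Homotopy.ofEq (precomp_comp e.hom e.inv L).symm).trans
      ((precompHomotopy e.homotopyHomInvId L).trans (Homotopy.ofEq (precomp_id L)))

/-- `Hom•(-, L)` preserves isomorphisms -/
noncomputable def precompIso (e : K' ≅ K) (L : DRing.Cx A) :
    DRing.homCx K L ≅ DRing.homCx K' L where
  hom := precomp e.hom L
  inv := precomp e.inv L
  hom_inv_id := by rw [← precomp_comp, e.inv_hom_id, precomp_id]
  inv_hom_id := by rw [← precomp_comp, e.hom_inv_id, precomp_id]

/-- `Hom•(𝟙, K) ≅ K` -/
noncomputable def homCxUnitIso (K : DRing.Cx A) : DRing.homCx (𝟙_ (DRing.Cx A)) K ≅ K where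
  hom := (ρ_ _).inv ≫ evCx (𝟙_ (DRing.Cx A)) K
  inv := curryHom (ρ_ K).hom
  hom_inv_id := by
    have hinj : Function.Injective
        (uncurryHom (X := DRing.homCx (𝟙_ (DRing.Cx A)) K) (K := 𝟙_ (DRing.Cx A)) (L := K)) :=
      fun a b h => by rw [← curryHom_uncurryHom a, h, curryHom_uncurryHom]
    apply hinj
    rw [uncurryHom_eq, MonoidalCategory.comp_whiskerRight, Category.assoc, ← uncurryHom_eq,
      uncurryHom_curryHom, rightUnitor_naturality, Iso.hom_inv_id_assoc,
      uncurryHom_eq, MonoidalCategory.id_whiskerRight, Category.id_comp]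
  inv_hom_id := by
    rw [← Category.assoc, rightUnitor_inv_naturality, Category.assoc, ← uncurryHom_eq,
      uncurryHom_curryHom, Iso.inv_hom_id]

end HomCx

end Groth.Agent.Lib.Helper18.DR
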