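import Mathlib
import Groth.Agent.Lib.Helper18.HomCxJ

/-!
# Cochains into the unit complex; the dual of a strictly perfect complex is strictly perfect
(helper18)
-/

set_option autoImplicit false
set_option linter.style.haveILetI false
universe u
open CategoryTheory CategoryTheory.Limits MonoidalCategory HomologicalComplex
  CochainComplex.HomComplex

namespace Groth.Agent.Lib.Helper18.DR

namespace Du

open HomCx

variable {A : Type u} [CommRing A]

/-- the degree zero term of the unit complex is `A` -/
noncomputable def uEquiv : ((𝟙_ (DRing.Cx A) : DRing.Cx A).X 0 : Type u) ≃ₗ[A] A :=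
  (HomologicalComplex.singleObjXSelf (ComplexShape.up ℤ) 0
    (𝟙_ (ModuleCat.{u} A))).toLinearEquiv

lemma isZero_unit_X (q : ℤ) (hq : q ≠ 0) : IsZero ((𝟙_ (DRing.Cx A) : DRing.Cx A).X q) :=
  HomologicalComplex.isZero_single_obj_X (ComplexShape.up ℤ) 0 _ q hq

variable (K : DRing.Cx A)

/-- a cochain of degree `n` into the unit complex gives a linear form on the term of degree `-n` -/
noncomputable def dualLin (n p : ℤ) (h : p + n = 0) :
    ((DRing.homCx K (𝟙_ (DRing.Cx A))).X n) →ₗ[A] Module.Dual A (K.X p) :=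
  (LinearEquiv.congrRight (uEquiv (A := A))).toLinearMap.comp
    (evL K (𝟙_ (DRing.Cx A)) n p 0 h)

lemma dualLin_apply (n p : ℤ) (h : p + n = 0) (w : (DRing.homCx K (𝟙_ (DRing.Cx A))).X n)
    (k : K.X p) :
    dualLin K n p h w k = uEquiv (evL K (𝟙_ (DRing.Cx A)) n p 0 h w k) := rfl

lemma dualLin_injective (n p : ℤ) (h : p + n = 0) : Function.Injective (dualLin K n p h) := by
  rw [injective_iff_map_eq_zero]
  intro w hw
  have h0 : evL K (𝟙_ (DRing.Cx A)) n p 0 h w = 0 := by
    apply LinearMap.ext
    intro k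
    apply (uEquiv (A := A)).injective
    rw [LinearMap.zero_apply, map_zero]
    exact LinearMap.congr_fun hw k
  apply (toCochain K (𝟙_ (DRing.Cx A)) n).injective
  rw [map_zero]
  refine Cochain.ext _ _ (fun p' q hpq => ?_)
  by_cases hq : q = 0
  · subst hq
    obtain rfl : p' = p := by omega
    apply ModuleCat.hom_ext
    apply LinearMap.ext
    intro k
    exact LinearMap.congr_fun h0 k
  · exact (isZero_unit_X q hq).eq_of_tgt _ _

lemma dualLin_surjective (n p : ℤ) (h : p + n = 0) : Function.Surjective (dualLin K n p h) := by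
  intro f
  let g : K.X p ⟶ (𝟙_ (DRing.Cx A) : DRing.Cx A).X 0 :=
    ModuleCat.ofHom ((uEquiv (A := A)).symm.toLinearMap.comp f)
  refine ⟨(toCochain K (𝟙_ (DRing.Cx A)) n).symm (Cochain.single g n), ?_⟩
  apply LinearMap.ext
  intro k
  rw [dualLin_apply, evL_apply, LinearEquiv.apply_symm_apply,
    Cochain.single_v g n h]
  change uEquiv ((uEquiv (A := A)).symm (f k)) = f k
  rw [LinearEquiv.apply_symm_apply]

/-- the terms of the dual complex are the duals of the terms -/
noncomputable def dualEquiv (n p : ℤ) (h : p + n = 0) :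
    ((DRing.homCx K (𝟙_ (DRing.Cx A))).X n) ≃ₗ[A] Module.Dual A (K.X p) :=
  LinearEquiv.ofBijective (dualLin K n p h) ⟨dualLin_injective K n p h, dualLin_surjective K n p h⟩

lemma dualEquiv_apply (n p : ℤ) (h : p + n = 0) (w : (DRing.homCx K (𝟙_ (DRing.Cx A))).X n)
    (k : K.X p) :
    dualEquiv K n p h w k = uEquiv (evL K (𝟙_ (DRing.Cx A)) n p 0 h w k) := rfl

/-- the dual of a complex vanishing outside `[a, b]` vanishes outside `[-b, -a]` -/
theorem vanishesOutside_dual (a b : ℤ) (hK : DRing.VanishesOutside K a b) :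
    DRing.VanishesOutside (DRing.homCx K (𝟙_ (DRing.Cx A))) (-b) (-a) := by
  intro n hn
  have hz : IsZero (K.X (-n)) := hK (-n) (by omega)
  haveI : Subsingleton (K.X (-n)) := ModuleCat.subsingleton_of_isZero hz
  haveI : Subsingleton (Module.Dual A (K.X (-n))) :=
    ⟨fun f g => LinearMap.ext fun k => by rw [Subsingleton.elim k 0, map_zero, map_zero]⟩
  haveI : Subsingleton ((DRing.homCx K (𝟙_ (DRing.Cx A))).X n) :=
    (dualEquiv K n (-n) (by omega)).toEquiv.subsingleton
  exact ModuleCat.isZero_of_subsingleton _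

/-- the dual of a termwise finite projective complex is termwise finite projective -/
theorem termwiseFiniteProjective_dual (hK : DRing.TermwiseFiniteProjective K) :
    DRing.TermwiseFiniteProjective (DRing.homCx K (𝟙_ (DRing.Cx A))) := by
  intro n
  haveI := (hK (-n)).1
  haveI := (hK (-n)).2
  exact ⟨Module.Finite.equiv (dualEquiv K n (-n) (by omega)).symm,
    Module.Projective.of_equiv (dualEquiv K n (-n) (by omega)).symm⟩

end Du

end Groth.Agent.Lib.Helper18.DR
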