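import Mathlib
import Groth.Agent.Lib.Helper18.HomCxJ

/-!
# The canonical map `P ⊗ Hom•(E, L) ⟶ Hom•(E, P ⊗ L)` (helper18)

Formal properties: naturality in `E` and `L`, the unit case, and compatibility with evaluation
at a "point" `𝟙 ⟶ E`.
-/

set_option autoImplicit false
set_option linter.style.haveILetI false
universe u
open CategoryTheory CategoryTheory.Limits MonoidalCategory HomologicalComplex
  CochainComplex.HomComplex

namespace Groth.Agent.Lib.Helper18.DR

namespace Psi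

open HomCx

variable {A : Type u} [CommRing A] {X X' K K' L L' : DRing.Cx A}

/-! ## naturality of uncurrying in the target -/

lemma uncComp_postcomp (g : L ⟶ L') {n : ℤ} (z : Cochain X (DRing.homCx K L) n)
    (p p' q m : ℤ) (hp : p + n = p') (hq : q + p' = m) :
    uncComp (z.comp (Cochain.ofHom (DRing.homCxMap K g)) (add_zero n)) p p' q m hp hq =
      uncComp z p p' q m hp hq ≫ g.f m := by
  refine ModuleCat.hom_ext (TensorProduct.ext' (fun x k => ?_))
  have e : (uncComp z p p' q m hp hq ≫ g.f m).hom (x ⊗ₜ[A] k) =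
      (g.f m).hom ((uncComp z p p' q m hp hq).hom (x ⊗ₜ[A] k)) := rfl
  rw [e, uncComp_tmul', uncComp_tmul', Cochain.comp_zero_cochain_v, Cochain.ofHom_v,
    ModuleCat.hom_comp, LinearMap.comp_apply, evL_apply, evL_apply]
  change (((toCochain K L p' ((z.v p p' hp).hom x)).comp (Cochain.ofHom g) (add_zero p')).v q m hq).hom k = _
  rw [Cochain.comp_zero_cochain_v, Cochain.ofHom_v, ModuleCat.hom_comp, LinearMap.comp_apply]

lemma unc_postcomp (g : L ⟶ L') {n : ℤ} (z : Cochain X (DRing.homCx K L) n) :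
    unc (z.comp (Cochain.ofHom (DRing.homCxMap K g)) (add_zero n)) =
      (unc z).comp (Cochain.ofHom g) (add_zero n) := by
  refine cochain_tensor_ext _ _ (fun p q m m' hpq hm => ?_)
  rw [ι_unc_v _ p (p + n) q m m' hpq hm rfl, uncComp_postcomp, Cochain.comp_zero_cochain_v,
    Cochain.ofHom_v, ← Category.assoc, ι_unc_v _ p (p + n) q m m' hpq hm rfl]

lemma uncurryHom_injective :
    Function.Injective (uncurryHom : (X ⟶ DRing.homCx K L) → (X ⊗ K ⟶ L)) :=
  fun a b h => by rw [← curryHom_uncurryHom a, h, curryHom_uncurryHom]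

lemma uncurryHom_comp_homCxMap (t : X ⟶ DRing.homCx K L) (g : L ⟶ L') :
    uncurryHom (t ≫ DRing.homCxMap K g) = uncurryHom t ≫ g := by
  apply Cochain.ofHom_injective
  rw [ofHom_uncurryHom, Cochain.ofHom_comp, unc_postcomp, Cochain.ofHom_comp, ofHom_uncurryHom]

lemma uncurryHom_comp_left (a : X' ⟶ X) (t : X ⟶ DRing.homCx K L) :
    uncurryHom (a ≫ t) = (a ▷ K) ≫ uncurryHom t := by
  rw [uncurryHom_eq, uncurryHom_eq, MonoidalCategory.comp_whiskerRight, Category.assoc]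

lemma uncurryHom_comp_precomp (t : X ⟶ DRing.homCx K L) (b : K' ⟶ K) :
    uncurryHom (t ≫ precomp b L) = (X ◁ b) ≫ uncurryHom t := by
  rw [uncurryHom_eq, uncurryHom_eq, MonoidalCategory.comp_whiskerRight, Category.assoc,
    evCx_dinatural, ← Category.assoc, ← Category.assoc, MonoidalCategory.whisker_exchange]

/-- naturality of the evaluation in the target -/
lemma evCx_natural (K : DRing.Cx A) (g : L ⟶ L') :
    (DRing.homCxMap K g ▷ K) ≫ evCx K L' = evCx K L ≫ g := by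
  have h := uncurryHom_comp_homCxMap (𝟙 (DRing.homCx K L)) g
  rw [Category.id_comp, uncurryHom_eq] at h
  rw [h]
  rfl

/-- `Hom•(-, -)` is a bifunctor -/
lemma precomp_homCxMap (b : K' ⟶ K) (g : L ⟶ L') :
    precomp b L ≫ DRing.homCxMap K' g = DRing.homCxMap K g ≫ precomp b L' := by
  ext n : 1
  refine ModuleCat.hom_ext (LinearMap.ext fun (z : Cochain K L n) => ?_)
  change ((Cochain.ofHom b).comp z (zero_add n)).comp (Cochain.ofHom g) (add_zero n) =
    (Cochain.ofHom b).comp (z.comp (Cochain.ofHom g) (add_zero n)) (zero_add n)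
  rw [Cochain.comp_assoc_of_first_is_zero_cochain]

/-! ## the map `Ψ` -/

/-- the canonical map `P ⊗ Hom•(E, L) ⟶ Hom•(E, P ⊗ L)` -/
noncomputable def Ψ (E P L : DRing.Cx A) : P ⊗ DRing.homCx E L ⟶ DRing.homCx E (P ⊗ L) :=
  curryHom ((α_ P (DRing.homCx E L) E).hom ≫ (P ◁ evCx E L))

lemma uncurryHom_Ψ (E P L : DRing.Cx A) :
    uncurryHom (Ψ E P L) = (α_ P (DRing.homCx E L) E).hom ≫ (P ◁ evCx E L) :=
  uncurryHom_curryHom _

/-- naturality of `Ψ` in `E` -/
lemma Ψ_nat_E {E E' : DRing.Cx A} (b : E' ⟶ E) (P L : DRing.Cx A) :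
    Ψ E P L ≫ precomp b (P ⊗ L) = (P ◁ precomp b L) ≫ Ψ E' P L := by
  apply uncurryHom_injective
  rw [uncurryHom_comp_precomp, uncurryHom_comp_left, uncurryHom_Ψ, uncurryHom_Ψ,
    MonoidalCategory.associator_naturality_middle_assoc, ← MonoidalCategory.whiskerLeft_comp,
    evCx_dinatural, MonoidalCategory.whiskerLeft_comp,
    ← MonoidalCategory.associator_naturality_right_assoc]

/-- naturality of `Ψ` in `L` -/
lemma Ψ_nat_L (E P : DRing.Cx A) {L L' : DRing.Cx A} (g : L ⟶ L') :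
    Ψ E P L ≫ DRing.homCxMap E (P ◁ g) = (P ◁ DRing.homCxMap E g) ≫ Ψ E P L' := by
  apply uncurryHom_injective
  rw [uncurryHom_comp_homCxMap, uncurryHom_comp_left, uncurryHom_Ψ, uncurryHom_Ψ,
    MonoidalCategory.associator_naturality_middle_assoc, ← MonoidalCategory.whiskerLeft_comp,
    evCx_natural, MonoidalCategory.whiskerLeft_comp, Category.assoc]

/-- the unit case -/
lemma Ψ_unit (P L : DRing.Cx A) :
    Ψ (𝟙_ (DRing.Cx A)) P L ≫ (homCxUnitIso (P ⊗ L)).hom = P ◁ (homCxUnitIso L).hom := by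
  change Ψ (𝟙_ (DRing.Cx A)) P L ≫ (ρ_ _).inv ≫ evCx (𝟙_ (DRing.Cx A)) (P ⊗ L) =
    P ◁ ((ρ_ _).inv ≫ evCx (𝟙_ (DRing.Cx A)) L)
  rw [← Category.assoc, MonoidalCategory.rightUnitor_inv_naturality, Category.assoc,
    ← uncurryHom_eq, uncurryHom_Ψ, MonoidalCategory.whiskerLeft_comp, ← Category.assoc]
  congr 1
  rw [MonoidalCategory.rightUnitor_tensor_inv, Category.assoc, Iso.inv_hom_id, Category.comp_id]

instance isIso_Ψ_unit (P L : DRing.Cx A) : IsIso (Ψ (𝟙_ (DRing.Cx A)) P L) := by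
  have h := Ψ_unit P L
  have h2 : Ψ (𝟙_ (DRing.Cx A)) P L =
      (P ◁ (homCxUnitIso L).hom) ≫ (homCxUnitIso (P ⊗ L)).inv := by
    rw [← h, Category.assoc, Iso.hom_inv_id, Category.comp_id]
  rw [h2]
  infer_instance

/-! ## evaluation at a point -/

/-- evaluation of `Hom•(K, L)` at a "point" `𝟙 ⟶ K` -/
noncomputable def evAt (â : 𝟙_ (DRing.Cx A) ⟶ K) (L : DRing.Cx A) : DRing.homCx K L ⟶ L :=
  precomp â L ≫ (homCxUnitIso L).hom

lemma homCxUnitIso_hom_natural (g : L ⟶ L') :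
    DRing.homCxMap (𝟙_ (DRing.Cx A)) g ≫ (homCxUnitIso L').hom = (homCxUnitIso L).hom ≫ g := by
  change DRing.homCxMap (𝟙_ (DRing.Cx A)) g ≫ (ρ_ _).inv ≫ evCx (𝟙_ (DRing.Cx A)) L' =
    ((ρ_ _).inv ≫ evCx (𝟙_ (DRing.Cx A)) L) ≫ g
  rw [← Category.assoc, MonoidalCategory.rightUnitor_inv_naturality, Category.assoc, evCx_natural,
    Category.assoc]

lemma evAt_natural (â : 𝟙_ (DRing.Cx A) ⟶ K) (g : L ⟶ L') :
    DRing.homCxMap K g ≫ evAt â L' = evAt â L ≫ g := by
  rw [evAt, evAt, ← Category.assoc, ← precomp_homCxMap, Category.assoc, homCxUnitIso_hom_natural,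
    Category.assoc]

lemma Ψ_evAt (â : 𝟙_ (DRing.Cx A) ⟶ K) (P L : DRing.Cx A) :
    Ψ K P L ≫ evAt â (P ⊗ L) = P ◁ evAt â L := by
  rw [evAt, evAt, ← Category.assoc, Ψ_nat_E, Category.assoc, Ψ_unit,
    ← MonoidalCategory.whiskerLeft_comp]

lemma evAt_precomp (b : K' ⟶ K) (â : 𝟙_ (DRing.Cx A) ⟶ K') (L : DRing.Cx A) :
    precomp b L ≫ evAt â L = evAt (â ≫ b) L := by
  rw [evAt, evAt, ← Category.assoc, ← precomp_comp]

end Psi

end Groth.Agent.Lib.Helper18.DR
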