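import Mathlib
import Groth.Agent.Lib.Helper18.PsiA
import Groth.Agent.Lib.Helper18.DuA
import Groth.Prelude.Def_DTen

/-!
# The swapped evaluation and the biduality map `K ⟶ Hom•(Hom•(K, 𝟙), 𝟙)` (helper18)
-/

set_option autoImplicit false
set_option linter.style.haveILetI false
universe u
open CategoryTheory CategoryTheory.Limits MonoidalCategory HomologicalComplex
  CochainComplex.HomComplex
open TensorProduct

namespace Groth.Agent.Lib.Helper18.DR

namespace Du

open HomCx Psi DTen

variable {A : Type u} [CommRing A] {K K' L : DRing.Cx A}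

/-! ## the braiding -/

lemma braid_whiskerRight (b : K' ⟶ K) (H : DRing.Cx A) :
    (b ▷ H) ≫ (braidCx K H).hom = (braidCx K' H).hom ≫ (H ◁ b) := by
  have h := braidCx_naturality b (𝟙 H)
  rwa [MonoidalCategory.tensorHom_id, MonoidalCategory.id_tensorHom] at h

lemma braid_whiskerLeft (K : DRing.Cx A) {H H' : DRing.Cx A} (g : H ⟶ H') :
    (K ◁ g) ≫ (braidCx K H').hom = (braidCx K H).hom ≫ (g ▷ K) := by
  have h := braidCx_naturality (𝟙 K) g
  rwa [MonoidalCategory.id_tensorHom, MonoidalCategory.tensorHom_id] at h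

/-- the braiding is an involution -/
lemma braid_braid (K H : DRing.Cx A) : (braidCx K H).hom ≫ (braidCx H K).hom = 𝟙 _ := by
  refine HomologicalComplex.hom_ext _ _ (fun n =>
    HomologicalComplex.mapBifunctor.hom_ext (fun p q h => ?_))
  have h' : p + q = n := h
  rw [HomologicalComplex.comp_f, HomologicalComplex.id_f]
  erw [ι_braidCx_hom_assoc K H p q n h']
  rw [Linear.units_smul_comp, Category.assoc]
  erw [ι_braidCx_hom H K q p n (by omega)]
  rw [Linear.comp_units_smul, smul_smul, mul_comm q p, Int.units_mul_self, one_smul,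
    ← Category.assoc, SymmetricCategory.symmetry, Category.id_comp]
  erw [Category.comp_id]

/-! ## the swapped evaluation -/

variable (K L) in
/-- the swapped evaluation `K ⊗ Hom•(K, L) ⟶ L` -/
noncomputable def evSw : K ⊗ DRing.homCx K L ⟶ L :=
  (braidCx K (DRing.homCx K L)).hom ≫ evCx K L

lemma evSw_dinatural (b : K' ⟶ K) (L : DRing.Cx A) :
    (b ▷ DRing.homCx K L) ≫ evSw K L = (K' ◁ precomp b L) ≫ evSw K' L := by
  rw [evSw, evSw, ← Category.assoc, braid_whiskerRight, Category.assoc, ← evCx_dinatural,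
    ← Category.assoc, ← braid_whiskerLeft, Category.assoc]

variable (K) in
/-- the biduality map `K ⟶ Hom•(Hom•(K, 𝟙), 𝟙)` -/
noncomputable def bid : K ⟶ DRing.homCx (DRing.homCx K (𝟙_ (DRing.Cx A))) (𝟙_ (DRing.Cx A)) :=
  curryHom (evSw K (𝟙_ (DRing.Cx A)))

lemma uncurryHom_bid : uncurryHom (bid K) = evSw K (𝟙_ (DRing.Cx A)) := uncurryHom_curryHom _

/-- naturality of the biduality map -/
lemma bid_naturality (b : K' ⟶ K) :
    b ≫ bid K = bid K' ≫ precomp (precomp b (𝟙_ (DRing.Cx A))) (𝟙_ (DRing.Cx A)) := by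
  apply uncurryHom_injective
  rw [uncurryHom_comp_left, uncurryHom_comp_precomp, uncurryHom_bid, uncurryHom_bid,
    evSw_dinatural]

/-- the triangle identity -/
lemma bid_dual_comp (K : DRing.Cx A) :
    bid (DRing.homCx K (𝟙_ (DRing.Cx A))) ≫ precomp (bid K) (𝟙_ (DRing.Cx A)) = 𝟙 _ := by
  apply uncurryHom_injective
  rw [uncurryHom_comp_precomp, uncurryHom_bid, evSw, ← Category.assoc, braid_whiskerLeft,
    Category.assoc, ← uncurryHom_eq, uncurryHom_bid, evSw, ← Category.assoc, braid_braid,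
    Category.id_comp, uncurryHom_eq, MonoidalCategory.id_whiskerRight, Category.id_comp]

/-! ## elementwise formulas -/

lemma curryHom_apply {X : DRing.Cx A} (s : X ⊗ K ⟶ L) (p q m : ℤ) (h : p + q = m) (x : X.X p)
    (k : K.X q) :
    evL K L p q m (by omega) (((curryHom s).f p).hom x) k =
      (s.f m).hom ((ιMapBifunctor X K (curriedTensor (ModuleCat.{u} A)) (ComplexShape.up ℤ)
        p q m h).hom (x ⊗ₜ[A] k)) := by
  have h1 : (curryHom s).f p = (cur (Cochain.ofHom s)).v p p (add_zero p) := by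
    rw [← ofHom_curryHom, Cochain.ofHom_v]
  rw [h1, evL_apply, toCochain_cur_v, curLin_apply_v,
    compOf_eq (Cochain.ofHom s) p q m m h (add_zero m), Cochain.ofHom_v]
  rfl

lemma evCx_apply (p q m : ℤ) (h : q + p = m) (g : (DRing.homCx K L).X q) (x : K.X p) :
    ((evCx K L).f m).hom ((ιMapBifunctor (DRing.homCx K L) K (curriedTensor (ModuleCat.{u} A))
      (ComplexShape.up ℤ) q p m h).hom (g ⊗ₜ[A] x)) = evL K L q p m (by omega) g x := by
  have h3 : (evCx K L).f m =
      (unc (Cochain.ofHom (𝟙 (DRing.homCx K L)))).v m m (add_zero m) := by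
    rw [← ofHom_uncurryHom, Cochain.ofHom_v]
    rfl
  rw [h3]
  have h4 := unc_v_ι_tmul (Cochain.ofHom (𝟙 (DRing.homCx K L))) q q p m m h (add_zero m)
    (add_zero q) g x
  rw [Cochain.ofHom_v] at h4
  exact h4

lemma evSw_apply (p q m : ℤ) (h : p + q = m) (x : K.X p) (g : (DRing.homCx K L).X q) :
    ((evSw K L).f m).hom ((ιMapBifunctor K (DRing.homCx K L) (curriedTensor (ModuleCat.{u} A))
      (ComplexShape.up ℤ) p q m h).hom (x ⊗ₜ[A] g)) =
      (p * q).negOnePow • evL K L q p m (by omega) g x := by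
  have h1 : ιMapBifunctor K (DRing.homCx K L) (curriedTensor (ModuleCat.{u} A))
      (ComplexShape.up ℤ) p q m h ≫ (evSw K L).f m =
      (p * q).negOnePow • ((β_ (K.X p) ((DRing.homCx K L).X q)).hom ≫
        ιMapBifunctor (DRing.homCx K L) K (curriedTensor (ModuleCat.{u} A))
          (ComplexShape.up ℤ) q p m (show q + p = m by omega) ≫ (evCx K L).f m) := by
    rw [evSw, HomologicalComplex.comp_f]
    erw [ι_braidCx_hom_assoc K (DRing.homCx K L) p q m h]
    rw [Linear.units_smul_comp, Category.assoc]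
  have h2 := congrArg (fun f => f.hom (x ⊗ₜ[A] g)) h1
  refine h2.trans ?_
  rw [units_smul_hom_apply]
  congr 1
  exact evCx_apply p q m (by omega) g x

/-- the biduality map on elements: `bid(x)(g) = ± g(x)` -/
lemma bid_apply (p q m : ℤ) (h : p + q = m) (x : K.X p)
    (g : (DRing.homCx K (𝟙_ (DRing.Cx A))).X q) :
    evL (DRing.homCx K (𝟙_ (DRing.Cx A))) (𝟙_ (DRing.Cx A)) p q m (by omega)
        (((bid K).f p).hom x) g =
      (p * q).negOnePow • evL K (𝟙_ (DRing.Cx A)) q p m (by omega) g x := by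
  rw [bid, curryHom_apply _ p q m h, evSw_apply]

end Du

end Groth.Agent.Lib.Helper18.DR
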