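import Mathlib
import Groth.Agent.Lib.Helper18.DuB

/-!
# The biduality map `K ⟶ Hom•(Hom•(K, J), J)` for a general target `J` (helper18)
-/

set_option autoImplicit false
set_option linter.style.haveILetI false
universe u
open CategoryTheory CategoryTheory.Limits MonoidalCategory HomologicalComplex
  CochainComplex.HomComplex
open TensorProduct

namespace Groth.Agent.Lib.Helper18.DR

namespace Bi

open HomCx Psi DTen Du

variable {A : Type u} [CommRing A] {K K' : DRing.Cx A} (J : DRing.Cx A)

variable (K) in
/-- the biduality map `K ⟶ Hom•(Hom•(K, J), J)` -/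
noncomputable def bidL : K ⟶ DRing.homCx (DRing.homCx K J) J :=
  curryHom (evSw K J)

lemma uncurryHom_bidL : uncurryHom (bidL K J) = evSw K J := uncurryHom_curryHom _

/-- naturality of the biduality map -/
lemma bidL_naturality (b : K' ⟶ K) :
    b ≫ bidL K J = bidL K' J ≫ precomp (precomp b J) J := by
  apply uncurryHom_injective
  rw [uncurryHom_comp_left, uncurryHom_comp_precomp, uncurryHom_bidL, uncurryHom_bidL,
    evSw_dinatural]

/-- the biduality map on elements: `bid(x)(g) = ± g(x)` -/
lemma bidL_apply (p q m : ℤ) (h : p + q = m) (x : K.X p) (g : (DRing.homCx K J).X q) :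
    evL (DRing.homCx K J) J p q m (by omega) (((bidL K J).f p).hom x) g =
      (p * q).negOnePow • evL K J q p m (by omega) g x := by
  rw [bidL, curryHom_apply _ p q m h, evSw_apply]

end Bi

end Groth.Agent.Lib.Helper18.DR
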