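import Mathlib
import Groth.Agent.Lib.Helper18.HomCxG
import Groth.Prelude.Def_DRing2

/-!
# `Hom•(-, J)` is exact for `J` termwise injective (helper18)
-/

set_option autoImplicit false
set_option linter.style.haveILetI false
universe u
open CategoryTheory CategoryTheory.Limits MonoidalCategory HomologicalComplex
  CochainComplex.HomComplex

namespace Groth.Agent.Lib.Helper18.DR

namespace Bi

open HomCx

variable {A : Type u} [CommRing A]

/-- `Hom•(-, J)` sends short exact sequences of complexes to short exact sequences when `J` is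
termwise injective -/
theorem homCxSC_shortExact_of_injective (S : ShortComplex (DRing.Cx A)) (hS : S.ShortExact)
    (J : DRing.Cx A) (hJ : DRing.TermwiseInjective J) : (homCxSC S J).ShortExact := by
  have hSp : ∀ p : ℤ, (S.map (HomologicalComplex.eval _ _ p)).ShortExact := fun p =>
    hS.map_of_exact (HomologicalComplex.eval _ _ p)
  haveI hmono : ∀ p : ℤ, Mono (S.f.f p) := fun p => (hSp p).mono_f
  haveI hepi : ∀ p : ℤ, Epi (S.g.f p) := fun p => (hSp p).epi_g
  haveI hinj : ∀ q : ℤ, Injective (J.X q) := fun q =>
    haveI := hJ q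
    Module.injective_object_of_injective_module A (J.X q)
  refine HomologicalComplex.shortExact_of_degreewise_shortExact _ (fun n => ?_)
  have hmono' : Mono ((homCxSC S J).map (HomologicalComplex.eval _ _ n)).f := by
    rw [ModuleCat.mono_iff_injective]
    intro (z : Cochain S.X₃ J n) (z' : Cochain S.X₃ J n) hzz
    have hzz' : (Cochain.ofHom S.g).comp z (zero_add n) =
        (Cochain.ofHom S.g).comp z' (zero_add n) := hzz
    refine Cochain.ext _ _ (fun p q hpq => ?_)
    have h1 := congrArg (fun c : Cochain S.X₂ J n => c.v p q hpq) hzz'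
    simp only [Cochain.zero_cochain_comp_v, Cochain.ofHom_v] at h1
    exact (cancel_epi (S.g.f p)).1 h1
  have hepi' : Epi ((homCxSC S J).map (HomologicalComplex.eval _ _ n)).g := by
    rw [ModuleCat.epi_iff_surjective]
    intro (z : Cochain S.X₁ J n)
    refine ⟨(Cochain.mk (fun p q hpq => Injective.factorThru (z.v p q hpq) (S.f.f p)) :
      Cochain S.X₂ J n), ?_⟩
    change (Cochain.ofHom S.f).comp _ (zero_add n) = z
    refine Cochain.ext _ _ (fun p q hpq => ?_)
    simp only [Cochain.zero_cochain_comp_v, Cochain.ofHom_v, Cochain.mk_v]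
    exact Injective.comp_factorThru _ _
  have hex : ((homCxSC S J).map (HomologicalComplex.eval _ _ n)).Exact := by
    rw [ShortComplex.ShortExact.moduleCat_exact_iff_function_exact]
    intro (z : Cochain S.X₂ J n)
    constructor
    · intro hz
      have hz' : (Cochain.ofHom S.f).comp z (zero_add n) = 0 := hz
      have hz'' : ∀ (p q : ℤ) (hpq : p + n = q),
          (S.map (HomologicalComplex.eval _ _ p)).f ≫ z.v p q hpq = 0 := by
        intro p q hpq
        have h1 := congrArg (fun c : Cochain S.X₁ J n => c.v p q hpq) hz'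
        simp only [Cochain.zero_cochain_comp_v, Cochain.ofHom_v, Cochain.zero_v] at h1
        exact h1
      haveI : ∀ p, Epi (S.map (HomologicalComplex.eval _ _ p)).g := fun p => (hSp p).epi_g
      refine ⟨(Cochain.mk (fun p q hpq => (hSp p).exact.desc (z.v p q hpq) (hz'' p q hpq)) :
        Cochain S.X₃ J n), ?_⟩
      change (Cochain.ofHom S.g).comp _ (zero_add n) = z
      refine Cochain.ext _ _ (fun p q hpq => ?_)
      simp only [Cochain.zero_cochain_comp_v, Cochain.ofHom_v, Cochain.mk_v]
      exact (hSp p).exact.g_desc _ _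
    · rintro ⟨(w : Cochain S.X₃ J n), rfl⟩
      change (Cochain.ofHom S.f).comp ((Cochain.ofHom S.g).comp w (zero_add n)) (zero_add n) = 0
      rw [← Cochain.comp_assoc_of_first_is_zero_cochain, ← Cochain.ofHom_comp, S.zero,
        Cochain.ofHom_zero, Cochain.zero_comp]
  exact { exact := hex, mono_f := hmono', epi_g := hepi' }

end Bi

end Groth.Agent.Lib.Helper18.DR
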