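import Mathlib
import Groth.Agent.Lib.Helper18.HomCxM
import Groth.Agent.Lib.Helper18.DRInj

/-!
# Cohomology of `Hom•(K, L)` for K-injective `L` is `Hom_{D(A)}(K, L[n])`, linearly (helper18)
-/

set_option autoImplicit false
set_option linter.style.haveILetI false
universe u
open CategoryTheory CategoryTheory.Limits CochainComplex CochainComplex.HomComplex

attribute [local instance] HasDerivedCategory.standard

namespace Groth.Agent.Lib.Helper18.DR

namespace Bi

open HomCxM

variable {A : Type u} [CommRing A] (K L : DRing.Cx A)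

lemma kerToHom_surjective_inj [L.IsKInjective] (n m : ℤ) (hnm : n + 1 = m) :
    Function.Surjective (kerToHom K L n m hnm) := by
  intro ξ
  obtain ⟨f, hf⟩ := exists_map_eq_inj K (L⟦n⟧) (ξ ≫ (DerivedCategory.Q.commShiftIso n).inv.app L)
  let w : (DRing.homCx K L).X n := ((Cocycle.equivHomShift f : Cocycle K L n) : Cochain K L n)
  have hz : w ∈ LinearMap.ker ((DRing.homCx K L).d n m).hom := by
    rw [LinearMap.mem_ker]
    exact Cocycle.δ_eq_zero _ _
  refine ⟨⟨w, hz⟩, ?_⟩
  have h1 : kerToCocycle K L n m hnm ⟨w, hz⟩ = Cocycle.equivHomShift f := Cocycle.ext rfl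
  rw [kerToHom_apply, h1, AddEquiv.symm_apply_apply, hf, Category.assoc, Iso.inv_hom_id_app]
  exact Category.comp_id _

lemma ker_kerToHom_inj [L.IsKInjective] (i n m : ℤ) (hin : i + 1 = n) (hnm : n + 1 = m) :
    LinearMap.ker (kerToHom K L n m hnm) = LinearMap.range (toCyc (DRing.homCx K L) i n m) := by
  ext z
  rw [LinearMap.mem_ker, LinearMap.mem_range, kerToHom_apply]
  constructor
  · intro h
    have h0 : DerivedCategory.Q.map
        (Cocycle.equivHomShift.symm (kerToCocycle K L n m hnm z)) = 0 := by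
      rw [← cancel_mono ((DerivedCategory.Q.commShiftIso n).hom.app L), h, zero_comp]
    obtain ⟨H⟩ := nonempty_homotopy_of_map_eq_inj K (L⟦n⟧) _ 0 (by rw [h0, Functor.map_zero])
    have h1 : CohomologyClass.toHom (CohomologyClass.mk (kerToCocycle K L n m hnm z)) = 0 := by
      rw [CohomologyClass.toHom_mk, HomotopyCategory.eq_of_homotopy _ _ H, Functor.map_zero]
    rw [CohomologyClass.toHom_mk_eq_zero_iff, mem_coboundaries_iff _ i hin] at h1
    obtain ⟨β, hβ⟩ := h1
    refine ⟨β, Subtype.ext ?_⟩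
    rw [toCyc_coe]
    exact hβ
  · rintro ⟨β, hβ⟩
    have h1 : CohomologyClass.toHom (CohomologyClass.mk (kerToCocycle K L n m hnm z)) = 0 := by
      rw [CohomologyClass.toHom_mk_eq_zero_iff, mem_coboundaries_iff _ i hin]
      refine ⟨β, ?_⟩
      have := congrArg Subtype.val hβ
      rw [toCyc_coe] at this
      exact this
    rw [CohomologyClass.toHom_mk] at h1
    have H : Homotopy (Cocycle.equivHomShift.symm (kerToCocycle K L n m hnm z)) 0 :=
      HomotopyCategory.homotopyOfEq _ _ (by rw [h1, Functor.map_zero])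
    rw [DerivedCategory.Q_map_eq_of_homotopy _ H, Functor.map_zero, zero_comp]

/-- **`H^n(Hom•(K, L)) ≃ Hom_{D(A)}(K, L[n])`** for K-injective `L`, `A`-linearly -/
noncomputable def homologyEquivInj [L.IsKInjective] (i n m : ℤ) (hin : i + 1 = n)
    (hnm : n + 1 = m) :
    (H A n).obj (DRing.toD (DRing.homCx K L)) ≃ₗ[A]
      (DerivedCategory.Q.obj K ⟶ (DerivedCategory.Q.obj L)⟦n⟧) :=
  (HtoDLinearEquiv' (DRing.homCx K L) i n m hin hnm).trans
    ((Submodule.quotEquivOfEq _ _ (ker_kerToHom_inj K L i n m hin hnm).symm).trans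
      (LinearMap.quotKerEquivOfSurjective _ (kerToHom_surjective_inj K L n m hnm)))

end Bi

end Groth.Agent.Lib.Helper18.DR
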