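import Mathlib
import Groth.Agent.Lib.Helper18.BiC
import Groth.Agent.Lib.Helper18.DRInjFin

/-!
# Amplitude of `Hom•(K, J)` for a bounded complex of injectives `J` (helper18)
-/

set_option autoImplicit false
set_option linter.style.haveILetI false
universe u
open CategoryTheory CategoryTheory.Limits CochainComplex CochainComplex.HomComplex

attribute [local instance] HasDerivedCategory.standard

namespace Groth.Agent.Lib.Helper18.DR

namespace Bi

variable {A : Type u} [CommRing A] (J : DRing.Cx A) (a b : ℤ)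
  (hJv : DRing.VanishesOutside J a b) (hJi : DRing.TermwiseInjective J)

include hJv hJi

lemma isKInjective_of_bdd : J.IsKInjective :=
  isKInjective_of_vanishesBelow J a (fun j hj => hJv j (Or.inl hj)) hJi

lemma subsingleton_hom_shift_of_isGE (X : Dual.D A) (m n : ℤ) [X.IsGE m] (h : b - n < m) :
    Subsingleton (X ⟶ (DRing.toD J)⟦n⟧) := by
  haveI : X.IsGE (b - n + 1) := DerivedCategory.TStructure.t.isGE_of_ge X (b - n + 1) m (by omega)
  refine ⟨fun f g => ?_⟩
  have hz : ∀ f : X ⟶ (DRing.toD J)⟦n⟧, f = 0 := by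
    intro f
    have h1 := hom_eq_zero_of_isGE_of_injAmp (J⟦n⟧) (a - n) (b - n) (vanishesOutside_shift hJv n)
      (fun i => hJi (i + n)) X (f ≫ (toDShiftIso J n).inv)
    rw [← cancel_mono (toDShiftIso J n).inv, h1, zero_comp]
  rw [hz f, hz g]

lemma subsingleton_hom_shift_of_isLE (X : Dual.D A) (m n : ℤ) [X.IsLE m] (h : m < a - n) :
    Subsingleton (X ⟶ (DRing.toD J)⟦n⟧) := by
  haveI : X.IsLE (a - n - 1) := DerivedCategory.TStructure.t.isLE_of_le X m (a - n - 1) (by omega)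
  refine ⟨fun f g => ?_⟩
  have hz : ∀ f : X ⟶ (DRing.toD J)⟦n⟧, f = 0 := by
    intro f
    have h1 := hom_eq_zero_of_isLE_of_injAmp (J⟦n⟧) (a - n) (b - n) (vanishesOutside_shift hJv n)
      (fun i => hJi (i + n)) X (f ≫ (toDShiftIso J n).inv)
    rw [← cancel_mono (toDShiftIso J n).inv, h1, zero_comp]
  rw [hz f, hz g]

/-- `K ∈ D^{≥ m}` implies `Hom•(K, J) ∈ D^{≤ b - m}` -/
lemma isLE_homCx_of_isGE (K : DRing.Cx A) (m : ℤ) [(DRing.toD K).IsGE m] :
    (DRing.toD (DRing.homCx K J)).IsLE (b - m) := by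
  haveI := isKInjective_of_bdd J a b hJv hJi
  rw [DerivedCategory.isLE_iff]
  intro i hi
  haveI : Subsingleton (DRing.toD K ⟶ (DRing.toD J)⟦i⟧) :=
    subsingleton_hom_shift_of_isGE J a b hJv hJi (DRing.toD K) m i (by omega)
  haveI : Subsingleton ((H A i).obj (DRing.toD (DRing.homCx K J))) :=
    (homologyEquivInj K J (i - 1) i (i + 1) (by omega) rfl).toEquiv.subsingleton
  exact ModuleCat.isZero_of_subsingleton _

/-- `K ∈ D^{≤ m}` implies `Hom•(K, J) ∈ D^{≥ a - m}` -/
lemma isGE_homCx_of_isLE (K : DRing.Cx A) (m : ℤ) [(DRing.toD K).IsLE m] :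
    (DRing.toD (DRing.homCx K J)).IsGE (a - m) := by
  haveI := isKInjective_of_bdd J a b hJv hJi
  rw [DerivedCategory.isGE_iff]
  intro i hi
  haveI : Subsingleton (DRing.toD K ⟶ (DRing.toD J)⟦i⟧) :=
    subsingleton_hom_shift_of_isLE J a b hJv hJi (DRing.toD K) m i (by omega)
  haveI : Subsingleton ((H A i).obj (DRing.toD (DRing.homCx K J))) :=
    (homologyEquivInj K J (i - 1) i (i + 1) (by omega) rfl).toEquiv.subsingleton
  exact ModuleCat.isZero_of_subsingleton _

/-- `K ∈ D^{≤ m}` implies `Hom•(Hom•(K, J), J) ∈ D^{≤ m + (b - a)}` -/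
lemma isLE_homCx_homCx_of_isLE (K : DRing.Cx A) (m : ℤ) [(DRing.toD K).IsLE m] :
    (DRing.toD (DRing.homCx (DRing.homCx K J) J)).IsLE (m + (b - a)) := by
  haveI := isGE_homCx_of_isLE J a b hJv hJi K m
  have h := isLE_homCx_of_isGE J a b hJv hJi (DRing.homCx K J) (a - m)
  have e : b - (a - m) = m + (b - a) := by ring
  rwa [e] at h

/-- `K ∈ D^{≥ m}` implies `Hom•(Hom•(K, J), J) ∈ D^{≥ m - (b - a)}` -/
lemma isGE_homCx_homCx_of_isGE (K : DRing.Cx A) (m : ℤ) [(DRing.toD K).IsGE m] :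
    (DRing.toD (DRing.homCx (DRing.homCx K J) J)).IsGE (m - (b - a)) := by
  haveI := isLE_homCx_of_isGE J a b hJv hJi K m
  have h := isGE_homCx_of_isLE J a b hJv hJi (DRing.homCx K J) (b - m)
  have e : a - (b - m) = m - (b - a) := by ring
  rwa [e] at h

end Bi

end Groth.Agent.Lib.Helper18.DR
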