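import Mathlib
import Groth.Agent.Lib.Helper18.HomCxG
import Groth.Agent.Lib.Helper18.DRHomSg
import Groth.Agent.Lib.Helper18.DRQis

/-!
# `Hom•(P, -)` preserves quasi-isomorphisms for `P` K-projective (helper18)
-/

set_option autoImplicit false
set_option linter.style.haveILetI false
universe u
open CategoryTheory CategoryTheory.Limits HomologicalComplex
  CochainComplex.HomComplex

attribute [local instance] HasDerivedCategory.standard

namespace Groth.Agent.Lib.Helper18.DR

namespace HomCx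

variable {A : Type u} [CommRing A]

section

variable (P : DRing.Cx A) [P.IsKProjective] {L L' : DRing.Cx A} (f : L ⟶ L') [QuasiIso f]

include f in
lemma isIso_Q_map_shift (n : ℤ) : IsIso (DerivedCategory.Q.map (f⟦n⟧')) := by
  haveI : QuasiIso (f⟦n⟧') := inferInstance
  infer_instance

lemma mem_coboundaries_of_postcomp {n : ℤ} (z : Cocycle P L n)
    (h : z.postcomp f ∈ coboundaries P L' n) : z ∈ coboundaries P L n := by
  rw [← CohomologyClass.toHom_mk_eq_zero_iff, CohomologyClass.toHom_mk,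
    HomotopyCategory.quotient_map_eq_zero_iff] at h ⊢
  rw [Cocycle.equivHomShift_symm_postcomp] at h
  obtain ⟨H⟩ := h
  have h1 := Q_map_eq_of_homotopy H
  haveI := isIso_Q_map_shift f n
  rw [Functor.map_comp, Functor.map_zero] at h1
  have h2 : DerivedCategory.Q.map (Cocycle.equivHomShift.symm z) = 0 := by
    rw [← cancel_mono (DerivedCategory.Q.map (f⟦n⟧')), h1, zero_comp]
  exact (Q_map_eq_zero_iff P _ _).1 h2

lemma exists_cocycle_postcomp {n : ℤ} (z' : Cocycle P L' n) :
    ∃ z : Cocycle P L n, z.postcomp f - z' ∈ coboundaries P L' n := by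
  haveI := isIso_Q_map_shift f n
  obtain ⟨y, hy⟩ := exists_map_eq P (L⟦n⟧)
    (DerivedCategory.Q.map (Cocycle.equivHomShift.symm z') ≫ inv (DerivedCategory.Q.map (f⟦n⟧')))
  have h1 : DerivedCategory.Q.map (y ≫ f⟦n⟧') =
      DerivedCategory.Q.map (Cocycle.equivHomShift.symm z') := by
    rw [Functor.map_comp, hy, Category.assoc, IsIso.inv_hom_id, Category.comp_id]
  obtain ⟨H⟩ := nonempty_homotopy_of_map_eq P _ _ _ h1
  refine ⟨Cocycle.equivHomShift y, ?_⟩
  rw [← CohomologyClass.toHom_mk_eq_zero_iff, CohomologyClass.mk_sub, map_sub,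
    CohomologyClass.toHom_mk, CohomologyClass.toHom_mk, Cocycle.equivHomShift_symm_postcomp,
    AddEquiv.symm_apply_apply, HomotopyCategory.eq_of_homotopy _ _ H, sub_self]

/-- **`Hom•(P, -)` preserves quasi-isomorphisms for `P` K-projective.** -/
theorem quasiIso_homCxMap : QuasiIso (DRing.homCxMap P f) := by
  rw [quasiIso_iff]
  intro n
  rw [quasiIsoAt_iff' (DRing.homCxMap P f) (n - 1) n (n + 1) (by simp)
    (by simp)]
  refine shortComplex_quasiIso_of_elementwise _ ?_ ?_
  · intro (x₂ : Cochain P L n) (hx₂ : δ n (n + 1) x₂ = 0) ⟨(y₁ : Cochain P L' (n - 1)), hy₁⟩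
    have hy₁' : δ (n - 1) n y₁ = x₂.comp (Cochain.ofHom f) (add_zero n) := hy₁
    let z : Cocycle P L n := Cocycle.mk x₂ (n + 1) rfl hx₂
    have hz : z.postcomp f ∈ coboundaries P L' n := by
      rw [mem_coboundaries_iff _ (n - 1) (by omega)]
      exact ⟨y₁, hy₁'⟩
    have := mem_coboundaries_of_postcomp P f z hz
    rw [mem_coboundaries_iff _ (n - 1) (by omega)] at this
    obtain ⟨β, hβ⟩ := this
    exact ⟨β, hβ⟩
  · intro (y₂ : Cochain P L' n) (hy₂ : δ n (n + 1) y₂ = 0)
    let z' : Cocycle P L' n := Cocycle.mk y₂ (n + 1) rfl hy₂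
    obtain ⟨z, hz⟩ := exists_cocycle_postcomp P f z'
    rw [mem_coboundaries_iff _ (n - 1) (by omega)] at hz
    obtain ⟨β, hβ⟩ := hz
    refine ⟨(z.1 : Cochain P L n), β, ?_, ?_⟩
    · exact z.δ_eq_zero (n + 1)
    · change z.1.comp (Cochain.ofHom f) (add_zero n) = y₂ + δ (n - 1) n β
      rw [hβ]
      change _ = y₂ + (z.1.comp (Cochain.ofHom f) (add_zero n) - y₂)
      abel

end

/-- `Hom•(P, -) ⋙ Q` inverts quasi-isomorphisms for `P` K-projective -/
lemma homCxQ_inverts (P : DRing.Cx A) [P.IsKProjective] :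
    (HomologicalComplex.quasiIso (ModuleCat.{u} A) (ComplexShape.up ℤ)).IsInvertedBy
      (DRing.homCxQ P) := by
  intro L L' f hf
  haveI : QuasiIso f := hf
  haveI := quasiIso_homCxMap P f
  change IsIso (DerivedCategory.Q.map (DRing.homCxMap P f))
  infer_instance

/-- S6996: `RHom(P, L) ≅ Q(Hom•(P, L))` for `P` K-projective -/
theorem nonempty_RHomCx_iso (P : DRing.Cx A) [P.IsKProjective] [DRing.HasRHomCx P]
    (L : DRing.Cx A) :
    Nonempty ((DRing.RHomCx P).obj (DRing.toD L) ≅ DRing.toD (DRing.homCx P L)) := by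
  haveI : IsIso ((DRing.homCxQ P).totalRightDerivedUnit DerivedCategory.Q
      (HomologicalComplex.quasiIso (ModuleCat.{u} A) (ComplexShape.up ℤ))) :=
    Functor.isIso_of_isRightDerivedFunctor_of_inverts _ _ (homCxQ_inverts P)
  exact ⟨((asIso ((DRing.homCxQ P).totalRightDerivedUnit DerivedCategory.Q
      (HomologicalComplex.quasiIso (ModuleCat.{u} A) (ComplexShape.up ℤ)))).app L).symm⟩

end HomCx

end Groth.Agent.Lib.Helper18.DR
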