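import Mathlib
import Groth.Agent.Lib.Helper18.HomCxL
import Groth.Agent.Lib.Helper18.DRInj

/-!
# `Hom•(-, J)` preserves quasi-isomorphisms for `J` K-injective (helper18)
-/

set_option autoImplicit false
set_option linter.style.haveILetI false
universe u
open CategoryTheory CategoryTheory.Limits HomologicalComplex
  CochainComplex.HomComplex

attribute [local instance] HasDerivedCategory.standard

namespace Groth.Agent.Lib.Helper18.DR

namespace HomCx

variable {A : Type u} [CommRing A]

section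

variable (J : DRing.Cx A) [J.IsKInjective] {K K' : DRing.Cx A} (b : K' ⟶ K) [QuasiIso b]

include b in
lemma isIso_Q_map_of_quasiIso : IsIso (DerivedCategory.Q.map b) := inferInstance

lemma mem_coboundaries_of_precomp {n : ℤ} (z : Cocycle K J n)
    (h : z.precomp b ∈ coboundaries K' J n) : z ∈ coboundaries K J n := by
  rw [← CohomologyClass.toHom_mk_eq_zero_iff, CohomologyClass.toHom_mk,
    HomotopyCategory.quotient_map_eq_zero_iff] at h ⊢
  rw [Cocycle.equivHomShift_symm_precomp] at h
  obtain ⟨H⟩ := h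
  have h1 := Q_map_eq_of_homotopy H
  rw [Functor.map_comp, Functor.map_zero] at h1
  have h2 : DerivedCategory.Q.map (Cocycle.equivHomShift.symm z) = 0 := by
    rw [← cancel_epi (DerivedCategory.Q.map b), h1, comp_zero]
  exact nonempty_homotopy_of_map_eq_inj K (J⟦n⟧) _ 0 (by rw [h2, Functor.map_zero])

lemma exists_cocycle_precomp {n : ℤ} (z' : Cocycle K' J n) :
    ∃ z : Cocycle K J n, z.precomp b - z' ∈ coboundaries K' J n := by
  obtain ⟨y, hy⟩ := exists_map_eq_inj K (J⟦n⟧)
    (inv (DerivedCategory.Q.map b) ≫ DerivedCategory.Q.map (Cocycle.equivHomShift.symm z'))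
  have h1 : DerivedCategory.Q.map (b ≫ y) =
      DerivedCategory.Q.map (Cocycle.equivHomShift.symm z') := by
    rw [Functor.map_comp, hy, IsIso.hom_inv_id_assoc]
  obtain ⟨H⟩ := nonempty_homotopy_of_map_eq_inj K' (J⟦n⟧) _ _ h1
  refine ⟨Cocycle.equivHomShift y, ?_⟩
  rw [← CohomologyClass.toHom_mk_eq_zero_iff, CohomologyClass.mk_sub, map_sub,
    CohomologyClass.toHom_mk, CohomologyClass.toHom_mk, Cocycle.equivHomShift_symm_precomp,
    AddEquiv.symm_apply_apply, HomotopyCategory.eq_of_homotopy _ _ H, sub_self]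

/-- **`Hom•(-, J)` preserves quasi-isomorphisms for `J` K-injective.** -/
theorem quasiIso_precomp : QuasiIso (precomp b J) := by
  rw [quasiIso_iff]
  intro n
  rw [quasiIsoAt_iff' (precomp b J) (n - 1) n (n + 1) (by simp) (by simp)]
  refine shortComplex_quasiIso_of_elementwise _ ?_ ?_
  · intro (x₂ : Cochain K J n) (hx₂ : δ n (n + 1) x₂ = 0) ⟨(y₁ : Cochain K' J (n - 1)), hy₁⟩
    have hy₁' : δ (n - 1) n y₁ = (Cochain.ofHom b).comp x₂ (zero_add n) := hy₁
    let z : Cocycle K J n := Cocycle.mk x₂ (n + 1) rfl hx₂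
    have hz : z.precomp b ∈ coboundaries K' J n := by
      rw [mem_coboundaries_iff _ (n - 1) (by omega)]
      exact ⟨y₁, hy₁'⟩
    have := mem_coboundaries_of_precomp J b z hz
    rw [mem_coboundaries_iff _ (n - 1) (by omega)] at this
    obtain ⟨β, hβ⟩ := this
    exact ⟨β, hβ⟩
  · intro (y₂ : Cochain K' J n) (hy₂ : δ n (n + 1) y₂ = 0)
    let z' : Cocycle K' J n := Cocycle.mk y₂ (n + 1) rfl hy₂
    obtain ⟨z, hz⟩ := exists_cocycle_precomp J b z'
    rw [mem_coboundaries_iff _ (n - 1) (by omega)] at hz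
    obtain ⟨β, hβ⟩ := hz
    refine ⟨(z.1 : Cochain K J n), β, ?_, ?_⟩
    · exact z.δ_eq_zero (n + 1)
    · change (Cochain.ofHom b).comp z.1 (zero_add n) = y₂ + δ (n - 1) n β
      rw [hβ]
      change _ = y₂ + ((Cochain.ofHom b).comp z.1 (zero_add n) - y₂)
      abel

end

end HomCx

end Groth.Agent.Lib.Helper18.DR
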