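import Mathlib
import Groth.Agent.Lib.Helper18.BiA
import Groth.Agent.Lib.Helper18.BiB
import Groth.Agent.Lib.Helper18.BiD
import Groth.Agent.Lib.Helper18.PrecompQis

/-!
# The class of complexes on which the biduality map is a quasi-isomorphism (helper18)
-/

set_option autoImplicit false
set_option linter.style.haveILetI false
universe u
open CategoryTheory CategoryTheory.Limits CategoryTheory.Pretriangulated CochainComplex
  CochainComplex.HomComplex

attribute [local instance] HasDerivedCategory.standard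

namespace Groth.Agent.Lib.Helper18.DR

namespace Bi

open HomCx

variable {A : Type u} [CommRing A] (J : DRing.Cx A)

/-- the biduality map is an isomorphism on `H^n` -/
def BidIsoAt (K : DRing.Cx A) (n : ℤ) : Prop :=
  IsIso ((H A n).map (DerivedCategory.Q.map (bidL K J)))

/-- the biduality map is an isomorphism in the derived category -/
def BidIso (K : DRing.Cx A) : Prop := IsIso (DerivedCategory.Q.map (bidL K J))

lemma bidIso_iff (K : DRing.Cx A) : BidIso J K ↔ ∀ n : ℤ, BidIsoAt J K n :=
  DerivedCategory.isIso_iff _ (DerivedCategory.Q.map (bidL K J))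

lemma isIso_iff_of_square {C : Type*} [Category C] {X Y X' Y' : C} (f : X ⟶ X') (g : X' ⟶ Y')
    (g' : X ⟶ Y) (f' : Y ⟶ Y') (h : f ≫ g = g' ≫ f') [IsIso f] [IsIso f'] :
    IsIso g ↔ IsIso g' := by
  constructor
  · intro hg
    have : g' = f ≫ g ≫ inv f' := by rw [← Category.assoc, h, Category.assoc, IsIso.hom_inv_id,
      Category.comp_id]
    rw [this]
    infer_instance
  · intro hg'
    have : g = inv f ≫ g' ≫ f' := by rw [← h, IsIso.inv_hom_id_assoc]
    rw [this]
    infer_instance

/-- invariance under quasi-isomorphisms -/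
lemma bidIsoAt_iff_of_quasiIso [J.IsKInjective] {K K' : DRing.Cx A} (b : K' ⟶ K) [QuasiIso b]
    (n : ℤ) : BidIsoAt J K n ↔ BidIsoAt J K' n := by
  haveI := quasiIso_precomp J b
  haveI := quasiIso_precomp J (precomp b J)
  have h := congrArg (fun f => (H A n).map (DerivedCategory.Q.map f)) (bidL_naturality J b)
  simp only [Functor.map_comp] at h
  exact isIso_iff_of_square _ _ _ _ h

lemma bidIso_iff_of_quasiIso [J.IsKInjective] {K K' : DRing.Cx A} (b : K' ⟶ K) [QuasiIso b] :
    BidIso J K ↔ BidIso J K' := by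
  rw [bidIso_iff, bidIso_iff]
  exact forall_congr' (fun n => bidIsoAt_iff_of_quasiIso J b n)

lemma bidIso_of_iso [J.IsKInjective] {K K' : DRing.Cx A} (e : K' ≅ K) (h : BidIso J K') :
    BidIso J K := (bidIso_iff_of_quasiIso J e.hom).2 h

section SES

variable (S : ShortComplex (DRing.Cx A))

/-- the double dual of a short complex -/
noncomputable def DDSC : ShortComplex (DRing.Cx A) := homCxSC (homCxSC S J) J

/-- the biduality map as a morphism of short complexes -/
noncomputable def bidSC : S ⟶ DDSC J S where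
  τ₁ := bidL S.X₁ J
  τ₂ := bidL S.X₂ J
  τ₃ := bidL S.X₃ J
  comm₁₂ := (bidL_naturality J S.f).symm
  comm₂₃ := (bidL_naturality J S.g).symm

variable (hS : S.ShortExact) (hJ : DRing.TermwiseInjective J)

include hS hJ

lemma DDSC_shortExact : (DDSC J S).ShortExact :=
  homCxSC_shortExact_of_injective _ (homCxSC_shortExact_of_injective S hS J hJ) J hJ

lemma bidIso_X₂ (h₁ : BidIso J S.X₁) (h₃ : BidIso J S.X₃) : BidIso J S.X₂ :=
  isIso₂_of_isIso₁₃
    (DerivedCategory.triangleOfSES.map hS (DDSC_shortExact J S hS hJ) (bidSC J S))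
    (DerivedCategory.triangleOfSES_distinguished _)
    (DerivedCategory.triangleOfSES_distinguished _) h₁ h₃

lemma bidIsoAt_X₂_iff_X₁ (i n : ℤ) (hin : i + 1 = n)
    (h3 : IsZero ((H A i).obj (DRing.toD S.X₃))) (h3' : IsZero ((H A n).obj (DRing.toD S.X₃)))
    (hd3 : IsZero ((H A i).obj (DRing.toD (DRing.homCx (DRing.homCx S.X₃ J) J))))
    (hd3' : IsZero ((H A n).obj (DRing.toD (DRing.homCx (DRing.homCx S.X₃ J) J)))) :
    BidIsoAt J S.X₂ n ↔ BidIsoAt J S.X₁ n := by
  have hDD := DDSC_shortExact J S hS hJ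
  let φ := DerivedCategory.triangleOfSES.map hS hDD (bidSC J S)
  have hT := DerivedCategory.triangleOfSES_distinguished hS
  have hT' := DerivedCategory.triangleOfSES_distinguished hDD
  have i1 : IsIso ((H A n).map (DerivedCategory.triangleOfSES hS).mor₁) :=
    isIso_H_mor₁_of_isZero hT i n hin h3 h3'
  have i2 : IsIso ((H A n).map (DerivedCategory.triangleOfSES hDD).mor₁) :=
    isIso_H_mor₁_of_isZero hT' i n hin hd3 hd3'
  have h : (H A n).map (DerivedCategory.triangleOfSES hS).mor₁ ≫ (H A n).map φ.hom₂ =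
      (H A n).map φ.hom₁ ≫ (H A n).map (DerivedCategory.triangleOfSES hDD).mor₁ := by
    rw [← Functor.map_comp, ← Functor.map_comp, φ.comm₁]
  exact @isIso_iff_of_square _ _ _ _ _ _ _ _ _ _ h i1 i2

lemma bidIsoAt_X₃_iff_X₂ (n : ℤ)
    (h1 : IsZero ((H A n).obj (DRing.toD S.X₁)))
    (h1' : IsZero ((H A (n + 1)).obj (DRing.toD S.X₁)))
    (hd1 : IsZero ((H A n).obj (DRing.toD (DRing.homCx (DRing.homCx S.X₁ J) J))))
    (hd1' : IsZero ((H A (n + 1)).obj (DRing.toD (DRing.homCx (DRing.homCx S.X₁ J) J)))) :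
    BidIsoAt J S.X₃ n ↔ BidIsoAt J S.X₂ n := by
  have hDD := DDSC_shortExact J S hS hJ
  let φ := DerivedCategory.triangleOfSES.map hS hDD (bidSC J S)
  have hT := DerivedCategory.triangleOfSES_distinguished hS
  have hT' := DerivedCategory.triangleOfSES_distinguished hDD
  have i1 : IsIso ((H A n).map (DerivedCategory.triangleOfSES hS).mor₂) :=
    isIso_H_mor₂_of_isZero hT n h1 h1'
  have i2 : IsIso ((H A n).map (DerivedCategory.triangleOfSES hDD).mor₂) :=
    isIso_H_mor₂_of_isZero hT' n hd1 hd1'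
  have h : (H A n).map (DerivedCategory.triangleOfSES hS).mor₂ ≫ (H A n).map φ.hom₃ =
      (H A n).map φ.hom₂ ≫ (H A n).map (DerivedCategory.triangleOfSES hDD).mor₂ := by
    rw [← Functor.map_comp, ← Functor.map_comp, φ.comm₂]
  exact @isIso_iff_of_square _ _ _ _ _ _ _ _ _ _ h i1 i2

end SES

end Bi

end Groth.Agent.Lib.Helper18.DR
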