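import Mathlib
import Groth.Agent.Lib.Helper18.PsiA
import Groth.Agent.Lib.Helper18.CoextA

/-!
# Coextension of scalars as a Hom complex: `res (Hom_R(A, L)) ≅ Hom•(A_R[0], L)` (helper18)
-/

set_option autoImplicit false
set_option linter.style.haveILetI false
universe u
open CategoryTheory CategoryTheory.Limits MonoidalCategory HomologicalComplex
  CochainComplex.HomComplex

attribute [local instance] HasDerivedCategory.standard

namespace Groth.Agent.Lib.Helper18.DR

namespace CoextHom

open HomCx Psi Coext DTen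

variable {R A : Type u} [CommRing R] [CommRing A] (φ : R →+* A)

/-- `A` as an `R`-module -/
noncomputable def AR : ModuleCat.{u} R :=
  (ModuleCat.restrictScalars.{u} φ).obj (ModuleCat.of A A)

/-- an element of `A` as an element of `A_R` -/
def toAR (a : A) : (AR φ : Type u) := a

/-- an element of `A_R` as an element of `A` -/
def ofAR (x : (AR φ : Type u)) : A := x

@[simp] lemma ofAR_toAR (a : A) : ofAR φ (toAR φ a) = a := rfl
@[simp] lemma toAR_ofAR (x : (AR φ : Type u)) : toAR φ (ofAR φ x) = x := rfl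

/-- the linear map underlying an element of the coextension -/
noncomputable def coextToLin (M : ModuleCat.{u} R) (g : ((coextM φ).obj M : Type u)) :
    (AR φ : Type u) →ₗ[R] (M : Type u) :=
  ModuleCat.CoextendScalars.equiv φ M g

lemma coextToLin_apply (M : ModuleCat.{u} R) (g : ((coextM φ).obj M : Type u)) (a : A) :
    coextToLin φ M g (toAR φ a) = ModuleCat.CoextendScalars.equiv φ M g a := rfl

lemma coextToLin_injective (M : ModuleCat.{u} R) : Function.Injective (coextToLin φ M) :=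
  (ModuleCat.CoextendScalars.equiv φ M).injective

/-- `A_R[0]` -/
noncomputable abbrev V : DRing.Cx R :=
  (CochainComplex.singleFunctor (ModuleCat.{u} R) 0).obj (AR φ)

/-- the module map `R → A_R`, `1 ↦ a` -/
noncomputable def pt₀ (a : A) : 𝟙_ (ModuleCat.{u} R) ⟶ AR φ :=
  ModuleCat.ofHom (X := R) (Y := (AR φ : Type u))
    (LinearMap.toSpanSingleton R (AR φ : Type u) (toAR φ a))

/-- the "point" `R[0] ⟶ A_R[0]`, `1 ↦ a` -/
noncomputable def pt (a : A) : 𝟙_ (DRing.Cx R) ⟶ V φ :=
  (CochainComplex.singleFunctor (ModuleCat.{u} R) 0).map (pt₀ φ a)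

/-- the unit element of `R[0]` in degree `0` -/
noncomputable def u0 : ((𝟙_ (DRing.Cx R) : DRing.Cx R).X 0 : Type u) :=
  (HomologicalComplex.singleObjXSelf (ComplexShape.up ℤ) 0 (𝟙_ (ModuleCat.{u} R))).inv.hom
    (1 : R)

/-- the element of `A_R[0]` in degree `0` given by `a` -/
noncomputable def el (a : A) : ((V φ).X 0 : Type u) :=
  (HomologicalComplex.singleObjXSelf (ComplexShape.up ℤ) 0 (AR φ)).inv.hom (toAR φ a)

lemma pt_f_u0 (a : A) : ((pt φ a).f 0).hom u0 = el φ a := by
  have h : (pt φ a).f 0 =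
      (HomologicalComplex.singleObjXSelf (ComplexShape.up ℤ) 0 (𝟙_ (ModuleCat.{u} R))).hom ≫
        pt₀ φ a ≫ (HomologicalComplex.singleObjXSelf (ComplexShape.up ℤ) 0 (AR φ)).inv :=
    HomologicalComplex.single_map_f_self _ _ _
  rw [h]
  have h2 : (HomologicalComplex.singleObjXSelf (ComplexShape.up ℤ) 0
      (𝟙_ (ModuleCat.{u} R))).hom.hom (u0 (R := R)) = (1 : R) := by
    have := congrArg (fun f => f.hom (1 : R)) (HomologicalComplex.singleObjXSelf (ComplexShape.up ℤ) 0
      (𝟙_ (ModuleCat.{u} R))).inv_hom_id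
    exact this
  have h3 : (pt₀ φ a).hom (1 : R) = toAR φ a := by
    change LinearMap.toSpanSingleton R (AR φ : Type u) (toAR φ a) (1 : R) = _
    rw [LinearMap.toSpanSingleton_apply, one_smul]
  change (HomologicalComplex.singleObjXSelf (ComplexShape.up ℤ) 0 (AR φ)).inv.hom
    ((pt₀ φ a).hom ((HomologicalComplex.singleObjXSelf (ComplexShape.up ℤ) 0
      (𝟙_ (ModuleCat.{u} R))).hom.hom (u0 (R := R)))) = _
  rw [h2, h3]
  rfl

lemma singleObjXSelf_hom_el (a : A) :
    (HomologicalComplex.singleObjXSelf (ComplexShape.up ℤ) 0 (AR φ)).hom.hom (el φ a) =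
      toAR φ a := by
  have := congrArg (fun f => f.hom (toAR φ a))
    (HomologicalComplex.singleObjXSelf (ComplexShape.up ℤ) 0 (AR φ)).inv_hom_id
  exact this

/-! ## the unit isomorphism on elements -/

lemma homCxUnitIso_hom_apply (L : DRing.Cx R) (n : ℤ) (c : Cochain (𝟙_ (DRing.Cx R)) L n) :
    ((homCxUnitIso L).hom.f n).hom ((toCochain _ _ n).symm c) =
      (c.v 0 n (zero_add n)).hom u0 := by
  have h1 : (homCxUnitIso L).hom.f n =
      (ρ_ (DRing.homCx (𝟙_ (DRing.Cx R)) L)).inv.f n ≫ (evCx (𝟙_ (DRing.Cx R)) L).f n := rfl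
  have h2 : (ρ_ (DRing.homCx (𝟙_ (DRing.Cx R)) L)).inv.f n =
      (ρ_ ((DRing.homCx (𝟙_ (DRing.Cx R)) L).X n)).inv ≫
        (((DRing.homCx (𝟙_ (DRing.Cx R)) L).X n) ◁
          (HomologicalComplex.singleObjXSelf (ComplexShape.up ℤ) 0 (𝟙_ (ModuleCat.{u} R))).inv) ≫
        ιTensorObj (DRing.homCx (𝟙_ (DRing.Cx R)) L) (𝟙_ (DRing.Cx R)) n 0 n (add_zero n) :=
    HomologicalComplex.rightUnitor'_inv _ n
  have h3 : (evCx (𝟙_ (DRing.Cx R)) L).f n =
      (unc (Cochain.ofHom (𝟙 (DRing.homCx (𝟙_ (DRing.Cx R)) L)))).v n n (add_zero n) := by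
    rw [← ofHom_uncurryHom, Cochain.ofHom_v]
    rfl
  rw [h1, h2, h3]
  have h4 := unc_v_ι_tmul (Cochain.ofHom (𝟙 (DRing.homCx (𝟙_ (DRing.Cx R)) L))) n n 0 n n
    (add_zero n) (add_zero n) (add_zero n) ((toCochain _ _ n).symm c) u0
  rw [Cochain.ofHom_v] at h4
  exact h4

/-- evaluation at `a ∈ A` of a cochain out of `A_R[0]` -/
lemma evAt_pt_apply (a : A) (L : DRing.Cx R) (n : ℤ) (c : Cochain (V φ) L n) :
    ((evAt (pt φ a) L).f n).hom ((toCochain _ _ n).symm c) =
      (c.v 0 n (zero_add n)).hom (el φ a) := by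
  have h1 : (evAt (pt φ a) L).f n = (precomp (pt φ a) L).f n ≫ (homCxUnitIso L).hom.f n := rfl
  rw [h1, ModuleCat.hom_comp, LinearMap.comp_apply]
  have h2 : ((precomp (pt φ a) L).f n).hom ((toCochain _ _ n).symm c) =
      (toCochain _ _ n).symm ((Cochain.ofHom (pt φ a)).comp c (zero_add n)) := rfl
  rw [h2, homCxUnitIso_hom_apply, Cochain.zero_cochain_comp_v, Cochain.ofHom_v,
    ModuleCat.hom_comp, LinearMap.comp_apply, pt_f_u0]

/-- evaluations at the points of `A` are jointly monic -/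
theorem evAt_pt_jointly_mono {X L : DRing.Cx R} (t t' : X ⟶ DRing.homCx (V φ) L)
    (h : ∀ a : A, t ≫ evAt (pt φ a) L = t' ≫ evAt (pt φ a) L) : t = t' := by
  ext n : 1
  refine ModuleCat.hom_ext (LinearMap.ext fun x => ?_)
  apply (toCochain (V φ) L n).injective
  apply (Cochain.fromSingleEquiv (zero_add n)).injective
  refine ModuleCat.hom_ext (LinearMap.ext fun (y : (AR φ : Type u)) => ?_)
  have h1 := congrArg (fun g => (g.f n).hom x) (h (ofAR φ y))
  simp only [HomologicalComplex.comp_f, ModuleCat.hom_comp, LinearMap.comp_apply] at h1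
  have e1 := evAt_pt_apply φ (ofAR φ y) L n (toCochain _ _ n ((t.f n).hom x))
  have e2 := evAt_pt_apply φ (ofAR φ y) L n (toCochain _ _ n ((t'.f n).hom x))
  rw [LinearEquiv.symm_apply_apply] at e1 e2
  rw [e1, e2] at h1
  exact h1

/-! ## the isomorphism `κ` -/

lemma fromSingleMk_smul {L : DRing.Cx R} {n : ℤ} (r : R) (f : AR φ ⟶ L.X n) :
    Cochain.fromSingleMk (r • f) (zero_add n) =
      r • (Cochain.fromSingleMk f (zero_add n) : Cochain (V φ) L n) := by
  refine Cochain.ext _ _ (fun p' q' hpq' => ?_)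
  by_cases hp : p' = 0
  · subst hp
    obtain rfl : q' = n := by omega
    rw [Cochain.smul_v, Cochain.fromSingleMk_v, Cochain.fromSingleMk_v, Linear.comp_smul]
    rfl
  · rw [Cochain.smul_v, Cochain.fromSingleMk_v_eq_zero _ _ _ _ _ hp,
      Cochain.fromSingleMk_v_eq_zero _ _ _ _ _ hp, smul_zero]

/-- the linear map underlying an element of `res (Hom_R(A, L^n))` -/
noncomputable def resToLin (L : DRing.Cx R) (n : ℤ)
    (g : (((resCx φ).obj ((coextCx φ).obj L)).X n : Type u)) :
    (AR φ : Type u) →ₗ[R] (L.X n : Type u) :=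
  coextToLin φ (L.X n) g

lemma resToLin_add (L : DRing.Cx R) (n : ℤ)
    (g g' : (((resCx φ).obj ((coextCx φ).obj L)).X n : Type u)) :
    resToLin φ L n (g + g') = resToLin φ L n g + resToLin φ L n g' := rfl

lemma resToLin_smul (L : DRing.Cx R) (n : ℤ) (r : R)
    (g : (((resCx φ).obj ((coextCx φ).obj L)).X n : Type u)) :
    resToLin φ L n (r • g) = r • resToLin φ L n g := by
  refine LinearMap.ext fun y => ?_
  change ModuleCat.CoextendScalars.equiv φ (L.X n)
      (φ r • (show ((coextM φ).obj (L.X n) : Type u) from g)) (ofAR φ y : A) =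
    r • ModuleCat.CoextendScalars.equiv φ (L.X n) (show ((coextM φ).obj (L.X n) : Type u) from g)
      (ofAR φ y : A)
  rw [ModuleCat.CoextendScalars.smul_apply, ← map_smul]
  congr 1
  change (ofAR φ y : A) * φ r = φ r * (ofAR φ y : A)
  exact mul_comm _ _

lemma resToLin_injective (L : DRing.Cx R) (n : ℤ) : Function.Injective (resToLin φ L n) :=
  coextToLin_injective φ (L.X n)

/-- the morphism underlying an element of `res (Hom_R(A, L^n))` -/
noncomputable def resToHom (L : DRing.Cx R) (n : ℤ)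
    (g : (((resCx φ).obj ((coextCx φ).obj L)).X n : Type u)) : AR φ ⟶ L.X n :=
  ModuleCat.ofHom (X := (AR φ : Type u)) (Y := (L.X n : Type u)) (resToLin φ L n g)

lemma resToHom_hom (L : DRing.Cx R) (n : ℤ)
    (g : (((resCx φ).obj ((coextCx φ).obj L)).X n : Type u)) :
    (resToHom φ L n g).hom = resToLin φ L n g := rfl

lemma resToHom_add (L : DRing.Cx R) (n : ℤ)
    (g g' : (((resCx φ).obj ((coextCx φ).obj L)).X n : Type u)) :
    resToHom φ L n (g + g') = resToHom φ L n g + resToHom φ L n g' := rfl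

lemma resToHom_smul (L : DRing.Cx R) (n : ℤ) (r : R)
    (g : (((resCx φ).obj ((coextCx φ).obj L)).X n : Type u)) :
    resToHom φ L n (r • g) = r • resToHom φ L n g := by
  apply ModuleCat.hom_ext
  rw [resToHom_hom, resToLin_smul]
  rfl

/-- an element of `res (Hom_R(A, L^n))` from a linear map -/
noncomputable def linToRes (L : DRing.Cx R) (n : ℤ) (f : (AR φ : Type u) →ₗ[R] (L.X n : Type u)) :
    (((resCx φ).obj ((coextCx φ).obj L)).X n : Type u) :=
  (ModuleCat.CoextendScalars.equiv φ (L.X n)).symm f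

lemma resToLin_linToRes (L : DRing.Cx R) (n : ℤ)
    (f : (AR φ : Type u) →ₗ[R] (L.X n : Type u)) : resToLin φ L n (linToRes φ L n f) = f := rfl

lemma linToRes_resToLin (L : DRing.Cx R) (n : ℤ)
    (g : (((resCx φ).obj ((coextCx φ).obj L)).X n : Type u)) :
    linToRes φ L n (resToLin φ L n g) = g := rfl

/-- the component of `κ` -/
noncomputable def κLin (L : DRing.Cx R) (n : ℤ) :
    (((resCx φ).obj ((coextCx φ).obj L)).X n : Type u) ≃ₗ[R] Cochain (V φ) L n where
  toFun g := Cochain.fromSingleMk (resToHom φ L n g) (zero_add n)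
  invFun c := linToRes φ L n (ModuleCat.Hom.hom (Cochain.fromSingleEquiv (zero_add n) c))
  map_add' g g' := by
    rw [resToHom_add, Cochain.fromSingleMk_add]
  map_smul' r g := by
    rw [RingHom.id_apply, resToHom_smul, fromSingleMk_smul]
  left_inv g := by
    change linToRes φ L n (ModuleCat.Hom.hom (Cochain.fromSingleEquiv (zero_add n)
      (Cochain.fromSingleMk (resToHom φ L n g) (zero_add n)))) = g
    rw [Cochain.fromSingleEquiv_fromSingleMk]
    rfl
  right_inv c := by
    change Cochain.fromSingleMk (resToHom φ L n (linToRes φ L n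
      (ModuleCat.Hom.hom (Cochain.fromSingleEquiv (zero_add n) c)))) (zero_add n) = c
    exact (Cochain.fromSingleEquiv (zero_add n)).symm_apply_apply c

lemma resToHom_d (L : DRing.Cx R) (i j : ℤ)
    (g : (((resCx φ).obj ((coextCx φ).obj L)).X i : Type u)) :
    resToHom φ L j ((((resCx φ).obj ((coextCx φ).obj L)).d i j).hom g) =
      resToHom φ L i g ≫ L.d i j := rfl

/-- `res (Hom_R(A, L)) ≅ Hom•(A_R[0], L)` -/
noncomputable def κ (L : DRing.Cx R) :
    (resCx φ).obj ((coextCx φ).obj L) ≅ DRing.homCx (V φ) L :=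
  HomologicalComplex.Hom.isoOfComponents (fun n => (κLin φ L n).toModuleIso) (fun i j hij => by
    refine ModuleCat.hom_ext (LinearMap.ext fun g => ?_)
    change δ i j (Cochain.fromSingleMk (resToHom φ L i g) (zero_add i)) =
      Cochain.fromSingleMk (resToHom φ L j
        ((((resCx φ).obj ((coextCx φ).obj L)).d i j).hom g)) (zero_add j)
    rw [Cochain.δ_fromSingleMk _ _ j j (zero_add j), resToHom_d])

lemma κ_hom_f_apply (L : DRing.Cx R) (n : ℤ)
    (g : (((resCx φ).obj ((coextCx φ).obj L)).X n : Type u)) :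
    ((κ φ L).hom.f n).hom g = (toCochain _ _ n).symm (Cochain.fromSingleMk
      (resToHom φ L n g) (zero_add n)) := rfl

lemma resToHom_map {L L' : DRing.Cx R} (g : L ⟶ L') (n : ℤ)
    (x : (((resCx φ).obj ((coextCx φ).obj L)).X n : Type u)) :
    resToHom φ L' n ((((resCx φ).map ((coextCx φ).map g)).f n).hom x) =
      resToHom φ L n x ≫ g.f n := rfl

/-- naturality of `κ` -/
lemma κ_natural {L L' : DRing.Cx R} (g : L ⟶ L') :
    (resCx φ).map ((coextCx φ).map g) ≫ (κ φ L').hom =
      (κ φ L).hom ≫ DRing.homCxMap (V φ) g := by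
  ext n : 1
  refine ModuleCat.hom_ext (LinearMap.ext fun x => ?_)
  change Cochain.fromSingleMk (resToHom φ L' n
      ((((resCx φ).map ((coextCx φ).map g)).f n).hom x)) (zero_add n) =
    (Cochain.fromSingleMk (resToHom φ L n x)
      (zero_add n)).comp (Cochain.ofHom g) (add_zero n)
  rw [← Cochain.fromSingleMk_postcomp, resToHom_map]

lemma fromSingleMk_v_el {L : DRing.Cx R} {n : ℤ} (f : AR φ ⟶ L.X n) (a : A) :
    ((Cochain.fromSingleMk f (zero_add n) : Cochain (V φ) L n).v 0 n (zero_add n)).hom (el φ a) =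
      f.hom (toAR φ a) := by
  rw [Cochain.fromSingleMk_v]
  change f.hom ((HomologicalComplex.singleObjXSelf (ComplexShape.up ℤ) 0 (AR φ)).hom.hom
    (el φ a)) = _
  rw [singleObjXSelf_hom_el]

/-- evaluation at `a` through `κ` -/
lemma κ_hom_evAt (a : A) (L : DRing.Cx R) :
    (κ φ L).hom ≫ evAt (pt φ a) L =
      (resCx φ).map (a • 𝟙 ((coextCx φ).obj L)) ≫ counitCx φ L := by
  ext n : 1
  refine ModuleCat.hom_ext (LinearMap.ext fun g => ?_)
  rw [HomologicalComplex.comp_f, ModuleCat.hom_comp, LinearMap.comp_apply, κ_hom_f_apply,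
    evAt_pt_apply, fromSingleMk_v_el]
  change ModuleCat.CoextendScalars.equiv φ (L.X n)
      (show ((coextM φ).obj (L.X n) : Type u) from g) a =
    ModuleCat.CoextendScalars.equiv φ (L.X n)
      (a • (show ((coextM φ).obj (L.X n) : Type u) from g)) (1 : A)
  rw [ModuleCat.CoextendScalars.smul_apply, one_mul]

end CoextHom

end Groth.Agent.Lib.Helper18.DR
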