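import Mathlib
import Groth.Agent.Lib.Helper18.DuB

/-!
# The biduality map is an isomorphism for termwise finite projective complexes (helper18)
-/

set_option autoImplicit false
set_option linter.style.haveILetI false
universe u
open CategoryTheory CategoryTheory.Limits MonoidalCategory HomologicalComplex
  CochainComplex.HomComplex
open TensorProduct

namespace Groth.Agent.Lib.Helper18.DR

namespace Du

open HomCx Psi DTen

variable {A : Type u} [CommRing A] (K : DRing.Cx A)

/-- the dual complex -/
noncomputable abbrev dualCx : DRing.Cx A := DRing.homCx K (𝟙_ (DRing.Cx A))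

/-- the comparison of the term of the bidual with the bidual of the term -/
noncomputable def bidualEquiv (n : ℤ) :
    ((dualCx (dualCx K)).X n) ≃ₗ[A] Module.Dual A (Module.Dual A (K.X n)) :=
  (dualEquiv (dualCx K) n (-n) (by omega)).trans
    (dualEquiv K (-n) n (by omega)).symm.dualMap

lemma bidualEquiv_bid (n : ℤ) (x : K.X n) (φ : Module.Dual A (K.X n)) :
    bidualEquiv K n (((bid K).f n).hom x) φ = (n * (-n)).negOnePow • φ x := by
  change dualEquiv (dualCx K) n (-n) (by omega) (((bid K).f n).hom x)
    ((dualEquiv K (-n) n (by omega)).symm φ) = _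
  rw [dualEquiv_apply, bid_apply n (-n) 0 (by omega), map_zsmul_unit,
    ← dualEquiv_apply K (-n) n (by omega), LinearEquiv.apply_symm_apply]

theorem bijective_bid_f (n : ℤ) [Module.Finite A (K.X n)] [Module.Projective A (K.X n)] :
    Function.Bijective ((bid K).f n).hom := by
  have h1 : ∀ x : K.X n, bidualEquiv K n (((bid K).f n).hom x) =
      (n * (-n)).negOnePow • Module.Dual.eval A (K.X n) x := by
    intro x
    apply LinearMap.ext
    intro φ
    rw [bidualEquiv_bid]
    rfl
  have hb : Function.Bijective (Module.Dual.eval A (K.X n)) :=
    Module.IsReflexive.bijective_dual_eval'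
  constructor
  · intro x y hxy
    have h2 := congrArg (bidualEquiv K n) hxy
    rw [h1, h1] at h2
    have h3 : Module.Dual.eval A (K.X n) x = Module.Dual.eval A (K.X n) y := by
      have := congrArg (fun z => (n * (-n)).negOnePow • z) h2
      simpa [smul_smul] using this
    exact hb.1 h3
  · intro w
    obtain ⟨x, hx⟩ := hb.2 ((n * (-n)).negOnePow • bidualEquiv K n w)
    refine ⟨x, (bidualEquiv K n).injective ?_⟩
    rw [h1, hx, smul_smul, Int.units_mul_self, one_smul]

/-- **the biduality map is an isomorphism for termwise finite projective complexes** -/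
theorem isIso_bid (hK : DRing.TermwiseFiniteProjective K) : IsIso (bid K) := by
  haveI : ∀ n, IsIso ((bid K).f n) := fun n => by
    haveI := (hK n).1
    haveI := (hK n).2
    exact (ConcreteCategory.isIso_iff_bijective _).2 (bijective_bid_f K n)
  exact HomologicalComplex.Hom.isIso_of_components _

end Du

end Groth.Agent.Lib.Helper18.DR
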