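import Mathlib
import Groth.Agent.Lib.Helper18.DuC

/-!
# Duality for termwise finite projective complexes: maps out of the dual (helper18)
-/

set_option autoImplicit false
set_option linter.style.haveILetI false
universe u
open CategoryTheory CategoryTheory.Limits MonoidalCategory HomologicalComplex
  CochainComplex.HomComplex
open TensorProduct

namespace Groth.Agent.Lib.Helper18.DR

namespace Du

open HomCx Psi DTen

variable {A : Type u} [CommRing A] {K K' L : DRing.Cx A}

/-! ## linearity of precomposition -/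

lemma precomp_add (b b' : K' ⟶ K) (L : DRing.Cx A) :
    precomp (b + b') L = precomp b L + precomp b' L := by
  refine HomologicalComplex.hom_ext _ _ (fun i => ?_)
  rw [HomologicalComplex.add_f_apply, precomp_f, precomp_f, precomp_f, Cochain.ofHom_add,
    compLeftLin_add]
  rfl

lemma compLeftLin_smul (a : A) (c : Cochain K' K 0) (L : DRing.Cx A) (i : ℤ) :
    compLeftLin (a • c) L i = a • compLeftLin c L i := by
  refine LinearMap.ext (fun z => ?_)
  exact Cochain.smul_comp a c z (zero_add i)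

lemma ofHom_smul (a : A) (b : K' ⟶ K) : Cochain.ofHom (a • b) = a • Cochain.ofHom b := by
  refine Cochain.ext _ _ (fun p q hpq => ?_)
  obtain rfl : p = q := by omega
  rw [Cochain.ofHom_v, Cochain.smul_v, Cochain.ofHom_v]
  rfl

lemma precomp_smul (a : A) (b : K' ⟶ K) (L : DRing.Cx A) :
    precomp (a • b) L = a • precomp b L := by
  refine HomologicalComplex.hom_ext _ _ (fun i => ?_)
  rw [HomologicalComplex.smul_f_apply, precomp_f, precomp_f, ofHom_smul, compLeftLin_smul]
  rfl

lemma evAt_add (z z' : 𝟙_ (DRing.Cx A) ⟶ K) (L : DRing.Cx A) :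
    evAt (z + z') L = evAt z L + evAt z' L := by
  rw [evAt, evAt, evAt, precomp_add, Preadditive.add_comp]

lemma evAt_smul (a : A) (z : 𝟙_ (DRing.Cx A) ⟶ K) (L : DRing.Cx A) :
    evAt (a • z) L = a • evAt z L := by
  rw [evAt, evAt, precomp_smul, Linear.smul_comp]

/-! ## maps from the dual to the unit -/

/-- the identification `𝟙 ⊗ G ≅ G` through the braiding -/
noncomputable def μ (G : DRing.Cx A) : 𝟙_ (DRing.Cx A) ⊗ G ≅ G :=
  braidCx (𝟙_ (DRing.Cx A)) G ≪≫ ρ_ G

lemma uncurryHom_comp_bid (z : 𝟙_ (DRing.Cx A) ⟶ K) :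
    uncurryHom (z ≫ bid K) = (μ (dualCx K)).hom ≫ evAt z (𝟙_ (DRing.Cx A)) := by
  rw [uncurryHom_comp_left, uncurryHom_bid, evSw_dinatural, evSw, ← Category.assoc,
    braid_whiskerLeft, Category.assoc, μ, Iso.trans_hom, Category.assoc, evAt, homCxUnitIso]
  dsimp only
  rw [← Category.assoc (ρ_ (dualCx K)).hom, ← MonoidalCategory.rightUnitor_naturality,
    Category.assoc, Iso.hom_inv_id_assoc]

/-- every map from the dual to the unit is an evaluation -/
theorem exists_evAt_eq (hK : DRing.TermwiseFiniteProjective K)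
    (h₀ : dualCx K ⟶ 𝟙_ (DRing.Cx A)) :
    ∃ z : 𝟙_ (DRing.Cx A) ⟶ K, evAt z (𝟙_ (DRing.Cx A)) = h₀ := by
  haveI := isIso_bid K hK
  refine ⟨curryHom ((μ (dualCx K)).hom ≫ h₀) ≫ inv (bid K), ?_⟩
  have h1 := uncurryHom_comp_bid (curryHom ((μ (dualCx K)).hom ≫ h₀) ≫ inv (bid K))
  rw [Category.assoc, IsIso.inv_hom_id, Category.comp_id, uncurryHom_curryHom] at h1
  exact ((cancel_epi (μ (dualCx K)).hom).1 h1).symm

/-- the evaluation determines the point -/
theorem evAt_injective (hK : DRing.TermwiseFiniteProjective K)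
    {z z' : 𝟙_ (DRing.Cx A) ⟶ K}
    (h : evAt z (𝟙_ (DRing.Cx A)) = evAt z' (𝟙_ (DRing.Cx A))) : z = z' := by
  haveI := isIso_bid K hK
  have h1 : uncurryHom (z ≫ bid K) = uncurryHom (z' ≫ bid K) := by
    rw [uncurryHom_comp_bid, uncurryHom_comp_bid, h]
  exact (cancel_mono (bid K)).1 (uncurryHom_injective h1)

/-! ## endomorphisms of the dual -/

/-- every endomorphism of the dual is the dual of an endomorphism -/
theorem exists_precomp_eq (hK : DRing.TermwiseFiniteProjective K) (t₀ : dualCx K ⟶ dualCx K) :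
    ∃ s₀ : K ⟶ K, precomp s₀ (𝟙_ (DRing.Cx A)) = t₀ := by
  haveI := isIso_bid K hK
  haveI := isIso_bid (dualCx K) (termwiseFiniteProjective_dual K hK)
  refine ⟨bid K ≫ precomp t₀ (𝟙_ (DRing.Cx A)) ≫ inv (bid K), ?_⟩
  have hTI := bid_dual_comp K
  have h1 : precomp (bid K) (𝟙_ (DRing.Cx A)) = inv (bid (dualCx K)) :=
    (IsIso.eq_inv_of_hom_inv_id hTI)
  have h2 : precomp (inv (bid K)) (𝟙_ (DRing.Cx A)) = bid (dualCx K) := by
    have h3 : precomp (inv (bid K)) (𝟙_ (DRing.Cx A)) ≫ precomp (bid K) (𝟙_ (DRing.Cx A)) =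
        𝟙 _ := by
      rw [← precomp_comp, IsIso.hom_inv_id, precomp_id]
    rw [h1] at h3
    rw [(IsIso.comp_inv_eq _).1 h3, Category.id_comp]
  rw [precomp_comp, precomp_comp, h1, h2, Category.assoc, ← Category.assoc,
    ← bid_naturality t₀, Category.assoc, IsIso.hom_inv_id, Category.comp_id]

end Du

end Groth.Agent.Lib.Helper18.DR
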