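import Mathlib
import Groth.Agent.Lib.Helper18.DuD
import Groth.Agent.Lib.Helper18.CoextHom
import Groth.Agent.Lib.Helper18.DRHomSg

/-!
# Endomorphisms of the dual of a resolution of a quotient ring are scalars (helper18)
-/

set_option autoImplicit false
set_option linter.style.haveILetI false
universe u
open CategoryTheory CategoryTheory.Limits MonoidalCategory HomologicalComplex
  CochainComplex.HomComplex
open TensorProduct

attribute [local instance] HasDerivedCategory.standard

namespace Groth.Agent.Lib.Helper18.DR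

namespace Du

open HomCx Psi DTen CoextHom

variable {R A : Type u} [CommRing R] [CommRing A] (φ : R →+* A)

/-- for `φ` surjective, every `R`-linear endomorphism of `A` is multiplication by a scalar -/
lemma exists_smul_of_end_AR (hφ : Function.Surjective φ) (g : AR φ ⟶ AR φ) :
    ∃ r : R, g = r • 𝟙 (AR φ) := by
  obtain ⟨r, hr⟩ := hφ (ofAR φ (g.hom (toAR φ 1)))
  refine ⟨r, ModuleCat.hom_ext (LinearMap.ext fun x => ?_)⟩
  obtain ⟨s, hs⟩ := hφ (ofAR φ x)
  have hx : x = s • toAR φ (1 : A) := by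
    change x = toAR φ (φ s * 1)
    rw [mul_one, hs, toAR_ofAR]
  rw [hx, map_smul, ModuleCat.hom_smul, LinearMap.smul_apply, ModuleCat.hom_id,
    LinearMap.id_apply]
  change s • g.hom (toAR φ 1) = toAR φ (φ r * (φ s * 1))
  rw [hr, mul_one, mul_comm]
  rfl

/-- for `φ` surjective, every endomorphism of `A_R[0]` in `D(R)` is a scalar -/
lemma exists_smul_of_end_Q_V (hφ : Function.Surjective φ)
    (f : DerivedCategory.Q.obj (V φ) ⟶ DerivedCategory.Q.obj (V φ)) :
    ∃ r : R, f = r • 𝟙 _ := by
  let i := (DerivedCategory.singleFunctorIsoCompQ (ModuleCat.{u} R) 0).app (AR φ)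
  obtain ⟨g, hg⟩ := (DerivedCategory.singleFunctor (ModuleCat.{u} R) 0).map_surjective
    (i.hom ≫ f ≫ i.inv)
  obtain ⟨r, rfl⟩ := exists_smul_of_end_AR φ hφ g
  refine ⟨r, ?_⟩
  rw [CategoryTheory.Functor.map_smul, CategoryTheory.Functor.map_id] at hg
  have : f = i.inv ≫ (i.hom ≫ f ≫ i.inv) ≫ i.hom := by simp
  rw [this, ← hg, Linear.smul_comp, Linear.comp_smul, Category.id_comp, Iso.inv_hom_id]
  rfl

variable {φ}

/-- **for `φ` surjective and `E → A_R[0]` a strictly perfect resolution, every endomorphism of the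
dual of `E` in `D(R)` is a scalar** -/
theorem exists_smul_of_end_dual (hφ : Function.Surjective φ) (E : DRing.Cx R) (b : ℤ)
    (hb : DRing.VanishesAbove E b) (a' : ℤ) (ha : DRing.VanishesAbove (dualCx E) a')
    (hp : DRing.TermwiseFiniteProjective E) (e : E ⟶ V φ) [QuasiIso e]
    (t : DerivedCategory.Q.obj (dualCx E) ⟶ DerivedCategory.Q.obj (dualCx E)) :
    ∃ r : R, t = r • 𝟙 _ := by
  haveI : E.IsKProjective := isKProjective_of_vanishesAbove E b hb (fun i => (hp i).2)
  haveI : (dualCx E).IsKProjective := isKProjective_of_vanishesAbove _ a' ha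
    (fun i => (termwiseFiniteProjective_dual E hp i).2)
  obtain ⟨t₀, rfl⟩ := exists_map_eq (dualCx E) (dualCx E) t
  obtain ⟨s₀, rfl⟩ := exists_precomp_eq hp t₀
  obtain ⟨r, hr⟩ := exists_smul_of_end_Q_V φ hφ
    (inv (DerivedCategory.Q.map e) ≫ DerivedCategory.Q.map s₀ ≫ DerivedCategory.Q.map e)
  refine ⟨r, ?_⟩
  have h1 : DerivedCategory.Q.map s₀ = DerivedCategory.Q.map (r • 𝟙 E) := by
    rw [CategoryTheory.Functor.map_smul, CategoryTheory.Functor.map_id]
    have : DerivedCategory.Q.map s₀ = DerivedCategory.Q.map e ≫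
        (inv (DerivedCategory.Q.map e) ≫ DerivedCategory.Q.map s₀ ≫ DerivedCategory.Q.map e) ≫
        inv (DerivedCategory.Q.map e) := by simp
    rw [this, hr, Linear.smul_comp, Linear.comp_smul, Category.id_comp, IsIso.hom_inv_id]
  obtain ⟨H⟩ := nonempty_homotopy_of_map_eq E E s₀ (r • 𝟙 E) h1
  rw [Q_map_eq_of_homotopy (precompHomotopy H (𝟙_ (DRing.Cx R))), precomp_smul, precomp_id,
    CategoryTheory.Functor.map_smul, CategoryTheory.Functor.map_id]

end Du

end Groth.Agent.Lib.Helper18.DR
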