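import Mathlib
import Groth.Agent.Lib.Helper18.HomCxJ
import Groth.Agent.Lib.Helper18.SPInd
import Groth.Agent.Lib.Helper18.DTenB

/-!
# `Hom•(E, K)` is K-flat for `E` strictly perfect (or perfect and K-projective) and `K` K-flat
(helper18)
-/

set_option autoImplicit false
set_option linter.style.haveILetI false
universe u
open CategoryTheory CategoryTheory.Limits MonoidalCategory HomologicalComplex
  CochainComplex.HomComplex

attribute [local instance] HasDerivedCategory.standard

namespace Groth.Agent.Lib.Helper18.DR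

namespace HomCx

open Groth.Agent.Lib.Helper2.Tot Groth.Agent.Lib.Helper2.Tot.DR

variable {A : Type u} [CommRing A]

/-- `Hom•(E, K)⟦-a⟧ ≅ Hom•(E⟦a⟧, K)` -/
noncomputable def homCxShiftIso (E K : DRing.Cx A) (a : ℤ) :
    (DRing.homCx E K)⟦-a⟧ ≅ DRing.homCx (E⟦a⟧) K :=
  HomologicalComplex.Hom.isoOfComponents
    (fun n => (Cochain.leftShiftLinearEquiv A E K (n + -a) a n (by omega)).toModuleIso)
    (fun i j hij => by
      refine ModuleCat.hom_ext (LinearMap.ext fun (γ : Cochain E K (i + -a)) => ?_)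
      change δ i j (γ.leftShift a i (by omega)) =
        (((-a).negOnePow • δ (i + -a) (j + -a) γ : Cochain E K (j + -a))).leftShift a j (by omega)
      rw [Cochain.δ_leftShift γ a i j (by omega) (j + -a) (by omega), Cochain.leftShift_units_smul,
        Int.negOnePow_neg])

/-- **`Hom•(E, K)` is K-flat for `E` strictly perfect and `K` K-flat.** -/
theorem kflat_homCx_of_strictlyPerfect (K : DRing.Cx A) (hK : KFlat (T A) K)
    (E : DRing.Cx A) (a b : ℤ) (hE : DRing.VanishesOutside E a b)
    (hp : DRing.TermwiseFiniteProjective E) : KFlat (T A) (DRing.homCx E K) := by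
  refine SPInd.strictlyPerfect_induction (fun E' => KFlat (T A) (DRing.homCx E' K))
    ?_ ?_ ?_ ?_ ?_ E a b hE hp
  · intro X Y e h
    exact KFlat.of_iso (precompIso e.symm K) h
  · exact KFlat.of_iso (homCxUnitIso K).symm hK
  · intro X n h
    exact KFlat.of_iso (homCxShiftIso X K n) (KFlat.shift h (-n))
  · intro S hS hp' h1 h3
    have σ : ∀ p, (S.map (HomologicalComplex.eval _ _ p)).Splitting := fun p =>
      (SPInd.nonempty_degreewise_splitting S hS hp' p).some
    exact kflat_X₂ (homCxSC S K)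
      (fun X q => ((homCxSCSplitting S σ K q).map ((T A).obj X)).shortExact) h3 h1
  · intro X Y h
    refine DTenB.KFlat.of_retract (precomp (biprod.fst : X ⊞ Y ⟶ X) K)
      (precomp (biprod.inl : X ⟶ X ⊞ Y) K) (Homotopy.ofEq ?_) h
    rw [← precomp_comp, biprod.inl_fst, precomp_id]

/-- two K-projective complexes which are isomorphic in `D(A)` are homotopy equivalent -/
lemma nonempty_homotopyEquiv_of_iso (P P' : DRing.Cx A) [P.IsKProjective] [P'.IsKProjective]
    (e : DRing.toD P ≅ DRing.toD P') : Nonempty (HomotopyEquiv P P') := by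
  obtain ⟨f, hf⟩ := exists_map_eq P P' e.hom
  obtain ⟨g, hg⟩ := exists_map_eq P' P e.inv
  obtain ⟨H₁⟩ := nonempty_homotopy_of_map_eq P P (f ≫ g) (𝟙 P) (by
    rw [Functor.map_comp, hf, hg, e.hom_inv_id, CategoryTheory.Functor.map_id])
  obtain ⟨H₂⟩ := nonempty_homotopy_of_map_eq P' P' (g ≫ f) (𝟙 P') (by
    rw [Functor.map_comp, hf, hg, e.inv_hom_id, CategoryTheory.Functor.map_id])
  exact ⟨⟨f, g, H₁, H₂⟩⟩

/-- S7088 -/
theorem kflat_homCx_of_isPerfect (P K : DRing.Cx A) (b : ℤ)
    (hPb : DRing.VanishesAbove P b) (hPp : ∀ i : ℤ, Module.Projective A (P.X i))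
    (hperf : DRing.IsPerfect A (DRing.toD P)) (hK : KFlat (T A) K) :
    KFlat (T A) (DRing.homCx P K) := by
  obtain ⟨E, a', b', hE, hEp, ⟨e⟩⟩ := hperf
  haveI : P.IsKProjective := isKProjective_of_vanishesAbove P b hPb hPp
  haveI : E.IsKProjective :=
    isKProjective_of_vanishesAbove E b' (VanishesOutside.above hE) (fun i => (hEp i).2)
  obtain ⟨h⟩ := nonempty_homotopyEquiv_of_iso P E e.symm
  exact KFlat.of_homotopyEquiv (precompHomotopyEquiv h K)
    (kflat_homCx_of_strictlyPerfect K hK E a' b' hE hEp)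

end HomCx

end Groth.Agent.Lib.Helper18.DR
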