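import Mathlib
import Groth.Agent.Lib.Helper18.DRFib

/-!
# S7035 and S6977 (helper18)
-/

set_option autoImplicit false
set_option linter.style.haveILetI false
universe u
open CategoryTheory CategoryTheory.Limits CategoryTheory.Pretriangulated DerivedCategory
open TensorProduct

attribute [local instance] HasDerivedCategory.standard
attribute [local instance] Algebra.TensorProduct.rightAlgebra

namespace Groth.Agent.Lib.Helper18.DR

section S7035

variable {A B : Type u} [CommRing A] [CommRing B] [Algebra A B]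

lemma isUnit_mk_of_not_mem (m : Ideal B) (hm : m.IsMaximal) (x : B) (hx : x ∉ m) :
    IsUnit (Ideal.Quotient.mk m x) := by
  obtain ⟨y, i, hi, hyi⟩ := hm.exists_inv hx
  have h1 : Ideal.Quotient.mk m (y * x + i) = 1 := by rw [hyi, map_one]
  rw [map_add, map_mul, Ideal.Quotient.eq_zero_iff_mem.2 hi, add_zero] at h1
  exact IsUnit.of_mul_eq_one _ (by rw [mul_comm]; exact h1)

/-- S7035 -/
theorem isPerfect_of_flat_fibres_finite_globalDimension [Module.Flat A B] (d : ℕ)
    (hgl : ∀ (p : PrimeSpectrum A) (M : Type u) [AddCommGroup M]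
      [Module (TensorProduct A p.asIdeal.ResidueField B) M],
      HasProjectiveDimensionLT (ModuleCat.of (TensorProduct A p.asIdeal.ResidueField B) M) (d + 1))
    (a b : ℤ) (K : Dual.D B) (hK : DRing.IsPseudoCoherent' B K)
    (hKa : DRing.HasTorAmplitudeIn A a b ((DRing.restrictD (algebraMap A B)).obj K)) :
    DRing.IsPerfect B K ∧ DRing.HasTorAmplitudeIn B (a - d) b K := by
  obtain ⟨F, c, hFc, hFff, ⟨e⟩⟩ := hK
  have hFproj : ∀ i, Module.Projective B (F.X i) := fun i => by
    haveI := (hFff i).2; exact Module.Projective.of_free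
  have hFflat : DRing.TermwiseFlat F := fun i => by haveI := hFproj i; infer_instance
  have hKa' : DRing.HasTorAmplitudeIn A a b
      ((DRing.restrictD (algebraMap A B)).obj (DRing.toD F)) :=
    hasTorAmplitudeIn_of_iso ((DRing.restrictD (algebraMap A B)).mapIso e.symm) hKa
  have hTA : DRing.HasTorAmplitudeIn B (a - d) b (DRing.toD F) := by
    refine hasTorAmplitudeIn_of_fibres F c hFc hFff (a - d) b ?_
    intro m hm i j k hij hjk hj
    haveI := hm.isPrime
    let p : Ideal A := m.comap (algebraMap A B)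
    haveI : p.IsPrime := Ideal.comap_isPrime (algebraMap A B) m
    let pp : PrimeSpectrum A := ⟨p, inferInstance⟩
    let g₁ : p.ResidueField →ₐ[A] (B ⧸ m) :=
      Ideal.ResidueField.liftₐ p (Algebra.ofId A (B ⧸ m))
        (fun x hx => by
          rw [RingHom.mem_ker]
          change algebraMap A (B ⧸ m) x = 0
          rw [IsScalarTower.algebraMap_apply A B (B ⧸ m), Ideal.Quotient.algebraMap_eq,
            Ideal.Quotient.eq_zero_iff_mem]
          exact hx)
        (fun x hx => by
          change IsUnit (algebraMap A (B ⧸ m) x)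
          rw [IsScalarTower.algebraMap_apply A B (B ⧸ m), Ideal.Quotient.algebraMap_eq]
          exact isUnit_mk_of_not_mem m hm _ hx)
    let g₂ : B →ₐ[A] (B ⧸ m) := IsScalarTower.toAlgHom A B (B ⧸ m)
    let ψ : p.ResidueField ⊗[A] B →ₐ[A] (B ⧸ m) :=
      Algebra.TensorProduct.lift g₁ g₂ (fun _ _ => Commute.all _ _)
    letI algC : Algebra (p.ResidueField ⊗[A] B) (B ⧸ m) := ψ.toRingHom.toAlgebra
    haveI : IsScalarTower B (p.ResidueField ⊗[A] B) (B ⧸ m) :=
      IsScalarTower.of_algebraMap_eq (fun x => by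
        change algebraMap B (B ⧸ m) x = ψ ((1 : p.ResidueField) ⊗ₜ[A] x)
        rw [Algebra.TensorProduct.lift_tmul, map_one, one_mul]
        rfl)
    exact lTensor_exact_of_pushout_fibre (A := A) (κ := p.ResidueField)
      (C := p.ResidueField ⊗[A] B) (κ' := B ⧸ m) d (hgl pp) F c hFc hFproj a b
      (fun i j k hij hjk hj => exact_lTensor_restrict_of_hasTorAmplitudeIn F c hFc hFflat a b hKa'
        p.ResidueField i j k hij hjk hj) i j k hij hjk hj
  exact ⟨(isPerfect_iff_pc_and_finiteTorDim K).mpr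
    ⟨⟨F, c, hFc, hFff, ⟨e⟩⟩, a - d, b, hasTorAmplitudeIn_of_iso e hTA⟩,
    hasTorAmplitudeIn_of_iso e hTA⟩

end S7035

section S6977

variable {A B : Type u} [CommRing A] [CommRing B] [Algebra A B]

lemma isPushout_quotient (I : Ideal A) :
    Algebra.IsPushout A (A ⧸ I) B (B ⧸ I.map (algebraMap A B)) := by
  haveI h0 : Algebra.IsPushout A B (A ⧸ I) (B ⊗[A] (A ⧸ I)) := TensorProduct.isPushout
  have h1 : Algebra.IsPushout A B (A ⧸ I) (B ⧸ I.map (algebraMap A B)) :=
    Algebra.IsPushout.of_equiv (Algebra.TensorProduct.quotIdealMapEquivTensorQuot B I).symm (by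
      refine Ideal.Quotient.ringHom_ext (RingHom.ext fun x => ?_)
      change (Algebra.TensorProduct.quotIdealMapEquivTensorQuot B I).symm
        ((1 : B) ⊗ₜ[A] (Ideal.Quotient.mk I x)) = Ideal.Quotient.mk _ (algebraMap A B x)
      rw [Algebra.TensorProduct.quotIdealMapEquivTensorQuot_symm_tmul,
        Algebra.algebraMap_eq_smul_one]
      rfl)
  exact h1.symm

/-- S6977 -/
theorem isPerfect_of_flat_local_regular_fibre [IsLocalRing A]
    [IsLocalRing B] [IsLocalHom (algebraMap A B)] [Module.Flat A B] (d : ℕ)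
    [IsRegularLocalRing (B ⧸ (IsLocalRing.maximalIdeal A).map (algebraMap A B))]
    (hd : ringKrullDim (B ⧸ (IsLocalRing.maximalIdeal A).map (algebraMap A B)) = d)
    [DRing.HasLBaseChange (IsLocalRing.residue A)] (a b : ℤ) (K : Dual.D B)
    (hK : DRing.IsPseudoCoherent' B K)
    (h : ∀ i : ℤ, (i < a ∨ b < i) → Subsingleton (Dual.HD (IsLocalRing.ResidueField A)
      ((DRing.LBaseChange (IsLocalRing.residue A)).obj
        ((DRing.restrictD (algebraMap A B)).obj K)) i)) :
    DRing.IsPerfect B K ∧ DRing.HasTorAmplitudeIn B (a - d) b K := by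
  obtain ⟨F, c, hFc, hFff, ⟨e⟩⟩ := hK
  have hFproj : ∀ i, Module.Projective B (F.X i) := fun i => by
    haveI := (hFff i).2; exact Module.Projective.of_free
  have hFflat : DRing.TermwiseFlat F := fun i => by haveI := hFproj i; infer_instance
  haveI hLB : DRing.HasLBaseChange (algebraMap A (A ⧸ IsLocalRing.maximalIdeal A)) :=
    ‹DRing.HasLBaseChange (IsLocalRing.residue A)›
  have h' : ∀ i : ℤ, (i < a ∨ b < i) → IsZero ((H (A ⧸ IsLocalRing.maximalIdeal A) i).obj
      ((DRing.LBaseChange (algebraMap A (A ⧸ IsLocalRing.maximalIdeal A))).obj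
        ((DRing.restrictD (algebraMap A B)).obj K))) :=
    fun i hi => isZero_H_of_subsingleton _ i (h i hi)
  let G : DRing.Cx A := ((ModuleCat.restrictScalars.{u} (algebraMap A B)).mapHomologicalComplex
    (ComplexShape.up ℤ)).obj F
  have hGc : DRing.VanishesAbove G c :=
    vanishesAbove_mapHC (ModuleCat.restrictScalars.{u} (algebraMap A B)) F c hFc
  have hGflat : DRing.TermwiseFlat G := fun i => by
    haveI := hFflat i
    exact flat_restrictScalars (F.X i)
  let eG : (DRing.restrictD (algebraMap A B)).obj K ≅ DRing.toD G :=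
    (DRing.restrictD (algebraMap A B)).mapIso e.symm ≪≫
      (ModuleCat.restrictScalars.{u} (algebraMap A B)).mapDerivedCategoryFactors.app F
  have hex : ∀ i j k : ℤ, i + 1 = j → j + 1 = k → (j < a ∨ b < j) →
      Function.Exact
        (((ModuleCat.restrictScalars.{u} (algebraMap A B)).map (F.d i j)).hom.lTensor
          (A ⧸ IsLocalRing.maximalIdeal A))
        (((ModuleCat.restrictScalars.{u} (algebraMap A B)).map (F.d j k)).hom.lTensor
          (A ⧸ IsLocalRing.maximalIdeal A)) :=
    fun i j k hij hjk hj => exact_lTensor_of_isZero_H_LBaseChange G c hGc hGflat j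
      ((h' j hj).of_iso ((H _ j).mapIso ((DRing.LBaseChange _).mapIso eG.symm))) i k hij hjk
  have hgl : ∀ (M : Type u) [AddCommGroup M]
      [Module (B ⧸ (IsLocalRing.maximalIdeal A).map (algebraMap A B)) M],
      HasProjectiveDimensionLT
        (ModuleCat.of (B ⧸ (IsLocalRing.maximalIdeal A).map (algebraMap A B)) M) (d + 1) :=
    fun M _ _ => globalDim_le_of_regular
      (R := B ⧸ (IsLocalRing.maximalIdeal A).map (algebraMap A B))
      (fun p => Groth.Agent.Lib.Helper26.RegularRing.isRegularLocalRing_localization_atPrime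
        (B ⧸ (IsLocalRing.maximalIdeal A).map (algebraMap A B)) p.asIdeal) d hd M
  haveI := isPushout_quotient (B := B) (IsLocalRing.maximalIdeal A)
  have hTA : DRing.HasTorAmplitudeIn B (a - d) b (DRing.toD F) := by
    refine hasTorAmplitudeIn_of_fibres F c hFc hFff (a - d) b ?_
    intro m hm i j k hij hjk hj
    have hle : (IsLocalRing.maximalIdeal A).map (algebraMap A B) ≤ m := by
      rw [IsLocalRing.eq_maximalIdeal hm]
      exact ((IsLocalRing.local_hom_TFAE (algebraMap A B)).out 0 2).mp
        ‹IsLocalHom (algebraMap A B)›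
    letI : Algebra (B ⧸ (IsLocalRing.maximalIdeal A).map (algebraMap A B)) (B ⧸ m) :=
      (Ideal.Quotient.factor hle).toAlgebra
    haveI : IsScalarTower B (B ⧸ (IsLocalRing.maximalIdeal A).map (algebraMap A B)) (B ⧸ m) :=
      IsScalarTower.of_algebraMap_eq (fun r => rfl)
    exact lTensor_exact_of_pushout_fibre (A := A) (κ := A ⧸ IsLocalRing.maximalIdeal A)
      (C := B ⧸ (IsLocalRing.maximalIdeal A).map (algebraMap A B)) (κ' := B ⧸ m) d hgl F c hFc
      hFproj a b hex i j k hij hjk hj
  exact ⟨(isPerfect_iff_pc_and_finiteTorDim K).mpr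
    ⟨⟨F, c, hFc, hFff, ⟨e⟩⟩, a - d, b, hasTorAmplitudeIn_of_iso e hTA⟩,
    hasTorAmplitudeIn_of_iso e hTA⟩

end S6977

end Groth.Agent.Lib.Helper18.DR
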