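import Mathlib
import Groth.Agent.Lib.Helper18.DRPerf2
import Groth.Agent.Lib.Helper18.DRRel4

/-!
# Perfect complexes and restriction of scalars along a perfect algebra (helper18)
-/

set_option autoImplicit false
set_option linter.style.haveILetI false
universe u
open CategoryTheory CategoryTheory.Limits CategoryTheory.Pretriangulated DerivedCategory

attribute [local instance] HasDerivedCategory.standard

namespace Groth.Agent.Lib.Helper18.DR

variable {A B : Type u} [CommRing A] [CommRing B] (φ : A →+* B)

/-- the property "the restriction to `A` is perfect" -/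
def resPerfect : ObjectProperty (Dual.D B) := fun K => DRing.IsPerfect A ((DRing.restrictD φ).obj K)

instance : (resPerfect φ).IsClosedUnderIsomorphisms where
  of_iso e h := isPerfect_of_iso ((DRing.restrictD φ).mapIso e) h

/-- Stacks 066X-type: restriction along `A → B` with `B` perfect over `A` preserves perfectness -/
theorem isPerfect_restrictD (hB : DRing.IsPerfect A (Sg 0 (resM φ (ModuleCat.of B B))))
    (K : Dual.D B) (hK : DRing.IsPerfect B K) : DRing.IsPerfect A ((DRing.restrictD φ).obj K) := by
  refine perfect_induction (resPerfect φ) ?_ ?_ ?_ ?_ K hK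
  · exact isPerfect_of_iso (restrictDSgIso φ 0 (ModuleCat.of B B)).symm hB
  · intro K n h
    exact isPerfect_of_iso (((DRing.restrictD φ).commShiftIso n).app K).symm (isPerfect_shift h n)
  · intro T hT h1 h3
    exact (isPerfect_two_of_three _ ((DRing.restrictD φ).map_distinguished _ hT)).2.1 h1 h3
  · intro X Y _ h
    haveI : PreservesBiproductsOfShape WalkingPair (DRing.restrictD φ) :=
      PreservesFiniteBiproducts.preserves
    haveI : PreservesBinaryBiproducts (DRing.restrictD φ) :=
      preservesBinaryBiproducts_of_preservesBiproducts _
    exact (isPerfect_of_biprod _ _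
      (isPerfect_of_iso ((DRing.restrictD φ).mapBiprod X Y) h)).1

/-- S6956 -/
theorem isPerfect_restrictScalars_of_perfect_algebra {A B : Type u} [CommRing A] [CommRing B]
    [Algebra A B] (hB : DRing.IsPerfectModule A B) (K : Dual.D B) (hK : DRing.IsPerfect B K) :
    DRing.IsPerfect A ((DRing.restrictD (algebraMap A B)).obj K) := by
  apply isPerfect_restrictD _ _ K hK
  let e : B ≃ₗ[A] resM (algebraMap A B) (ModuleCat.of B B) :=
    { toFun := fun b => b
      invFun := fun b => b
      map_add' := fun _ _ => rfl
      map_smul' := fun a b => (Algebra.smul_def a b).trans rfl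
      left_inv := fun _ => rfl
      right_inv := fun _ => rfl }
  exact isPerfect_of_iso ((singleFunctor (ModuleCat.{u} A) 0).mapIso e.toModuleIso) hB

end Groth.Agent.Lib.Helper18.DR
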