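import Mathlib
import Groth.Agent.Lib.Helper18.CoextB

/-!
# The triangle `RHom(A/f, ω) → ω → ω`, continued (helper18)
-/

set_option autoImplicit false
set_option linter.style.haveILetI false
universe u
open CategoryTheory CategoryTheory.Limits CategoryTheory.Pretriangulated DerivedCategory

attribute [local instance] HasDerivedCategory.standard

namespace Groth.Agent.Lib.Helper18.DR

namespace Coext

variable {A : Type u} [CommRing A] (f : A)

/-- the short complex `Hom_A(A/f, J) → J → J` -/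
noncomputable def torsionSC (J : DRing.Cx A) : ShortComplex (DRing.Cx A) where
  X₁ := (DTen.resCx (Ideal.Quotient.mk (Ideal.span {f}))).obj
    ((coextCx (Ideal.Quotient.mk (Ideal.span {f}))).obj J)
  X₂ := J
  X₃ := J
  f := counitCx (Ideal.Quotient.mk (Ideal.span {f})) J
  g := f • 𝟙 J
  zero := by
    ext n x
    exact smul_counit_eq_zero (Ideal.span {f}) (J.X n) x f (Ideal.mem_span_singleton_self f)

lemma torsionSC_shortExact (J : DRing.Cx A) (hJ : DRing.TermwiseInjective J)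
    (hf : f ∈ nonZeroDivisors A) : (torsionSC f J).ShortExact := by
  apply HomologicalComplex.shortExact_of_degreewise_shortExact
  intro i
  apply ModuleCat.shortComplex_shortExact
  · intro (y : J.X i)
    constructor
    · intro hy
      have hy' : f • y = 0 := hy
      refine ⟨torsionLift (Ideal.span {f}) (J.X i) y ?_,
        counit_torsionLift (Ideal.span {f}) (J.X i) y _⟩
      intro a ha
      obtain ⟨c, rfl⟩ := Ideal.mem_span_singleton'.1 ha
      rw [mul_smul, hy', smul_zero]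
    · rintro ⟨x, rfl⟩
      exact smul_counit_eq_zero (Ideal.span {f}) (J.X i) x f (Ideal.mem_span_singleton_self f)
  · exact counit_injective (Ideal.span {f}) (J.X i)
  · intro (y : J.X i)
    haveI := hJ i
    exact exists_smul_eq_of_injective (J.X i) f hf y

/-- transporting a distinguished triangle `X₁ → Y → Y → X₁[1]` along isomorphisms -/
lemma distinguished_transport {C : Type*} [Category C] [HasZeroObject C] [HasShift C ℤ]
    [Preadditive C] [∀ n : ℤ, (shiftFunctor C n).Additive] [Pretriangulated C]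
    {X₁ Y X₁' Y' : C} (m₁ : X₁ ⟶ Y) (m₂ : Y ⟶ Y) (m₃ : Y ⟶ X₁⟦(1 : ℤ)⟧)
    (h : Triangle.mk m₁ m₂ m₃ ∈ distTriang C) (e₁ : X₁' ≅ X₁) (e₂ : Y ≅ Y') (m₂' : Y' ⟶ Y')
    (hm : m₂' ≫ e₂.inv = e₂.inv ≫ m₂) :
    Triangle.mk (e₁.hom ≫ m₁ ≫ e₂.hom) m₂' (e₂.inv ≫ m₃ ≫ e₁.inv⟦(1 : ℤ)⟧') ∈ distTriang C := by
  refine isomorphic_distinguished _ h _ (Triangle.isoMk _ _ e₁ e₂.symm e₂.symm ?_ ?_ ?_)
  · change (e₁.hom ≫ m₁ ≫ e₂.hom) ≫ e₂.inv = e₁.hom ≫ m₁
    rw [Category.assoc, Category.assoc, Iso.hom_inv_id, Category.comp_id]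
  · exact hm
  · change (e₂.inv ≫ m₃ ≫ (shiftFunctor C (1 : ℤ)).map e₁.inv) ≫
      (shiftFunctor C (1 : ℤ)).map e₁.hom = e₂.inv ≫ m₃
    rw [Category.assoc, Category.assoc, ← Functor.map_comp, Iso.inv_hom_id,
      CategoryTheory.Functor.map_id, Category.comp_id]

/-- S8941, abstract form -/
theorem exists_triangle_quotient_nonZeroDivisor (ω : Dual.D A) (J : DRing.Cx A)
    (hJ : DRing.TermwiseInjective J) [J.IsKInjective] (e₂ : DRing.toD J ≅ ω)
    (hf : f ∈ nonZeroDivisors A) (R : Dual.D A ⥤ Dual.D (A ⧸ Ideal.span {f}))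
    (adj : DRing.restrictD (Ideal.Quotient.mk (Ideal.span {f})) ⊣ R) :
    ∃ (u : (DRing.restrictD (Ideal.Quotient.mk (Ideal.span {f}))).obj (R.obj ω) ⟶ ω)
      (w : ω ⟶ ((DRing.restrictD (Ideal.Quotient.mk (Ideal.span {f}))).obj (R.obj ω))⟦(1 : ℤ)⟧),
      Triangle.mk u (f • 𝟙 ω) w ∈ distTriang (Dual.D A) := by
  have hS := torsionSC_shortExact f J hJ hf
  have hm : (f • 𝟙 ω) ≫ e₂.inv = e₂.inv ≫ DerivedCategory.Q.map (f • 𝟙 J) := by
    rw [Functor.map_smul, CategoryTheory.Functor.map_id, Linear.comp_smul, Linear.smul_comp,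
      Category.id_comp, Category.comp_id]
  have hT : Triangle.mk (DerivedCategory.Q.map ((torsionSC f J).f : (torsionSC f J).X₁ ⟶ J))
      (DerivedCategory.Q.map (f • 𝟙 J)) (DerivedCategory.triangleOfSESδ hS) ∈
        distTriang (Dual.D A) := DerivedCategory.triangleOfSES_distinguished hS
  let e₁ : (DRing.restrictD (Ideal.Quotient.mk (Ideal.span {f}))).obj (R.obj ω) ≅
      DerivedCategory.Q.obj (torsionSC f J).X₁ :=
    (DRing.restrictD (Ideal.Quotient.mk (Ideal.span {f}))).mapIso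
      (R.mapIso e₂.symm ≪≫ (rightAdjointIso _ R adj J).symm) ≪≫
      (DTen.resFactors (Ideal.Quotient.mk (Ideal.span {f}))).app _
  exact ⟨_, _, distinguished_transport _ _ _ hT e₁ e₂ (f • 𝟙 ω) hm⟩

end Coext

end Groth.Agent.Lib.Helper18.DR
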