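import Mathlib
import Groth.Prelude.Def_DTen6
import Groth.Agent.Lib.Helper18.DRChain

/-!
# Chain-level projection formula `res (L ⊗_{R'} ext K) ≅ res L ⊗_R K` (helper18)
-/

set_option autoImplicit false
set_option linter.style.haveILetI false
set_option backward.isDefEq.respectTransparency false
universe u
open CategoryTheory CategoryTheory.Limits MonoidalCategory DerivedCategory
open TensorProduct

attribute [local instance] HasDerivedCategory.standard

namespace Groth.Agent.Lib.Helper18.DR

namespace ProjCx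

open DTen

variable {R R' : Type u} [CommRing R] [CommRing R'] (φ : R →+* R')

/-- `(l, k) ↦ res l ⊗_R k` -/
noncomputable abbrev F₁ : ModuleCat.{u} R' ⥤ ModuleCat.{u} R ⥤ ModuleCat.{u} R :=
  resM φ ⋙ curriedTensor (ModuleCat.{u} R)

/-- `(l, k) ↦ res (l ⊗_{R'} ext k)` -/
noncomputable abbrev F₂ : ModuleCat.{u} R' ⥤ ModuleCat.{u} R ⥤ ModuleCat.{u} R :=
  resTenTgt φ ⋙ (Functor.whiskeringLeft _ _ _).obj (extM φ)

/-- the projection map `res l ⊗_R k ⟶ res (l ⊗_{R'} ext k)`, `m ⊗ x ↦ m ⊗ (1 ⊗ x)` -/
noncomputable def projApp (l : ModuleCat.{u} R') (k : ModuleCat.{u} R) :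
    ((F₁ φ).obj l).obj k ⟶ ((F₂ φ).obj l).obj k :=
  ((resM φ).obj l ◁ (ModuleCat.extendRestrictScalarsAdj.{u, u, u} φ).unit.app k) ≫
    resTen₀app φ l ((extM φ).obj k)

lemma projApp_tmul (l : ModuleCat.{u} R') (k : ModuleCat.{u} R) (m : l) (x : k) :
    (projApp φ l k).hom ((show (resM φ).obj l from m) ⊗ₜ[R] x) =
      (show (resM φ).obj (l ⊗ (extM φ).obj k) from
        (m ⊗ₜ[R'] ((1 : R') ⊗ₜ[R] x : (extM φ).obj k) : (l ⊗ (extM φ).obj k : ModuleCat.{u} R'))) :=
  rfl

/-- inner part of the inverse: `r' ⊗ x ↦ (r' • m) ⊗ x` -/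
noncomputable def invInner (l : ModuleCat.{u} R') (k : ModuleCat.{u} R) (m : l) :
    ((extM φ).obj k) →+ (((resM φ).obj l ⊗ k : ModuleCat.{u} R)) :=
  TensorProduct.liftAddHom (R := R) (M := (resM φ).obj (ModuleCat.of R' R')) (N := k)
    { toFun := fun r' =>
        { toFun := fun x => (show (resM φ).obj l from ((show R' from r') • m)) ⊗ₜ[R] x
          map_zero' := TensorProduct.tmul_zero _ _
          map_add' := fun x y => TensorProduct.tmul_add _ x y }
      map_zero' := by
        ext x
        change (show (resM φ).obj l from ((0 : R') • m)) ⊗ₜ[R] x = 0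
        rw [zero_smul]
        exact TensorProduct.zero_tmul _ _
      map_add' := fun a b => by
        ext x
        change (show (resM φ).obj l from (((show R' from a) + (show R' from b)) • m)) ⊗ₜ[R] x =
          (show (resM φ).obj l from ((show R' from a) • m)) ⊗ₜ[R] x +
            (show (resM φ).obj l from ((show R' from b) • m)) ⊗ₜ[R] x
        rw [add_smul]
        exact TensorProduct.add_tmul _ _ _ }
    (fun r a x => by
      change (show (resM φ).obj l from ((φ r * (show R' from a)) • m)) ⊗ₜ[R] x =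
        (show (resM φ).obj l from ((show R' from a) • m)) ⊗ₜ[R] (r • x)
      rw [TensorProduct.tmul_smul, ← TensorProduct.smul_tmul', mul_smul]
      rfl)

lemma invInner_tmul (l : ModuleCat.{u} R') (k : ModuleCat.{u} R) (m : l) (r' : R') (x : k) :
    invInner φ l k m ((r' ⊗ₜ[R] x : (extM φ).obj k)) =
      (show (resM φ).obj l from (r' • m)) ⊗ₜ[R] x := rfl

lemma invInner_zero (l : ModuleCat.{u} R') (k : ModuleCat.{u} R) (y : (extM φ).obj k) :
    invInner φ l k (0 : l) y = 0 := by
  induction y using TensorProduct.induction_on with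
  | zero => exact map_zero _
  | tmul r' x =>
    change (show (resM φ).obj l from ((show R' from r') • (0 : l))) ⊗ₜ[R] x = 0
    rw [smul_zero]
    exact TensorProduct.zero_tmul _ _
  | add a b ha hb => rw [map_add, ha, hb, add_zero]

lemma invInner_add (l : ModuleCat.{u} R') (k : ModuleCat.{u} R) (m m' : l)
    (y : (extM φ).obj k) :
    invInner φ l k (m + m') y = invInner φ l k m y + invInner φ l k m' y := by
  induction y using TensorProduct.induction_on with
  | zero => rw [map_zero, map_zero, map_zero, add_zero]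
  | tmul r' x =>
    change (show (resM φ).obj l from ((show R' from r') • (m + m'))) ⊗ₜ[R] x =
      (show (resM φ).obj l from ((show R' from r') • m)) ⊗ₜ[R] x +
        (show (resM φ).obj l from ((show R' from r') • m')) ⊗ₜ[R] x
    rw [smul_add]
    exact TensorProduct.add_tmul _ _ _
  | add a b ha hb => rw [map_add, map_add, map_add, ha, hb]; abel

lemma invInner_smul (l : ModuleCat.{u} R') (k : ModuleCat.{u} R) (s : R') (m : l)
    (y : (extM φ).obj k) :
    invInner φ l k (s • m) y = invInner φ l k m (s • y) := by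
  induction y using TensorProduct.induction_on with
  | zero => rw [smul_zero, map_zero, map_zero]
  | tmul r' x =>
    change (show (resM φ).obj l from ((show R' from r') • s • m)) ⊗ₜ[R] x =
      (show (resM φ).obj l from ((s * (show R' from r')) • m)) ⊗ₜ[R] x
    rw [smul_smul, mul_comm]
  | add a b ha hb => rw [smul_add, map_add, map_add, ha, hb]

/-- the inverse of the projection map: `m ⊗ (r' ⊗ x) ↦ (r' • m) ⊗ x` -/
noncomputable def invProj (l : ModuleCat.{u} R') (k : ModuleCat.{u} R) :
    ((l ⊗ (extM φ).obj k : ModuleCat.{u} R')) →+ (((resM φ).obj l ⊗ k : ModuleCat.{u} R)) :=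
  TensorProduct.liftAddHom (R := R') (M := l) (N := (extM φ).obj k)
    { toFun := fun m => invInner φ l k m
      map_zero' := by
        ext y
        exact invInner_zero φ l k y
      map_add' := fun m m' => by
        ext y
        exact invInner_add φ l k m m' y }
    (fun s m y => invInner_smul φ l k s m y)

lemma invProj_tmul (l : ModuleCat.{u} R') (k : ModuleCat.{u} R) (m : l) (y : (extM φ).obj k) :
    invProj φ l k (m ⊗ₜ[R'] y) = invInner φ l k m y := rfl

lemma invProj_projApp (l : ModuleCat.{u} R') (k : ModuleCat.{u} R)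
    (z : ((resM φ).obj l ⊗ k : ModuleCat.{u} R)) :
    invProj φ l k ((projApp φ l k).hom z) = z := by
  induction z using TensorProduct.induction_on with
  | zero => rw [map_zero, map_zero]
  | tmul m x =>
    change (show (resM φ).obj l from ((1 : R') • (show l from m))) ⊗ₜ[R] x = m ⊗ₜ[R] x
    rw [one_smul]
  | add a b ha hb => rw [map_add, map_add, ha, hb]

lemma projApp_invProj (l : ModuleCat.{u} R') (k : ModuleCat.{u} R)
    (w : (l ⊗ (extM φ).obj k : ModuleCat.{u} R')) :
    (projApp φ l k).hom (invProj φ l k w) = w := by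
  induction w using TensorProduct.induction_on with
  | zero => rw [map_zero, map_zero]
  | tmul m y =>
    induction y using TensorProduct.induction_on with
    | zero => rw [TensorProduct.tmul_zero, map_zero, map_zero]
    | tmul r' x =>
      change (((show R' from r') • m) ⊗ₜ[R'] ((1 : R') ⊗ₜ[R] x : (extM φ).obj k) :
        (l ⊗ (extM φ).obj k : ModuleCat.{u} R')) = m ⊗ₜ[R'] (r' ⊗ₜ[R] x)
      rw [TensorProduct.smul_tmul]
      congr 1
      exact (ModuleCat.ExtendScalars.smul_tmul φ r' 1 x).trans (by rw [mul_one])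
    | add a b ha hb => rw [TensorProduct.tmul_add, map_add, map_add, ha, hb]
  | add a b ha hb => rw [map_add, map_add, ha, hb]

instance isIso_projApp (l : ModuleCat.{u} R') (k : ModuleCat.{u} R) : IsIso (projApp φ l k) := by
  rw [ConcreteCategory.isIso_iff_bijective]
  refine ⟨fun a b hab => ?_, fun w => ⟨invProj φ l k w, projApp_invProj φ l k w⟩⟩
  have := congrArg (invProj φ l k) hab
  erw [invProj_projApp, invProj_projApp] at this
  exact this

/-- the projection maps as a natural transformation of bifunctors -/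
noncomputable def projNat : F₁ φ ⟶ F₂ φ where
  app l :=
    { app := fun k => projApp φ l k
      naturality := fun k k' g => by
        ext : 1
        exact TensorProduct.ext' (fun m n => rfl) }
  naturality l l' f := by
    ext k : 2
    exact ModuleCat.hom_ext (TensorProduct.ext' (fun m n => rfl))

instance isIso_projNat : IsIso (projNat φ) := by
  haveI : ∀ l, IsIso ((projNat φ).app l) := fun l => by
    haveI : ∀ k, IsIso (((projNat φ).app l).app k) := fun k => isIso_projApp φ l k
    exact NatIso.isIso_of_isIso_app _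
  exact NatIso.isIso_of_isIso_app _

/-- the projection isomorphism of bifunctors -/
noncomputable def projIso : F₁ φ ≅ F₂ φ := asIso (projNat φ)

/-! ### one-sided re-reading of bicomplexes -/

section Glue

universe v₁ v₂ v₃ v₄ u₁ u₂ u₃ u₄

variable {C₁ : Type u₁} {C₂ : Type u₂} {C' : Type u₃} {D : Type u₄}
  [Category.{v₁} C₁] [Category.{v₂} C₂] [Category.{v₃} C'] [Category.{v₄} D]
  [HasZeroMorphisms C₁] [HasZeroMorphisms C₂] [HasZeroMorphisms C'] [Preadditive D]
  {I₁ I₂ : Type} {c₁ : ComplexShape I₁} {c₂ : ComplexShape I₂}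

/-- `F(G K₁, K₂) = (G ⋙ F)(K₁, K₂)` as bicomplexes -/
noncomputable def precompLeftIso (G : C' ⥤ C₁) [G.PreservesZeroMorphisms]
    (F : C₁ ⥤ C₂ ⥤ D) [F.PreservesZeroMorphisms] [∀ X₁, (F.obj X₁).PreservesZeroMorphisms]
    [(G ⋙ F).PreservesZeroMorphisms] [∀ X₁, ((G ⋙ F).obj X₁).PreservesZeroMorphisms]
    (K₁ : HomologicalComplex C' c₁) (K₂ : HomologicalComplex C₂ c₂) :
    ((F.mapBifunctorHomologicalComplex c₁ c₂).obj ((G.mapHomologicalComplex c₁).obj K₁)).obj K₂ ≅
      (((G ⋙ F).mapBifunctorHomologicalComplex c₁ c₂).obj K₁).obj K₂ :=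
  HomologicalComplex.Hom.isoOfComponents
    (fun i₁ => HomologicalComplex.Hom.isoOfComponents (fun i₂ => Iso.refl _) (fun i₂ i₂' _ => by
      simp only [Iso.refl_hom, Category.id_comp, Category.comp_id]; rfl))
    (fun i₁ i₁' _ => HomologicalComplex.hom_ext _ _ (fun i₂ => by
      simp only [HomologicalComplex.comp_f, HomologicalComplex.Hom.isoOfComponents_hom_f, Iso.refl_hom,
        Category.id_comp, Category.comp_id]; rfl))

/-- `F(K₁, G K₂) = (F ⋙ whiskeringLeft G)(K₁, K₂)` as bicomplexes -/
noncomputable def precompRightIso (G : C' ⥤ C₂) [G.PreservesZeroMorphisms]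
    (F : C₁ ⥤ C₂ ⥤ D) [F.PreservesZeroMorphisms] [∀ X₁, (F.obj X₁).PreservesZeroMorphisms]
    [(F ⋙ (Functor.whiskeringLeft C' C₂ D).obj G).PreservesZeroMorphisms]
    [∀ X₁, ((F ⋙ (Functor.whiskeringLeft C' C₂ D).obj G).obj X₁).PreservesZeroMorphisms]
    (K₁ : HomologicalComplex C₁ c₁) (K₂ : HomologicalComplex C' c₂) :
    ((F.mapBifunctorHomologicalComplex c₁ c₂).obj K₁).obj ((G.mapHomologicalComplex c₂).obj K₂) ≅
      (((F ⋙ (Functor.whiskeringLeft C' C₂ D).obj G).mapBifunctorHomologicalComplex c₁ c₂).obj K₁).obj K₂ :=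
  HomologicalComplex.Hom.isoOfComponents
    (fun i₁ => HomologicalComplex.Hom.isoOfComponents (fun i₂ => Iso.refl _) (fun i₂ i₂' _ => by
      simp only [Iso.refl_hom, Category.id_comp, Category.comp_id]; rfl))
    (fun i₁ i₁' _ => HomologicalComplex.hom_ext _ _ (fun i₂ => by
      simp only [HomologicalComplex.comp_f, HomologicalComplex.Hom.isoOfComponents_hom_f, Iso.refl_hom,
        Category.id_comp, Category.comp_id]; rfl))

end Glue

/-! ### the chain-level projection isomorphism -/

instance : (F₁ φ).PreservesZeroMorphisms := inferInstance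

instance (l : ModuleCat.{u} R') : ((F₁ φ).obj l).PreservesZeroMorphisms :=
  (inferInstance : ((curriedTensor (ModuleCat.{u} R)).obj ((resM φ).obj l)).PreservesZeroMorphisms)

instance : (F₂ φ).PreservesZeroMorphisms := inferInstance

instance (l : ModuleCat.{u} R') : ((F₂ φ).obj l).PreservesZeroMorphisms :=
  (inferInstance : (extM φ ⋙ (curriedTensor (ModuleCat.{u} R')).obj l ⋙ resM φ).PreservesZeroMorphisms)

/-- the chain-level projection formula `res L ⊗_R K ≅ res (L ⊗_{R'} ext K)` -/
noncomputable def projCxIso (L : DRing.Cx R') (K : DRing.Cx R) :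
    (tensorT R).obj ((resCx φ).obj L, K) ≅
      (resCx φ).obj ((tensorT R').obj (L, (extCx φ).obj K)) :=
  HomologicalComplex₂.total.mapIso
      (precompLeftIso (resM φ) (curriedTensor (ModuleCat.{u} R)) L K) (ComplexShape.up ℤ) ≪≫
    TotMap.mapBifunctorNatIso L K (ComplexShape.up ℤ) (projIso φ) ≪≫
    (HomologicalComplex₂.total.mapIso
      (precompRightIso (extM φ) (resTenTgt φ) L K) (ComplexShape.up ℤ)).symm ≪≫
    HomologicalComplex₂.total.mapIso
      (TotMap.mapBifunctorPostcompIso (curriedTensor (ModuleCat.{u} R')) (resM φ) L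
        ((extCx φ).obj K)) (ComplexShape.up ℤ) ≪≫
    (TotMap.mapTotalIso (resM φ) (tenBicx L ((extCx φ).obj K)) (ComplexShape.up ℤ)).symm

/-- restriction of scalars preserves and reflects exactness -/
lemma exactAt_resCx_iff (L : DRing.Cx R') (i : ℤ) :
    ((resCx φ).obj L).ExactAt i ↔ L.ExactAt i := by
  rw [exactAt_iff_function_exact _ (i - 1) i (i + 1) (by omega) rfl,
    exactAt_iff_function_exact L (i - 1) i (i + 1) (by omega) rfl]
  exact Iff.rfl

/-- base change of a K-flat complex is K-flat -/
theorem kflat_extCx (K : DRing.Cx R)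
    (hK : ∀ L : DRing.Cx R, (∀ i : ℤ, IsZero (L.homology i)) →
      ∀ i : ℤ, IsZero ((L ⊗ K).homology i))
    (L : DRing.Cx R') (hL : ∀ i : ℤ, IsZero (L.homology i)) (i : ℤ) :
    IsZero ((L ⊗ (extCx φ).obj K).homology i) := by
  have h1 : ∀ j : ℤ, IsZero (((resCx φ).obj L).homology j) := fun j => by
    rw [← HomologicalComplex.exactAt_iff_isZero_homology, exactAt_resCx_iff,
      HomologicalComplex.exactAt_iff_isZero_homology]
    exact hL j
  have h2 := hK _ h1 i
  have h3 : IsZero (((resCx φ).obj ((tensorT R').obj (L, (extCx φ).obj K))).homology i) :=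
    h2.of_iso ((HomologicalComplex.homologyFunctor _ _ i).mapIso (projCxIso φ L K).symm)
  rw [← HomologicalComplex.exactAt_iff_isZero_homology, exactAt_resCx_iff,
    HomologicalComplex.exactAt_iff_isZero_homology] at h3
  exact h3

end ProjCx

end Groth.Agent.Lib.Helper18.DR
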