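import Mathlib
import Groth.Agent.Lib.Helper2.Tot.Exact
import Groth.Agent.Lib.Helper18.ProjCx
import Groth.Agent.Lib.Helper18.HomCxE

/-!
# The chain-level isomorphism `P ⊗_R res N ≅ res (ext P ⊗_A N)` (helper18)
-/

set_option autoImplicit false
set_option linter.style.haveILetI false
set_option backward.isDefEq.respectTransparency false
universe u
open CategoryTheory CategoryTheory.Limits MonoidalCategory HomologicalComplex
open TensorProduct

attribute [local instance] HasDerivedCategory.standard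

namespace Groth.Agent.Lib.Helper18.DR

namespace MixRes

open DTen ProjCx

/-- a map between colimit cofans which is an isomorphism on each summand is an isomorphism -/
lemma isIso_of_cofans {C : Type*} [Category C] {ι : Type*} {X Y : ι → C}
    (c : Cofan X) (hc : IsColimit c) (c' : Cofan Y) (hc' : IsColimit c')
    (f : ∀ i, X i ⟶ Y i) [∀ i, IsIso (f i)] (φ : c.pt ⟶ c'.pt)
    (hφ : ∀ i, c.inj i ≫ φ = f i ≫ c'.inj i) : IsIso φ := by
  refine ⟨Cofan.IsColimit.desc hc' (fun i => inv (f i) ≫ c.inj i), ?_, ?_⟩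
  · refine Cofan.IsColimit.hom_ext hc _ _ (fun i => ?_)
    rw [← Category.assoc, hφ, Category.assoc, Cofan.IsColimit.fac, IsIso.hom_inv_id_assoc,
      Category.comp_id]
  · refine Cofan.IsColimit.hom_ext hc' _ _ (fun i => ?_)
    rw [← Category.assoc, Cofan.IsColimit.fac, Category.assoc, hφ, IsIso.inv_hom_id_assoc,
      Category.comp_id]

variable {R A : Type u} [CommRing R] [CommRing A] (φ : R →+* A)

/-- the module-level map `p ⊗_R res n ⟶ res (ext p ⊗_A n)`, `x ⊗ y ↦ (1 ⊗ x) ⊗ y` -/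
noncomputable def mixApp (p : ModuleCat.{u} R) (n : ModuleCat.{u} A) :
    p ⊗ (resM φ).obj n ⟶ (resM φ).obj ((extM φ).obj p ⊗ n) :=
  ((ModuleCat.extendRestrictScalarsAdj.{u, u, u} φ).unit.app p ▷ (resM φ).obj n) ≫
    resTen₀app φ ((extM φ).obj p) n

lemma mixApp_eq (p : ModuleCat.{u} R) (n : ModuleCat.{u} A) :
    mixApp φ p n = (β_ p ((resM φ).obj n)).hom ≫ projApp φ n p ≫
      (resM φ).map (β_ n ((extM φ).obj p)).hom := by
  apply ModuleCat.hom_ext
  exact TensorProduct.ext' (fun x y => rfl)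

instance isIso_mixApp (p : ModuleCat.{u} R) (n : ModuleCat.{u} A) : IsIso (mixApp φ p n) := by
  rw [mixApp_eq]
  infer_instance

/-- the chain-level map `P ⊗_R res N ⟶ res (ext P ⊗_A N)` -/
noncomputable def mixResHom (P : DRing.Cx R) (N : DRing.Cx A) :
    P ⊗ (resCx φ).obj N ⟶ (resCx φ).obj ((mixT φ).obj (P, N)) :=
  ((unitCx φ).app P ▷ (resCx φ).obj N) ≫ resTenCx φ ((extCx φ).obj P) N

lemma ι_mixResHom (P : DRing.Cx R) (N : DRing.Cx A) (p q n : ℤ) (h : p + q = n) :
    ιTensorObj P ((resCx φ).obj N) p q n h ≫ (mixResHom φ P N).f n =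
      mixApp φ (P.X p) (N.X q) ≫ (resM φ).map (ιTensorObj ((extCx φ).obj P) N p q n h) := by
  dsimp only [mixResHom, mixApp]
  rw [HomologicalComplex.comp_f, ← Category.assoc]
  erw [HomCx.ι_whiskerRight_f]
  rw [Category.assoc]
  erw [ι_resTenCx φ ((extCx φ).obj P) N p q n h]
  rfl

instance preservesColimits_resM : PreservesColimits (resM φ) :=
  (ModuleCat.restrictCoextendScalarsAdj.{u, u, u} φ).leftAdjoint_preservesColimits

instance isIso_mixResHom_f (P : DRing.Cx R) (N : DRing.Cx A) (n : ℤ) :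
    IsIso ((mixResHom φ P N).f n) := by
  let c := Groth.Agent.Lib.Helper2.Tot.totCofan (curriedTensor (ModuleCat.{u} R)) P
    ((resCx φ).obj N) n
  let hc := Groth.Agent.Lib.Helper2.Tot.isColimitTotCofan (curriedTensor (ModuleCat.{u} R)) P
    ((resCx φ).obj N) n
  let c₀ := Groth.Agent.Lib.Helper2.Tot.totCofan (curriedTensor (ModuleCat.{u} A))
    ((extCx φ).obj P) N n
  let hc₀ := Groth.Agent.Lib.Helper2.Tot.isColimitTotCofan (curriedTensor (ModuleCat.{u} A))
    ((extCx φ).obj P) N n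
  have hc₀' : IsColimit (Cofan.mk c₀.pt c₀.inj) :=
    IsColimit.ofIsoColimit hc₀ (Cocones.ext (Iso.refl _) (fun ⟨j⟩ => Category.comp_id _))
  let c' : Cofan (fun i : Groth.Agent.Lib.Helper2.Tot.Idx n =>
      (resM φ).obj ((extM φ).obj (P.X i.1.1) ⊗ N.X i.1.2)) :=
    Cofan.mk ((resM φ).obj c₀.pt) (fun i => (resM φ).map (c₀.inj i))
  have hc' : IsColimit c' := isColimitCofanMkObjOfIsColimit (resM φ) _ _ hc₀'
  refine isIso_of_cofans c hc c' hc' (fun i => mixApp φ (P.X i.1.1) (N.X i.1.2))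
    ((mixResHom φ P N).f n) ?_
  rintro ⟨⟨p, q⟩, hpq⟩
  exact ι_mixResHom φ P N p q n hpq

instance isIso_mixResHom (P : DRing.Cx R) (N : DRing.Cx A) : IsIso (mixResHom φ P N) :=
  HomologicalComplex.Hom.isIso_of_components _

/-- the chain-level isomorphism `P ⊗_R res N ≅ res (ext P ⊗_A N)` -/
noncomputable def mixResIso (P : DRing.Cx R) (N : DRing.Cx A) :
    P ⊗ (resCx φ).obj N ≅ (resCx φ).obj ((mixT φ).obj (P, N)) :=
  asIso (mixResHom φ P N)

lemma mixResHom_natural {P P' : DRing.Cx R} {N N' : DRing.Cx A} (f : P ⟶ P') (g : N ⟶ N') :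
    (f ⊗ₘ (resCx φ).map g) ≫ mixResHom φ P' N' =
      mixResHom φ P N ≫ (resCx φ).map ((mixT φ).map (Prod.mkHom f g)) := by
  dsimp only [mixResHom]
  have h1 := (unitCx φ).naturality f
  have h2 := resTenCx_naturality φ ((extCx φ).map f) g
  have h3 : (mixT φ).map (Prod.mkHom f g) = ((extCx φ).map f ⊗ₘ g) := by
    change ((tensorT A).map (Prod.mkHom ((extCx φ).map f) g)) = _
    dsimp [tensorT]
    rw [← MonoidalCategory.tensorHom_def]
  rw [h3, Category.assoc, ← h2, ← Category.assoc, ← Category.assoc]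
  congr 1
  have h1' : f ≫ (unitCx φ).app P' = (unitCx φ).app P ≫ (resCx φ).map ((extCx φ).map f) := h1
  rw [MonoidalCategory.tensorHom_def, Category.assoc, MonoidalCategory.whisker_exchange,
    ← Category.assoc, ← MonoidalCategory.comp_whiskerRight, h1',
    MonoidalCategory.comp_whiskerRight, Category.assoc, ← MonoidalCategory.tensorHom_def]

end MixRes

end Groth.Agent.Lib.Helper18.DR
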