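import Mathlib
import Groth.Agent.Lib.Helper2.QuasiIsoSES

/-!
# Two-out-of-three for quasi-isomorphisms: the middle term (helper18)
-/

set_option autoImplicit false

open CategoryTheory Limits ComposableArrows

namespace Groth.Agent.Lib.Helper18.DR

namespace Psi

variable {C : Type*} [Category C] [Abelian C]
  {S₁ S₂ : ShortComplex (CochainComplex C ℤ)} (φ : S₁ ⟶ S₂)
  (hS₁ : S₁.ShortExact) (hS₂ : S₂.ShortExact)

open HomologicalComplex HomologicalComplex.HomologySequence

include hS₁ hS₂ in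
theorem quasiIso_τ₂ (h₁ : QuasiIso φ.τ₁) (h₃ : QuasiIso φ.τ₃) : QuasiIso φ.τ₂ := by
  rw [quasiIso_iff]
  intro j
  rw [quasiIsoAt_iff_isIso_homologyMap]
  have hij : (ComplexShape.up ℤ).Rel (j - 1) j := by simp
  have hjk : (ComplexShape.up ℤ).Rel j (j + 1) := by simp
  have hmono : Mono (homologyMap φ.τ₂ j) :=
    Abelian.mono_of_epi_of_mono_of_mono
      ((δ₀Functor ⋙ δ₀Functor).map (mapComposableArrows₅ φ hS₁ hS₂ (j - 1) j hij))
      (composableArrows₅_exact hS₁ (j - 1) j hij).δ₀.δ₀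
      (composableArrows₅_exact hS₂ (j - 1) j hij).δ₀.δ₀
      (inferInstanceAs (Epi (homologyMap φ.τ₃ (j - 1))))
      (inferInstanceAs (Mono (homologyMap φ.τ₁ j)))
      (inferInstanceAs (Mono (homologyMap φ.τ₃ j)))
  have hepi : Epi (homologyMap φ.τ₂ j) :=
    Abelian.epi_of_epi_of_epi_of_mono
      ((δlastFunctor ⋙ δlastFunctor).map (mapComposableArrows₅ φ hS₁ hS₂ j (j + 1) hjk))
      (composableArrows₅_exact hS₁ j (j + 1) hjk).δlast.δlast
      (composableArrows₅_exact hS₂ j (j + 1) hjk).δlast.δlast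
      (inferInstanceAs (Epi (homologyMap φ.τ₁ j)))
      (inferInstanceAs (Epi (homologyMap φ.τ₃ j)))
      (inferInstanceAs (Mono (homologyMap φ.τ₁ (j + 1))))
  exact isIso_of_mono_of_epi _

end Psi

end Groth.Agent.Lib.Helper18.DR
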