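import Mathlib
import Groth.Agent.Lib.Helper18.PsiA
import Groth.Agent.Lib.Helper18.PsiB
import Groth.Agent.Lib.Helper18.HomCxK
import Groth.Agent.Lib.Helper18.DTenB

/-!
# `Ψ : P ⊗ Hom•(E, L) ⟶ Hom•(E, P ⊗ L)` is a quasi-isomorphism for `E` strictly perfect (helper18)
-/

set_option autoImplicit false
set_option linter.style.haveILetI false
universe u
open CategoryTheory CategoryTheory.Limits MonoidalCategory HomologicalComplex
  CochainComplex.HomComplex

namespace Groth.Agent.Lib.Helper18.DR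

namespace Psi

open HomCx Groth.Agent.Lib.Helper2.Tot Groth.Agent.Lib.Helper2.Tot.DR

variable {A : Type u} [CommRing A]

/-- a contractible complex is acyclic -/
lemma acyclic_of_homotopy_id_zero {K : DRing.Cx A} (h : Homotopy (𝟙 K) 0) : K.Acyclic := by
  intro n
  rw [HomologicalComplex.exactAt_iff_isZero_homology, IsZero.iff_id_eq_zero]
  have := h.homologyMap_eq n
  rw [HomologicalComplex.homologyMap_id, HomologicalComplex.homologyMap_zero] at this
  exact this

/-- `Hom•(E, L)` is contractible if `E` is -/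
noncomputable def homCxContractible {E : DRing.Cx A} (h : Homotopy (𝟙 E) 0) (L : DRing.Cx A) :
    Homotopy (𝟙 (DRing.homCx E L)) 0 :=
  (Homotopy.ofEq (precomp_id L).symm).trans
    ((precompHomotopy h L).trans (Homotopy.ofEq (precomp_zero L)))

/-- `P ⊗ Y` is contractible if `Y` is -/
noncomputable def tensorContractible (P : DRing.Cx A) {Y : DRing.Cx A} (h : Homotopy (𝟙 Y) 0) :
    Homotopy (𝟙 (P ⊗ Y)) 0 :=
  (Homotopy.ofEq (by simp)).trans
    ((DTenB.tensorHomHomotopy (Homotopy.refl (𝟙 P)) h).trans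
      (Homotopy.ofEq (by
        rw [MonoidalCategory.id_tensorHom]
        exact (((T A).map₂CochainComplex).obj P).map_zero _ _)))

theorem quasiIso_Ψ_of_contractible {E : DRing.Cx A} (h : Homotopy (𝟙 E) 0) (P L : DRing.Cx A) :
    QuasiIso (Ψ E P L) :=
  quasiIso_of_acyclic _
    (acyclic_of_homotopy_id_zero (tensorContractible P (homCxContractible h L)))
    (acyclic_of_homotopy_id_zero (homCxContractible h (P ⊗ L)))

/-- the morphism of short complexes given by `Ψ` -/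
noncomputable def ΨSC (S : ShortComplex (DRing.Cx A)) (P L : DRing.Cx A) :
    (homCxSC S L).map (((T A).map₂CochainComplex).obj P) ⟶ homCxSC S (P ⊗ L) where
  τ₁ := Ψ S.X₃ P L
  τ₂ := Ψ S.X₂ P L
  τ₃ := Ψ S.X₁ P L
  comm₁₂ := Ψ_nat_E S.g P L
  comm₂₃ := Ψ_nat_E S.f P L

lemma shortExact_tensor_homCxSC (S : ShortComplex (DRing.Cx A))
    (σ : ∀ p, (S.map (HomologicalComplex.eval _ _ p)).Splitting) (P L : DRing.Cx A) :
    ((homCxSC S L).map (((T A).map₂CochainComplex).obj P)).ShortExact :=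
  shortExact_map₂ (T A) P (homCxSC S L)
    (fun p q => ((homCxSCSplitting S σ L q).map ((T A).obj (P.X p))).shortExact)

section ses

variable (S : ShortComplex (DRing.Cx A))
  (σ : ∀ p, (S.map (HomologicalComplex.eval _ _ p)).Splitting) (P L : DRing.Cx A)

include σ

theorem quasiIso_Ψ_X₂ (h₁ : QuasiIso (Ψ S.X₁ P L)) (h₃ : QuasiIso (Ψ S.X₃ P L)) :
    QuasiIso (Ψ S.X₂ P L) :=
  quasiIso_τ₂ (ΨSC S P L) (shortExact_tensor_homCxSC S σ P L) (homCxSC_shortExact S σ (P ⊗ L))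
    h₃ h₁

theorem quasiIso_Ψ_X₃ (h₁ : QuasiIso (Ψ S.X₁ P L)) (h₂ : QuasiIso (Ψ S.X₂ P L)) :
    QuasiIso (Ψ S.X₃ P L) :=
  Groth.Agent.Lib.Helper2.quasiIso_τ₁ (ΨSC S P L) (shortExact_tensor_homCxSC S σ P L)
    (homCxSC_shortExact S σ (P ⊗ L)) h₂ h₁

theorem quasiIso_Ψ_X₁ (h₂ : QuasiIso (Ψ S.X₂ P L)) (h₃ : QuasiIso (Ψ S.X₃ P L)) :
    QuasiIso (Ψ S.X₁ P L) :=
  HomologicalComplex.HomologySequence.quasiIso_τ₃ (ΨSC S P L)
    (shortExact_tensor_homCxSC S σ P L) (homCxSC_shortExact S σ (P ⊗ L)) h₃ h₂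

end ses

/-- invariance under isomorphisms -/
theorem quasiIso_Ψ_of_iso {X Y : DRing.Cx A} (e : X ≅ Y) (P L : DRing.Cx A)
    (h : QuasiIso (Ψ X P L)) : QuasiIso (Ψ Y P L) := by
  have h1 := Ψ_nat_E e.hom P L
  haveI : IsIso (precomp e.hom (P ⊗ L)) := (precompIso e (P ⊗ L)).isIso_hom
  haveI : IsIso (precomp e.hom L) := (precompIso e L).isIso_hom
  have h2 : Ψ Y P L = ((P ◁ precomp e.hom L) ≫ Ψ X P L) ≫ inv (precomp e.hom (P ⊗ L)) := by
    rw [← h1, Category.assoc, IsIso.hom_inv_id, Category.comp_id]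
  rw [h2]
  infer_instance

/-- shift by one -/
theorem quasiIso_Ψ_shift_one (X P L : DRing.Cx A) (h : QuasiIso (Ψ X P L)) :
    QuasiIso (Ψ (X⟦(1 : ℤ)⟧) P L) :=
  quasiIso_Ψ_X₃ (CochainComplex.mappingCone.triangleRotateShortComplex (𝟙 X))
    (CochainComplex.mappingCone.triangleRotateShortComplexSplitting (𝟙 X)) P L h
    (quasiIso_Ψ_of_contractible
      (CochainComplex.mappingCone.liftHomotopy _ _ _ (CochainComplex.mappingCone.snd _) 0
        (by simp) (by simp)) P L)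

/-- unshift by one -/
theorem quasiIso_Ψ_of_shift_one (X P L : DRing.Cx A) (h : QuasiIso (Ψ (X⟦(1 : ℤ)⟧) P L)) :
    QuasiIso (Ψ X P L) :=
  quasiIso_Ψ_X₁ (CochainComplex.mappingCone.triangleRotateShortComplex (𝟙 X))
    (CochainComplex.mappingCone.triangleRotateShortComplexSplitting (𝟙 X)) P L
    (quasiIso_Ψ_of_contractible
      (CochainComplex.mappingCone.liftHomotopy _ _ _ (CochainComplex.mappingCone.snd _) 0
        (by simp) (by simp)) P L) h

theorem quasiIso_Ψ_shift (X P L : DRing.Cx A) (h : QuasiIso (Ψ X P L)) (n : ℤ) :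
    QuasiIso (Ψ (X⟦n⟧) P L) := by
  induction n using Int.induction_on with
  | zero => exact quasiIso_Ψ_of_iso ((shiftFunctorZero (DRing.Cx A) ℤ).app X).symm P L h
  | succ n ih =>
    exact quasiIso_Ψ_of_iso
      ((shiftFunctorAdd' (DRing.Cx A) (n : ℤ) 1 (n + 1) rfl).app X).symm P L
      (quasiIso_Ψ_shift_one _ P L ih)
  | pred n ih =>
    apply quasiIso_Ψ_of_shift_one
    exact quasiIso_Ψ_of_iso
      ((shiftFunctorAdd' (DRing.Cx A) (-(n : ℤ) - 1) 1 (-(n : ℤ)) (by omega)).app X) P L ih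

/-- **`Ψ` is a quasi-isomorphism for strictly perfect `E`.** -/
theorem quasiIso_Ψ_of_strictlyPerfect (E : DRing.Cx A) (a b : ℤ)
    (hE : DRing.VanishesOutside E a b) (hp : DRing.TermwiseFiniteProjective E)
    (P L : DRing.Cx A) : QuasiIso (Ψ E P L) := by
  refine SPInd.strictlyPerfect_induction (fun E' => ∀ P L : DRing.Cx A, QuasiIso (Ψ E' P L))
    ?_ ?_ ?_ ?_ ?_ E a b hE hp P L
  · intro X Y e h P L
    exact quasiIso_Ψ_of_iso e P L (h P L)
  · intro P L
    haveI : IsIso (Ψ (𝟙_ (DRing.Cx A)) P L) := isIso_Ψ_unit P L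
    exact (inferInstance : QuasiIso (Ψ (𝟙_ (DRing.Cx A)) P L))
  · intro X n h P L
    exact quasiIso_Ψ_shift X P L (h P L) n
  · intro S hS hp' h1 h3 P L
    have σ : ∀ p, (S.map (HomologicalComplex.eval _ _ p)).Splitting := fun p =>
      (SPInd.nonempty_degreewise_splitting S hS hp' p).some
    exact quasiIso_Ψ_X₂ S σ P L (h1 P L) (h3 P L)
  · intro X Y h P L
    have hr : RetractArrow (Ψ X P L) (Ψ (X ⊞ Y) P L) :=
      { i := Arrow.homMk (P ◁ precomp (biprod.fst : X ⊞ Y ⟶ X) L)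
          (precomp (biprod.fst : X ⊞ Y ⟶ X) (P ⊗ L)) (Ψ_nat_E _ P L).symm
        r := Arrow.homMk (P ◁ precomp (biprod.inl : X ⟶ X ⊞ Y) L)
          (precomp (biprod.inl : X ⟶ X ⊞ Y) (P ⊗ L)) (Ψ_nat_E _ P L).symm
        retract := by
          refine Arrow.hom_ext _ _ ?_ ?_
          · change (P ◁ precomp (biprod.fst : X ⊞ Y ⟶ X) L) ≫
              (P ◁ precomp (biprod.inl : X ⟶ X ⊞ Y) L) = 𝟙 _
            rw [← MonoidalCategory.whiskerLeft_comp, ← precomp_comp, biprod.inl_fst, precomp_id,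
              MonoidalCategory.whiskerLeft_id]
          · change precomp (biprod.fst : X ⊞ Y ⟶ X) (P ⊗ L) ≫
              precomp (biprod.inl : X ⟶ X ⊞ Y) (P ⊗ L) = 𝟙 _
            rw [← precomp_comp, biprod.inl_fst, precomp_id] }
    exact (HomologicalComplex.quasiIso (ModuleCat.{u} A) (ComplexShape.up ℤ)).of_retract hr
      (h P L)

end Psi

end Groth.Agent.Lib.Helper18.DR
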