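import Mathlib
import Groth.Agent.Lib.Helper18.MixRes
import Groth.Agent.Lib.Helper18.CoextHom
import Groth.Agent.Lib.Helper18.PsiC
import Groth.Agent.Lib.Helper18.PrecompQis

/-!
# The action map `res Z ⟶ Hom•(A_R[0], res Z)` and the chain-level comparison (helper18)
-/

set_option autoImplicit false
set_option linter.style.haveILetI false
universe u
open CategoryTheory CategoryTheory.Limits MonoidalCategory HomologicalComplex
  CochainComplex.HomComplex

attribute [local instance] HasDerivedCategory.standard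

namespace Groth.Agent.Lib.Helper18.DR

namespace MixAct

open HomCx Psi Coext CoextHom MixRes DTen

variable {R A : Type u} [CommRing R] [CommRing A] (φ : R →+* A)

/-- the action map `res Z ⟶ Hom•(A_R[0], res Z)` -/
noncomputable def υ (Z : DRing.Cx A) :
    (resCx φ).obj Z ⟶ DRing.homCx (V φ) ((resCx φ).obj Z) :=
  (resCx φ).map (Coext.unitCx φ Z) ≫ (κ φ ((resCx φ).obj Z)).hom

lemma flat_unitCx (Z : DRing.Cx A) :
    (resCx φ).map (Coext.unitCx φ Z) ≫ counitCx φ ((resCx φ).obj Z) = 𝟙 _ := by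
  have h := flat_sharp (φ := φ) (𝟙 ((resCx φ).obj Z))
  dsimp only [flat, sharp] at h
  rw [CategoryTheory.Functor.map_id, Category.comp_id] at h
  exact h

lemma unitCx_coext_counitCx (I : DRing.Cx R) :
    Coext.unitCx φ ((coextCx φ).obj I) ≫ (coextCx φ).map (counitCx φ I) = 𝟙 _ := by
  have h := sharp_flat (φ := φ) (𝟙 ((coextCx φ).obj I))
  dsimp only [flat, sharp] at h
  rw [CategoryTheory.Functor.map_id, Category.id_comp] at h
  exact h

lemma υ_evAt (a : A) (Z : DRing.Cx A) :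
    υ φ Z ≫ evAt (pt φ a) ((resCx φ).obj Z) = (resCx φ).map (a • 𝟙 Z) := by
  have h : Coext.unitCx φ Z ≫ (a • 𝟙 ((coextCx φ).obj ((resCx φ).obj Z))) =
      (a • 𝟙 Z) ≫ Coext.unitCx φ Z := by
    rw [Linear.comp_smul, Linear.smul_comp, Category.comp_id, Category.id_comp]
  rw [υ, Category.assoc, κ_hom_evAt, ← Category.assoc, ← Functor.map_comp, h, Functor.map_comp,
    Category.assoc, flat_unitCx, Category.comp_id]

lemma res_sharp_κ {Z : DRing.Cx A} {W : DRing.Cx R} (m : (resCx φ).obj Z ⟶ W) :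
    (resCx φ).map (sharp m) ≫ (κ φ W).hom = υ φ Z ≫ DRing.homCxMap (V φ) m := by
  rw [υ, Category.assoc, ← κ_natural, ← Category.assoc, ← Functor.map_comp]
  rfl

lemma υ_counit (I : DRing.Cx R) :
    υ φ ((coextCx φ).obj I) ≫ DRing.homCxMap (V φ) (counitCx φ I) = (κ φ I).hom := by
  rw [υ, Category.assoc, ← κ_natural, ← Category.assoc, ← Functor.map_comp,
    unitCx_coext_counitCx, CategoryTheory.Functor.map_id, Category.id_comp]

lemma whiskerLeft_smul_id (X N : DRing.Cx A) (a : A) : X ◁ (a • 𝟙 N) = a • 𝟙 (X ⊗ N) := by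
  ext n : 1
  refine HomologicalComplex.mapBifunctor.hom_ext (fun p q h => ?_)
  erw [HomCx.ι_whiskerLeft_f]
  rw [HomologicalComplex.smul_f_apply, HomologicalComplex.id_f, MonoidalLinear.whiskerLeft_smul,
    MonoidalCategory.whiskerLeft_id, Linear.smul_comp, Category.id_comp,
    HomologicalComplex.smul_f_apply, HomologicalComplex.id_f, Linear.comp_smul]
  erw [Category.comp_id]

lemma mixT_map_smul (P : DRing.Cx R) (N : DRing.Cx A) (a : A) :
    (mixT φ).map (Prod.mkHom (𝟙 P) (a • 𝟙 N)) = a • 𝟙 ((mixT φ).obj (P, N)) := by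
  have h : (mixT φ).map (Prod.mkHom (𝟙 P) (a • 𝟙 N)) =
      ((extCx φ).map (𝟙 P) ▷ N) ≫ ((extCx φ).obj P ◁ (a • 𝟙 N)) := rfl
  rw [h, CategoryTheory.Functor.map_id, MonoidalCategory.id_whiskerRight, Category.id_comp,
    whiskerLeft_smul_id]
  rfl

/-- compatibility of the action map with the tensor product -/
theorem mixResHom_υ (P : DRing.Cx R) (N : DRing.Cx A) :
    mixResHom φ P N ≫ υ φ ((mixT φ).obj (P, N)) =
      (P ◁ υ φ N) ≫ Ψ (V φ) P ((resCx φ).obj N) ≫ DRing.homCxMap (V φ) (mixResHom φ P N) := by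
  apply evAt_pt_jointly_mono
  intro a
  rw [Category.assoc, υ_evAt, Category.assoc, Category.assoc, evAt_natural, ← Category.assoc (Ψ _ _ _),
    Ψ_evAt, ← Category.assoc, ← MonoidalCategory.whiskerLeft_comp, υ_evAt, ← mixT_map_smul]
  have h := mixResHom_natural φ (𝟙 P) (a • 𝟙 N)
  rw [MonoidalCategory.id_tensorHom] at h
  exact h.symm

lemma homCxMap_comp (K : DRing.Cx R) {L L' L'' : DRing.Cx R} (f : L ⟶ L') (g : L' ⟶ L'') :
    DRing.homCxMap K (f ≫ g) = DRing.homCxMap K f ≫ DRing.homCxMap K g :=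
  (DRing.homCxFunctor K).map_comp f g

/-- the comparison map `res (mixT(P, coext I)) ⟶ P ⊗ I` -/
noncomputable def mP (P I : DRing.Cx R) :
    (resCx φ).obj ((mixT φ).obj (P, (coextCx φ).obj I)) ⟶ P ⊗ I :=
  (mixResIso φ P ((coextCx φ).obj I)).inv ≫ (P ◁ counitCx φ I)

lemma mixResHom_mP (P I : DRing.Cx R) :
    mixResHom φ P ((coextCx φ).obj I) ≫ mP φ P I = P ◁ counitCx φ I := by
  have h : mixResHom φ P ((coextCx φ).obj I) = (mixResIso φ P ((coextCx φ).obj I)).hom := rfl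
  rw [mP, h, Iso.hom_inv_id_assoc]

lemma mixResHom_υ_mP (P I : DRing.Cx R) :
    mixResHom φ P ((coextCx φ).obj I) ≫ υ φ ((mixT φ).obj (P, (coextCx φ).obj I)) ≫
        DRing.homCxMap (V φ) (mP φ P I) =
      (P ◁ (κ φ I).hom) ≫ Ψ (V φ) P I := by
  rw [← Category.assoc, mixResHom_υ, Category.assoc, Category.assoc, ← homCxMap_comp,
    mixResHom_mP, Ψ_nat_L, ← Category.assoc, ← MonoidalCategory.whiskerLeft_comp, υ_counit]

/-- the key identity for the comparison -/
lemma mixResHom_sharp (P I J E : DRing.Cx R) (j : P ⊗ I ⟶ J) (e : E ⟶ V φ) :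
    mixResHom φ P ((coextCx φ).obj I) ≫ (resCx φ).map (sharp (mP φ P I ≫ j)) ≫ (κ φ J).hom ≫
        precomp e J =
      (P ◁ (κ φ I).hom) ≫ (P ◁ precomp e I) ≫ Ψ E P I ≫ DRing.homCxMap E j := by
  rw [reassoc_of% (res_sharp_κ φ (mP φ P I ≫ j)), homCxMap_comp, Category.assoc,
    ← precomp_homCxMap, reassoc_of% (mixResHom_υ_mP φ P I), reassoc_of% (Ψ_nat_E e P I)]

instance : (DTen.resM φ).ReflectsIsomorphisms :=
  (inferInstance : (ModuleCat.restrictScalars.{u} φ).ReflectsIsomorphisms)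

lemma quasiIso_of_resCx_map {Z Z' : DRing.Cx A} (τ : Z ⟶ Z')
    (h : QuasiIso ((resCx φ).map τ)) : QuasiIso τ :=
  (HomologicalComplex.quasiIso_map_iff_of_preservesHomology τ (DTen.resM φ)).1 h

/-- **The chain-level comparison is a quasi-isomorphism.** -/
theorem quasiIso_sharp_mP (P I J E : DRing.Cx R) [P.IsKProjective] [I.IsKInjective]
    [J.IsKInjective] (a b : ℤ) (hE : DRing.VanishesOutside E a b)
    (hp : DRing.TermwiseFiniteProjective E) [E.IsKProjective]
    (j : P ⊗ I ⟶ J) [QuasiIso j] (e : E ⟶ V φ) [QuasiIso e] :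
    QuasiIso (sharp (mP φ P I ≫ j) : (mixT φ).obj (P, (coextCx φ).obj I) ⟶ (coextCx φ).obj J) := by
  refine quasiIso_of_resCx_map φ _ ?_
  have h := mixResHom_sharp φ P I J E j e
  haveI : QuasiIso (precomp e I) := quasiIso_precomp I e
  haveI : QuasiIso (precomp e J) := quasiIso_precomp J e
  haveI : QuasiIso (Ψ E P I) := quasiIso_Ψ_of_strictlyPerfect E a b hE hp P I
  haveI : QuasiIso (DRing.homCxMap E j) := quasiIso_homCxMap E j
  have h0 : QuasiIso ((P ◁ (κ φ I).hom) ≫ (P ◁ precomp e I) ≫ Ψ E P I ≫ DRing.homCxMap E j) :=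
    inferInstance
  rw [← h] at h0
  haveI : IsIso (mixResHom φ P ((coextCx φ).obj I)) := isIso_mixResHom φ P _
  have h1 : QuasiIso ((resCx φ).map (sharp (mP φ P I ≫ j)) ≫ (κ φ J).hom ≫ precomp e J) :=
    (quasiIso_iff_comp_left (mixResHom φ P ((coextCx φ).obj I)) _).1 h0
  rw [← Category.assoc] at h1
  have h2 : QuasiIso ((resCx φ).map (sharp (mP φ P I ≫ j)) ≫ (κ φ J).hom) :=
    (quasiIso_iff_comp_right _ (precomp e J)).1 h1
  exact (quasiIso_iff_comp_right _ (κ φ J).hom).1 h2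

end MixAct

end Groth.Agent.Lib.Helper18.DR
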