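import Mathlib
import Groth.Agent.Lib.Helper18.MixAct
import Groth.Agent.Lib.Helper18.DTenD
import Groth.Agent.Lib.Helper2.KInj.Main

/-!
# `RHom(A, -) ≅ - ⊗^L_R RHom(A, R)` for `A` perfect over `R` (helper18)
-/

set_option autoImplicit false
set_option linter.style.haveILetI false
universe u
open CategoryTheory CategoryTheory.Limits MonoidalCategory HomologicalComplex
  CochainComplex.HomComplex

attribute [local instance] HasDerivedCategory.standard

namespace Groth.Agent.Lib.Helper18.DR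

namespace RelDual

open HomCx Psi Coext CoextHom MixRes MixAct DTen

variable {R : Type u} [CommRing R]

/-- extension of a natural isomorphism from K-projective complexes to the derived category -/
theorem nonempty_iso_of_kprojective {C : Type*} [Category C] (F G : Dual.D R ⥤ C)
    (α : ∀ (P : DRing.Cx R), P.IsKProjective →
      (F.obj (DerivedCategory.Q.obj P) ≅ G.obj (DerivedCategory.Q.obj P)))
    (hα : ∀ (P P' : DRing.Cx R) (hP : P.IsKProjective) (hP' : P'.IsKProjective) (f : P ⟶ P'),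
      F.map (DerivedCategory.Q.map f) ≫ (α P' hP').hom =
        (α P hP).hom ≫ G.map (DerivedCategory.Q.map f)) :
    Nonempty (F ≅ G) := by
  have hres : ∀ X : Dual.D R, ∃ (P : DRing.Cx R), P.IsKProjective ∧
      Nonempty (X ≅ DerivedCategory.Q.obj P) := by
    intro X
    obtain ⟨P, g, hP, hg⟩ := DTenB.exists_kprojective_quasiIso (DerivedCategory.Q.objPreimage X)
    haveI := hg
    exact ⟨P, hP, ⟨(DerivedCategory.Q.objObjPreimageIso X).symm ≪≫
      (asIso (DerivedCategory.Q.map g)).symm⟩⟩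
  choose P hP e using hres
  let e' : ∀ X, X ≅ DerivedCategory.Q.obj (P X) := fun X => (e X).some
  refine ⟨NatIso.ofComponents
    (fun X => F.mapIso (e' X) ≪≫ α (P X) (hP X) ≪≫ G.mapIso (e' X).symm) ?_⟩
  intro X Y g
  haveI := hP X
  obtain ⟨f, hf⟩ := exists_map_eq (P X) (P Y) ((e' X).inv ≫ g ≫ (e' Y).hom)
  have h1 : g ≫ (e' Y).hom = (e' X).hom ≫ DerivedCategory.Q.map f := by
    rw [hf, Iso.hom_inv_id_assoc]
  have h2 : (e' X).inv ≫ g = DerivedCategory.Q.map f ≫ (e' Y).inv := by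
    rw [hf, Category.assoc, Category.assoc, Iso.hom_inv_id, Category.comp_id]
  dsimp only [Iso.trans_hom, Functor.mapIso_hom, Iso.symm_hom]
  rw [← Category.assoc, ← F.map_comp, h1, F.map_comp, Category.assoc,
    reassoc_of% (hα (P X) (P Y) (hP X) (hP Y) f), ← G.map_comp, ← h2, G.map_comp,
    Category.assoc, Category.assoc]

/-- `P ⟶ P ⊗ I` for `ι : 𝟙 ⟶ I` -/
noncomputable def jP (P : DRing.Cx R) {I : DRing.Cx R} (ι : 𝟙_ (DRing.Cx R) ⟶ I) : P ⟶ P ⊗ I :=
  (ρ_ P).inv ≫ (P ◁ ι)

instance quasiIso_jP (P : DRing.Cx R) [P.IsKProjective] {I : DRing.Cx R}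
    (ι : 𝟙_ (DRing.Cx R) ⟶ I) [QuasiIso ι] : QuasiIso (jP P ι) := by
  dsimp only [jP]
  infer_instance

lemma jP_natural {P P' : DRing.Cx R} (f : P ⟶ P') {I : DRing.Cx R}
    (ι : 𝟙_ (DRing.Cx R) ⟶ I) : jP P ι ≫ (f ▷ I) = f ≫ jP P' ι := by
  rw [jP, jP, Category.assoc, MonoidalCategory.whisker_exchange, ← Category.assoc,
    ← MonoidalCategory.rightUnitor_inv_naturality, Category.assoc]

variable {A : Type u} [CommRing A] (φ : R →+* A)

lemma mP_natural {P P' : DRing.Cx R} (f : P ⟶ P') (I : DRing.Cx R) :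
    (resCx φ).map ((mixT φ).map (Prod.mkHom f (𝟙 ((coextCx φ).obj I)))) ≫ mP φ P' I =
      mP φ P I ≫ (f ▷ I) := by
  have h := mixResHom_natural φ f (𝟙 ((coextCx φ).obj I))
  rw [CategoryTheory.Functor.map_id, MonoidalCategory.tensorHom_id] at h
  have h' : (resCx φ).map ((mixT φ).map (Prod.mkHom f (𝟙 ((coextCx φ).obj I)))) =
      (mixResIso φ P ((coextCx φ).obj I)).inv ≫ (f ▷ _) ≫ mixResHom φ P' ((coextCx φ).obj I) := by
    rw [h]
    exact ((mixResIso φ P ((coextCx φ).obj I)).inv_hom_id_assoc _).symm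
  rw [h', Category.assoc, Category.assoc, mixResHom_mP, mP, Category.assoc,
    MonoidalCategory.whisker_exchange]

/-- the comparison map `res Q(mixT(P, coext I)) ⟶ Q P` in the derived category -/
noncomputable def cP (P I : DRing.Cx R) (ι : 𝟙_ (DRing.Cx R) ⟶ I) [P.IsKProjective]
    [QuasiIso ι] :
    (DRing.restrictD φ).obj (DerivedCategory.Q.obj ((mixT φ).obj (P, (coextCx φ).obj I))) ⟶
      DerivedCategory.Q.obj P :=
  (resFactors φ).hom.app ((mixT φ).obj (P, (coextCx φ).obj I)) ≫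
    DerivedCategory.Q.map (mP φ P I) ≫ inv (DerivedCategory.Q.map (jP P ι))

lemma cP_natural {P P' : DRing.Cx R} [P.IsKProjective] [P'.IsKProjective] (f : P ⟶ P')
    (I : DRing.Cx R) (ι : 𝟙_ (DRing.Cx R) ⟶ I) [QuasiIso ι] :
    (DRing.restrictD φ).map (DerivedCategory.Q.map
        ((mixT φ).map (Prod.mkHom f (𝟙 ((coextCx φ).obj I))))) ≫ cP φ P' I ι =
      cP φ P I ι ≫ DerivedCategory.Q.map f := by
  have h1 : (DRing.restrictD φ).map (DerivedCategory.Q.map
        ((mixT φ).map (Prod.mkHom f (𝟙 ((coextCx φ).obj I))))) ≫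
      (resFactors φ).hom.app ((mixT φ).obj (P', (coextCx φ).obj I)) =
      (resFactors φ).hom.app ((mixT φ).obj (P, (coextCx φ).obj I)) ≫
        DerivedCategory.Q.map ((resCx φ).map
          ((mixT φ).map (Prod.mkHom f (𝟙 ((coextCx φ).obj I))))) :=
    (resFactors φ).hom.naturality ((mixT φ).map (Prod.mkHom f (𝟙 ((coextCx φ).obj I))))
  have h2 : DerivedCategory.Q.map (f ▷ I) ≫ inv (DerivedCategory.Q.map (jP P' ι)) =
      inv (DerivedCategory.Q.map (jP P ι)) ≫ DerivedCategory.Q.map f := by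
    rw [IsIso.eq_inv_comp, ← Category.assoc, ← Functor.map_comp, jP_natural, Functor.map_comp,
      Category.assoc, IsIso.hom_inv_id, Category.comp_id]
  rw [cP, cP, ← Category.assoc, h1]
  simp only [Category.assoc]
  rw [← Functor.map_comp_assoc, mP_natural, Functor.map_comp_assoc, h2]

end RelDual

end Groth.Agent.Lib.Helper18.DR
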