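import Mathlib
import Groth.Agent.Lib.Helper18.RelDualA

/-!
# `RHom(A, -) ≅ - ⊗^L_R RHom(A, R)` for `A` perfect over `R`, continued (helper18)
-/

set_option autoImplicit false
set_option linter.style.haveILetI false
universe u
open CategoryTheory CategoryTheory.Limits MonoidalCategory HomologicalComplex
  CochainComplex.HomComplex

attribute [local instance] HasDerivedCategory.standard

namespace Groth.Agent.Lib.Helper18.DR

namespace RelDual

open HomCx Psi Coext CoextHom MixRes MixAct DTen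

variable {R A : Type u} [CommRing R] [CommRing A] (φ : R →+* A)
  (F : Dual.D R ⥤ Dual.D A) (adj : DRing.restrictD φ ⊣ F)

/-- the comparison map `Q(mixT(P, coext I)) ⟶ F(Q P)` -/
noncomputable def θ (P I : DRing.Cx R) (ι : 𝟙_ (DRing.Cx R) ⟶ I) [P.IsKProjective]
    [QuasiIso ι] :
    DerivedCategory.Q.obj ((mixT φ).obj (P, (coextCx φ).obj I)) ⟶
      F.obj (DerivedCategory.Q.obj P) :=
  adj.homEquiv _ _ (cP φ P I ι)

lemma θ_natural {P P' : DRing.Cx R} [P.IsKProjective] [P'.IsKProjective] (f : P ⟶ P')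
    (I : DRing.Cx R) (ι : 𝟙_ (DRing.Cx R) ⟶ I) [QuasiIso ι] :
    DerivedCategory.Q.map ((mixT φ).map (Prod.mkHom f (𝟙 ((coextCx φ).obj I)))) ≫
        θ φ F adj P' I ι =
      θ φ F adj P I ι ≫ F.map (DerivedCategory.Q.map f) := by
  rw [θ, θ, ← Adjunction.homEquiv_naturality_left, ← Adjunction.homEquiv_naturality_right,
    cP_natural]

theorem isIso_θ (P I : DRing.Cx R) (ι : 𝟙_ (DRing.Cx R) ⟶ I) [P.IsKProjective] [QuasiIso ι]
    [I.IsKInjective] (E : DRing.Cx R) (a b : ℤ) (hE : DRing.VanishesOutside E a b)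
    (hp : DRing.TermwiseFiniteProjective E) (e : E ⟶ V φ) [QuasiIso e] :
    IsIso (θ φ F adj P I ι) := by
  obtain ⟨J, j, hJ, hj, -, -⟩ :=
    Groth.Agent.Lib.Helper2.KInj.exists_kInjective_resolution (P ⊗ I)
  haveI := hJ
  haveI := hj
  haveI : E.IsKProjective :=
    isKProjective_of_vanishesAbove E b (VanishesOutside.above hE) (fun i => (hp i).2)
  haveI hτ := quasiIso_sharp_mP φ P I J E a b hE hp j e
  haveI := isIso_adjunct_counitD φ F adj J
  have key : θ φ F adj P I ι ≫
      F.map (DerivedCategory.Q.map (jP P ι) ≫ DerivedCategory.Q.map j) =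
      DerivedCategory.Q.map (sharp (mP φ P I ≫ j)) ≫ adj.homEquiv _ _ (counitD φ J) := by
    rw [θ, ← Adjunction.homEquiv_naturality_right, ← Adjunction.homEquiv_naturality_left,
      restrictD_map_Q_comp_counitD, flat_sharp, cP]
    congr 1
    simp only [Category.assoc, IsIso.inv_hom_id_assoc, Functor.map_comp]
  have h : θ φ F adj P I ι =
      (DerivedCategory.Q.map (sharp (mP φ P I ≫ j)) ≫ adj.homEquiv _ _ (counitD φ J)) ≫
        inv (F.map (DerivedCategory.Q.map (jP P ι) ≫ DerivedCategory.Q.map j)) := by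
    rw [← key, Category.assoc, IsIso.hom_inv_id, Category.comp_id]
  rw [h]
  infer_instance

variable [HasLTenMix φ]

include adj in
/-- **`- ⊗^L_R Q(Hom_R(A, I)) ≅ F`** for a K-injective resolution `I` of `R` when `A` is perfect -/
theorem nonempty_flip_iso (I : DRing.Cx R) (ι : 𝟙_ (DRing.Cx R) ⟶ I) [QuasiIso ι]
    [I.IsKInjective] (E : DRing.Cx R) (a b : ℤ) (hE : DRing.VanishesOutside E a b)
    (hp : DRing.TermwiseFiniteProjective E) (e : E ⟶ V φ) [QuasiIso e] :
    Nonempty ((Functor.curry.obj (LTenMix φ)).flip.obj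
      (DerivedCategory.Q.obj ((coextCx φ).obj I)) ≅ F) := by
  refine nonempty_iso_of_kprojective _ _ (fun P hP => ?_) ?_
  · haveI := hP
    haveI := DTenD.isIso_εMix_app_left φ P ((coextCx φ).obj I)
    haveI := isIso_θ φ F adj P I ι E a b hE hp e
    exact asIso ((εMix φ).app (P, (coextCx φ).obj I)) ≪≫ asIso (θ φ F adj P I ι)
  · intro P P' hP hP' f
    haveI := hP
    haveI := hP'
    dsimp only [Iso.trans_hom, asIso_hom]
    have h1 := (εMix φ).naturality
      (Prod.mkHom f (𝟙 ((coextCx φ).obj I)) : (P, (coextCx φ).obj I) ⟶ (P', (coextCx φ).obj I))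
    have h2 : ((Functor.curry.obj (LTenMix φ)).flip.obj
        (DerivedCategory.Q.obj ((coextCx φ).obj I))).map (DerivedCategory.Q.map f) =
        (QMix R A ⋙ LTenMix φ).map
          (Prod.mkHom f (𝟙 ((coextCx φ).obj I)) :
            (P, (coextCx φ).obj I) ⟶ (P', (coextCx φ).obj I)) := by
      change (LTenMix φ).map (Prod.mkHom (DerivedCategory.Q.map f) (𝟙 _)) =
        (LTenMix φ).map (Prod.mkHom (DerivedCategory.Q.map f) (DerivedCategory.Q.map (𝟙 _)))
      rw [CategoryTheory.Functor.map_id]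
    rw [h2, ← Category.assoc, h1, Category.assoc, Category.assoc]
    congr 1
    exact θ_natural φ F adj f I ι

end RelDual

end Groth.Agent.Lib.Helper18.DR
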