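import Mathlib
import Groth.Agent.Lib.Helper18.RelDualB

/-!
# `RHom(A, -) ≅ - ⊗^L_R RHom(A, R)` for `A` perfect over `R`: the theorem (helper18)
-/

set_option autoImplicit false
set_option linter.style.haveILetI false
universe u
open CategoryTheory CategoryTheory.Limits MonoidalCategory HomologicalComplex
  CochainComplex.HomComplex

attribute [local instance] HasDerivedCategory.standard

namespace Groth.Agent.Lib.Helper18.DR

namespace RelDual

open HomCx Psi Coext CoextHom MixRes MixAct DTen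

variable {R A : Type u} [CommRing R] [CommRing A] (φ : R →+* A)

/-- abstract form: `RHom(A, -) ≅ - ⊗^L_R RHom(A, R)` given a strictly perfect resolution of `A` -/
theorem nonempty_RHomRel_iso [HasRHomRel φ] [HasLTenMix φ]
    (E : DRing.Cx R) (a b : ℤ) (hE : DRing.VanishesOutside E a b)
    (hp : DRing.TermwiseFiniteProjective E) (e : E ⟶ V φ) [QuasiIso e] :
    ∃ (I : DRing.Cx R) (_ : I.IsKInjective) (_ : DRing.TermwiseInjective I)
      (ι : 𝟙_ (DRing.Cx R) ⟶ I), QuasiIso ι ∧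
      Nonempty (DerivedCategory.Q.obj ((coextCx φ).obj I) ≅ (RHomRel φ).obj (DTen.unit R)) ∧
      Nonempty (RHomRel φ ≅ (Functor.curry.obj (LTenMix φ)).flip.obj
        ((RHomRel φ).obj (DTen.unit R))) := by
  obtain ⟨I, ι, hI, hι, -, hinj⟩ :=
    Groth.Agent.Lib.Helper2.KInj.exists_kInjective_resolution (𝟙_ (DRing.Cx R))
  haveI := hI
  haveI := hι
  have hI' : DRing.TermwiseInjective I := fun n =>
    (Module.injective_iff_injective_object R (I.X n)).2 (hinj n)
  obtain ⟨i1⟩ := nonempty_flip_iso φ (RHomRel φ) (relAdj φ) I ι E a b hE hp e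
  let μ : DerivedCategory.Q.obj ((coextCx φ).obj I) ≅ (RHomRel φ).obj (DTen.unit R) :=
    rightAdjointIso φ (RHomRel φ) (relAdj φ) I ≪≫
      ((RHomRel φ).mapIso (asIso (DerivedCategory.Q.map ι))).symm
  exact ⟨I, hI, hI', ι, hι, ⟨μ⟩, ⟨i1.symm ≪≫ ((Functor.curry.obj (LTenMix φ)).flip).mapIso μ⟩⟩

/-- `res (𝟙_ (Cx A)) ≅ A_R[0]` -/
noncomputable def resUnitIso : (resCx φ).obj (𝟙_ (DRing.Cx A)) ≅ V φ :=
  (HomologicalComplex.singleMapHomologicalComplex (ModuleCat.restrictScalars.{u} φ)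
    (ComplexShape.up ℤ) 0).app (ModuleCat.of A A)

lemma exists_quasiIso_of_isPerfect
    (hA : DRing.IsPerfect R ((DRing.restrictD φ).obj (DTen.unit A))) :
    ∃ (E : DRing.Cx R) (a b : ℤ), DRing.VanishesOutside E a b ∧
      DRing.TermwiseFiniteProjective E ∧ ∃ e : E ⟶ V φ, QuasiIso e := by
  obtain ⟨E, a, b, hE, hp, ⟨i⟩⟩ := hA
  haveI : E.IsKProjective :=
    isKProjective_of_vanishesAbove E b (VanishesOutside.above hE) (fun i => (hp i).2)
  let e₀ : DRing.toD E ≅ DRing.toD (V φ) :=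
    i ≪≫ (resFactors φ).app (𝟙_ (DRing.Cx A)) ≪≫ DerivedCategory.Q.mapIso (resUnitIso φ)
  obtain ⟨e, he⟩ := exists_map_eq E (V φ) e₀.hom
  haveI : IsIso (DerivedCategory.Q.map e) := by rw [he]; infer_instance
  exact ⟨E, a, b, hE, hp, e, (DerivedCategory.isIso_Q_map_iff_quasiIso _ e).1 inferInstance⟩

/-- S13895 -/
theorem nonempty_RHomRel_iso_of_isPerfect [HasRHomRel φ] [HasLTenMix φ]
    (hA : DRing.IsPerfect R ((DRing.restrictD φ).obj (DTen.unit A))) :
    Nonempty (RHomRel φ ≅ (Functor.curry.obj (LTenMix φ)).flip.obj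
      ((RHomRel φ).obj (DTen.unit R))) := by
  obtain ⟨E, a, b, hE, hp, e, he⟩ := exists_quasiIso_of_isPerfect φ hA
  haveI := he
  obtain ⟨_, _, _, _, _, -, h⟩ := nonempty_RHomRel_iso φ E a b hE hp e
  exact h

end RelDual

end Groth.Agent.Lib.Helper18.DR
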