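import Mathlib
import Groth.Agent.Lib.Helper18.RelDualC

/-!
# `Hom_R(X, -)` on modules and the evaluation transformation for an ideal (helper18)
-/

set_option autoImplicit false
set_option linter.style.haveILetI false
universe u
open CategoryTheory CategoryTheory.Limits

namespace Groth.Agent.Lib.Helper18.DR

namespace RelInv

variable {R : Type u} [CommRing R]

/-- `Y ↦ Hom_R(X, Y)` -/
noncomputable def homM (X : ModuleCat.{u} R) : ModuleCat.{u} R ⥤ ModuleCat.{u} R where
  obj Y := ModuleCat.of R ((X : Type u) →ₗ[R] (Y : Type u))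
  map {Y Y'} f := ModuleCat.ofHom (LinearMap.llcomp R (X : Type u) (Y : Type u) (Y' : Type u) f.hom)
  map_id Y := by
    refine ModuleCat.hom_ext (LinearMap.ext fun g => ?_)
    exact LinearMap.ext fun x => rfl
  map_comp f f' := by
    refine ModuleCat.hom_ext (LinearMap.ext fun g => ?_)
    exact LinearMap.ext fun x => rfl

lemma homM_map_apply (X : ModuleCat.{u} R) {Y Y' : ModuleCat.{u} R} (f : Y ⟶ Y')
    (g : (X : Type u) →ₗ[R] (Y : Type u)) :
    ((homM X).map f).hom g = f.hom.comp g := rfl

instance (X : ModuleCat.{u} R) : (homM X).Additive where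
  map_add {Y Y' f f'} := by
    refine ModuleCat.hom_ext (LinearMap.ext fun g => ?_)
    exact LinearMap.ext fun x => rfl

/-- `Hom_R(X, -)` is exact for `X` projective -/
instance preservesHomology_homM (X : ModuleCat.{u} R) [Module.Projective R (X : Type u)] :
    (homM X).PreservesHomology := by
  apply Functor.preservesHomology_of_map_exact
  intro S hS
  rw [ShortComplex.ShortExact.moduleCat_exact_iff_function_exact] at hS ⊢
  intro (h : (X : Type u) →ₗ[R] (S.X₂ : Type u))
  constructor
  · intro hh
    have hh' : S.g.hom.comp h = 0 := hh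
    have hr : ∀ x, h x ∈ LinearMap.range S.f.hom := fun x => by
      rw [LinearMap.mem_range]
      exact (hS (h x)).1 (LinearMap.congr_fun hh' x)
    obtain ⟨l, hl⟩ := Module.projective_lifting_property S.f.hom.rangeRestrict
      (h.codRestrict (LinearMap.range S.f.hom) hr) (LinearMap.surjective_rangeRestrict _)
    refine ⟨l, ?_⟩
    refine LinearMap.ext fun x => ?_
    have := congrArg (fun t => (t x : (S.X₂ : Type u))) hl
    exact this
  · rintro ⟨(l : (X : Type u) →ₗ[R] (S.X₁ : Type u)), rfl⟩
    refine LinearMap.ext fun x => ?_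
    exact (hS _).2 ⟨l x, rfl⟩

variable (I : Ideal R)

/-- the evaluation transformation `Y ⟶ Hom_R(I, Y)`, `y ↦ (x ↦ x • y)` -/
noncomputable def γ : 𝟭 (ModuleCat.{u} R) ⟶ homM (ModuleCat.of R I) where
  app Y := ModuleCat.ofHom ((LinearMap.lcomp R (Y : Type u) I.subtype) ∘ₗ
    (LinearMap.lsmul R (Y : Type u)).flip)
  naturality Y Y' f := by
    refine ModuleCat.hom_ext (LinearMap.ext fun y => ?_)
    refine LinearMap.ext fun x => ?_
    change (x : R) • f.hom y = f.hom ((x : R) • y)
    rw [map_smul]

lemma γ_app_apply (Y : ModuleCat.{u} R) (y : Y) (x : I) :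
    (show I →ₗ[R] (Y : Type u) from ((γ I).app Y).hom y) x = (x : R) • y := rfl

end RelInv

end Groth.Agent.Lib.Helper18.DR
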