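import Mathlib
import Groth.Agent.Lib.Helper18.RelInvA
import Groth.Agent.Lib.Helper18.CoextC

/-!
# The short exact sequence `res Hom_R(A, J) → J → Hom_R(I, J)` for `R → A` surjective with kernel `I`
(helper18)
-/

set_option autoImplicit false
set_option linter.style.haveILetI false
universe u
open CategoryTheory CategoryTheory.Limits

attribute [local instance] HasDerivedCategory.standard

namespace Groth.Agent.Lib.Helper18.DR

namespace RelInv

open Coext CoextHom DTen

variable {R A : Type u} [CommRing R] [CommRing A] (φ : R →+* A)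

lemma coext_apply_map (M : ModuleCat.{u} R) (g : (coextM φ).obj M) (r : R) :
    ModuleCat.CoextendScalars.equiv φ M g (φ r) =
      r • ModuleCat.CoextendScalars.equiv φ M g (1 : A) := by
  rw [← map_smul]
  congr 1
  change φ r = φ r * 1
  rw [mul_one]

lemma smul_counit_eq_zero' (M : ModuleCat.{u} R) (g : (coextM φ).obj M) (a : R)
    (ha : a ∈ RingHom.ker φ) : a • ((rcAdj φ).counit.app M).hom g = 0 := by
  change a • ModuleCat.CoextendScalars.equiv φ M g (1 : A) = 0
  rw [← coext_apply_map, (RingHom.mem_ker).1 ha]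
  exact LinearMap.map_zero (ModuleCat.CoextendScalars.equiv φ M g)

variable (hφ : Function.Surjective φ)

include hφ in
lemma counit_injective' (M : ModuleCat.{u} R) :
    Function.Injective ((rcAdj φ).counit.app M).hom := by
  intro g g' h
  have h' : ModuleCat.CoextendScalars.equiv φ M g (1 : A) =
      ModuleCat.CoextendScalars.equiv φ M g' (1 : A) := h
  apply (ModuleCat.CoextendScalars.equiv φ M).injective
  refine LinearMap.ext fun b => ?_
  obtain ⟨a, rfl⟩ := hφ b
  exact (coext_apply_map φ M g a).trans ((congrArg (a • ·) h').trans (coext_apply_map φ M g' a).symm)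

/-- the linear map `A → M`, `φ r ↦ r • x`, for `x` killed by `ker φ` -/
noncomputable def liftSurj (M : ModuleCat.{u} R) (x : M) (hx : ∀ a ∈ RingHom.ker φ, a • x = 0) :
    (AR φ : Type u) →ₗ[R] (M : Type u) where
  toFun a := Function.surjInv hφ (ofAR φ a) • x
  map_add' a b := by
    rw [← add_smul, ← sub_eq_zero, ← sub_smul]
    apply hx
    rw [RingHom.mem_ker, map_sub, map_add, Function.surjInv_eq hφ, Function.surjInv_eq hφ,
      Function.surjInv_eq hφ]
    exact sub_self _
  map_smul' r a := by
    rw [RingHom.id_apply, smul_smul, ← sub_eq_zero, ← sub_smul]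
    apply hx
    rw [RingHom.mem_ker, map_sub, map_mul, Function.surjInv_eq hφ, Function.surjInv_eq hφ]
    exact sub_self _

lemma liftSurj_one (M : ModuleCat.{u} R) (x : M) (hx : ∀ a ∈ RingHom.ker φ, a • x = 0) :
    liftSurj φ hφ M x hx (toAR φ 1) = x := by
  change Function.surjInv hφ (1 : A) • x = x
  rw [← sub_eq_zero]
  nth_rewrite 2 [← one_smul R x]
  rw [← sub_smul]
  apply hx
  rw [RingHom.mem_ker, map_sub, Function.surjInv_eq hφ, map_one, sub_self]

/-- the short complex `res Hom_R(A, J) → J → Hom_R(I, J)` -/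
noncomputable def kerSC (J : DRing.Cx R) : ShortComplex (DRing.Cx R) where
  X₁ := (resCx φ).obj ((coextCx φ).obj J)
  X₂ := J
  X₃ := ((homM (ModuleCat.of R (RingHom.ker φ))).mapHomologicalComplex (ComplexShape.up ℤ)).obj J
  f := counitCx φ J
  g := (NatTrans.mapHomologicalComplex (γ (RingHom.ker φ)) (ComplexShape.up ℤ)).app J
  zero := by
    ext n x
    refine LinearMap.ext fun (a : RingHom.ker φ) => ?_
    exact smul_counit_eq_zero' φ (J.X n) x a a.2

include hφ in
lemma kerSC_shortExact (J : DRing.Cx R) (hJ : DRing.TermwiseInjective J) :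
    (kerSC φ J).ShortExact := by
  apply HomologicalComplex.shortExact_of_degreewise_shortExact
  intro i
  apply ModuleCat.shortComplex_shortExact
  · intro (y : J.X i)
    constructor
    · intro hy
      have hy' : ∀ a ∈ RingHom.ker φ, a • y = 0 := fun a ha =>
        LinearMap.congr_fun (show (show RingHom.ker φ →ₗ[R] (J.X i : Type u) from
          ((γ (RingHom.ker φ)).app (J.X i)).hom y) = 0 from hy) ⟨a, ha⟩
      refine ⟨(ModuleCat.CoextendScalars.equiv φ (J.X i)).symm (liftSurj φ hφ (J.X i) y hy'), ?_⟩
      exact liftSurj_one φ hφ (J.X i) y hy'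
    · rintro ⟨x, rfl⟩
      refine LinearMap.ext fun (a : RingHom.ker φ) => ?_
      exact smul_counit_eq_zero' φ (J.X i) x a a.2
  · exact counit_injective' φ hφ (J.X i)
  · intro (h : RingHom.ker φ →ₗ[R] (J.X i : Type u))
    haveI := hJ i
    obtain ⟨h', hh'⟩ := Module.Injective.out (RingHom.ker φ).subtype
      (Submodule.subtype_injective _) h
    refine ⟨h' 1, ?_⟩
    refine LinearMap.ext fun (a : RingHom.ker φ) => ?_
    change (a : R) • h' 1 = h a
    rw [← map_smul, smul_eq_mul, mul_one]
    exact hh' a

end RelInv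

end Groth.Agent.Lib.Helper18.DR
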