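import Mathlib
import Groth.Agent.Lib.Helper18.ShrB
import Groth.Agent.Lib.Helper18.RelInvB

/-!
# The triangle `res R_s ω → ω → ω` for a surjection `s` with principal kernel (helper18)
-/

set_option autoImplicit false
set_option linter.style.haveILetI false
universe u
open CategoryTheory CategoryTheory.Limits CategoryTheory.Pretriangulated DerivedCategory

attribute [local instance] HasDerivedCategory.standard

namespace Groth.Agent.Lib.Helper18.DR

namespace Shr

open Coext RelInv

variable {S T : Type u} [CommRing S] [CommRing T] (s : S →+* T) (f : S)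
  (hker : RingHom.ker s = Ideal.span {f})

/-- the short complex `Hom_S(T, J) → J → J` -/
noncomputable def torsionSC' (J : DRing.Cx S) : ShortComplex (DRing.Cx S) where
  X₁ := (DTen.resCx s).obj ((coextCx s).obj J)
  X₂ := J
  X₃ := J
  f := counitCx s J
  g := f • 𝟙 J
  zero := by
    ext n x
    exact smul_counit_eq_zero' s (J.X n) x f (hker ▸ Ideal.mem_span_singleton_self f)

variable (hs : Function.Surjective s)

include hs in
lemma torsionSC'_shortExact (J : DRing.Cx S) (hJ : DRing.TermwiseInjective J)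
    (hf : f ∈ nonZeroDivisors S) : (torsionSC' s f hker J).ShortExact := by
  apply HomologicalComplex.shortExact_of_degreewise_shortExact
  intro i
  apply ModuleCat.shortComplex_shortExact
  · intro (y : J.X i)
    constructor
    · intro hy
      have hy' : f • y = 0 := hy
      have hy'' : ∀ a ∈ RingHom.ker s, a • y = 0 := by
        intro a ha
        rw [hker] at ha
        obtain ⟨c, rfl⟩ := Ideal.mem_span_singleton'.1 ha
        rw [mul_smul, hy', smul_zero]
      exact ⟨(ModuleCat.CoextendScalars.equiv s (J.X i)).symm (liftSurj s hs (J.X i) y hy''),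
        liftSurj_one s hs (J.X i) y hy''⟩
    · rintro ⟨x, rfl⟩
      exact smul_counit_eq_zero' s (J.X i) x f (hker ▸ Ideal.mem_span_singleton_self f)
  · exact counit_injective' s hs (J.X i)
  · intro (y : J.X i)
    haveI := hJ i
    exact exists_smul_eq_of_injective (J.X i) f hf y

include hs hker in
/-- the triangle `res R_s ω → ω → ω` -/
theorem exists_triangle_of_ker_span (ω : Dual.D S) (hf : f ∈ nonZeroDivisors S)
    (Rs : Dual.D S ⥤ Dual.D T) (adj : DRing.restrictD s ⊣ Rs) :
    ∃ (u : (DRing.restrictD s).obj (Rs.obj ω) ⟶ ω)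
      (w : ω ⟶ ((DRing.restrictD s).obj (Rs.obj ω))⟦(1 : ℤ)⟧),
      Triangle.mk u (f • 𝟙 ω) w ∈ distTriang (Dual.D S) := by
  obtain ⟨K, ⟨e⟩⟩ : ∃ K : DRing.Cx S, Nonempty (DRing.toD K ≅ ω) :=
    ⟨DerivedCategory.Q.objPreimage ω, ⟨DerivedCategory.Q.objObjPreimageIso ω⟩⟩
  obtain ⟨J, ι, hJ, hι, -, hinj⟩ := Groth.Agent.Lib.Helper2.KInj.exists_kInjective_resolution K
  haveI := hJ
  haveI := hι
  have hJ' : DRing.TermwiseInjective J := fun n =>
    (Module.injective_iff_injective_object S (J.X n)).2 (hinj n)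
  let e₂ : DRing.toD J ≅ ω := (asIso (DerivedCategory.Q.map ι)).symm ≪≫ e
  have hS := torsionSC'_shortExact s f hker hs J hJ' hf
  have hm : (f • 𝟙 ω) ≫ e₂.inv = e₂.inv ≫ DerivedCategory.Q.map (f • 𝟙 J) := by
    rw [Functor.map_smul, CategoryTheory.Functor.map_id, Linear.comp_smul, Linear.smul_comp,
      Category.id_comp, Category.comp_id]
  have hT : Triangle.mk
      (DerivedCategory.Q.map ((torsionSC' s f hker J).f : (torsionSC' s f hker J).X₁ ⟶ J))
      (DerivedCategory.Q.map (f • 𝟙 J)) (DerivedCategory.triangleOfSESδ hS) ∈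
        distTriang (Dual.D S) := DerivedCategory.triangleOfSES_distinguished hS
  let e₁ : (DRing.restrictD s).obj (Rs.obj ω) ≅
      DerivedCategory.Q.obj (torsionSC' s f hker J).X₁ :=
    (DRing.restrictD s).mapIso
      (Rs.mapIso e₂.symm ≪≫ (rightAdjointIso _ Rs adj J).symm) ≪≫
      (DTen.resFactors s).app _
  exact ⟨_, _, distinguished_transport _ _ _ hT e₁ e₂ (f • 𝟙 ω) hm⟩

end Shr

end Groth.Agent.Lib.Helper18.DR
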