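import Mathlib
import Groth.Agent.Lib.Helper18.ShrC

/-!
# The exact sequence `0 → S ⊗_T N → S ⊗_T N → N → 0` for a retraction `s : S → T` with kernel
generated by a nonzerodivisor (helper18)
-/

set_option autoImplicit false
set_option linter.style.haveILetI false
universe u
open CategoryTheory CategoryTheory.Limits TensorProduct

attribute [local instance] HasDerivedCategory.standard

namespace Groth.Agent.Lib.Helper18.DR

namespace Shr

section algebra

variable {T S : Type u} [CommRing T] [CommRing S] [Algebra T S] (s : S →+* T)
  (hsi : ∀ t, s (algebraMap T S t) = t) (f : S) (hker : RingHom.ker s = Ideal.span {f})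
  (hf : f ∈ nonZeroDivisors S)

include hsi in
lemma s_smul (t : T) (a : S) : s (t • a) = t * s a := by
  rw [Algebra.smul_def, map_mul, hsi]

/-- `s` as a `T`-linear map -/
def sLin : S →ₗ[T] T where
  toFun := s
  map_add' := map_add s
  map_smul' t a := by
    rw [s_smul s hsi]
    rfl

include hsi hker in
lemma exists_div (g : S) : ∃ h, f * h = g - algebraMap T S (s g) := by
  have h1 : g - algebraMap T S (s g) ∈ RingHom.ker s := by
    rw [RingHom.mem_ker, map_sub, hsi, sub_self]
  rw [hker] at h1
  obtain ⟨c, hc⟩ := Ideal.mem_span_singleton'.1 h1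
  exact ⟨c, by rw [mul_comm, hc]⟩

/-- division by `f` of `g - s(g)` -/
noncomputable def divFun (g : S) : S := Classical.choose (exists_div s hsi f hker g)

lemma mul_divFun (g : S) : f * divFun s hsi f hker g = g - algebraMap T S (s g) :=
  Classical.choose_spec (exists_div s hsi f hker g)

/-- division by `f` as a `T`-linear map -/
noncomputable def divLin : S →ₗ[T] S where
  toFun := divFun s hsi f hker
  map_add' g g' := by
    apply (mul_cancel_left_mem_nonZeroDivisors hf).1
    rw [mul_add, mul_divFun, mul_divFun, mul_divFun, map_add, map_add]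
    ring
  map_smul' t g := by
    apply (mul_cancel_left_mem_nonZeroDivisors hf).1
    rw [RingHom.id_apply, mul_smul_comm, mul_divFun, mul_divFun, s_smul s hsi, smul_sub,
      map_mul, Algebra.smul_def t (algebraMap T S (s g))]

lemma mul_divLin (g : S) : f * divLin s hsi f hker hf g = g - algebraMap T S (s g) :=
  mul_divFun s hsi f hker g

include hker in
lemma s_f : s f = 0 := by
  rw [← RingHom.mem_ker, hker]
  exact Ideal.mem_span_singleton_self f

lemma divLin_mul (g : S) : divLin s hsi f hker hf (f * g) = g := by
  apply (mul_cancel_left_mem_nonZeroDivisors hf).1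
  rw [mul_divLin, map_mul, s_f s f hker, zero_mul, map_zero, sub_zero]

variable (N : Type u) [AddCommGroup N] [Module T N]

/-- the evaluation map `S ⊗_T N → N`, `a ⊗ n ↦ s(a) n` -/
noncomputable def evLin : S ⊗[T] N →ₗ[T] N :=
  TensorProduct.lift ((LinearMap.lsmul T N).comp (sLin s hsi))

lemma evLin_tmul (a : S) (n : N) : evLin s hsi N (a ⊗ₜ[T] n) = s a • n := by
  unfold evLin
  rw [TensorProduct.lift.tmul]
  rfl

lemma evLin_smul (a : S) (x : S ⊗[T] N) : evLin s hsi N (a • x) = s a • evLin s hsi N x := by
  induction x using TensorProduct.induction_on with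
  | zero => rw [smul_zero, map_zero, smul_zero]
  | tmul b n =>
    rw [TensorProduct.smul_tmul', evLin_tmul, evLin_tmul, smul_eq_mul, map_mul, mul_smul]
  | add x y hx hy => rw [smul_add, map_add, map_add, hx, hy, smul_add]

lemma rTensor_mul (x : S ⊗[T] N) :
    LinearMap.rTensor N (LinearMap.mulLeft T f) x = f • x := by
  induction x using TensorProduct.induction_on with
  | zero => rw [map_zero, smul_zero]
  | tmul b n =>
    rw [LinearMap.rTensor_tmul, TensorProduct.smul_tmul']
    rfl
  | add x y hx hy => rw [map_add, smul_add, hx, hy]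

lemma decomp (x : S ⊗[T] N) :
    x = (1 : S) ⊗ₜ[T] (evLin s hsi N x) +
      f • LinearMap.rTensor N (divLin s hsi f hker hf) x := by
  induction x using TensorProduct.induction_on with
  | zero => simp
  | tmul b n =>
    rw [LinearMap.rTensor_tmul, TensorProduct.smul_tmul', evLin_tmul, smul_eq_mul, mul_divLin,
      TensorProduct.sub_tmul, ← TensorProduct.smul_tmul, Algebra.smul_def, mul_one]
    abel
  | add x y hx hy =>
    rw [map_add, map_add, TensorProduct.tmul_add, smul_add]
    nth_rewrite 1 [hx, hy]
    abel

include s hsi hker hf in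
lemma smul_injective_tensor : Function.Injective (fun x : S ⊗[T] N => f • x) := by
  intro x y hxy
  have hxy' : f • x = f • y := hxy
  have h1 : ∀ z : S ⊗[T] N,
      LinearMap.rTensor N (divLin s hsi f hker hf) (f • z) = z := by
    intro z
    induction z using TensorProduct.induction_on with
    | zero => simp
    | tmul b n =>
      rw [TensorProduct.smul_tmul', LinearMap.rTensor_tmul, smul_eq_mul, divLin_mul]
    | add x y hx hy => rw [smul_add, map_add, hx, hy]
  rw [← h1 x, ← h1 y, hxy']

include hker hf in
lemma evLin_eq_zero_iff (x : S ⊗[T] N) : evLin s hsi N x = 0 ↔ ∃ y : S ⊗[T] N, f • y = x := by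
  constructor
  · intro h
    refine ⟨LinearMap.rTensor N (divLin s hsi f hker hf) x, ?_⟩
    have h1 := decomp s hsi f hker hf N x
    rw [h, TensorProduct.tmul_zero, zero_add] at h1
    exact h1.symm
  · rintro ⟨y, rfl⟩
    rw [evLin_smul, s_f s f hker, zero_smul]

lemma evLin_surjective : Function.Surjective (evLin s hsi N) := by
  intro n
  exact ⟨(1 : S) ⊗ₜ[T] n, by rw [evLin_tmul, map_one, one_smul]⟩

end algebra

end Shr

end Groth.Agent.Lib.Helper18.DR
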