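import Mathlib
import Groth.Agent.Lib.Helper18.ShrD

/-!
# The short exact sequence of complexes `0 → S ⊗_T K → S ⊗_T K → K → 0` (helper18)
-/

set_option autoImplicit false
set_option linter.style.haveILetI false
universe u
open CategoryTheory CategoryTheory.Limits TensorProduct

attribute [local instance] HasDerivedCategory.standard

namespace Groth.Agent.Lib.Helper18.DR

namespace Shr

variable {T S : Type u} [CommRing T] [CommRing S] [Algebra T S] (s : S →+* T)
  (hsi : ∀ t, s (algebraMap T S t) = t)

include hsi in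
lemma comp_eq_id : RingHom.id T = s.comp (algebraMap T S) :=
  RingHom.ext (fun t => (hsi t).symm)

/-- `𝟭 ≅ res_s ⋙ res_i` -/
noncomputable def thetaIso :
    𝟭 (ModuleCat.{u} T) ≅
      ModuleCat.restrictScalars.{u} s ⋙ ModuleCat.restrictScalars.{u} (algebraMap T S) :=
  (ModuleCat.restrictScalarsId'.{u} (RingHom.id T) rfl).symm ≪≫
    ModuleCat.restrictScalarsComp'.{u} (algebraMap T S) s (RingHom.id T) (comp_eq_id s hsi)

/-- the natural map `S ⊗_T N → N` -/
noncomputable def piNat : extM (A := T) (B := S) ⟶ ModuleCat.restrictScalars.{u} s :=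
  (Functor.leftUnitor _).inv ≫ Functor.whiskerRight (thetaIso s hsi).hom extM ≫
    (Functor.associator _ _ _).hom ≫
    Functor.whiskerLeft _ (ModuleCat.extendRestrictScalarsAdj.{u, u, u} (algebraMap T S)).counit ≫
    (Functor.rightUnitor _).hom

/-- the underlying element of `N` -/
def ofRes (N : ModuleCat.{u} T) (y : ((ModuleCat.restrictScalars.{u} s).obj N : Type u)) :
    (N : Type u) := y

lemma ofRes_add (N : ModuleCat.{u} T) (y y' : ((ModuleCat.restrictScalars.{u} s).obj N : Type u)) :
    ofRes s N (y + y') = ofRes s N y + ofRes s N y' := rfl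

lemma ofRes_zero (N : ModuleCat.{u} T) : ofRes s N 0 = 0 := rfl

lemma ofRes_smul (N : ModuleCat.{u} T) (a : S)
    (y : ((ModuleCat.restrictScalars.{u} s).obj N : Type u)) :
    ofRes s N (a • y) = s a • ofRes s N y := rfl

lemma piNat_app_apply (N : ModuleCat.{u} T) (x : (extM (A := T) (B := S)).obj N) :
    ofRes s N (((piNat s hsi).app N).hom x) = evLin s hsi N (extMEquiv (B := S) N x) := by
  refine TensorProduct.induction_on (motive := fun z =>
    ofRes s N (((piNat s hsi).app N).hom z) = evLin s hsi N (extMEquiv (B := S) N z)) x ?_ ?_ ?_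
  · have h1 : ((piNat s hsi).app N).hom 0 = 0 := map_zero _
    have h2 : extMEquiv (B := S) N 0 = 0 := map_zero _
    exact (congrArg (ofRes s N) h1).trans ((ofRes_zero s N).trans
      (Eq.symm ((congrArg (evLin s hsi N) h2).trans (map_zero _))))
  · intro a n
    rfl
  · intro x y hx hy
    have h1 : ((piNat s hsi).app N).hom (x + y) =
      ((piNat s hsi).app N).hom x + ((piNat s hsi).app N).hom y := map_add _ _ _
    have h2 : extMEquiv (B := S) N (x + y) = extMEquiv (B := S) N x + extMEquiv (B := S) N y :=
      map_add _ _ _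
    exact (congrArg (ofRes s N) h1).trans ((ofRes_add s N _ _).trans
      ((congrArg₂ (· + ·) hx hy).trans
        (Eq.symm ((congrArg (evLin s hsi N) h2).trans (map_add _ _ _)))))

variable (f : S) (hker : RingHom.ker s = Ideal.span {f}) (hf : f ∈ nonZeroDivisors S)

lemma smul_id_hom_apply (E : ModuleCat.{u} S) (x : E) : (f • 𝟙 E : E ⟶ E).hom x = f • x := rfl

include hker in
lemma smul_comp_piNat (N : ModuleCat.{u} T) :
    (f • 𝟙 ((extM (A := T) (B := S)).obj N)) ≫ (piNat s hsi).app N = 0 := by
  rw [Linear.smul_comp, Category.id_comp]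
  apply ModuleCat.hom_ext
  refine LinearMap.ext fun x => ?_
  change f • ((piNat s hsi).app N).hom x = 0
  have h1 : ofRes s N (f • ((piNat s hsi).app N).hom x) = 0 := by
    rw [ofRes_smul, s_f s f hker, zero_smul]
  exact h1

/-- the short complex `S ⊗ N → S ⊗ N → N` -/
noncomputable def extSCM (N : ModuleCat.{u} T) : ShortComplex (ModuleCat.{u} S) where
  X₁ := (extM (A := T) (B := S)).obj N
  X₂ := (extM (A := T) (B := S)).obj N
  X₃ := (ModuleCat.restrictScalars.{u} s).obj N
  f := f • 𝟙 _
  g := (piNat s hsi).app N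
  zero := smul_comp_piNat s hsi f hker N

include hf in
lemma extSCM_shortExact (N : ModuleCat.{u} T) : (extSCM s hsi f hker N).ShortExact := by
  apply ModuleCat.shortComplex_shortExact
  · intro (y : (extM (A := T) (B := S)).obj N)
    have h0 : ((piNat s hsi).app N).hom y = 0 ↔
        evLin s hsi N (extMEquiv (B := S) N y) = 0 := by
      rw [← piNat_app_apply]
      exact Iff.rfl
    refine h0.trans ((evLin_eq_zero_iff s hsi f hker hf N _).trans ?_)
    constructor
    · rintro ⟨z, hz⟩
      refine ⟨(extMEquiv (B := S) N).symm z, ?_⟩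
      change f • (extMEquiv (B := S) N).symm z = y
      rw [← map_smul, hz, LinearEquiv.symm_apply_apply]
    · rintro ⟨x, hx⟩
      obtain ⟨x', hx'⟩ : ∃ x' : (extM (A := T) (B := S)).obj N, f • x' = y := ⟨x, hx⟩
      exact ⟨extMEquiv (B := S) N x', by rw [← map_smul, hx']⟩
  · intro (x : (extM (A := T) (B := S)).obj N) (x' : (extM (A := T) (B := S)).obj N) hxx
    have hxx' : f • x = f • x' := hxx
    apply (extMEquiv (B := S) N).injective
    apply smul_injective_tensor s hsi f hker hf N
    change f • extMEquiv (B := S) N x = f • extMEquiv (B := S) N x'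
    rw [← map_smul, ← map_smul, hxx']
  · intro (n : N)
    obtain ⟨z, hz⟩ := evLin_surjective s hsi N n
    refine ⟨(extMEquiv (B := S) N).symm z, ?_⟩
    have h1 := piNat_app_apply s hsi N ((extMEquiv (B := S) N).symm z)
    rw [LinearEquiv.apply_symm_apply, hz] at h1
    exact h1

/-- the short complex of complexes `S ⊗ K → S ⊗ K → K` -/
noncomputable def extSC (K : DRing.Cx T) : ShortComplex (DRing.Cx S) where
  X₁ := (DTen.extCx (algebraMap T S)).obj K
  X₂ := (DTen.extCx (algebraMap T S)).obj K
  X₃ := (DTen.resCx s).obj K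
  f := f • 𝟙 _
  g := (NatTrans.mapHomologicalComplex (piNat s hsi) (ComplexShape.up ℤ)).app K
  zero := by
    ext n : 1
    exact smul_comp_piNat s hsi f hker (K.X n)

include hf in
lemma extSC_shortExact (K : DRing.Cx T) : (extSC s hsi f hker K).ShortExact := by
  apply HomologicalComplex.shortExact_of_degreewise_shortExact
  intro i
  exact extSCM_shortExact s hsi f hker hf (K.X i)

end Shr

end Groth.Agent.Lib.Helper18.DR
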