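import Mathlib
import Groth.Agent.Lib.Helper18.ShrE

/-!
# `RHom_S(T, M ⊗_T S) ≅ M[-1]` for a retraction `s : S → T` of a flat `T`-algebra with kernel
generated by a nonzerodivisor (helper18)
-/

set_option autoImplicit false
set_option linter.style.haveILetI false
universe u
open CategoryTheory CategoryTheory.Limits CategoryTheory.Pretriangulated DerivedCategory

attribute [local instance] HasDerivedCategory.standard

namespace Groth.Agent.Lib.Helper18.DR

namespace Shr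

variable {T S : Type u} [CommRing T] [CommRing S] [Algebra T S] [Module.Flat T S] (s : S →+* T)
  (hsi : ∀ t, s (algebraMap T S t) = t) (f : S) (hker : RingHom.ker s = Ideal.span {f})
  (hf : f ∈ nonZeroDivisors S)

/-- `res_s ⋙ res_i ≅ 𝟭` -/
noncomputable def resRetractIso :
    DRing.restrictD s ⋙ DRing.restrictD (algebraMap T S) ≅ 𝟭 (Dual.D T) :=
  (resCompIso (algebraMap T S) s (RingHom.id T) (comp_eq_id s hsi)).symm ≪≫
    resIdIso (RingHom.id T) rfl

include hsi hker hf in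
/-- key lemma: `R_s (M ⊗_T S) ≅ M[-1]` -/
theorem nonempty_rightAdj_ext_iso (Rs : Dual.D S ⥤ Dual.D T) (adj : DRing.restrictD s ⊣ Rs)
    (M : Dual.D T) : Nonempty (Rs.obj ((extD T S).obj M) ≅ M⟦(-1 : ℤ)⟧) := by
  obtain ⟨K, ⟨e⟩⟩ : ∃ K : DRing.Cx T, Nonempty (DRing.toD K ≅ M) :=
    ⟨DerivedCategory.Q.objPreimage M, ⟨DerivedCategory.Q.objObjPreimageIso M⟩⟩
  let EK : DRing.Cx S := (DTen.extCx (algebraMap T S)).obj K
  let ω : Dual.D S := DerivedCategory.Q.obj EK
  let iso1 : (extD T S).obj M ≅ ω :=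
    (extD T S).mapIso e.symm ≪≫ ((extM (A := T) (B := S)).mapDerivedCategoryFactors).app K
  have hs : Function.Surjective s := fun t => ⟨algebraMap T S t, hsi t⟩
  obtain ⟨u, w, h1⟩ := exists_triangle_of_ker_span s f hker hs ω hf Rs adj
  have hS := extSC_shortExact s hsi f hker hf K
  have h2 := DerivedCategory.triangleOfSES_distinguished hS
  have h1' := rot_of_distTriang _ h1
  have hcomm : (f • 𝟙 ω) = DerivedCategory.Q.map (f • 𝟙 EK) := by
    rw [Functor.map_smul, CategoryTheory.Functor.map_id]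
  let eT := isoTriangleOfIso₁₂ _ _ h1' h2 (Iso.refl _) (Iso.refl _) (by
    change (f • 𝟙 ω) ≫ 𝟙 _ = 𝟙 _ ≫ DerivedCategory.Q.map (f • 𝟙 EK)
    rw [Category.comp_id, Category.id_comp, hcomm])
  let Y : Dual.D T := Rs.obj ω
  let e3 : ((DRing.restrictD s).obj Y)⟦(1 : ℤ)⟧ ≅
      DerivedCategory.Q.obj ((DTen.resCx s).obj K) := Triangle.π₃.mapIso eT
  let e4 : DerivedCategory.Q.obj ((DTen.resCx s).obj K) ≅ (DRing.restrictD s).obj M :=
    ((DTen.resFactors s).app K).symm ≪≫ (DRing.restrictD s).mapIso e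
  let ρ := resRetractIso s hsi
  let e5 : Y⟦(1 : ℤ)⟧ ≅ M :=
    (shiftFunctor (Dual.D T) (1 : ℤ)).mapIso (ρ.app Y).symm ≪≫
      (((DRing.restrictD (algebraMap T S)).commShiftIso (1 : ℤ)).symm.app
        ((DRing.restrictD s).obj Y)) ≪≫
      (DRing.restrictD (algebraMap T S)).mapIso (e3 ≪≫ e4) ≪≫ ρ.app M
  exact ⟨Rs.mapIso iso1 ≪≫ (shiftEquiv (Dual.D T) (1 : ℤ)).unitIso.app Y ≪≫
    (shiftFunctor (Dual.D T) (-1 : ℤ)).mapIso e5⟩

end Shr

end Groth.Agent.Lib.Helper18.DR
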