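import Mathlib
import Groth.Agent.Lib.Helper18.ShrF

/-!
# Abstract upper shriek via a factorization (helper18)
-/

set_option autoImplicit false
set_option linter.style.haveILetI false
universe u
open CategoryTheory CategoryTheory.Limits CategoryTheory.Pretriangulated DerivedCategory

attribute [local instance] HasDerivedCategory.standard

namespace Groth.Agent.Lib.Helper18.DR

namespace Shr

open Polynomial in
/-- key lemma for polynomial rings: `RHom_{T[X]}(T, M[X]) ≅ M[-1]` -/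
theorem nonempty_rightAdj_polynomial_iso (T : Type u) [CommRing T] (p : T)
    (Rs : Dual.D T[X] ⥤ Dual.D T) (adj : DRing.restrictD (Polynomial.evalRingHom p) ⊣ Rs)
    (M : Dual.D T) : Nonempty (Rs.obj ((extD T T[X]).obj M) ≅ M⟦(-1 : ℤ)⟧) :=
  nonempty_rightAdj_ext_iso (Polynomial.evalRingHom p)
    (fun t => by rw [Polynomial.algebraMap_apply, Algebra.algebraMap_self_apply,
      Polynomial.coe_evalRingHom, Polynomial.eval_C])
    (X - C p) (Polynomial.ker_evalRingHom p) (Polynomial.monic_X_sub_C p).mem_nonZeroDivisors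
    Rs adj M

section

variable {R Q A : Type u} [CommRing R] [CommRing Q] [CommRing A]

/-- `X` is `R_b (L_a K)[d]` for a left adjoint `L_a` of restriction along `a : R → Q` and a right
adjoint `R_b` of restriction along `b : Q → A` -/
def IsShriek (a : R →+* Q) (b : Q →+* A) (d : ℤ) (K : Dual.D R) (X : Dual.D A) : Prop :=
  ∃ (L : Dual.D R ⥤ Dual.D Q) (_ : L ⊣ DRing.restrictD a) (Rb : Dual.D Q ⥤ Dual.D A)
    (_ : DRing.restrictD b ⊣ Rb), Nonempty (X ≅ (Rb.obj (L.obj K))⟦d⟧)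

variable {a : R →+* Q} {b : Q →+* A} {d : ℤ} {K : Dual.D R} {X X' : Dual.D A}

lemma IsShriek.congr (h : IsShriek a b d K X) {a' : R →+* Q} {b' : Q →+* A} {d' : ℤ}
    (ha : a' = a) (hb : b' = b) (hd : d' = d) : IsShriek a' b' d' K X := by
  subst ha hb hd
  exact h

theorem IsShriek.unique (h : IsShriek a b d K X) (h' : IsShriek a b d K X') :
    Nonempty (X ≅ X') := by
  obtain ⟨L, adjL, Rb, adjR, ⟨e⟩⟩ := h
  obtain ⟨L', adjL', Rb', adjR', ⟨e'⟩⟩ := h'
  exact ⟨e ≪≫ (shiftFunctor (Dual.D A) d).mapIso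
    (Rb.mapIso ((adjL.leftAdjointUniq adjL').app K) ≪≫ (adjR.rightAdjointUniq adjR').app _) ≪≫
    e'.symm⟩

/-- enlarging the middle ring along a flat extension with a good retraction -/
theorem IsShriek.step (h : IsShriek a b d K X) {Q₂ : Type u} [CommRing Q₂] [Algebra Q Q₂]
    [Module.Flat Q Q₂] (s : Q₂ →+* Q) (e : ℤ)
    (hgood : ∀ (Rs : Dual.D Q₂ ⥤ Dual.D Q) (_ : DRing.restrictD s ⊣ Rs) (M : Dual.D Q),
      Nonempty (Rs.obj ((extD Q Q₂).obj M) ≅ M⟦-e⟧)) :
    IsShriek ((algebraMap Q Q₂).comp a) (b.comp s) (d + e) K X := by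
  obtain ⟨L, adjL, Rb, adjR, ⟨e0⟩⟩ := h
  refine ⟨L ⋙ extD Q Q₂,
    (adjL.comp (extAdj Q Q₂)).ofNatIsoRight (resCompIso a (algebraMap Q Q₂) _ rfl).symm,
    coextD s ⋙ Rb,
    (adjR.comp (coextAdj s)).ofNatIsoLeft (resCompIso s b _ rfl).symm, ?_⟩
  obtain ⟨g⟩ := hgood (coextD s) (coextAdj s) (L.obj K)
  exact ⟨e0 ≪≫ (shiftFunctorAdd' (Dual.D A) (-e) (d + e) d (by omega)).app (Rb.obj (L.obj K)) ≪≫
    (shiftFunctor (Dual.D A) (d + e)).mapIso
      ((rightAdjShiftIso b Rb adjR (L.obj K) (-e)).symm ≪≫ Rb.mapIso g.symm)⟩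

/-- transport along an isomorphism of the middle ring -/
theorem IsShriek.transport (h : IsShriek a b d K X) {Q' : Type u} [CommRing Q'] (σ : Q ≃+* Q') :
    IsShriek (σ.toRingHom.comp a) (b.comp σ.symm.toRingHom) d K X := by
  obtain ⟨L, adjL, Rb, adjR, ⟨e0⟩⟩ := h
  refine ⟨L ⋙ DRing.restrictD σ.symm.toRingHom,
    (adjL.comp (resEquivAdj' σ)).ofNatIsoRight (resCompIso a σ.toRingHom _ rfl).symm,
    DRing.restrictD σ.toRingHom ⋙ Rb,
    (adjR.comp (resEquivAdj' σ)).ofNatIsoLeft (resCompIso σ.symm.toRingHom b _ rfl).symm, ?_⟩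
  exact ⟨e0 ≪≫ (shiftFunctor (Dual.D A) d).mapIso
    (Rb.mapIso ((resEquiv σ).counitIso.app (L.obj K)).symm)⟩

end

end Shr

end Groth.Agent.Lib.Helper18.DR
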