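import Mathlib
import Groth.Agent.Lib.Helper18.ShrG
import Groth.Prelude.Def_DualSh

/-!
# Upper shriek via polynomial presentations is independent of the presentation (helper18)
-/

set_option autoImplicit false
set_option linter.style.haveILetI false
universe u
open CategoryTheory CategoryTheory.Limits CategoryTheory.Pretriangulated DerivedCategory

attribute [local instance] HasDerivedCategory.standard

namespace Groth.Agent.Lib.Helper18.DR

namespace Shr

variable (R A : Type u) [CommRing R] [CommRing A] [Algebra R A]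

/-- `X` is the upper shriek of `K` computed via the presentation `R[x_i : i ∈ ι] → A`, `x_i ↦ v i`,
with shift `d` -/
def ShriekVia (ι : Type) (v : ι → A) (d : ℤ) (K : Dual.D R) (X : Dual.D A) : Prop :=
  IsShriek (algebraMap R (MvPolynomial ι R))
    (MvPolynomial.aeval v : MvPolynomial ι R →ₐ[R] A).toRingHom d K X

variable {R A} {ι ι' : Type} {v : ι → A} {d : ℤ} {K : Dual.D R} {X X' : Dual.D A}

theorem ShriekVia.unique (h : ShriekVia R A ι v d K X) (h' : ShriekVia R A ι v d K X') :
    Nonempty (X ≅ X') :=
  IsShriek.unique h h'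

lemma ShriekVia.congr (h : ShriekVia R A ι v d K X) {v' : ι → A} {d' : ℤ} (hv : v' = v)
    (hd : d' = d) : ShriekVia R A ι v' d' K X := by
  subst hv hd
  exact h

theorem ShriekVia.rename (h : ShriekVia R A ι v d K X) (e : ι ≃ ι') :
    ShriekVia R A ι' (v ∘ e.symm) d K X := by
  have h1 := IsShriek.transport h (MvPolynomial.renameEquiv R e).toRingEquiv
  refine IsShriek.congr h1 ?_ ?_ rfl
  · refine RingHom.ext fun r => ?_
    change algebraMap R (MvPolynomial ι' R) r =
      (MvPolynomial.renameEquiv R e) (algebraMap R (MvPolynomial ι R) r)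
    rw [AlgEquiv.commutes]
  · apply MvPolynomial.ringHom_ext
    · intro r
      change MvPolynomial.aeval (v ∘ e.symm) (MvPolynomial.C r) =
        MvPolynomial.aeval v ((MvPolynomial.renameEquiv R e).symm (MvPolynomial.C r))
      rw [MvPolynomial.renameEquiv_symm, MvPolynomial.renameEquiv_apply, MvPolynomial.rename_C,
        MvPolynomial.aeval_C, MvPolynomial.aeval_C]
    · intro j
      change MvPolynomial.aeval (v ∘ e.symm) (MvPolynomial.X j) =
        MvPolynomial.aeval v ((MvPolynomial.renameEquiv R e).symm (MvPolynomial.X j))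
      rw [MvPolynomial.renameEquiv_symm, MvPolynomial.renameEquiv_apply, MvPolynomial.rename_X,
        MvPolynomial.aeval_X, MvPolynomial.aeval_X]
      rfl

theorem ShriekVia.step (h : ShriekVia R A ι v d K X)
    (hv : Function.Surjective (MvPolynomial.aeval v : MvPolynomial ι R →ₐ[R] A)) (g : A) :
    ShriekVia R A (Option ι) (fun o => o.elim g v) (d + 1) K X := by
  obtain ⟨p, hp⟩ := hv g
  have h1 := IsShriek.step h (Q₂ := Polynomial (MvPolynomial ι R)) (Polynomial.evalRingHom p) 1
    (nonempty_rightAdj_polynomial_iso (MvPolynomial ι R) p)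
  have h2 := IsShriek.transport h1 (MvPolynomial.optionEquivLeft R ι).symm.toRingEquiv
  refine IsShriek.congr h2 ?_ ?_ rfl
  · refine RingHom.ext fun r => ?_
    change algebraMap R (MvPolynomial (Option ι) R) r =
      (MvPolynomial.optionEquivLeft R ι).symm
        (algebraMap (MvPolynomial ι R) (Polynomial (MvPolynomial ι R))
          (algebraMap R (MvPolynomial ι R) r))
    rw [← IsScalarTower.algebraMap_apply, AlgEquiv.commutes]
  · apply MvPolynomial.ringHom_ext
    · intro r
      change MvPolynomial.aeval (fun o => Option.elim o g v) (MvPolynomial.C r) =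
        MvPolynomial.aeval v (Polynomial.eval p
          ((MvPolynomial.optionEquivLeft R ι) (MvPolynomial.C r)))
      rw [MvPolynomial.optionEquivLeft_C, Polynomial.eval_C, MvPolynomial.aeval_C,
        MvPolynomial.aeval_C]
    · intro j
      change MvPolynomial.aeval (fun o => Option.elim o g v) (MvPolynomial.X j) =
        MvPolynomial.aeval v (Polynomial.eval p
          ((MvPolynomial.optionEquivLeft R ι) (MvPolynomial.X j)))
      cases j with
      | none =>
        rw [MvPolynomial.optionEquivLeft_X_none, Polynomial.eval_X, MvPolynomial.aeval_X, hp]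
        rfl
      | some j =>
        rw [MvPolynomial.optionEquivLeft_X_some, Polynomial.eval_C, MvPolynomial.aeval_X,
          MvPolynomial.aeval_X]
        rfl

/-- `Option (α ⊕ ι) ≃ Option α ⊕ ι` -/
def optionSumEquiv (α ι : Type) : Option (α ⊕ ι) ≃ Option α ⊕ ι where
  toFun o := match o with
    | none => Sum.inl none
    | some (Sum.inl a) => Sum.inl (some a)
    | some (Sum.inr i) => Sum.inr i
  invFun x := match x with
    | Sum.inl none => none
    | Sum.inl (some a) => some (Sum.inl a)
    | Sum.inr i => some (Sum.inr i)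
  left_inv o := by rcases o with _ | (a | i) <;> rfl
  right_inv x := by rcases x with (_ | a) | i <;> rfl

lemma surjective_aeval_sumElim
    (hv : Function.Surjective (MvPolynomial.aeval v : MvPolynomial ι R →ₐ[R] A))
    {κ : Type} (w : κ → A) :
    Function.Surjective
      (MvPolynomial.aeval (Sum.elim w v) : MvPolynomial (κ ⊕ ι) R →ₐ[R] A) := by
  intro a
  obtain ⟨q, hq⟩ := hv a
  refine ⟨MvPolynomial.rename Sum.inr q, ?_⟩
  rw [MvPolynomial.aeval_rename, Sum.elim_comp_inr, hq]

theorem ShriekVia.addVars (h : ShriekVia R A ι v d K X)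
    (hv : Function.Surjective (MvPolynomial.aeval v : MvPolynomial ι R →ₐ[R] A))
    (κ : Type) [Finite κ] (w : κ → A) :
    ShriekVia R A (κ ⊕ ι) (Sum.elim w v) (d + (Nat.card κ : ℤ)) K X := by
  revert w
  refine Finite.induction_empty_option (P := fun κ => ∀ w : κ → A,
    ShriekVia R A (κ ⊕ ι) (Sum.elim w v) (d + (Nat.card κ : ℤ)) K X) ?_ ?_ ?_ κ
  · intro α β e hα w
    have h1 := (hα (w ∘ e)).rename (e.sumCongr (Equiv.refl ι))
    refine h1.congr ?_ ?_
    · funext x
      cases x with
      | inl b => simp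
      | inr i => simp
    · rw [Nat.card_congr e]
  · intro w
    have h1 := h.rename (Equiv.emptySum PEmpty ι).symm
    refine h1.congr ?_ ?_
    · funext x
      cases x with
      | inl x => exact x.elim
      | inr i => rfl
    · simp
  · intro α _ hα w
    have h1 := (hα (w ∘ some)).step (surjective_aeval_sumElim hv (w ∘ some)) (w none)
    have h2 := h1.rename (optionSumEquiv α ι)
    refine h2.congr ?_ ?_
    · funext x
      rcases x with (_ | a) | i <;> rfl
    · rw [Finite.card_option]
      push_cast
      ring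

/-- the upper shriek defined via a presentation is a `ShriekVia` -/
theorem shriekVia_of_presentation (n : ℕ) (ψ : MvPolynomial (Fin n) R →ₐ[R] A)
    [DRing.HasLBaseChange (algebraMap R (MvPolynomial (Fin n) R))]
    (Rψ : Dual.D (MvPolynomial (Fin n) R) ⥤ Dual.D A) (adj : DRing.restrictD ψ.toRingHom ⊣ Rψ)
    (K : Dual.D R) :
    ShriekVia R A (Fin n) (fun i => ψ (MvPolynomial.X i)) (n : ℤ) K (Dual2.shriekVia n Rψ K) := by
  have hψe : ψ = MvPolynomial.aeval (fun i => ψ (MvPolynomial.X i)) := MvPolynomial.aeval_unique ψ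
  have h0 : IsShriek (algebraMap R (MvPolynomial (Fin n) R)) ψ.toRingHom (n : ℤ) K
      (Dual2.shriekVia n Rψ K) :=
    ⟨DRing.LBaseChange (algebraMap R (MvPolynomial (Fin n) R)), LBCAdj.adjD _, Rψ, adj,
      ⟨Iso.refl _⟩⟩
  exact IsShriek.congr h0 rfl (by rw [← hψe]) rfl

/-- independence of the presentation -/
theorem nonempty_shriekVia_iso (n : ℕ) (ψ : MvPolynomial (Fin n) R →ₐ[R] A)
    (hψ : Function.Surjective ψ)
    [DRing.HasLBaseChange (algebraMap R (MvPolynomial (Fin n) R))]
    (Rψ : Dual.D (MvPolynomial (Fin n) R) ⥤ Dual.D A) (adj : DRing.restrictD ψ.toRingHom ⊣ Rψ)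
    (m : ℕ) (ψ' : MvPolynomial (Fin m) R →ₐ[R] A) (hψ' : Function.Surjective ψ')
    [DRing.HasLBaseChange (algebraMap R (MvPolynomial (Fin m) R))]
    (Rψ' : Dual.D (MvPolynomial (Fin m) R) ⥤ Dual.D A)
    (adj' : DRing.restrictD ψ'.toRingHom ⊣ Rψ') (K : Dual.D R) :
    Nonempty (Dual2.shriekVia n Rψ K ≅ Dual2.shriekVia m Rψ' K) := by
  have h1 := shriekVia_of_presentation n ψ Rψ adj K
  have h2 := shriekVia_of_presentation m ψ' Rψ' adj' K
  have hs1 : Function.Surjective
      (MvPolynomial.aeval (fun i => ψ (MvPolynomial.X i)) : MvPolynomial (Fin n) R →ₐ[R] A) := by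
    have e : (MvPolynomial.aeval (fun i => ψ (MvPolynomial.X i)) :
        MvPolynomial (Fin n) R →ₐ[R] A) = ψ := (MvPolynomial.aeval_unique ψ).symm
    rw [e]
    exact hψ
  have hs2 : Function.Surjective
      (MvPolynomial.aeval (fun i => ψ' (MvPolynomial.X i)) : MvPolynomial (Fin m) R →ₐ[R] A) := by
    have e : (MvPolynomial.aeval (fun i => ψ' (MvPolynomial.X i)) :
        MvPolynomial (Fin m) R →ₐ[R] A) = ψ' := (MvPolynomial.aeval_unique ψ').symm
    rw [e]
    exact hψ'
  have h3 := h1.addVars hs1 (Fin m) (fun i => ψ' (MvPolynomial.X i))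
  have h4 := (h2.addVars hs2 (Fin n) (fun i => ψ (MvPolynomial.X i))).rename
    (Equiv.sumComm (Fin n) (Fin m))
  refine ShriekVia.unique h3 (h4.congr ?_ ?_)
  · funext x
    cases x with
    | inl i => rfl
    | inr i => rfl
  · rw [Nat.card_eq_fintype_card, Nat.card_eq_fintype_card, Fintype.card_fin, Fintype.card_fin]
    ring

end Shr

end Groth.Agent.Lib.Helper18.DR
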