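import Mathlib
import Groth.Agent.Lib.Helper18.ShrH
import Groth.Agent.Lib.Helper18.DualFin
import Groth.Agent.Lib.Helper18.BCHom6

/-!
# Boundedness and coherence of the upper shriek (helper18)
-/

set_option autoImplicit false
set_option linter.style.haveILetI false
universe u
open CategoryTheory CategoryTheory.Limits CategoryTheory.Pretriangulated DerivedCategory

attribute [local instance] HasDerivedCategory.standard

namespace Groth.Agent.Lib.Helper18.DR

namespace Shr

/-- right adjoints of restriction preserve `D^{≥ a}` -/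
theorem subsingleton_HD_rightAdjoint_of_isGE {A B : Type u} [CommRing A] [CommRing B]
    (φ : A →+* B) (R : Dual.D A ⥤ Dual.D B) (adj : DRing.restrictD φ ⊣ R) (K : Dual.D A) (a : ℤ)
    [K.IsGE a] (i : ℤ) (hi : i < a) : Subsingleton (Dual.HD B (R.obj K) i) := by
  let S : Dual.D B := Sg i (ModuleCat.of B B)
  let P : Dual.D A := (DRing.restrictD φ).obj S
  haveI : P.IsLE i := isLE_mapD (ModuleCat.restrictScalars.{u} φ) S i
  have hz : ∀ w : S ⟶ R.obj K, w = 0 := by
    intro w
    have h1 : (adj.homEquiv S K).symm w = 0 :=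
      TStructure.t.zero_of_isLE_of_isGE _ i a hi inferInstance inferInstance
    have h2 : w = adj.homEquiv S K ((adj.homEquiv S K).symm w) := by simp
    rw [h2, h1]
    exact (adj.homAddEquiv S K).map_zero
  refine ⟨fun x y => ?_⟩
  obtain ⟨w, rfl⟩ := homSgToH_surjective i (R.obj K) x
  obtain ⟨w', rfl⟩ := homSgToH_surjective i (R.obj K) y
  rw [hz w, hz w']

/-- the upper shriek of a bounded below (coherent) complex is bounded below (coherent) -/
theorem shriekVia_bounded_coherent (R A : Type u) [CommRing R] [CommRing A] [IsNoetherianRing R]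
    [Algebra R A] (n : ℕ) (ψ : MvPolynomial (Fin n) R →ₐ[R] A) (hψ : Function.Surjective ψ)
    [DRing.HasLBaseChange (algebraMap R (MvPolynomial (Fin n) R))]
    (Rψ : Dual.D (MvPolynomial (Fin n) R) ⥤ Dual.D A) (adj : DRing.restrictD ψ.toRingHom ⊣ Rψ)
    (K : Dual.D R) (a : ℤ) (hKa : ∀ i : ℤ, i < a → Subsingleton (Dual.HD R K i)) :
    (∃ b : ℤ, ∀ i : ℤ, i < b → Subsingleton (Dual.HD A (Dual2.shriekVia n Rψ K) i)) ∧
      ((∀ i : ℤ, Module.Finite R (Dual.HD R K i)) →
        ∀ i : ℤ, Module.Finite A (Dual.HD A (Dual2.shriekVia n Rψ K) i)) := by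
  let N : Dual.D (MvPolynomial (Fin n) R) :=
    (DRing.LBaseChange (algebraMap R (MvPolynomial (Fin n) R))).obj K
  obtain ⟨eN⟩ := HomBC.nonempty_LBaseChange_iso_extD (A := R) (B := MvPolynomial (Fin n) R) K
  have hNH : ∀ j : ℤ, (H (MvPolynomial (Fin n) R) j).obj N ≅
      (extM (A := R) (B := MvPolynomial (Fin n) R)).obj ((H R j).obj K) := fun j =>
    (H (MvPolynomial (Fin n) R) j).mapIso eN ≪≫
      homologyMapDIso (extM (A := R) (B := MvPolynomial (Fin n) R)) K j
  have hNa : ∀ j : ℤ, j < a → Subsingleton (Dual.HD (MvPolynomial (Fin n) R) N j) := by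
    intro j hj
    haveI := hKa j hj
    have hz : IsZero ((H R j).obj K) := ModuleCat.isZero_of_subsingleton _
    exact ModuleCat.subsingleton_of_isZero
      (((extM (A := R) (B := MvPolynomial (Fin n) R)).map_isZero hz).of_iso (hNH j))
  haveI : N.IsGE a := by
    rw [DerivedCategory.isGE_iff]
    intro j hj
    haveI := hNa j hj
    exact ModuleCat.isZero_of_subsingleton _
  have hsh : ∀ i : ℤ, (H A i).obj (Dual2.shriekVia n Rψ K) ≅ (H A ((n : ℤ) + i)).obj (Rψ.obj N) :=
    fun i => (HShiftIso A (n : ℤ) i ((n : ℤ) + i) rfl).app (Rψ.obj N)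
  refine ⟨⟨a - n, fun i hi => ?_⟩, fun hKfin i => ?_⟩
  · haveI := subsingleton_HD_rightAdjoint_of_isGE ψ.toRingHom Rψ adj N a ((n : ℤ) + i) (by omega)
    exact (hsh i).toLinearEquiv.toEquiv.subsingleton
  · letI : Algebra (MvPolynomial (Fin n) R) A := ψ.toRingHom.toAlgebra
    haveI : Module.Finite (MvPolynomial (Fin n) R) A :=
      Module.Finite.of_surjective (Algebra.linearMap (MvPolynomial (Fin n) R) A) hψ
    have hNfin : ∀ j : ℤ, Module.Finite (MvPolynomial (Fin n) R)
        (Dual.HD (MvPolynomial (Fin n) R) N j) := by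
      intro j
      haveI := hKfin j
      haveI := finite_extM (A := R) (B := MvPolynomial (Fin n) R) ((H R j).obj K)
      exact Module.Finite.equiv (hNH j).toLinearEquiv.symm
    haveI := finite_HD_rightAdjoint_restrictD (MvPolynomial (Fin n) R) A Rψ adj N a hNa hNfin
      ((n : ℤ) + i)
    exact Module.Finite.equiv (hsh i).toLinearEquiv.symm

end Shr

end Groth.Agent.Lib.Helper18.DR
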