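import Mathlib
import Groth.Agent.Lib.Helper18.ShrI
import Groth.Agent.Lib.Helper18.BCHom5
import Groth.Agent.Lib.Helper18.DualDelta

/-!
# Flat base change for the right adjoint of restriction of scalars (helper18)
-/

set_option autoImplicit false
set_option linter.style.haveILetI false
universe u
open CategoryTheory CategoryTheory.Limits CategoryTheory.Pretriangulated DerivedCategory
open TensorProduct

attribute [local instance] HasDerivedCategory.standard

namespace Groth.Agent.Lib.Helper18.DR

namespace Fbc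

open HomBC

section detect

variable {B : Type u} [CommRing B]

lemma homSgToH_eq (i : ℤ) (X : Dual.D B) (φ : Sg i (ModuleCat.of B B) ⟶ X) :
    homSgToH i X φ = (aLin i (ModuleCat.of B B) X φ).hom (1 : B) := rfl

lemma homSgToH_injective (i : ℤ) (X : Dual.D B) : Function.Injective (homSgToH i X) := by
  haveI : Module.Projective B (ModuleCat.of B B) := Module.Projective.of_free
  haveI : Projective (ModuleCat.of B B) :=
    (IsProjective.iff_projective (R := B) (P := ModuleCat.of B B)).mp inferInstance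
  rw [injective_iff_map_eq_zero]
  intro φ hφ
  apply (aLin_bijective i (ModuleCat.of B B) X).1
  rw [map_zero]
  apply ModuleCat.hom_ext
  apply LinearMap.ext_ring
  rw [homSgToH_eq] at hφ
  rw [hφ]
  rfl

lemma homSgToH_comp (i : ℤ) {X Y : Dual.D B} (φ : Sg i (ModuleCat.of B B) ⟶ X) (c : X ⟶ Y) :
    homSgToH i Y (φ ≫ c) = ((H B i).map c).hom (homSgToH i X φ) := by
  change ((H B i).map (φ ≫ c)).hom _ = _
  rw [Functor.map_comp]
  rfl

/-- a morphism inducing bijections on `Hom(B[-i], -)` is an isomorphism -/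
theorem isIso_of_bijective_comp_Sg {Z₁ Z₂ : Dual.D B} (c : Z₁ ⟶ Z₂)
    (h : ∀ i : ℤ, Function.Bijective (fun g : Sg i (ModuleCat.of B B) ⟶ Z₁ => g ≫ c)) :
    IsIso c := by
  rw [DerivedCategory.isIso_iff]
  intro i
  rw [ConcreteCategory.isIso_iff_bijective]
  constructor
  · intro x x' hxx
    obtain ⟨g, rfl⟩ := homSgToH_surjective i Z₁ x
    obtain ⟨g', rfl⟩ := homSgToH_surjective i Z₁ x'
    have h1 : homSgToH i Z₂ (g ≫ c) = homSgToH i Z₂ (g' ≫ c) := by
      rw [homSgToH_comp, homSgToH_comp]
      exact hxx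
    have h2 := (h i).1 (homSgToH_injective i Z₂ h1)
    rw [h2]
  · intro y
    obtain ⟨w, rfl⟩ := homSgToH_surjective i Z₂ y
    obtain ⟨g, hg⟩ := (h i).2 w
    refine ⟨homSgToH i Z₁ g, ?_⟩
    have h1 := homSgToH_comp i g c
    rw [← hg]
    exact h1.symm

end detect

section pc

variable (A B : Type u) [CommRing A] [CommRing B] [Algebra A B] [IsNoetherianRing A]
  [Module.Finite A B]

/-- `B[-i]` restricted to `A` is pseudo-coherent -/
lemma isPseudoCoherent'_restrictD_Sg (i : ℤ) :
    DRing.IsPseudoCoherent' A ((DRing.restrictD (algebraMap A B)).obj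
      (Sg i (ModuleCat.of B B))) := by
  let S : Dual.D B := Sg i (ModuleCat.of B B)
  let P : Dual.D A := (DRing.restrictD (algebraMap A B)).obj S
  haveI : P.IsLE i := isLE_mapD (ModuleCat.restrictScalars.{u} (algebraMap A B)) S i
  have hPfin : ∀ j : ℤ, Module.Finite A (Dual.HD A P j) := by
    intro j
    have e1 := homologyMapDIso (ModuleCat.restrictScalars.{u} (algebraMap A B)) S j
    by_cases hj : j = i
    · subst hj
      have e2 : (H A j).obj P ≅ (ModuleCat.restrictScalars.{u} (algebraMap A B)).obj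
          (ModuleCat.of B B) :=
        e1 ≪≫ (ModuleCat.restrictScalars.{u} (algebraMap A B)).mapIso (HSg j (ModuleCat.of B B))
      haveI : Module.Finite A ((ModuleCat.restrictScalars.{u} (algebraMap A B)).obj
          (ModuleCat.of B B)) := Module.Finite.equiv (resBEquiv (A := A) (B := B)).symm
      exact Module.Finite.equiv e2.toLinearEquiv.symm
    · have hz : IsZero ((H B j).obj S) := by
        rcases lt_or_gt_of_ne hj with h | h
        · exact isZero_of_isGE S i j h
        · exact isZero_of_isLE S i j h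
      haveI : Subsingleton (Dual.HD A P j) := ModuleCat.subsingleton_of_isZero
        (((ModuleCat.restrictScalars.{u} (algebraMap A B)).map_isZero hz).of_iso e1)
      exact Module.Finite.of_finite
  exact (isPseudoCoherent'_iff_forall P).1 (fun n => (isPseudoCoherent_iff_of_noetherian n P).2
    ⟨⟨i, fun j hj => ModuleCat.subsingleton_of_isZero (isZero_of_isLE P i j hj)⟩,
      fun j _ => hPfin j⟩)

end pc

section restr

variable {A B : Type u} [CommRing A] [CommRing B] [Algebra A B]

lemma restrictD_map_smul (a : A) {X Y : Dual.D B} (f : X ⟶ Y) :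
    (DRing.restrictD (algebraMap A B)).map ((algebraMap A B a) • f) =
      a • (DRing.restrictD (algebraMap A B)).map f := by
  have h1 : (algebraMap A B a) • f = ((algebraMap A B a) • 𝟙 X) ≫ f := by
    rw [Linear.smul_comp, Category.id_comp]
  rw [h1, Functor.map_comp, restrictD_map_smul_id, Linear.smul_comp, Category.id_comp]

end restr

section main

variable {P A P' A' : Type u} [CommRing P] [CommRing A] [CommRing P'] [CommRing A']
  [Algebra P A] [Algebra P' A'] [Algebra P P'] [Algebra A A'] [Module.Flat P P'] [Module.Flat A A']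
  (hcomm : ∀ p : P, algebraMap P' A' (algebraMap P P' p) = algebraMap A A' (algebraMap P A p))
  (β : extD A A' ⋙ DRing.restrictD (algebraMap P' A') ≅
    DRing.restrictD (algebraMap P A) ⋙ extD P P')
  (Rψ : Dual.D P ⥤ Dual.D A) (adj : DRing.restrictD (algebraMap P A) ⊣ Rψ)
  (Rψ' : Dual.D P' ⥤ Dual.D A') (adj' : DRing.restrictD (algebraMap P' A') ⊣ Rψ')
  (N : Dual.D P)

/-- the base change map `R_ψ(N) ⊗_A A' ⟶ R_ψ'(N ⊗_P P')` -/
noncomputable def bcMap : (extD A A').obj (Rψ.obj N) ⟶ Rψ'.obj ((extD P P').obj N) :=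
  adj'.homEquiv _ _ (β.hom.app (Rψ.obj N) ≫ (extD P P').map (adj.counit.app N))

/-- the comparison on `Hom` groups -/
noncomputable def Φ (V : Dual.D A) :
    ((extD A A').obj V ⟶ (extD A A').obj (Rψ.obj N)) →+
      ((extD P P').obj ((DRing.restrictD (algebraMap P A)).obj V) ⟶ (extD P P').obj N) where
  toFun g := β.inv.app V ≫ (DRing.restrictD (algebraMap P' A')).map g ≫
    β.hom.app (Rψ.obj N) ≫ (extD P P').map (adj.counit.app N)
  map_zero' := by
    rw [Functor.map_zero, zero_comp, comp_zero]
  map_add' g g' := by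
    rw [Functor.map_add, Preadditive.add_comp, Preadditive.comp_add]

lemma Φ_eq (V : Dual.D A) (g : (extD A A').obj V ⟶ (extD A A').obj (Rψ.obj N)) :
    Φ β Rψ adj N V g =
      β.inv.app V ≫ (adj'.homEquiv _ _).symm (g ≫ bcMap β Rψ adj Rψ' adj' N) := by
  rw [Adjunction.homEquiv_naturality_left_symm]
  unfold bcMap
  rw [Equiv.symm_apply_apply]
  rfl

lemma Φ_smul_map (V : Dual.D A) (p' : P') (h : V ⟶ Rψ.obj N) :
    Φ β Rψ adj N V ((algebraMap P' A' p') • (extD A A').map h) =
      p' • (extD P P').map ((adj.homEquiv V N).symm h) := by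
  change β.inv.app V ≫ (DRing.restrictD (algebraMap P' A')).map
    ((algebraMap P' A' p') • (extD A A').map h) ≫
    β.hom.app (Rψ.obj N) ≫ (extD P P').map (adj.counit.app N) = _
  have hnat := β.hom.naturality h
  have hnat' : (DRing.restrictD (algebraMap P' A')).map ((extD A A').map h) ≫
      β.hom.app (Rψ.obj N) =
      β.hom.app V ≫ (extD P P').map ((DRing.restrictD (algebraMap P A)).map h) := hnat
  rw [restrictD_map_smul, Linear.smul_comp, Linear.comp_smul, ← Category.assoc
    ((DRing.restrictD (algebraMap P' A')).map ((extD A A').map h)), hnat', Category.assoc,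
    Iso.inv_hom_id_app_assoc, ← Functor.map_comp, Adjunction.homEquiv_counit]

/-- the comparison of the tensor products -/
noncomputable def τ (V : Dual.D A) :
    P' ⊗[P] ((DRing.restrictD (algebraMap P A)).obj V ⟶ N) →+ A' ⊗[A] (V ⟶ Rψ.obj N) :=
  TensorProduct.liftAddHom
    { toFun := fun p' =>
        { toFun := fun f => (algebraMap P' A' p') ⊗ₜ[A] adj.homEquiv V N f
          map_zero' := by
            rw [Adjunction.homAddEquiv_zero, TensorProduct.tmul_zero]
          map_add' := fun f f' => by
            rw [Adjunction.homAddEquiv_add, TensorProduct.tmul_add] }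
      map_zero' := by
        ext f
        change (algebraMap P' A' 0) ⊗ₜ[A] adj.homEquiv V N f = 0
        rw [map_zero, TensorProduct.zero_tmul]
      map_add' := fun p' q' => by
        ext f
        change (algebraMap P' A' (p' + q')) ⊗ₜ[A] adj.homEquiv V N f =
          (algebraMap P' A' p') ⊗ₜ[A] adj.homEquiv V N f +
            (algebraMap P' A' q') ⊗ₜ[A] adj.homEquiv V N f
        rw [map_add, TensorProduct.add_tmul] }
    (fun p p' f => by
      change (algebraMap P' A' (p • p')) ⊗ₜ[A] adj.homEquiv V N f =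
        (algebraMap P' A' p') ⊗ₜ[A] adj.homEquiv V N (p • f)
      rw [adj_homEquiv_smul, ← TensorProduct.smul_tmul, Algebra.smul_def p p', map_mul, hcomm,
        Algebra.smul_def (algebraMap P A p) (algebraMap P' A' p')])

lemma τ_tmul (V : Dual.D A) (p' : P') (f : (DRing.restrictD (algebraMap P A)).obj V ⟶ N) :
    τ hcomm Rψ adj N V (p' ⊗ₜ[P] f) = (algebraMap P' A' p') ⊗ₜ[A] adj.homEquiv V N f := rfl

lemma Φ_Ψ_τ (V : Dual.D A) (z : P' ⊗[P] ((DRing.restrictD (algebraMap P A)).obj V ⟶ N)) :
    Φ β Rψ adj N V (Ψ (B := A') V (Rψ.obj N) (τ hcomm Rψ adj N V z)) =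
      Ψ (B := P') ((DRing.restrictD (algebraMap P A)).obj V) N z := by
  induction z using TensorProduct.induction_on with
  | zero => simp
  | tmul p' f =>
    rw [τ_tmul, Ψ_tmul, Ψ_tmul, Φ_smul_map, Equiv.symm_apply_apply]
  | add x y hx hy => rw [map_add, map_add, map_add, hx, hy, map_add]

include hcomm in
lemma τ_surjective (hψ' : Function.Surjective (algebraMap P' A')) (V : Dual.D A) :
    Function.Surjective (τ hcomm Rψ adj N V) := by
  intro z
  induction z using TensorProduct.induction_on with
  | zero => exact ⟨0, map_zero _⟩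
  | tmul a' h =>
    obtain ⟨p', rfl⟩ := hψ' a'
    exact ⟨p' ⊗ₜ[P] (adj.homEquiv V N).symm h, by rw [τ_tmul, Equiv.apply_symm_apply]⟩
  | add x y hx hy =>
    obtain ⟨x', rfl⟩ := hx
    obtain ⟨y', rfl⟩ := hy
    exact ⟨x' + y', map_add _ _ _⟩

/-- `A[-i] ⊗_A A' ≅ A'[-i]` -/
noncomputable def extSgIso (i : ℤ) :
    (extD A A').obj (Sg i (ModuleCat.of A A)) ≅ Sg i (ModuleCat.of A' A') :=
  mapDSgIso (extM (A := A) (B := A')) i (ModuleCat.of A A) ≪≫
    (singleFunctor (ModuleCat.{u} A') i).mapIso
      (((extMEquiv (B := A') (ModuleCat.of A A)).trans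
        (TensorProduct.AlgebraTensorModule.rid A A' A')).toModuleIso)

include hcomm in
/-- flat base change for the right adjoint of restriction along a finite map -/
theorem isIso_bcMap [IsNoetherianRing P] [Module.Finite P A]
    (hψ' : Function.Surjective (algebraMap P' A')) (n₀ : ℤ) [N.IsGE n₀] :
    IsIso (bcMap β Rψ adj Rψ' adj' N) := by
  apply isIso_of_bijective_comp_Sg
  intro i
  let V : Dual.D A := Sg i (ModuleCat.of A A)
  let Y : Dual.D A := Rψ.obj N
  have hΨk : Function.Bijective (Ψ (B := A') V Y) := bcProp_Sg (B := A') i (ModuleCat.of A A) Y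
  have hΨj : Function.Bijective (Ψ (B := P') ((DRing.restrictD (algebraMap P A)).obj V) N) :=
    bcProp_of_isPseudoCoherent' (B := P') n₀ _ (isPseudoCoherent'_restrictD_Sg P A i)
  have hτ := τ_surjective hcomm Rψ adj N hψ' V
  have hΦ : Function.Bijective (Φ β Rψ adj N V) := by
    constructor
    · rw [injective_iff_map_eq_zero]
      intro g hg
      obtain ⟨z, rfl⟩ := hΨk.2 g
      obtain ⟨w, rfl⟩ := hτ z
      rw [Φ_Ψ_τ] at hg
      have hw : w = 0 := hΨj.1 (hg.trans (map_zero _).symm)
      rw [hw, map_zero, map_zero]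
    · intro y
      obtain ⟨w, rfl⟩ := hΨj.2 y
      exact ⟨_, Φ_Ψ_τ hcomm β Rψ adj N V w⟩
  have hc : Function.Bijective
      (fun g : (extD A A').obj V ⟶ (extD A A').obj Y => g ≫ bcMap β Rψ adj Rψ' adj' N) := by
    have h1 : (fun g : (extD A A').obj V ⟶ (extD A A').obj Y =>
        g ≫ bcMap β Rψ adj Rψ' adj' N) =
        (adj'.homEquiv _ _) ∘ (fun x => β.hom.app V ≫ x) ∘ (Φ β Rψ adj N V) := by
      funext g
      simp only [Function.comp_apply]
      rw [Φ_eq β Rψ adj Rψ' adj' N V g, Iso.hom_inv_id_app_assoc, Equiv.apply_symm_apply]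
    rw [h1]
    refine (adj'.homEquiv _ _).bijective.comp (Function.Bijective.comp ?_ hΦ)
    constructor
    · intro x x' hxx
      exact (cancel_epi (β.hom.app V)).1 hxx
    · intro y
      exact ⟨β.inv.app V ≫ y, by simp⟩
  let σ := extSgIso (A := A) (A' := A') i
  have h2 : (fun g : Sg i (ModuleCat.of A' A') ⟶ (extD A A').obj Y =>
      g ≫ bcMap β Rψ adj Rψ' adj' N) =
      (fun x => σ.inv ≫ x) ∘
        (fun g : (extD A A').obj V ⟶ (extD A A').obj Y => g ≫ bcMap β Rψ adj Rψ' adj' N) ∘
        (fun g => σ.hom ≫ g) := by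
    funext g
    simp only [Function.comp_apply, Category.assoc, Iso.inv_hom_id_assoc]
  rw [h2]
  refine Function.Bijective.comp ?_ (hc.comp ?_)
  · constructor
    · intro x x' hxx
      exact (cancel_epi σ.inv).1 hxx
    · intro y
      exact ⟨σ.hom ≫ y, by simp⟩
  · constructor
    · intro x x' hxx
      exact (cancel_epi σ.hom).1 hxx
    · intro y
      exact ⟨σ.inv ≫ y, by simp⟩

include hcomm β adj adj' in
/-- flat base change for the right adjoint of restriction along a finite map, as an isomorphism -/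
theorem nonempty_fbc_iso [IsNoetherianRing P] [Module.Finite P A]
    (hψ' : Function.Surjective (algebraMap P' A')) (n₀ : ℤ) [N.IsGE n₀] :
    Nonempty ((extD A A').obj (Rψ.obj N) ≅ Rψ'.obj ((extD P P').obj N)) := by
  haveI := isIso_bcMap hcomm β Rψ adj Rψ' adj' N hψ' n₀
  exact ⟨asIso (bcMap β Rψ adj Rψ' adj' N)⟩

end main

end Fbc

end Groth.Agent.Lib.Helper18.DR
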