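import Mathlib
import Groth.Agent.Lib.Helper18.DRFib2
import Groth.Agent.Lib.Helper18.DRReg3
import Groth.Agent.Lib.Helper18.DRPerf3
import Groth.Agent.Lib.Helper18.DRNoeth
import Groth.Agent.Lib.Helper18.FbcA
import Groth.Agent.Lib.Helper18.DRTorZ2

/-!
# A flat finite type algebra is perfect over a polynomial ring surjecting onto it (helper18)
-/

set_option autoImplicit false
set_option linter.style.haveILetI false
universe u
open CategoryTheory CategoryTheory.Limits CategoryTheory.Pretriangulated DerivedCategory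

attribute [local instance] HasDerivedCategory.standard

namespace Groth.Agent.Lib.Helper18.DR

namespace Om

open scoped TensorProduct

/-- Hilbert's syzygy theorem for the fibres of `R → R[x_1, …, x_n]` -/
theorem hgl_mvPolynomial (R : Type u) [CommRing R] (n : ℕ) (p : PrimeSpectrum R) (M : Type u)
    [AddCommGroup M]
    [Module (TensorProduct R p.asIdeal.ResidueField (MvPolynomial (Fin n) R)) M] :
    HasProjectiveDimensionLT
      (ModuleCat.of (TensorProduct R p.asIdeal.ResidueField (MvPolynomial (Fin n) R)) M)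
      (n + 1) := by
  let κ := p.asIdeal.ResidueField
  let e : κ ⊗[R] MvPolynomial (Fin n) R ≃ₐ[κ] MvPolynomial (Fin n) κ :=
    MvPolynomial.algebraTensorAlgEquiv R κ
  haveI : IsRegularRing (MvPolynomial (Fin n) κ) := inferInstance
  haveI : IsRegularRing (κ ⊗[R] MvPolynomial (Fin n) R) :=
    IsRegularRing.of_ringEquiv e.symm.toRingEquiv
  have hd : ringKrullDim (κ ⊗[R] MvPolynomial (Fin n) R) = (n : WithBot ℕ∞) := by
    rw [ringKrullDim_eq_of_ringEquiv e.toRingEquiv, MvPolynomial.ringKrullDim_of_isNoetherianRing,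
      ringKrullDim_eq_zero_of_field, zero_add, Nat.card_eq_fintype_card, Fintype.card_fin]
  exact globalDim_le_of_regular
    (fun q => IsRegularRing.isRegularLocalRing_localization q.asIdeal) n hd M

/-- a flat module placed in degree zero has tor amplitude in `[0, 0]` -/
lemma hasTorAmplitudeIn_Sg_of_flat {R : Type u} [CommRing R] (M : ModuleCat.{u} R)
    [Module.Flat R M] : DRing.HasTorAmplitudeIn R 0 0 (Sg 0 M) := by
  have h := (hasTorDimLE_iff_hasTorAmplitudeIn_single R M 0).1.1
    ((hasTorDimLE_iff_hasTorAmplitudeIn_single R M 0).2.2 inferInstance)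
  simpa using h

/-- **a flat algebra is perfect over a polynomial ring surjecting onto it** -/
theorem isPerfect_of_flat (R A : Type u) [CommRing R] [CommRing A] [IsNoetherianRing R]
    [Algebra R A] [Module.Flat R A] (n : ℕ) (ψ : MvPolynomial (Fin n) R →ₐ[R] A)
    (hψ : Function.Surjective ψ) :
    DRing.IsPerfect (MvPolynomial (Fin n) R)
        ((DRing.restrictD ψ.toRingHom).obj (Sg 0 (ModuleCat.of A A))) ∧
      DRing.HasTorAmplitudeIn (MvPolynomial (Fin n) R) (-(n : ℤ)) 0
        ((DRing.restrictD ψ.toRingHom).obj (Sg 0 (ModuleCat.of A A))) := by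
  letI algPA : Algebra (MvPolynomial (Fin n) R) A := ψ.toRingHom.toAlgebra
  haveI : Module.Finite (MvPolynomial (Fin n) R) A :=
    Module.Finite.of_surjective (Algebra.linearMap (MvPolynomial (Fin n) R) A) hψ
  have hK : DRing.IsPseudoCoherent' (MvPolynomial (Fin n) R)
      ((DRing.restrictD ψ.toRingHom).obj (Sg 0 (ModuleCat.of A A))) :=
    Fbc.isPseudoCoherent'_restrictD_Sg (MvPolynomial (Fin n) R) A 0
  have hcomp : algebraMap R A = ψ.toRingHom.comp (algebraMap R (MvPolynomial (Fin n) R)) :=
    RingHom.ext fun r => (ψ.commutes r).symm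
  have e1 : (DRing.restrictD (algebraMap R (MvPolynomial (Fin n) R))).obj
      ((DRing.restrictD ψ.toRingHom).obj (Sg 0 (ModuleCat.of A A))) ≅
      Sg 0 (resM (algebraMap R A) (ModuleCat.of A A)) :=
    ((Shr.resCompIso _ _ _ hcomp).app _).symm ≪≫ restrictDSgIso (algebraMap R A) 0 _
  haveI : Module.Flat R (resM (algebraMap R A) (ModuleCat.of A A)) := by
    let e : A ≃ₗ[R] resM (algebraMap R A) (ModuleCat.of A A) :=
      { toFun := fun b => b
        invFun := fun b => b
        map_add' := fun _ _ => rfl
        map_smul' := fun a b => (Algebra.smul_def a b).trans rfl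
        left_inv := fun _ => rfl
        right_inv := fun _ => rfl }
    exact Module.Flat.of_linearEquiv e.symm
  have hKa : DRing.HasTorAmplitudeIn R 0 0
      ((DRing.restrictD (algebraMap R (MvPolynomial (Fin n) R))).obj
        ((DRing.restrictD ψ.toRingHom).obj (Sg 0 (ModuleCat.of A A)))) :=
    hasTorAmplitudeIn_of_iso e1.symm (hasTorAmplitudeIn_Sg_of_flat _)
  have h := isPerfect_of_flat_fibres_finite_globalDimension (A := R)
    (B := MvPolynomial (Fin n) R) n (fun p M _ _ => hgl_mvPolynomial R n p M) 0 0 _ hK hKa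
  refine ⟨h.1, ?_⟩
  have h2 := h.2
  rwa [zero_sub] at h2

end Om

end Groth.Agent.Lib.Helper18.DR
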