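import Mathlib
import Groth.Agent.Lib.Helper18.RelInvB

/-!
# `res RHom_R(A, R) ≅ Hom_R(I, A)[-1]` for `R → A` surjective with invertible kernel `I` (helper18)
-/

set_option autoImplicit false
set_option linter.style.haveILetI false
universe u
open CategoryTheory CategoryTheory.Limits CategoryTheory.Pretriangulated MonoidalCategory

attribute [local instance] HasDerivedCategory.standard

namespace Groth.Agent.Lib.Helper18.DR

namespace RelInv

open Coext CoextHom DTen

variable {R A : Type u} [CommRing R] [CommRing A] (φ : R →+* A)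

/-- the ideal `ker φ` as a module -/
noncomputable abbrev IM : ModuleCat.{u} R := ModuleCat.of R (RingHom.ker φ)

/-- `Hom_R(I, -)` on complexes -/
noncomputable abbrev HI : DRing.Cx R ⥤ DRing.Cx R :=
  (homM (IM φ)).mapHomologicalComplex (ComplexShape.up ℤ)

/-- `γ` on complexes -/
noncomputable abbrev γCx : 𝟭 (DRing.Cx R) ⟶ HI φ :=
  (Functor.mapHomologicalComplexIdIso (ModuleCat.{u} R) (ComplexShape.up ℤ)).inv ≫
    NatTrans.mapHomologicalComplex (γ (RingHom.ker φ)) (ComplexShape.up ℤ)

/-- the short complex of modules `R → Hom_R(I, R) → Hom_R(I, A)` -/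
noncomputable def modSC : ShortComplex (ModuleCat.{u} R) where
  X₁ := 𝟙_ (ModuleCat.{u} R)
  X₂ := (homM (IM φ)).obj (𝟙_ (ModuleCat.{u} R))
  X₃ := (homM (IM φ)).obj (AR φ)
  f := (γ (RingHom.ker φ)).app (𝟙_ (ModuleCat.{u} R))
  g := (homM (IM φ)).map (pt₀ φ 1)
  zero := by
    refine ModuleCat.hom_ext (LinearMap.ext fun (r : R) => ?_)
    refine LinearMap.ext fun (x : RingHom.ker φ) => ?_
    change ((x : R) • r) • toAR φ (1 : A) = 0
    change φ ((x : R) * r) * 1 = 0
    rw [map_mul, (RingHom.mem_ker).1 x.2, zero_mul, zero_mul]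

lemma pt₀_one_apply (r : R) : (pt₀ φ 1).hom r = toAR φ (φ r) := by
  change r • toAR φ (1 : A) = _
  change toAR φ (φ r * 1) = _
  rw [mul_one]

variable (hφ : Function.Surjective φ) [Module.Invertible R (RingHom.ker φ)]

include hφ in
lemma modSC_shortExact : (modSC φ).ShortExact := by
  apply ModuleCat.shortComplex_shortExact
  · intro (h : RingHom.ker φ →ₗ[R] R)
    constructor
    · intro hh
      have hh' : ∀ x : RingHom.ker φ, h x ∈ RingHom.ker φ := fun x => by
        have h1 : (pt₀ φ 1).hom (h x) = 0 :=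
          LinearMap.congr_fun (show (pt₀ φ 1).hom.comp h = 0 from hh) x
        rw [pt₀_one_apply] at h1
        exact (RingHom.mem_ker).2 h1
      obtain ⟨r, hr⟩ := (Module.Invertible.toModuleEnd_bijective R (RingHom.ker φ)).surjective
        (h.codRestrict (RingHom.ker φ) hh')
      refine ⟨r, ?_⟩
      refine LinearMap.ext fun (x : RingHom.ker φ) => ?_
      have h2 := congrArg (fun (t : Module.End R (RingHom.ker φ)) => ((t x : RingHom.ker φ) : R)) hr
      change (x : R) • r = h x
      rw [smul_eq_mul, mul_comm]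
      exact h2
    · rintro ⟨r, rfl⟩
      exact congrArg (fun t => t.hom r) (modSC φ).zero
  · intro (r : R) (r' : R) hrr
    have h1 : ∀ x : RingHom.ker φ, r • x = r' • x := fun x => by
      apply Subtype.ext
      have := LinearMap.congr_fun (show (show RingHom.ker φ →ₗ[R] R from
        ((γ (RingHom.ker φ)).app (𝟙_ (ModuleCat.{u} R))).hom r) = (show RingHom.ker φ →ₗ[R] R from
        ((γ (RingHom.ker φ)).app (𝟙_ (ModuleCat.{u} R))).hom r') from hrr) x
      change (x : R) • r = (x : R) • r' at this
      change r * (x : R) = r' * (x : R)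
      rw [mul_comm r, mul_comm r']
      exact this
    exact FaithfulSMul.eq_of_smul_eq_smul (M := R) (α := RingHom.ker φ) h1
  · intro (h : RingHom.ker φ →ₗ[R] (AR φ : Type u))
    have hs : Function.Surjective (pt₀ φ 1).hom := fun a => by
      obtain ⟨r, hr⟩ := hφ (ofAR φ a)
      exact ⟨r, by rw [pt₀_one_apply, hr]; rfl⟩
    obtain ⟨l, hl⟩ := Module.projective_lifting_property (pt₀ φ 1).hom h hs
    exact ⟨l, hl⟩

end RelInv

end Groth.Agent.Lib.Helper18.DR
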