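import Mathlib
import Groth.Agent.Lib.Helper18.RelInvC
import Groth.Agent.Lib.Helper18.DRPerf

/-!
# `res RHom_R(A, R) ≅ Hom_R(I, A)[-1]`: the derived category argument (helper18)
-/

set_option autoImplicit false
set_option linter.style.haveILetI false
universe u
open CategoryTheory CategoryTheory.Limits CategoryTheory.Pretriangulated MonoidalCategory

attribute [local instance] HasDerivedCategory.standard

namespace Groth.Agent.Lib.Helper18.DR

namespace RelInv

open Coext CoextHom DTen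

variable {R A : Type u} [CommRing R] [CommRing A] (φ : R →+* A)

/-- `γ` on complexes, with explicit components -/
noncomputable def γC : 𝟭 (DRing.Cx R) ⟶ HI φ where
  app K :=
    { f := fun n => (γ (RingHom.ker φ)).app (K.X n)
      comm' := fun i j _ => ((γ (RingHom.ker φ)).naturality (K.d i j)).symm }
  naturality K K' f := by
    ext n : 1
    exact (γ (RingHom.ker φ)).naturality (f.f n)

lemma kerSC_g (J : DRing.Cx R) : (kerSC φ J).g = (γC φ).app J := rfl

/-- `Hom_R(I, R[0]) ≅ Hom_R(I, R)[0]` -/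
noncomputable def HIUnitIso :
    (HI φ).obj (𝟙_ (DRing.Cx R)) ≅
      (HomologicalComplex.single (ModuleCat.{u} R) (ComplexShape.up ℤ) 0).obj
        ((homM (IM φ)).obj (𝟙_ (ModuleCat.{u} R))) :=
  (HomologicalComplex.singleMapHomologicalComplex (homM (IM φ)) (ComplexShape.up ℤ) 0).app
    (𝟙_ (ModuleCat.{u} R))

lemma γC_unit :
    (γC φ).app (𝟙_ (DRing.Cx R)) ≫ (HIUnitIso φ).hom =
      (HomologicalComplex.single (ModuleCat.{u} R) (ComplexShape.up ℤ) 0).map
        ((γ (RingHom.ker φ)).app (𝟙_ (ModuleCat.{u} R))) := by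
  apply HomologicalComplex.from_single_hom_ext
  rw [HomologicalComplex.comp_f]
  dsimp only [HIUnitIso, Iso.app_hom]
  rw [HomologicalComplex.singleMapHomologicalComplex_hom_app_self,
    HomologicalComplex.single_map_f_self]
  have h := (γ (RingHom.ker φ)).naturality
    (HomologicalComplex.singleObjXSelf (ComplexShape.up ℤ) 0 (𝟙_ (ModuleCat.{u} R))).hom
  change (γ (RingHom.ker φ)).app _ ≫ _ = _
  rw [← Category.assoc]
  erw [← h]

variable (hφ : Function.Surjective φ) [Module.Invertible R (RingHom.ker φ)]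

instance : Module.Projective R ((IM φ : ModuleCat.{u} R) : Type u) :=
  (inferInstance : Module.Projective R (RingHom.ker φ))

include hφ in
/-- `Q(res Hom_R(A, J)) ≅ Hom_R(I, A)[-1]` for an injective resolution `J` of `R` -/
theorem nonempty_res_coext_iso (J : DRing.Cx R) (hJ : DRing.TermwiseInjective J)
    (ι : 𝟙_ (DRing.Cx R) ⟶ J) [QuasiIso ι] :
    Nonempty (DerivedCategory.Q.obj ((resCx φ).obj ((coextCx φ).obj J)) ≅
      Sg 1 ((homM (IM φ)).obj (AR φ))) := by
  have hS := kerSC_shortExact φ hφ J hJ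
  have hT1 := rot_of_distTriang _ (DerivedCategory.triangleOfSES_distinguished hS)
  have hT2 := (modSC_shortExact φ hφ).singleTriangle_distinguished
  haveI : QuasiIso ((HI φ).map ι) := inferInstance
  let e₀ : DerivedCategory.Q.obj (𝟙_ (DRing.Cx R)) ≅ DerivedCategory.Q.obj J :=
    asIso (DerivedCategory.Q.map ι)
  let e₁ : (DerivedCategory.singleFunctor (ModuleCat.{u} R) 0).obj (𝟙_ (ModuleCat.{u} R)) ≅
      DerivedCategory.Q.obj J :=
    (DerivedCategory.singleFunctorIsoCompQ (ModuleCat.{u} R) 0).app (𝟙_ (ModuleCat.{u} R)) ≪≫ e₀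
  let e₂ : (DerivedCategory.singleFunctor (ModuleCat.{u} R) 0).obj
      ((homM (IM φ)).obj (𝟙_ (ModuleCat.{u} R))) ≅ DerivedCategory.Q.obj ((HI φ).obj J) :=
    (DerivedCategory.singleFunctorIsoCompQ (ModuleCat.{u} R) 0).app _ ≪≫
      DerivedCategory.Q.mapIso (HIUnitIso φ).symm ≪≫
      asIso (DerivedCategory.Q.map ((HI φ).map ι))
  have h1 : (HomologicalComplex.single (ModuleCat.{u} R) (ComplexShape.up ℤ) 0).map
      ((γ (RingHom.ker φ)).app (𝟙_ (ModuleCat.{u} R))) ≫ (HIUnitIso φ).inv ≫ (HI φ).map ι =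
      ι ≫ (γC φ).app J := by
    rw [← γC_unit, Category.assoc, Iso.hom_inv_id_assoc]
    exact ((γC φ).naturality ι).symm
  have comm : (DerivedCategory.singleFunctor (ModuleCat.{u} R) 0).map
      ((γ (RingHom.ker φ)).app (𝟙_ (ModuleCat.{u} R))) ≫ e₂.hom =
      e₁.hom ≫ DerivedCategory.Q.map (kerSC φ J).g := by
    have h2 := (DerivedCategory.singleFunctorIsoCompQ (ModuleCat.{u} R) 0).hom.naturality
      ((γ (RingHom.ker φ)).app (𝟙_ (ModuleCat.{u} R)))
    dsimp only [e₁, e₂, e₀, Iso.trans_hom, Iso.app_hom, asIso_hom, Functor.mapIso_hom, Iso.symm_hom]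
    rw [← Category.assoc, h2, Category.assoc, Category.assoc, kerSC_g]
    congr 1
    dsimp only [Functor.comp_map]
    have h3 : DerivedCategory.Q.map ι ≫ DerivedCategory.Q.map ((γC φ).app J) =
        DerivedCategory.Q.map (ι ≫ (γC φ).app J) := (Functor.map_comp _ _ _).symm
    rw [← Functor.map_comp, ← Functor.map_comp]
    exact (congrArg _ h1).trans h3.symm
  have e := isoTriangleOfIso₁₂ _ _ hT2 hT1 e₁ e₂ comm
  have e₃ : Sg 0 ((homM (IM φ)).obj (AR φ)) ≅
      (DerivedCategory.Q.obj ((resCx φ).obj ((coextCx φ).obj J)))⟦(1 : ℤ)⟧ :=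
    Triangle.π₃.mapIso e
  have e₄ : (Sg 1 ((homM (IM φ)).obj (AR φ)))⟦(1 : ℤ)⟧ ≅
      (DerivedCategory.Q.obj ((resCx φ).obj ((coextCx φ).obj J)))⟦(1 : ℤ)⟧ :=
    SgShiftIso 1 0 1 (by omega) _ ≪≫ e₃
  exact ⟨((shiftFunctor (Dual.D R) (1 : ℤ)).preimageIso e₄).symm⟩

end RelInv

end Groth.Agent.Lib.Helper18.DR
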