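import Mathlib
import Groth.Agent.Lib.Helper18.RelInvD
import Groth.Agent.Lib.Helper18.DRTri
import Groth.Agent.Lib.Helper18.DRRestr

/-!
# `RHom(A, -) ≅ - ⊗^L_R N[-1]` for `R → A` surjective with invertible kernel (helper18)
-/

set_option autoImplicit false
set_option linter.style.haveILetI false
universe u
open CategoryTheory CategoryTheory.Limits CategoryTheory.Pretriangulated MonoidalCategory

attribute [local instance] HasDerivedCategory.standard

namespace Groth.Agent.Lib.Helper18.DR

namespace RelInv

open Coext CoextHom DTen RelDual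

variable {R A : Type u} [CommRing R] [CommRing A] (φ : R →+* A)

/-- a finite projective module in degree `0` is perfect -/
lemma isPerfect_Sg_zero_of_finite_projective (P : ModuleCat.{u} R) [Module.Finite R P]
    [Module.Projective R P] : DRing.IsPerfect R (Sg 0 P) := by
  refine ⟨(HomologicalComplex.single (ModuleCat.{u} R) (ComplexShape.up ℤ) 0).obj P, 0, 0,
    fun i hi => ?_, fun i => ?_,
    ⟨((DerivedCategory.singleFunctorIsoCompQ (ModuleCat.{u} R) 0).app P).symm⟩⟩
  · exact HomologicalComplex.isZero_single_obj_X _ _ _ _ (by omega)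
  · by_cases hi : i = 0
    · subst hi
      let e : ((HomologicalComplex.single (ModuleCat.{u} R) (ComplexShape.up ℤ) 0).obj P).X 0 ≃ₗ[R]
          P := (HomologicalComplex.singleObjXSelf (ComplexShape.up ℤ) 0 P).toLinearEquiv
      exact ⟨Module.Finite.equiv e.symm, Module.Projective.of_equiv e.symm⟩
    · haveI : Subsingleton
          (((HomologicalComplex.single (ModuleCat.{u} R) (ComplexShape.up ℤ) 0).obj P).X i) :=
        ModuleCat.subsingleton_of_isZero (HomologicalComplex.isZero_single_obj_X _ _ _ _ hi)
      exact ⟨inferInstance, inferInstance⟩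

/-- the short complex `I → R → A` -/
noncomputable def ringSC : ShortComplex (ModuleCat.{u} R) where
  X₁ := IM φ
  X₂ := 𝟙_ (ModuleCat.{u} R)
  X₃ := AR φ
  f := ModuleCat.ofHom (X := RingHom.ker φ) (Y := R) (RingHom.ker φ).subtype
  g := pt₀ φ 1
  zero := by
    refine ModuleCat.hom_ext (LinearMap.ext fun (x : RingHom.ker φ) => ?_)
    change (pt₀ φ 1).hom (x : R) = 0
    rw [pt₀_one_apply, (RingHom.mem_ker).1 x.2]
    rfl

variable (hφ : Function.Surjective φ)

include hφ in
lemma ringSC_shortExact : (ringSC φ).ShortExact := by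
  apply ModuleCat.shortComplex_shortExact
  · intro (r : R)
    constructor
    · intro hr
      have hr' : (pt₀ φ 1).hom r = 0 := hr
      rw [pt₀_one_apply] at hr'
      exact ⟨⟨r, (RingHom.mem_ker).2 hr'⟩, rfl⟩
    · rintro ⟨x, rfl⟩
      exact congrArg (fun t => t.hom x) (ringSC φ).zero
  · exact Submodule.subtype_injective _
  · intro a
    obtain ⟨r, hr⟩ := hφ (ofAR φ a)
    exact ⟨r, by change (pt₀ φ 1).hom r = a; rw [pt₀_one_apply, hr]; rfl⟩

variable [Module.Invertible R (RingHom.ker φ)]

include hφ in
lemma isPerfect_Sg_AR : DRing.IsPerfect R (Sg 0 (AR φ)) := by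
  have hT := (ringSC_shortExact φ hφ).singleTriangle_distinguished
  haveI : Module.Finite R ((IM φ : ModuleCat.{u} R) : Type u) :=
    (inferInstance : Module.Finite R (RingHom.ker φ))
  haveI : Module.Finite R ((𝟙_ (ModuleCat.{u} R) : ModuleCat.{u} R) : Type u) :=
    (inferInstance : Module.Finite R R)
  haveI : Module.Projective R ((𝟙_ (ModuleCat.{u} R) : ModuleCat.{u} R) : Type u) :=
    (inferInstance : Module.Projective R R)
  exact (isPerfect_two_of_three _ hT).1 (isPerfect_Sg_zero_of_finite_projective (IM φ))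
    (isPerfect_Sg_zero_of_finite_projective (𝟙_ (ModuleCat.{u} R)))

lemma exists_quasiIso_of_isPerfect_Sg (hA : DRing.IsPerfect R (Sg 0 (AR φ))) :
    ∃ (E : DRing.Cx R) (a b : ℤ), DRing.VanishesOutside E a b ∧
      DRing.TermwiseFiniteProjective E ∧ ∃ e : E ⟶ V φ, QuasiIso e := by
  obtain ⟨E, a, b, hE, hp, ⟨i⟩⟩ := hA
  haveI : E.IsKProjective :=
    isKProjective_of_vanishesAbove E b (VanishesOutside.above hE) (fun i => (hp i).2)
  let e₀ : DRing.toD E ≅ DRing.toD (V φ) :=
    i ≪≫ (DerivedCategory.singleFunctorIsoCompQ (ModuleCat.{u} R) 0).app (AR φ)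
  obtain ⟨e, he⟩ := exists_map_eq E (V φ) e₀.hom
  haveI : IsIso (DerivedCategory.Q.map e) := by rw [he]; infer_instance
  exact ⟨E, a, b, hE, hp, e, (DerivedCategory.isIso_Q_map_iff_quasiIso _ e).1 inferInstance⟩

lemma isZero_of_isZero_res (X : ModuleCat.{u} A) (h : IsZero ((DTen.resM φ).obj X)) : IsZero X := by
  haveI : Subsingleton X :=
    (ModuleCat.subsingleton_of_isZero h : Subsingleton ((DTen.resM φ).obj X))
  exact ModuleCat.isZero_of_subsingleton X

include hφ in
/-- for `φ` surjective, an `R`-linear isomorphism of `A`-modules is `A`-linear -/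
noncomputable def isoOfResIso {X X' : ModuleCat.{u} A} (e : (DTen.resM φ).obj X ≅ (DTen.resM φ).obj X') :
    X ≅ X' :=
  LinearEquiv.toModuleIso
    { toFun := fun x => e.hom.hom x
      map_add' := fun x y => e.hom.hom.map_add x y
      map_smul' := fun a x => by
        obtain ⟨r, rfl⟩ := hφ a
        exact e.hom.hom.map_smul r x
      invFun := fun y => e.inv.hom y
      left_inv := fun x => by
        have := congrArg (fun t => t.hom x) e.hom_inv_id
        exact this
      right_inv := fun y => by
        have := congrArg (fun t => t.hom y) e.inv_hom_id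
        exact this }

end RelInv

end Groth.Agent.Lib.Helper18.DR
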