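import Mathlib
import Groth.Agent.Lib.Helper18.OmA
import Groth.Agent.Lib.Helper18.RelDualC
import Groth.Agent.Lib.Helper18.SPInd
import Groth.Agent.Lib.Helper18.HomCxK
import Groth.Agent.Lib.Helper18.PrecompQis
import Groth.Agent.Lib.Helper18.RelInvE

/-!
# The dual of a strictly perfect complex is perfect; `RHom_R(A, R)` restricted to `R` (helper18)
-/

set_option autoImplicit false
set_option linter.style.haveILetI false
universe u
open CategoryTheory CategoryTheory.Limits CategoryTheory.Pretriangulated DerivedCategory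
  MonoidalCategory HomologicalComplex CochainComplex.HomComplex

attribute [local instance] HasDerivedCategory.standard

namespace Groth.Agent.Lib.Helper18.DR

namespace Om

open HomCx Psi Coext CoextHom MixRes MixAct DTen

section retract

variable {R : Type u} [CommRing R]

/-- direct summands (retracts) of perfect objects are perfect -/
theorem isPerfect_of_retract' {K L : Dual.D R} (i : K ⟶ L) (r : L ⟶ K) (hir : i ≫ r = 𝟙 K)
    (hL : DRing.IsPerfect R L) : DRing.IsPerfect R K := by
  obtain ⟨C, g, δ, hT⟩ := distinguished_cocone_triangle i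
  have hδ : δ = 0 := by
    have h1 : δ ≫ i⟦(1 : ℤ)⟧' = 0 := comp_distTriang_mor_zero₃₁ _ hT
    have h2 : δ = δ ≫ i⟦(1 : ℤ)⟧' ≫ r⟦(1 : ℤ)⟧' := by
      rw [← Functor.map_comp, hir, CategoryTheory.Functor.map_id, Category.comp_id]
    rw [h2, ← Category.assoc, h1, zero_comp]
  obtain ⟨e, -, -⟩ := exists_iso_binaryBiproduct_of_distTriang _ hT hδ
  exact (isPerfect_of_biprod K C (isPerfect_of_iso e hL)).1

/-- **the dual of a strictly perfect complex is perfect** -/
theorem isPerfect_dual (E : DRing.Cx R) (a b : ℤ) (hE : DRing.VanishesOutside E a b)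
    (hp : DRing.TermwiseFiniteProjective E) :
    DRing.IsPerfect R (DRing.toD (DRing.homCx E (𝟙_ (DRing.Cx R)))) := by
  refine SPInd.strictlyPerfect_induction
    (fun E' => DRing.IsPerfect R (DRing.toD (DRing.homCx E' (𝟙_ (DRing.Cx R)))))
    ?_ ?_ ?_ ?_ ?_ E a b hE hp
  · intro X Y e h
    exact isPerfect_of_iso (DerivedCategory.Q.mapIso (precompIso e.symm _)) h
  · refine isPerfect_of_iso (DerivedCategory.Q.mapIso (homCxUnitIso _).symm) ?_
    haveI : Module.Finite R (ModuleCat.of R R) := inferInstanceAs (Module.Finite R R)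
    haveI : Module.Projective R (ModuleCat.of R R) := inferInstanceAs (Module.Projective R R)
    exact isPerfect_of_iso ((DerivedCategory.singleFunctorIsoCompQ (ModuleCat.{u} R) 0).app
      (ModuleCat.of R R)) (RelInv.isPerfect_Sg_zero_of_finite_projective (ModuleCat.of R R))
  · intro X n h
    exact isPerfect_of_iso
      (((DerivedCategory.Q.commShiftIso (-n)).app _).symm ≪≫
        DerivedCategory.Q.mapIso (homCxShiftIso X _ n)) (isPerfect_shift h (-n))
  · intro S hS hp' h1 h3
    have σ : ∀ p, (S.map (HomologicalComplex.eval _ _ p)).Splitting := fun p =>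
      (SPInd.nonempty_degreewise_splitting S hS hp' p).some
    have hSE := homCxSC_shortExact S σ (𝟙_ (DRing.Cx R))
    exact (isPerfect_two_of_three _ (DerivedCategory.triangleOfSES_distinguished hSE)).2.1 h3 h1
  · intro X Y h
    refine isPerfect_of_retract'
      (DerivedCategory.Q.map (precomp (biprod.fst : X ⊞ Y ⟶ X) (𝟙_ (DRing.Cx R))))
      (DerivedCategory.Q.map (precomp (biprod.inl : X ⟶ X ⊞ Y) (𝟙_ (DRing.Cx R)))) ?_ h
    rw [← Functor.map_comp, ← precomp_comp, biprod.inl_fst, precomp_id,
      CategoryTheory.Functor.map_id]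

end retract

section beta

variable {R A : Type u} [CommRing R] [CommRing A] (φ : R →+* A)
  (F : Dual.D R ⥤ Dual.D A) (adj : DRing.restrictD φ ⊣ F)

include adj in
/-- `RHom_R(A, R)`, restricted to `R`, is the dual of a K-projective resolution of `A` -/
theorem nonempty_restrict_rightAdj_unit_iso (E : DRing.Cx R) [E.IsKProjective] (e : E ⟶ V φ)
    [QuasiIso e] :
    Nonempty ((DRing.restrictD φ).obj (F.obj (DTen.unit R)) ≅
      DRing.toD (DRing.homCx E (𝟙_ (DRing.Cx R)))) := by
  obtain ⟨I, ι, hI, hι, -, -⟩ :=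
    Groth.Agent.Lib.Helper2.KInj.exists_kInjective_resolution (𝟙_ (DRing.Cx R))
  haveI := hI
  haveI := hι
  haveI : QuasiIso (precomp e I) := quasiIso_precomp I e
  haveI : QuasiIso (DRing.homCxMap E ι) := quasiIso_homCxMap E ι
  let i1 : F.obj (DTen.unit R) ≅ DerivedCategory.Q.obj ((coextCx φ).obj I) :=
    F.mapIso (asIso (DerivedCategory.Q.map ι)) ≪≫ (rightAdjointIso φ F adj I).symm
  exact ⟨(DRing.restrictD φ).mapIso i1 ≪≫ (resFactors φ).app ((coextCx φ).obj I) ≪≫
    DerivedCategory.Q.mapIso (κ φ I) ≪≫ asIso (DerivedCategory.Q.map (precomp e I)) ≪≫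
    (asIso (DerivedCategory.Q.map (DRing.homCxMap E ι))).symm⟩

include adj in
/-- if `A` is perfect over `R` then `RHom_R(A, R)`, restricted to `R`, is perfect -/
theorem isPerfect_restrict_rightAdj_unit
    (hA : DRing.IsPerfect R ((DRing.restrictD φ).obj (DTen.unit A))) :
    DRing.IsPerfect R ((DRing.restrictD φ).obj (F.obj (DTen.unit R))) := by
  obtain ⟨E, a, b, hE, hp, e, he⟩ := RelDual.exists_quasiIso_of_isPerfect φ hA
  haveI := he
  haveI : E.IsKProjective :=
    isKProjective_of_vanishesAbove E b (VanishesOutside.above hE) (fun i => (hp i).2)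
  obtain ⟨i⟩ := nonempty_restrict_rightAdj_unit_iso φ F adj E e
  exact isPerfect_of_iso i.symm (isPerfect_dual E a b hE hp)

end beta

end Om

end Groth.Agent.Lib.Helper18.DR
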