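import Mathlib
import Groth.Agent.Lib.Helper18.OmB
import Groth.Agent.Lib.Helper18.DuE
import Groth.Agent.Lib.Helper18.DRProj

/-!
# `RHom_R(A, R)` restricted to `R` is the dual of a resolution, compatibly with evaluation (helper18)
-/

set_option autoImplicit false
set_option linter.style.haveILetI false
universe u
open CategoryTheory CategoryTheory.Limits MonoidalCategory HomologicalComplex
  CochainComplex.HomComplex

attribute [local instance] HasDerivedCategory.standard

namespace Groth.Agent.Lib.Helper18.DR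

namespace Du

open HomCx Psi Coext CoextHom DTen

variable {R A : Type u} [CommRing R] [CommRing A] (φ : R →+* A)
  (F : Dual.D R ⥤ Dual.D A) (adj : DRing.restrictD φ ⊣ F)

include adj in
/-- `RHom_R(A, R)`, restricted to `R`, is the dual of a K-projective resolution `E` of `A`, and the
counit of the adjunction corresponds to evaluation at a lift of `1 ∈ A` -/
theorem exists_restrict_rightAdj_unit_iso (E : DRing.Cx R) [E.IsKProjective] (e : E ⟶ V φ)
    [QuasiIso e] (z : 𝟙_ (DRing.Cx R) ⟶ E) (hz : z ≫ e = pt φ 1) :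
    ∃ ζ : (DRing.restrictD φ).obj (F.obj (DTen.unit R)) ≅
        DRing.toD (DRing.homCx E (𝟙_ (DRing.Cx R))),
      ζ.hom ≫ DerivedCategory.Q.map (evAt z (𝟙_ (DRing.Cx R))) = adj.counit.app (DTen.unit R) := by
  obtain ⟨I, ι, hI, hι, -, -⟩ :=
    Groth.Agent.Lib.Helper2.KInj.exists_kInjective_resolution (𝟙_ (DRing.Cx R))
  haveI := hI
  haveI := hι
  haveI : QuasiIso (precomp e I) := quasiIso_precomp I e
  haveI : QuasiIso (DRing.homCxMap E ι) := HomCx.quasiIso_homCxMap E ι
  let rAI := rightAdjointIso φ F adj I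
  let i1 : F.obj (DTen.unit R) ≅ DerivedCategory.Q.obj ((coextCx φ).obj I) :=
    F.mapIso (asIso (DerivedCategory.Q.map ι)) ≪≫ rAI.symm
  refine ⟨(DRing.restrictD φ).mapIso i1 ≪≫ (resFactors φ).app ((coextCx φ).obj I) ≪≫
    DerivedCategory.Q.mapIso (κ φ I) ≪≫ asIso (DerivedCategory.Q.map (precomp e I)) ≪≫
    (asIso (DerivedCategory.Q.map (DRing.homCxMap E ι))).symm, ?_⟩
  -- step 1
  have s1 : inv (DerivedCategory.Q.map (DRing.homCxMap E ι)) ≫
      DerivedCategory.Q.map (evAt z (𝟙_ (DRing.Cx R))) =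
      DerivedCategory.Q.map (evAt z I) ≫ inv (DerivedCategory.Q.map ι) := by
    rw [IsIso.inv_comp_eq, ← Category.assoc, IsIso.eq_comp_inv, ← Functor.map_comp,
      ← Functor.map_comp, evAt_natural]
  have s2 : DerivedCategory.Q.map (precomp e I) ≫ DerivedCategory.Q.map (evAt z I) =
      DerivedCategory.Q.map (evAt (pt φ 1) I) := by
    rw [← Functor.map_comp, evAt_precomp, hz]
  have s3 : DerivedCategory.Q.map (κ φ I).hom ≫ DerivedCategory.Q.map (evAt (pt φ 1) I) =
      DerivedCategory.Q.map (counitCx φ I) := by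
    rw [← Functor.map_comp, κ_hom_evAt, one_smul, CategoryTheory.Functor.map_id,
      Category.id_comp]
  have s4 : (DRing.restrictD φ).map rAI.inv ≫ counitD φ I =
      adj.counit.app (DerivedCategory.Q.obj I) := by
    have h : counitD φ I = (DRing.restrictD φ).map rAI.hom ≫
        adj.counit.app (DerivedCategory.Q.obj I) := by
      have := (adj.homEquiv _ _).symm_apply_apply (counitD φ I)
      rw [Adjunction.homEquiv_counit] at this
      exact this.symm
    rw [h, ← Functor.map_comp_assoc, Iso.inv_hom_id, CategoryTheory.Functor.map_id,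
      Category.id_comp]
  have s5 : (DRing.restrictD φ).map (F.map (DerivedCategory.Q.map ι)) ≫
      adj.counit.app (DerivedCategory.Q.obj I) =
      adj.counit.app (DTen.unit R) ≫ DerivedCategory.Q.map ι :=
    adj.counit.naturality (DerivedCategory.Q.map ι)
  change ((DRing.restrictD φ).map (F.map (DerivedCategory.Q.map ι) ≫ rAI.inv) ≫
    (resFactors φ).hom.app ((coextCx φ).obj I) ≫ DerivedCategory.Q.map (κ φ I).hom ≫
    DerivedCategory.Q.map (precomp e I) ≫ inv (DerivedCategory.Q.map (DRing.homCxMap E ι))) ≫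
    DerivedCategory.Q.map (evAt z (𝟙_ (DRing.Cx R))) = _
  simp only [Category.assoc]
  rw [s1, reassoc_of% s2, reassoc_of% s3]
  have s6 : (resFactors φ).hom.app ((coextCx φ).obj I) ≫ DerivedCategory.Q.map (counitCx φ I) =
      counitD φ I := rfl
  rw [reassoc_of% s6, Functor.map_comp, Category.assoc, reassoc_of% s4, reassoc_of% s5,
    IsIso.hom_inv_id, Category.comp_id]

/-- the unit complex is K-projective -/
lemma isKProjective_unit' (R : Type u) [CommRing R] : (𝟙_ (DRing.Cx R)).IsKProjective := by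
  haveI : Projective (𝟙_ (ModuleCat.{u} R)) :=
    (IsProjective.iff_projective (R := R) (P := R)).1 inferInstance
  exact isKProjective_single 0 (𝟙_ (ModuleCat.{u} R))

/-- maps `R[0] ⟶ A_R[0]` which agree in the derived category are equal -/
lemma eq_of_Q_map_eq_unit_V {f g : 𝟙_ (DRing.Cx R) ⟶ V φ}
    (h : DerivedCategory.Q.map f = DerivedCategory.Q.map g) : f = g := by
  obtain ⟨f', rfl⟩ := (CochainComplex.singleFunctor (ModuleCat.{u} R) 0).map_surjective f
  obtain ⟨g', rfl⟩ := (CochainComplex.singleFunctor (ModuleCat.{u} R) 0).map_surjective g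
  have h1 := (DerivedCategory.singleFunctorIsoCompQ (ModuleCat.{u} R) 0).hom.naturality f'
  have h2 := (DerivedCategory.singleFunctorIsoCompQ (ModuleCat.{u} R) 0).hom.naturality g'
  have h3 : (DerivedCategory.singleFunctor (ModuleCat.{u} R) 0).map f' =
      (DerivedCategory.singleFunctor (ModuleCat.{u} R) 0).map g' := by
    rw [← cancel_mono ((DerivedCategory.singleFunctorIsoCompQ (ModuleCat.{u} R) 0).hom.app _)]
    exact h1.trans ((congrArg (fun t =>
      (DerivedCategory.singleFunctorIsoCompQ (ModuleCat.{u} R) 0).hom.app _ ≫ t) h).trans h2.symm)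
  rw [(DerivedCategory.singleFunctor (ModuleCat.{u} R) 0).map_injective h3]

/-- a lift of `1 ∈ A` to a K-projective resolution -/
lemma exists_lift_one (E : DRing.Cx R) (e : E ⟶ V φ) [QuasiIso e] :
    ∃ z : 𝟙_ (DRing.Cx R) ⟶ E, z ≫ e = pt φ 1 := by
  haveI := isKProjective_unit' R
  obtain ⟨z, hz⟩ := exists_map_eq (𝟙_ (DRing.Cx R)) E
    (DerivedCategory.Q.map (pt φ 1) ≫ inv (DerivedCategory.Q.map e))
  refine ⟨z, eq_of_Q_map_eq_unit_V φ ?_⟩
  rw [Functor.map_comp, hz, Category.assoc, IsIso.inv_hom_id, Category.comp_id]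

end Du

end Groth.Agent.Lib.Helper18.DR
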