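import Mathlib
import Groth.Agent.Lib.Helper18.DuG
import Groth.Agent.Lib.Helper18.ShrB

/-!
# Self-maps of `RHom_R(A, R)` for `R → A` surjective and `A` perfect over `R` (helper18)
-/

set_option autoImplicit false
set_option linter.style.haveILetI false
universe u
open CategoryTheory CategoryTheory.Limits MonoidalCategory HomologicalComplex
  CochainComplex.HomComplex

attribute [local instance] HasDerivedCategory.standard

namespace Groth.Agent.Lib.Helper18.DR

namespace Du

open HomCx Psi Coext CoextHom DTen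

section general

variable {R : Type u} [CommRing R]

/-- for K-projective `K`: if every cocycle of degree `i` of `Hom•(K, L)` is a coboundary, then
`Hom_D(K, L[i]) = 0` -/
theorem subsingleton_hom_shift_of_coboundary (K L : DRing.Cx R) [K.IsKProjective] (i : ℤ)
    (h : ∀ α : Cocycle K L i, α ∈ coboundaries K L i) :
    Subsingleton (DerivedCategory.Q.obj K ⟶ (DerivedCategory.Q.obj L)⟦i⟧) := by
  have hz : ∀ f : DerivedCategory.Q.obj K ⟶ (DerivedCategory.Q.obj L)⟦i⟧, f = 0 := by
    intro f
    obtain ⟨g, hg⟩ := exists_map_eq K (L⟦i⟧) (f ≫ (DerivedCategory.Q.commShiftIso i).inv.app L)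
    have h1 : (HomotopyCategory.quotient _ _).map g = 0 := by
      have h2 := (CohomologyClass.toHom_mk_eq_zero_iff (Cocycle.equivHomShift g)).2 (h _)
      rw [CohomologyClass.toHom_mk, AddEquiv.symm_apply_apply] at h2
      exact h2
    obtain ⟨H⟩ := (HomotopyCategory.quotient_map_eq_zero_iff g).1 h1
    have h3 : DerivedCategory.Q.map g = 0 := by
      rw [Q_map_eq_of_homotopy H, Functor.map_zero]
    have h4 : f = (f ≫ (DerivedCategory.Q.commShiftIso i).inv.app L) ≫
        (DerivedCategory.Q.commShiftIso i).hom.app L := by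
      rw [Category.assoc, Iso.inv_hom_id_app]
      exact (Category.comp_id f).symm
    rw [h4, ← hg, h3, zero_comp]
  exact ⟨fun x y => by rw [hz x, hz y]⟩

/-- exactness of `Hom•(K, L)` at `i` makes cocycles coboundaries -/
lemma mem_coboundaries_of_exactAt (K L : DRing.Cx R) (i : ℤ)
    (hex : (DRing.homCx K L).ExactAt i) (α : Cocycle K L i) : α ∈ coboundaries K L i := by
  rw [HomologicalComplex.exactAt_iff' _ (i - 1) i (i + 1) (by simp) (by simp),
    ShortComplex.moduleCat_exact_iff] at hex
  obtain ⟨β, hβ⟩ := hex (α.1 : Cochain K L i) (by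
    change δ i (i + 1) (α.1 : Cochain K L i) = 0
    exact α.2)
  exact (mem_coboundaries_iff α (i - 1) (by omega)).2 ⟨β, hβ⟩

end general

section main

variable {R A : Type u} [CommRing R] [CommRing A] [Algebra R A]

/-- a resolution of `A_R[0]` is exact away from degree `0` -/
lemma exactAt_of_quasiIso_V (E : DRing.Cx R) (e : E ⟶ V (algebraMap R A)) [QuasiIso e] (i : ℤ)
    (hi : i ≠ 0) : E.ExactAt i :=
  (quasiIsoAt_iff_exactAt' e i (exactAt_single_obj _ _ _ _ hi)).1 inferInstance

/-- `Hom_D(E^∨, R[i]) = 0` for `i ≠ 0` -/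
theorem subsingleton_hom_dual_unit_shift (E : DRing.Cx R) (a' : ℤ)
    (ha : DRing.VanishesAbove (dualCx E) a') (hp : DRing.TermwiseFiniteProjective E)
    (e : E ⟶ V (algebraMap R A)) [QuasiIso e] (i : ℤ) (hi : i ≠ 0) :
    Subsingleton (DerivedCategory.Q.obj (dualCx E) ⟶ (DTen.unit R)⟦i⟧) := by
  haveI : (dualCx E).IsKProjective := isKProjective_of_vanishesAbove _ a' ha
    (fun i => (termwiseFiniteProjective_dual E hp i).2)
  haveI := isIso_bid E hp
  have hex : (DRing.homCx (dualCx E) (𝟙_ (DRing.Cx R))).ExactAt i :=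
    (quasiIsoAt_iff_exactAt (bid E) i (exactAt_of_quasiIso_V E e i hi)).1 inferInstance
  exact subsingleton_hom_shift_of_coboundary (dualCx E) (𝟙_ (DRing.Cx R)) i
    (mem_coboundaries_of_exactAt _ _ i hex)

/-- a scalar killing `E^∨` in the derived category is zero in `A` -/
theorem algebraMap_eq_zero_of_smul_id_dual (E : DRing.Cx R) (b : ℤ)
    (hb : DRing.VanishesAbove E b) (a' : ℤ)
    (ha : DRing.VanishesAbove (dualCx E) a') (hp : DRing.TermwiseFiniteProjective E)
    (e : E ⟶ V (algebraMap R A)) [QuasiIso e] (r : R)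
    (h : r • 𝟙 (DerivedCategory.Q.obj (dualCx E)) = 0) : algebraMap R A r = 0 := by
  haveI : E.IsKProjective := isKProjective_of_vanishesAbove E b hb (fun i => (hp i).2)
  haveI : (dualCx E).IsKProjective := isKProjective_of_vanishesAbove _ a' ha
    (fun i => (termwiseFiniteProjective_dual E hp i).2)
  haveI := isIso_bid E hp
  have h1 : DerivedCategory.Q.map (r • 𝟙 (dualCx E)) = DerivedCategory.Q.map 0 := by
    rw [CategoryTheory.Functor.map_smul, CategoryTheory.Functor.map_id, h, Functor.map_zero]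
  obtain ⟨H⟩ := nonempty_homotopy_of_map_eq (dualCx E) (dualCx E) _ _ h1
  have h2 := Q_map_eq_of_homotopy (precompHomotopy H (𝟙_ (DRing.Cx R)))
  have h0 : precomp (0 : dualCx E ⟶ dualCx E) (𝟙_ (DRing.Cx R)) = 0 := by
    have := precomp_smul (0 : R) (𝟙 (dualCx E)) (𝟙_ (DRing.Cx R))
    rwa [zero_smul, zero_smul] at this
  rw [precomp_smul, precomp_id, h0, CategoryTheory.Functor.map_smul,
    CategoryTheory.Functor.map_id, Functor.map_zero] at h2
  -- transport to `E`
  have h3 : r • 𝟙 (DerivedCategory.Q.obj E) = 0 := by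
    have : r • 𝟙 (DerivedCategory.Q.obj E) = DerivedCategory.Q.map (bid E) ≫
        (r • 𝟙 (DerivedCategory.Q.obj (dualCx (dualCx E)))) ≫
        inv (DerivedCategory.Q.map (bid E)) := by
      rw [Linear.smul_comp, Linear.comp_smul, Category.id_comp, IsIso.hom_inv_id]
    rw [this, h2, zero_comp, comp_zero]
  have h4 : r • 𝟙 (DerivedCategory.Q.obj (V (algebraMap R A))) = 0 := by
    have : r • 𝟙 (DerivedCategory.Q.obj (V (algebraMap R A))) =
        inv (DerivedCategory.Q.map e) ≫ (r • 𝟙 (DerivedCategory.Q.obj E)) ≫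
        DerivedCategory.Q.map e := by
      rw [Linear.smul_comp, Linear.comp_smul, Category.id_comp, IsIso.inv_hom_id]
    rw [this, h3, zero_comp, comp_zero]
  have h5 : r • pt (algebraMap R A) 1 = 0 := by
    apply eq_of_Q_map_eq_unit_V
    rw [CategoryTheory.Functor.map_smul, Functor.map_zero]
    have : r • DerivedCategory.Q.map (pt (algebraMap R A) 1) =
        DerivedCategory.Q.map (pt (algebraMap R A) 1) ≫
          (r • 𝟙 (DerivedCategory.Q.obj (V (algebraMap R A)))) := by
      rw [Linear.comp_smul, Category.comp_id]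
    rw [this, h4, comp_zero]
  have h6 := congrArg (fun t : 𝟙_ (DRing.Cx R) ⟶ V (algebraMap R A) => (t.f 0).hom u0) h5
  replace h6 : (r • ((pt (algebraMap R A) 1).f 0)).hom u0 = 0 := h6
  rw [ModuleCat.hom_smul, LinearMap.smul_apply, pt_f_u0] at h6
  have h7 : r • (HomologicalComplex.singleObjXSelf (ComplexShape.up ℤ) 0
      (AR (algebraMap R A))).hom.hom (el (algebraMap R A) 1) = 0 := by
    have h6' := congrArg (fun x => (HomologicalComplex.singleObjXSelf (ComplexShape.up ℤ) 0
      (AR (algebraMap R A))).hom.hom x) h6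
    exact ((LinearMap.map_smul _ _ _).symm.trans h6').trans (map_zero _)
  rw [singleObjXSelf_hom_el] at h7
  have h8 : r • toAR (algebraMap R A) (1 : A) = toAR (algebraMap R A) (algebraMap R A r * 1) :=
    rfl
  rw [h8, mul_one] at h7
  exact h7

end main

section selfmaps

variable {R A : Type u} [CommRing R] [CommRing A] [Algebra R A]
  (F : Dual.D R ⥤ Dual.D A) (adj : DRing.restrictD (algebraMap R A) ⊣ F)

include adj in
/-- **`A → End(RHom_R(A, R))` is bijective** for `R → A` surjective with `A` perfect over `R` -/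
theorem bijective_smul_id_rightAdj_unit (hφ : Function.Surjective (algebraMap R A))
    (E : DRing.Cx R) (a b : ℤ) (hE : DRing.VanishesOutside E a b)
    (hp : DRing.TermwiseFiniteProjective E) (e : E ⟶ V (algebraMap R A)) [QuasiIso e] :
    Function.Bijective (fun x : A => x • 𝟙 (F.obj (DTen.unit R))) := by
  haveI : E.IsKProjective :=
    isKProjective_of_vanishesAbove E b (VanishesOutside.above hE) (fun i => (hp i).2)
  obtain ⟨ζ⟩ := Om.nonempty_restrict_rightAdj_unit_iso (algebraMap R A) F adj E e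
  have hd := VanishesOutside.above (vanishesOutside_dual E a b hE)
  set W := F.obj (DTen.unit R) with hW
  constructor
  · intro x y hxy
    replace hxy : x • 𝟙 W = y • 𝟙 W := hxy
    obtain ⟨r, hr⟩ := hφ (x - y)
    have h0 : (x - y) • 𝟙 W = 0 := by rw [sub_smul]; exact sub_eq_zero.2 hxy
    have h1 : r • 𝟙 ((DRing.restrictD (algebraMap R A)).obj W) = 0 := by
      rw [← restrictD_map_smul_id, hr, h0, Functor.map_zero]
    have h2 : r • 𝟙 (DerivedCategory.Q.obj (dualCx E)) = 0 := by
      have : r • 𝟙 (DerivedCategory.Q.obj (dualCx E)) =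
          ζ.inv ≫ (r • 𝟙 ((DRing.restrictD (algebraMap R A)).obj W)) ≫ ζ.hom := by
        rw [Linear.smul_comp, Linear.comp_smul, Category.id_comp, Iso.inv_hom_id]
      rw [this, h1, zero_comp, comp_zero]
    have h3 := algebraMap_eq_zero_of_smul_id_dual E b (VanishesOutside.above hE) (-a) hd hp e r h2
    rw [hr] at h3
    exact sub_eq_zero.1 h3
  · intro f
    obtain ⟨r, hr⟩ := exists_smul_of_end_dual hφ E b (VanishesOutside.above hE) (-a) hd hp e
      (ζ.inv ≫ (DRing.restrictD (algebraMap R A)).map f ≫ ζ.hom)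
    refine ⟨algebraMap R A r, ?_⟩
    change algebraMap R A r • 𝟙 W = f
    apply (adj.homEquiv W (DTen.unit R)).symm.injective
    rw [Adjunction.homEquiv_counit, Adjunction.homEquiv_counit, restrictD_map_smul_id]
    have h1 : (DRing.restrictD (algebraMap R A)).map f = r • 𝟙 _ := by
      have : (DRing.restrictD (algebraMap R A)).map f =
          ζ.hom ≫ (ζ.inv ≫ (DRing.restrictD (algebraMap R A)).map f ≫ ζ.hom) ≫ ζ.inv := by simp
      rw [this, hr, Linear.smul_comp, Linear.comp_smul, Category.id_comp, Iso.hom_inv_id]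
    rw [h1]

include adj in
/-- **`RHom_R(A, R)` has no self-maps of nonzero degree** for `A` perfect over `R` -/
theorem subsingleton_hom_shift_rightAdj_unit
    (E : DRing.Cx R) (a b : ℤ) (hE : DRing.VanishesOutside E a b)
    (hp : DRing.TermwiseFiniteProjective E) (e : E ⟶ V (algebraMap R A)) [QuasiIso e]
    (i : ℤ) (hi : i ≠ 0) :
    Subsingleton (F.obj (DTen.unit R) ⟶ (F.obj (DTen.unit R))⟦i⟧) := by
  haveI : E.IsKProjective :=
    isKProjective_of_vanishesAbove E b (VanishesOutside.above hE) (fun i => (hp i).2)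
  obtain ⟨ζ⟩ := Om.nonempty_restrict_rightAdj_unit_iso (algebraMap R A) F adj E e
  haveI := subsingleton_hom_dual_unit_shift E (-a)
    (VanishesOutside.above (vanishesOutside_dual E a b hE)) hp e i hi
  exact ((Iso.homCongr (Iso.refl _)
    (Shr.rightAdjShiftIso (algebraMap R A) F adj (DTen.unit R) i).symm).trans
    ((adj.homEquiv _ _).symm.trans (Iso.homCongr ζ (Iso.refl _)))).subsingleton

end selfmaps

section transfer

variable {A : Type u} [CommRing A]

/-- transfer of "scalars are the endomorphisms" along an isomorphism -/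
theorem bijective_smul_id_of_iso {X Y : Dual.D A} (e : X ≅ Y)
    (h : Function.Bijective (fun a : A => a • 𝟙 X)) :
    Function.Bijective (fun a : A => a • 𝟙 Y) := by
  have hconj : ∀ a : A, a • 𝟙 Y = e.inv ≫ (a • 𝟙 X) ≫ e.hom := fun a => by
    rw [Linear.smul_comp, Linear.comp_smul, Category.id_comp, Iso.inv_hom_id]
  constructor
  · intro a₁ a₂ h12
    replace h12 : a₁ • 𝟙 Y = a₂ • 𝟙 Y := h12
    apply h.1
    change a₁ • 𝟙 X = a₂ • 𝟙 X
    rw [hconj, hconj] at h12
    have := congrArg (fun t => e.hom ≫ t ≫ e.inv) h12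
    simpa using this
  · intro x
    obtain ⟨a₀, ha₀⟩ := h.2 (e.hom ≫ x ≫ e.inv)
    replace ha₀ : a₀ • 𝟙 X = e.hom ≫ x ≫ e.inv := ha₀
    refine ⟨a₀, ?_⟩
    change a₀ • 𝟙 Y = x
    rw [hconj, ha₀]
    simp

/-- transfer of "scalars are the endomorphisms" along a shift -/
theorem bijective_smul_id_shift (X : Dual.D A) (n : ℤ)
    (h : Function.Bijective (fun a : A => a • 𝟙 X)) :
    Function.Bijective (fun a : A => a • 𝟙 (X⟦n⟧)) := by
  have h1 : Function.Bijective (fun f : X ⟶ X => (shiftFunctor (Dual.D A) n).map f) :=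
    ⟨(shiftFunctor (Dual.D A) n).map_injective, (shiftFunctor (Dual.D A) n).map_surjective⟩
  have h2 := h1.comp h
  convert h2 using 1
  funext a
  change a • 𝟙 (X⟦n⟧) = (shiftFunctor (Dual.D A) n).map (a • 𝟙 X)
  rw [Functor.map_smul, CategoryTheory.Functor.map_id]

/-- vanishing of shifted self-maps is invariant under isomorphism -/
theorem subsingleton_hom_shift_of_iso {X Y : Dual.D A} (e : X ≅ Y) (i : ℤ)
    (h : Subsingleton (X ⟶ X⟦i⟧)) : Subsingleton (Y ⟶ Y⟦i⟧) :=
  (Iso.homCongr e.symm ((shiftFunctor (Dual.D A) i).mapIso e.symm)).subsingleton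

/-- vanishing of shifted self-maps is invariant under shift -/
theorem subsingleton_hom_shift_shift (X : Dual.D A) (n i : ℤ)
    (h : Subsingleton (X ⟶ X⟦i⟧)) : Subsingleton (X⟦n⟧ ⟶ (X⟦n⟧)⟦i⟧) := by
  refine ⟨fun x y => ?_⟩
  have hx : x ≫ (shiftComm X n i).hom = y ≫ (shiftComm X n i).hom := by
    obtain ⟨x', hx'⟩ := (shiftFunctor (Dual.D A) n).map_surjective (x ≫ (shiftComm X n i).hom)
    obtain ⟨y', hy'⟩ := (shiftFunctor (Dual.D A) n).map_surjective (y ≫ (shiftComm X n i).hom)
    rw [← hx', ← hy', Subsingleton.elim x' y']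
  exact (cancel_mono (shiftComm X n i).hom).1 hx

end transfer

end Du

end Groth.Agent.Lib.Helper18.DR
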