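import Mathlib
import Groth.Agent.Lib.Helper18.BiE
import Groth.Agent.Lib.Helper18.DuL

/-!
# Biduality: cocycles attached to cycles, and the base case `A[-p]` (helper18)
-/

set_option autoImplicit false
set_option linter.style.haveILetI false
universe u
open CategoryTheory CategoryTheory.Limits CategoryTheory.Pretriangulated CochainComplex
  CochainComplex.HomComplex

attribute [local instance] HasDerivedCategory.standard

namespace Groth.Agent.Lib.Helper18.DR

namespace Bi

open HomCx HomCxM

variable {A : Type u} [CommRing A]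

section general

variable (K L : DRing.Cx A)

lemma equivHomShift_symm_f {n : ℤ} (z : Cocycle K L n) (q : ℤ) :
    (Cocycle.equivHomShift.symm z).f q = z.1.v q (q + n) rfl := by
  rw [Cocycle.equivHomShift_symm_apply]
  simp [Cochain.rightShift_v _ n 0 (zero_add n) q q (add_zero q) (q + n) rfl]
  exact Category.comp_id _

/-- cocycles with equal images in the derived category differ by a coboundary (`L` K-injective) -/
lemma sub_mem_coboundaries_of_Q_map_eq [L.IsKInjective] {n : ℤ} (z z' : Cocycle K L n)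
    (h : DerivedCategory.Q.map (Cocycle.equivHomShift.symm z) =
      DerivedCategory.Q.map (Cocycle.equivHomShift.symm z')) :
    z - z' ∈ coboundaries K L n := by
  obtain ⟨H⟩ := nonempty_homotopy_of_map_eq_inj K (L⟦n⟧) _ _ h
  rw [← CohomologyClass.toHom_mk_eq_zero_iff, CohomologyClass.mk_sub, map_sub,
    CohomologyClass.toHom_mk, CohomologyClass.toHom_mk, HomotopyCategory.eq_of_homotopy _ _ H,
    sub_self]

/-- a coboundary has zero image in the derived category -/
lemma Q_map_eq_zero_of_mem_coboundaries {n : ℤ} (z : Cocycle K L n)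
    (h : z ∈ coboundaries K L n) :
    DerivedCategory.Q.map (Cocycle.equivHomShift.symm z) = 0 := by
  rw [← CohomologyClass.toHom_mk_eq_zero_iff, CohomologyClass.toHom_mk] at h
  have H : Homotopy (Cocycle.equivHomShift.symm z) 0 :=
    HomotopyCategory.homotopyOfEq _ _ (by rw [h, Functor.map_zero])
  rw [DerivedCategory.Q_map_eq_of_homotopy _ H, Functor.map_zero]

variable (J : DRing.Cx A)

/-- the cocycle `bid(x)` attached to a cycle `x` -/
noncomputable def bidCocycle (n : ℤ) (x : K.X n) (hx : (K.d n (n + 1)).hom x = 0) :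
    Cocycle (DRing.homCx K J) J n :=
  Cocycle.mk (toCochain (DRing.homCx K J) J n (((bidL K J).f n).hom x)) (n + 1) rfl (by
    rw [← toCochain_d]
    have h := congrArg (fun f => f.hom x) ((bidL K J).comm n (n + 1))
    simp only [ModuleCat.hom_comp, LinearMap.comp_apply] at h
    rw [h, hx, map_zero, map_zero])

lemma bidCocycle_coe (n : ℤ) (x : K.X n) (hx : (K.d n (n + 1)).hom x = 0) :
    ((bidCocycle K J n x hx : Cocycle (DRing.homCx K J) J n) : Cochain (DRing.homCx K J) J n) =
      toCochain (DRing.homCx K J) J n (((bidL K J).f n).hom x) := rfl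

lemma bidCocycle_smul (n : ℤ) (a : A) (x : K.X n) (hx : (K.d n (n + 1)).hom x = 0)
    (hax : (K.d n (n + 1)).hom (a • x) = 0) :
    bidCocycle K J n (a • x) hax = a • bidCocycle K J n x hx := by
  apply Cocycle.ext
  rw [Cocycle.coe_smul, bidCocycle_coe, bidCocycle_coe, map_smul, map_smul]

lemma bidCocycle_zero (n : ℤ) (h0 : (K.d n (n + 1)).hom (0 : K.X n) = 0) :
    bidCocycle K J n 0 h0 = 0 := by
  apply Cocycle.ext
  rw [bidCocycle_coe, map_zero, map_zero]
  rfl

/-- the value of `bid(x)` on a cochain `g` -/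
lemma bidCocycle_v_apply (n : ℤ) (x : K.X n) (hx : (K.d n (n + 1)).hom x = 0) (q : ℤ)
    (g : Cochain K J q) :
    ((bidCocycle K J n x hx).1.v q (q + n) rfl).hom g =
      (n * q).negOnePow • (g.v n (q + n) (by omega)).hom x := by
  have h := bidL_apply J n q (q + n) (by omega) x g
  rw [evL_apply, evL_apply] at h
  exact h

end general

section base

variable (J : DRing.Cx A) (p : ℤ)

variable (A) in
/-- the complex `A[-p]` -/
noncomputable abbrev Ap : DRing.Cx A :=
  (CochainComplex.singleFunctor (ModuleCat.{u} A) p).obj (ModuleCat.of A A)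

/-- the degree `p` term of `A[-p]` is `A` -/
noncomputable def sigma : (Ap A p).X p ≃ₗ[A] A :=
  (HomologicalComplex.singleObjXSelf (ComplexShape.up ℤ) p (ModuleCat.of A A)).toLinearEquiv

lemma Ap_d (i j : ℤ) (x : (Ap A p).X i) : ((Ap A p).d i j).hom x = 0 := by
  have h : (Ap A p).d i j = 0 :=
    HomologicalComplex.single_obj_d (ComplexShape.up ℤ) p (ModuleCat.of A A) i j
  rw [h]
  rfl

/-- the cocycle `bid(x)` for `x ∈ A[-p]^p` -/
noncomputable def bc (x : (Ap A p).X p) : Cocycle (DRing.homCx (Ap A p) J) J p :=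
  bidCocycle (Ap A p) J p x (Ap_d p p (p + 1) x)

lemma bc_smul (a : A) (x : (Ap A p).X p) : bc J p (a • x) = a • bc J p x :=
  bidCocycle_smul (Ap A p) J p a x _ _

/-- the generator of `A[-p]^p` -/
noncomputable def one : (Ap A p).X p := (sigma p).symm (1 : A)

lemma eq_smul_one (x : (Ap A p).X p) : x = sigma p x • one p := by
  apply (sigma p).injective
  rw [map_smul, one, LinearEquiv.apply_symm_apply, smul_eq_mul, mul_one]

/-- evaluation at `1`, as a morphism of complexes `Hom•(A[-p], J) ⟶ J[p]` -/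
noncomputable def ev1 : DRing.homCx (Ap A p) J ⟶ J⟦p⟧ :=
  Cocycle.equivHomShift.symm (bc J p (one p))

lemma ev1_f_apply (q : ℤ) (g : Cochain (Ap A p) J q) :
    ((ev1 J p).f q).hom g =
      (p * q).negOnePow • (Cochain.fromSingleEquiv (show p + q = q + p by omega) g).hom (1 : A) := by
  have h1 : (ev1 J p).f q = (bc J p (one p)).1.v q (q + p) rfl := equivHomShift_symm_f _ _ _ _
  rw [h1]
  exact bidCocycle_v_apply (Ap A p) J p (one p) _ q g

lemma ev1_f_bijective (q : ℤ) : Function.Bijective ((ev1 J p).f q).hom := by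
  have hpq : p + q = q + p := by omega
  constructor
  · intro (g : Cochain (Ap A p) J q) (g' : Cochain (Ap A p) J q) hgg
    rw [ev1_f_apply, ev1_f_apply] at hgg
    have h2 := MulAction.injective ((p * q).negOnePow) hgg
    exact (Cochain.fromSingleEquiv hpq).injective (ModuleCat.hom_ext (LinearMap.ext_ring h2))
  · intro (y : J.X (q + p))
    refine ⟨(Cochain.fromSingleEquiv hpq).symm
      (ModuleCat.ofHom (LinearMap.toSpanSingleton A _ ((p * q).negOnePow • y))), ?_⟩
    rw [ev1_f_apply, AddEquiv.apply_symm_apply, ModuleCat.hom_ofHom,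
      LinearMap.toSpanSingleton_apply, one_smul, smul_smul, Int.units_mul_self, one_smul]

instance isIso_ev1 : IsIso (ev1 J p) := by
  haveI : ∀ q, IsIso ((ev1 J p).f q) := fun q =>
    (ConcreteCategory.isIso_iff_bijective _).2 (ev1_f_bijective J p q)
  exact HomologicalComplex.Hom.isIso_of_components _

variable (hEnd : Function.Bijective (fun a : A => a • 𝟙 (DRing.toD J)))
  (hExt : ∀ i : ℤ, i ≠ 0 → Subsingleton (DRing.toD J ⟶ (DRing.toD J)⟦i⟧))

include hEnd in
lemma bijective_smul_id_shiftJ :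
    Function.Bijective (fun a : A => a • 𝟙 (DRing.toD (J⟦p⟧))) :=
  Du.bijective_smul_id_of_iso (toDShiftIso J p).symm (Du.bijective_smul_id_shift _ p hEnd)

include hEnd in
lemma exists_eq_smul_Q_ev1 (f : DRing.toD (DRing.homCx (Ap A p) J) ⟶ DRing.toD (J⟦p⟧)) :
    ∃ a : A, f = a • DerivedCategory.Q.map (ev1 J p) := by
  obtain ⟨a, ha⟩ := (bijective_smul_id_shiftJ J p hEnd).2
    (inv (DerivedCategory.Q.map (ev1 J p)) ≫ f)
  refine ⟨a, ?_⟩
  have ha' : a • 𝟙 (DRing.toD (J⟦p⟧)) = inv (DerivedCategory.Q.map (ev1 J p)) ≫ f := ha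
  have : f = DerivedCategory.Q.map (ev1 J p) ≫ (a • 𝟙 _) := by
    rw [ha', IsIso.hom_inv_id_assoc]
  rw [this, Linear.comp_smul, Category.comp_id]

include hEnd in
lemma eq_zero_of_smul_Q_ev1 (a : A) (h : a • DerivedCategory.Q.map (ev1 J p) = 0) : a = 0 := by
  apply (bijective_smul_id_shiftJ J p hEnd).1
  change a • 𝟙 _ = (0 : A) • 𝟙 _
  rw [zero_smul]
  have : a • 𝟙 (DRing.toD (J⟦p⟧)) =
      inv (DerivedCategory.Q.map (ev1 J p)) ≫ (a • DerivedCategory.Q.map (ev1 J p)) := by
    rw [Linear.comp_smul, IsIso.inv_hom_id]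
  rw [this, h, comp_zero]

include hExt in
lemma subsingleton_hom_of_ne (n : ℤ) (hn : n ≠ p) :
    Subsingleton (DRing.toD (DRing.homCx (Ap A p) J) ⟶ DRing.toD (J⟦n⟧)) := by
  haveI := Du.subsingleton_hom_shift_shift (DRing.toD J) p (n - p) (hExt (n - p) (by omega))
  have e2 : DRing.toD (J⟦n⟧) ≅ ((DRing.toD J)⟦p⟧)⟦n - p⟧ := toDShiftIso J n ≪≫
      (CategoryTheory.shiftFunctorAdd' (Dual.D A) p (n - p) n (by omega)).app (DRing.toD J)
  exact (Iso.homCongr (asIso (DerivedCategory.Q.map (ev1 J p)) ≪≫ toDShiftIso J p)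
    e2).subsingleton

variable [J.IsKInjective]

include hEnd hExt in
/-- **base case**: the biduality map of `A[-p]` is a quasi-isomorphism -/
theorem quasiIso_bidL_Ap : QuasiIso (bidL (Ap A p) J) := by
  rw [quasiIso_iff]
  intro n
  rw [quasiIsoAt_iff' _ (n - 1) n (n + 1) (by simp) (by simp)]
  refine shortComplex_quasiIso_of_elementwise _ ?_ ?_
  · intro (x₂ : (Ap A p).X n) _ ⟨(y₁ : Cochain (DRing.homCx (Ap A p) J) J (n - 1)), hy₁⟩
    by_cases hn : n = p
    · subst hn
      have hy₁' : δ (n - 1) n y₁ = (bc J n x₂).1 := hy₁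
      have hcob : bc J n x₂ ∈ coboundaries _ _ n := by
        rw [mem_coboundaries_iff _ (n - 1) (by omega)]
        exact ⟨y₁, hy₁'⟩
      have h0 := Q_map_eq_zero_of_mem_coboundaries _ _ _ hcob
      rw [eq_smul_one n x₂, bc_smul, equivHomShift_symm_smul, Functor.map_smul] at h0
      have ha := eq_zero_of_smul_Q_ev1 J n hEnd _ h0
      refine ⟨0, ?_⟩
      rw [eq_smul_one n x₂, ha, zero_smul]
      exact map_zero _
    · have hz : IsZero ((Ap A p).X n) :=
        HomologicalComplex.isZero_single_obj_X (ComplexShape.up ℤ) p (ModuleCat.of A A) n hn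
      have hsub : Subsingleton ((Ap A p).X n) := ModuleCat.subsingleton_of_isZero hz
      exact ⟨0, @Subsingleton.elim _ hsub _ _⟩
  · intro (y₂ : Cochain (DRing.homCx (Ap A p) J) J n) (hy₂ : δ n (n + 1) y₂ = 0)
    let z' : Cocycle (DRing.homCx (Ap A p) J) J n := Cocycle.mk y₂ (n + 1) rfl hy₂
    by_cases hn : n = p
    · subst hn
      obtain ⟨a, ha⟩ := exists_eq_smul_Q_ev1 J n hEnd
        (DerivedCategory.Q.map (Cocycle.equivHomShift.symm z'))
      have h1 : DerivedCategory.Q.map (Cocycle.equivHomShift.symm (bc J n (a • one n))) =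
          DerivedCategory.Q.map (Cocycle.equivHomShift.symm z') := by
        rw [bc_smul, equivHomShift_symm_smul, Functor.map_smul, ha]
        rfl
      have h2 := sub_mem_coboundaries_of_Q_map_eq _ _ _ _ h1
      rw [mem_coboundaries_iff _ (n - 1) (by omega)] at h2
      obtain ⟨β, hβ⟩ := h2
      refine ⟨a • one n, β, Ap_d n n (n + 1) _, ?_⟩
      change (bc J n (a • one n)).1 = y₂ + δ (n - 1) n β
      rw [hβ]
      change _ = y₂ + ((bc J n (a • one n)).1 - y₂)
      abel
    · haveI := subsingleton_hom_of_ne J p hExt n hn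
      have h1 : DerivedCategory.Q.map (Cocycle.equivHomShift.symm
          (0 : Cocycle (DRing.homCx (Ap A p) J) J n)) =
          DerivedCategory.Q.map (Cocycle.equivHomShift.symm z') := Subsingleton.elim _ _
      have h2 := sub_mem_coboundaries_of_Q_map_eq _ _ _ _ h1
      rw [mem_coboundaries_iff _ (n - 1) (by omega)] at h2
      obtain ⟨β, hβ⟩ := h2
      refine ⟨0, β, map_zero _, ?_⟩
      change (((bidL (Ap A p) J).f n).hom 0 : Cochain (DRing.homCx (Ap A p) J) J n) =
        y₂ + δ (n - 1) n β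
      rw [map_zero, hβ]
      change (0 : Cochain (DRing.homCx (Ap A p) J) J n) = y₂ + (0 - y₂)
      abel

end base

end Bi

end Groth.Agent.Lib.Helper18.DR
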