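import Mathlib
import Groth.Agent.Lib.Helper18.BiF
import Groth.Agent.Lib.Helper18.BidC
import Groth.Agent.Lib.Helper18.SPInd

/-!
# Biduality for bounded complexes of finite free modules (helper18)
-/

set_option autoImplicit false
set_option linter.style.haveILetI false
universe u
open CategoryTheory CategoryTheory.Limits CategoryTheory.Pretriangulated CochainComplex
  CochainComplex.HomComplex

attribute [local instance] HasDerivedCategory.standard

namespace Groth.Agent.Lib.Helper18.DR

namespace Bi

open HomCx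

variable {A : Type u} [CommRing A] (J : DRing.Cx A)

lemma isZero_homCx_of_isZero (X : DRing.Cx A) (hX : IsZero X) : IsZero (DRing.homCx X J) := by
  rw [IsZero.iff_id_eq_zero, ← precomp_id, (IsZero.iff_id_eq_zero X).1 hX, precomp_zero]

lemma bidIso_of_isZero (X : DRing.Cx A) (hX : IsZero X) : BidIso J X := by
  have h1 : IsZero (DRing.toD X) := DerivedCategory.Q.map_isZero hX
  have h2 : IsZero (DRing.toD (DRing.homCx (DRing.homCx X J) J)) :=
    DerivedCategory.Q.map_isZero (isZero_homCx_of_isZero J _ (isZero_homCx_of_isZero J X hX))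
  exact ⟨⟨0, h1.eq_of_src _ _, h2.eq_of_src _ _⟩⟩

variable {J} {a b : ℤ} (hJ : Bid.IsDualCx J a b)

include hJ

lemma isKInjective_of_isDualCx : J.IsKInjective :=
  isKInjective_of_bdd J a b hJ.vanishes hJ.inj

/-- the base case, for the single functor `sg p` -/
lemma bidIso_sg_unit (p : ℤ) : BidIso J ((SPInd.sg p).obj (ModuleCat.of A A)) := by
  haveI := isKInjective_of_isDualCx hJ
  have h := quasiIso_bidL_Ap J p hJ.toEnd_bijective hJ.ext_self
  change IsIso (DerivedCategory.Q.map (bidL (Ap A p) J))
  infer_instance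

lemma bidIso_biprod (X Y : DRing.Cx A) (hX : BidIso J X) (hY : BidIso J Y) :
    BidIso J (X ⊞ Y) :=
  bidIso_X₂ J (ShortComplex.mk (biprod.inl : X ⟶ X ⊞ Y) (biprod.snd : X ⊞ Y ⟶ Y) (by simp))
    (ShortComplex.Splitting.ofHasBinaryBiproduct X Y).shortExact hJ.inj hX hY

lemma bidIso_sg_free (p : ℤ) : ∀ n : ℕ,
    BidIso J ((SPInd.sg p).obj (ModuleCat.of A (Fin n → A))) := by
  haveI := isKInjective_of_isDualCx hJ
  intro n
  induction n with
  | zero =>
    apply bidIso_of_isZero
    apply Functor.map_isZero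
    exact ModuleCat.isZero_of_subsingleton _
  | succ n ih =>
    have e : ModuleCat.of A (Fin (n + 1) → A) ≅ ModuleCat.of A A ⊞ ModuleCat.of A (Fin n → A) :=
      (Fin.consLinearEquiv A (fun _ : Fin (n + 1) => A)).symm.toModuleIso ≪≫
        (ModuleCat.biprodIsoProd (ModuleCat.of A A) (ModuleCat.of A (Fin n → A))).symm
    haveI := preservesBinaryBiproducts_of_preservesBiproducts (SPInd.sg (A := A) p)
    have h1 : BidIso J ((SPInd.sg p).obj (ModuleCat.of A A ⊞ ModuleCat.of A (Fin n → A))) :=
      bidIso_of_iso J ((SPInd.sg p).mapBiprod _ _).symm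
        (bidIso_biprod hJ _ _ (bidIso_sg_unit hJ p) ih)
    exact bidIso_of_iso J ((SPInd.sg p).mapIso e.symm) h1

lemma bidIso_sg_finiteFree (p : ℤ) (M : ModuleCat.{u} A) [Module.Finite A M] [Module.Free A M] :
    BidIso J ((SPInd.sg p).obj M) := by
  haveI := isKInjective_of_isDualCx hJ
  let bs := (Module.Free.chooseBasis A M).reindex
    (Fintype.equivFin (Module.Free.ChooseBasisIndex A M))
  exact bidIso_of_iso J ((SPInd.sg p).mapIso bs.equivFun.toModuleIso.symm)
    (bidIso_sg_free hJ p _)

/-- **biduality for bounded complexes of finite free modules** -/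
theorem bidIso_of_bounded_finiteFree (K : DRing.Cx A) (a' b' : ℤ)
    (hK : DRing.VanishesOutside K a' b') (hff : DRing.TermwiseFiniteFree K) : BidIso J K := by
  haveI := isKInjective_of_isDualCx hJ
  refine SPInd.bounded_induction (fun K => BidIso J K) (fun e h => bidIso_of_iso J e h)
    (fun X hX => bidIso_of_isZero J X hX)
    (fun S hS _ h1 h3 => bidIso_X₂ J S hS hJ.inj h1 h3) K a' b' hK
    (fun i => haveI := (hff i).2; inferInstance) (fun i _ _ => ?_)
  haveI := (hff i).1
  haveI := (hff i).2
  exact bidIso_sg_finiteFree hJ i (K.X i)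

end Bi

end Groth.Agent.Lib.Helper18.DR
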