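import Mathlib
import Groth.Agent.Lib.Helper18.BiG
import Groth.Agent.Lib.Helper18.DRTrunc

/-!
# Biduality for bounded above complexes of finite free modules (helper18)
-/

set_option autoImplicit false
set_option linter.style.haveILetI false
universe u
open CategoryTheory CategoryTheory.Limits CategoryTheory.Pretriangulated CochainComplex
  CochainComplex.HomComplex

attribute [local instance] HasDerivedCategory.standard

namespace Groth.Agent.Lib.Helper18.DR

namespace Bi

open HomCx

variable {A : Type u} [CommRing A] {J : DRing.Cx A} {a b : ℤ} (hJ : Bid.IsDualCx J a b)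

include hJ

/-- **biduality for bounded above complexes of finite free modules** -/
theorem bidIso_of_boundedAbove_finiteFree (hab : a ≤ b) (F : DRing.Cx A) (b' : ℤ)
    (hF : DRing.VanishesAbove F b') (hff : DRing.TermwiseFiniteFree F) : BidIso J F := by
  rw [bidIso_iff]
  intro n
  obtain ⟨m, hm⟩ : ∃ m : ℤ, m = n - 1 - (b - a) := ⟨_, rfl⟩
  have hS : (subQuotSC F (sigmaSub F m) (sigmaSub_stable F m)).ShortExact :=
    subQuotSC_shortExact _ _ _
  haveI h1 : (DRing.toD (sigmaLT F m)).IsLE (m - 1) := by
    change (DerivedCategory.Q.obj (sigmaLT F m)).IsLE (m - 1)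
    infer_instance
  haveI h2 := isLE_homCx_homCx_of_isLE J a b hJ.vanishes hJ.inj (sigmaLT F m) (m - 1)
  have z : ∀ i : ℤ, m - 1 + (b - a) < i → IsZero ((H A i).obj
      (DRing.toD (DRing.homCx (DRing.homCx (sigmaLT F m) J) J))) := fun i hi =>
    DerivedCategory.isZero_of_isLE _ (m - 1 + (b - a)) i hi
  have h := bidIsoAt_X₂_iff_X₁ J (subQuotSC F (sigmaSub F m) (sigmaSub_stable F m)) hS hJ.inj
    (n - 1) n (by omega)
    (DerivedCategory.isZero_of_isLE (DRing.toD (sigmaLT F m)) (m - 1) _ (by omega))
    (DerivedCategory.isZero_of_isLE (DRing.toD (sigmaLT F m)) (m - 1) _ (by omega))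
    (z _ (by omega)) (z _ (by omega))
  refine h.2 ?_
  exact (bidIso_iff J _).1 (bidIso_of_bounded_finiteFree hJ (sigmaGE F m) m b'
    (vanishesOutside_sigmaGE F m hF) (termwiseFiniteFree_sigmaGE F m hff)) n

end Bi

end Groth.Agent.Lib.Helper18.DR
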