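import Mathlib
import Groth.Agent.Lib.Helper18.BiH
import Groth.Agent.Lib.Helper18.DRNoeth
import Groth.Agent.Lib.Helper18.DRPC3

/-!
# Biduality for complexes with finite cohomology (helper18)
-/

set_option autoImplicit false
set_option linter.style.haveILetI false
universe u
open CategoryTheory CategoryTheory.Limits CategoryTheory.Pretriangulated CochainComplex
  CochainComplex.HomComplex

attribute [local instance] HasDerivedCategory.standard

namespace Groth.Agent.Lib.Helper18.DR

namespace Bi

open HomCx

variable {A : Type u} [CommRing A] [IsNoetherianRing A] {J : DRing.Cx A} {a b : ℤ}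
  (hJ : Bid.IsDualCx J a b)

include hJ

/-- **biduality for cohomologically bounded above complexes with finite cohomology** -/
theorem bidIso_of_boundedAbove (hab : a ≤ b) (K : DRing.Cx A)
    (hb : ∃ b' : ℤ, ∀ i : ℤ, b' < i → Subsingleton (Dual.HD A (DRing.toD K) i))
    (hfin : ∀ i : ℤ, Module.Finite A (Dual.HD A (DRing.toD K) i)) : BidIso J K := by
  haveI := isKInjective_of_isDualCx hJ
  have hK : DRing.IsPseudoCoherent' A (DRing.toD K) :=
    (isPseudoCoherent'_iff_forall _).1
      (fun n => (isPseudoCoherent_iff_of_noetherian n _).2 ⟨hb, fun j _ => hfin j⟩)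
  obtain ⟨F, c, hFc, hFff, ⟨e⟩⟩ := hK
  haveI : F.IsKProjective := isKProjective_of_vanishesAbove F c hFc
    (fun i => haveI := (hFff i).2; inferInstance)
  obtain ⟨f, hf⟩ := exists_map_eq F K e.hom
  haveI : IsIso (DerivedCategory.Q.map f) := by rw [hf]; infer_instance
  haveI : QuasiIso f := (DerivedCategory.isIso_Q_map_iff_quasiIso _ f).1 inferInstance
  exact (bidIso_iff_of_quasiIso J f).2 (bidIso_of_boundedAbove_finiteFree hJ hab F c hFc hFff)

/-- **biduality for complexes with finite cohomology** -/
theorem bidIso_of_finite (hab : a ≤ b) (K : DRing.Cx A)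
    (hfin : ∀ i : ℤ, Module.Finite A (Dual.HD A (DRing.toD K) i)) : BidIso J K := by
  rw [bidIso_iff]
  intro n
  obtain ⟨m, hm⟩ : ∃ m : ℤ, m = n + (b - a) := ⟨_, rfl⟩
  have hS := K.shortComplexTruncLE_shortExact m
  have hx : ∀ j : ℤ, j ≤ m → (K.shortComplexTruncLE m).X₃.ExactAt j := fun j hj => by
    have h := (K.shortComplexTruncLE_X₃_isSupportedOutside
      (ComplexShape.embeddingUpIntLE m)).exactAt (m - j).toNat
    have e : (ComplexShape.embeddingUpIntLE m).f (m - j).toNat = j := by
      change m - ((m - j).toNat : ℤ) = j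
      omega
    rwa [e] at h
  have hz3 : ∀ j : ℤ, j ≤ m → IsZero ((H A j).obj (DRing.toD (K.shortComplexTruncLE m).X₃)) :=
    fun j hj => (isZero_H_toD_iff_exactAt _ j).2 (hx j hj)
  haveI h3 : (DRing.toD (K.shortComplexTruncLE m).X₃).IsGE (m + 1) := by
    rw [DerivedCategory.isGE_iff]
    intro i hi
    exact hz3 i (by omega)
  haveI h3' := isGE_homCx_homCx_of_isGE J a b hJ.vanishes hJ.inj
    (K.shortComplexTruncLE m).X₃ (m + 1)
  have z : ∀ i : ℤ, i < m + 1 - (b - a) → IsZero ((H A i).obj
      (DRing.toD (DRing.homCx (DRing.homCx (K.shortComplexTruncLE m).X₃ J) J))) := fun i hi =>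
    DerivedCategory.isZero_of_isGE _ (m + 1 - (b - a)) i hi
  have h := bidIsoAt_X₂_iff_X₁ J (K.shortComplexTruncLE m) hS hJ.inj (n - 1) n (by omega)
    (hz3 _ (by omega)) (hz3 _ (by omega)) (z _ (by omega)) (z _ (by omega))
  refine h.2 ?_
  -- the truncation is bounded above with finite cohomology
  have hT := DerivedCategory.triangleOfSES_distinguished hS
  have hle : (DRing.toD (K.truncLE m)).IsLE m := by
    change (DerivedCategory.Q.obj (K.truncLE m)).IsLE m
    infer_instance
  have hfin' : ∀ i : ℤ, Module.Finite A (Dual.HD A (DRing.toD (K.truncLE m)) i) := by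
    intro i
    by_cases hi : i ≤ m
    · haveI : IsIso ((H A i).map (DerivedCategory.triangleOfSES hS).mor₁) :=
        isIso_H_mor₁_of_isZero hT (i - 1) i (by omega) (hz3 _ (by omega)) (hz3 _ hi)
      haveI := hfin i
      have e : Dual.HD A (DRing.toD K) i ≃ₗ[A] Dual.HD A (DRing.toD (K.truncLE m)) i :=
        (asIso ((H A i).map (DerivedCategory.triangleOfSES hS).mor₁)).toLinearEquiv.symm
      exact Module.Finite.equiv e
    · haveI : Subsingleton (Dual.HD A (DRing.toD (K.truncLE m)) i) :=
        ModuleCat.subsingleton_of_isZero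
          (DerivedCategory.isZero_of_isLE (DRing.toD (K.truncLE m)) m i (by omega))
      infer_instance
  exact (bidIso_iff J _).1 (bidIso_of_boundedAbove hJ hab (K.truncLE m)
    ⟨m, fun i hi => ModuleCat.subsingleton_of_isZero
      (DerivedCategory.isZero_of_isLE (DRing.toD (K.truncLE m)) m i hi)⟩ hfin') n

end Bi

end Groth.Agent.Lib.Helper18.DR
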