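import Mathlib
import Groth.Agent.Lib.Helper18.HomCxJ
import Groth.Agent.Lib.Helper18.HomCxL
import Groth.Agent.Lib.Helper18.PrecompQis
import Groth.Agent.Lib.Helper2.LocalResolutions
import Groth.Agent.Lib.Helper2.KInjectiveDerived
import Groth.Agent.Lib.Helper2.KInj.Main

/-!
# Computing `RHomCx E` by K-injective or K-projective resolutions (helper18)
-/

set_option autoImplicit false
set_option linter.style.haveILetI false
universe u
open CategoryTheory CategoryTheory.Limits HomologicalComplex
  CochainComplex.HomComplex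

attribute [local instance] HasDerivedCategory.standard

namespace Groth.Agent.Lib.Helper18.DR

namespace RHomK

section Kan

universe v₁ v₂ v₃ u₁ u₂ u₃

variable {C : Type u₁} [Category.{v₁} C] {D : Type u₂} [Category.{v₂} D]
  {H : Type u₃} [Category.{v₃} H]

/-- auxiliary: descend a natural transformation along `e : functor r ⋙ Lh ≅ L` -/
def downβ (r : HomRel C) (Lh : Quotient r ⥤ D) (L : C ⥤ D)
    (e : Quotient.functor r ⋙ Lh ≅ L) (Fh : Quotient r ⥤ H) (G : D ⥤ H) (β : Fh ⟶ Lh ⋙ G) :
    Quotient.functor r ⋙ Fh ⟶ L ⋙ G where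
  app X := β.app ((Quotient.functor r).obj X) ≫ G.map (e.hom.app X)
  naturality X Y f := by
    have h1 := β.naturality ((Quotient.functor r).map f)
    have h2 := e.hom.naturality f
    dsimp at h1 h2 ⊢
    rw [reassoc_of% h1, ← G.map_comp, h2, G.map_comp, Category.assoc]

/-- transfer of the left Kan extension property from `C` to a quotient category of `C` -/
theorem isLeftKanExtension_quotient (r : HomRel C) (Lh : Quotient r ⥤ D) (L : C ⥤ D)
    (e : Quotient.functor r ⋙ Lh ≅ L) (Fh : Quotient r ⥤ H) (RF : D ⥤ H)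
    (αh : Fh ⟶ Lh ⋙ RF) [h : RF.IsLeftKanExtension (downβ r Lh L e Fh RF αh)] :
    RF.IsLeftKanExtension αh := by
  have key : ∀ (G : D ⥤ H) (β : Fh ⟶ Lh ⋙ G) (τ : RF ⟶ G),
      (αh ≫ Functor.whiskerLeft Lh τ = β) ↔
        (downβ r Lh L e Fh RF αh ≫ Functor.whiskerLeft L τ = downβ r Lh L e Fh G β) := by
    intro G β τ
    constructor
    · intro hτ
      ext X
      have h1 := congr_app hτ ((Quotient.functor r).obj X)
      dsimp [downβ] at h1 ⊢
      rw [Category.assoc, τ.naturality, ← Category.assoc, h1]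
    · intro hτ
      refine Quotient.natTrans_ext _ _ ?_
      ext X
      have h1 := congr_app hτ X
      dsimp [downβ] at h1 ⊢
      rw [Category.assoc, τ.naturality, ← Category.assoc] at h1
      have : IsIso (G.map (e.hom.app X)) := inferInstance
      exact (cancel_mono (G.map (e.hom.app X))).1 h1
  refine ⟨⟨IsInitial.ofUniqueHom (fun Y => ?_) (fun Y m => ?_)⟩⟩
  · refine StructuredArrow.homMk (RF.descOfIsLeftKanExtension (downβ r Lh L e Fh RF αh) Y.right
      (downβ r Lh L e Fh Y.right Y.hom)) ?_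
    exact (key Y.right Y.hom _).2 (RF.descOfIsLeftKanExtension_fac _ Y.right _)
  · ext1
    refine RF.hom_ext_of_isLeftKanExtension (downβ r Lh L e Fh RF αh) _ _ ?_
    have hm : αh ≫ Functor.whiskerLeft Lh m.right = Y.hom := StructuredArrow.w m
    rw [(key Y.right Y.hom m.right).1 hm]
    exact (RF.descOfIsLeftKanExtension_fac _ Y.right _).symm

end Kan

section Post

variable {A : Type u} [CommRing A] (E : DRing.Cx A) {L L' : DRing.Cx A}

/-- postcomposition with a cochain of degree `n`, as a linear map on cochains -/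
noncomputable def compRightLinN {n : ℤ} (c : Cochain L L' n) (p q : ℤ) (h : p + n = q) :
    Cochain E L p →ₗ[A] Cochain E L' q where
  toFun z := z.comp c h
  map_add' z z' := by simp
  map_smul' a z := by simp

/-- the cochain of degree `-1` on Hom complexes induced by a cochain of degree `-1` -/
noncomputable def postcompCochain (γ : Cochain L L' (-1)) :
    Cochain (DRing.homCx E L) (DRing.homCx E L') (-1) :=
  Cochain.mk (fun p q hpq => ModuleCat.ofHom (compRightLinN E γ p q (by omega)))

lemma δ_postcompCochain (γ : Cochain L L' (-1)) (f f' : L ⟶ L')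
    (hγ : Cochain.ofHom f = δ (-1) 0 γ + Cochain.ofHom f') :
    Cochain.ofHom (DRing.homCxMap E f) =
      δ (-1) 0 (postcompCochain E γ) + Cochain.ofHom (DRing.homCxMap E f') := by
  refine Cochain.ext _ _ (fun p q hpq => ?_)
  obtain rfl : p = q := by omega
  rw [Cochain.add_v, Cochain.ofHom_v, Cochain.ofHom_v,
    δ_v (-1) 0 (by norm_num) _ p p (by omega) (p - 1) (p + 1) rfl rfl,
    Int.negOnePow_zero, one_smul]
  refine ModuleCat.hom_ext (LinearMap.ext fun (z : Cochain E L p) => ?_)
  change z.comp (Cochain.ofHom f) (add_zero p) =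
    δ (p - 1) p (z.comp γ (by omega)) + (δ p (p + 1) z).comp γ (by omega) +
      z.comp (Cochain.ofHom f') (add_zero p)
  rw [hγ, Cochain.comp_add,
    δ_comp z γ (show p + (-1) = p - 1 by omega) (p + 1) 0 p (by omega) rfl (by norm_num)]
  simp

/-- `Hom•(E, -)` preserves homotopies -/
noncomputable def postcompHomotopy {f f' : L ⟶ L'} (h : Homotopy f f') :
    Homotopy (DRing.homCxMap E f) (DRing.homCxMap E f') :=
  (Cochain.equivHomotopy _ _).symm ⟨postcompCochain E (Cochain.equivHomotopy _ _ h).1,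
    δ_postcompCochain E _ _ _ (Cochain.equivHomotopy _ _ h).2⟩

lemma homCxQ_map_eq_of_homotopy {f f' : L ⟶ L'} (h : Homotopy f f') :
    (DRing.homCxQ E).map f = (DRing.homCxQ E).map f' :=
  Q_map_eq_of_homotopy (postcompHomotopy E h)

/-- `Hom•(E, -) ⋙ Q` on the homotopy category -/
noncomputable def Fh : HomotopyCategory (ModuleCat.{u} A) (ComplexShape.up ℤ) ⥤ Dual.D A :=
  CategoryTheory.Quotient.lift _ (DRing.homCxQ E)
    (fun _ _ _ _ ⟨h⟩ => homCxQ_map_eq_of_homotopy E h)

variable [DRing.HasRHomCx E]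

/-- the unit of `RHomCx E` -/
noncomputable abbrev unit : DRing.homCxQ E ⟶ DerivedCategory.Q ⋙ DRing.RHomCx E :=
  (DRing.homCxQ E).totalRightDerivedUnit DerivedCategory.Q
    (HomologicalComplex.quasiIso (ModuleCat.{u} A) (ComplexShape.up ℤ))

/-- the unit of `RHomCx E` on the homotopy category, before descent -/
noncomputable def unitH₀ : HomotopyCategory.quotient _ _ ⋙ Fh E ⟶
    HomotopyCategory.quotient _ _ ⋙ DerivedCategory.Qh ⋙ DRing.RHomCx E :=
  (Quotient.lift.isLift _ (DRing.homCxQ E)
    (fun _ _ _ _ ⟨h⟩ => homCxQ_map_eq_of_homotopy E h)).hom ≫ unit E ≫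
    Functor.whiskerRight (DerivedCategory.quotientCompQhIso (ModuleCat.{u} A)).inv
      (DRing.RHomCx E) ≫ (Functor.associator _ _ _).hom

/-- the unit of `RHomCx E` on the homotopy category -/
noncomputable def unitH : Fh E ⟶ DerivedCategory.Qh ⋙ DRing.RHomCx E :=
  Quotient.natTransLift _ (unitH₀ E)

lemma unitH_app (X : DRing.Cx A) :
    (unitH E).app ((HomotopyCategory.quotient _ _).obj X) = (unit E).app X ≫
      (DRing.RHomCx E).map ((DerivedCategory.quotientCompQhIso (ModuleCat.{u} A)).inv.app X) := by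
  change (unitH₀ E).app X = _
  dsimp [unitH₀]
  erw [Category.id_comp, Category.comp_id]

instance isRightDerivedFunctor_unitH :
    (DRing.RHomCx E).IsRightDerivedFunctor (unitH E)
      (HomotopyCategory.quasiIso (ModuleCat.{u} A) (ComplexShape.up ℤ)) := by
  constructor
  have h0 : (DRing.RHomCx E).IsLeftKanExtension (unit E) :=
    Functor.IsRightDerivedFunctor.isLeftKanExtension _ _
      (HomologicalComplex.quasiIso (ModuleCat.{u} A) (ComplexShape.up ℤ))
  have h1 : downβ _ DerivedCategory.Qh DerivedCategory.Q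
      (DerivedCategory.quotientCompQhIso (ModuleCat.{u} A)) (Fh E) (DRing.RHomCx E) (unitH E) =
      (show HomotopyCategory.quotient _ _ ⋙ Fh E ⟶ DerivedCategory.Q ⋙ DRing.RHomCx E from
        unit E) := by
    ext X
    change (unitH E).app ((HomotopyCategory.quotient _ _).obj X) ≫ (DRing.RHomCx E).map
      ((DerivedCategory.quotientCompQhIso (ModuleCat.{u} A)).hom.app X) = (unit E).app X
    have : (DerivedCategory.quotientCompQhIso (ModuleCat.{u} A)).inv.app X ≫
        (DerivedCategory.quotientCompQhIso (ModuleCat.{u} A)).hom.app X = 𝟙 _ :=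
      Iso.inv_hom_id_app _ X
    rw [unitH_app]
    erw [Category.assoc, ← CategoryTheory.Functor.map_comp, this,
      CategoryTheory.Functor.map_id, Category.comp_id]
  haveI : (DRing.RHomCx E).IsLeftKanExtension (downβ _ DerivedCategory.Qh DerivedCategory.Q
      (DerivedCategory.quotientCompQhIso (ModuleCat.{u} A)) (Fh E) (DRing.RHomCx E)
        (unitH E)) := by
    rw [h1]
    exact h0
  exact isLeftKanExtension_quotient _ DerivedCategory.Qh DerivedCategory.Q
    (DerivedCategory.quotientCompQhIso (ModuleCat.{u} A)) (Fh E) (DRing.RHomCx E) (unitH E)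

lemma hasKInj (K : DRing.Cx A) : ∃ (I : DRing.Cx A) (f : K ⟶ I), I.IsKInjective ∧ QuasiIso f := by
  obtain ⟨I, f, h1, h2, -, -⟩ := Groth.Agent.Lib.Helper2.KInj.exists_kInjective_resolution K
  exact ⟨I, f, h1, h2⟩

/-- **the unit of `RHomCx E` is an isomorphism on K-injective complexes** -/
theorem isIso_unit_app (J : DRing.Cx A) [J.IsKInjective] : IsIso ((unit E).app J) := by
  have h := Groth.Agent.Lib.Helper2.LocalRes.isIso_unit_app
    (HomotopyCategory.quasiIso (ModuleCat.{u} A) (ComplexShape.up ℤ))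
    (Groth.Agent.Lib.Helper2.exists_local_resolution hasKInj) (Fh E) DerivedCategory.Qh
    (unitH E) ((HomotopyCategory.quotient _ _).obj J)
    (Groth.Agent.Lib.Helper2.isLocal_quotient_obj_of_isKInjective J inferInstance)
  rw [unitH_app] at h
  exact @IsIso.of_isIso_comp_right _ _ _ _ _ ((unit E).app J)
    ((DRing.RHomCx E).map ((DerivedCategory.quotientCompQhIso (ModuleCat.{u} A)).inv.app J))
    inferInstance h

/-- `RHom(E, L) ≅ Q(Hom•(E, J))` for a K-injective resolution `L ⟶ J` -/
theorem nonempty_RHomCx_iso_of_kinjective {L J : DRing.Cx A} (j : L ⟶ J) [QuasiIso j]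
    [J.IsKInjective] :
    Nonempty ((DRing.RHomCx E).obj (DRing.toD L) ≅ DRing.toD (DRing.homCx E J)) := by
  haveI := isIso_unit_app E J
  exact ⟨(DRing.RHomCx E).mapIso (asIso (DerivedCategory.Q.map j)) ≪≫
    (asIso ((unit E).app J)).symm⟩

/-- `RHom(E, L) ≅ Q(Hom•(P, L))` for a K-projective resolution `P ⟶ E` -/
theorem nonempty_RHomCx_iso_of_kprojective {P : DRing.Cx A} [P.IsKProjective] (b : P ⟶ E)
    [QuasiIso b] (L : DRing.Cx A) :
    Nonempty ((DRing.RHomCx E).obj (DRing.toD L) ≅ DRing.toD (DRing.homCx P L)) := by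
  obtain ⟨J, j, hJ, hj⟩ := hasKInj L
  obtain ⟨i1⟩ := nonempty_RHomCx_iso_of_kinjective E j
  haveI := HomCx.quasiIso_precomp J b
  haveI := HomCx.quasiIso_homCxMap P j
  exact ⟨i1 ≪≫ asIso (DerivedCategory.Q.map (HomCx.precomp b J)) ≪≫
    (asIso (DerivedCategory.Q.map (DRing.homCxMap P j))).symm⟩

/-- `RHom(E, L) ≅ Q(Hom•(P, L))` for `P` K-projective isomorphic to `E` in `D(A)` -/
theorem nonempty_RHomCx_iso_of_iso {P : DRing.Cx A} [P.IsKProjective]
    (e : DRing.toD P ≅ DRing.toD E) (L : DRing.Cx A) :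
    Nonempty ((DRing.RHomCx E).obj (DRing.toD L) ≅ DRing.toD (DRing.homCx P L)) := by
  obtain ⟨b, hb⟩ := exists_map_eq P E e.hom
  haveI : IsIso (DerivedCategory.Q.map b) := by rw [hb]; infer_instance
  haveI : QuasiIso b := (DerivedCategory.isIso_Q_map_iff_quasiIso _ b).1 inferInstance
  exact nonempty_RHomCx_iso_of_kprojective E b L

end Post

end RHomK

end Groth.Agent.Lib.Helper18.DR
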