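import Mathlib
import Groth.Agent.Lib.Helper18.BiI
import Groth.Agent.Lib.Helper18.RHomKA
import Groth.Agent.Lib.Helper18.DTenB
import Groth.Agent.Lib.Helper18.DRInjAmp2

/-!
# Biduality for dualizing complexes (helper18)
-/

set_option autoImplicit false
set_option linter.style.haveILetI false
universe u
open CategoryTheory CategoryTheory.Limits CategoryTheory.Pretriangulated CochainComplex
  CochainComplex.HomComplex

attribute [local instance] HasDerivedCategory.standard

namespace Groth.Agent.Lib.Helper18.DR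

namespace Bi

open HomCx

variable {A : Type u} [CommRing A]

/-- `Hom•(-, J)` sends isomorphic objects of `D(A)` to isomorphic objects (`J` K-injective) -/
theorem nonempty_homCx_iso_of_iso (J : DRing.Cx A) [J.IsKInjective] (E E' : DRing.Cx A)
    (e : DRing.toD E ≅ DRing.toD E') :
    Nonempty (DRing.toD (DRing.homCx E J) ≅ DRing.toD (DRing.homCx E' J)) := by
  obtain ⟨P, π, hP, hπ⟩ := DTenB.exists_kprojective_quasiIso E
  haveI := hP
  haveI := hπ
  obtain ⟨f, hf⟩ := exists_map_eq P E' (DerivedCategory.Q.map π ≫ e.hom)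
  haveI : IsIso (DerivedCategory.Q.map f) := by rw [hf]; infer_instance
  haveI : QuasiIso f := (DerivedCategory.isIso_Q_map_iff_quasiIso _ f).1 inferInstance
  haveI := quasiIso_precomp J π
  haveI := quasiIso_precomp J f
  exact ⟨asIso (DerivedCategory.Q.map (precomp π J)) ≪≫
    (asIso (DerivedCategory.Q.map (precomp f J))).symm⟩

/-- a dualizing complex is represented by a bounded complex of injectives which is a
"dual complex" in the sense of `Bid.IsDualCx` -/
theorem exists_isDualCx (ω : Dual.D A) (hω : Dual.IsDualizing A ω) :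
    ∃ (J : DRing.Cx A) (a b : ℤ), a ≤ b ∧ Bid.IsDualCx J a b ∧ Nonempty (DRing.toD J ≅ ω) := by
  obtain ⟨a, b, J, hv, hinj, ⟨e⟩⟩ : DRing.HasFiniteInjDim A ω :=
    (hasFiniteInjDim_iff ω).2 hω.finite_injective_dimension
  refine ⟨J, a, max a b, le_max_left _ _, ⟨VanishesOutside.mono hv le_rfl (le_max_right _ _), hinj,
    Du.bijective_smul_id_of_iso e.symm hω.toEnd_bijective, fun i hi =>
    Du.subsingleton_hom_shift_of_iso e.symm i (hω.ext_self_subsingleton i hi)⟩, ⟨e⟩⟩

variable [IsNoetherianRing A]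

/-- **biduality for dualizing complexes** (S1819) -/
theorem biduality (ω : Dual.D A) (hω : Dual.IsDualizing A ω) (K : DRing.Cx A)
    [DRing.HasRHomCx K] (hK : ∀ i : ℤ, Module.Finite A (Dual.HD A (DRing.toD K) i)) :
    (∀ i : ℤ, Module.Finite A (Dual.HD A ((DRing.RHomCx K).obj ω) i)) ∧
      ∀ (E : DRing.Cx A) [DRing.HasRHomCx E],
        Nonempty (DRing.toD E ≅ (DRing.RHomCx K).obj ω) →
          Nonempty ((DRing.RHomCx E).obj ω ≅ DRing.toD K) := by
  obtain ⟨J, a, b, hab, hJ, ⟨e⟩⟩ := exists_isDualCx ω hω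
  haveI := isKInjective_of_isDualCx hJ
  have hiso : ∀ (E : DRing.Cx A) [DRing.HasRHomCx E],
      Nonempty ((DRing.RHomCx E).obj ω ≅ DRing.toD (DRing.homCx E J)) := by
    intro E _
    obtain ⟨i⟩ := RHomK.nonempty_RHomCx_iso_of_kinjective E (𝟙 J)
    exact ⟨(DRing.RHomCx E).mapIso e.symm ≪≫ i⟩
  obtain ⟨iK⟩ := hiso K
  constructor
  · intro i
    have hJfin : ∀ j : ℤ, Module.Finite A (Dual.HD A (DRing.toD J) j) := fun j => by
      haveI := hω.finite_cohomology j
      exact Module.Finite.equiv ((H A j).mapIso e).toLinearEquiv.symm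
    have hJfid : DRing.HasFiniteInjDim A (DRing.toD J) :=
      ⟨a, b, J, hJ.vanishes, hJ.inj, ⟨Iso.refl _⟩⟩
    haveI := finite_hom_shift_of_finiteInjDim (DRing.toD K) (DRing.toD J) hK hJfin hJfid i
    haveI : Module.Finite A ((H A i).obj (DRing.toD (DRing.homCx K J))) :=
      Module.Finite.equiv (homologyEquivInj K J (i - 1) i (i + 1) (by omega) rfl).symm
    exact Module.Finite.equiv ((H A i).mapIso iK).toLinearEquiv.symm
  · intro E _ ⟨φ⟩
    obtain ⟨iE⟩ := hiso E
    obtain ⟨i3⟩ := nonempty_homCx_iso_of_iso J E (DRing.homCx K J) (φ ≪≫ iK)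
    have hbid : BidIso J K := bidIso_of_finite hJ hab K hK
    haveI : IsIso (DerivedCategory.Q.map (bidL K J)) := hbid
    exact ⟨iE ≪≫ i3 ≪≫ (asIso (DerivedCategory.Q.map (bidL K J))).symm⟩

end Bi

end Groth.Agent.Lib.Helper18.DR
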