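import Mathlib
import Groth.Prelude.Def_DRing4

/-!
# `Hom(flat, injective)` is injective, `Hom(injective, injective)` is flat (Noetherian case)
(helper18)
-/

set_option autoImplicit false
set_option linter.style.haveILetI false
universe u
open CategoryTheory CategoryTheory.Limits CochainComplex CochainComplex.HomComplex

namespace Groth.Agent.Lib.Helper18.DR

namespace FlatHom

variable {A : Type u} [CommRing A]

/-- a map into an injective module factors through any map whose kernel it kills -/
lemma exists_factor_of_ker_le {X Y Q : Type u} [AddCommGroup X] [Module A X] [AddCommGroup Y]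
    [Module A Y] [AddCommGroup Q] [Module A Q] [Module.Injective A Q] (f : X →ₗ[A] Y)
    (g : X →ₗ[A] Q) (h : LinearMap.ker f ≤ LinearMap.ker g) : ∃ Ψ : Y →ₗ[A] Q, Ψ ∘ₗ f = g := by
  have hinj : Function.Injective ((LinearMap.ker f).liftQ f le_rfl) :=
    LinearMap.ker_eq_bot.1 (Submodule.ker_liftQ_eq_bot _ _ _ le_rfl)
  obtain ⟨Ψ, hΨ⟩ := Module.Injective.extension_property A Q _ _
    ((LinearMap.ker f).liftQ f le_rfl) hinj ((LinearMap.ker f).liftQ g h)
  refine ⟨Ψ, LinearMap.ext fun x => ?_⟩
  have := LinearMap.congr_fun hΨ (Submodule.Quotient.mk x)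
  simpa using this

/-- **`Hom(flat, injective)` is injective** -/
theorem injective_linearMap_of_flat (M I : Type u) [AddCommGroup M] [Module A M]
    [AddCommGroup I] [Module A I] [Module.Flat A M] [Module.Injective A I] :
    Module.Injective A (M →ₗ[A] I) := by
  refine ⟨fun X Y _ _ _ _ f hf g => ?_⟩
  have hinj : Function.Injective (f.rTensor M) :=
    Module.Flat.rTensor_preserves_injective_linearMap f hf
  obtain ⟨h', hh'⟩ := Module.Injective.extension_property A I _ _ (f.rTensor M) hinj
    (TensorProduct.lift g)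
  refine ⟨TensorProduct.curry h', fun x => LinearMap.ext fun m => ?_⟩
  have := LinearMap.congr_fun hh' (x ⊗ₜ[A] m)
  simpa using this

/-- relations in `Hom(I, J)` (both injective) are trivialized by any generating family of the
module of relations of the coefficients -/
lemma exists_trivialization {r s : ℕ} (a : Fin r → A) (b : Fin s → Fin r → A)
    (hb : Submodule.span A (Set.range b) = LinearMap.ker (Fintype.linearCombination A a))
    (I J : Type u) [AddCommGroup I] [Module A I] [AddCommGroup J] [Module A J]
    [Module.Injective A I] [Module.Injective A J]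
    (φ : Fin r → (I →ₗ[A] J)) (hrel : ∑ k, a k • φ k = 0) :
    ∃ ψ : Fin s → (I →ₗ[A] J), ∀ k, φ k = ∑ l, b l k • ψ l := by
  classical
  let Bst : (Fin r → I) →ₗ[A] (Fin s → I) :=
    LinearMap.pi (fun l => ∑ k, b l k • (LinearMap.proj k : (Fin r → I) →ₗ[A] I))
  have hBst : ∀ (x : Fin r → I) (l : Fin s), Bst x l = ∑ k, b l k • x k := fun x l => by
    simp [Bst, LinearMap.sum_apply]
  let Φ : (Fin r → I) →ₗ[A] J := ∑ k, (φ k) ∘ₗ (LinearMap.proj k : (Fin r → I) →ₗ[A] I)
  have hΦ : ∀ x : Fin r → I, Φ x = ∑ k, φ k (x k) := fun x => by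
    simp [Φ, LinearMap.sum_apply]
  have hker : LinearMap.ker Bst ≤ LinearMap.ker Φ := by
    intro x hx
    rw [LinearMap.mem_ker] at hx ⊢
    have hx' : ∀ l, ∑ k, b l k • x k = 0 := fun l => by rw [← hBst, hx]; rfl
    have hk : LinearMap.ker (Fintype.linearCombination A a) ≤
        LinearMap.ker (Fintype.linearCombination A x) := by
      rw [← hb, Submodule.span_le]
      rintro _ ⟨l, rfl⟩
      change b l ∈ LinearMap.ker (Fintype.linearCombination A x)
      rw [LinearMap.mem_ker, Fintype.linearCombination_apply]
      exact hx' l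
    obtain ⟨Ψ', hΨ'⟩ := exists_factor_of_ker_le (Fintype.linearCombination A a)
      (Fintype.linearCombination A x) hk
    have hxk : ∀ k, x k = a k • Ψ' 1 := fun k => by
      have h1 := LinearMap.congr_fun hΨ' (Pi.single k (1 : A))
      simp only [LinearMap.comp_apply, Fintype.linearCombination_apply, Pi.single_apply,
        ite_smul, one_smul, zero_smul, Finset.sum_ite_eq', Finset.mem_univ, if_true] at h1
      rw [← h1, ← map_smul, smul_eq_mul, mul_one]
    rw [hΦ]
    have h2 : ∀ k, φ k (x k) = (a k • φ k) (Ψ' 1) := fun k => by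
      rw [hxk k, map_smul, LinearMap.smul_apply]
    rw [Finset.sum_congr rfl (fun k _ => h2 k), ← LinearMap.sum_apply, hrel, LinearMap.zero_apply]
  obtain ⟨Ψ, hΨ⟩ := exists_factor_of_ker_le Bst Φ hker
  refine ⟨fun l => Ψ ∘ₗ LinearMap.single A (fun _ => I) l, fun k => LinearMap.ext fun x => ?_⟩
  have h1 : φ k x = Φ (Pi.single k x) := by
    rw [hΦ, Finset.sum_eq_single k (fun j _ hj => by rw [Pi.single_eq_of_ne hj, map_zero])
      (fun h => absurd (Finset.mem_univ k) h), Pi.single_eq_same]
  have h2 : Bst (Pi.single k x) = ∑ l, Pi.single l (b l k • x) := by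
    funext l
    rw [hBst, Finset.sum_apply]
    simp [Pi.single_apply]
  rw [h1, ← hΨ, LinearMap.comp_apply, h2, map_sum, LinearMap.sum_apply]
  refine Finset.sum_congr rfl (fun l _ => ?_)
  rw [LinearMap.smul_apply, LinearMap.comp_apply, LinearMap.coe_single, Pi.single_smul, map_smul]

variable [IsNoetherianRing A]

/-- **products of `Hom(injective, injective)` are flat over a Noetherian ring** -/
theorem flat_pi_linearMap {ι : Type*} (I J : ι → Type u) [∀ t, AddCommGroup (I t)]
    [∀ t, Module A (I t)] [∀ t, AddCommGroup (J t)] [∀ t, Module A (J t)]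
    [∀ t, Module.Injective A (I t)] [∀ t, Module.Injective A (J t)] :
    Module.Flat A (∀ t, I t →ₗ[A] J t) := by
  refine Module.Flat.of_forall_isTrivialRelation ?_
  intro r a z hrel
  obtain ⟨s, b, hb⟩ := (Submodule.fg_iff_exists_fin_generating_family).1
    (IsNoetherian.noetherian (LinearMap.ker (Fintype.linearCombination A a)))
  have hcomp : ∀ t, ∑ k, a k • (z k t) = 0 := fun t => by
    have := congrFun hrel t
    simpa using this
  choose ψ hψ using fun t => exists_trivialization a b hb (I t) (J t) (fun k => z k t) (hcomp t)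
  refine ⟨s, fun k l => b l k, fun l t => ψ t l, fun k => ?_, fun l => ?_⟩
  · funext t
    rw [hψ t k]
    simp [Finset.sum_apply]
  · have hl : b l ∈ LinearMap.ker (Fintype.linearCombination A a) := by
      rw [← hb]
      exact Submodule.subset_span ⟨l, rfl⟩
    rw [LinearMap.mem_ker, Fintype.linearCombination_apply] at hl
    simpa [mul_comm] using hl

end FlatHom

end Groth.Agent.Lib.Helper18.DR
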