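import Mathlib
import Groth.Agent.Lib.Helper18.FlatHom
import Groth.Prelude.Def_DRing2

/-!
# Terms of `Hom•(F, J)`: injective for `F` flat and `J` injective, flat for both injective
(helper18)
-/

set_option autoImplicit false
set_option linter.style.haveILetI false
universe u
open CategoryTheory CategoryTheory.Limits CochainComplex CochainComplex.HomComplex

namespace Groth.Agent.Lib.Helper18.DR

namespace FlatHom

variable {A : Type u} [CommRing A]

lemma injective_of_linearEquiv {M N : Type u} [AddCommGroup M] [Module A M] [AddCommGroup N]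
    [Module A N] (e : M ≃ₗ[A] N) [Module.Injective A M] : Module.Injective A N := by
  refine ⟨fun X Y _ _ _ _ f hf g => ?_⟩
  obtain ⟨h, hh⟩ := Module.Injective.extension_property A M _ _ f hf (e.symm.toLinearMap ∘ₗ g)
  refine ⟨e.toLinearMap ∘ₗ h, fun x => ?_⟩
  have := LinearMap.congr_fun hh x
  simp only [LinearMap.comp_apply, LinearEquiv.coe_coe] at this ⊢
  rw [this, LinearEquiv.apply_symm_apply]

/-- cochains as a product of modules of linear maps -/
noncomputable def cochainEquiv (F G : DRing.Cx A) (n : ℤ) :
    Cochain F G n ≃ₗ[A] (∀ T : Triplet n, F.X T.p →ₗ[A] G.X T.q) :=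
  LinearEquiv.piCongrRight (fun _ => ModuleCat.homLinearEquiv)

theorem termwiseInjective_homCx (F J : DRing.Cx A) (hF : DRing.TermwiseFlat F)
    (hJ : DRing.TermwiseInjective J) : DRing.TermwiseInjective (DRing.homCx F J) := by
  intro n
  haveI : ∀ T : Triplet n, Module.Injective A (F.X T.p →ₗ[A] J.X T.q) := fun T => by
    haveI := hF T.p
    haveI := hJ T.q
    exact injective_linearMap_of_flat _ _
  exact injective_of_linearEquiv (cochainEquiv F J n).symm

theorem termwiseFlat_homCx [IsNoetherianRing A] (I J : DRing.Cx A)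
    (hI : DRing.TermwiseInjective I) (hJ : DRing.TermwiseInjective J) :
    DRing.TermwiseFlat (DRing.homCx I J) := by
  intro n
  haveI : ∀ T : Triplet n, Module.Injective A (I.X T.p) := fun T => hI T.p
  haveI : ∀ T : Triplet n, Module.Injective A (J.X T.q) := fun T => hJ T.q
  haveI : Module.Flat A (∀ T : Triplet n, I.X T.p →ₗ[A] J.X T.q) :=
    flat_pi_linearMap (fun T : Triplet n => I.X T.p) (fun T : Triplet n => J.X T.q)
  exact Module.Flat.of_linearEquiv (cochainEquiv I J n)

theorem vanishesOutside_homCx (F J : DRing.Cx A) {a b c d : ℤ}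
    (hF : DRing.VanishesOutside F c d) (hJ : DRing.VanishesOutside J a b) :
    DRing.VanishesOutside (DRing.homCx F J) (a - d) (b - c) := by
  intro n hn
  have hsub : Subsingleton (Cochain F J n) := by
    refine ⟨fun z z' => Cochain.ext _ _ (fun p q hpq => ?_)⟩
    by_cases hp : p < c ∨ d < p
    · exact (hF p hp).eq_of_src _ _
    · exact (hJ q (by omega)).eq_of_tgt _ _
  exact @ModuleCat.isZero_of_subsingleton _ _ (ModuleCat.of A (Cochain F J n)) hsub

end FlatHom

end Groth.Agent.Lib.Helper18.DR
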