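import Mathlib
import Groth.Agent.Lib.Helper18.BiJ
import Groth.Agent.Lib.Helper18.FlatHomB

/-!
# Finite Tor-dimension versus finite injective dimension of the dual (helper18)
-/

set_option autoImplicit false
set_option linter.style.haveILetI false
universe u
open CategoryTheory CategoryTheory.Limits CategoryTheory.Pretriangulated CochainComplex
  CochainComplex.HomComplex

attribute [local instance] HasDerivedCategory.standard

namespace Groth.Agent.Lib.Helper18.DR

namespace Bi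

open HomCx FlatHom

variable {A : Type u} [CommRing A] [IsNoetherianRing A]

/-- S11178 -/
theorem finiteTorDim_iff_finiteInjDim_RHom (ω : Dual.D A) (hω : Dual.IsDualizing A ω)
    (G : DRing.Cx A) [DRing.HasRHomCx G]
    (hfin : ∀ i : ℤ, Module.Finite A (Dual.HD A (DRing.toD G) i)) :
    DRing.HasFiniteTorDimCx A (DRing.toD G) ↔
      DRing.HasFiniteInjDim A ((DRing.RHomCx G).obj ω) := by
  obtain ⟨J, a, b, hab, hJ, ⟨e⟩⟩ := exists_isDualCx ω hω
  haveI := isKInjective_of_isDualCx hJ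
  obtain ⟨i0⟩ := RHomK.nonempty_RHomCx_iso_of_kinjective G (𝟙 J)
  have iG : (DRing.RHomCx G).obj ω ≅ DRing.toD (DRing.homCx G J) :=
    (DRing.RHomCx G).mapIso e.symm ≪≫ i0
  constructor
  · rintro ⟨c, d, F, hFv, hFf, ⟨eF⟩⟩
    obtain ⟨i3⟩ := nonempty_homCx_iso_of_iso J F G eF
    exact ⟨a - d, b - c, DRing.homCx F J, vanishesOutside_homCx F J hFv hJ.vanishes,
      termwiseInjective_homCx F J hFf hJ.inj, ⟨i3 ≪≫ iG.symm⟩⟩
  · rintro ⟨c, d, I, hIv, hIi, ⟨eI⟩⟩
    obtain ⟨i3⟩ := nonempty_homCx_iso_of_iso J I (DRing.homCx G J) (eI ≪≫ iG)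
    have hbid : BidIso J G := bidIso_of_finite hJ hab G hfin
    haveI : IsIso (DerivedCategory.Q.map (bidL G J)) := hbid
    exact ⟨a - d, b - c, DRing.homCx I J, vanishesOutside_homCx I J hIv hJ.vanishes,
      termwiseFlat_homCx I J hIi hJ.inj,
      ⟨i3 ≪≫ (asIso (DerivedCategory.Q.map (bidL G J))).symm⟩⟩

end Bi

end Groth.Agent.Lib.Helper18.DR
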