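import Mathlib
import Groth.Agent.Lib.Helper18.ExtDimB
import Groth.Agent.Lib.Helper18.UniqC
import Groth.Agent.Lib.Helper4.Sk
import Groth.Agent.S0368
import Groth.Agent.S19859

/-!
# The Cohen–Macaulay locus via a dualizing complex, I: the local criterion (helper18)
-/

set_option autoImplicit false
set_option linter.style.haveILetI false
universe u
open CategoryTheory CategoryTheory.Limits CategoryTheory.Pretriangulated DerivedCategory

attribute [local instance] HasDerivedCategory.standard

namespace Groth.Agent.Lib.Helper18.DR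

namespace CMLoc

open HomLoc HomBC MaxCrit Uniq Norm Dim ExtDim

section loc

variable {B : Type u} [CommRing B] [IsLocalRing B] [IsNoetherianRing B]

/-- shifting twice -/
lemma nontrivial_hom_shift_shift_iff (X ω : Dual.D B) (n j : ℤ) :
    Nontrivial (X ⟶ (ω⟦n⟧)⟦j⟧) ↔ Nontrivial (X ⟶ ω⟦n + j⟧) := by
  let c : (ω⟦n⟧)⟦j⟧ ≅ ω⟦n + j⟧ := ((shiftFunctorAdd' (Dual.D B) n j (n + j) rfl).app ω).symm
  constructor
  · intro h
    obtain ⟨x, y, hxy⟩ := h
    exact ⟨x ≫ c.hom, y ≫ c.hom, fun h => hxy ((cancel_mono c.hom).1 h)⟩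
  · intro h
    obtain ⟨x, y, hxy⟩ := h
    exact ⟨x ≫ c.inv, y ≫ c.inv, fun h => hxy ((cancel_mono c.inv).1 h)⟩

/-- **(CM1)** a nonzero finite module over a Noetherian local ring with dualizing complex `ω` is
Cohen–Macaulay iff `Ext^i(N, ω)` is nonzero for only one `i` -/
theorem cm_iff_unique_degree (ω : Dual.D B) (hω : Dual.IsDualizing B ω) (N : Type u)
    [AddCommGroup N] [Module B N] [Module.Finite B N] [Nontrivial N] :
    LocCoh.IsCohenMacaulayModule B N ↔
      ∀ i j : ℤ, Nontrivial (Dual.inD B N ⟶ ω⟦i⟧) → Nontrivial (Dual.inD B N ⟶ ω⟦j⟧) → i = j := by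
  obtain ⟨n, hn⟩ := exists_isNormalized_shift ω hω
  have hω' := InvTwist.isDualizing_shift ω hω n
  obtain ⟨d, hd⟩ := Groth.Agent.Lib.Helper4.exists_nat_supportDim (R := B) (M := N)
  have hd' : Module.supportDim B N = (d : WithBot ℕ∞) := hd
  have hnt := Groth.Agent.S19859.result B (ω⟦n⟧) hω' hn N d hd'
  rw [Groth.Agent.S0368.result B (ω⟦n⟧) hω' hn N d hd']
  constructor
  · intro h
    have key : ∀ i : ℤ, Nontrivial (Dual.inD B N ⟶ ω⟦i⟧) → i = n - d := by
      intro i hi
      by_contra hne
      have h1 : Nontrivial (Dual.inD B N ⟶ (ω⟦n⟧)⟦-(n - i)⟧) := by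
        rw [nontrivial_hom_shift_shift_iff]
        have : n + -(n - i) = i := by omega
        rw [this]
        exact hi
      haveI := h (n - i) (by omega)
      exact not_subsingleton _ ‹_›
    intro i j hi hj
    rw [key i hi, key j hj]
  · intro h i hi
    by_contra hns
    rw [not_subsingleton_iff_nontrivial, nontrivial_hom_shift_shift_iff] at hns
    rw [nontrivial_hom_shift_shift_iff] at hnt
    have := h _ _ hns hnt
    omega

end loc

end CMLoc

end Groth.Agent.Lib.Helper18.DR
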