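import Mathlib
import Groth.Agent.Lib.Helper18.CMLocA

/-!
# The Cohen–Macaulay locus via a dualizing complex, II: globalization (helper18)
-/

set_option autoImplicit false
set_option linter.style.haveILetI false
universe u
open CategoryTheory CategoryTheory.Limits CategoryTheory.Pretriangulated DerivedCategory

attribute [local instance] HasDerivedCategory.standard

namespace Groth.Agent.Lib.Helper18.DR

namespace CMLoc

open HomLoc HomBC MaxCrit Uniq Norm Dim ExtDim

section glob

variable {A : Type u} [CommRing A] [IsNoetherianRing A]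

/-- extension of scalars to `A_p` is the localized module -/
noncomputable def extMLocIso (p : PrimeSpectrum A) (M : Type u) [AddCommGroup M] [Module A M] :
    (extM (A := A) (B := Localization.AtPrime p.asIdeal)).obj (ModuleCat.of A M) ≅
      ModuleCat.of (Localization.AtPrime p.asIdeal) (LocalizedModule p.asIdeal.primeCompl M) :=
  ((extMEquiv (B := Localization.AtPrime p.asIdeal) (ModuleCat.of A M)).trans
    (LocalizedModule.equivTensorProduct p.asIdeal.primeCompl M).symm).toModuleIso

lemma finite_localizedModule (p : PrimeSpectrum A) (M : Type u) [AddCommGroup M] [Module A M]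
    [Module.Finite A M] :
    Module.Finite (Localization.AtPrime p.asIdeal) (LocalizedModule p.asIdeal.primeCompl M) := by
  haveI : Module.Finite A (ModuleCat.of A M) := ‹_›
  haveI := finite_extM (B := Localization.AtPrime p.asIdeal) (ModuleCat.of A M)
  exact Module.Finite.equiv (extMLocIso p M).toLinearEquiv

variable (ω : Dual.D A) (M : Type u) [AddCommGroup M] [Module A M] [Module.Finite A M]

/-- the support of `Ext^i(M, ω)` in terms of the localizations -/
theorem mem_support_hom_iff (n₀ : ℤ) [ω.IsGE n₀] (p : PrimeSpectrum A) (i : ℤ) :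
    p ∈ Module.support A (Dual.inD A M ⟶ ω⟦i⟧) ↔
      Nontrivial (Dual.inD (Localization.AtPrime p.asIdeal)
        (LocalizedModule p.asIdeal.primeCompl M) ⟶ (locAt ω p)⟦i⟧) := by
  haveI : Module.Finite A (ModuleCat.of A M) := ‹_›
  rw [Module.mem_support_iff, ← not_subsingleton_iff_nontrivial,
    ← not_subsingleton_iff_nontrivial]
  change ¬ Subsingleton (LocalizedModule p.asIdeal.primeCompl (Sg 0 (ModuleCat.of A M) ⟶ ω⟦i⟧)) ↔ _
  rw [subsingleton_localizedModule_hom_iff p.asIdeal.primeCompl (isLocOf_locAt ω p) n₀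
    (ModuleCat.of A M) i]
  let iso := (singleFunctor (ModuleCat.{u} (Localization.AtPrime p.asIdeal)) 0).mapIso
    (extMLocIso p M)
  refine not_congr ?_
  constructor
  · intro h
    exact ⟨fun x y => by
      rw [← cancel_epi iso.hom]
      exact h.elim _ _⟩
  · intro h
    exact ⟨fun x y => by
      rw [← cancel_epi iso.inv]
      exact h.elim _ _⟩

/-- **(CM2)** pointwise criterion -/
theorem subsingleton_or_cm_iff (hω : Dual.IsDualizing A ω) (p : PrimeSpectrum A) :
    (Subsingleton (LocalizedModule p.asIdeal.primeCompl M) ∨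
      LocCoh.IsCohenMacaulayModule (Localization.AtPrime p.asIdeal)
        (LocalizedModule p.asIdeal.primeCompl M)) ↔
      ∀ i j : ℤ, p ∈ Module.support A (Dual.inD A M ⟶ ω⟦i⟧) →
        p ∈ Module.support A (Dual.inD A M ⟶ ω⟦j⟧) → i = j := by
  obtain ⟨a, b, hab⟩ := hω.finite_injective_dimension
  have hfid : FidIn ω a b := hab
  haveI := hfid.isGE
  haveI := finite_localizedModule p M
  by_cases hM : Subsingleton (LocalizedModule p.asIdeal.primeCompl M)
  · refine iff_of_true (Or.inl hM) (fun i j hi _ => ?_)
    exfalso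
    rw [mem_support_hom_iff ω M a p i, ← not_subsingleton_iff_nontrivial] at hi
    apply hi
    have hz : IsZero (Dual.inD (Localization.AtPrime p.asIdeal)
        (LocalizedModule p.asIdeal.primeCompl M)) :=
      Functor.map_isZero _ (ModuleCat.isZero_of_subsingleton _)
    exact ⟨fun x y => hz.eq_of_src x y⟩
  · have hnt : Nontrivial (LocalizedModule p.asIdeal.primeCompl M) :=
      not_subsingleton_iff_nontrivial.1 hM
    rw [or_iff_right hM, cm_iff_unique_degree (locAt ω p) (isDualizing_locAt ω hω p)]
    refine forall_congr' (fun i => forall_congr' (fun j => ?_))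
    rw [mem_support_hom_iff ω M a p i, mem_support_hom_iff ω M a p j]

/-- **openness of the Cohen–Macaulay locus of a finite module** -/
theorem isOpen_cm_locus (hω : Dual.IsDualizing A ω) :
    IsOpen {p : PrimeSpectrum A | Subsingleton (LocalizedModule p.asIdeal.primeCompl M) ∨
      LocCoh.IsCohenMacaulayModule (Localization.AtPrime p.asIdeal)
        (LocalizedModule p.asIdeal.primeCompl M)} := by
  obtain ⟨a, b, hab⟩ := hω.finite_injective_dimension
  have hfid : FidIn ω a b := hab
  haveI := hfid.isGE
  haveI : Module.Finite A (ModuleCat.of A M) := ‹_›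
  have hfin : ∀ i : ℤ, Module.Finite A (Dual.inD A M ⟶ ω⟦i⟧) := fun i =>
    finite_hom_Sg_shift (ModuleCat.of A M) ω a hω.finite_cohomology i
  have hcl : ∀ i : ℤ, IsClosed (Module.support A (Dual.inD A M ⟶ ω⟦i⟧)) := fun i => by
    haveI := hfin i
    exact Module.isClosed_support
  have hrange : ∀ (i : ℤ) (p : PrimeSpectrum A), p ∈ Module.support A (Dual.inD A M ⟶ ω⟦i⟧) →
      i ∈ Finset.Icc a b := by
    intro i p hp
    rw [Finset.mem_Icc]
    by_contra hne
    haveI : Subsingleton (Dual.inD A M ⟶ ω⟦i⟧) := hab M i (by omega)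
    rw [Module.support_eq_empty] at hp
    exact hp
  have hset : {p : PrimeSpectrum A | Subsingleton (LocalizedModule p.asIdeal.primeCompl M) ∨
      LocCoh.IsCohenMacaulayModule (Localization.AtPrime p.asIdeal)
        (LocalizedModule p.asIdeal.primeCompl M)} =
      (⋃ x ∈ ((Finset.Icc a b ×ˢ Finset.Icc a b).filter (fun x : ℤ × ℤ => x.1 ≠ x.2) :
        Finset (ℤ × ℤ)),
        (Module.support A (Dual.inD A M ⟶ ω⟦x.1⟧) ∩
          Module.support A (Dual.inD A M ⟶ ω⟦x.2⟧)))ᶜ := by
    ext p
    rw [Set.mem_setOf_eq, subsingleton_or_cm_iff ω M hω p, Set.mem_compl_iff, Set.mem_iUnion₂]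
    constructor
    · rintro h ⟨x, hx, h1, h2⟩
      rw [Finset.mem_filter] at hx
      exact hx.2 (h _ _ h1 h2)
    · intro h i j hi hj
      by_contra hne
      apply h
      refine ⟨(i, j), ?_, hi, hj⟩
      rw [Finset.mem_filter, Finset.mem_product]
      exact ⟨⟨hrange i p hi, hrange j p hj⟩, hne⟩
  rw [hset, isOpen_compl_iff]
  exact Set.Finite.isClosed_biUnion (Finset.finite_toSet _)
    (fun x _ => (hcl x.1).inter (hcl x.2))

end glob

end CMLoc

end Groth.Agent.Lib.Helper18.DR
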