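import Mathlib
import Groth.Agent.Lib.Helper18.CMLocB

/-!
# The Cohen–Macaulay locus via a dualizing complex, III: density and the ring case (helper18)
-/

set_option autoImplicit false
set_option linter.style.haveILetI false
universe u
open CategoryTheory CategoryTheory.Limits CategoryTheory.Pretriangulated DerivedCategory

attribute [local instance] HasDerivedCategory.standard

namespace Groth.Agent.Lib.Helper18.DR

namespace CMLoc

open HomLoc HomBC MaxCrit Uniq Norm Dim ExtDim

section dense

variable {A : Type u} [CommRing A] [IsNoetherianRing A]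
  (M : Type u) [AddCommGroup M] [Module A M] [Module.Finite A M]

/-- `M_q` is Cohen–Macaulay at the minimal primes of the support -/
lemma cm_of_mem_minimalPrimes (q : Ideal A) [hq' : q.IsPrime]
    (hq : q ∈ (Module.annihilator A M).minimalPrimes) :
    LocCoh.IsCohenMacaulayModule (Localization.AtPrime q) (LocalizedModule q.primeCompl M) := by
  have hsupp : (⟨q, hq'⟩ : PrimeSpectrum A) ∈ Module.support A M := by
    rw [Module.support_eq_zeroLocus, PrimeSpectrum.mem_zeroLocus, SetLike.coe_subset_coe]
    exact hq.1.2
  haveI hnt : Nontrivial (LocalizedModule q.primeCompl M) := Module.mem_support_iff.1 hsupp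
  haveI := finite_localizedModule ⟨q, hq'⟩ M
  have h1 := Groth.Agent.Lib.Helper4.supportDim_localizedModule_le_zero_of_mem_minimalPrimes
    (M := M) q hq
  have h2 := Groth.Agent.Lib.Helper4.depth_le_supportDim (R := Localization.AtPrime q)
    (M := LocalizedModule q.primeCompl M)
  have h3 : Module.supportDim (Localization.AtPrime q) (LocalizedModule q.primeCompl M) ≠ ⊥ :=
    Module.supportDim_ne_bot_of_nontrivial _ _
  unfold LocCoh.IsCohenMacaulayModule
  obtain ⟨x, hx⟩ := WithBot.ne_bot_iff_exists.mp h3
  rw [← hx] at h1 h2 ⊢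
  have h1' : x ≤ 0 := by exact_mod_cast h1
  have hx0 : x = 0 := le_antisymm h1' zero_le
  rw [hx0] at h2 ⊢
  have h2' : LocCoh.depth (Localization.AtPrime q) (LocalizedModule q.primeCompl M) ≤ 0 := by
    exact_mod_cast h2
  rw [le_antisymm h2' zero_le]

/-- **density of the Cohen–Macaulay locus in the support** -/
theorem support_subset_closure_cm :
    Module.support A M ⊆ closure ({p : PrimeSpectrum A |
      LocCoh.IsCohenMacaulayModule (Localization.AtPrime p.asIdeal)
        (LocalizedModule p.asIdeal.primeCompl M)} ∩ Module.support A M) := by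
  intro p hp
  have hann : Module.annihilator A M ≤ p.asIdeal := by
    rw [Module.support_eq_zeroLocus, PrimeSpectrum.mem_zeroLocus, SetLike.coe_subset_coe] at hp
    exact hp
  obtain ⟨q, hq, hqp⟩ := Ideal.exists_minimalPrimes_le hann
  haveI hq' : q.IsPrime := hq.1.1
  let q' : PrimeSpectrum A := ⟨q, hq'⟩
  have hmem : q' ∈ {p : PrimeSpectrum A |
      LocCoh.IsCohenMacaulayModule (Localization.AtPrime p.asIdeal)
        (LocalizedModule p.asIdeal.primeCompl M)} ∩ Module.support A M := by
    refine ⟨cm_of_mem_minimalPrimes M q hq, ?_⟩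
    rw [Module.support_eq_zeroLocus, PrimeSpectrum.mem_zeroLocus, SetLike.coe_subset_coe]
    exact hq.1.2
  have hspec : q' ⤳ p := (PrimeSpectrum.le_iff_specializes q' p).1 hqp
  exact closure_mono (Set.singleton_subset_iff.2 hmem) (specializes_iff_mem_closure.1 hspec)

end dense

section ring

variable {A : Type u} [CommRing A] [IsNoetherianRing A]

/-- `A_p` as the localized module of `A` -/
noncomputable def locSelfEquiv (p : PrimeSpectrum A) :
    LocalizedModule p.asIdeal.primeCompl A ≃ₗ[Localization.AtPrime p.asIdeal]
      Localization.AtPrime p.asIdeal :=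
  (LocalizedModule.equivTensorProduct p.asIdeal.primeCompl A).trans
    (TensorProduct.AlgebraTensorModule.rid A (Localization.AtPrime p.asIdeal)
      (Localization.AtPrime p.asIdeal))

lemma cmLocalRing_iff (p : PrimeSpectrum A) :
    LocCoh.IsCohenMacaulayLocalRing (Localization.AtPrime p.asIdeal) ↔
      (Subsingleton (LocalizedModule p.asIdeal.primeCompl A) ∨
        LocCoh.IsCohenMacaulayModule (Localization.AtPrime p.asIdeal)
          (LocalizedModule p.asIdeal.primeCompl A)) := by
  have hns : ¬ Subsingleton (LocalizedModule p.asIdeal.primeCompl A) := by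
    intro h
    haveI := h
    haveI := (locSelfEquiv p).symm.toEquiv.subsingleton
    exact not_subsingleton (Localization.AtPrime p.asIdeal) ‹_›
  rw [or_iff_right hns]
  unfold LocCoh.IsCohenMacaulayModule
  rw [Module.supportDim_eq_of_equiv (locSelfEquiv p)]
  unfold LocCoh.depth
  rw [Groth.Agent.Lib.Helper4.idealDepth_congr _ (locSelfEquiv p)]
  constructor
  · intro h
    exact h.supportDim_eq_depth
  · intro h
    exact { supportDim_eq_depth := h }

/-- **S0372** -/
theorem cohenMacaulay_locus_open_dense (ω : Dual.D A) (hω : Dual.IsDualizing A ω) :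
    IsOpen {p : PrimeSpectrum A |
        LocCoh.IsCohenMacaulayLocalRing (Localization.AtPrime p.asIdeal)} ∧
      Dense {p : PrimeSpectrum A |
        LocCoh.IsCohenMacaulayLocalRing (Localization.AtPrime p.asIdeal)} := by
  have hset : {p : PrimeSpectrum A |
      LocCoh.IsCohenMacaulayLocalRing (Localization.AtPrime p.asIdeal)} =
      {p : PrimeSpectrum A | Subsingleton (LocalizedModule p.asIdeal.primeCompl A) ∨
      LocCoh.IsCohenMacaulayModule (Localization.AtPrime p.asIdeal)
        (LocalizedModule p.asIdeal.primeCompl A)} := by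
    ext p
    exact cmLocalRing_iff p
  refine ⟨?_, ?_⟩
  · rw [hset]
    exact isOpen_cm_locus ω A hω
  · rw [dense_iff_closure_eq, Set.eq_univ_iff_forall]
    intro p
    have hp : p ∈ Module.support A A := by
      rw [Module.mem_support_iff]
      exact (locSelfEquiv p).toEquiv.nontrivial
    refine closure_mono ?_ (support_subset_closure_cm A hp)
    rintro q ⟨hq, -⟩
    exact (cmLocalRing_iff q).2 (Or.inr hq)

end ring

end CMLoc

end Groth.Agent.Lib.Helper18.DR
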