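import Mathlib
import Groth.Prelude.Def_ArtFun5

/-!
# Tangent vectors of a coefficient ring over a field

For `R : CRing k k` (so `Λ = k`): if `h_R(k[ε])` has at most one element then `m_R = 0`, and then
`h_R(A)` has at most one element for every `A`.
-/

set_option autoImplicit false
universe u v

open CategoryTheory

namespace Groth.Agent.Lib.Helper18.CRingTangent

open ArtFun ArtFun.Art

variable {k : Type u} [Field k]

/-- The algebra map `R → k[ε]`, `r ↦ (res r, f r)` attached to a functional killing `1` and `m²`. -/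
noncomputable def tangentHom (R : CRing k k) (f : R.carrier →ₗ[k] k) (h1 : f 1 = 0)
    (h2 : ∀ a ∈ IsLocalRing.maximalIdeal R.carrier, ∀ b ∈ IsLocalRing.maximalIdeal R.carrier,
      f (a * b) = 0) : R.carrier →ₐ[k] DualNumber k :=
  have hc : ∀ c : k, f (algebraMap k R.carrier c) = 0 := by
    intro c
    rw [Algebra.algebraMap_eq_smul_one, map_smul, h1, smul_zero]
  have hm : ∀ r : R.carrier, r - algebraMap k R.carrier (R.res r) ∈ IsLocalRing.maximalIdeal R.carrier := by
    intro r
    rw [CRing.mem_maximalIdeal_iff, map_sub, AlgHom.commutes, Algebra.algebraMap_self_apply, sub_self]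
  { toFun := fun r => ((R.res r, f r) : TrivSqZeroExt k k)
    map_one' := TrivSqZeroExt.ext (map_one R.res) h1
    map_mul' := fun r s => by
      refine TrivSqZeroExt.ext (map_mul R.res r s) ?_
      change f (r * s) = R.res r • f s + MulOpposite.op (R.res s) • f r
      have e : r * s = (r - algebraMap k R.carrier (R.res r)) * (s - algebraMap k R.carrier (R.res s))
          + R.res r • s + R.res s • r - algebraMap k R.carrier (R.res r * R.res s) := by
        rw [Algebra.smul_def, Algebra.smul_def, map_mul]
        ring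
      rw [e, map_sub, map_add, map_add, h2 _ (hm r) _ (hm s), hc, map_smul, map_smul]
      simp only [smul_eq_mul, MulOpposite.smul_eq_mul_unop, MulOpposite.unop_op]
      ring
    map_zero' := TrivSqZeroExt.ext (map_zero R.res) (map_zero f)
    map_add' := fun r s => TrivSqZeroExt.ext (map_add R.res r s) (map_add f r s)
    commutes' := fun c => by
      refine TrivSqZeroExt.ext ?_ ?_
      · change R.res (algebraMap k R.carrier c) = _
        rw [AlgHom.commutes]
        rfl
      · change f (algebraMap k R.carrier c) = _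
        rw [hc]
        rfl }

theorem tangentHom_snd (R : CRing k k) (f : R.carrier →ₗ[k] k) (h1 : f 1 = 0)
    (h2 : ∀ a ∈ IsLocalRing.maximalIdeal R.carrier, ∀ b ∈ IsLocalRing.maximalIdeal R.carrier,
      f (a * b) = 0) (r : R.carrier) : (tangentHom R f h1 h2 r).snd = f r := rfl

theorem tangentHom_res (R : CRing k k) (f : R.carrier →ₗ[k] k) (h1 : f 1 = 0)
    (h2 : ∀ a ∈ IsLocalRing.maximalIdeal R.carrier, ∀ b ∈ IsLocalRing.maximalIdeal R.carrier,
      f (a * b) = 0) : (dual k k).res.comp (tangentHom R f h1 h2) = R.res :=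
  AlgHom.ext fun _ => rfl

/-- If `h_R(k[ε])` has at most one element, the maximal ideal of `R` vanishes. -/
theorem maximalIdeal_eq_bot_of_subsingleton (R : CRing k k)
    (h : Subsingleton (HomSet R.carrier R.res (dual k k))) :
    IsLocalRing.maximalIdeal R.carrier = ⊥ := by
  classical
  set m := IsLocalRing.maximalIdeal R.carrier with hm
  have hsq : m ≤ m • m := by
    intro x hx
    by_contra hx2
    rw [smul_eq_mul] at hx2
    let p : Submodule k R.carrier := Submodule.restrictScalars k (m * m) ⊔ Submodule.span k {1}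
    have hxp : x ∉ p := by
      intro hxp
      obtain ⟨w, hw, y, hy, hwy⟩ := Submodule.mem_sup.1 hxp
      obtain ⟨c, rfl⟩ := Submodule.mem_span_singleton.1 hy
      have hw' : w ∈ m * m := hw
      have hwm : w ∈ m := Ideal.mul_le_right hw'
      have r1 : R.res x = 0 := (CRing.mem_maximalIdeal_iff R x).1 hx
      have r2 : R.res w = 0 := (CRing.mem_maximalIdeal_iff R w).1 hwm
      have r3 : R.res (w + c • (1 : R.carrier)) = c := by
        rw [map_add, r2, zero_add, map_smul, map_one, smul_eq_mul, mul_one]
      rw [hwy, r1] at r3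
      rw [← r3, zero_smul, add_zero] at hwy
      exact hx2 (hwy ▸ hw')
    obtain ⟨f, hfx, hfp⟩ := Submodule.exists_dual_map_eq_bot_of_notMem hxp inferInstance
    have hf0 : ∀ y ∈ p, f y = 0 := by
      intro y hy
      have : f y ∈ p.map f := Submodule.mem_map_of_mem hy
      rw [hfp] at this
      exact this
    have h1 : f 1 = 0 := hf0 1 (Submodule.mem_sup_right (Submodule.mem_span_singleton_self 1))
    have h2 : ∀ a ∈ m, ∀ b ∈ m, f (a * b) = 0 := fun a ha b hb =>
      hf0 _ (Submodule.mem_sup_left (Ideal.mul_mem_mul ha hb))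
    let φ : HomSet R.carrier R.res (dual k k) := ⟨tangentHom R f h1 h2, tangentHom_res R f h1 h2⟩
    let φ₀ : HomSet R.carrier R.res (dual k k) :=
      ⟨tangentHom R 0 rfl (fun _ _ _ _ => rfl), tangentHom_res R 0 rfl (fun _ _ _ _ => rfl)⟩
    have heq : φ = φ₀ := Subsingleton.elim _ _
    have : (φ.1 x).snd = (φ₀.1 x).snd := by rw [heq]
    exact hfx this
  have hfg : (m : Submodule R.carrier R.carrier).FG := IsNoetherian.noetherian m
  have hjac : m ≤ Ideal.jacobson ⊥ := by
    rw [IsLocalRing.jacobson_eq_maximalIdeal ⊥ bot_ne_top]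
  exact Submodule.eq_bot_of_le_smul_of_le_jacobson_bot m m hfg hsq hjac

/-- If `m_R = 0` then `h_R(A)` has at most one element. -/
theorem subsingleton_homSet_of_maximalIdeal_eq_bot (R : CRing k k)
    (hm : IsLocalRing.maximalIdeal R.carrier = ⊥) (A : Art k k) :
    Subsingleton (HomSet R.carrier R.res A) := by
  refine ⟨fun φ₁ φ₂ => Subtype.ext (AlgHom.ext fun r => ?_)⟩
  have hr : r - algebraMap k R.carrier (R.res r) ∈ IsLocalRing.maximalIdeal R.carrier := by
    rw [CRing.mem_maximalIdeal_iff, map_sub, AlgHom.commutes, Algebra.algebraMap_self_apply, sub_self]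
  rw [hm, Ideal.mem_bot, sub_eq_zero] at hr
  rw [hr, AlgHom.commutes, AlgHom.commutes]

end Groth.Agent.Lib.Helper18.CRingTangent
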