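import Mathlib
import Groth.Prelude

/-!
# A point of an effective Cartier divisor has a proper generization off the divisor
(helper18, for helper9's S13737)
-/

set_option autoImplicit false
universe u

open CategoryTheory CategoryTheory.Limits AlgebraicGeometry TopologicalSpace

namespace Groth.Agent.Lib.Helper18.CartGen

/-- (L2) a point of an effective Cartier divisor has a proper generization off the divisor. -/
theorem exists_generization_notMem_support {Y : Scheme.{u}} (𝓙 : Y.IdealSheafData)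
    (h𝓙 : BlowUp.IsEffCartierIdeal 𝓙) (y : Y) (hy : y ∈ (𝓙.support : Set Y)) :
    ∃ z : Y, z ⤳ y ∧ z ≠ y ∧ z ∉ (𝓙.support : Set Y) := by
  obtain ⟨V, hyV, f, hf, hI⟩ := h𝓙 y
  have hV : IsAffineOpen V.1 := V.2
  let p : PrimeSpectrum Γ(Y, V.1) := hV.primeIdealOf ⟨y, hyV⟩
  have hp : hV.fromSpec p = y := hV.fromSpec_primeIdealOf ⟨y, hyV⟩
  obtain ⟨q, hq, hqp⟩ := Ideal.exists_minimalPrimes_le (bot_le : (⊥ : Ideal Γ(Y, V.1)) ≤ p.asIdeal)
  haveI : q.IsPrime := hq.1.1
  have hfq : f ∉ q := fun hfq =>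
    Set.disjoint_left.mp (Ideal.disjoint_nonZeroDivisors_of_mem_minimalPrimes hq) hfq hf
  let q' : PrimeSpectrum Γ(Y, V.1) := ⟨q, inferInstance⟩
  let z : Y := hV.fromSpec q'
  have hzV : z ∈ V.1 := by
    have : z ∈ Set.range hV.fromSpec := ⟨q', rfl⟩
    rwa [hV.range_fromSpec] at this
  have hz : z ∉ (𝓙.support : Set Y) := by
    intro hzs
    have h1 : z ∈ Y.zeroLocus (U := V.1) (𝓙.ideal V) :=
      (Scheme.IdealSheafData.mem_support_iff_of_mem hzV).1 hzs
    have h2 : q' ∈ hV.fromSpec ⁻¹' Y.zeroLocus (U := V.1) (𝓙.ideal V) := h1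
    rw [hV.fromSpec_preimage_zeroLocus] at h2
    have h3 : (𝓙.ideal V : Set Γ(Y, V.1)) ⊆ q := h2
    apply hfq
    apply h3
    rw [hI]
    exact Ideal.subset_span rfl
  refine ⟨z, ?_, ?_, hz⟩
  · rw [← hp]
    have hspec : q' ⤳ p := (PrimeSpectrum.le_iff_specializes q' p).1 hqp
    exact hspec.map hV.fromSpec.continuous
  · rintro rfl
    exact hz hy

end Groth.Agent.Lib.Helper18.CartGen
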