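import Mathlib
import Groth.Agent.Lib.Helper18.KProjE
import Groth.Agent.Lib.Helper18.DRPerf
import Groth.Agent.Lib.Helper18.DRTorB
import Groth.Prelude.Def_DualSh

/-!
# Dévissage for modules killed by a power of an ideal; relative perfection (helper18)
-/

set_option autoImplicit false
set_option linter.style.haveILetI false
universe u
open CategoryTheory CategoryTheory.Limits CategoryTheory.Pretriangulated DerivedCategory
open TensorProduct MonoidalCategory

attribute [local instance] HasDerivedCategory.standard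

namespace Groth.Agent.Lib.Helper18.DR

/-- dévissage for modules killed by a power of the kernel -/
theorem exact_lTensor_of_pow_smul_eq_bot {A B : Type u} [CommRing A] [CommRing B] [Algebra A B]
    (hsurj : Function.Surjective (algebraMap A B))
    {X Y Z : Type u} [AddCommGroup X] [Module A X] [AddCommGroup Y] [Module A Y] [AddCommGroup Z]
    [Module A Z] (d : X →ₗ[A] Y) (d' : Y →ₗ[A] Z) (hdd : d' ∘ₗ d = 0) [Module.Flat A Z]
    (h : ∀ (N : Type u) [AddCommGroup N] [Module B N] [Module A N] [IsScalarTower A B N],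
      Function.Exact (d.lTensor N) (d'.lTensor N)) :
    ∀ (k : ℕ) (M : Type u) [AddCommGroup M] [Module A M],
      (RingHom.ker (algebraMap A B)) ^ k • (⊤ : Submodule A M) = ⊥ →
      Function.Exact (d.lTensor M) (d'.lTensor M) := by
  intro k
  induction k with
  | zero =>
    intro M _ _ hM
    rw [pow_zero, Ideal.one_eq_top, Submodule.top_smul] at hM
    haveI : Subsingleton M := by
      refine ⟨fun x y => ?_⟩
      have hx : x ∈ (⊤ : Submodule A M) := Submodule.mem_top
      have hy : y ∈ (⊤ : Submodule A M) := Submodule.mem_top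
      rw [hM, Submodule.mem_bot] at hx hy
      rw [hx, hy]
    exact exact_lTensor_of_subsingleton d d'
  | succ k ih =>
    intro M _ _ hM
    have hM' : (RingHom.ker (algebraMap A B)) ^ k •
        (⊤ : Submodule A ↥((RingHom.ker (algebraMap A B)) • (⊤ : Submodule A M))) = ⊥ := by
      rw [eq_bot_iff]
      refine Submodule.smul_le.mpr fun a ha m' _ => ?_
      rw [Submodule.mem_bot]
      apply Subtype.ext
      have h1 : a • (m' : M) ∈ (RingHom.ker (algebraMap A B)) ^ k •
          ((RingHom.ker (algebraMap A B)) • (⊤ : Submodule A M)) :=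
        Submodule.smul_mem_smul ha m'.2
      rw [← Submodule.smul_assoc, Ideal.smul_eq_mul, ← pow_succ, hM, Submodule.mem_bot] at h1
      exact h1
    exact exact_lTensor_middle _ _ (Submodule.subtype_injective _)
      (exact_subtype_mk_one hsurj M) (mk_one_surjective hsurj M) d d' hdd
      (ih _ hM') (h (B ⊗[A] M))

/-- S7084 -/
theorem homology_LTensor_pos_vanishing_of_killed_by_pow {R : Type u} [CommRing R] (I : Ideal R)
    [DRing.HasLTensor R (ModuleCat.of R (R ⧸ I))] (K : Dual.D R)
    (hK : ∀ i : ℤ, 0 < i →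
      Subsingleton (Dual.HD R ((DRing.LTensor R (ModuleCat.of R (R ⧸ I))).obj K) i))
    (N : Type u) [AddCommGroup N] [Module R N] (n : ℕ) (hN : I ^ n • (⊤ : Submodule R N) = ⊥)
    [DRing.HasLTensor R (ModuleCat.of R N)] (i : ℤ) (hi : 0 < i) :
    Subsingleton (Dual.HD R ((DRing.LTensor R (ModuleCat.of R N)).obj K) i) := by
  obtain ⟨Q, hQK, hQproj, ⟨eQ⟩⟩ := exists_kprojective_resolution K
  haveI := hQK
  have h1 : ∀ i j k : ℤ, i + 1 = j → j + 1 = k → 0 < j →
      Function.Exact ((Q.d i j).hom.lTensor (R ⧸ I)) ((Q.d j k).hom.lTensor (R ⧸ I)) := by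
    intro i j k hij hjk hj
    rw [← (tensorLike_tensorRight (ModuleCat.of R (R ⧸ I))).exact_iff]
    have h2 : IsZero ((H R j).obj ((DRing.LTensor R (ModuleCat.of R (R ⧸ I))).obj K)) :=
      isZero_H_of_subsingleton _ j (hK j hj)
    have h3 := h2.of_iso ((H R j).mapIso ((LTensorIso (ModuleCat.of R (R ⧸ I)) Q).symm ≪≫
      (DRing.LTensor R (ModuleCat.of R (R ⧸ I))).mapIso eQ))
    exact (isZero_H_toD_iff _ i j k hij hjk).mp h3
  haveI : CochainComplex.IsKProjective (extCx (B := R ⧸ I) Q) :=
    isKProjective_extendScalars (algebraMap R (R ⧸ I)) Q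
  haveI : (DRing.toD (extCx (B := R ⧸ I) Q)).IsLE 0 := by
    rw [DerivedCategory.isLE_iff]
    intro j hj
    rw [isZero_H_toD_iff _ (j - 1) j (j + 1) (by omega) rfl]
    change Function.Exact ((extM (A := R) (B := R ⧸ I)).map (Q.d (j - 1) j)).hom
      ((extM (A := R) (B := R ⧸ I)).map (Q.d j (j + 1))).hom
    rw [(tensorLike_extM (A := R) (B := R ⧸ I)).exact_iff]
    exact h1 (j - 1) j (j + 1) (by omega) rfl hj
  have hN0 : ∀ i j k : ℤ, i + 1 = j → j + 1 = k → 0 < j →
      ∀ (N₀ : Type u) [AddCommGroup N₀] [Module (R ⧸ I) N₀] [Module R N₀]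
        [IsScalarTower R (R ⧸ I) N₀],
      Function.Exact ((Q.d i j).hom.lTensor N₀) ((Q.d j k).hom.lTensor N₀) := by
    intro i j k hij hjk hj N₀ _ _ _ _
    apply lTensor_exact_of_extM_module (S := R ⧸ I) N₀
    rw [← (tensorLike_tensorRight (ModuleCat.of (R ⧸ I) N₀)).exact_iff]
    have h4 := isZero_H_mapHC_of_isLE_kproj (tensorRight (ModuleCat.of (R ⧸ I) N₀))
      (extCx (B := R ⧸ I) Q) 0 j hj
    exact (isZero_H_toD_iff _ i j k hij hjk).mp h4
  have hNN : ∀ i j k : ℤ, i + 1 = j → j + 1 = k → 0 < j →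
      Function.Exact ((Q.d i j).hom.lTensor N) ((Q.d j k).hom.lTensor N) := by
    intro i j k hij hjk hj
    haveI : Module.Flat R (Q.X k) := by haveI := hQproj k; infer_instance
    refine exact_lTensor_of_pow_smul_eq_bot (A := R) (B := R ⧸ I) Ideal.Quotient.mk_surjective
      (Q.d i j).hom (Q.d j k).hom (d_comp_d_hom Q i j k)
      (fun N₀ _ _ _ _ => hN0 i j k hij hjk hj N₀) n N ?_
    rw [Ideal.Quotient.algebraMap_eq, Ideal.mk_ker]
    exact hN
  apply ModuleCat.subsingleton_of_isZero
  have h5 : IsZero ((H R i).obj (DRing.toD (((tensorRight (ModuleCat.of R N)).mapHomologicalComplex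
      (ComplexShape.up ℤ)).obj Q))) :=
    (isZero_H_toD_iff _ (i - 1) i (i + 1) (by omega) rfl).mpr
      (((tensorLike_tensorRight (ModuleCat.of R N)).exact_iff _ _).mpr
        (hNN (i - 1) i (i + 1) (by omega) rfl hi))
  exact h5.of_iso ((H R i).mapIso ((DRing.LTensor R (ModuleCat.of R N)).mapIso eQ.symm ≪≫
    LTensorIso (ModuleCat.of R N) Q))

/-- S7073 -/
theorem isRelPerfect_of_isPerfect (R A : Type u) [CommRing R] [CommRing A] [Algebra R A]
    [Module.Flat R A] (K : Dual.D A) (hK : DRing.IsPerfect A K) : Dual2.IsRelPerfect R A K := by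
  refine ⟨((isPerfect_iff_pc_and_finiteTorDim K).mp hK).1, ?_⟩
  obtain ⟨E, a, b, hE, hfp, ⟨e⟩⟩ := hK
  refine ⟨a, b, ((ModuleCat.restrictScalars.{u} (algebraMap R A)).mapHomologicalComplex
    (ComplexShape.up ℤ)).obj E, vanishesOutside_mapHC _ E a b hE, fun i => ?_, ⟨?_⟩⟩
  · haveI := (hfp i).2
    haveI : Module.Flat A (E.X i) := inferInstance
    exact flat_restrictScalars (E.X i)
  · exact ((ModuleCat.restrictScalars.{u} (algebraMap R A)).mapDerivedCategoryFactors.app E).symm ≪≫
      (DRing.restrictD (algebraMap R A)).mapIso e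

end Groth.Agent.Lib.Helper18.DR
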