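import Mathlib
import Groth.Agent.Lib.Helper18.DRDC12
import Groth.Agent.Lib.Helper18.KProjG

/-!
# Derived Nakayama for derived complete objects (helper18)
-/

set_option autoImplicit false
set_option linter.style.haveILetI false
universe u
open CategoryTheory CategoryTheory.Limits CategoryTheory.Pretriangulated DerivedCategory
open TensorProduct MonoidalCategory

attribute [local instance] HasDerivedCategory.standard

namespace Groth.Agent.Lib.Helper18.DR

variable {A : Type u} [CommRing A]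

/-! ## `C ⊗ M` as a functor of the module `M` -/

/-- `C ⊗ M` as a functor of the module `M` -/
noncomputable def tensCx (C : DRing.Cx A) : ModuleCat.{u} A ⥤ DRing.Cx A where
  obj M := ((tensorRight M).mapHomologicalComplex (ComplexShape.up ℤ)).obj C
  map {M M'} g := (NatTrans.mapHomologicalComplex ((tensoringRight (ModuleCat.{u} A)).map g)
    (ComplexShape.up ℤ)).app C
  map_id M := by
    ext i : 1
    simp
  map_comp g h := by
    ext i : 1
    simp

lemma tensCx_map_f (C : DRing.Cx A) {M M' : ModuleCat.{u} A} (g : M ⟶ M') (i : ℤ) :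
    ((tensCx C).map g).f i = C.X i ◁ g := rfl

instance tensCx_additive (C : DRing.Cx A) : (tensCx C).Additive where
  map_add {M M'} g h := by
    ext i : 1
    rw [tensCx_map_f]
    change C.X i ◁ (g + h) = C.X i ◁ g + C.X i ◁ h
    exact MonoidalPreadditive.whiskerLeft_add _ _

lemma tensCx_shortExact (C : DRing.Cx A) (hC : DRing.TermwiseFlat C)
    (S : ShortComplex (ModuleCat.{u} A)) (hS : S.ShortExact) : (S.map (tensCx C)).ShortExact := by
  refine HomologicalComplex.shortExact_of_degreewise_shortExact _ (fun i => ?_)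
  haveI : Module.Flat A (C.X i) := hC i
  exact hS.map_of_exact (tensorLeft (C.X i))

lemma tensCx_map_smul_id (C : DRing.Cx A) (f : A) (M : ModuleCat.{u} A) :
    (tensCx C).map (f • 𝟙 M) = f • 𝟙 _ := by
  ext i : 1
  rw [tensCx_map_f]
  change C.X i ◁ (f • 𝟙 M) = f • 𝟙 _
  rw [MonoidalLinear.whiskerLeft_smul, MonoidalCategory.whiskerLeft_id]
  rfl


/-! ## Vanishing of `H^j(C ⊗ M)` above `n` -/

/-- `H^j(C ⊗ M) = 0` for `j > n` -/
def VanX (C : DRing.Cx A) (n : ℤ) (M : ModuleCat.{u} A) : Prop :=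
  ∀ j : ℤ, n < j → IsZero ((H A j).obj (DRing.toD ((tensCx C).obj M)))

/-- `M` is killed by a power of `J` -/
def Killed (J : Ideal A) (M : ModuleCat.{u} A) : Prop :=
  ∃ m : ℕ, ∀ a ∈ J ^ m, ∀ x : M, a • x = 0

lemma Killed.smul_top_eq_bot {J : Ideal A} {M : ModuleCat.{u} A} (m : ℕ)
    (h : ∀ a ∈ J ^ m, ∀ x : M, a • x = 0) : J ^ m • (⊤ : Submodule A M) = ⊥ := by
  rw [eq_bot_iff]
  refine Submodule.smul_le.mpr fun a ha x _ => ?_
  rw [Submodule.mem_bot]
  exact h a ha x

lemma vanX_iff_exact (C : DRing.Cx A) (n : ℤ) (M : ModuleCat.{u} A) :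
    VanX C n M ↔ ∀ i j k : ℤ, i + 1 = j → j + 1 = k → n < j →
      Function.Exact ((C.d i j).hom.lTensor M) ((C.d j k).hom.lTensor M) := by
  constructor
  · intro h i j k hij hjk hj
    rw [← (tensorLike_tensorRight M).exact_iff]
    exact (isZero_H_toD_iff _ i j k hij hjk).mp (h j hj)
  · intro h j hj
    exact (isZero_H_toD_iff _ (j - 1) j (j + 1) (by omega) rfl).mpr
      (((tensorLike_tensorRight M).exact_iff _ _).mpr (h (j - 1) j (j + 1) (by omega) rfl hj))

/-- Lemma D: vanishing for `A/I` gives vanishing for all modules killed by a power of `I` -/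
theorem vanX_of_killed (I : Ideal A) (Q : DRing.Cx A) [Q.IsKProjective]
    (hQproj : ∀ i, Module.Projective A (Q.X i)) (n : ℤ)
    (h : VanX Q n (ModuleCat.of A (A ⧸ I))) (N : ModuleCat.{u} A) (hN : Killed I N) :
    VanX Q n N := by
  obtain ⟨m, hm⟩ := hN
  rw [vanX_iff_exact] at h ⊢
  haveI : CochainComplex.IsKProjective (extCx (B := A ⧸ I) Q) :=
    isKProjective_extendScalars (algebraMap A (A ⧸ I)) Q
  haveI : (DRing.toD (extCx (B := A ⧸ I) Q)).IsLE n := by
    rw [DerivedCategory.isLE_iff]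
    intro j hj
    rw [isZero_H_toD_iff _ (j - 1) j (j + 1) (by omega) rfl]
    change Function.Exact ((extM (A := A) (B := A ⧸ I)).map (Q.d (j - 1) j)).hom
      ((extM (A := A) (B := A ⧸ I)).map (Q.d j (j + 1))).hom
    rw [(tensorLike_extM (A := A) (B := A ⧸ I)).exact_iff]
    exact h (j - 1) j (j + 1) (by omega) rfl hj
  have hN0 : ∀ i j k : ℤ, i + 1 = j → j + 1 = k → n < j →
      ∀ (N₀ : Type u) [AddCommGroup N₀] [Module (A ⧸ I) N₀] [Module A N₀]
        [IsScalarTower A (A ⧸ I) N₀],
      Function.Exact ((Q.d i j).hom.lTensor N₀) ((Q.d j k).hom.lTensor N₀) := by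
    intro i j k hij hjk hj N₀ _ _ _ _
    apply lTensor_exact_of_extM_module (S := A ⧸ I) N₀
    rw [← (tensorLike_tensorRight (ModuleCat.of (A ⧸ I) N₀)).exact_iff]
    have h4 := isZero_H_mapHC_of_isLE_kproj (tensorRight (ModuleCat.of (A ⧸ I) N₀))
      (extCx (B := A ⧸ I) Q) n j hj
    exact (isZero_H_toD_iff _ i j k hij hjk).mp h4
  intro i j k hij hjk hj
  haveI : Module.Flat A (Q.X k) := by haveI := hQproj k; infer_instance
  refine exact_lTensor_of_pow_smul_eq_bot (A := A) (B := A ⧸ I) Ideal.Quotient.mk_surjective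
    (Q.d i j).hom (Q.d j k).hom (d_comp_d_hom Q i j k)
    (fun N₀ _ _ _ _ => hN0 i j k hij hjk hj N₀) m N ?_
  rw [Ideal.Quotient.algebraMap_eq, Ideal.mk_ker]
  exact Killed.smul_top_eq_bot m hm


/-! ## The cone step -/

lemma isZero_H_cone_of_epi_mono {X : DRing.Cx A} (φ : X ⟶ X) (n : ℤ)
    (hepi : ∀ j, n < j → Epi ((H A j).map (DerivedCategory.Q.map φ)))
    (hmono : ∀ j, n + 1 < j → Mono ((H A j).map (DerivedCategory.Q.map φ))) :
    ∀ j, n < j → IsZero ((H A j).obj (DRing.toD (CochainComplex.mappingCone φ))) := by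
  intro j hj
  have hT := DerivedCategory.mappingCone_triangle_distinguished φ
  exact isZero_H_obj₃ hT j (j + 1) rfl (hepi j hj) (hmono (j + 1) (by omega))

lemma tensorRight_mapHC_smul_id (C : DRing.Cx A) (f : A) (M : ModuleCat.{u} A) :
    ((tensorRight M).mapHomologicalComplex (ComplexShape.up ℤ)).map (f • 𝟙 C) =
      (tensCx C).map (f • 𝟙 M) := by
  rw [tensCx_map_smul_id]
  ext i : 1
  change (f • 𝟙 (C.X i)) ▷ M = f • 𝟙 _
  rw [MonoidalLinear.smul_whiskerRight, MonoidalCategory.id_whiskerRight]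
  rfl

/-- `cone(f on C) ⊗ M ≅ cone (f on C ⊗ M)` -/
noncomputable def tensCxConeIso (C : DRing.Cx A) (f : A) (M : ModuleCat.{u} A) :
    (tensCx (CochainComplex.mappingCone (f • 𝟙 C))).obj M ≅
      CochainComplex.mappingCone ((tensCx C).map (f • 𝟙 M)) := by
  have e := CochainComplex.mappingCone.mapHomologicalComplexIso (f • 𝟙 C) (tensorRight M)
  rw [tensorRight_mapHC_smul_id] at e
  exact e


/-- Lemma E: the cone step -/
theorem vanX_cone (C : DRing.Cx A) (hC : DRing.TermwiseFlat C) (f : A) (J : Ideal A) (n : ℤ)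
    (h : ∀ M : ModuleCat.{u} A, Killed (J ⊔ Ideal.span {f}) M → VanX C n M)
    (M : ModuleCat.{u} A) (hM : Killed J M) :
    VanX (CochainComplex.mappingCone (f • 𝟙 C)) n M := by
  obtain ⟨m, hm⟩ := hM
  let u : M →ₗ[A] M := LinearMap.lsmul A M f
  have hu : ∀ x : M, u x = f • x := fun x => rfl
  let S₁ : ShortComplex (ModuleCat.{u} A) :=
    ShortComplex.mk (ModuleCat.ofHom (LinearMap.ker u).subtype)
      (ModuleCat.ofHom u.rangeRestrict) (by
        refine ModuleCat.hom_ext (LinearMap.ext fun x => ?_)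
        apply Subtype.ext
        exact x.2)
  have hS₁ : S₁.ShortExact := by
    refine ModuleCat.shortComplex_shortExact _ ?_ (Submodule.subtype_injective _)
      (LinearMap.surjective_rangeRestrict u)
    intro x
    constructor
    · intro hx
      refine ⟨⟨x, ?_⟩, rfl⟩
      rw [LinearMap.mem_ker]
      exact congrArg Subtype.val hx
    · rintro ⟨y, rfl⟩
      apply Subtype.ext
      exact y.2
  let S₂ : ShortComplex (ModuleCat.{u} A) :=
    ShortComplex.mk (ModuleCat.ofHom (LinearMap.range u).subtype)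
      (ModuleCat.ofHom (LinearMap.range u).mkQ) (by
        refine ModuleCat.hom_ext (LinearMap.ext fun x => ?_)
        exact (Submodule.Quotient.mk_eq_zero _).2 x.2)
  have hS₂ : S₂.ShortExact :=
    ModuleCat.shortComplex_shortExact _ (LinearMap.exact_subtype_mkQ _)
      (Submodule.subtype_injective _) (Submodule.mkQ_surjective _)
  have hle : (J ⊔ Ideal.span {f}) ^ (m + 1) ≤ J ^ m ⊔ Ideal.span {f} := by
    have := Ideal.sup_pow_add_le_pow_sup_pow (I := J) (J := Ideal.span {f}) (n := m) (m := 1)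
    rwa [pow_one] at this
  have hdec : ∀ a ∈ (J ⊔ Ideal.span {f}) ^ (m + 1), ∃ b ∈ J ^ m, ∃ r : A, a = b + r * f := by
    intro a ha
    obtain ⟨b, hb, c, hc, rfl⟩ := Submodule.mem_sup.1 (hle ha)
    obtain ⟨r, rfl⟩ := Ideal.mem_span_singleton'.1 hc
    exact ⟨b, hb, r, rfl⟩
  have hK : Killed (J ⊔ Ideal.span {f}) S₁.X₁ := by
    refine ⟨m + 1, fun a ha x => ?_⟩
    obtain ⟨b, hb, r, rfl⟩ := hdec a ha
    apply Subtype.ext
    change (b + r * f) • (x.1 : M) = 0
    have hx : f • (x.1 : M) = 0 := x.2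
    rw [add_smul, mul_smul, hx, smul_zero, add_zero]
    exact hm b hb x.1
  have hQ : Killed (J ⊔ Ideal.span {f}) S₂.X₃ := by
    refine ⟨m + 1, fun a ha x => ?_⟩
    obtain ⟨b, hb, r, rfl⟩ := hdec a ha
    obtain ⟨y, rfl⟩ := Submodule.mkQ_surjective _ x
    change (b + r * f) • (LinearMap.range u).mkQ y = 0
    rw [← map_smul, add_smul, hm b hb y, zero_add, Submodule.mkQ_apply,
      Submodule.Quotient.mk_eq_zero, mul_smul]
    exact ⟨r • y, by rw [hu, smul_comm]⟩
  have v₁ := h _ hK
  have v₃ := h _ hQ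
  have hT₁ := DerivedCategory.triangleOfSES_distinguished (tensCx_shortExact C hC S₁ hS₁)
  have hT₂ := DerivedCategory.triangleOfSES_distinguished (tensCx_shortExact C hC S₂ hS₂)
  have hfac : f • 𝟙 M = S₁.g ≫ S₂.f := by
    refine ModuleCat.hom_ext (LinearMap.ext fun x => ?_)
    rfl
  have hmap : DerivedCategory.Q.map ((tensCx C).map (f • 𝟙 M)) =
      DerivedCategory.Q.map ((tensCx C).map S₁.g) ≫
        DerivedCategory.Q.map ((tensCx C).map S₂.f) := by
    rw [hfac, Functor.map_comp, Functor.map_comp]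
  have hepi : ∀ j, n < j → Epi ((H A j).map (DerivedCategory.Q.map
      ((tensCx C).map (f • 𝟙 M)))) := by
    intro j hj
    rw [hmap, Functor.map_comp]
    haveI : IsIso ((H A j).map (DerivedCategory.Q.map ((tensCx C).map S₁.g))) :=
      isIso_H_mor₂_of_isZero hT₁ j (v₁ j hj) (v₁ (j + 1) (by omega))
    haveI : Epi ((H A j).map (DerivedCategory.Q.map ((tensCx C).map S₂.f))) :=
      epi_H_mor₁_of_isZero hT₂ j (v₃ j hj)
    exact epi_comp _ _
  have hmono : ∀ j, n + 1 < j → Mono ((H A j).map (DerivedCategory.Q.map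
      ((tensCx C).map (f • 𝟙 M)))) := by
    intro j hj
    rw [hmap, Functor.map_comp]
    haveI : IsIso ((H A j).map (DerivedCategory.Q.map ((tensCx C).map S₁.g))) :=
      isIso_H_mor₂_of_isZero hT₁ j (v₁ j (by omega)) (v₁ (j + 1) (by omega))
    haveI : Mono ((H A j).map (DerivedCategory.Q.map ((tensCx C).map S₂.f))) :=
      mono_H_mor₁_of_isZero hT₂ (j - 1) j (by omega) (v₃ (j - 1) (by omega))
    exact mono_comp _ _
  intro j hj
  exact (isZero_H_cone_of_epi_mono _ n hepi hmono j hj).of_iso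
    ((H A j).mapIso (DerivedCategory.Q.mapIso (tensCxConeIso C f M)))


/-- Lemma F: a derived `f`-complete complex whose `f`-cone has no cohomology above `n` has no
cohomology above `n` -/
theorem isZero_H_of_fc_of_cone (f : A) (C : DRing.Cx A) (hfc : FC f (DRing.toD C)) (n : ℤ)
    (h : ∀ j, n < j → IsZero ((H A j).obj (DRing.toD (CochainComplex.mappingCone (f • 𝟙 C))))) :
    ∀ j, n < j → IsZero ((H A j).obj (DRing.toD C)) := by
  intro j hj
  have hT := DerivedCategory.mappingCone_triangle_distinguished (f • 𝟙 C)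
  have hepi : Epi ((H A j).map (DerivedCategory.Q.map (f • 𝟙 C))) :=
    epi_H_mor₁_of_isZero hT j (h j hj)
  have hsurj := (ModuleCat.epi_iff_surjective _).1 hepi
  have hM : FC f (Sg 0 ((H A j).obj (DRing.toD C))) := (fc_iff_cohomology f _).1 hfc j
  haveI : Subsingleton ((H A j).obj (DRing.toD C)) :=
    subsingleton_of_seqInj (seqInj_of_fc hM) (fun y => by
      obtain ⟨x, hx⟩ := hsurj y
      exact ⟨x, (H_map_Q_smul_id_apply f j C x).symm.trans hx⟩)
  exact ModuleCat.isZero_of_subsingleton _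

/-- the induction on generators -/
theorem isZero_H_of_vanX_killed (n : ℤ) (s : Finset A) :
    ∀ (C : DRing.Cx A), DRing.TermwiseFlat C → (∀ f ∈ s, FC f (DRing.toD C)) →
      (∀ M : ModuleCat.{u} A, Killed (Ideal.span (s : Set A)) M → VanX C n M) →
      ∀ j, n < j → IsZero ((H A j).obj (DRing.toD C)) := by
  classical
  induction s using Finset.induction_on with
  | empty =>
    intro C _ _ h j hj
    have hA : Killed (Ideal.span ((∅ : Finset A) : Set A)) (ModuleCat.of A A) := by
      refine ⟨1, fun a ha x => ?_⟩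
      rw [Finset.coe_empty, Ideal.span_empty, pow_one, Ideal.mem_bot] at ha
      rw [ha, zero_smul]
    have h1 := (vanX_iff_exact C n _).1 (h _ hA) (j - 1) j (j + 1) (by omega) rfl hj
    rw [isZero_H_toD_iff C (j - 1) j (j + 1) (by omega) rfl]
    exact exact_of_exact_lTensor_self _ _ h1
  | insert f s hfs ih =>
    intro C hC hfc h
    have hT := DerivedCategory.mappingCone_triangle_distinguished (f • 𝟙 C)
    have h1 := ih (CochainComplex.mappingCone (f • 𝟙 C)) (termwiseFlat_cone _ hC hC)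
      (fun g hg => fc_obj₃ _ hT (hfc g (Finset.mem_insert_of_mem hg))
        (hfc g (Finset.mem_insert_of_mem hg)))
      (fun M hM => vanX_cone C hC f (Ideal.span (s : Set A)) n (fun M' hM' => by
        refine h M' ?_
        rwa [Finset.coe_insert, Ideal.span_insert, sup_comm]) M hM)
    exact isZero_H_of_fc_of_cone f C (hfc f (Finset.mem_insert_self f s)) n h1

/-- derived Nakayama: for a derived `I`-complete `K`, vanishing of `H^j(K ⊗^L A/I)` for `j > n`
implies vanishing of `H^j(K)` for `j > n` -/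
theorem isZero_H_of_isDerivedComplete_of_LTensor_quotient (I : Ideal A) (hI : I.FG)
    [DRing.HasLTensor A (ModuleCat.of A (A ⧸ I))] (K : Dual.D A)
    (hc : DRing.IsDerivedComplete I K) (n : ℤ)
    (h : ∀ j, n < j →
      IsZero ((H A j).obj ((DRing.LTensor A (ModuleCat.of A (A ⧸ I))).obj K))) :
    ∀ j, n < j → IsZero ((H A j).obj K) := by
  obtain ⟨Q, hQK, hQproj, ⟨eQ⟩⟩ := exists_kprojective_resolution K
  haveI := hQK
  obtain ⟨s, rfl⟩ := hI
  have hQflat : DRing.TermwiseFlat Q := fun i => by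
    haveI := hQproj i
    change Module.Flat A (Q.X i)
    infer_instance
  have h0 : VanX Q n (ModuleCat.of A (A ⧸ Ideal.span (s : Set A))) := fun j hj =>
    (h j hj).of_iso ((H A j).mapIso ((LTensorIso (ModuleCat.of A (A ⧸ Ideal.span (s : Set A)))
      Q).symm ≪≫ (DRing.LTensor A (ModuleCat.of A (A ⧸ Ideal.span (s : Set A)))).mapIso eQ))
  have h1 := isZero_H_of_vanX_killed n s Q hQflat
    (fun f hf => ((isDerivedComplete_iff_fc _ K).1 hc f (Ideal.subset_span hf)).of_iso eQ.symm)
    (fun M hM => vanX_of_killed _ Q hQproj n h0 M hM)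
  intro j hj
  exact (h1 j hj).of_iso ((H A j).mapIso eQ.symm)

end Groth.Agent.Lib.Helper18.DR
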