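import Mathlib
import Groth.Agent.Lib.Helper18.DRDC13

/-!
# The sequence functor `M ↦ (ℕ → M)` and countable self-products of complexes (helper18)
-/

set_option autoImplicit false
set_option linter.style.haveILetI false
universe u
open CategoryTheory CategoryTheory.Limits CategoryTheory.Pretriangulated DerivedCategory

attribute [local instance] HasDerivedCategory.standard

namespace Groth.Agent.Lib.Helper18.DR

variable {A : Type u} [CommRing A]

/-- the functor `M ↦ (ℕ → M)` -/
noncomputable def seqF (A : Type u) [CommRing A] : ModuleCat.{u} A ⥤ ModuleCat.{u} A where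
  obj M := ModuleCat.of A (ℕ → M)
  map g := ModuleCat.ofHom (g.hom.compLeft ℕ)
  map_id M := by
    refine ModuleCat.hom_ext (LinearMap.ext fun x => ?_)
    rfl
  map_comp g h := by
    refine ModuleCat.hom_ext (LinearMap.ext fun x => ?_)
    rfl

lemma seqF_map_apply {M N : ModuleCat.{u} A} (g : M ⟶ N) (x : ℕ → M) (k : ℕ) :
    ((seqF A).map g).hom x k = g.hom (x k) := rfl

instance seqF_additive : (seqF A).Additive where
  map_add {M N} g h := by
    refine ModuleCat.hom_ext (LinearMap.ext fun x => ?_)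
    rfl

instance seqF_linear : (seqF A).Linear A where
  map_smul {M N} g a := by
    refine ModuleCat.hom_ext (LinearMap.ext fun x => ?_)
    rfl

/-- the `k`-th projection -/
noncomputable def seqπ (k : ℕ) : seqF A ⟶ 𝟭 (ModuleCat.{u} A) where
  app M := ModuleCat.ofHom (LinearMap.proj k)
  naturality M N g := by
    refine ModuleCat.hom_ext (LinearMap.ext fun x => ?_)
    rfl

/-- the left shift `(y_k) ↦ (y_{k+1})` -/
noncomputable def seqS : seqF A ⟶ seqF A where
  app M := ModuleCat.ofHom (LinearMap.funLeft A M (fun k : ℕ => k + 1))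
  naturality M N g := by
    refine ModuleCat.hom_ext (LinearMap.ext fun x => ?_)
    rfl

/-- `θ = 1 - f s`, `(y_k) ↦ (y_k - f y_{k+1})` -/
noncomputable def seqθ (f : A) : seqF A ⟶ seqF A where
  app M := ModuleCat.ofHom (LinearMap.id - f • LinearMap.funLeft A M (fun k : ℕ => k + 1))
  naturality M N g := by
    refine ModuleCat.hom_ext (LinearMap.ext fun x => ?_)
    funext k
    exact ((map_sub g.hom (x k) (f • x (k + 1))).trans
      (congrArg (fun t => g.hom (x k) - t) (map_smul g.hom f (x (k + 1))))).symm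

lemma seqθ_app_apply (f : A) (M : ModuleCat.{u} A) (x : ℕ → M) (k : ℕ) :
    ((seqθ f).app M).hom x k = x k - f • x (k + 1) := rfl

lemma seqF_map_exact (S : ShortComplex (ModuleCat.{u} A)) (hS : S.Exact) :
    (S.map (seqF A)).Exact := by
  rw [ShortComplex.moduleCat_exact_iff] at hS ⊢
  intro y hy
  have h1 : ∀ k, ∃ x : S.X₁, S.f x = y k := fun k => hS (y k) (congrFun hy k)
  choose x hx using h1
  exact ⟨x, funext hx⟩

instance seqF_preservesHomology : (seqF A).PreservesHomology :=
  Functor.preservesHomology_of_map_exact _ seqF_map_exact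


/-! ## Countable self-product of a complex -/

/-- `∏_ℕ K`, termwise -/
noncomputable abbrev PCx (K : DRing.Cx A) : DRing.Cx A :=
  ((seqF A).mapHomologicalComplex (ComplexShape.up ℤ)).obj K

/-- the `k`-th projection `∏_ℕ K ⟶ K` -/
noncomputable def πCx (K : DRing.Cx A) (k : ℕ) : PCx K ⟶ K where
  f i := (seqπ k).app (K.X i)
  comm' i j _ := ((seqπ k).naturality (K.d i j)).symm

/-- the left shift on `∏_ℕ K` -/
noncomputable def sCx (K : DRing.Cx A) : PCx K ⟶ PCx K :=
  (NatTrans.mapHomologicalComplex seqS (ComplexShape.up ℤ)).app K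

/-- `θ = 1 - f s` on `∏_ℕ K` -/
noncomputable def θCx (f : A) (K : DRing.Cx A) : PCx K ⟶ PCx K :=
  (NatTrans.mapHomologicalComplex (seqθ f) (ComplexShape.up ℤ)).app K

lemma θCx_eq (f : A) (K : DRing.Cx A) : θCx f K = 𝟙 _ - f • sCx K := by
  ext i : 1
  refine ModuleCat.hom_ext (LinearMap.ext fun x => ?_)
  rfl

lemma θCx_π (f : A) (K : DRing.Cx A) (k : ℕ) :
    θCx f K ≫ πCx K k = πCx K k - f • πCx K (k + 1) := by
  ext i : 1
  refine ModuleCat.hom_ext (LinearMap.ext fun x => ?_)
  rfl

lemma sCx_π (K : DRing.Cx A) (k : ℕ) : sCx K ≫ πCx K k = πCx K (k + 1) := by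
  ext i : 1
  refine ModuleCat.hom_ext (LinearMap.ext fun x => ?_)
  rfl

/-- the chain map into `∏_ℕ K` with given components -/
noncomputable def liftCx {E K : DRing.Cx A} (g : ℕ → (E ⟶ K)) : E ⟶ PCx K where
  f i := ModuleCat.ofHom (LinearMap.pi (fun k => ((g k).f i).hom))
  comm' i j _ := by
    refine ModuleCat.hom_ext (LinearMap.ext fun x => ?_)
    funext k
    have := congrArg (fun t => t.hom x) ((g k).comm i j)
    exact this

lemma liftCx_π {E K : DRing.Cx A} (g : ℕ → (E ⟶ K)) (k : ℕ) : liftCx g ≫ πCx K k = g k := by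
  ext i : 1
  refine ModuleCat.hom_ext (LinearMap.ext fun x => ?_)
  rfl

lemma PCx_hom_ext_apply {E K : DRing.Cx A} (G G' : E ⟶ PCx K)
    (h : ∀ k, G ≫ πCx K k = G' ≫ πCx K k) : G = G' := by
  ext i : 1
  refine ModuleCat.hom_ext (LinearMap.ext fun x => ?_)
  funext k
  have := congrArg (fun t => (t.f i).hom x) (h k)
  exact this


/-- componentwise null-homotopies assemble -/
noncomputable def liftHomotopy {E K : DRing.Cx A} (G : E ⟶ PCx K)
    (h : ∀ k, Homotopy (G ≫ πCx K k) 0) : Homotopy G 0 where
  hom i j := ModuleCat.ofHom (LinearMap.pi (fun k => ((h k).hom i j).hom))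
  zero i j hij := by
    refine ModuleCat.hom_ext (LinearMap.ext fun x => ?_)
    funext k
    have := congrArg (fun t => t.hom x) ((h k).zero i j hij)
    exact this
  comm i := by
    rw [dNext_eq _ (show (ComplexShape.up ℤ).Rel i (i + 1) from rfl),
      prevD_eq _ (show (ComplexShape.up ℤ).Rel (i - 1) i by simp)]
    refine ModuleCat.hom_ext (LinearMap.ext fun x => ?_)
    funext k
    have h1 := (h k).comm i
    rw [dNext_eq _ (show (ComplexShape.up ℤ).Rel i (i + 1) from rfl),
      prevD_eq _ (show (ComplexShape.up ℤ).Rel (i - 1) i by simp)] at h1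
    have h2 := congrArg (fun t => t.hom x) h1
    exact h2

end Groth.Agent.Lib.Helper18.DR
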