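import Mathlib
import Groth.Agent.Lib.Helper18.DCmp1
import Groth.Agent.Lib.Helper18.KProjC
import Groth.Agent.Lib.Helper18.DRDC11

/-!
# `∏_ℕ K` in the derived category: product property and cohomology (helper18)
-/

set_option autoImplicit false
set_option linter.style.haveILetI false
universe u
open CategoryTheory CategoryTheory.Limits CategoryTheory.Pretriangulated DerivedCategory

attribute [local instance] HasDerivedCategory.standard

namespace Groth.Agent.Lib.Helper18.DR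

variable {A : Type u} [CommRing A]

/-- `(X, π)` has the universal property of the countable power of `Z` -/
def IsProdFam (X Z : Dual.D A) (π : ℕ → (X ⟶ Z)) : Prop :=
  (∀ (Y : Dual.D A) (φ : ℕ → (Y ⟶ Z)), ∃ ψ : Y ⟶ X, ∀ k, ψ ≫ π k = φ k) ∧
  (∀ (Y : Dual.D A) (ψ : Y ⟶ X), (∀ k, ψ ≫ π k = 0) → ψ = 0)

lemma IsProdFam.hom_ext {X Z : Dual.D A} {π : ℕ → (X ⟶ Z)} (h : IsProdFam X Z π)
    {Y : Dual.D A} (ψ ψ' : Y ⟶ X) (hψ : ∀ k, ψ ≫ π k = ψ' ≫ π k) : ψ = ψ' := by
  rw [← sub_eq_zero]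
  apply h.2
  intro k
  rw [Preadditive.sub_comp, hψ k, sub_self]

theorem isProdFam_PCx (K : DRing.Cx A) :
    IsProdFam (DRing.toD (PCx K)) (DRing.toD K) (fun k => DerivedCategory.Q.map (πCx K k)) := by
  constructor
  · intro Y φ
    obtain ⟨E, hE, -, ⟨e⟩⟩ := exists_kprojective_resolution Y
    haveI := hE
    have h1 : ∀ k, ∃ g : E ⟶ K, DerivedCategory.Q.map g = e.hom ≫ φ k := fun k =>
      exists_map_eq E K (e.hom ≫ φ k)
    choose g hg using h1
    refine ⟨e.inv ≫ DerivedCategory.Q.map (liftCx g), fun k => ?_⟩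
    rw [Category.assoc, ← Functor.map_comp, liftCx_π, hg, Iso.inv_hom_id_assoc]
  · intro Y ψ hψ
    obtain ⟨E, hE, -, ⟨e⟩⟩ := exists_kprojective_resolution Y
    haveI := hE
    obtain ⟨G, hG⟩ := exists_map_eq E (PCx K) (e.hom ≫ ψ)
    have h1 : ∀ k, Nonempty (Homotopy (G ≫ πCx K k) 0) := fun k => by
      apply nonempty_homotopy_of_map_eq E K
      rw [Functor.map_comp, hG, Category.assoc, hψ k, comp_zero, Functor.map_zero]
    have H : Homotopy G 0 := liftHomotopy G (fun k => (h1 k).some)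
    have h2 : DerivedCategory.Q.map G = 0 := by
      rw [DerivedCategory.Q_map_eq_of_homotopy _ H, Functor.map_zero]
    rw [hG] at h2
    rw [← cancel_epi e.hom, h2, comp_zero]

/-- the product property is invariant under shifts -/
theorem IsProdFam.shift {X Z : Dual.D A} {π : ℕ → (X ⟶ Z)} (h : IsProdFam X Z π) (n : ℤ) :
    IsProdFam (X⟦n⟧) (Z⟦n⟧) (fun k => (π k)⟦n⟧') := by
  constructor
  · intro Y φ
    let a : (Y⟦-n⟧)⟦n⟧ ≅ Y := (shiftFunctorCompIsoId (Dual.D A) (-n) n (by omega)).app Y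
    obtain ⟨ψ', hψ'⟩ := h.1 (Y⟦-n⟧)
      (fun k => (shiftFunctor (Dual.D A) n).preimage (a.hom ≫ φ k))
    refine ⟨a.inv ≫ ψ'⟦n⟧', fun k => ?_⟩
    rw [Category.assoc, ← Functor.map_comp, hψ' k, Functor.map_preimage, Iso.inv_hom_id_assoc]
  · intro Y ψ hψ
    let a : (Y⟦-n⟧)⟦n⟧ ≅ Y := (shiftFunctorCompIsoId (Dual.D A) (-n) n (by omega)).app Y
    have h1 : (shiftFunctor (Dual.D A) n).preimage (a.hom ≫ ψ) = 0 := by
      apply h.2
      intro k
      apply (shiftFunctor (Dual.D A) n).map_injective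
      rw [Functor.map_comp, Functor.map_preimage, Category.assoc, hψ k, comp_zero,
        Functor.map_zero]
    have h2 : a.hom ≫ ψ = 0 := by
      rw [← (shiftFunctor (Dual.D A) n).map_preimage (a.hom ≫ ψ), h1, Functor.map_zero]
    rw [← cancel_epi a.hom, h2, comp_zero]

/-! ## Cohomology of `∏_ℕ K` -/

lemma isIso_seqθ_app (f : A) (M : ModuleCat.{u} A) (h : SeqBij f M) : IsIso ((seqθ f).app M) := by
  rw [ConcreteCategory.isIso_iff_bijective]
  exact (seqBij_iff f).1 h

lemma homologyMap_θCx (f : A) (K : DRing.Cx A) (i : ℤ) :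
    HomologicalComplex.homologyMap (θCx f K) i =
      ((K.sc i).mapHomologyIso (seqF A)).hom ≫ (seqθ f).app (K.sc i).homology ≫
        ((K.sc i).mapHomologyIso (seqF A)).inv := by
  rw [NatTrans.app_homology (seqθ f) (K.sc i)]
  simp only [Category.assoc, Iso.hom_inv_id, Category.comp_id, Iso.hom_inv_id_assoc]
  rfl

lemma isIso_homologyMap_θCx (f : A) (K : DRing.Cx A) (i : ℤ) (h : SeqBij f (K.homology i)) :
    IsIso (HomologicalComplex.homologyMap (θCx f K) i) := by
  rw [homologyMap_θCx]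
  have h1 : IsIso ((seqθ f).app (K.sc i).homology) := isIso_seqθ_app f _ h
  have h2 : IsIso ((seqθ f).app (K.sc i).homology ≫
        ((K.sc i).mapHomologyIso (seqF A)).inv) := @IsIso.comp_isIso _ _ _ _ _ _ _ h1 (Iso.isIso_inv _)
  exact @IsIso.comp_isIso _ _ _ _ _ _ _ (Iso.isIso_hom _) h2



theorem isIso_Q_map_θCx_of_fc (f : A) (L : DRing.Cx A) (h : FC f (DRing.toD L)) :
    IsIso (DerivedCategory.Q.map (θCx f L)) := by
  rw [DerivedCategory.isIso_Q_map_iff_quasiIso, quasiIso_iff]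
  intro i
  rw [quasiIsoAt_iff_isIso_homologyMap]
  apply isIso_homologyMap_θCx
  exact seqBij_of_linearEquiv (HtoDIso L i).toLinearEquiv ((fc_iff_forall_seqBij f _).1 h i)

lemma isZero_H_PCx (K : DRing.Cx A) (i : ℤ) (h : IsZero ((H A i).obj (DRing.toD K))) :
    IsZero ((H A i).obj (DRing.toD (PCx K))) := by
  rw [isZero_H_toD_iff_exactAt, HomologicalComplex.exactAt_iff_isZero_homology] at h ⊢
  exact ((seqF A).map_isZero h).of_iso ((K.sc i).mapHomologyIso (seqF A))

end Groth.Agent.Lib.Helper18.DR
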