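import Mathlib
import Groth.Agent.Lib.Helper18.DCmp2

/-!
# Objects on which `f` acts invertibly, and orthogonality to derived `f`-complete objects (helper18)
-/

set_option autoImplicit false
set_option linter.style.haveILetI false
universe u
open CategoryTheory CategoryTheory.Limits CategoryTheory.Pretriangulated DerivedCategory

attribute [local instance] HasDerivedCategory.standard

namespace Groth.Agent.Lib.Helper18.DR

variable {A : Type u} [CommRing A]

/-- `f` acts invertibly on `E` -/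
def FInv (f : A) (E : Dual.D A) : Prop := IsIso (f • 𝟙 E)

lemma FInv.shift {f : A} {E : Dual.D A} (h : FInv f E) (n : ℤ) : FInv f (E⟦n⟧) := by
  have h1 : f • 𝟙 (E⟦n⟧) = (f • 𝟙 E)⟦n⟧' := by
    rw [Functor.map_smul, CategoryTheory.Functor.map_id]
  unfold FInv at h ⊢
  rw [h1]
  infer_instance

lemma FInv.of_iso {f : A} {E E' : Dual.D A} (e : E ≅ E') (h : FInv f E) : FInv f E' := by
  unfold FInv at h ⊢
  have h1 : f • 𝟙 E' = e.inv ≫ (f • 𝟙 E) ≫ e.hom := by
    rw [Linear.smul_comp, Category.id_comp, Linear.comp_smul, e.inv_hom_id]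
  rw [h1]
  infer_instance

lemma FInv.eq_zero_of_smul {f : A} {E X : Dual.D A} (h : FInv f E) (y : E ⟶ X)
    (hy : f • y = 0) : y = 0 := by
  unfold FInv at h
  rw [← cancel_epi (f • 𝟙 E), Linear.smul_comp, Category.id_comp, hy, comp_zero]

/-- division by `f` on morphisms out of `E` -/
noncomputable def FInv.div {f : A} {E X : Dual.D A} (h : FInv f E) (y : E ⟶ X) : E ⟶ X :=
  haveI : IsIso (f • 𝟙 E) := h
  inv (f • 𝟙 E) ≫ y

lemma FInv.smul_div {f : A} {E X : Dual.D A} (h : FInv f E) (y : E ⟶ X) :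
    f • h.div y = y := by
  haveI : IsIso (f • 𝟙 E) := h
  unfold FInv.div
  have : f • (inv (f • 𝟙 E) ≫ y) = (f • 𝟙 E) ≫ inv (f • 𝟙 E) ≫ y := by
    rw [Linear.smul_comp, Category.id_comp]
  rw [this, IsIso.hom_inv_id_assoc]

/-- the cone of `1 - f s` has `f` acting invertibly -/
theorem finv_of_triangle (f : A) {X N : Dual.D A} (s : X ⟶ X) (ι : X ⟶ N) (δ : N ⟶ X⟦(1 : ℤ)⟧)
    (hT : Triangle.mk (𝟙 X - f • s) ι δ ∈ distTriang (Dual.D A)) : FInv f N := by
  have comm : (Triangle.mk (𝟙 X - f • s) ι δ).mor₁ ≫ s = s ≫ (Triangle.mk (𝟙 X - f • s) ι δ).mor₁ := by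
    change (𝟙 X - f • s) ≫ s = s ≫ (𝟙 X - f • s)
    rw [Preadditive.sub_comp, Preadditive.comp_sub, Category.id_comp, Category.comp_id,
      Linear.smul_comp, Linear.comp_smul]
  obtain ⟨(σ : N ⟶ N), hσ₁, hσ₂⟩ := complete_distinguished_triangle_morphism _ _ hT hT s s comm
  change ι ≫ σ = s ≫ ι at hσ₁
  change δ ≫ s⟦(1 : ℤ)⟧' = σ ≫ δ at hσ₂
  have z12 : (𝟙 X - f • s) ≫ ι = 0 := comp_distTriang_mor_zero₁₂ _ hT
  have z31 : δ ≫ (𝟙 X - f • s)⟦(1 : ℤ)⟧' = 0 := comp_distTriang_mor_zero₃₁ _ hT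
  have h1 : ι ≫ (𝟙 N - f • σ) = 0 := by
    rw [Preadditive.comp_sub, Category.comp_id, Linear.comp_smul, hσ₁, ← z12,
      Preadditive.sub_comp, Category.id_comp, Linear.smul_comp]
  have h2 : (𝟙 N - f • σ) ≫ δ = 0 := by
    rw [Preadditive.sub_comp, Category.id_comp, Linear.smul_comp, ← hσ₂, ← z31,
      Functor.map_sub, Functor.map_smul, CategoryTheory.Functor.map_id, Preadditive.comp_sub,
      Category.comp_id,
      Linear.comp_smul]
  obtain ⟨w, hw⟩ : ∃ w : N ⟶ N, w = 𝟙 N - f • σ := ⟨_, rfl⟩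
  rw [← hw] at h1 h2
  obtain ⟨(w' : X⟦(1 : ℤ)⟧ ⟶ N), hw'⟩ := Triangle.yoneda_exact₃ _ hT w h1
  change w = δ ≫ w' at hw'
  have h3 : w ≫ w = 0 := by
    calc w ≫ w = w ≫ (δ ≫ w') := by rw [← hw']
      _ = (w ≫ δ) ≫ w' := (Category.assoc _ _ _).symm
      _ = 0 := by rw [h2, zero_comp]
  have e1 : f • σ = 𝟙 N - w := by rw [hw]; abel
  have h4 : f • (σ ≫ (𝟙 N + w)) = 𝟙 N := by
    rw [← Linear.smul_comp, e1, Preadditive.sub_comp, Preadditive.comp_add, Preadditive.comp_add,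
      Category.comp_id, Category.id_comp, h3, Category.comp_id]
    abel
  unfold FInv
  refine ⟨⟨σ ≫ (𝟙 N + w), ?_, ?_⟩⟩
  · rw [Linear.smul_comp, Category.id_comp, h4]
  · rw [Linear.comp_smul, Category.comp_id, h4]

end Groth.Agent.Lib.Helper18.DR
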