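import Mathlib
import Groth.Agent.Lib.Helper18.DCmp3

/-!
# The sequence calculus for morphisms into countable powers (helper18)
-/

set_option autoImplicit false
set_option linter.style.haveILetI false
universe u
open CategoryTheory CategoryTheory.Limits CategoryTheory.Pretriangulated DerivedCategory

attribute [local instance] HasDerivedCategory.standard

namespace Groth.Agent.Lib.Helper18.DR

variable {A : Type u} [CommRing A]

/-- a countable power `X` of `Z` with an endomorphism `θ = 1 - f s` -/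
structure PowData (f : A) (X Z : Dual.D A) where
  π : ℕ → (X ⟶ Z)
  isProd : IsProdFam X Z π
  θ : X ⟶ X
  s : X ⟶ X
  θ_eq : θ = 𝟙 X - f • s
  θ_π : ∀ k, θ ≫ π k = π k - f • π (k + 1)

/-- shifting the data -/
noncomputable def PowData.shift {f : A} {X Z : Dual.D A} (D : PowData f X Z) (n : ℤ) :
    PowData f (X⟦n⟧) (Z⟦n⟧) where
  π k := (D.π k)⟦n⟧'
  isProd := D.isProd.shift n
  θ := D.θ⟦n⟧'
  s := D.s⟦n⟧'
  θ_eq := by
    rw [D.θ_eq, Functor.map_sub, Functor.map_smul, CategoryTheory.Functor.map_id]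
  θ_π k := by
    rw [← Functor.map_comp, D.θ_π, Functor.map_sub, Functor.map_smul]

/-- the data for `∏_ℕ K` -/
noncomputable def powDataPCx (f : A) (K : DRing.Cx A) :
    PowData f (DRing.toD (PCx K)) (DRing.toD K) where
  π k := DerivedCategory.Q.map (πCx K k)
  isProd := isProdFam_PCx K
  θ := DerivedCategory.Q.map (θCx f K)
  s := DerivedCategory.Q.map (sCx K)
  θ_eq := by
    rw [θCx_eq, Functor.map_sub, Functor.map_smul, CategoryTheory.Functor.map_id]
  θ_π k := by
    rw [← Functor.map_comp, θCx_π, Functor.map_sub, Functor.map_smul]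

namespace PowData

variable {f : A} {X Z : Dual.D A} (D : PowData f X Z)

lemma comp_θ_π {E : Dual.D A} (y : E ⟶ X) (k : ℕ) :
    (y ≫ D.θ) ≫ D.π k = y ≫ D.π k - f • (y ≫ D.π (k + 1)) := by
  rw [Category.assoc, D.θ_π, Preadditive.comp_sub, Linear.comp_smul]

/-- `θ` is surjective on morphisms out of objects on which `f` is invertible -/
theorem exists_comp_θ_eq {E : Dual.D A} (hE : FInv f E) (z : E ⟶ X) : ∃ y : E ⟶ X, y ≫ D.θ = z := by
  let yk : ℕ → (E ⟶ Z) := fun k =>
    Nat.rec (motive := fun _ => (E ⟶ Z)) 0 (fun k y => hE.div (y - z ≫ D.π k)) k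
  have hyk : ∀ k, yk (k + 1) = hE.div (yk k - z ≫ D.π k) := fun k => rfl
  obtain ⟨y, hy⟩ := D.isProd.1 E yk
  refine ⟨y, D.isProd.hom_ext _ _ (fun k => ?_)⟩
  rw [D.comp_θ_π, hy, hy, hyk, FInv.smul_div]
  abel

/-- the kernel of `θ` is detected by the zeroth projection -/
theorem eq_zero_of_comp_θ {E : Dual.D A} (hE : FInv f E) (y : E ⟶ X) (h1 : y ≫ D.θ = 0)
    (h2 : y ≫ D.π 0 = 0) : y = 0 := by
  apply D.isProd.2
  intro k
  induction k with
  | zero => exact h2
  | succ k ih =>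
    have h3 := D.comp_θ_π y k
    rw [h1, zero_comp, ih, zero_sub, eq_comm, neg_eq_zero] at h3
    exact hE.eq_zero_of_smul _ h3

/-- the kernel of `θ` surjects onto `Hom(E, Z)` via the zeroth projection -/
theorem exists_comp_θ_eq_zero {E : Dual.D A} (hE : FInv f E) (z : E ⟶ Z) :
    ∃ y : E ⟶ X, y ≫ D.θ = 0 ∧ y ≫ D.π 0 = z := by
  let yk : ℕ → (E ⟶ Z) := fun k =>
    Nat.rec (motive := fun _ => (E ⟶ Z)) z (fun _ y => hE.div y) k
  have hyk : ∀ k, yk (k + 1) = hE.div (yk k) := fun k => rfl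
  obtain ⟨y, hy⟩ := D.isProd.1 E yk
  refine ⟨y, D.isProd.hom_ext _ _ (fun k => ?_), hy 0⟩
  rw [D.comp_θ_π, hy, hy, hyk, FInv.smul_div, sub_self, zero_comp]

end PowData

/-- objects on which `f` is invertible have no maps to derived `f`-complete objects -/
theorem eq_zero_of_finv_of_fc {f : A} {Y L : Dual.D A} (hY : FInv f Y) (hL : FC f L)
    (φ : Y ⟶ L) : φ = 0 := by
  obtain ⟨L₀, ⟨e⟩⟩ : ∃ L₀ : DRing.Cx A, Nonempty (DRing.toD L₀ ≅ L) :=
    ⟨DerivedCategory.Q.objPreimage L, ⟨DerivedCategory.Q.objObjPreimageIso L⟩⟩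
  haveI : IsIso (DerivedCategory.Q.map (θCx f L₀)) := isIso_Q_map_θCx_of_fc f L₀ (hL.of_iso e.symm)
  obtain ⟨y, hy1, hy2⟩ := (powDataPCx f L₀).exists_comp_θ_eq_zero hY (φ ≫ e.inv)
  have hy0 : y = 0 := by
    have : y ≫ DerivedCategory.Q.map (θCx f L₀) = 0 := hy1
    rwa [← cancel_mono (DerivedCategory.Q.map (θCx f L₀)), zero_comp]
  rw [hy0, zero_comp] at hy2
  rw [← cancel_mono e.inv, zero_comp, ← hy2]

end Groth.Agent.Lib.Helper18.DR
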