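import Mathlib
import Groth.Agent.Lib.Helper18.DCmp4

/-!
# Derived `f`-completion: existence and properties (helper18)
-/

set_option autoImplicit false
set_option linter.style.haveILetI false
universe u
open CategoryTheory CategoryTheory.Limits CategoryTheory.Pretriangulated DerivedCategory

attribute [local instance] HasDerivedCategory.standard

namespace Groth.Agent.Lib.Helper18.DR

variable {A : Type u} [CommRing A]

section nu

variable {f : A} {X Z N : Dual.D A} (D : PowData f X Z) (ι : X ⟶ N) (δ : N ⟶ X⟦(1 : ℤ)⟧)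
  (hT : Triangle.mk D.θ ι δ ∈ distTriang (Dual.D A))

include hT

/-- `ν = δ ≫ π₀[1]` is injective on morphisms out of objects with `f` invertible -/
theorem eq_zero_of_comp_nu {E : Dual.D A} (hE : FInv f E) (χ : E ⟶ N)
    (h : χ ≫ δ ≫ (D.π 0)⟦(1 : ℤ)⟧' = 0) : χ = 0 := by
  have z31 : δ ≫ D.θ⟦(1 : ℤ)⟧' = 0 := comp_distTriang_mor_zero₃₁ _ hT
  have z12 : D.θ ≫ ι = 0 := comp_distTriang_mor_zero₁₂ _ hT
  have h1 : χ ≫ δ = 0 := by
    apply (D.shift 1).eq_zero_of_comp_θ hE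
    · change (χ ≫ δ) ≫ D.θ⟦(1 : ℤ)⟧' = 0
      rw [Category.assoc, z31, comp_zero]
    · change (χ ≫ δ) ≫ (D.π 0)⟦(1 : ℤ)⟧' = 0
      rw [Category.assoc, h]
  obtain ⟨(χ' : E ⟶ X), hχ'⟩ := Triangle.coyoneda_exact₃ _ hT χ h1
  change χ = χ' ≫ ι at hχ'
  obtain ⟨y, hy⟩ := D.exists_comp_θ_eq hE χ'
  rw [hχ', ← hy, Category.assoc, z12, comp_zero]

/-- `ν = δ ≫ π₀[1]` is surjective on morphisms out of objects with `f` invertible -/
theorem exists_comp_nu_eq {E : Dual.D A} (hE : FInv f E) (z : E ⟶ Z⟦(1 : ℤ)⟧) :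
    ∃ χ : E ⟶ N, χ ≫ δ ≫ (D.π 0)⟦(1 : ℤ)⟧' = z := by
  obtain ⟨y, hy1, hy2⟩ := (D.shift 1).exists_comp_θ_eq_zero hE z
  change y ≫ D.θ⟦(1 : ℤ)⟧' = 0 at hy1
  change y ≫ (D.π 0)⟦(1 : ℤ)⟧' = z at hy2
  obtain ⟨(χ : E ⟶ N), hχ⟩ := Triangle.coyoneda_exact₁ _ hT y hy1
  change y = χ ≫ δ at hχ
  refine ⟨χ, ?_⟩
  rw [← Category.assoc, ← hχ, hy2]

/-- the third vertex of a triangle on `ν` receives no maps from objects with `f` invertible -/
theorem eq_zero_of_finv_of_triangle {K' : Dual.D A} (η : Z ⟶ K') (g : K' ⟶ N)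
    (hT' : Triangle.mk η g (δ ≫ (D.π 0)⟦(1 : ℤ)⟧') ∈ distTriang (Dual.D A))
    {E : Dual.D A} (hE : FInv f E) (φ : E ⟶ K') : φ = 0 := by
  have z23 : g ≫ δ ≫ (D.π 0)⟦(1 : ℤ)⟧' = 0 := comp_distTriang_mor_zero₂₃ _ hT'
  have z31 : (δ ≫ (D.π 0)⟦(1 : ℤ)⟧') ≫ η⟦(1 : ℤ)⟧' = 0 := comp_distTriang_mor_zero₃₁ _ hT'
  have h1 : φ ≫ g = 0 := by
    apply eq_zero_of_comp_nu D ι δ hT hE
    rw [Category.assoc, z23, comp_zero]
  obtain ⟨(φ' : E ⟶ Z), hφ'⟩ := Triangle.coyoneda_exact₂ _ hT' φ h1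
  change φ = φ' ≫ η at hφ'
  obtain ⟨χ, hχ⟩ := exists_comp_nu_eq D ι δ hT (hE.shift 1) (φ'⟦(1 : ℤ)⟧')
  have h2 : (φ' ≫ η)⟦(1 : ℤ)⟧' = 0 := by
    rw [Functor.map_comp, ← hχ, Category.assoc, Category.assoc]
    rw [Category.assoc] at z31
    rw [z31, comp_zero]
  have h3 : φ' ≫ η = 0 := by
    apply (shiftFunctor (Dual.D A) (1 : ℤ)).map_injective
    rw [h2, Functor.map_zero]
  rw [hφ', h3]

end nu

/-- `f` acts invertibly on `A_f` -/
lemma finv_away (f : A) : FInv f (Dual.inD A (Localization.Away f)) := by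
  unfold FInv
  have h1 : f • 𝟙 (Dual.inD A (Localization.Away f)) =
      (DerivedCategory.singleFunctor (ModuleCat.{u} A) 0).map
        (f • 𝟙 (ModuleCat.of A (Localization.Away f))) := by
    rw [Functor.map_smul, CategoryTheory.Functor.map_id]
  rw [h1]
  haveI : IsIso (f • 𝟙 (ModuleCat.of A (Localization.Away f))) := by
    rw [ConcreteCategory.isIso_iff_bijective]
    obtain ⟨u, hu⟩ := IsLocalization.Away.algebraMap_isUnit (S := Localization.Away f) f
    have key : ∀ x : Localization.Away f,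
        (f • 𝟙 (ModuleCat.of A (Localization.Away f))).hom x = (u : Localization.Away f) * x := by
      intro x
      change f • x = _
      rw [Algebra.smul_def, hu]
    constructor
    · intro x y hxy
      rw [key, key] at hxy
      exact u.isUnit.mul_right_injective hxy
    · intro y
      refine ⟨(↑u⁻¹ : Localization.Away f) * y, ?_⟩
      rw [key, ← mul_assoc, Units.mul_inv, one_mul]
  infer_instance

/-- derived `f`-completeness from the vanishing of maps out of objects with `f` invertible -/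
theorem fc_of_forall_finv {f : A} {K' : Dual.D A}
    (h : ∀ (E : Dual.D A), FInv f E → ∀ φ : E ⟶ K', φ = 0) : FC f K' := by
  intro n
  suffices h0 : ∀ φ : Dual.inD A (Localization.Away f) ⟶ K'⟦n⟧, φ = 0 from
    ⟨fun a b => by rw [h0 a, h0 b]⟩
  intro φ
  let a : (K'⟦n⟧)⟦-n⟧ ≅ K' := (shiftFunctorCompIsoId (Dual.D A) n (-n) (by omega)).app K'
  have h1 : φ⟦-n⟧' ≫ a.hom = 0 := h _ ((finv_away f).shift (-n)) _
  have h2 : φ⟦-n⟧' = 0 := by rw [← cancel_mono a.hom, h1, zero_comp]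
  apply (shiftFunctor (Dual.D A) (-n)).map_injective
  rw [h2, Functor.map_zero]

/-- countable powers of derived `g`-complete objects are derived `g`-complete -/
theorem fc_of_isProdFam {g : A} {X Z : Dual.D A} {π : ℕ → (X ⟶ Z)} (h : IsProdFam X Z π)
    (hZ : FC g Z) : FC g X := by
  intro n
  refine ⟨fun a b => ?_⟩
  apply (h.shift n).hom_ext
  intro k
  haveI : Subsingleton (Dual.inD A (Localization.Away g) ⟶ Z⟦n⟧) := hZ n
  exact Subsingleton.elim _ _


/-- existence of the derived `f`-completion of the image of a complex -/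
theorem exists_fcompletion_toD (f : A) (K : DRing.Cx A) :
    ∃ (Z' : Dual.D A) (η : DRing.toD K ⟶ Z'), FC f Z' ∧
      (∀ g : A, FC g (DRing.toD K) → FC g Z') ∧
      (∀ i : ℤ, IsZero ((H A i).obj (DRing.toD K)) → IsZero ((H A (i + 1)).obj (DRing.toD K)) →
        IsZero ((H A i).obj Z')) ∧
      (∀ L : Dual.D A, FC f L → Function.Bijective (fun φ : Z' ⟶ L => η ≫ φ)) := by
  let D := powDataPCx f K
  have hT₀ := DerivedCategory.mappingCone_triangle_distinguished (θCx f K)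
  obtain ⟨ι, hι⟩ : ∃ ι : DRing.toD (PCx K) ⟶ DRing.toD (CochainComplex.mappingCone (θCx f K)),
    ι = (DerivedCategory.Q.mapTriangle.obj (CochainComplex.mappingCone.triangle (θCx f K))).mor₂ :=
    ⟨_, rfl⟩
  obtain ⟨δ, hδ⟩ : ∃ δ : DRing.toD (CochainComplex.mappingCone (θCx f K)) ⟶
      (DRing.toD (PCx K))⟦(1 : ℤ)⟧,
    δ = (DerivedCategory.Q.mapTriangle.obj (CochainComplex.mappingCone.triangle (θCx f K))).mor₃ :=
    ⟨_, rfl⟩
  have hT : Triangle.mk D.θ ι δ ∈ distTriang (Dual.D A) := by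
    rw [hι, hδ]
    exact hT₀
  obtain ⟨Z', η, g, hT'⟩ := distinguished_cocone_triangle₂ (δ ≫ (D.π 0)⟦(1 : ℤ)⟧')
  have hN : FInv f (DRing.toD (CochainComplex.mappingCone (θCx f K))) := by
    refine finv_of_triangle f D.s ι δ ?_
    rw [← D.θ_eq]
    exact hT
  refine ⟨Z', η, ?_, ?_, ?_, ?_⟩
  · exact fc_of_forall_finv (fun E hE φ => eq_zero_of_finv_of_triangle D ι δ hT η g hT' hE φ)
  · intro g' hZ
    have hX : FC g' (DRing.toD (PCx K)) := fc_of_isProdFam D.isProd hZ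
    have hN' : FC g' (DRing.toD (CochainComplex.mappingCone (θCx f K))) := fc_obj₃ _ hT hX hX
    exact fc_obj₂ _ hT' hZ hN'
  · intro i h0 h1
    have hX0 : IsZero ((H A i).obj (DRing.toD (PCx K))) := isZero_H_PCx K i h0
    have hX1 : IsZero ((H A (i + 1)).obj (DRing.toD (PCx K))) := isZero_H_PCx K (i + 1) h1
    have hN0 : IsZero ((H A i).obj (DRing.toD (CochainComplex.mappingCone (θCx f K)))) :=
      (HomologySequence.exact₃ _ hT i (i + 1) rfl).isZero_X₂ (hX0.eq_of_src _ _)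
        (hX1.eq_of_tgt _ _)
    exact (HomologySequence.exact₂ _ hT' i).isZero_X₂ (h0.eq_of_src _ _) (hN0.eq_of_tgt _ _)
  · intro L hL
    constructor
    · intro φ ψ hφψ
      have h1 : η ≫ (φ - ψ) = 0 := by
        rw [Preadditive.comp_sub]
        exact sub_eq_zero.2 hφψ
      obtain ⟨β, hβ⟩ := Triangle.yoneda_exact₂ _ hT' (φ - ψ) h1
      have hβ0 : β = 0 := eq_zero_of_finv_of_fc hN hL β
      rw [hβ0, comp_zero] at hβ
      exact sub_eq_zero.1 hβ
    · intro γ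
      have hT'' := inv_rot_of_distTriang _ hT'
      have h1 : (Triangle.mk η g (δ ≫ (D.π 0)⟦(1 : ℤ)⟧')).invRotate.mor₁ ≫ γ = 0 :=
        eq_zero_of_finv_of_fc (hN.shift (-1)) hL _
      obtain ⟨α, hα⟩ := Triangle.yoneda_exact₂ _ hT'' γ h1
      exact ⟨α, hα.symm⟩

/-- existence of the derived `f`-completion -/
theorem exists_fcompletion (f : A) (Z : Dual.D A) :
    ∃ (Z' : Dual.D A) (η : Z ⟶ Z'), FC f Z' ∧
      (∀ g : A, FC g Z → FC g Z') ∧
      (∀ i : ℤ, IsZero ((H A i).obj Z) → IsZero ((H A (i + 1)).obj Z) →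
        IsZero ((H A i).obj Z')) ∧
      (∀ L : Dual.D A, FC f L → Function.Bijective (fun φ : Z' ⟶ L => η ≫ φ)) := by
  obtain ⟨K, ⟨e⟩⟩ : ∃ K : DRing.Cx A, Nonempty (DRing.toD K ≅ Z) :=
    ⟨DerivedCategory.Q.objPreimage Z, ⟨DerivedCategory.Q.objObjPreimageIso Z⟩⟩
  obtain ⟨Z', η, h1, h2, h3, h4⟩ := exists_fcompletion_toD f K
  refine ⟨Z', e.inv ≫ η, h1, fun g hg => h2 g (hg.of_iso e.symm), fun i hi hi' => ?_,
    fun L hL => ?_⟩
  · exact h3 i (hi.of_iso ((H A i).mapIso e)) (hi'.of_iso ((H A (i + 1)).mapIso e))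
  · obtain ⟨hinj, hsurj⟩ := h4 L hL
    constructor
    · intro φ ψ hφψ
      apply hinj
      change η ≫ φ = η ≫ ψ
      have := congrArg (fun t => e.hom ≫ t) hφψ
      simpa using this
    · intro γ
      obtain ⟨α, hα⟩ := hsurj (e.hom ≫ γ)
      refine ⟨α, ?_⟩
      change (e.inv ≫ η) ≫ α = γ
      change η ≫ α = e.hom ≫ γ at hα
      rw [Category.assoc, hα, Iso.inv_hom_id_assoc]

end Groth.Agent.Lib.Helper18.DR
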