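import Mathlib
import Groth.Agent.Lib.Helper18.DCmp5

/-!
# Derived completion for finitely generated ideals (helper18)
-/

set_option autoImplicit false
set_option linter.style.haveILetI false
universe u
open CategoryTheory CategoryTheory.Limits CategoryTheory.Pretriangulated DerivedCategory

attribute [local instance] HasDerivedCategory.standard

namespace Groth.Agent.Lib.Helper18.DR

variable {A : Type u} [CommRing A]

/-- completion with respect to a finite set of elements -/
theorem exists_completion (s : Finset A) : ∀ Z : Dual.D A, ∃ (Z' : Dual.D A) (η : Z ⟶ Z'),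
    (∀ f ∈ s, FC f Z') ∧
    (∀ i : ℤ, (∀ j : ℤ, i ≤ j → j ≤ i + s.card → IsZero ((H A j).obj Z)) →
      IsZero ((H A i).obj Z')) ∧
    (∀ L : Dual.D A, (∀ f ∈ s, FC f L) → Function.Bijective (fun φ : Z' ⟶ L => η ≫ φ)) := by
  classical
  induction s using Finset.induction_on with
  | empty =>
    intro Z
    refine ⟨Z, 𝟙 Z, fun f hf => absurd hf (Finset.notMem_empty f), fun i h => ?_, fun L _ => ?_⟩
    · exact h i le_rfl (by simp)
    · constructor
      · intro φ ψ h
        simpa using h
      · intro γ
        exact ⟨γ, by simp⟩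
  | insert f s hfs ih =>
    intro Z
    obtain ⟨Z₁, η₁, h1, h2, h3⟩ := ih Z
    obtain ⟨Z₂, η₂, k1, k2, k3, k4⟩ := exists_fcompletion f Z₁
    refine ⟨Z₂, η₁ ≫ η₂, ?_, ?_, ?_⟩
    · intro g hg
      rcases Finset.mem_insert.1 hg with rfl | hg
      · exact k1
      · exact k2 g (h1 g hg)
    · intro i h
      rw [Finset.card_insert_of_notMem hfs] at h
      refine k3 i (h2 i (fun j hj hj' => h j hj ?_)) (h2 (i + 1) (fun j hj hj' => h j ?_ ?_))
      · push_cast; omega
      · omega
      · push_cast; omega
    · intro L hL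
      have b1 := h3 L (fun g hg => hL g (Finset.mem_insert_of_mem hg))
      have b2 := k4 L (hL f (Finset.mem_insert_self f s))
      have : (fun φ : Z₂ ⟶ L => (η₁ ≫ η₂) ≫ φ) =
          (fun φ : Z₁ ⟶ L => η₁ ≫ φ) ∘ (fun φ : Z₂ ⟶ L => η₂ ≫ φ) := by
        funext φ
        simp
      rw [this]
      exact b1.comp b2

/-- derived completeness for the span of a finite set -/
lemma isDerivedComplete_span_iff (s : Finset A) (K : Dual.D A) :
    DRing.IsDerivedComplete (Ideal.span (s : Set A)) K ↔ ∀ f ∈ s, FC f K :=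
  ⟨fun h f hf => (isDerivedComplete_iff_fc _ K).1 h f (Ideal.subset_span hf),
    fun h => isDerivedComplete_span _ K (fun f hf => h f hf)⟩

/-- S7096 -/
theorem hasDerivedCompletion_of_fg (I : Ideal A) (hI : I.FG) : DRing.HasDerivedCompletion I := by
  obtain ⟨s, rfl⟩ := hI
  change (ObjectProperty.ι (DRing.IsDerivedComplete (Ideal.span (s : Set A)))).IsRightAdjoint
  rw [isRightAdjoint_iff_hasInitial_structuredArrow]
  intro Z
  obtain ⟨Z', η, h1, -, h3⟩ := exists_completion s Z
  have hZ' : DRing.IsDerivedComplete (Ideal.span (s : Set A)) Z' :=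
    (isDerivedComplete_span_iff s Z').2 h1
  let Z'' : (DRing.IsDerivedComplete (Ideal.span (s : Set A))).FullSubcategory := ⟨Z', hZ'⟩
  let X₀ : StructuredArrow Z (ObjectProperty.ι (DRing.IsDerivedComplete (Ideal.span (s : Set A)))) :=
    StructuredArrow.mk (Y := Z'')
      (show Z ⟶ (ObjectProperty.ι (DRing.IsDerivedComplete (Ideal.span (s : Set A)))).obj Z'' from η)
  have hex : ∀ Y, Nonempty (X₀ ⟶ Y) := by
    intro Y
    obtain ⟨α, hα⟩ := (h3 Y.right.obj ((isDerivedComplete_span_iff s _).1 Y.right.property)).2 Y.hom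
    exact ⟨StructuredArrow.homMk (ObjectProperty.homMk α) (by exact hα)⟩
  have huniq : ∀ Y (m m' : X₀ ⟶ Y), m = m' := by
    intro Y m m'
    apply StructuredArrow.ext
    apply ObjectProperty.hom_ext
    apply (h3 Y.right.obj ((isDerivedComplete_span_iff s _).1 Y.right.property)).1
    exact (StructuredArrow.w m).trans (StructuredArrow.w m').symm
  exact (IsInitial.ofUniqueHom (fun Y => (hex Y).some) (fun Y m => huniq Y m _)).hasInitial

end Groth.Agent.Lib.Helper18.DR
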