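import Mathlib
import Groth.Agent.Lib.Helper18.DCmp6
import Groth.Agent.Lib.Helper18.DualFin
import Groth.Agent.Lib.Helper18.DRRel4
import Groth.Agent.Lib.Helper18.DRExt2

/-!
# Properties of derived completion (helper18)
-/

set_option autoImplicit false
set_option linter.style.haveILetI false
universe u
open CategoryTheory CategoryTheory.Limits CategoryTheory.Pretriangulated DerivedCategory

attribute [local instance] HasDerivedCategory.standard

namespace Groth.Agent.Lib.Helper18.DR

variable {A : Type u} [CommRing A]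

/-- the universal property of the abstract derived completion -/
theorem bijective_toDerivedCompletion_comp (I : Ideal A) [DRing.HasDerivedCompletion I]
    (K L : Dual.D A) (hL : DRing.IsDerivedComplete I L) :
    Function.Bijective (fun φ : ((DRing.derivedCompletion I).obj K).obj ⟶ L =>
      DRing.toDerivedCompletion I K ≫ φ) := by
  let e := (DRing.derivedCompletionAdj I).homEquiv K ⟨L, hL⟩
  have he : ∀ g : (DRing.derivedCompletion I).obj K ⟶ ⟨L, hL⟩,
      e g = DRing.toDerivedCompletion I K ≫ g.hom := fun g =>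
    Adjunction.homEquiv_unit _ _ _ _
  constructor
  · intro φ ψ h
    have h1 : e (ObjectProperty.homMk φ) = e (ObjectProperty.homMk ψ) := by
      rw [he, he]
      exact h
    have h2 := e.injective h1
    exact congrArg (fun t => t.hom) h2
  · intro γ
    refine ⟨(e.symm γ).hom, ?_⟩
    change DRing.toDerivedCompletion I K ≫ (e.symm γ).hom = γ
    rw [← he, Equiv.apply_symm_apply]

/-- two universal arrows to complete objects are isomorphic -/
theorem nonempty_iso_of_universal {P : Dual.D A → Prop} {K Z₁ Z₂ : Dual.D A} (η₁ : K ⟶ Z₁)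
    (η₂ : K ⟶ Z₂) (h₁ : P Z₁) (h₂ : P Z₂)
    (u₁ : ∀ L, P L → Function.Bijective (fun φ : Z₁ ⟶ L => η₁ ≫ φ))
    (u₂ : ∀ L, P L → Function.Bijective (fun φ : Z₂ ⟶ L => η₂ ≫ φ)) :
    ∃ e : Z₁ ≅ Z₂, η₁ ≫ e.hom = η₂ := by
  obtain ⟨α, hα⟩ := (u₁ Z₂ h₂).2 η₂
  obtain ⟨β, hβ⟩ := (u₂ Z₁ h₁).2 η₁
  change η₁ ≫ α = η₂ at hα
  change η₂ ≫ β = η₁ at hβ
  refine ⟨⟨α, β, ?_, ?_⟩, hα⟩
  · apply (u₁ Z₁ h₁).1
    change η₁ ≫ α ≫ β = η₁ ≫ 𝟙 Z₁
    rw [← Category.assoc, hα, hβ, Category.comp_id]
  · apply (u₂ Z₂ h₂).1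
    change η₂ ≫ β ≫ α = η₂ ≫ 𝟙 Z₂
    rw [← Category.assoc, hβ, hα, Category.comp_id]

/-- the abstract derived completion is computed by the explicit construction -/
theorem exists_iso_derivedCompletion (s : Finset A)
    [DRing.HasDerivedCompletion (Ideal.span (s : Set A))] (K : Dual.D A) :
    ∀ i : ℤ, (∀ j : ℤ, i ≤ j → j ≤ i + s.card → IsZero ((H A j).obj K)) →
      IsZero ((H A i).obj ((DRing.derivedCompletion (Ideal.span (s : Set A))).obj K).obj) := by
  obtain ⟨Z', η, h1, h2, h3⟩ := exists_completion s K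
  obtain ⟨e, -⟩ := nonempty_iso_of_universal
    (P := fun L => DRing.IsDerivedComplete (Ideal.span (s : Set A)) L) η
    (DRing.toDerivedCompletion (Ideal.span (s : Set A)) K)
    ((isDerivedComplete_span_iff s Z').2 h1)
    ((DRing.derivedCompletion (Ideal.span (s : Set A))).obj K).property
    (fun L hL => h3 L ((isDerivedComplete_span_iff s L).1 hL))
    (fun L hL => bijective_toDerivedCompletion_comp _ K L hL)
  intro i hi
  exact (h2 i hi).of_iso ((H A i).mapIso e.symm)

/-- S7098 -/
theorem fc_iff_hom_restrictD_eq_zero (f : A) (K : Dual.D A) :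
    (∀ n : ℤ, Subsingleton (Dual.inD A (Localization.Away f) ⟶ K⟦n⟧)) ↔
      ∀ E : Dual.D (Localization.Away f),
        Subsingleton ((DRing.restrictD (algebraMap A (Localization.Away f))).obj E ⟶ K) := by
  constructor
  · intro hK E
    have hfc : FC f K := hK
    have hu := IsLocalization.Away.algebraMap_isUnit (S := Localization.Away f) f
    obtain ⟨u, hu⟩ := hu
    have hiso : IsIso ((algebraMap A (Localization.Away f) f) • 𝟙 E) := by
      rw [← hu]
      refine ⟨⟨((↑u⁻¹ : Localization.Away f)) • 𝟙 E, ?_, ?_⟩⟩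
      · rw [Linear.smul_comp, Linear.comp_smul, Category.id_comp, smul_smul, Units.mul_inv,
          one_smul]
      · rw [Linear.smul_comp, Linear.comp_smul, Category.id_comp, smul_smul, Units.inv_mul,
          one_smul]
    have hE : FInv f
        ((DRing.restrictD (algebraMap A (Localization.Away f))).obj E) := by
      unfold FInv
      rw [← restrictD_map_smul_id f E]
      infer_instance
    refine ⟨fun a b => ?_⟩
    rw [eq_zero_of_finv_of_fc hE hfc a,
      eq_zero_of_finv_of_fc hE hfc b]
  · intro h n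
    let B := Localization.Away f
    let M : ModuleCat.{u} A := ModuleCat.of A B
    let e0 : resM (algebraMap A B) (ModuleCat.of B B) ≅ M :=
      (resBEquiv (A := A) (B := B)).toModuleIso
    let e1 : (DRing.restrictD (algebraMap A B)).obj
        (Sg n (ModuleCat.of B B)) ≅
        Sg n M :=
      restrictDSgIso (algebraMap A B) n (ModuleCat.of B B) ≪≫
        (DerivedCategory.singleFunctor (ModuleCat.{u} A) n).mapIso e0
    haveI := h (Sg n (ModuleCat.of B B))
    have hz : ∀ ψ : Sg n M ⟶ K, ψ = 0 := by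
      intro ψ
      rw [← cancel_epi e1.hom, comp_zero]
      exact Subsingleton.elim _ _
    let c : (Sg n M)⟦n⟧ ≅ Sg 0 M :=
      SgShiftIso n 0 n (by omega) M
    suffices h0 : ∀ φ : Dual.inD A (Localization.Away f) ⟶ K⟦n⟧, φ = 0 from
      ⟨fun a b => by rw [h0 a, h0 b]⟩
    intro φ
    have h1 : c.hom ≫ φ = 0 := by
      rw [← (shiftFunctor (Dual.D A) n).map_preimage (c.hom ≫ φ), hz ((shiftFunctor (Dual.D A) n).preimage (c.hom ≫ φ)),
        Functor.map_zero]
    rw [← cancel_epi c.hom, h1, comp_zero]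


end Groth.Agent.Lib.Helper18.DR
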