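import Mathlib
import Groth.Agent.Lib.Helper18.DCmp7

/-!
# Derived completion of cones (helper18)
-/

set_option autoImplicit false
set_option linter.style.haveILetI false
universe u
open CategoryTheory CategoryTheory.Limits CategoryTheory.Pretriangulated DerivedCategory

attribute [local instance] HasDerivedCategory.standard

namespace Groth.Agent.Lib.Helper18.DR

variable {A : Type u} [CommRing A]

/-- `η` is a universal arrow to the `I`-derived complete objects -/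
def IsUniv (I : Ideal A) {K K' : Dual.D A} (η : K ⟶ K') : Prop :=
  ∀ E : Dual.D A, DRing.IsDerivedComplete I E → Function.Bijective (fun φ : K' ⟶ E => η ≫ φ)

lemma isDerivedComplete_shift (I : Ideal A) {E : Dual.D A} (hE : DRing.IsDerivedComplete I E)
    (n : ℤ) : DRing.IsDerivedComplete I (E⟦n⟧) :=
  (isDerivedComplete_iff_fc I _).2 (fun f hf => ((isDerivedComplete_iff_fc I E).1 hE f hf).shift n)

lemma IsUniv.shift_one {I : Ideal A} {K K' : Dual.D A} {η : K ⟶ K'} (h : IsUniv I η) :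
    IsUniv I (η⟦(1 : ℤ)⟧') := by
  intro E hE
  let a : (E⟦(-1 : ℤ)⟧)⟦(1 : ℤ)⟧ ≅ E :=
    (shiftFunctorCompIsoId (Dual.D A) (-1 : ℤ) 1 (by omega)).app E
  obtain ⟨hinj, hsurj⟩ := h (E⟦(-1 : ℤ)⟧) (isDerivedComplete_shift I hE (-1))
  constructor
  · intro x' y' hxy
    change η⟦(1 : ℤ)⟧' ≫ x' = η⟦(1 : ℤ)⟧' ≫ y' at hxy
    have h1 : (shiftFunctor (Dual.D A) (1 : ℤ)).preimage (x' ≫ a.inv) =
        (shiftFunctor (Dual.D A) (1 : ℤ)).preimage (y' ≫ a.inv) := by
      apply hinj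
      apply (shiftFunctor (Dual.D A) (1 : ℤ)).map_injective
      change (η ≫ _)⟦(1 : ℤ)⟧' = (η ≫ _)⟦(1 : ℤ)⟧'
      rw [Functor.map_comp, Functor.map_comp, Functor.map_preimage, Functor.map_preimage,
        ← Category.assoc, ← Category.assoc, hxy]
    have h2 := congrArg (fun t => (shiftFunctor (Dual.D A) (1 : ℤ)).map t) h1
    simp only [Functor.map_preimage] at h2
    rwa [cancel_mono] at h2
  · intro x
    obtain ⟨y', hy'⟩ := hsurj ((shiftFunctor (Dual.D A) (1 : ℤ)).preimage (x ≫ a.inv))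
    change η ≫ y' = _ at hy'
    refine ⟨y'⟦(1 : ℤ)⟧' ≫ a.hom, ?_⟩
    change η⟦(1 : ℤ)⟧' ≫ y'⟦(1 : ℤ)⟧' ≫ a.hom = x
    rw [← Category.assoc, ← Functor.map_comp, hy', Functor.map_preimage, Category.assoc,
      Iso.inv_hom_id, Category.comp_id]

/-- the cone of the completed map is the completion of the cone -/
theorem exists_univ_cone (I : Ideal A) {K L K' L' : Dual.D A} {ηK : K ⟶ K'} {ηL : L ⟶ L'}
    (hK : IsUniv I ηK) (hL : IsUniv I ηL) (T T' : Triangle (Dual.D A))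
    (hT : T ∈ distTriang (Dual.D A)) (hT' : T' ∈ distTriang (Dual.D A))
    (e₁ : T.obj₁ = K) (e₂ : T.obj₂ = L) (e₁' : T'.obj₁ = K') (e₂' : T'.obj₂ = L')
    (comm : T.mor₁ ≫ eqToHom e₂ ≫ ηL ≫ eqToHom e₂'.symm =
      eqToHom e₁ ≫ ηK ≫ eqToHom e₁'.symm ≫ T'.mor₁) :
    ∃ γ : T.obj₃ ⟶ T'.obj₃, IsUniv I γ := by
  subst e₁ e₂ e₁' e₂'
  simp only [eqToHom_refl, Category.id_comp, Category.comp_id] at comm
  obtain ⟨γ, hγ₁, hγ₂⟩ := complete_distinguished_triangle_morphism T T' hT hT' ηK ηL comm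
  refine ⟨γ, fun E hE => ?_⟩
  have uK := hK E hE
  have uL := hL E hE
  have uK1 := hK.shift_one E hE
  have uL1 := hL.shift_one E hE
  have z31' : T'.mor₃ ≫ T'.mor₁⟦(1 : ℤ)⟧' = 0 := comp_distTriang_mor_zero₃₁ _ hT'
  have z12 : T.mor₁ ≫ T.mor₂ = 0 := comp_distTriang_mor_zero₁₂ _ hT
  constructor
  · intro α α' hαα'
    change γ ≫ α = γ ≫ α' at hαα'
    rw [← sub_eq_zero]
    have hα : γ ≫ (α - α') = 0 := by rw [Preadditive.comp_sub, hαα', sub_self]
    obtain ⟨α₀, hα₀⟩ : ∃ α₀, α₀ = α - α' := ⟨_, rfl⟩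
    rw [← hα₀] at hα ⊢
    have h1 : T'.mor₂ ≫ α₀ = 0 := by
      apply uL.1
      change ηL ≫ T'.mor₂ ≫ α₀ = ηL ≫ 0
      rw [← Category.assoc, ← hγ₁, Category.assoc, hα, comp_zero, comp_zero]
    obtain ⟨β, hβ⟩ := Triangle.yoneda_exact₃ _ hT' α₀ h1
    have h2 : T.mor₃ ≫ (ηK⟦(1 : ℤ)⟧' ≫ β) = 0 := by
      rw [← Category.assoc, hγ₂, Category.assoc, ← hβ, hα]
    obtain ⟨x', hx'⟩ := Triangle.yoneda_exact₃ _ (rot_of_distTriang _ hT) (ηK⟦(1 : ℤ)⟧' ≫ β) h2
    change ηK⟦(1 : ℤ)⟧' ≫ β = (-T.mor₁⟦(1 : ℤ)⟧') ≫ x' at hx'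
    obtain ⟨x'', hx''⟩ := uL1.2 x'
    change ηL⟦(1 : ℤ)⟧' ≫ x'' = x' at hx''
    have h3 : β = (-T'.mor₁⟦(1 : ℤ)⟧') ≫ x'' := by
      apply uK1.1
      change ηK⟦(1 : ℤ)⟧' ≫ β = ηK⟦(1 : ℤ)⟧' ≫ (-T'.mor₁⟦(1 : ℤ)⟧') ≫ x''
      rw [hx', ← hx'', Preadditive.neg_comp, Preadditive.neg_comp, Preadditive.comp_neg,
        ← Category.assoc, ← Category.assoc, ← Functor.map_comp, ← Functor.map_comp, comm]
    rw [hβ, h3, Preadditive.neg_comp, Preadditive.comp_neg, ← Category.assoc, z31', zero_comp,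
      neg_zero]
  · intro ξ
    obtain ⟨lam, hlam⟩ := uL.2 (T.mor₂ ≫ ξ)
    change ηL ≫ lam = T.mor₂ ≫ ξ at hlam
    have h1 : T'.mor₁ ≫ lam = 0 := by
      apply uK.1
      change ηK ≫ T'.mor₁ ≫ lam = ηK ≫ 0
      rw [← Category.assoc, ← comm, Category.assoc, hlam, ← Category.assoc, z12, zero_comp,
        comp_zero]
    obtain ⟨α₀, hα₀⟩ := Triangle.yoneda_exact₂ _ hT' lam h1
    have h2 : T.mor₂ ≫ (ξ - γ ≫ α₀) = 0 := by
      rw [Preadditive.comp_sub, ← Category.assoc, hγ₁, Category.assoc, ← hα₀, hlam, sub_self]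
    obtain ⟨μ, hμ⟩ := Triangle.yoneda_exact₃ _ hT (ξ - γ ≫ α₀) h2
    obtain ⟨μ', hμ'⟩ := uK1.2 μ
    change ηK⟦(1 : ℤ)⟧' ≫ μ' = μ at hμ'
    refine ⟨α₀ + T'.mor₃ ≫ μ', ?_⟩
    change γ ≫ (α₀ + T'.mor₃ ≫ μ') = ξ
    rw [Preadditive.comp_add, ← Category.assoc, ← hγ₂, Category.assoc, hμ', ← hμ]
    abel


lemma isUniv_toDerivedCompletion (I : Ideal A) [DRing.HasDerivedCompletion I] (K : Dual.D A) :
    IsUniv I (DRing.toDerivedCompletion I K) :=
  fun E hE => bijective_toDerivedCompletion_comp I K E hE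

/-- the completed map sits in a triangle whose cone has controlled cohomology -/
theorem exists_triangle_completion (s : Finset A)
    [DRing.HasDerivedCompletion (Ideal.span (s : Set A))] {K L : Dual.D A} (φ : K ⟶ L) :
    ∃ (C C' : Dual.D A) (p : L ⟶ C) (q : C ⟶ K⟦(1 : ℤ)⟧)
      (p' : ((DRing.derivedCompletion (Ideal.span (s : Set A))).obj L).obj ⟶ C')
      (q' : C' ⟶ (((DRing.derivedCompletion (Ideal.span (s : Set A))).obj K).obj)⟦(1 : ℤ)⟧),
      Triangle.mk φ p q ∈ distTriang (Dual.D A) ∧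
      Triangle.mk ((DRing.derivedCompletion (Ideal.span (s : Set A))).map φ).hom p' q' ∈
        distTriang (Dual.D A) ∧
      (∀ i : ℤ, (∀ j : ℤ, i ≤ j → j ≤ i + s.card → IsZero ((H A j).obj C)) →
        IsZero ((H A i).obj C')) := by
  obtain ⟨C, p, q, hT⟩ := distinguished_cocone_triangle φ
  obtain ⟨C', p', q', hT'⟩ := distinguished_cocone_triangle
    ((DRing.derivedCompletion (Ideal.span (s : Set A))).map φ).hom
  refine ⟨C, C', p, q, p', q', hT, hT', ?_⟩
  have comm : φ ≫ DRing.toDerivedCompletion (Ideal.span (s : Set A)) L =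
      DRing.toDerivedCompletion (Ideal.span (s : Set A)) K ≫
        ((DRing.derivedCompletion (Ideal.span (s : Set A))).map φ).hom :=
    (DRing.derivedCompletionAdj (Ideal.span (s : Set A))).unit.naturality φ
  obtain ⟨γ, hγ⟩ := exists_univ_cone (Ideal.span (s : Set A))
    (isUniv_toDerivedCompletion _ K) (isUniv_toDerivedCompletion _ L) _ _ hT hT' rfl rfl rfl rfl
    (by
      change φ ≫ 𝟙 _ ≫ DRing.toDerivedCompletion (Ideal.span (s : Set A)) L ≫ 𝟙 _ =
        𝟙 _ ≫ DRing.toDerivedCompletion (Ideal.span (s : Set A)) K ≫ 𝟙 _ ≫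
          ((DRing.derivedCompletion (Ideal.span (s : Set A))).map φ).hom
      simp only [Category.id_comp, Category.comp_id]
      exact comm)
  change IsUniv (Ideal.span (s : Set A)) (γ : C ⟶ C') at hγ
  have hC' : DRing.IsDerivedComplete (Ideal.span (s : Set A)) C' := by
    rw [isDerivedComplete_span_iff]
    intro f hf
    exact fc_obj₃ _ hT'
      ((isDerivedComplete_span_iff s _).1
        ((DRing.derivedCompletion (Ideal.span (s : Set A))).obj K).property f hf)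
      ((isDerivedComplete_span_iff s _).1
        ((DRing.derivedCompletion (Ideal.span (s : Set A))).obj L).property f hf)
  obtain ⟨Z', η, h1, h2, h3⟩ := exists_completion s C
  obtain ⟨e, -⟩ := nonempty_iso_of_universal
    (P := fun L => DRing.IsDerivedComplete (Ideal.span (s : Set A)) L) η γ
    ((isDerivedComplete_span_iff s Z').2 h1) hC'
    (fun L hL => h3 L ((isDerivedComplete_span_iff s L).1 hL)) hγ
  intro i hi
  exact (h2 i hi).of_iso ((H A i).mapIso e.symm)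

/-- S7091 -/
theorem derivedCompletion_map_homology_iso_of_pos (I : Ideal A) (hI : I.FG)
    [DRing.HasDerivedCompletion I] {K L : Dual.D A} (φ : K ⟶ L)
    (hiso : ∀ i : ℤ, 1 ≤ i → IsIso ((H A i).map φ)) (hepi : Epi ((H A 0).map φ)) :
    (∀ i : ℤ, 1 ≤ i → IsIso ((H A i).map ((DRing.derivedCompletion I).map φ).hom)) ∧
      Epi ((H A 0).map ((DRing.derivedCompletion I).map φ).hom) := by
  obtain ⟨s, rfl⟩ := hI
  obtain ⟨C, C', p, q, p', q', hT, hT', hb⟩ := exists_triangle_completion s φ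
  have hC : ∀ i : ℤ, 0 ≤ i → IsZero ((H A i).obj C) := by
    intro i hi
    have h1 : Epi ((H A i).map φ) := by
      rcases (show i = 0 ∨ 1 ≤ i by omega) with rfl | h
      · exact hepi
      · haveI := hiso i h; infer_instance
    haveI := hiso (i + 1) (by omega)
    exact isZero_H_obj₃ hT i (i + 1) rfl h1 (show Mono ((H A (i + 1)).map φ) from inferInstance)
  have hC' : ∀ i : ℤ, 0 ≤ i → IsZero ((H A i).obj C') := fun i hi =>
    hb i (fun j hj _ => hC j (by omega))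
  refine ⟨fun i hi => ?_, ?_⟩
  · exact isIso_H_mor₁_of_isZero hT' (i - 1) i (by omega) (hC' _ (by omega)) (hC' _ (by omega))
  · exact epi_H_mor₁_of_isZero hT' 0 (hC' 0 le_rfl)

/-- S7092 -/
theorem derivedCompletion_map_homology_iso_of_neg (I : Ideal A) (s : Finset A)
    (hs : Ideal.span (s : Set A) = I) [DRing.HasDerivedCompletion I] {K L : Dual.D A} (φ : K ⟶ L)
    (hiso : ∀ i : ℤ, i ≤ -1 → IsIso ((H A i).map φ)) (hmono : Mono ((H A 0).map φ)) :
    (∀ i : ℤ, i ≤ -(s.card : ℤ) - 1 →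
        IsIso ((H A i).map ((DRing.derivedCompletion I).map φ).hom)) ∧
      Mono ((H A (-(s.card : ℤ))).map ((DRing.derivedCompletion I).map φ).hom) := by
  subst hs
  obtain ⟨C, C', p, q, p', q', hT, hT', hb⟩ := exists_triangle_completion s φ
  have hC : ∀ i : ℤ, i ≤ -1 → IsZero ((H A i).obj C) := by
    intro i hi
    haveI := hiso i hi
    have h1 : Mono ((H A (i + 1)).map φ) := by
      rcases (show i + 1 = 0 ∨ i + 1 ≤ -1 by omega) with h | h
      · rw [h]; exact hmono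
      · haveI := hiso (i + 1) h; infer_instance
    exact isZero_H_obj₃ hT i (i + 1) rfl (show Epi ((H A i).map φ) from inferInstance) h1
  have hC' : ∀ i : ℤ, i ≤ -(s.card : ℤ) - 1 → IsZero ((H A i).obj C') := fun i hi =>
    hb i (fun j _ hj => hC j (by omega))
  refine ⟨fun i hi => ?_, ?_⟩
  · exact isIso_H_mor₁_of_isZero hT' (i - 1) i (by omega) (hC' _ (by omega)) (hC' _ hi)
  · exact mono_H_mor₁_of_isZero hT' (-(s.card : ℤ) - 1) (-(s.card : ℤ)) (by omega)
      (hC' _ le_rfl)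

end Groth.Agent.Lib.Helper18.DR
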