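import Mathlib
import Groth.Agent.Lib.Helper18.RHomKA
import Groth.Agent.Lib.Helper18.PsiA

/-!
# A natural comparison of `RHomCx K` with `Hom•(P, -)` for a K-projective resolution `P ⟶ K`
(helper18)
-/

set_option autoImplicit false
set_option linter.style.haveILetI false
universe u
open CategoryTheory CategoryTheory.Limits HomologicalComplex DerivedCategory

attribute [local instance] HasDerivedCategory.standard

namespace Groth.Agent.Lib.Helper18.DR

namespace RHomCmp

variable {A : Type u} [CommRing A] (K P : DRing.Cx A) [P.IsKProjective] (b : P ⟶ K)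

/-- the functor on `D(A)` induced by `Hom•(P, -)` -/
noncomputable def G : Dual.D A ⥤ Dual.D A :=
  Localization.lift (DRing.homCxQ P) (HomCx.homCxQ_inverts P) DerivedCategory.Q

/-- `Q ⋙ G ≅ Hom•(P, -) ⋙ Q` -/
noncomputable def fac : DerivedCategory.Q ⋙ G P ≅ DRing.homCxQ P :=
  Localization.fac (DRing.homCxQ P) (HomCx.homCxQ_inverts P) DerivedCategory.Q

variable {K P}

/-- `precomp b` as a natural transformation -/
noncomputable def precompNat : DRing.homCxFunctor K ⟶ DRing.homCxFunctor P where
  app L := HomCx.precomp b L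
  naturality L L' g := (Psi.precomp_homCxMap b g).symm

/-- the natural transformation `Hom•(K, -) ⋙ Q ⟶ Q ⋙ G` induced by `b : P ⟶ K` -/
noncomputable def σ : DRing.homCxQ K ⟶ DerivedCategory.Q ⋙ G P :=
  Functor.whiskerRight (precompNat b) DerivedCategory.Q ≫ (fac P).inv

lemma σ_app (L : DRing.Cx A) :
    (σ b).app L = DerivedCategory.Q.map ((precompNat b).app L) ≫ (fac P).inv.app L := rfl

variable [DRing.HasRHomCx K]

/-- the comparison `RHomCx K ⟶ G` -/
noncomputable def τ : DRing.RHomCx K ⟶ G P :=
  (DRing.RHomCx K).rightDerivedDesc (RHomK.unit K)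
    (HomologicalComplex.quasiIso (ModuleCat.{u} A) (ComplexShape.up ℤ)) (G P) (σ b)

lemma unit_τ (L : DRing.Cx A) :
    (RHomK.unit K).app L ≫ (τ b).app (DerivedCategory.Q.obj L) = (σ b).app L :=
  Functor.rightDerived_fac_app _ _ _ _ _ _

variable [QuasiIso b]

lemma isIso_τ_app_of_kinjective (J : DRing.Cx A) [J.IsKInjective] :
    IsIso ((τ b).app (DerivedCategory.Q.obj J)) := by
  haveI := RHomK.isIso_unit_app K J
  haveI := HomCx.quasiIso_precomp J b
  haveI : IsIso (DerivedCategory.Q.map ((precompNat b).app J)) :=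
    inferInstanceAs (IsIso (DerivedCategory.Q.map (HomCx.precomp b J)))
  haveI : IsIso ((σ b).app J) := by
    rw [σ_app]
    infer_instance
  have h := unit_τ b J
  exact IsIso.of_isIso_fac_left h

instance isIso_τ : IsIso (τ b) := by
  haveI : ∀ X : Dual.D A, IsIso ((τ b).app X) := by
    intro X
    obtain ⟨J, j, hJ, hj⟩ := RHomK.hasKInj (DerivedCategory.Q.objPreimage X)
    haveI := hJ
    haveI := hj
    let e : X ≅ DerivedCategory.Q.obj J :=
      (DerivedCategory.Q.objObjPreimageIso X).symm ≪≫ asIso (DerivedCategory.Q.map j)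
    haveI := isIso_τ_app_of_kinjective b J
    have hn := (τ b).naturality e.hom
    have : (τ b).app X = (DRing.RHomCx K).map e.hom ≫ (τ b).app (DerivedCategory.Q.obj J) ≫
        (G P).map e.inv := by
      rw [← Category.assoc, hn, Category.assoc, ← Functor.map_comp, e.hom_inv_id,
        CategoryTheory.Functor.map_id, Category.comp_id]
    rw [this]
    infer_instance
  exact NatIso.isIso_of_isIso_app _

/-- **`Q ⋙ RHomCx K ≅ Hom•(P, -) ⋙ Q` naturally**, for a K-projective resolution `P ⟶ K` -/
noncomputable def Θ : DerivedCategory.Q ⋙ DRing.RHomCx K ≅ DRing.homCxQ P :=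
  Functor.isoWhiskerLeft DerivedCategory.Q (asIso (τ b)) ≪≫ fac P

end RHomCmp

end Groth.Agent.Lib.Helper18.DR
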