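import Mathlib
import Groth.Agent.Lib.Helper18.RHomCmpA
import Groth.Agent.Lib.Helper18.DCmp8
import Groth.Agent.Lib.Helper18.HomCxF
import Groth.Agent.Lib.Helper18.DTenB

/-!
# `Hom•(P, -)` preserves derived `f`-complete objects (helper18)
-/

set_option autoImplicit false
set_option linter.style.haveILetI false
universe u
open CategoryTheory CategoryTheory.Limits HomologicalComplex DerivedCategory MonoidalCategory

attribute [local instance] HasDerivedCategory.standard

namespace Groth.Agent.Lib.Helper18.DR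

namespace RHomCmp

variable {A : Type u} [CommRing A]

lemma smul_id_whiskerRight (f : A) (X P : DRing.Cx A) :
    (f • 𝟙 X) ▷ P = f • 𝟙 (X ⊗ P) := by
  ext m : 1
  apply HomologicalComplex.mapBifunctor.hom_ext
  intro p q h
  rw [HomCx.ι_whiskerRight_f]
  rw [HomologicalComplex.smul_f_apply, HomologicalComplex.smul_f_apply,
    MonoidalLinear.smul_whiskerRight, HomologicalComplex.id_f, HomologicalComplex.id_f,
    MonoidalCategory.id_whiskerRight, Linear.smul_comp, Linear.comp_smul, Category.id_comp]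
  erw [Category.comp_id]

lemma quasiIso_smul_id_of_finv (f : A) (X : DRing.Cx A) (h : FInv f (DRing.toD X)) :
    QuasiIso (f • 𝟙 X) := by
  have h1 : DerivedCategory.Q.map (f • 𝟙 X) = f • 𝟙 (DRing.toD X) := by
    rw [Functor.map_smul, CategoryTheory.Functor.map_id]
  haveI : IsIso (DerivedCategory.Q.map (f • 𝟙 X)) := by
    rw [h1]
    exact h
  exact (DerivedCategory.isIso_Q_map_iff_quasiIso _ _).1 inferInstance

lemma finv_of_quasiIso_smul_id (f : A) (X : DRing.Cx A) [QuasiIso (f • 𝟙 X)] :
    FInv f (DRing.toD X) := by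
  have h1 : DerivedCategory.Q.map (f • 𝟙 X) = f • 𝟙 (DRing.toD X) := by
    rw [Functor.map_smul, CategoryTheory.Functor.map_id]
  change IsIso (f • 𝟙 (DRing.toD X))
  rw [← h1]
  infer_instance

/-- `Hom•(P, -)` preserves derived `f`-complete objects -/
theorem fc_homCx (f : A) (P X : DRing.Cx A) [P.IsKProjective] (hX : FC f (DRing.toD X)) :
    FC f (DRing.toD (DRing.homCx P X)) := by
  refine fc_of_forall_finv (fun E hE φ => ?_)
  obtain ⟨PE, hPE, -, ⟨e⟩⟩ := exists_kprojective_resolution E
  haveI := hPE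
  obtain ⟨t, ht⟩ := exists_map_eq PE (DRing.homCx P X) (e.hom ≫ φ)
  haveI : (PE ⊗ P).IsKProjective := HomCx.isKProjective_tensor PE P
  haveI : QuasiIso (f • 𝟙 PE) := quasiIso_smul_id_of_finv f PE (hE.of_iso e.symm)
  haveI : QuasiIso (f • 𝟙 (PE ⊗ P)) := by
    rw [← smul_id_whiskerRight]
    infer_instance
  have hfin : FInv f (DRing.toD (PE ⊗ P)) := finv_of_quasiIso_smul_id f (PE ⊗ P)
  have h0 : DerivedCategory.Q.map (HomCx.uncurryHom t) = DerivedCategory.Q.map 0 := by
    rw [Functor.map_zero]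
    exact eq_zero_of_finv_of_fc hfin hX _
  obtain ⟨H⟩ := nonempty_homotopy_of_map_eq (PE ⊗ P) X _ _ h0
  have H' : Homotopy t 0 :=
    HomCx.homotopyOfUncurry (H.trans (Homotopy.ofEq HomCx.uncurryHom_zero.symm))
  have h1 : DerivedCategory.Q.map t = 0 := by
    rw [DerivedCategory.Q_map_eq_of_homotopy _ H', Functor.map_zero]
  rw [← cancel_epi e.hom, comp_zero, ← ht, h1]

end RHomCmp

end Groth.Agent.Lib.Helper18.DR
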