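import Mathlib
import Groth.Agent.Lib.Helper18.HomCxG

/-!
# `Hom•(P, -)` preserves degreewise split short exact sequences (helper18)
-/

set_option autoImplicit false
set_option linter.style.haveILetI false
universe u
open CategoryTheory CategoryTheory.Limits HomologicalComplex CochainComplex.HomComplex

namespace Groth.Agent.Lib.Helper18.DR

namespace HomCx

variable {A : Type u} [CommRing A] (P : DRing.Cx A) {L L' L'' : DRing.Cx A}

/-- postcomposition with a cochain of degree `0`, as a linear map on cochains -/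
noncomputable def compRightLin (c : Cochain L L' 0) (i : ℤ) :
    Cochain P L i →ₗ[A] Cochain P L' i where
  toFun z := z.comp c (add_zero i)
  map_add' z z' := by simp
  map_smul' a z := by simp

lemma homCxMap_f (g : L ⟶ L') (i : ℤ) :
    (DRing.homCxMap P g).f i = ModuleCat.ofHom (compRightLin P (Cochain.ofHom g) i) := rfl

lemma compRightLin_comp (c : Cochain L L' 0) (c' : Cochain L' L'' 0) (i : ℤ) :
    compRightLin P (c.comp c' (zero_add 0)) i = (compRightLin P c' i).comp (compRightLin P c i) := by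
  refine LinearMap.ext (fun z => ?_)
  exact (Cochain.comp_assoc_of_third_is_zero_cochain z c c' (add_zero i)).symm

lemma compRightLin_add (c c' : Cochain L L' 0) (i : ℤ) :
    compRightLin P (c + c') i = compRightLin P c i + compRightLin P c' i := by
  refine LinearMap.ext (fun z => ?_)
  exact Cochain.comp_add z c c' (add_zero i)

lemma compRightLin_id (i : ℤ) :
    compRightLin P (Cochain.ofHom (𝟙 L)) i = LinearMap.id := by
  refine LinearMap.ext (fun z => ?_)
  exact Cochain.comp_id z

lemma compRightLin_zero (i : ℤ) :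
    compRightLin P (0 : Cochain L L' 0) i = 0 := by
  refine LinearMap.ext (fun z => ?_)
  exact Cochain.comp_zero z (add_zero i)

lemma homCxMap_zero : DRing.homCxMap P (0 : L ⟶ L') = 0 := by
  refine HomologicalComplex.hom_ext _ _ (fun i => ?_)
  rw [homCxMap_f, Cochain.ofHom_zero, compRightLin_zero]
  rfl

lemma homCxMap_comp (g : L ⟶ L') (g' : L' ⟶ L'') :
    DRing.homCxMap P (g ≫ g') = DRing.homCxMap P g ≫ DRing.homCxMap P g' :=
  (DRing.homCxFunctor P).map_comp g g'

lemma homCxMap_id : DRing.homCxMap P (𝟙 L) = 𝟙 _ :=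
  (DRing.homCxFunctor P).map_id L

lemma homCxMap_smul_id (f : A) : DRing.homCxMap P (f • 𝟙 L) = f • 𝟙 _ := by
  refine HomologicalComplex.hom_ext _ _ (fun i => ?_)
  refine ModuleCat.hom_ext (LinearMap.ext fun (z : Cochain P L i) => ?_)
  change z.comp (Cochain.ofHom (f • 𝟙 L)) (add_zero i) = f • z
  have h : Cochain.ofHom (f • 𝟙 L) = f • Cochain.ofHom (𝟙 L) := by
    refine Cochain.ext₀ _ _ (fun p => ?_)
    rw [Cochain.smul_v, Cochain.ofHom_v, Cochain.ofHom_v, HomologicalComplex.smul_f_apply]
  rw [h, Cochain.comp_smul, Cochain.comp_id]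

/-- `Hom•(P, -)` applied to a short complex of complexes -/
noncomputable def homCxSCR (S : ShortComplex (DRing.Cx A)) : ShortComplex (DRing.Cx A) :=
  ShortComplex.mk (DRing.homCxMap P S.f) (DRing.homCxMap P S.g)
    (by rw [← homCxMap_comp, S.zero, homCxMap_zero])

/-- the splitting in degree `n` -/
noncomputable def homCxSCRSplitting (S : ShortComplex (DRing.Cx A))
    (σ : ∀ p, (S.map (HomologicalComplex.eval _ _ p)).Splitting) (n : ℤ) :
    ((homCxSCR P S).map (HomologicalComplex.eval _ _ n)).Splitting where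
  r := ModuleCat.ofHom (compRightLin P (Cochain.ofHoms (fun p => (σ p).r)) n)
  s := ModuleCat.ofHom (compRightLin P (Cochain.ofHoms (fun p => (σ p).s)) n)
  f_r := by
    change ModuleCat.ofHom (compRightLin P (Cochain.ofHom S.f) n) ≫
      ModuleCat.ofHom (compRightLin P (Cochain.ofHoms (fun p => (σ p).r)) n) = 𝟙 _
    rw [← ModuleCat.ofHom_comp, ← compRightLin_comp]
    have h : (Cochain.ofHom S.f).comp (Cochain.ofHoms (fun p => (σ p).r)) (zero_add 0) =
        Cochain.ofHom (𝟙 S.X₁) := by
      change (Cochain.ofHoms (fun p => S.f.f p)).comp (Cochain.ofHoms (fun p => (σ p).r))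
        (zero_add 0) = Cochain.ofHoms (fun p => (𝟙 S.X₁ : S.X₁ ⟶ S.X₁).f p)
      rw [Cochain.ofHoms_comp]
      congr 1
      funext p
      exact (σ p).f_r
    rw [h, compRightLin_id]
    rfl
  s_g := by
    change ModuleCat.ofHom (compRightLin P (Cochain.ofHoms (fun p => (σ p).s)) n) ≫
      ModuleCat.ofHom (compRightLin P (Cochain.ofHom S.g) n) = 𝟙 _
    rw [← ModuleCat.ofHom_comp, ← compRightLin_comp]
    have h : (Cochain.ofHoms (fun p => (σ p).s)).comp (Cochain.ofHom S.g) (zero_add 0) =
        Cochain.ofHom (𝟙 S.X₃) := by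
      change (Cochain.ofHoms (fun p => (σ p).s)).comp (Cochain.ofHoms (fun p => S.g.f p))
        (zero_add 0) = Cochain.ofHoms (fun p => (𝟙 S.X₃ : S.X₃ ⟶ S.X₃).f p)
      rw [Cochain.ofHoms_comp]
      congr 1
      funext p
      exact (σ p).s_g
    rw [h, compRightLin_id]
    rfl
  id := by
    change ModuleCat.ofHom (compRightLin P (Cochain.ofHoms (fun p => (σ p).r)) n) ≫
        ModuleCat.ofHom (compRightLin P (Cochain.ofHom S.f) n) +
      ModuleCat.ofHom (compRightLin P (Cochain.ofHom S.g) n) ≫
        ModuleCat.ofHom (compRightLin P (Cochain.ofHoms (fun p => (σ p).s)) n) = 𝟙 _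
    rw [← ModuleCat.ofHom_comp, ← ModuleCat.ofHom_comp, ← compRightLin_comp, ← compRightLin_comp,
      ← ModuleCat.ofHom_add, ← compRightLin_add]
    have h : (Cochain.ofHoms (fun p => (σ p).r)).comp (Cochain.ofHom S.f) (zero_add 0) +
        (Cochain.ofHom S.g).comp (Cochain.ofHoms (fun p => (σ p).s)) (zero_add 0) =
        Cochain.ofHom (𝟙 S.X₂) := by
      change (Cochain.ofHoms (fun p => (σ p).r)).comp (Cochain.ofHoms (fun p => S.f.f p))
          (zero_add 0) +
        (Cochain.ofHoms (fun p => S.g.f p)).comp (Cochain.ofHoms (fun p => (σ p).s))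
          (zero_add 0) = Cochain.ofHoms (fun p => (𝟙 S.X₂ : S.X₂ ⟶ S.X₂).f p)
      rw [Cochain.ofHoms_comp, Cochain.ofHoms_comp]
      refine Cochain.ext₀ _ _ (fun p => ?_)
      rw [Cochain.add_v, Cochain.ofHoms_v, Cochain.ofHoms_v, Cochain.ofHoms_v]
      exact (σ p).id
    rw [h, compRightLin_id]
    rfl

theorem homCxSCR_shortExact (S : ShortComplex (DRing.Cx A))
    (σ : ∀ p, (S.map (HomologicalComplex.eval _ _ p)).Splitting) :
    (homCxSCR P S).ShortExact :=
  HomologicalComplex.shortExact_of_degreewise_shortExact _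
    (fun n => (homCxSCRSplitting P S σ n).shortExact)

end HomCx

end Groth.Agent.Lib.Helper18.DR
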