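import Mathlib
import Groth.Agent.Lib.Helper18.RHomCmpB
import Groth.Agent.Lib.Helper18.RHomCmpC
import Groth.Agent.Lib.Helper2.PResRel

/-!
# `Hom•(P, -)` and universal arrows to derived complete objects, one element at a time (helper18)
-/

set_option autoImplicit false
set_option linter.style.haveILetI false
universe u
open CategoryTheory CategoryTheory.Limits CategoryTheory.Pretriangulated HomologicalComplex
  DerivedCategory

attribute [local instance] HasDerivedCategory.standard

namespace Groth.Agent.Lib.Helper18.DR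

namespace RHomCmp

open Groth.Agent.Lib.Helper2.PRes

variable {A : Type u} [CommRing A]

/-- precomposition with the first map of a distinguished triangle is bijective on maps to `E`
when the third vertex and its desuspension have no maps to `E` -/
lemma bijective_precomp_of_triangle {C : Type*} [Category C] [Preadditive C] [HasZeroObject C]
    [HasShift C ℤ] [∀ n : ℤ, (shiftFunctor C n).Additive] [Pretriangulated C]
    (T : Triangle C) (hT : T ∈ distTriang C) (E : C) (h3 : ∀ φ : T.obj₃ ⟶ E, φ = 0)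
    (h3' : ∀ φ : T.obj₃⟦(-1 : ℤ)⟧ ⟶ E, φ = 0) :
    Function.Bijective (fun φ : T.obj₂ ⟶ E => T.mor₁ ≫ φ) := by
  constructor
  · intro φ ψ hφψ
    have h1 : T.mor₁ ≫ (φ - ψ) = 0 := by
      rw [Preadditive.comp_sub]
      exact sub_eq_zero.2 hφψ
    obtain ⟨β, hβ⟩ := Triangle.yoneda_exact₂ _ hT (φ - ψ) h1
    rw [h3 β, comp_zero] at hβ
    exact sub_eq_zero.1 hβ
  · intro γ
    have hT'' := inv_rot_of_distTriang _ hT
    have h1 : T.invRotate.mor₁ ≫ γ = 0 := h3' _
    obtain ⟨α, hα⟩ := Triangle.yoneda_exact₂ _ hT'' γ h1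
    exact ⟨α, hα.symm⟩

/-- the key step: `Hom•(P, -)` of a map whose cone has `f` invertible induces a bijection on maps
into derived `f`-complete objects -/
theorem bijective_precomp_homCxMap (P X Y : DRing.Cx A) [P.IsKProjective] (u : X ⟶ Y)
    (N : Dual.D A) (g : DRing.toD Y ⟶ N) (δ : N ⟶ (DRing.toD X)⟦(1 : ℤ)⟧)
    (hT : Triangle.mk (DerivedCategory.Q.map u) g δ ∈ distTriang (Dual.D A)) (f : A)
    (hN : FInv f N) (E : Dual.D A) (hE : FC f E) :
    Function.Bijective (fun φ : DRing.toD (DRing.homCx P Y) ⟶ E =>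
      DerivedCategory.Q.map (DRing.homCxMap P u) ≫ φ) := by
  haveI : ∀ n, Mono ((cylι u).f n) := fun n => mono_of_mono_fac (cylι_f_retraction u n)
  haveI : Mono (cylι u) := HomologicalComplex.mono_of_mono_f _ inferInstance
  let S : ShortComplex (DRing.Cx A) :=
    ShortComplex.mk (cylι u) (cokernel.π (cylι u)) (cokernel.condition _)
  have hS : S.ShortExact :=
    ShortComplex.ShortExact.mk' (ShortComplex.exact_cokernel (cylι u)) inferInstance
      (inferInstanceAs (Epi (cokernel.π (cylι u))))
  have σ : ∀ p, (S.map (HomologicalComplex.eval _ _ p)).Splitting := fun p => by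
    have hSp : (S.map (HomologicalComplex.eval _ (ComplexShape.up ℤ) p)).ShortExact :=
      hS.map_of_exact _
    haveI := hSp.epi_g
    exact ShortComplex.Splitting.ofExactOfRetraction _ hSp.exact _ (cylι_f_retraction u p)
      hSp.epi_g
  -- the cokernel of `cylι` has `f` invertible
  have hT₂ := DerivedCategory.triangleOfSES_distinguished hS
  let π : cyl (R := X) (K' := Y) ⟶ Y := cylπ
  haveI : QuasiIso π := inferInstanceAs (QuasiIso (cylπ : cyl (R := X) (K' := Y) ⟶ Y))
  haveI : IsIso (DerivedCategory.Q.map π) := inferInstance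
  let e₂ : DRing.toD (cyl (R := X) (K' := Y)) ≅ DRing.toD Y := asIso (DerivedCategory.Q.map π)
  let eT : DerivedCategory.triangleOfSES hS ≅ Triangle.mk (DerivedCategory.Q.map u) g δ :=
    isoTriangleOfIso₁₂ _ _ hT₂ hT (Iso.refl _) e₂ (by
        change DerivedCategory.Q.map (cylι u) ≫ DerivedCategory.Q.map π =
          𝟙 _ ≫ DerivedCategory.Q.map u
        rw [← Functor.map_comp, cylι_π, Category.id_comp])
  have hW : FInv f (DRing.toD S.X₃) := hN.of_iso (Triangle.π₃.mapIso eT).symm
  haveI : QuasiIso (f • 𝟙 S.X₃) := quasiIso_smul_id_of_finv f S.X₃ hW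
  haveI : QuasiIso (f • 𝟙 (DRing.homCx P S.X₃)) := by
    rw [← HomCx.homCxMap_smul_id]
    exact HomCx.quasiIso_homCxMap P _
  have hGW : FInv f (DRing.toD (DRing.homCx P S.X₃)) := finv_of_quasiIso_smul_id f _
  -- the triangle of `Hom•(P, S)`
  have hS' := HomCx.homCxSCR_shortExact P S σ
  have hT₃ := DerivedCategory.triangleOfSES_distinguished hS'
  have b1 := bijective_precomp_of_triangle _ hT₃ E
    (fun φ => eq_zero_of_finv_of_fc hGW hE φ)
    (fun φ => eq_zero_of_finv_of_fc (hGW.shift (-1)) hE φ)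
  change Function.Bijective (fun φ : DRing.toD (DRing.homCx P (cyl (R := X) (K' := Y))) ⟶ E =>
    DerivedCategory.Q.map (DRing.homCxMap P (cylι u)) ≫ φ) at b1
  haveI : QuasiIso (DRing.homCxMap P π) := HomCx.quasiIso_homCxMap P _
  haveI : IsIso (DerivedCategory.Q.map (DRing.homCxMap P π)) := inferInstance
  have b2 : Function.Bijective (fun φ : DRing.toD (DRing.homCx P Y) ⟶ E =>
      DerivedCategory.Q.map (DRing.homCxMap P π) ≫ φ) := by
    constructor
    · intro φ ψ h
      exact (cancel_epi _).1 h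
    · intro γ
      exact ⟨inv (DerivedCategory.Q.map (DRing.homCxMap P π)) ≫ γ, by simp⟩
  have : (fun φ : DRing.toD (DRing.homCx P Y) ⟶ E =>
      DerivedCategory.Q.map (DRing.homCxMap P u) ≫ φ) =
      (fun φ : DRing.toD (DRing.homCx P (cyl (R := X) (K' := Y))) ⟶ E =>
        DerivedCategory.Q.map (DRing.homCxMap P (cylι u)) ≫ φ) ∘
      (fun φ : DRing.toD (DRing.homCx P Y) ⟶ E =>
        DerivedCategory.Q.map (DRing.homCxMap P π) ≫ φ) := by
    funext φ
    change _ = DerivedCategory.Q.map (DRing.homCxMap P (cylι u)) ≫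
      DerivedCategory.Q.map (DRing.homCxMap P π) ≫ φ
    rw [← Category.assoc, ← Functor.map_comp, ← HomCx.homCxMap_comp, cylι_π]
  rw [this]
  exact b1.comp b2

end RHomCmp

end Groth.Agent.Lib.Helper18.DR
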