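import Mathlib
import Groth.Agent.Lib.Helper18.RHomCmpD

/-!
# `RHomCx K` commutes with derived completion (helper18)
-/

set_option autoImplicit false
set_option linter.style.haveILetI false
universe u
open CategoryTheory CategoryTheory.Limits CategoryTheory.Pretriangulated HomologicalComplex
  DerivedCategory

attribute [local instance] HasDerivedCategory.standard

namespace Groth.Agent.Lib.Helper18.DR

namespace RHomCmp

variable {A : Type u} [CommRing A]

/-- existence of the derived `f`-completion of the image of a complex, with its triangle -/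
theorem exists_fcompletion_toD' (f : A) (K : DRing.Cx A) :
    ∃ (Z' : Dual.D A) (η : DRing.toD K ⟶ Z') (N : Dual.D A) (g : Z' ⟶ N)
      (δ' : N ⟶ (DRing.toD K)⟦(1 : ℤ)⟧),
      Triangle.mk η g δ' ∈ distTriang (Dual.D A) ∧ FInv f N ∧ FC f Z' ∧
      (∀ g' : A, FC g' (DRing.toD K) → FC g' Z') ∧
      (∀ L : Dual.D A, FC f L → Function.Bijective (fun φ : Z' ⟶ L => η ≫ φ)) := by
  let D := powDataPCx f K
  have hT₀ := DerivedCategory.mappingCone_triangle_distinguished (θCx f K)
  obtain ⟨ι, hι⟩ : ∃ ι : DRing.toD (PCx K) ⟶ DRing.toD (CochainComplex.mappingCone (θCx f K)),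
    ι = (DerivedCategory.Q.mapTriangle.obj (CochainComplex.mappingCone.triangle (θCx f K))).mor₂ :=
    ⟨_, rfl⟩
  obtain ⟨δ, hδ⟩ : ∃ δ : DRing.toD (CochainComplex.mappingCone (θCx f K)) ⟶
      (DRing.toD (PCx K))⟦(1 : ℤ)⟧,
    δ = (DerivedCategory.Q.mapTriangle.obj (CochainComplex.mappingCone.triangle (θCx f K))).mor₃ :=
    ⟨_, rfl⟩
  have hT : Triangle.mk D.θ ι δ ∈ distTriang (Dual.D A) := by
    rw [hι, hδ]
    exact hT₀
  obtain ⟨Z', η, g, hT'⟩ := distinguished_cocone_triangle₂ (δ ≫ (D.π 0)⟦(1 : ℤ)⟧')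
  have hN : FInv f (DRing.toD (CochainComplex.mappingCone (θCx f K))) := by
    refine finv_of_triangle f D.s ι δ ?_
    rw [← D.θ_eq]
    exact hT
  refine ⟨Z', η, _, g, _, hT', hN, ?_, ?_, ?_⟩
  · exact fc_of_forall_finv (fun E hE φ => eq_zero_of_finv_of_triangle D ι δ hT η g hT' hE φ)
  · intro g' hZ
    have hX : FC g' (DRing.toD (PCx K)) := fc_of_isProdFam D.isProd hZ
    have hN' : FC g' (DRing.toD (CochainComplex.mappingCone (θCx f K))) := fc_obj₃ _ hT hX hX
    exact fc_obj₂ _ hT' hZ hN'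
  · intro L hL
    constructor
    · intro φ ψ hφψ
      have h1 : η ≫ (φ - ψ) = 0 := by
        rw [Preadditive.comp_sub]
        exact sub_eq_zero.2 hφψ
      obtain ⟨β, hβ⟩ := Triangle.yoneda_exact₂ _ hT' (φ - ψ) h1
      have hβ0 : β = 0 := eq_zero_of_finv_of_fc hN hL β
      rw [hβ0, comp_zero] at hβ
      exact sub_eq_zero.1 hβ
    · intro γ
      have hT'' := inv_rot_of_distTriang _ hT'
      have h1 : (Triangle.mk η g (δ ≫ (D.π 0)⟦(1 : ℤ)⟧')).invRotate.mor₁ ≫ γ = 0 :=
        eq_zero_of_finv_of_fc (hN.shift (-1)) hL _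
      obtain ⟨α, hα⟩ := Triangle.yoneda_exact₂ _ hT'' γ h1
      exact ⟨α, hα.symm⟩

/-- precomposition with `h` is bijective on maps to `E` -/
def PreBij {C : Type*} [Category C] (E : C) {X Y : C} (h : X ⟶ Y) : Prop :=
  Function.Bijective (fun φ : Y ⟶ E => h ≫ φ)

lemma PreBij.comp {C : Type*} [Category C] {E X Y Z : C} {h : X ⟶ Y} {k : Y ⟶ Z}
    (hh : PreBij E h) (hk : PreBij E k) : PreBij E (h ≫ k) := by
  have : (fun φ : Z ⟶ E => (h ≫ k) ≫ φ) = (fun φ : Y ⟶ E => h ≫ φ) ∘ (fun φ : Z ⟶ E => k ≫ φ) := by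
    funext φ
    simp
  unfold PreBij
  rw [this]
  exact Function.Bijective.comp hh hk

lemma PreBij.of_isIso {C : Type*} [Category C] (E : C) {X Y : C} (h : X ⟶ Y) [IsIso h] :
    PreBij E h := by
  constructor
  · intro φ ψ hφψ
    exact (cancel_epi h).1 hφψ
  · intro γ
    exact ⟨inv h ≫ γ, by simp⟩

section main

variable (K P : DRing.Cx A) [P.IsKProjective] (b : P ⟶ K) [QuasiIso b] [DRing.HasRHomCx K]

include b in
/-- `RHomCx K` preserves derived `f`-complete objects -/
theorem fc_RHomCx (f : A) (Y : Dual.D A) (hY : FC f Y) : FC f ((DRing.RHomCx K).obj Y) := by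
  let X : DRing.Cx A := DerivedCategory.Q.objPreimage Y
  let e : DRing.toD X ≅ Y := DerivedCategory.Q.objObjPreimageIso Y
  have h1 : FC f (DRing.toD (DRing.homCx P X)) := fc_homCx f P X (hY.of_iso e.symm)
  exact h1.of_iso (((Θ b).app X).symm ≪≫ (DRing.RHomCx K).mapIso e)

include b in
/-- the one-element step for `RHomCx K` -/
theorem preBij_RHomCx_map (X : DRing.Cx A) [X.IsKProjective] (Z' : Dual.D A)
    (η : DRing.toD X ⟶ Z') (N : Dual.D A) (g : Z' ⟶ N) (δ' : N ⟶ (DRing.toD X)⟦(1 : ℤ)⟧)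
    (hT : Triangle.mk η g δ' ∈ distTriang (Dual.D A)) (f : A) (hN : FInv f N) (E : Dual.D A)
    (hE : FC f E) : PreBij E ((DRing.RHomCx K).map η) := by
  let Y : DRing.Cx A := DerivedCategory.Q.objPreimage Z'
  let e₂ : DRing.toD Y ≅ Z' := DerivedCategory.Q.objObjPreimageIso Z'
  obtain ⟨u, hu⟩ := exists_map_eq X Y (η ≫ e₂.inv)
  have hT' : Triangle.mk (DerivedCategory.Q.map u) (e₂.hom ≫ g) δ' ∈ distTriang (Dual.D A) := by
    refine isomorphic_distinguished _ hT _ ?_
    refine Triangle.isoMk _ _ (Iso.refl _) e₂ (Iso.refl _) ?_ ?_ ?_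
    · change DerivedCategory.Q.map u ≫ e₂.hom = 𝟙 _ ≫ η
      rw [hu, Category.assoc, e₂.inv_hom_id, Category.comp_id, Category.id_comp]
    · change (e₂.hom ≫ g) ≫ 𝟙 _ = e₂.hom ≫ g
      rw [Category.comp_id]
    · change δ' ≫ (shiftFunctor (Dual.D A) (1 : ℤ)).map (𝟙 _) = 𝟙 _ ≫ δ'
      rw [CategoryTheory.Functor.map_id, Category.comp_id, Category.id_comp]
  have b1 : PreBij E (DerivedCategory.Q.map (DRing.homCxMap P u)) :=
    bijective_precomp_homCxMap P X Y u N (e₂.hom ≫ g) δ' hT' f hN E hE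
  let θX : (DRing.RHomCx K).obj (DRing.toD X) ≅ DRing.toD (DRing.homCx P X) := (Θ b).app X
  let θY : (DRing.RHomCx K).obj (DRing.toD Y) ≅ DRing.toD (DRing.homCx P Y) := (Θ b).app Y
  have hnat0 : (DRing.RHomCx K).map (DerivedCategory.Q.map u) ≫ θY.hom =
      θX.hom ≫ DerivedCategory.Q.map (DRing.homCxMap P u) := (Θ b).hom.naturality u
  have hnat : (DRing.RHomCx K).map (DerivedCategory.Q.map u) =
      θX.hom ≫ DerivedCategory.Q.map (DRing.homCxMap P u) ≫ θY.inv := by
    rw [← Category.assoc, ← hnat0, Category.assoc, θY.hom_inv_id, Category.comp_id]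
  have hη : η = DerivedCategory.Q.map u ≫ e₂.hom := by
    rw [hu, Category.assoc, e₂.inv_hom_id, Category.comp_id]
  rw [hη, Functor.map_comp, hnat]
  exact (((PreBij.of_isIso E θX.hom).comp (b1.comp (PreBij.of_isIso E θY.inv)))).comp
    (PreBij.of_isIso E _)

include b in
/-- completion with respect to a finite set of elements, compatible with `RHomCx K` -/
theorem exists_completion_RHomCx (s : Finset A) : ∀ Z : Dual.D A, ∃ (Z' : Dual.D A) (η : Z ⟶ Z'),
    (∀ f ∈ s, FC f Z') ∧
    (∀ L : Dual.D A, (∀ f ∈ s, FC f L) → PreBij L η) ∧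
    (∀ E : Dual.D A, (∀ f ∈ s, FC f E) → PreBij E ((DRing.RHomCx K).map η)) := by
  classical
  induction s using Finset.induction_on with
  | empty =>
    intro Z
    refine ⟨Z, 𝟙 Z, fun f hf => absurd hf (Finset.notMem_empty f), fun L _ => ?_, fun E _ => ?_⟩
    · exact PreBij.of_isIso L _
    · exact PreBij.of_isIso E _
  | insert f s hfs ih =>
    intro Z
    obtain ⟨Z₁, η₁, h1, h2, h3⟩ := ih Z
    obtain ⟨X, hX, -, ⟨e⟩⟩ := exists_kprojective_resolution Z₁
    haveI := hX
    obtain ⟨Z₂, η₂, N, g, δ', hT, hN, k1, k2, k4⟩ := exists_fcompletion_toD' f X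
    refine ⟨Z₂, η₁ ≫ e.inv ≫ η₂, ?_, ?_, ?_⟩
    · intro g' hg'
      rcases Finset.mem_insert.1 hg' with rfl | hg'
      · exact k1
      · exact k2 g' ((h1 g' hg').of_iso e.symm)
    · intro L hL
      have b1 := h2 L (fun g' hg' => hL g' (Finset.mem_insert_of_mem hg'))
      have b2 : PreBij L η₂ := k4 L (hL f (Finset.mem_insert_self f s))
      exact b1.comp ((PreBij.of_isIso L e.inv).comp b2)
    · intro E hE
      have b1 := h3 E (fun g' hg' => hE g' (Finset.mem_insert_of_mem hg'))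
      have b2 : PreBij E ((DRing.RHomCx K).map η₂) :=
        preBij_RHomCx_map K P b X Z₂ η₂ N g δ' hT f hN E (hE f (Finset.mem_insert_self f s))
      rw [Functor.map_comp, Functor.map_comp]
      exact b1.comp ((PreBij.of_isIso E _).comp b2)

end main

/-- **S7101** -/
theorem derivedCompletion_RHomCx (I : Ideal A) (hI : I.FG) [DRing.HasDerivedCompletion I]
    (K : DRing.Cx A) [DRing.HasRHomCx K] (L : Dual.D A) :
    DRing.IsDerivedComplete I ((DRing.RHomCx K).obj ((DRing.derivedCompletion I).obj L).obj) ∧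
      ∀ E : Dual.D A, DRing.IsDerivedComplete I E →
        Function.Bijective (fun φ : (DRing.RHomCx K).obj ((DRing.derivedCompletion I).obj L).obj ⟶ E =>
          (DRing.RHomCx K).map (DRing.toDerivedCompletion I L) ≫ φ) := by
  classical
  obtain ⟨s, rfl⟩ := hI
  obtain ⟨P, b, hP, hb⟩ := DTenB.exists_kprojective_quasiIso K
  haveI := hP
  haveI := hb
  obtain ⟨Z', η, h1, h2, h3⟩ := exists_completion_RHomCx K P b s L
  obtain ⟨c, hc⟩ := nonempty_iso_of_universal
    (P := fun L => DRing.IsDerivedComplete (Ideal.span (s : Set A)) L) η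
    (DRing.toDerivedCompletion (Ideal.span (s : Set A)) L)
    ((isDerivedComplete_span_iff s Z').2 h1)
    ((DRing.derivedCompletion (Ideal.span (s : Set A))).obj L).property
    (fun L' hL' => h2 L' ((isDerivedComplete_span_iff s L').1 hL'))
    (fun L' hL' => bijective_toDerivedCompletion_comp _ L L' hL')
  constructor
  · rw [isDerivedComplete_span_iff]
    intro f hf
    exact fc_RHomCx K P b f _ ((h1 f hf).of_iso c)
  · intro E hE
    have b1 := h3 E ((isDerivedComplete_span_iff s E).1 hE)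
    have : PreBij E ((DRing.RHomCx K).map (DRing.toDerivedCompletion (Ideal.span (s : Set A)) L)) := by
      rw [← hc, Functor.map_comp]
      exact b1.comp (PreBij.of_isIso E _)
    exact this

end RHomCmp

end Groth.Agent.Lib.Helper18.DR
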