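import Mathlib
import Groth.Agent.Lib.Helper18.RHomCmpE
import Groth.Agent.Lib.Helper18.TotSingle
import Groth.Agent.Lib.Helper18.PrecompQis
import Groth.Agent.Lib.Helper18.HomCxK

/-!
# `Hom•(X, J)` is derived `g`-complete when `X` has `g`-power torsion cohomology (helper18)
-/

set_option autoImplicit false
set_option linter.style.haveILetI false
universe u
open CategoryTheory CategoryTheory.Limits CategoryTheory.Pretriangulated HomologicalComplex
  DerivedCategory MonoidalCategory

attribute [local instance] HasDerivedCategory.standard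

namespace Groth.Agent.Lib.Helper18.DR

namespace Cech

open Groth.Agent.Lib.Helper2.Tot Groth.Agent.Lib.Helper2.Tot.DR RHomCmp

variable {A : Type u} [CommRing A]

/-- the localization `A_g` as an object of `ModuleCat A` -/
noncomputable abbrev Aw (g : A) : ModuleCat.{u} A := ModuleCat.of A (Localization.Away g)

/-- termwise `A_g ⊗ -` -/
noncomputable abbrev Gg (g : A) : DRing.Cx A ⥤ DRing.Cx A :=
  (tensorLeft (Aw g)).mapHomologicalComplex (ComplexShape.up ℤ)

/-- `X` has `g`-power torsion cohomology, in the form: `A_g ⊗ X` is acyclic -/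
def TorA (g : A) (X : DRing.Cx A) : Prop := ((Gg g).obj X).Acyclic

lemma TorA.shift {g : A} {X : DRing.Cx A} (h : TorA g X) (a : ℤ) : TorA g (X⟦a⟧) :=
  acyclic_of_iso (((Gg g).commShiftIso a).app X).symm (acyclic_shift h a)

lemma subsingleton_tensor_away_of_torsion (g : A) (H : Type u) [AddCommGroup H] [Module A H]
    (h : ∀ x : H, ∃ n : ℕ, g ^ n • x = 0) :
    Subsingleton (TensorProduct A (Localization.Away g) H) := by
  refine ⟨fun a b => ?_⟩
  suffices h0 : ∀ z : TensorProduct A (Localization.Away g) H, z = 0 by rw [h0 a, h0 b]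
  intro z
  induction z using TensorProduct.induction_on with
  | zero => rfl
  | add x y hx hy => rw [hx, hy, add_zero]
  | tmul a x =>
    obtain ⟨n, hn⟩ := h x
    have hu : IsUnit (algebraMap A (Localization.Away g) (g ^ n)) := by
      rw [map_pow]
      exact (IsLocalization.Away.algebraMap_isUnit g).pow n
    obtain ⟨u, hu'⟩ := hu
    have h1 : a = (g ^ n) • ((↑u⁻¹ : Localization.Away g) * a) := by
      rw [Algebra.smul_def, ← hu', ← mul_assoc, Units.mul_inv, one_mul]
    rw [h1, TensorProduct.smul_tmul, hn, TensorProduct.tmul_zero]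

theorem torA_of_torsion (g : A) (X : DRing.Cx A)
    (h : ∀ (i : ℤ) (x : X.homology i), ∃ n : ℕ, g ^ n • x = 0) : TorA g X := by
  intro i
  rw [exactAt_iff_isZero_homology]
  haveI : Module.Flat A (Aw g) := inferInstanceAs (Module.Flat A (Localization.Away g))
  haveI : PreservesFiniteLimits (tensorLeft (Aw g)) := inferInstance
  haveI : (tensorLeft (Aw g)).PreservesHomology := inferInstance
  have hz : IsZero ((tensorLeft (Aw g)).obj (X.homology i)) := by
    haveI : Subsingleton ((tensorLeft (Aw g)).obj (X.homology i)) :=
      subsingleton_tensor_away_of_torsion g (X.homology i) (h i)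
    exact ModuleCat.isZero_of_subsingleton _
  exact hz.of_iso ((X.sc i).mapHomologyIso (tensorLeft (Aw g)))

end Cech

end Groth.Agent.Lib.Helper18.DR
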