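import Mathlib
import Groth.Agent.Lib.Helper18.RHomKA
import Groth.Agent.Lib.Helper18.HomCxF
import Groth.Agent.Lib.Helper18.DTenC

/-!
# `RHom(M, RHom(N, K)) ≅ RHom(M ⊗ N, K)` for a flat module `M` (helper18)
-/

set_option autoImplicit false
set_option linter.style.haveILetI false
universe u
open CategoryTheory CategoryTheory.Limits MonoidalCategory DerivedCategory HomologicalComplex
open TensorProduct

attribute [local instance] HasDerivedCategory.standard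

namespace Groth.Agent.Lib.Helper18.DR

namespace RHomLoc

open DTen Groth.Agent.Lib.Helper2.Tot Groth.Agent.Lib.Helper2.Tot.DR

variable {A : Type u} [CommRing A]

/-- the complex `M[0]` -/
noncomputable abbrev S0 (M : ModuleCat.{u} A) : DRing.Cx A :=
  (HomologicalComplex.single (ModuleCat.{u} A) (ComplexShape.up ℤ) 0).obj M

/-- `Q(P_M ⊗ P_N) ≅ Q((M ⊗ N)[0])` for K-projective resolutions of `M[0]`, `N[0]`, `M` flat -/
theorem nonempty_iso_tensor (M N : ModuleCat.{u} A) [Module.Flat A M]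
    (PM PN : DRing.Cx A) [PM.IsKProjective] [PN.IsKProjective] (pM : PM ⟶ S0 M) [QuasiIso pM]
    (pN : PN ⟶ S0 N) [QuasiIso pN] :
    Nonempty (DerivedCategory.Q.obj (PM ⊗ PN) ≅ DerivedCategory.Q.obj (S0 (M ⊗ N))) := by
  haveI h1 : QuasiIso (pM ▷ PN) := inferInstance
  let e1 : ((tensorLeft M).mapHomologicalComplex (ComplexShape.up ℤ)).obj PN ≅ S0 M ⊗ PN :=
    TotSingle.iso (T A) M PN
  haveI h2 : QuasiIso (((tensorLeft M).mapHomologicalComplex (ComplexShape.up ℤ)).map pN) :=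
    inferInstance
  let e2 : ((tensorLeft M).mapHomologicalComplex (ComplexShape.up ℤ)).obj (S0 N) ≅
      S0 (M ⊗ N) :=
    (HomologicalComplex.singleMapHomologicalComplex (tensorLeft M) (ComplexShape.up ℤ) 0).app N
  exact ⟨asIso (DerivedCategory.Q.map (pM ▷ PN)) ≪≫ (DerivedCategory.Q.mapIso e1).symm ≪≫
    asIso (DerivedCategory.Q.map
      (((tensorLeft M).mapHomologicalComplex (ComplexShape.up ℤ)).map pN)) ≪≫
    DerivedCategory.Q.mapIso e2⟩

/-- `RHom(M, RHom(N, K)) ≅ RHom(M ⊗ N, K)` for a flat module `M` -/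
theorem nonempty_RHomCx_comp_iso (M N MN : ModuleCat.{u} A) [Module.Flat A M]
    (e : (M ⊗ N : ModuleCat.{u} A) ≅ MN)
    [DRing.HasRHomCx (S0 M)] [DRing.HasRHomCx (S0 N)] [DRing.HasRHomCx (S0 MN)] (K : Dual.D A) :
    Nonempty ((DRing.RHomCx (S0 M)).obj ((DRing.RHomCx (S0 N)).obj K) ≅
      (DRing.RHomCx (S0 MN)).obj K) := by
  let L : DRing.Cx A := DerivedCategory.Q.objPreimage K
  let eK : DRing.toD L ≅ K := DerivedCategory.Q.objObjPreimageIso K
  obtain ⟨PM, pM, hPM, hpM⟩ := DTenB.exists_kprojective_quasiIso (S0 M)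
  obtain ⟨PN, pN, hPN, hpN⟩ := DTenB.exists_kprojective_quasiIso (S0 N)
  haveI := hPM
  haveI := hPN
  haveI := hpM
  haveI := hpN
  obtain ⟨i1⟩ := RHomK.nonempty_RHomCx_iso_of_kprojective (S0 N) pN L
  obtain ⟨i2⟩ := RHomK.nonempty_RHomCx_iso_of_kprojective (S0 M) pM (DRing.homCx PN L)
  let i3 : DRing.toD (DRing.homCx PM (DRing.homCx PN L)) ≅ DRing.toD (DRing.homCx (PM ⊗ PN) L) :=
    DerivedCategory.Q.mapIso (HomCx.homCxAdjIso PM PN L)
  haveI : (PM ⊗ PN).IsKProjective := HomCx.isKProjective_tensor PM PN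
  obtain ⟨e0⟩ := nonempty_iso_tensor M N PM PN pM pN
  let e4 : DRing.toD (PM ⊗ PN) ≅ DRing.toD (S0 MN) :=
    e0 ≪≫ DerivedCategory.Q.mapIso
      ((HomologicalComplex.single (ModuleCat.{u} A) (ComplexShape.up ℤ) 0).mapIso e)
  obtain ⟨i4⟩ := RHomK.nonempty_RHomCx_iso_of_iso (S0 MN) e4 L
  exact ⟨(DRing.RHomCx (S0 M)).mapIso ((DRing.RHomCx (S0 N)).mapIso eK.symm ≪≫ i1) ≪≫ i2 ≪≫ i3 ≪≫
    i4.symm ≪≫ (DRing.RHomCx (S0 MN)).mapIso eK⟩

end RHomLoc

end Groth.Agent.Lib.Helper18.DR
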