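import Mathlib
import Groth.Agent.Lib.Helper18.CechA
import Groth.Agent.Lib.Helper18.RHomLocA

/-!
# `Hom•(X, J)` is derived `g`-complete when `X` has `g`-power torsion cohomology, II (helper18)
-/

set_option autoImplicit false
set_option linter.style.haveILetI false
universe u
open CategoryTheory CategoryTheory.Limits CategoryTheory.Pretriangulated HomologicalComplex
  DerivedCategory MonoidalCategory

attribute [local instance] HasDerivedCategory.standard

namespace Groth.Agent.Lib.Helper18.DR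

namespace Cech

open Groth.Agent.Lib.Helper2.Tot Groth.Agent.Lib.Helper2.Tot.DR RHomCmp

variable {A : Type u} [CommRing A]

/-- no maps from `A_g[0]` to `Hom•(X, J)` -/
theorem hom_away_homCx_eq_zero (g : A) (X : DRing.Cx A) (hX : TorA g X) (J : DRing.Cx A)
    [J.IsKInjective]
    (φ : Dual.inD A (Localization.Away g) ⟶ DRing.toD (DRing.homCx X J)) : φ = 0 := by
  obtain ⟨PX, b, hPX, hb⟩ := DTenB.exists_kprojective_quasiIso X
  haveI := hPX
  haveI := hb
  haveI : QuasiIso (HomCx.precomp b J) := HomCx.quasiIso_precomp J b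
  haveI : IsIso (DerivedCategory.Q.map (HomCx.precomp b J)) := inferInstance
  suffices h : φ ≫ DerivedCategory.Q.map (HomCx.precomp b J) = 0 by
    rw [← cancel_mono (DerivedCategory.Q.map (HomCx.precomp b J)), h, zero_comp]
  obtain ⟨Pg, p, hPg, hp⟩ := DTenB.exists_kprojective_quasiIso (RHomLoc.S0 (Aw g))
  haveI := hPg
  haveI := hp
  haveI : IsIso (DerivedCategory.Q.map p) := inferInstance
  let e : DRing.toD Pg ≅ Dual.inD A (Localization.Away g) :=
    asIso (DerivedCategory.Q.map p) ≪≫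
      ((DerivedCategory.singleFunctorIsoCompQ (ModuleCat.{u} A) 0).app (Aw g)).symm
  obtain ⟨t, ht⟩ := exists_map_eq Pg (DRing.homCx PX J)
    (e.hom ≫ φ ≫ DerivedCategory.Q.map (HomCx.precomp b J))
  haveI : Module.Flat A (Aw g) := inferInstanceAs (Module.Flat A (Localization.Away g))
  haveI h3' : QuasiIso ((Gg g).map b) := inferInstance
  have h3 : ((Gg g).obj PX).Acyclic := acyclic_of_quasiIso' ((Gg g).map b) hX
  have h2 : (RHomLoc.S0 (Aw g) ⊗ PX).Acyclic :=
    acyclic_of_iso (TotSingle.iso (T A) (Aw g) PX) h3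
  haveI : QuasiIso (p ▷ PX) := inferInstance
  have h1 : (Pg ⊗ PX).Acyclic := acyclic_of_quasiIso' (p ▷ PX) h2
  have H := CochainComplex.IsKInjective.homotopyZero (HomCx.uncurryHom t) h1
  have H' : Homotopy t 0 :=
    HomCx.homotopyOfUncurry (H.trans (Homotopy.ofEq HomCx.uncurryHom_zero.symm))
  have h0 : DerivedCategory.Q.map t = 0 := by
    rw [DerivedCategory.Q_map_eq_of_homotopy _ H', Functor.map_zero]
  rw [← cancel_epi e.hom, comp_zero, ← ht, h0]

/-- `Hom•(X, J)` is derived `g`-complete when `X` has `g`-power torsion cohomology -/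
theorem fc_homCx_of_torA (g : A) (X : DRing.Cx A) (hX : TorA g X) (J : DRing.Cx A)
    [J.IsKInjective] : FC g (DRing.toD (DRing.homCx X J)) := by
  intro n
  obtain ⟨a, rfl⟩ : ∃ a : ℤ, n = -a := ⟨-n, by simp⟩
  refine ⟨fun x y => ?_⟩
  let e : (DRing.toD (DRing.homCx X J))⟦-a⟧ ≅ DRing.toD (DRing.homCx (X⟦a⟧) J) :=
    ((DerivedCategory.Q.commShiftIso (-a)).app _).symm ≪≫
      DerivedCategory.Q.mapIso (HomCx.homCxShiftIso X J a)
  have h := hom_away_homCx_eq_zero g (X⟦a⟧) (hX.shift a) J
  rw [← cancel_mono e.hom, h (x ≫ e.hom), h (y ≫ e.hom)]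

end Cech

end Groth.Agent.Lib.Helper18.DR
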