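import Mathlib
import Groth.Agent.Lib.Helper18.CechB
import Groth.Agent.Lib.Helper20.CechLoc
import Groth.Prelude.Def_DerCA

/-!
# The mapping cocone of a localization map and `Hom•(-, Y)` (helper18)
-/

set_option autoImplicit false
set_option linter.style.haveILetI false
universe u
open CategoryTheory CategoryTheory.Limits CategoryTheory.Pretriangulated HomologicalComplex
  DerivedCategory MonoidalCategory CochainComplex

attribute [local instance] HasDerivedCategory.standard

namespace Groth.Agent.Lib.Helper18.DR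

namespace Cech

open RHomCmp

variable {A : Type u} [CommRing A]

lemma precomp_smul_id (f : A) (K Y : DRing.Cx A) :
    HomCx.precomp (f • 𝟙 K) Y = f • 𝟙 (DRing.homCx K Y) := by
  refine HomologicalComplex.hom_ext _ _ (fun i => ?_)
  refine ModuleCat.hom_ext (LinearMap.ext fun (z : HomComplex.Cochain K Y i) => ?_)
  change (HomComplex.Cochain.ofHom (f • 𝟙 K)).comp z (zero_add i) = f • z
  have h : HomComplex.Cochain.ofHom (f • 𝟙 K) = f • HomComplex.Cochain.ofHom (𝟙 K) := by
    refine HomComplex.Cochain.ext₀ _ _ (fun p => ?_)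
    rw [HomComplex.Cochain.smul_v, HomComplex.Cochain.ofHom_v, HomComplex.Cochain.ofHom_v,
      HomologicalComplex.smul_f_apply]
  rw [h, HomComplex.Cochain.smul_comp, HomComplex.Cochain.id_comp]

section cocone

variable {X L : DRing.Cx A} (φ : X ⟶ L)

instance epi_fst_f (p : ℤ) : Epi ((mappingCocone.fst φ).f p) :=
  epi_of_epi_fac (mappingCocone.inl_v_fst_f φ p)

instance epi_fst : Epi (mappingCocone.fst φ) :=
  HomologicalComplex.epi_of_epi_f _ inferInstance

/-- the short exact sequence `0 → ker → cocone → X → 0` -/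
noncomputable def coconeSC : ShortComplex (DRing.Cx A) :=
  ShortComplex.mk (kernel.ι (mappingCocone.fst φ)) (mappingCocone.fst φ) (kernel.condition _)

lemma coconeSC_shortExact : (coconeSC φ).ShortExact :=
  ShortComplex.ShortExact.mk' (ShortComplex.exact_kernel (mappingCocone.fst φ))
    (inferInstanceAs (Mono (kernel.ι (mappingCocone.fst φ)))) (epi_fst φ)

lemma coconeSC_eval_shortExact (p : ℤ) :
    ((coconeSC φ).map (HomologicalComplex.eval _ (ComplexShape.up ℤ) p)).ShortExact :=
  (coconeSC_shortExact φ).map_of_exact _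

/-- its termwise splittings -/
noncomputable def coconeSCSplitting (p : ℤ) :
    ((coconeSC φ).map (HomologicalComplex.eval _ (ComplexShape.up ℤ) p)).Splitting :=
  haveI := (coconeSC_eval_shortExact φ p).mono_f
  ShortComplex.Splitting.ofExactOfSection _ (coconeSC_eval_shortExact φ p).exact
    ((mappingCocone.inl φ).v p p (add_zero p)) (mappingCocone.inl_v_fst_f φ p)
    (coconeSC_eval_shortExact φ p).mono_f

/-- the kernel of `fst` is `L` shifted, termwise -/
noncomputable def kerXIso (n m : ℤ) (h : m + 1 = n) : (coconeSC φ).X₁.X n ≅ L.X m := by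
  have hS := coconeSC_eval_shortExact φ n
  haveI := hS.mono_f
  let ι : (coconeSC φ).X₁.X n ⟶ (mappingCocone φ).X n := (coconeSC φ).f.f n
  have hι : ι ≫ (mappingCocone.fst φ).f n = 0 := by
    change (coconeSC φ).f.f n ≫ (coconeSC φ).g.f n = 0
    rw [← HomologicalComplex.comp_f, (coconeSC φ).zero, HomologicalComplex.zero_f]
  let j : L.X m ⟶ (coconeSC φ).X₁.X n :=
    hS.exact.lift ((mappingCocone.inr φ).1.v m n h) (mappingCocone.inr_v_fst_f φ m n h)
  have hj : j ≫ ι = (mappingCocone.inr φ).1.v m n h :=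
    hS.exact.lift_f _ _
  refine ⟨ι ≫ (mappingCocone.snd φ).v n m (by omega), j, ?_, ?_⟩
  · haveI : Mono ι := hS.mono_f
    rw [← cancel_mono ι, Category.assoc, Category.assoc, hj, Category.id_comp]
    have h1 := mappingCocone.id_X φ n m (by omega)
    have h2 : ι ≫ ((mappingCocone.fst φ).f n ≫ (mappingCocone.inl φ).v n n (add_zero n) +
        (mappingCocone.snd φ).v n m (by omega) ≫ (mappingCocone.inr φ).1.v m n (by omega)) = ι := by
      rw [h1, Category.comp_id]
    rw [Preadditive.comp_add, ← Category.assoc, hι, zero_comp, zero_add] at h2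
    exact h2
  · rw [← Category.assoc, hj, mappingCocone.inr_v_snd_v]

/-- `f` acts invertibly on the kernel when it does on the terms of `L` -/
theorem isIso_smul_id_ker (f : A) (hL : ∀ n, IsIso (f • 𝟙 (L.X n))) :
    IsIso (f • 𝟙 (coconeSC φ).X₁) := by
  haveI : ∀ n, IsIso ((f • 𝟙 (coconeSC φ).X₁).f n) := by
    intro n
    let e := kerXIso φ n (n - 1) (by omega)
    haveI := hL (n - 1)
    have h1 : (f • 𝟙 (coconeSC φ).X₁).f n = e.hom ≫ (f • 𝟙 (L.X (n - 1))) ≫ e.inv := by
      rw [HomologicalComplex.smul_f_apply, HomologicalComplex.id_f, Linear.smul_comp,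
        Linear.comp_smul, Category.id_comp, e.hom_inv_id]
    rw [h1]
    infer_instance
  exact HomologicalComplex.Hom.isIso_of_components _

/-- **`Hom•(fst, Y)` induces bijections on maps to derived `f`-complete objects when `f` acts
invertibly on the terms of `L`** -/
theorem preBij_precomp_fst (f : A) (hL : ∀ n, IsIso (f • 𝟙 (L.X n))) (Y : DRing.Cx A)
    (E : Dual.D A) (hE : FC f E) :
    PreBij E (DerivedCategory.Q.map (HomCx.precomp (mappingCocone.fst φ) Y)) := by
  have hS := HomCx.homCxSC_shortExact (coconeSC φ) (coconeSCSplitting φ) Y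
  have hT := DerivedCategory.triangleOfSES_distinguished hS
  haveI := isIso_smul_id_ker φ f hL
  haveI : IsIso (HomCx.precomp (f • 𝟙 (coconeSC φ).X₁) Y) :=
    (HomCx.precompIso (asIso (f • 𝟙 (coconeSC φ).X₁)) Y).isIso_hom
  haveI : QuasiIso (f • 𝟙 (DRing.homCx (coconeSC φ).X₁ Y)) := by
    rw [← precomp_smul_id]
    infer_instance
  have hW : FInv f (DRing.toD (DRing.homCx (coconeSC φ).X₁ Y)) := finv_of_quasiIso_smul_id f _
  exact bijective_precomp_of_triangle _ hT E
    (fun ψ => eq_zero_of_finv_of_fc hW hE ψ)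
    (fun ψ => eq_zero_of_finv_of_fc (hW.shift (-1)) hE ψ)

end cocone

/-- `f` acts invertibly on the terms of the localization at `f` -/
lemma isIso_smul_id_locCx (f : A) (X : DRing.Cx A) (n : ℤ) :
    IsIso (f • 𝟙 (((DerCA.locCx (Submonoid.powers f)).obj X).X n)) := by
  rw [ConcreteCategory.isIso_iff_bijective]
  exact Groth.Agent.Lib.Helper20.CechLoc.smul_bijective_locCx (Submonoid.powers f) X
    ⟨f, Submonoid.mem_powers f⟩ n

end Cech

end Groth.Agent.Lib.Helper18.DR
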