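import Mathlib
import Groth.Agent.Lib.Helper18.CechC
import Groth.Agent.Lib.Helper20.CechKill
import Groth.Agent.Lib.Helper18.DRDC11

/-!
# Derived completion is `RHom(Čech, -)` (helper18)
-/

set_option autoImplicit false
set_option linter.style.haveILetI false
universe u
open CategoryTheory CategoryTheory.Limits CategoryTheory.Pretriangulated HomologicalComplex
  DerivedCategory MonoidalCategory CochainComplex

attribute [local instance] HasDerivedCategory.standard

namespace Groth.Agent.Lib.Helper18.DR

namespace Cech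

open RHomCmp

variable {A : Type u} [CommRing A] (M : ModuleCat.{u} A)

/-- the augmentation of the extended Čech complex -/
noncomputable def aug : (l : List A) → (DerCA.extCech M l ⟶ DerCA.extCech M [])
  | [] => 𝟙 _
  | f :: fs =>
    mappingCocone.fst (DerCA.locCxUnit (Submonoid.powers f) (DerCA.extCech M fs)) ≫ aug fs

lemma aug_cons (f : A) (fs : List A) :
    aug M (f :: fs) =
      mappingCocone.fst (DerCA.locCxUnit (Submonoid.powers f) (DerCA.extCech M fs)) ≫
        aug M fs := rfl

theorem preBij_aug (l : List A) (Y : DRing.Cx A) (E : Dual.D A) (hE : ∀ g ∈ l, FC g E) :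
    PreBij E (DerivedCategory.Q.map (HomCx.precomp (aug M l) Y)) := by
  induction l with
  | nil =>
    have h : HomCx.precomp (aug M []) Y = 𝟙 _ := HomCx.precomp_id Y
    rw [h, CategoryTheory.Functor.map_id]
    exact PreBij.of_isIso E _
  | cons f fs ih =>
    have h : HomCx.precomp (aug M (f :: fs)) Y =
        HomCx.precomp (aug M fs) Y ≫
          (show DRing.homCx (DerCA.extCech M fs) Y ⟶ DRing.homCx (DerCA.extCech M (f :: fs)) Y
            from HomCx.precomp (mappingCocone.fst
              (DerCA.locCxUnit (Submonoid.powers f) (DerCA.extCech M fs))) Y) :=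
      HomCx.precomp_comp _ _ Y
    rw [h, Functor.map_comp]
    refine PreBij.comp (ih (fun g hg => hE g (List.mem_cons_of_mem f hg))) ?_
    exact preBij_precomp_fst
      (DerCA.locCxUnit (Submonoid.powers f) (DerCA.extCech M fs)) f
      (fun n => isIso_smul_id_locCx f (DerCA.extCech M fs) n) Y E
      (hE f List.mem_cons_self)

theorem fc_homCx_extCech (l : List A) (J : DRing.Cx A) [J.IsKInjective] (g : A) (hg : g ∈ l) :
    FC g (DRing.toD (DRing.homCx (DerCA.extCech M l) J)) :=
  fc_homCx_of_torA g _ (torA_of_torsion g _ (fun i x =>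
    Groth.Agent.Lib.Helper20.CechKill.exists_pow_smul_eq_zero M l i x g hg)) J

end Cech

open Cech RHomCmp in
/-- **S7097** -/
theorem derivedCompletion_iso_RHomCx_extCech {A : Type u} [CommRing A] (fs : List A)
    (I : Ideal A) (hI : Ideal.span {x : A | x ∈ fs} = I) [DRing.HasDerivedCompletion I]
    [DRing.HasRHomCx (DerCA.extCech (ModuleCat.of A A) fs)] (K : Dual.D A) :
    Nonempty (((DRing.derivedCompletion I).obj K).obj ≅
      (DRing.RHomCx (DerCA.extCech (ModuleCat.of A A) fs)).obj K) := by
  subst hI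
  let L : DRing.Cx A := DerivedCategory.Q.objPreimage K
  let eK : DRing.toD L ≅ K := DerivedCategory.Q.objObjPreimageIso K
  obtain ⟨J, j, hJ, hj⟩ := RHomK.hasKInj L
  haveI := hJ
  haveI := hj
  obtain ⟨i1⟩ := RHomK.nonempty_RHomCx_iso_of_kinjective
    (DerCA.extCech (ModuleCat.of A A) fs) j
  let u0 : DRing.homCx (DerCA.extCech (ModuleCat.of A A) []) J ≅ J := HomCx.homCxUnitIso J
  let η : K ⟶ DRing.toD (DRing.homCx (DerCA.extCech (ModuleCat.of A A) fs) J) :=
    eK.inv ≫ DerivedCategory.Q.map j ≫ DerivedCategory.Q.map u0.inv ≫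
      DerivedCategory.Q.map (HomCx.precomp (aug (ModuleCat.of A A) fs) J)
  have hZ : DRing.IsDerivedComplete (Ideal.span {x : A | x ∈ fs})
      (DRing.toD (DRing.homCx (DerCA.extCech (ModuleCat.of A A) fs) J)) :=
    isDerivedComplete_span _ _ (fun g hg => fc_homCx_extCech (ModuleCat.of A A) fs J g hg)
  have hη : ∀ E : Dual.D A, DRing.IsDerivedComplete (Ideal.span {x : A | x ∈ fs}) E →
      PreBij E η := by
    intro E hE
    have hE' : ∀ g ∈ fs, FC g E := fun g hg =>
      (isDerivedComplete_iff_fc _ E).1 hE g (Ideal.subset_span hg)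
    haveI : IsIso (DerivedCategory.Q.map j) := inferInstance
    exact (PreBij.of_isIso E eK.inv).comp ((PreBij.of_isIso E _).comp
      ((PreBij.of_isIso E (DerivedCategory.Q.map u0.inv)).comp
        (preBij_aug (ModuleCat.of A A) fs J E hE')))
  obtain ⟨d, -⟩ := nonempty_iso_of_universal
    (P := fun L => DRing.IsDerivedComplete (Ideal.span {x : A | x ∈ fs}) L) η
    (DRing.toDerivedCompletion (Ideal.span {x : A | x ∈ fs}) K) hZ
    ((DRing.derivedCompletion (Ideal.span {x : A | x ∈ fs})).obj K).property hη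
    (fun L' hL' => bijective_toDerivedCompletion_comp _ K L' hL')
  exact ⟨d.symm ≪≫ i1.symm ≪≫
    (DRing.RHomCx (DerCA.extCech (ModuleCat.of A A) fs)).mapIso eK⟩

end Groth.Agent.Lib.Helper18.DR
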