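import Mathlib
import Groth.Agent.Lib.Helper18.ShrC

/-!
# The connecting map `Hom_S(T, Q) → N'/f` for a quotient `T = S/f` (helper18)

Given a degreewise short exact sequence `0 → N' → I → Q → 0` of complexes of `S`-modules and a
surjection `p : N' → N''` onto a complex of `T`-modules with kernel `f N'`, the snake lemma gives a
`T`-linear chain map `Hom_S(T, Q) → N''`.
-/

set_option autoImplicit false
set_option linter.style.haveILetI false
universe u
open CategoryTheory CategoryTheory.Limits CategoryTheory.Pretriangulated DerivedCategory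
open TensorProduct

attribute [local instance] HasDerivedCategory.standard

namespace Groth.Agent.Lib.Helper18.DR

namespace Ci

open Coext RelInv

section P4

variable {R : Type u} [CommRing R] {A B C : Type u} [AddCommGroup A] [Module R A]
  [AddCommGroup B] [Module R B] [AddCommGroup C] [Module R C]

/-- a short exact sequence with flat cokernel stays left exact after tensoring -/
lemma rTensor_injective_of_flat_coker (M : Type u) [AddCommGroup M] [Module R M]
    (i : A →ₗ[R] B) (p : B →ₗ[R] C) (hi : Function.Injective i) (hex : Function.Exact i p)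
    (hp : Function.Surjective p) [Module.Flat R C] : Function.Injective (i.rTensor M) := by
  rw [injective_iff_map_eq_zero]
  intro x hx
  let q₀ : (M →₀ R) →ₗ[R] M := Finsupp.linearCombination R id
  have hq₀ : Function.Surjective q₀ := Finsupp.linearCombination_id_surjective R M
  let S := LinearMap.ker q₀
  have hex₀ : Function.Exact S.subtype q₀ := LinearMap.exact_subtype_ker_map q₀
  obtain ⟨y, rfl⟩ := LinearMap.lTensor_surjective A hq₀ x
  have h1 : (q₀.lTensor B) ((i.rTensor (M →₀ R)) y) = 0 := by
    rw [← LinearMap.comp_apply, LinearMap.lTensor_comp_rTensor, ← LinearMap.rTensor_comp_lTensor,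
      LinearMap.comp_apply]
    exact hx
  obtain ⟨z, hz⟩ :=
    (@lTensor_exact R S (M →₀ R) M _ _ _ _ _ _ _ S.subtype q₀ B _ _ hex₀ hq₀ _).1 h1
  have h2 : (S.subtype.lTensor C) ((p.rTensor S) z) = 0 := by
    rw [← LinearMap.comp_apply, LinearMap.lTensor_comp_rTensor, ← LinearMap.rTensor_comp_lTensor,
      LinearMap.comp_apply, hz, ← LinearMap.comp_apply, ← LinearMap.rTensor_comp,
      hex.linearMap_comp_eq_zero, LinearMap.rTensor_zero, LinearMap.zero_apply]
  have h3 : (p.rTensor S) z = 0 :=
    (Module.Flat.lTensor_preserves_injective_linearMap (M := C) S.subtype S.injective_subtype)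
      (h2.trans (map_zero _).symm)
  obtain ⟨w, rfl⟩ := (@rTensor_exact R A B C _ _ _ _ _ _ _ i p S _ _ hex hp _).1 h3
  have h4 : (i.rTensor (M →₀ R)) ((S.subtype.lTensor A) w) = (i.rTensor _) y := by
    rw [← LinearMap.comp_apply, LinearMap.rTensor_comp_lTensor, ← LinearMap.lTensor_comp_rTensor,
      LinearMap.comp_apply, hz]
  have h5 := (Module.Flat.rTensor_preserves_injective_linearMap (M := M →₀ R) i hi) h4
  rw [← h5, ← LinearMap.comp_apply, ← LinearMap.lTensor_comp, hex₀.linearMap_comp_eq_zero,
    LinearMap.lTensor_zero, LinearMap.zero_apply]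

end P4

variable {S T : Type u} [CommRing S] [CommRing T] (s : S →+* T) (f : S)
  (hker : RingHom.ker s = Ideal.span {f}) (hs : Function.Surjective s)

include hker hs in
/-- the image of the counit `Hom_S(T, M) → M` is the `f`-torsion -/
lemma exact_counit_smul (M : ModuleCat.{u} S) :
    Function.Exact ((rcAdj s).counit.app M).hom
      (f • (LinearMap.id : (M : Type u) →ₗ[S] (M : Type u))) := by
  intro (y : M)
  constructor
  · intro hy
    have hy' : f • y = 0 := hy
    have hy'' : ∀ a ∈ RingHom.ker s, a • y = 0 := by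
      intro a ha
      rw [hker] at ha
      obtain ⟨c, rfl⟩ := Ideal.mem_span_singleton'.1 ha
      rw [mul_smul, hy', smul_zero]
    exact ⟨(ModuleCat.CoextendScalars.equiv s M).symm (liftSurj s hs M y hy''),
      liftSurj_one s hs M y hy''⟩
  · rintro ⟨x, rfl⟩
    exact smul_counit_eq_zero' s M x f (hker ▸ Ideal.mem_span_singleton_self f)

include hs in
/-- an `S`-linear map between `T`-modules is `T`-linear -/
noncomputable def liftHom {X Y : ModuleCat.{u} T}
    (g : ((ModuleCat.restrictScalars.{u} s).obj X : Type u) →ₗ[S]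
      ((ModuleCat.restrictScalars.{u} s).obj Y : Type u)) : X ⟶ Y :=
  ModuleCat.ofHom
    { toFun := fun x => g x
      map_add' := fun x y => g.map_add x y
      map_smul' := fun t x => by
        obtain ⟨a, rfl⟩ := hs t
        exact g.map_smul a x }

lemma liftHom_apply {X Y : ModuleCat.{u} T}
    (g : ((ModuleCat.restrictScalars.{u} s).obj X : Type u) →ₗ[S]
      ((ModuleCat.restrictScalars.{u} s).obj Y : Type u)) (x : X) :
    (liftHom s hs g).hom x = g x := rfl

section Snake

variable {N' I Qc : DRing.Cx S} {N'' : DRing.Cx T} (j : N' ⟶ I) (q : I ⟶ Qc)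
  (p : N' ⟶ (DTen.resCx s).obj N'')
  (hj : ∀ i, Function.Injective (j.f i).hom) (hq : ∀ i, Function.Surjective (q.f i).hom)
  (hjq : ∀ i, Function.Exact (j.f i).hom (q.f i).hom)
  (hpk : ∀ i, Function.Exact (f • (LinearMap.id : (N'.X i : Type u) →ₗ[S] (N'.X i : Type u)))
    (p.f i).hom)

/-- the connecting map, degreewise and `S`-linear -/
noncomputable def deltaLin (i : ℤ) :
    ((ModuleCat.restrictScalars.{u} s).obj ((coextM s).obj (Qc.X i)) : Type u) →ₗ[S]
      ((ModuleCat.restrictScalars.{u} s).obj (N''.X i) : Type u) :=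
  SnakeLemma.δ' (f • LinearMap.id) (f • LinearMap.id) (f • LinearMap.id)
    (j.f i).hom (q.f i).hom (hjq i) (j.f i).hom (q.f i).hom (hjq i)
    (LinearMap.ext fun x => (map_smul (j.f i).hom f x))
    (LinearMap.ext fun x => (map_smul (q.f i).hom f x))
    ((rcAdj s).counit.app (Qc.X i)).hom (exact_counit_smul s f hker hs (Qc.X i))
    (p.f i).hom (hpk i) (hq i) (hj i)

lemma deltaLin_eq (i : ℤ)
    (x : ((ModuleCat.restrictScalars.{u} s).obj ((coextM s).obj (Qc.X i)) : Type u))
    (y : I.X i) (hy : (q.f i).hom y = ((rcAdj s).counit.app (Qc.X i)).hom x)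
    (z : N'.X i) (hz : (j.f i).hom z = f • y) :
    deltaLin s f hker hs j q p hj hq hjq hpk i x = (p.f i).hom z :=
  SnakeLemma.δ'_eq _ _ _ _ _ _ _ _ _ _ _ _ _ _ _ _ _ x y hy z hz

end Snake

end Ci

end Groth.Agent.Lib.Helper18.DR
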