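import Mathlib
import Groth.Agent.Lib.Helper18.CiA

/-!
# The short exact sequence `0 → Hom_S(T, I) → Hom_S(T, Q) → N'/f → 0` (helper18)
-/

set_option autoImplicit false
set_option linter.style.haveILetI false
universe u
open CategoryTheory CategoryTheory.Limits CategoryTheory.Pretriangulated DerivedCategory

attribute [local instance] HasDerivedCategory.standard

namespace Groth.Agent.Lib.Helper18.DR

namespace Ci

open Coext RelInv

variable {S T : Type u} [CommRing S] [CommRing T] (s : S →+* T) (f : S)
  (hker : RingHom.ker s = Ideal.span {f}) (hs : Function.Surjective s)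

variable {N' I Qc : DRing.Cx S} {N'' : DRing.Cx T} (j : N' ⟶ I) (q : I ⟶ Qc)
  (p : N' ⟶ (DTen.resCx s).obj N'')
  (hj : ∀ i, Function.Injective (j.f i).hom) (hq : ∀ i, Function.Surjective (q.f i).hom)
  (hjq : ∀ i, Function.Exact (j.f i).hom (q.f i).hom)
  (hpk : ∀ i, Function.Exact (f • (LinearMap.id : (N'.X i : Type u) →ₗ[S] (N'.X i : Type u)))
    (p.f i).hom)

/-- naturality of the counit, on elements -/
lemma counit_map_apply {M M' : ModuleCat.{u} S} (g : M ⟶ M') (x : (coextM s).obj M) :
    ((rcAdj s).counit.app M').hom (((coextM s).map g).hom x) =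
      g.hom (((rcAdj s).counit.app M).hom x) :=
  LinearMap.congr_fun (congrArg ModuleCat.Hom.hom ((rcAdj s).counit.naturality g)) x

include hker hq hjq in
lemma exists_lifts (i : ℤ) (x : (coextM s).obj (Qc.X i)) :
    ∃ (y : I.X i) (z : N'.X i), (q.f i).hom y = ((rcAdj s).counit.app (Qc.X i)).hom x ∧
      (j.f i).hom z = f • y := by
  obtain ⟨y, hy⟩ := hq i (((rcAdj s).counit.app (Qc.X i)).hom x)
  have h0 : (q.f i).hom (f • y) = 0 := by
    rw [map_smul, hy]
    exact smul_counit_eq_zero' s (Qc.X i) x f (hker ▸ Ideal.mem_span_singleton_self f)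
  obtain ⟨z, hz⟩ := (hjq i _).1 h0
  exact ⟨y, z, hy, hz⟩

/-- the connecting map as a chain map of complexes of `T`-modules -/
noncomputable def deltaCx : (coextCx s).obj Qc ⟶ N'' where
  f i := liftHom s hs (deltaLin s f hker hs j q p hj hq hjq hpk i)
  comm' i k _ := by
    ext (x : (coextM s).obj (Qc.X i))
    obtain ⟨y, z, hy, hz⟩ := exists_lifts s f hker j q hq hjq i x
    have hy' : (q.f k).hom ((I.d i k).hom y) =
        ((rcAdj s).counit.app (Qc.X k)).hom (((coextM s).map (Qc.d i k)).hom x) := by
      rw [counit_map_apply, ← hy]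
      exact (LinearMap.congr_fun (congrArg ModuleCat.Hom.hom (q.comm i k)) y).symm
    have hz' : (j.f k).hom ((N'.d i k).hom z) = f • (I.d i k).hom y := by
      rw [← map_smul, ← hz]
      exact (LinearMap.congr_fun (congrArg ModuleCat.Hom.hom (j.comm i k)) z).symm
    have h1 := deltaLin_eq s f hker hs j q p hj hq hjq hpk i x y hy z hz
    have h2 := deltaLin_eq s f hker hs j q p hj hq hjq hpk k
      (((coextM s).map (Qc.d i k)).hom x) _ hy' _ hz'
    have h3 : (p.f k).hom ((N'.d i k).hom z) = (N''.d i k).hom ((p.f i).hom z) :=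
      (LinearMap.congr_fun (congrArg ModuleCat.Hom.hom (p.comm i k)) z).symm
    change (N''.d i k).hom (deltaLin s f hker hs j q p hj hq hjq hpk i x) =
      deltaLin s f hker hs j q p hj hq hjq hpk k (((coextM s).map (Qc.d i k)).hom x)
    rw [h1, h2, h3]

lemma deltaCx_f_apply (i : ℤ) (x : (coextM s).obj (Qc.X i)) :
    ((deltaCx s f hker hs j q p hj hq hjq hpk).f i).hom x =
      deltaLin s f hker hs j q p hj hq hjq hpk i x := rfl

/-- the short complex `Hom_S(T, I) → Hom_S(T, Q) → N''` -/
noncomputable def ciSC : ShortComplex (DRing.Cx T) where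
  X₁ := (coextCx s).obj I
  X₂ := (coextCx s).obj Qc
  X₃ := N''
  f := (coextCx s).map q
  g := deltaCx s f hker hs j q p hj hq hjq hpk
  zero := by
    ext i (x : (coextM s).obj (I.X i))
    have hy : (q.f i).hom (((rcAdj s).counit.app (I.X i)).hom x) =
        ((rcAdj s).counit.app (Qc.X i)).hom (((coextM s).map (q.f i)).hom x) :=
      (counit_map_apply s (q.f i) x).symm
    have hz : (j.f i).hom (0 : N'.X i) = f • ((rcAdj s).counit.app (I.X i)).hom x := by
      rw [map_zero]
      exact (smul_counit_eq_zero' s (I.X i) x f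
        (hker ▸ Ideal.mem_span_singleton_self f)).symm
    have h1 := deltaLin_eq s f hker hs j q p hj hq hjq hpk i
      (((coextM s).map (q.f i)).hom x) _ hy _ hz
    exact h1.trans (map_zero _)

variable (hp : ∀ i, Function.Surjective (p.f i).hom)
  (htf : ∀ (i : ℤ) (x : N'.X i), f • x = 0 → x = 0)
  (hdiv : ∀ (i : ℤ) (x : I.X i), ∃ y : I.X i, f • y = x)

include hp htf hdiv in
lemma ciSC_shortExact : (ciSC s f hker hs j q p hj hq hjq hpk).ShortExact := by
  apply HomologicalComplex.shortExact_of_degreewise_shortExact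
  intro i
  apply ModuleCat.shortComplex_shortExact
  · intro (x' : (coextM s).obj (Qc.X i))
    constructor
    · intro hx'
      obtain ⟨y, z, hy, hz⟩ := exists_lifts s f hker j q hq hjq i x'
      have h1 := deltaLin_eq s f hker hs j q p hj hq hjq hpk i x' y hy z hz
      have h2 : (p.f i).hom z = 0 := h1.symm.trans hx'
      obtain ⟨m, hm⟩ := (hpk i z).1 h2
      have hm' : f • m = z := hm
      have h3 : f • (y - (j.f i).hom m) = 0 := by
        rw [smul_sub, ← map_smul, hm', hz, sub_self]
      obtain ⟨x₀, hx₀⟩ := (exact_counit_smul s f hker hs (I.X i) (y - (j.f i).hom m)).1 h3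
      refine ⟨x₀, ?_⟩
      apply counit_injective' s hs (Qc.X i)
      have h4 : ((rcAdj s).counit.app (Qc.X i)).hom (((coextM s).map (q.f i)).hom x₀) =
          ((rcAdj s).counit.app (Qc.X i)).hom x' := by
        rw [counit_map_apply, hx₀, map_sub, (hjq i _).2 ⟨m, rfl⟩, sub_zero, hy]
      exact h4
    · rintro ⟨x, rfl⟩
      exact LinearMap.congr_fun (congrArg ModuleCat.Hom.hom
        (HomologicalComplex.congr_hom (ciSC s f hker hs j q p hj hq hjq hpk).zero i)) x
  · change Function.Injective ((coextM s).map (q.f i)).hom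
    rw [injective_iff_map_eq_zero]
    intro x hx
    apply counit_injective' s hs (I.X i)
    have h1 : (q.f i).hom (((rcAdj s).counit.app (I.X i)).hom x) = 0 := by
      rw [← counit_map_apply, hx]
      exact map_zero _
    obtain ⟨n, hn⟩ := (hjq i _).1 h1
    have h2 : (j.f i).hom (f • n) = 0 := by
      rw [map_smul, hn]
      exact smul_counit_eq_zero' s (I.X i) _ f (hker ▸ Ideal.mem_span_singleton_self f)
    have h3 : f • n = 0 := hj i (h2.trans (map_zero _).symm)
    have h4 : ((rcAdj s).counit.app (I.X i)).hom x = 0 := by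
      rw [← hn, htf i n h3, map_zero]
    exact h4.trans (map_zero _).symm
  · intro (c : N''.X i)
    obtain ⟨n, hn⟩ := hp i c
    obtain ⟨y, hy⟩ := hdiv i ((j.f i).hom n)
    have h0 : f • (q.f i).hom y = 0 := by
      rw [← map_smul, hy]
      exact (hjq i _).2 ⟨n, rfl⟩
    obtain ⟨x, hx⟩ := (exact_counit_smul s f hker hs (Qc.X i) _).1 h0
    refine ⟨x, ?_⟩
    have h1 := deltaLin_eq s f hker hs j q p hj hq hjq hpk i x y hx.symm n hy.symm
    exact h1.trans hn

end Ci

end Groth.Agent.Lib.Helper18.DR
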