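import Mathlib
import Groth.Agent.Lib.Helper18.CiB

/-!
# `R_π(N') ≅ (N'/f)[-1]` for a quotient `π : S → T = S/f` by a nonzerodivisor and an `f`-torsion
free complex `N'` (helper18)
-/

set_option autoImplicit false
set_option linter.style.haveILetI false
universe u
open CategoryTheory CategoryTheory.Limits CategoryTheory.Pretriangulated DerivedCategory

attribute [local instance] HasDerivedCategory.standard

namespace Groth.Agent.Lib.Helper18.DR

namespace Ci

open Coext RelInv Shr

lemma isZero_toD_of_acyclic {A : Type u} [CommRing A] (K : DRing.Cx A) (h : K.Acyclic) :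
    IsZero (DRing.toD K) := by
  rw [IsZero.iff_id_eq_zero]
  haveI : IsIso (0 : DRing.toD K ⟶ DRing.toD K) := by
    rw [DerivedCategory.isIso_iff]
    intro n
    have hz : IsZero ((DerivedCategory.homologyFunctor (ModuleCat.{u} A) n).obj (DRing.toD K)) :=
      ((DerivedCategory.homologyFunctorFactors (ModuleCat.{u} A) n).app K).isZero_iff.2
        ((HomologicalComplex.exactAt_iff_isZero_homology K n).1 (h n))
    exact ⟨⟨0, hz.eq_of_src _ _, hz.eq_of_src _ _⟩⟩
  rw [← IsIso.hom_inv_id (0 : DRing.toD K ⟶ DRing.toD K), zero_comp]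

variable {S T : Type u} [CommRing S] [CommRing T] (s : S →+* T) (f : S)
  (hker : RingHom.ker s = Ideal.span {f}) (hs : Function.Surjective s)

lemma acyclic_of_acyclic_resCx (X : DRing.Cx T) (h : ((DTen.resCx s).obj X).Acyclic) :
    X.Acyclic := by
  intro i
  have h1 := h i
  rw [HomologicalComplex.exactAt_iff, ShortComplex.moduleCat_exact_iff] at h1 ⊢
  exact h1

include hs in
lemma torsionSC'_shortExact_of_div (J : DRing.Cx S)
    (hdiv : ∀ (i : ℤ) (y : J.X i), ∃ x : J.X i, f • x = y) :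
    (torsionSC' s f hker J).ShortExact := by
  apply HomologicalComplex.shortExact_of_degreewise_shortExact
  intro i
  apply ModuleCat.shortComplex_shortExact
  · exact exact_counit_smul s f hker hs (J.X i)
  · exact counit_injective' s hs (J.X i)
  · intro (y : J.X i)
    exact hdiv i y

section main

variable {N' I Qc : DRing.Cx S} {N'' : DRing.Cx T} (j : N' ⟶ I) (q : I ⟶ Qc)
  (p : N' ⟶ (DTen.resCx s).obj N'')
  (hj : ∀ i, Function.Injective (j.f i).hom) (hq : ∀ i, Function.Surjective (q.f i).hom)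
  (hjq : ∀ i, Function.Exact (j.f i).hom (q.f i).hom)
  (hpk : ∀ i, Function.Exact (f • (LinearMap.id : (N'.X i : Type u) →ₗ[S] (N'.X i : Type u)))
    (p.f i).hom)
  (hp : ∀ i, Function.Surjective (p.f i).hom)
  (htf : ∀ (i : ℤ) (x : N'.X i), f • x = 0 → x = 0)
  (hdiv : ∀ (i : ℤ) (x : I.X i), ∃ y : I.X i, f • y = x)

include hker hs hj hq hjq hpk hp htf hdiv in
theorem nonempty_rightAdj_iso_of_ses [I.IsKInjective] (hqi : QuasiIso j)
    (Rs : Dual.D S ⥤ Dual.D T) (adj : DRing.restrictD s ⊣ Rs) :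
    Nonempty (Rs.obj (DRing.toD N') ≅ (DRing.toD N'')⟦(-1 : ℤ)⟧) := by
  have hzero : j ≫ q = 0 := by
    ext i x
    exact (hjq i _).2 ⟨x, rfl⟩
  have hS0 : (ShortComplex.mk j q hzero).ShortExact := by
    apply HomologicalComplex.shortExact_of_degreewise_shortExact
    intro i
    exact ModuleCat.shortComplex_shortExact _ (hjq i) (hj i) (hq i)
  have hQc : Qc.Acyclic := hS0.acyclic_X₃ hqi
  have hdivQ : ∀ (i : ℤ) (y : Qc.X i), ∃ x : Qc.X i, f • x = y := by
    intro i y
    obtain ⟨y', rfl⟩ := hq i y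
    obtain ⟨x', rfl⟩ := hdiv i y'
    exact ⟨(q.f i).hom x', (map_smul _ _ _).symm⟩
  have hS1 := torsionSC'_shortExact_of_div s f hker hs Qc hdivQ
  haveI : QuasiIso (torsionSC' s f hker Qc).g :=
    ⟨fun i => (quasiIsoAt_iff_exactAt _ i (hQc i)).2 (hQc i)⟩
  have hres : ((DTen.resCx s).obj ((coextCx s).obj Qc)).Acyclic := hS1.acyclic_X₁ inferInstance
  have hco : ((coextCx s).obj Qc).Acyclic := acyclic_of_acyclic_resCx s _ hres
  have hS2 := ciSC_shortExact s f hker hs j q p hj hq hjq hpk hp htf hdiv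
  have hT := DerivedCategory.triangleOfSES_distinguished hS2
  have hz : IsZero (DRing.toD ((coextCx s).obj Qc)) := isZero_toD_of_acyclic _ hco
  have hiso : IsIso (DerivedCategory.triangleOfSESδ hS2) :=
    (Triangle.isZero₂_iff_isIso₃ _ hT).1 hz
  let e : DRing.toD N'' ≅ (DRing.toD ((coextCx s).obj I))⟦(1 : ℤ)⟧ :=
    @asIso _ _ _ _ (DerivedCategory.triangleOfSESδ hS2) hiso
  haveI := hqi
  exact ⟨Rs.mapIso (asIso (DerivedCategory.Q.map j)) ≪≫ (rightAdjointIso s Rs adj I).symm ≪≫
    ((shiftFunctorCompIsoId (Dual.D T) (1 : ℤ) (-1) (by omega)).app _).symm ≪≫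
    (shiftFunctor (Dual.D T) (-1 : ℤ)).mapIso e.symm⟩

end main

include hker hs in
/-- the general one-step lemma: `R_s(N') ≅ N''[-1]` -/
theorem nonempty_rightAdj_iso_shift (hf : f ∈ nonZeroDivisors S)
    (N' : DRing.Cx S) (N'' : DRing.Cx T) (p : N' ⟶ (DTen.resCx s).obj N'')
    (hpk : ∀ i, Function.Exact (f • (LinearMap.id : (N'.X i : Type u) →ₗ[S] (N'.X i : Type u)))
      (p.f i).hom)
    (hp : ∀ i, Function.Surjective (p.f i).hom)
    (htf : ∀ (i : ℤ) (x : N'.X i), f • x = 0 → x = 0)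
    (Rs : Dual.D S ⥤ Dual.D T) (adj : DRing.restrictD s ⊣ Rs) :
    Nonempty (Rs.obj (DRing.toD N') ≅ (DRing.toD N'')⟦(-1 : ℤ)⟧) := by
  obtain ⟨I, j, hI, hj, hmono, hinj⟩ := Groth.Agent.Lib.Helper2.KInj.exists_kInjective_resolution N'
  haveI := hI
  have hdiv : ∀ (i : ℤ) (x : I.X i), ∃ y : I.X i, f • y = x := by
    intro i x
    haveI : Module.Injective S (I.X i) :=
      (Module.injective_iff_injective_object S (I.X i)).2 (hinj i)
    exact exists_smul_eq_of_injective (I.X i) f hf x
  have hj' : ∀ i, Function.Injective (j.f i).hom := fun i =>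
    (ModuleCat.mono_iff_injective (j.f i)).1 (hmono i)
  -- the cokernel
  let q : I ⟶ cokernel j := cokernel.π j
  have hS0 : (ShortComplex.mk j q (cokernel.condition j)).ShortExact :=
    { exact := ShortComplex.exact_of_g_is_cokernel _ (cokernelIsCokernel j)
      mono_f := by
        exact HomologicalComplex.mono_of_mono_f j hmono
      epi_g := inferInstance }
  have hdeg : ∀ i : ℤ, ((ShortComplex.mk j q (cokernel.condition j)).map
      (HomologicalComplex.eval _ _ i)).ShortExact := fun i => hS0.map_of_exact _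
  have hq : ∀ i, Function.Surjective (q.f i).hom := fun i =>
    (ModuleCat.epi_iff_surjective (q.f i)).1 (hdeg i).epi_g
  have hjq : ∀ i, Function.Exact (j.f i).hom (q.f i).hom := fun i =>
    (ShortComplex.ShortExact.moduleCat_exact_iff_function_exact _).1 (hdeg i).exact
  exact nonempty_rightAdj_iso_of_ses s f hker hs j q p hj' hq hjq hpk hp htf hdiv hj Rs adj

end Ci

end Groth.Agent.Lib.Helper18.DR
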