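import Mathlib
import Groth.Agent.Lib.Helper18.CiC
import Groth.Agent.Lib.Helper18.KProjD
import Groth.Agent.Lib.Helper18.DRExt2

/-!
# `R_π(K ⊗_R Q) ≅ (K ⊗_R Q/F)[-1]` for flat `R`-algebras `Q`, `Q/F` (helper18)
-/

set_option autoImplicit false
set_option linter.style.haveILetI false
universe u
open CategoryTheory CategoryTheory.Limits CategoryTheory.Pretriangulated DerivedCategory
open TensorProduct

attribute [local instance] HasDerivedCategory.standard

namespace Groth.Agent.Lib.Helper18.DR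

namespace Ci

section unit

variable {Q Qb : Type u} [CommRing Q] [CommRing Qb] [Algebra Q Qb]
  (F : Q) (hker : RingHom.ker (algebraMap Q Qb) = Ideal.span {F})
  (hs : Function.Surjective (algebraMap Q Qb))

lemma extMEquiv₀_unit (M : ModuleCat.{u} Q) (m : M) :
    extMEquiv₀ (A := Q) (B := Qb) M
      (((ModuleCat.extendRestrictScalarsAdj.{u, u, u} (algebraMap Q Qb)).unit.app M).hom m) =
      (1 : Qb) ⊗ₜ[Q] m := rfl

include hs in
lemma unit_surjective (M : ModuleCat.{u} Q) :
    Function.Surjective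
      ((ModuleCat.extendRestrictScalarsAdj.{u, u, u} (algebraMap Q Qb)).unit.app M).hom := by
  intro z
  obtain ⟨m, hm⟩ := mk_one_surjective hs M (extMEquiv₀ (A := Q) (B := Qb) M z)
  refine ⟨m, ?_⟩
  apply (extMEquiv₀ (A := Q) (B := Qb) M).injective
  rw [← hm]
  exact extMEquiv₀_unit M m

include hker hs in
lemma exact_smul_unit (M : ModuleCat.{u} Q) :
    Function.Exact (F • (LinearMap.id : (M : Type u) →ₗ[Q] (M : Type u)))
      ((ModuleCat.extendRestrictScalarsAdj.{u, u, u} (algebraMap Q Qb)).unit.app M).hom := by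
  intro (m : M)
  have key : ((ModuleCat.extendRestrictScalarsAdj.{u, u, u} (algebraMap Q Qb)).unit.app M).hom m
      = 0 ↔ (1 : Qb) ⊗ₜ[Q] m = 0 := by
    rw [← extMEquiv₀_unit M m]
    exact ((extMEquiv₀ (A := Q) (B := Qb) M).map_eq_zero_iff).symm
  rw [key, mk_one_eq_zero_iff hs M m, hker, Submodule.ideal_span_singleton_smul,
    Submodule.mem_smul_pointwise_iff_exists]
  constructor
  · rintro ⟨m', -, rfl⟩
    exact ⟨m', rfl⟩
  · rintro ⟨m', rfl⟩
    exact ⟨m', Submodule.mem_top, rfl⟩

end unit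

section flat

variable {R Q Qb : Type u} [CommRing R] [CommRing Q] [CommRing Qb] [Algebra R Q] [Algebra R Qb]
  [Algebra Q Qb] [IsScalarTower R Q Qb] [Module.Flat R Qb]
  (F : Q) (hker : RingHom.ker (algebraMap Q Qb) = Ideal.span {F})
  (hs : Function.Surjective (algebraMap Q Qb)) (hF : F ∈ nonZeroDivisors Q)

lemma smul_eq_rTensor_mulLeft (M : Type u) [AddCommGroup M] [Module R M] (y : Q ⊗[R] M) :
    F • y = (LinearMap.mulLeft R F).rTensor M y := by
  induction y using TensorProduct.induction_on with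
  | zero => rw [smul_zero, map_zero]
  | tmul q m => rw [TensorProduct.smul_tmul', LinearMap.rTensor_tmul, LinearMap.mulLeft_apply,
      smul_eq_mul]
  | add x y hx hy => rw [smul_add, map_add, hx, hy]

include hker hs hF in
lemma torsionFree_tensor (M : Type u) [AddCommGroup M] [Module R M] (y : Q ⊗[R] M)
    (hy : F • y = 0) : y = 0 := by
  have hinj : Function.Injective ((LinearMap.mulLeft R F).rTensor M) := by
    refine rTensor_injective_of_flat_coker M (LinearMap.mulLeft R F)
      (IsScalarTower.toAlgHom R Q Qb).toLinearMap ?_ ?_ hs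
    · rw [injective_iff_map_eq_zero]
      intro x hx
      exact (mul_left_mem_nonZeroDivisors_eq_zero_iff hF).1 hx
    · intro x
      change algebraMap Q Qb x = 0 ↔ _
      rw [← RingHom.mem_ker, hker, Ideal.mem_span_singleton']
      constructor
      · rintro ⟨c, rfl⟩
        exact ⟨c, mul_comm _ _⟩
      · rintro ⟨c, rfl⟩
        exact ⟨c, mul_comm _ _⟩
  apply hinj
  rw [← smul_eq_rTensor_mulLeft, hy, map_zero]

include hker hs hF in
lemma torsionFree_extM (M : ModuleCat.{u} R) (x : (extM (A := R) (B := Q)).obj M)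
    (hx : F • x = 0) : x = 0 := by
  apply (extMEquiv (A := R) (B := Q) M).injective
  rw [map_zero]
  apply torsionFree_tensor F hker hs hF M
  rw [← map_smul, hx, map_zero]

end flat

section comp

variable {R₁ R₂ R₃ : Type u} [CommRing R₁] [CommRing R₂] [CommRing R₃]
  (f : R₁ →+* R₂) (g : R₂ →+* R₃) (gf : R₁ →+* R₃) (h : gf = g.comp f)

/-- extension of scalars along a composite -/
noncomputable def extCompIso :
    ModuleCat.extendScalars.{u, u, u} gf ≅
      ModuleCat.extendScalars.{u, u, u} f ⋙ ModuleCat.extendScalars.{u, u, u} g := by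
  subst h
  exact ModuleCat.extendScalarsComp f g

/-- termwise extension of scalars along a composite -/
noncomputable def extCxCompIso (E : DRing.Cx R₁) :
    (DTen.extCx gf).obj E ≅ (DTen.extCx g).obj ((DTen.extCx f).obj E) :=
  HomologicalComplex.Hom.isoOfComponents (fun i => (extCompIso f g gf h).app (E.X i))
    (fun i k _ => ((extCompIso f g gf h).hom.naturality (E.d i k)).symm)

end comp

section main

variable {R Q Qb : Type u} [CommRing R] [CommRing Q] [CommRing Qb] [Algebra R Q] [Algebra R Qb]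
  [Algebra Q Qb] [IsScalarTower R Q Qb] [Module.Flat R Q] [Module.Flat R Qb]
  (F : Q) (hker : RingHom.ker (algebraMap Q Qb) = Ideal.span {F})
  (hs : Function.Surjective (algebraMap Q Qb)) (hF : F ∈ nonZeroDivisors Q)

include hker hs hF in
/-- `R_π(K ⊗_R Q) ≅ (K ⊗_R Q/F)[-1]` -/
theorem nonempty_rightAdj_extD_iso (Rs : Dual.D Q ⥤ Dual.D Qb)
    (adj : DRing.restrictD (algebraMap Q Qb) ⊣ Rs) (K : Dual.D R) :
    Nonempty (Rs.obj ((extD R Q).obj K) ≅ ((extD R Qb).obj K)⟦(-1 : ℤ)⟧) := by
  obtain ⟨E, ⟨e⟩⟩ : ∃ E : DRing.Cx R, Nonempty (DRing.toD E ≅ K) :=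
    ⟨DerivedCategory.Q.objPreimage K, ⟨DerivedCategory.Q.objObjPreimageIso K⟩⟩
  let N' : DRing.Cx Q := (mapCx (extM (A := R) (B := Q))).obj E
  let N'' : DRing.Cx Qb := (DTen.extCx (algebraMap Q Qb)).obj N'
  let p : N' ⟶ (DTen.resCx (algebraMap Q Qb)).obj N'' := (DTen.unitCx (algebraMap Q Qb)).app N'
  obtain ⟨g⟩ := nonempty_rightAdj_iso_shift (algebraMap Q Qb) F hker hs hF N' N'' p
    (fun i => exact_smul_unit F hker hs (N'.X i)) (fun i => unit_surjective hs (N'.X i))
    (fun i x hx => torsionFree_extM F hker hs hF (E.X i) x hx) Rs adj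
  have hcomp : algebraMap R Qb = (algebraMap Q Qb).comp (algebraMap R Q) :=
    IsScalarTower.algebraMap_eq R Q Qb
  let c : N'' ≅ (mapCx (extM (A := R) (B := Qb))).obj E :=
    (extCxCompIso (algebraMap R Q) (algebraMap Q Qb) (algebraMap R Qb) hcomp E).symm
  exact ⟨Rs.mapIso ((extD R Q).mapIso e.symm ≪≫ mapDToDIso extM E) ≪≫ g ≪≫
    (shiftFunctor (Dual.D Qb) (-1 : ℤ)).mapIso (DerivedCategory.Q.mapIso c ≪≫
      (mapDToDIso extM E).symm ≪≫ (extD R Qb).mapIso e)⟩

end main

end Ci

end Groth.Agent.Lib.Helper18.DR
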