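import Mathlib
import Groth.Agent.Lib.Helper12.DimFT2
import Groth.Agent.Lib.Helper4.Unmixed

/-!
# Regular sequences in the local ring of a fibre of affine space (helper18)

Let `k` be a field, `Pb` a regular finite type `k`-domain of dimension `n` (a polynomial ring),
`ψb : Pb → Ab` a surjection of `k`-algebras, `qb` a prime of `Ab` and `F` a local ring which is a
localization of `Pb` with `m_F ∩ Pb = ψb⁻¹(qb)`.  Then the ideal of `F` generated by `ker ψb`
contains an `F`-regular sequence of length `n - (ht qb + coht qb)`.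
-/

set_option autoImplicit false
set_option linter.style.haveILetI false
universe u

open IsLocalRing RingTheory.Sequence

namespace Groth.Agent.Lib.Helper18.Fd

section dim

variable (k : Type u) [Field k] (Pb Ab : Type u) [CommRing Pb] [CommRing Ab] [Algebra k Pb]
  [Algebra k Ab] [Algebra.FiniteType k Pb] [Algebra.FiniteType k Ab] [IsDomain Pb] (n : ℕ)
  (hn : ringKrullDim Pb = n) (ψb : Pb →ₐ[k] Ab) (hψb : Function.Surjective ψb)
  (qb : PrimeSpectrum Ab)

include hn hψb in
/-- a prime of `Pb` between `ker ψb` and the preimage of `qb` has height at least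
`n - (ht qb + coht qb)` -/
theorem le_height_add (𝔓 : Ideal Pb) [h𝔓 : 𝔓.IsPrime] (h1 : RingHom.ker ψb.toRingHom ≤ 𝔓)
    (h2 : 𝔓 ≤ qb.asIdeal.comap ψb.toRingHom) :
    (n : ℕ∞) ≤ 𝔓.height + (Order.height qb + Order.coheight qb) := by
  have hs : Function.Surjective ψb.toRingHom := hψb
  haveI h𝔭 : (𝔓.map ψb.toRingHom).IsPrime := Ideal.map_isPrime_of_surjective hs h1
  have hle : 𝔓.map ψb.toRingHom ≤ qb.asIdeal := Ideal.map_le_iff_le_comap.2 h2
  have hcomap : (𝔓.map ψb.toRingHom).comap ψb.toRingHom = 𝔓 := by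
    rw [Ideal.comap_map_of_surjective _ hs, ← RingHom.ker_eq_comap_bot, sup_eq_left.mpr h1]
  -- the quotient rings agree
  let f : Pb →+* Ab ⧸ 𝔓.map ψb.toRingHom := (Ideal.Quotient.mk _).comp ψb.toRingHom
  have hf : Function.Surjective f := Ideal.Quotient.mk_surjective.comp hs
  have hker : RingHom.ker f = 𝔓 := by
    rw [← RingHom.comap_ker, Ideal.mk_ker, hcomap]
  let e : Pb ⧸ 𝔓 ≃+* Ab ⧸ 𝔓.map ψb.toRingHom :=
    (Ideal.quotEquivOfEq hker.symm).trans (RingHom.quotientKerEquivOfSurjective hf)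
  have hdim : ringKrullDim (Pb ⧸ 𝔓) = ringKrullDim (Ab ⧸ 𝔓.map ψb.toRingHom) :=
    ringKrullDim_eq_of_ringEquiv e
  have h3 := Groth.Agent.Lib.Helper12.DimFT2.ringKrullDim_quotient_le_height_add_coheight k Ab
    (𝔓.map ψb.toRingHom) qb hle
  have h4 := Groth.Agent.Lib.Helper12.DimFT.ringKrullDim_quotient_eq_coheight
    (⟨𝔓, h𝔓⟩ : PrimeSpectrum Pb)
  have h5 := Groth.Agent.Lib.Helper12.DimFT2.height_add_coheight' k Pb n hn
    (⟨𝔓, h𝔓⟩ : PrimeSpectrum Pb)
  have h6 : (Order.coheight (⟨𝔓, h𝔓⟩ : PrimeSpectrum Pb) : ℕ∞) ≤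
      Order.height qb + Order.coheight qb := by
    change ringKrullDim (Pb ⧸ 𝔓) = _ at h4
    rw [hdim] at h4
    rw [h4] at h3
    exact_mod_cast h3
  have h7 : 𝔓.height = Order.height (⟨𝔓, h𝔓⟩ : PrimeSpectrum Pb) :=
    PrimeSpectrum.height_eq_orderHeight (⟨𝔓, h𝔓⟩ : PrimeSpectrum Pb)
  rw [h7, ← h5]
  exact add_le_add le_rfl h6

end dim

section loc

variable {Pb : Type u} [CommRing Pb] (F : Type u) [CommRing F] [Algebra Pb F] (T : Submonoid Pb)
  [IsLocalization T F] [IsLocalRing F]

include T in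
/-- a localization which is a local ring is the localization at the preimage of the maximal
ideal -/
theorem isLocalization_atPrime_of_isLocalRing :
    haveI : ((maximalIdeal F).comap (algebraMap Pb F)).IsPrime := Ideal.comap_isPrime _ _
    IsLocalization.AtPrime F ((maximalIdeal F).comap (algebraMap Pb F)) := by
  haveI : ((maximalIdeal F).comap (algebraMap Pb F)).IsPrime := Ideal.comap_isPrime _ _
  refine IsLocalization.of_le T _ ?_ ?_
  · intro t ht
    change t ∉ (maximalIdeal F).comap (algebraMap Pb F)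
    rw [Ideal.mem_comap]
    intro hmem
    exact (IsLocalRing.mem_maximalIdeal _).1 hmem (IsLocalization.map_units F ⟨t, ht⟩)
  · intro r hr
    by_contra hu
    exact hr (Ideal.mem_comap.2 ((IsLocalRing.mem_maximalIdeal _).2 hu))

include T in
theorem isRegularLocalRing_of_isLocalization [IsRegularRing Pb] : IsRegularLocalRing F := by
  haveI : ((maximalIdeal F).comap (algebraMap Pb F)).IsPrime := Ideal.comap_isPrime _ _
  haveI := isLocalization_atPrime_of_isLocalRing F T
  exact IsRegularLocalRing.of_ringEquiv (IsLocalization.algEquiv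
    ((maximalIdeal F).comap (algebraMap Pb F)).primeCompl
    (Localization.AtPrime ((maximalIdeal F).comap (algebraMap Pb F))) F).toRingEquiv

end loc

section main

variable (k : Type u) [Field k] (Pb Ab : Type u) [CommRing Pb] [CommRing Ab] [Algebra k Pb]
  [Algebra k Ab] [Algebra.FiniteType k Pb] [Algebra.FiniteType k Ab] [IsDomain Pb] (n : ℕ)
  (hn : ringKrullDim Pb = n) (ψb : Pb →ₐ[k] Ab) (hψb : Function.Surjective ψb)
  (qb : PrimeSpectrum Ab)
  (F : Type u) [CommRing F] [Algebra Pb F] (T : Submonoid Pb) [IsLocalization T F] [IsLocalRing F]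
  (hm : (maximalIdeal F).comap (algebraMap Pb F) = qb.asIdeal.comap ψb.toRingHom)

include hn hψb T hm in
theorem le_height_map_ker :
    (n : ℕ∞) ≤ ((RingHom.ker ψb.toRingHom).map (algebraMap Pb F)).height +
      (Order.height qb + Order.coheight qb) := by
  set I := (RingHom.ker ψb.toRingHom).map (algebraMap Pb F) with hI
  by_cases htop : I.height = ⊤
  · rw [htop, top_add]; exact le_top
  obtain ⟨g, hg⟩ := ENat.ne_top_iff_exists.mp htop
  obtain ⟨J, hJ, hIJ, hJg⟩ := Ideal.exists_isPrime_height_eq hg.symm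
  haveI := hJ
  haveI : (J.comap (algebraMap Pb F)).IsPrime := Ideal.comap_isPrime _ _
  have h1 : RingHom.ker ψb.toRingHom ≤ J.comap (algebraMap Pb F) :=
    Ideal.map_le_iff_le_comap.1 hIJ
  have h2 : J.comap (algebraMap Pb F) ≤ qb.asIdeal.comap ψb.toRingHom := by
    rw [← hm]
    exact Ideal.comap_mono (IsLocalRing.le_maximalIdeal hJ.ne_top)
  have h3 := le_height_add k Pb Ab n hn ψb hψb qb (J.comap (algebraMap Pb F)) h1 h2
  have h4 : (J.comap (algebraMap Pb F)).height = J.height := IsLocalization.height_under T J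
  rw [h4, hJg] at h3
  rw [← hg]
  exact h3

include hn hψb T hm in
/-- the regular sequence in the local ring of the fibre -/
theorem exists_regular_sequence [IsRegularRing Pb] :
    ∃ xs : List F, (∀ x ∈ xs, x ∈ (RingHom.ker ψb.toRingHom).map (algebraMap Pb F)) ∧
      IsWeaklyRegular F xs ∧
      (n : ℕ∞) ≤ (xs.length : ℕ∞) + (Order.height qb + Order.coheight qb) := by
  haveI hreg : IsRegularLocalRing F := isRegularLocalRing_of_isLocalization F T
  set I := (RingHom.ker ψb.toRingHom).map (algebraMap Pb F) with hI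
  by_cases hd : (n : ℕ∞) ≤ Order.height qb + Order.coheight qb
  · exact ⟨[], by simp, IsWeaklyRegular.nil F F, by simpa using hd⟩
  rw [not_le] at hd
  obtain ⟨d₀, hd₀⟩ := ENat.ne_top_iff_exists.mp (ne_top_of_lt hd)
  rw [← hd₀] at hd
  have hdn : d₀ < n := by exact_mod_cast hd
  have hmain := le_height_map_ker k Pb Ab n hn ψb hψb qb F T hm
  rw [← hd₀] at hmain ⊢
  have hc : ((n - d₀ : ℕ) : ℕ∞) ≤ I.height := by
    by_cases htop : I.height = ⊤
    · rw [htop]; exact le_top
    obtain ⟨g, hg⟩ := ENat.ne_top_iff_exists.mp htop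
    rw [← hg] at hmain ⊢
    have : n ≤ g + d₀ := by exact_mod_cast hmain
    exact_mod_cast (by omega : n - d₀ ≤ g)
  obtain ⟨J, hJI, hJr, hJh⟩ := exists_spanRank_le_and_le_height_of_le_height I (n - d₀) hc
  have hIm : I ≤ maximalIdeal F := by
    rw [hI, Ideal.map_le_iff_le_comap, hm]
    intro x hx
    rw [Ideal.mem_comap]
    rw [RingHom.mem_ker] at hx
    rw [hx]
    exact zero_mem _
  have hJm : J ≤ maximalIdeal F := hJI.trans hIm
  have hJtop : J ≠ ⊤ := fun h => (IsLocalRing.maximalIdeal.isMaximal F).ne_top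
    (top_le_iff.1 (h ▸ hJm))
  have hfg : J.FG := IsNoetherian.noetherian J
  have hfin := Submodule.FG.finite_generators hfg
  let xs : List F := hfin.toFinset.toList
  have hxs_mem : ∀ x, x ∈ xs ↔ x ∈ J.generators := by
    intro x
    simp [xs]
  have hof : Ideal.ofList xs = J := by
    have : {r | r ∈ xs} = J.generators := Set.ext fun x => hxs_mem x
    change Ideal.span {r | r ∈ xs} = J
    rw [this]
    exact J.span_generators
  have hlen : xs.length = J.spanFinrank := by
    simp only [xs, Finset.length_toList]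
    rw [← Set.ncard_eq_toFinset_card (hs := hfin)]
    exact Submodule.FG.generators_ncard hfg
  have hJsub : ∀ x ∈ xs, x ∈ J := fun x hx =>
    Submodule.FG.generators_mem J ((hxs_mem x).1 hx)
  have hkrull : J.height ≤ J.spanFinrank := Ideal.height_le_spanFinrank J hJtop
  have hrank : J.spanFinrank ≤ n - d₀ := by
    rw [Submodule.fg_iff_spanRank_eq_spanFinrank.mpr hfg] at hJr
    exact_mod_cast hJr
  have hht : (xs.length : ℕ∞) ≤ (Ideal.ofList xs).height := by
    rw [hof, hlen]
    exact le_trans (by exact_mod_cast hrank) hJh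
  obtain ⟨hwr, -, -⟩ := Groth.Agent.Lib.Helper4.Unmixed.unmixed_local F xs
    (fun x hx => hJm (hJsub x hx)) hht
  refine ⟨xs, fun x hx => hJI (hJsub x hx), hwr, ?_⟩
  have h1 : ((n - d₀ : ℕ) : ℕ∞) ≤ (xs.length : ℕ∞) := by
    rw [hlen]; exact hJh.trans hkrull
  have h2 : n - d₀ ≤ xs.length := by exact_mod_cast h1
  exact_mod_cast (by omega : n ≤ xs.length + d₀)

end main

end Groth.Agent.Lib.Helper18.Fd
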