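import Mathlib
import Groth.Agent.Lib.Helper18.FdA

/-!
# A sequence which is regular on the closed fibre of a flat module is regular on every base change
(helper18)
-/

set_option autoImplicit false
set_option linter.style.haveILetI false
universe u

open IsLocalRing RingTheory.Sequence TensorProduct

namespace Groth.Agent.Lib.Helper18.Fd

section lift

open scoped Pointwise

variable {R₀ S : Type u} [CommRing R₀] [IsLocalRing R₀] [CommRing S] [IsLocalRing S]
  [IsNoetherianRing S] [Algebra R₀ S] [IsLocalHom (algebraMap R₀ S)]

/-- a sequence which is regular on the closed fibre of a flat module `M` is weakly regular on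
`M ⊗ N` for every module `N` over the base -/
theorem isWeaklyRegular_tensor_of_tensor_residueField :
    ∀ (ys : List S) (M : Type u) [AddCommGroup M] [Module R₀ M] [Module S M]
      [IsScalarTower R₀ S M] [Module.Finite S M] [Module.Flat R₀ M],
      IsWeaklyRegular (M ⊗[R₀] ResidueField R₀) ys →
      ∀ (N : Type u) [AddCommGroup N] [Module R₀ N], IsWeaklyRegular (M ⊗[R₀] N) ys := by
  intro ys
  induction ys with
  | nil => intro M _ _ _ _ _ _ _ N _ _; exact IsWeaklyRegular.nil S _
  | cons y ys ih =>
    intro M _ _ _ _ _ _ h N _ _
    rw [isWeaklyRegular_cons_iff] at h ⊢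
    let u : M →ₗ[R₀] M := (LinearMap.lsmul S M y).restrictScalars R₀
    have h2 : ∀ (K : Type u) [AddCommGroup K] [Module R₀ K] (w : M ⊗[R₀] K),
        u.rTensor K w = y • w := by
      intro K _ _ w
      induction w using TensorProduct.induction_on with
      | zero => rw [map_zero, smul_zero]
      | tmul m c => rfl
      | add w w' hw hw' => rw [map_add, hw, hw', smul_add]
    have hr : Function.Injective (u.rTensor (ResidueField R₀)) := by
      intro w w' hww
      rw [h2, h2] at hww
      exact h.1 hww
    have hinj : Function.Injective (LinearMap.lTensor (ResidueField R₀) u) := by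
      rw [← LinearMap.comm_comp_rTensor_comp_comm_eq]
      exact (TensorProduct.comm R₀ M (ResidueField R₀)).injective.comp
        (hr.comp (TensorProduct.comm R₀ (ResidueField R₀) M).injective)
    obtain ⟨hu, hflat⟩ :=
      Groth.Agent.Lib.Helper1.FibreInj.injective_and_flat_of_injective_residue S u hinj
    have heq : LinearMap.range u = (y • (⊤ : Submodule S M)).restrictScalars R₀ := by
      ext m
      rw [Submodule.restrictScalars_mem, Submodule.mem_smul_pointwise_iff_exists]
      constructor
      · rintro ⟨m', rfl⟩
        exact ⟨m', Submodule.mem_top, rfl⟩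
      · rintro ⟨m', -, rfl⟩
        exact ⟨m', rfl⟩
    let e : (M ⧸ LinearMap.range u) ≃ₗ[R₀] QuotSMulTop y M :=
      (Submodule.quotEquivOfEq _ _ heq) ≪≫ₗ
        Submodule.Quotient.restrictScalarsEquiv R₀ (y • (⊤ : Submodule S M))
    haveI : Module.Flat R₀ (QuotSMulTop y M) := Module.Flat.of_linearEquiv e.symm
    -- regularity on `M ⊗ N`
    have hlN : Function.Injective (u.lTensor N) :=
      LinearMap.lTensor_injective_of_exact_of_flat (LinearMap.range u).mkQ
        (Submodule.mkQ_surjective _) u hu (LinearMap.exact_map_mkQ_range u) N
    have hrN : Function.Injective (u.rTensor N) := by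
      rw [← LinearMap.comm_comp_lTensor_comp_comm_eq]
      exact (TensorProduct.comm R₀ N M).injective.comp
        (hlN.comp (TensorProduct.comm R₀ M N).injective)
    refine ⟨?_, ?_⟩
    · intro w w' hww
      apply hrN
      rw [h2, h2]
      exact hww
    · have h3 := ih (QuotSMulTop y M)
        (((quotTensorEquiv R₀ (ResidueField R₀) M y).isWeaklyRegular_congr ys).1 h.2) N
      exact ((quotTensorEquiv R₀ N M y).isWeaklyRegular_congr ys).2 h3

end lift

end Groth.Agent.Lib.Helper18.Fd
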