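import Mathlib
import Groth.Agent.Lib.Helper18.FdA
import Groth.Agent.Lib.Helper18.FdB
import Groth.Agent.Lib.Helper18.FdE
import Groth.Agent.Lib.Helper12.TopFibreDim

/-!
# The regular sequence in the local ring of affine space over a Noetherian base (helper18)
-/

set_option autoImplicit false
set_option linter.style.haveILetI false
universe u

open IsLocalRing RingTheory.Sequence TensorProduct AlgebraicGeometry

namespace Groth.Agent.Lib.Helper18.Fd

section dimtrans

variable (R A : Type u) [CommRing R] [CommRing A] [Algebra R A] [Algebra.FiniteType R A]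

/-- the point of the fibre ring corresponding to `q` -/
noncomputable def qbar (q : PrimeSpectrum A) :
    PrimeSpectrum ((PrimeSpectrum.comap (algebraMap R A) q).asIdeal.Fiber A) :=
  PrimeSpectrum.preimageHomeomorphFiber R A (PrimeSpectrum.comap (algebraMap R A) q) ⟨q, rfl⟩

lemma qbar_comap (q : PrimeSpectrum A) :
    (qbar R A q).asIdeal.comap (Algebra.TensorProduct.includeRight :
      A →ₐ[R] (PrimeSpectrum.comap (algebraMap R A) q).asIdeal.Fiber A).toRingHom = q.asIdeal := by
  have h := (PrimeSpectrum.preimageHomeomorphFiber R A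
    (PrimeSpectrum.comap (algebraMap R A) q)).symm_apply_apply ⟨q, rfl⟩
  have h2 := congrArg (fun z => z.1.asIdeal) h
  exact h2

theorem fibreDimAt_eq (q : PrimeSpectrum A) :
    FlatMor.fibreDimAt (Spec.map (CommRingCat.ofHom (algebraMap R A))) q =
      ((Order.height (qbar R A q) + Order.coheight (qbar R A q) : ℕ∞) : WithBot ℕ∞) := by
  rw [Groth.Agent.Lib.Helper12.TopFibreDim.fibreDimAt_eq_topFibreDim]
  have h1 : Groth.Agent.Lib.Helper12.TopFibreDim.topFibreDim
      (PrimeSpectrum.comap (algebraMap R A)) q =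
      ((Order.height (qbar R A q) + Order.coheight (qbar R A q) : ℕ∞) : WithBot ℕ∞) := by
    unfold Groth.Agent.Lib.Helper12.TopFibreDim.topFibreDim
    rw [Groth.Agent.Lib.Helper12.TopFibreDim.localDim_homeomorph
      (PrimeSpectrum.preimageHomeomorphFiber R A (PrimeSpectrum.comap (algebraMap R A) q))
      ⟨q, rfl⟩]
    exact Groth.Agent.Lib.Helper12.DimFT2.localDim_primeSpectrum
      (PrimeSpectrum.comap (algebraMap R A) q).asIdeal.ResidueField
      ((PrimeSpectrum.comap (algebraMap R A) q).asIdeal.Fiber A) _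
  exact h1

end dimtrans

section setup

variable {R : Type u} [CommRing R] (n : ℕ)
  (Q : Ideal (MvPolynomial (Fin n) R)) [Q.IsPrime] (p : Ideal R) [p.IsPrime] [Q.LiesOver p]

/-- `κ(p) ⊗ P → κ(p) ⊗ P_Q` -/
noncomputable def toF1 : (p.ResidueField ⊗[R] MvPolynomial (Fin n) R) →ₐ[p.ResidueField]
    (p.ResidueField ⊗[R] Localization.AtPrime Q) :=
  Algebra.TensorProduct.map (AlgHom.id p.ResidueField p.ResidueField)
    (IsScalarTower.toAlgHom R (MvPolynomial (Fin n) R) (Localization.AtPrime Q))

/-- the algebra structure of the local fibre ring over the fibre ring -/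
@[reducible] noncomputable def algF1 : Algebra (p.ResidueField ⊗[R] MvPolynomial (Fin n) R)
    (p.ResidueField ⊗[R] Localization.AtPrime Q) := (toF1 n Q p).toRingHom.toAlgebra

theorem isLocalization_F1 :
    letI := algF1 n Q p
    IsLocalization (Q.primeCompl.map (Algebra.TensorProduct.includeRight :
        MvPolynomial (Fin n) R →ₐ[R] p.ResidueField ⊗[R] MvPolynomial (Fin n) R))
      (p.ResidueField ⊗[R] Localization.AtPrime Q) := by
  letI := algF1 n Q p
  haveI : IsScalarTower p.ResidueField (p.ResidueField ⊗[R] MvPolynomial (Fin n) R)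
      (p.ResidueField ⊗[R] Localization.AtPrime Q) :=
    IsScalarTower.of_algebraMap_eq' (toF1 n Q p).comp_algebraMap.symm
  refine IsLocalization.tensorProduct_tensorProduct_right R p.ResidueField Q.primeCompl
    (Localization.AtPrime Q) (RingHom.ext fun x => ?_)
  change toF1 n Q p (1 ⊗ₜ x) = 1 ⊗ₜ algebraMap _ _ x
  simp [toF1]

/-- `S → κ(p) ⊗ S` -/
noncomputable def ιS : Localization.AtPrime Q →+* p.ResidueField ⊗[R] Localization.AtPrime Q :=
  (Algebra.TensorProduct.includeRight :
    Localization.AtPrime Q →ₐ[R] p.ResidueField ⊗[R] Localization.AtPrime Q).toRingHom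

lemma ιS_apply (s : Localization.AtPrime Q) : ιS n Q p s = 1 ⊗ₜ s := rfl

theorem isLocalRing_F1 : IsLocalRing (p.ResidueField ⊗[R] Localization.AtPrime Q) := by
  letI := Localization.AtPrime.algebraOfLiesOver p Q
  haveI : IsLocalHom (algebraMap (Localization.AtPrime p) (Localization.AtPrime Q)) :=
    Localization.isLocalHom_localRingHom _ _ _ Ideal.LiesOver.over
  let e₁ := IsLocalization.algebraTensorEquiv p.primeCompl (Localization.AtPrime p)
    p.ResidueField (Localization.AtPrime Q)
  exact e₁.toRingEquiv.isLocalRing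

theorem ιS_surjective : Function.Surjective (ιS n Q p) := by
  letI := Localization.AtPrime.algebraOfLiesOver p Q
  haveI := IsLocalization.tensorProduct_compatibleSMul p.primeCompl (Localization.AtPrime p)
    p.ResidueField (Localization.AtPrime Q)
  intro z
  induction z using TensorProduct.induction_on with
  | zero => exact ⟨0, map_zero _⟩
  | tmul c s =>
    obtain ⟨a, rfl⟩ := IsLocalRing.residue_surjective c
    refine ⟨a • s, ?_⟩
    rw [ιS_apply, ← TensorProduct.smul_tmul]
    congr 1
    rw [Algebra.smul_def, mul_one]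
    rfl
  | add z z' hz hz' =>
    obtain ⟨s, rfl⟩ := hz
    obtain ⟨s', rfl⟩ := hz'
    exact ⟨s + s', map_add _ _ _⟩

lemma algebraMap_F1_comp :
    letI := algF1 n Q p
    (algebraMap (p.ResidueField ⊗[R] MvPolynomial (Fin n) R)
      (p.ResidueField ⊗[R] Localization.AtPrime Q)).comp
      (Algebra.TensorProduct.includeRight :
        MvPolynomial (Fin n) R →ₐ[R] p.ResidueField ⊗[R] MvPolynomial (Fin n) R).toRingHom =
      (ιS n Q p).comp (algebraMap (MvPolynomial (Fin n) R) (Localization.AtPrime Q)) := by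
  letI := algF1 n Q p
  refine RingHom.ext fun x => ?_
  change toF1 n Q p (1 ⊗ₜ x) = 1 ⊗ₜ algebraMap _ _ x
  simp [toF1]

theorem comap_maximalIdeal_F1 :
    letI := algF1 n Q p
    haveI := isLocalRing_F1 n Q p
    ((maximalIdeal (p.ResidueField ⊗[R] Localization.AtPrime Q)).comap
      (algebraMap (p.ResidueField ⊗[R] MvPolynomial (Fin n) R)
        (p.ResidueField ⊗[R] Localization.AtPrime Q))).comap
      (Algebra.TensorProduct.includeRight :
        MvPolynomial (Fin n) R →ₐ[R] p.ResidueField ⊗[R] MvPolynomial (Fin n) R).toRingHom = Q := by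
  letI := algF1 n Q p
  haveI := isLocalRing_F1 n Q p
  have hcomp : (algebraMap (p.ResidueField ⊗[R] MvPolynomial (Fin n) R)
      (p.ResidueField ⊗[R] Localization.AtPrime Q)).comp
      (Algebra.TensorProduct.includeRight :
        MvPolynomial (Fin n) R →ₐ[R] p.ResidueField ⊗[R] MvPolynomial (Fin n) R).toRingHom =
      (ιS n Q p).comp (algebraMap (MvPolynomial (Fin n) R) (Localization.AtPrime Q)) := by
    refine RingHom.ext fun x => ?_
    change toF1 n Q p (1 ⊗ₜ x) = 1 ⊗ₜ algebraMap _ _ x
    simp [toF1]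
  haveI : IsLocalHom (ιS n Q p) := IsLocalHom.of_surjective _ (ιS_surjective n Q p)
  rw [Ideal.comap_comap, hcomp, ← Ideal.comap_comap, IsLocalRing.maximalIdeal_comap]
  exact IsLocalization.AtPrime.comap_maximalIdeal (Localization.AtPrime Q) Q

/-- a sequence of `P_Q` whose image in the local ring of the fibre is regular is regular -/
theorem isWeaklyRegular_of_map_ιS [IsNoetherianRing R] (ys : List (Localization.AtPrime Q))
    (h : IsWeaklyRegular (p.ResidueField ⊗[R] Localization.AtPrime Q) (ys.map (ιS n Q p))) :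
    IsWeaklyRegular (Localization.AtPrime Q) ys := by
  letI := Localization.AtPrime.algebraOfLiesOver p Q
  haveI : IsLocalHom (algebraMap (Localization.AtPrime p) (Localization.AtPrime Q)) :=
    Localization.isLocalHom_localRingHom _ _ _ Ideal.LiesOver.over
  haveI : Module.Flat (Localization.AtPrime p) (Localization.AtPrime Q) := inferInstance
  apply isWeaklyRegular_of_tensor_residueField (R₀ := Localization.AtPrime p) ys
    (Localization.AtPrime Q)
  let e₁ := IsLocalization.algebraTensorEquiv p.primeCompl (Localization.AtPrime p)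
    p.ResidueField (Localization.AtPrime Q)
  let ε : (Localization.AtPrime Q) ⊗[Localization.AtPrime p] p.ResidueField ≃+
      p.ResidueField ⊗[R] Localization.AtPrime Q :=
    ((TensorProduct.comm (Localization.AtPrime p) (Localization.AtPrime Q)
      p.ResidueField).toAddEquiv).trans e₁.toAddEquiv
  refine (AddEquiv.isWeaklyRegular_congr (e := ε) ?_).2 h
  rw [List.forall₂_map_right_iff]
  apply List.forall₂_same.2
  intro y _ z
  induction z using TensorProduct.induction_on with
  | zero => simp
  | tmul s c =>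
    change e₁ (c ⊗ₜ (y • s)) = ιS n Q p y • e₁ (c ⊗ₜ s)
    change (c ⊗ₜ[R] (y • s) : p.ResidueField ⊗[R] Localization.AtPrime Q) =
      ((1 : p.ResidueField) ⊗ₜ[R] y) * (c ⊗ₜ[R] s)
    rw [Algebra.TensorProduct.tmul_mul_tmul, one_mul, smul_eq_mul]
  | add z z' hz hz' => rw [smul_add, map_add, hz, hz', map_add, smul_add]

/-- a sequence of `P_Q` whose image in the local ring of the fibre is regular is weakly regular on
`P_Q ⊗_R N` for every `R`-module `N` -/
theorem isWeaklyRegular_tensor_of_map_ιS [IsNoetherianRing R] (ys : List (Localization.AtPrime Q))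
    (h : IsWeaklyRegular (p.ResidueField ⊗[R] Localization.AtPrime Q) (ys.map (ιS n Q p)))
    (N : Type u) [AddCommGroup N] [Module R N] :
    IsWeaklyRegular (Localization.AtPrime Q ⊗[R] N) ys := by
  letI := Localization.AtPrime.algebraOfLiesOver p Q
  haveI : IsLocalHom (algebraMap (Localization.AtPrime p) (Localization.AtPrime Q)) :=
    Localization.isLocalHom_localRingHom _ _ _ Ideal.LiesOver.over
  haveI : Module.Flat (Localization.AtPrime p) (Localization.AtPrime Q) := inferInstance
  have h1 : IsWeaklyRegular ((Localization.AtPrime Q) ⊗[Localization.AtPrime p]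
      ResidueField (Localization.AtPrime p)) ys := by
    let e₁ := IsLocalization.algebraTensorEquiv p.primeCompl (Localization.AtPrime p)
      p.ResidueField (Localization.AtPrime Q)
    let ε : (Localization.AtPrime Q) ⊗[Localization.AtPrime p] p.ResidueField ≃+
        p.ResidueField ⊗[R] Localization.AtPrime Q :=
      ((TensorProduct.comm (Localization.AtPrime p) (Localization.AtPrime Q)
        p.ResidueField).toAddEquiv).trans e₁.toAddEquiv
    refine (AddEquiv.isWeaklyRegular_congr (e := ε) ?_).2 h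
    rw [List.forall₂_map_right_iff]
    apply List.forall₂_same.2
    intro y _ z
    induction z using TensorProduct.induction_on with
    | zero => simp
    | tmul s c =>
      change e₁ (c ⊗ₜ (y • s)) = ιS n Q p y • e₁ (c ⊗ₜ s)
      change (c ⊗ₜ[R] (y • s) : p.ResidueField ⊗[R] Localization.AtPrime Q) =
        ((1 : p.ResidueField) ⊗ₜ[R] y) * (c ⊗ₜ[R] s)
      rw [Algebra.TensorProduct.tmul_mul_tmul, one_mul, smul_eq_mul]
    | add z z' hz hz' => rw [smul_add, map_add, hz, hz', map_add, smul_add]
  have h2 := isWeaklyRegular_tensor_of_tensor_residueField (R₀ := Localization.AtPrime p) ys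
    (Localization.AtPrime Q) h1 (Localization.AtPrime p ⊗[R] N)
  exact ((TensorProduct.AlgebraTensorModule.cancelBaseChange R (Localization.AtPrime p)
    (Localization.AtPrime Q) (Localization.AtPrime Q) N).isWeaklyRegular_congr ys).1 h2

end setup

section final

lemma exists_list_map {α β : Type*} (f : α → β) (Pα : α → Prop) :
    ∀ xs : List β, (∀ x ∈ xs, ∃ y, Pα y ∧ f y = x) →
      ∃ ys : List α, (∀ y ∈ ys, Pα y) ∧ ys.map f = xs := by
  intro xs
  induction xs with
  | nil => intro _; exact ⟨[], by simp, rfl⟩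
  | cons x xs ih =>
    intro h
    obtain ⟨y, hy, rfl⟩ := h x List.mem_cons_self
    obtain ⟨ys, hys, rfl⟩ := ih (fun x hx => h x (List.mem_cons_of_mem _ hx))
    refine ⟨y :: ys, ?_, rfl⟩
    intro z hz
    rcases List.mem_cons.1 hz with rfl | hz
    · exact hy
    · exact hys z hz

variable (R A : Type u) [CommRing R] [CommRing A] [IsNoetherianRing R] [Algebra R A] (n : ℕ)
  (ψ : MvPolynomial (Fin n) R →ₐ[R] A) (hψ : Function.Surjective ψ) (q : PrimeSpectrum A)

/-- `Q = ψ⁻¹ q` lies over `q ∩ R` -/
lemma liesOver_comap (Q : Ideal (MvPolynomial (Fin n) R))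
    (hQ : Q = q.asIdeal.comap ψ.toRingHom) :
    Q.LiesOver (PrimeSpectrum.comap (algebraMap R A) q).asIdeal := ⟨by
  change (PrimeSpectrum.comap (algebraMap R A) q).asIdeal =
    Q.comap (algebraMap R (MvPolynomial (Fin n) R))
  rw [hQ, Ideal.comap_comap]
  change q.asIdeal.comap (algebraMap R A) = _
  congr 1
  exact RingHom.ext fun r => (ψ.commutes r).symm⟩

include hψ in
/-- the sequence of length `n - d` in `ker ψ · P_Q` whose image in the local ring of the fibre is
regular -/
theorem exists_regular_sequence_local_aux (Q : Ideal (MvPolynomial (Fin n) R)) [Q.IsPrime]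
    (hQ : Q = q.asIdeal.comap ψ.toRingHom)
    [hlies₀ : Q.LiesOver (PrimeSpectrum.comap (algebraMap R A) q).asIdeal] (d : ℕ)
    (hd : FlatMor.fibreDimAt (Spec.map (CommRingCat.ofHom (algebraMap R A))) q = d) :
    ∃ ys : List (Localization.AtPrime Q),
      (∀ y ∈ ys, y ∈ (RingHom.ker ψ.toRingHom).map
        (algebraMap (MvPolynomial (Fin n) R) (Localization.AtPrime Q))) ∧
      IsWeaklyRegular ((PrimeSpectrum.comap (algebraMap R A) q).asIdeal.ResidueField ⊗[R]
          Localization.AtPrime Q)
        (ys.map (ιS n Q (PrimeSpectrum.comap (algebraMap R A) q).asIdeal)) ∧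
      n ≤ ys.length + d := by
  haveI : Algebra.FiniteType R A := Algebra.FiniteType.of_surjective ψ hψ
  let p' : PrimeSpectrum R := PrimeSpectrum.comap (algebraMap R A) q
  haveI hlies : Q.LiesOver p'.asIdeal := hlies₀
  -- the fibre rings
  let ψb : (p'.asIdeal.ResidueField ⊗[R] MvPolynomial (Fin n) R) →ₐ[p'.asIdeal.ResidueField]
      (p'.asIdeal.ResidueField ⊗[R] A) :=
    Algebra.TensorProduct.map (AlgHom.id p'.asIdeal.ResidueField p'.asIdeal.ResidueField) ψ
  have hψb : Function.Surjective ψb :=
    Algebra.TensorProduct.map_surjective _ _ Function.surjective_id hψ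
  let e0 := MvPolynomial.algebraTensorAlgEquiv (σ := Fin n) R p'.asIdeal.ResidueField
  haveI : IsDomain (p'.asIdeal.ResidueField ⊗[R] MvPolynomial (Fin n) R) :=
    e0.toRingEquiv.toMulEquiv.isDomain
  haveI : IsRegularRing (p'.asIdeal.ResidueField ⊗[R] MvPolynomial (Fin n) R) :=
    IsRegularRing.of_ringEquiv e0.symm.toRingEquiv
  have hn : ringKrullDim (p'.asIdeal.ResidueField ⊗[R] MvPolynomial (Fin n) R) = n := by
    rw [ringKrullDim_eq_of_ringEquiv e0.toRingEquiv, MvPolynomial.ringKrullDim_of_isNoetherianRing,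
      ringKrullDim_eq_zero_of_field]
    simp
  letI := algF1 n Q p'.asIdeal
  haveI := isLocalization_F1 n Q p'.asIdeal
  haveI := isLocalRing_F1 n Q p'.asIdeal
  have hm : (maximalIdeal (p'.asIdeal.ResidueField ⊗[R] Localization.AtPrime Q)).comap
      (algebraMap (p'.asIdeal.ResidueField ⊗[R] MvPolynomial (Fin n) R)
        (p'.asIdeal.ResidueField ⊗[R] Localization.AtPrime Q)) =
      (qbar R A q).asIdeal.comap ψb.toRingHom := by
    haveI h1 : ((maximalIdeal (p'.asIdeal.ResidueField ⊗[R] Localization.AtPrime Q)).comap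
      (algebraMap (p'.asIdeal.ResidueField ⊗[R] MvPolynomial (Fin n) R)
        (p'.asIdeal.ResidueField ⊗[R] Localization.AtPrime Q))).IsPrime := Ideal.comap_isPrime _ _
    haveI h2 : ((qbar R A q).asIdeal.comap ψb.toRingHom).IsPrime := Ideal.comap_isPrime _ _
    let x : PrimeSpectrum (p'.asIdeal.Fiber (MvPolynomial (Fin n) R)) := ⟨_, h1⟩
    let y : PrimeSpectrum (p'.asIdeal.Fiber (MvPolynomial (Fin n) R)) := ⟨_, h2⟩
    have hxy : x = y := by
      apply (PrimeSpectrum.preimageEquivFiber R (MvPolynomial (Fin n) R) p').symm.injective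
      apply Subtype.ext
      apply PrimeSpectrum.ext
      change x.asIdeal.comap (Algebra.TensorProduct.includeRight :
          MvPolynomial (Fin n) R →ₐ[R] p'.asIdeal.ResidueField ⊗[R] MvPolynomial (Fin n) R).toRingHom =
        y.asIdeal.comap (Algebra.TensorProduct.includeRight :
          MvPolynomial (Fin n) R →ₐ[R] p'.asIdeal.ResidueField ⊗[R] MvPolynomial (Fin n) R).toRingHom
      have hx := comap_maximalIdeal_F1 n Q p'.asIdeal
      rw [hx]
      change Q = ((qbar R A q).asIdeal.comap ψb.toRingHom).comap _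
      have hcomp : ψb.toRingHom.comp (Algebra.TensorProduct.includeRight :
          MvPolynomial (Fin n) R →ₐ[R] p'.asIdeal.ResidueField ⊗[R] MvPolynomial (Fin n) R).toRingHom =
          (Algebra.TensorProduct.includeRight :
            A →ₐ[R] p'.asIdeal.ResidueField ⊗[R] A).toRingHom.comp ψ.toRingHom := by
        refine RingHom.ext fun z => ?_
        change ψb (1 ⊗ₜ z) = 1 ⊗ₜ ψ z
        simp [ψb]
      rw [Ideal.comap_comap, hcomp, ← Ideal.comap_comap, qbar_comap, hQ]
    exact congrArg PrimeSpectrum.asIdeal hxy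
  obtain ⟨xs, hxs, hreg, hlen⟩ := exists_regular_sequence p'.asIdeal.ResidueField
    (p'.asIdeal.ResidueField ⊗[R] MvPolynomial (Fin n) R) (p'.asIdeal.ResidueField ⊗[R] A) n hn
    ψb hψb (qbar R A q) (p'.asIdeal.ResidueField ⊗[R] Localization.AtPrime Q)
    (Q.primeCompl.map (Algebra.TensorProduct.includeRight :
        MvPolynomial (Fin n) R →ₐ[R] p'.asIdeal.ResidueField ⊗[R] MvPolynomial (Fin n) R)) hm
  have hker : RingHom.ker ψb.toRingHom = (RingHom.ker ψ.toRingHom).map
      (Algebra.TensorProduct.includeRight :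
        MvPolynomial (Fin n) R →ₐ[R] p'.asIdeal.ResidueField ⊗[R] MvPolynomial (Fin n) R).toRingHom :=
    Algebra.TensorProduct.lTensor_ker (A := p'.asIdeal.ResidueField) ψ hψ
  have hideal : (RingHom.ker ψb.toRingHom).map
      (algebraMap (p'.asIdeal.ResidueField ⊗[R] MvPolynomial (Fin n) R)
        (p'.asIdeal.ResidueField ⊗[R] Localization.AtPrime Q)) =
      ((RingHom.ker ψ.toRingHom).map
        (algebraMap (MvPolynomial (Fin n) R) (Localization.AtPrime Q))).map
        (ιS n Q p'.asIdeal) := by
    rw [hker, Ideal.map_map, Ideal.map_map, algebraMap_F1_comp n Q p'.asIdeal]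
  obtain ⟨ys, hys, hmap⟩ := exists_list_map (ιS n Q p'.asIdeal)
    (fun y => y ∈ (RingHom.ker ψ.toRingHom).map
      (algebraMap (MvPolynomial (Fin n) R) (Localization.AtPrime Q))) xs (fun x hx => by
      have h3 := hxs x hx
      rw [hideal] at h3
      obtain ⟨y, hy, rfl⟩ := (Ideal.mem_map_iff_of_surjective _
        (ιS_surjective n Q p'.asIdeal)).1 h3
      exact ⟨y, hy, rfl⟩)
  refine ⟨ys, hys, (by rw [hmap]; exact hreg), ?_⟩
  have hd' := fibreDimAt_eq R A q
  rw [hd] at hd'
  have h4 : (Order.height (qbar R A q) + Order.coheight (qbar R A q) : ℕ∞) = d := by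
    exact_mod_cast hd'.symm
  rw [h4] at hlen
  have h5 : ys.length = xs.length := by rw [← hmap, List.length_map]
  rw [h5]
  exact_mod_cast hlen

include hψ in
/-- the regular sequence of length `n - d` in `ker ψ · P_Q` -/
theorem exists_regular_sequence_local (Q : Ideal (MvPolynomial (Fin n) R)) [Q.IsPrime]
    (hQ : Q = q.asIdeal.comap ψ.toRingHom) (d : ℕ)
    (hd : FlatMor.fibreDimAt (Spec.map (CommRingCat.ofHom (algebraMap R A))) q = d) :
    ∃ ys : List (Localization.AtPrime Q),
      (∀ y ∈ ys, y ∈ (RingHom.ker ψ.toRingHom).map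
        (algebraMap (MvPolynomial (Fin n) R) (Localization.AtPrime Q))) ∧
      IsWeaklyRegular (Localization.AtPrime Q) ys ∧ n ≤ ys.length + d := by
  haveI := liesOver_comap R A n ψ q Q hQ
  obtain ⟨ys, hys, hreg, hlen⟩ := exists_regular_sequence_local_aux R A n ψ hψ q Q hQ d hd
  exact ⟨ys, hys, isWeaklyRegular_of_map_ιS n Q _ ys hreg, hlen⟩

include hψ in
/-- the regular sequence of length `n - d` in `ker ψ · P_Q`, weakly regular on `P_Q ⊗_R N` for
every `R`-module `N` -/
theorem exists_regular_sequence_local_tensor (Q : Ideal (MvPolynomial (Fin n) R)) [Q.IsPrime]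
    (hQ : Q = q.asIdeal.comap ψ.toRingHom) (d : ℕ)
    (hd : FlatMor.fibreDimAt (Spec.map (CommRingCat.ofHom (algebraMap R A))) q = d) :
    ∃ ys : List (Localization.AtPrime Q),
      (∀ y ∈ ys, y ∈ (RingHom.ker ψ.toRingHom).map
        (algebraMap (MvPolynomial (Fin n) R) (Localization.AtPrime Q))) ∧
      (∀ (N : Type u) [AddCommGroup N] [Module R N],
        IsWeaklyRegular (Localization.AtPrime Q ⊗[R] N) ys) ∧ n ≤ ys.length + d := by
  haveI := liesOver_comap R A n ψ q Q hQ
  obtain ⟨ys, hys, hreg, hlen⟩ := exists_regular_sequence_local_aux R A n ψ hψ q Q hQ d hd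
  exact ⟨ys, hys, fun N _ _ => isWeaklyRegular_tensor_of_map_ιS n Q _ ys hreg N, hlen⟩

end final

end Groth.Agent.Lib.Helper18.Fd
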