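import Mathlib
import Groth.Agent.Lib.Helper18.BCHom3

/-!
# Base change of `Hom` out of a finite projective module (helper18)
-/

set_option autoImplicit false
set_option linter.style.haveILetI false
universe u
open CategoryTheory CategoryTheory.Limits
open TensorProduct

namespace Groth.Agent.Lib.Helper18.DR

namespace HomBC

section omegaP

variable {A B : Type u} [CommRing A] [CommRing B] [Algebra A B]
  (P M : ModuleCat.{u} A) [Module.Finite A P] [Module.Projective A P]

/-- `Ω` as an equivalence, for `P` finite projective -/
noncomputable def ΩEquivP : B ⊗[A] (P ⟶ M) ≃+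
    ((extM (A := A) (B := B)).obj P ⟶ (extM (A := A) (B := B)).obj M) :=
  ((ModuleCat.homLinearEquiv (S := A) (M := P) (N := M)).lTensor B).toAddEquiv.trans
    ((lTensorHomEquivHomLTensor A P B M).toAddEquiv.trans
      ((LinearMap.liftBaseChangeEquiv B (R := A) (M := P) (N := B ⊗[A] M)).toAddEquiv.trans
        ((LinearEquiv.arrowCongr (extMEquiv (B := B) P).symm
            (extMEquiv (B := B) M).symm).toAddEquiv.trans
          (ModuleCat.homLinearEquiv (S := B)).symm.toAddEquiv)))

lemma Ω_eq_P (z : B ⊗[A] (P ⟶ M)) : Ω (B := B) P M z = ΩEquivP (B := B) P M z := by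
  induction z using TensorProduct.induction_on with
  | zero => rw [map_zero, map_zero]
  | add x y hx hy => rw [map_add, map_add, hx, hy]
  | tmul b f =>
    rw [Ω_tmul]
    apply ModuleCat.hom_ext
    apply LinearMap.ext
    intro x
    apply (extMEquiv (B := B) M).injective
    rw [ModuleCat.hom_smul, LinearMap.smul_apply, map_smul, extMEquiv_naturality]
    change _ = (extMEquiv (B := B) M) ((extMEquiv (B := B) M).symm
      ((LinearMap.liftBaseChangeEquiv B (lTensorHomEquivHomLTensor A P B M (b ⊗ₜ[A] f.hom)))
        ((extMEquiv (B := B) P) x)))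
    rw [LinearEquiv.apply_symm_apply, lTensorHomEquivHomLTensor_apply]
    generalize (extMEquiv (B := B) P) x = y
    induction y using TensorProduct.induction_on with
    | zero => rw [map_zero, map_zero, smul_zero]
    | add y y' hy hy' => rw [map_add, map_add, smul_add, hy, hy']
    | tmul b' p =>
      change b • (f.hom.lTensor B) (b' ⊗ₜ[A] p) =
        LinearMap.liftBaseChange B (lTensorHomToHomLTensor (.id A) P B M (b ⊗ₜ[A] f.hom))
          (b' ⊗ₜ[A] p)
      rw [LinearMap.lTensor_tmul, LinearMap.liftBaseChange_tmul, lTensorHomToHomLTensor_apply,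
        TensorProduct.smul_tmul', TensorProduct.smul_tmul', smul_eq_mul, smul_eq_mul, mul_comm]

lemma Ω_bijective_of_finite_projective : Function.Bijective (Ω (B := B) P M) := by
  have h : (Ω (B := B) P M : B ⊗[A] (P ⟶ M) → _) = ΩEquivP (B := B) P M :=
    funext (Ω_eq_P P M)
  rw [h]
  exact (ΩEquivP (B := B) P M).bijective

end omegaP

end HomBC

end Groth.Agent.Lib.Helper18.DR
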