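import Mathlib
import Groth.Agent.Lib.Helper18.DuF1
import Groth.Agent.Lib.Helper18.DuC
import Groth.Agent.Lib.Helper18.DTenA

/-!
# The dual of a termwise finite projective complex commutes with base change (helper18)
-/

set_option autoImplicit false
set_option linter.style.haveILetI false
universe u
open CategoryTheory CategoryTheory.Limits MonoidalCategory HomologicalComplex
  CochainComplex.HomComplex
open TensorProduct ChangeOfRings

attribute [local instance] HasDerivedCategory.standard

namespace Groth.Agent.Lib.Helper18.DR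

namespace DuF

open HomCx DTen

section conc

variable {A : Type u} [CommRing A] (K L : DRing.Cx A)

/-- the component in degree `(p, 0)` of a cochain, as a linear map -/
noncomputable def concLin (n p : ℤ) (h : p + n = 0) : Cochain K L n →ₗ[A] (K.X p ⟶ L.X 0) where
  toFun z := z.v p 0 h
  map_add' _ _ := rfl
  map_smul' _ _ := rfl

lemma concLin_bijective (hL : ∀ q : ℤ, q ≠ 0 → IsZero (L.X q)) (n p : ℤ) (h : p + n = 0) :
    Function.Bijective (concLin K L n p h) := by
  constructor
  · rw [injective_iff_map_eq_zero]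
    intro z hz
    refine Cochain.ext _ _ (fun p' q hpq => ?_)
    by_cases hq : q = 0
    · subst hq
      obtain rfl : p' = p := by omega
      exact hz
    · exact (hL q hq).eq_of_tgt _ _
  · intro g
    refine ⟨Cochain.single g n, ?_⟩
    change (Cochain.single g n).v p 0 h = g
    rw [Cochain.single_v g n h]

/-- cochains into a complex concentrated in degree `0` -/
noncomputable def concEquiv (hL : ∀ q : ℤ, q ≠ 0 → IsZero (L.X q)) (n p : ℤ) (h : p + n = 0) :
    Cochain K L n ≃ₗ[A] (K.X p ⟶ L.X 0) :=
  LinearEquiv.ofBijective (concLin K L n p h) (concLin_bijective K L hL n p h)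

/-- the terms of `Hom•(K, L)` for `L` concentrated in degree `0` -/
noncomputable def concEquivX (hL : ∀ q : ℤ, q ≠ 0 → IsZero (L.X q)) (n p : ℤ) (h : p + n = 0) :
    ((DRing.homCx K L).X n) ≃ₗ[A] (K.X p ⟶ L.X 0) :=
  (toCochain K L n).trans (concEquiv K L hL n p h)

lemma concEquivX_apply (hL : ∀ q : ℤ, q ≠ 0 → IsZero (L.X q)) (n p : ℤ) (h : p + n = 0)
    (w : (DRing.homCx K L).X n) :
    concEquivX K L hL n p h w = (toCochain K L n w).v p 0 h := rfl

end conc

section tau

variable {R S : Type u} [CommRing R] [CommRing S] [Algebra R S] (K L : DRing.Cx R)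

/-- `z ↦ z ⊗ S` on cochains, as a chain map -/
noncomputable def θ : DRing.homCx K L ⟶ (DTen.resCx (algebraMap R S)).obj
    (DRing.homCx ((DTen.extCx (algebraMap R S)).obj K) ((DTen.extCx (algebraMap R S)).obj L)) where
  f n := @ModuleCat.ofHom R _ (Cochain K L n)
    (Cochain ((DTen.extCx (algebraMap R S)).obj K) ((DTen.extCx (algebraMap R S)).obj L) n)
    _ _ _ (Module.compHom _ (algebraMap R S))
    (letI : Module R (Cochain ((DTen.extCx (algebraMap R S)).obj K)
      ((DTen.extCx (algebraMap R S)).obj L) n) := Module.compHom _ (algebraMap R S)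
    { toFun := fun (z : Cochain K L n) => z.map (extM (A := R) (B := S))
      map_add' := fun z z' => Cochain.map_add z z' _
      map_smul' := fun r z => by
        refine Cochain.ext _ _ (fun p q hpq => ?_)
        change (extM (A := R) (B := S)).map (r • z.v p q hpq) =
          (algebraMap R S r) • (extM (A := R) (B := S)).map (z.v p q hpq)
        exact HomBC.extM_map_smul r (z.v p q hpq) })
  comm' i j _ := by
    refine ModuleCat.hom_ext (LinearMap.ext fun (z : Cochain K L i) => ?_)
    change δ i j (z.map (extM (A := R) (B := S))) = (δ i j z).map (extM (A := R) (B := S))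
    exact δ_map _ _ _ _

/-- the base change map `Hom•(K, L) ⊗ S ⟶ Hom•(K ⊗ S, L ⊗ S)` -/
noncomputable def τ : (DTen.extCx (algebraMap R S)).obj (DRing.homCx K L) ⟶
    DRing.homCx ((DTen.extCx (algebraMap R S)).obj K) ((DTen.extCx (algebraMap R S)).obj L) :=
  ((DTenA.cxAdj (algebraMap R S)).homEquiv _ _).symm (θ K L)

lemma τ_f_one_tmul (n : ℤ) (z : Cochain K L n) :
    ((τ (S := S) K L).f n).hom ((1 : S) ⊗ₜ[R, algebraMap R S] z) =
      z.map (extM (A := R) (B := S)) := by
  have h := ((DTenA.cxAdj (algebraMap R S)).homEquiv _ _).apply_symm_apply (θ (S := S) K L)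
  rw [Adjunction.homEquiv_unit] at h
  have h' : ((((DTenA.cxAdj (algebraMap R S)).unit.app (DRing.homCx K L) ≫
      (DTen.resCx (algebraMap R S)).map (τ (S := S) K L)).f n).hom z) =
      ((θ (S := S) K L).f n).hom z := congrArg (fun t => (t.f n).hom z) h
  exact h'

lemma extMEquiv_symm_tmul (M : ModuleCat.{u} R) (s : S) (m : M) :
    (extMEquiv (B := S) M).symm (s ⊗ₜ[R] m) = s ⊗ₜ[R, algebraMap R S] m := rfl

lemma isZero_ext_X (hL : ∀ q : ℤ, q ≠ 0 → IsZero (L.X q)) (q : ℤ) (hq : q ≠ 0) :
    IsZero (((DTen.extCx (algebraMap R S)).obj L).X q) :=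
  (extM (A := R) (B := S)).map_isZero (hL q hq)

/-- the base change map on tensors -/
noncomputable def T (n : ℤ) : S ⊗[R] ((DRing.homCx K L).X n) →ₗ[S]
    ((DRing.homCx ((DTen.extCx (algebraMap R S)).obj K)
      ((DTen.extCx (algebraMap R S)).obj L)).X n) :=
  ((τ (S := S) K L).f n).hom ∘ₗ (extMEquiv (B := S) ((DRing.homCx K L).X n)).symm.toLinearMap

lemma T_one_tmul (n : ℤ) (z : (DRing.homCx K L).X n) :
    T (S := S) K L n ((1 : S) ⊗ₜ[R] z) =
      (toCochain _ _ n).symm ((toCochain K L n z).map (extM (A := R) (B := S))) :=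
  τ_f_one_tmul K L n z

lemma T_tmul (n : ℤ) (s : S) (z : (DRing.homCx K L).X n) :
    T (S := S) K L n (s ⊗ₜ[R] z) =
      s • (toCochain _ _ n).symm ((toCochain K L n z).map (extM (A := R) (B := S))) := by
  have h1 : (s ⊗ₜ[R] z : S ⊗[R] ((DRing.homCx K L).X n)) = s • ((1 : S) ⊗ₜ[R] z) := by
    rw [TensorProduct.smul_tmul', smul_eq_mul, mul_one]
  rw [h1, map_smul, T_one_tmul]

/-- the base change map in terms of `Ω`, for `L` concentrated in degree `0` -/
lemma concEquiv_T (hL : ∀ q : ℤ, q ≠ 0 → IsZero (L.X q)) (n p : ℤ) (h : p + n = 0)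
    (y : S ⊗[R] ((DRing.homCx K L).X n)) :
    concEquivX ((DTen.extCx (algebraMap R S)).obj K) ((DTen.extCx (algebraMap R S)).obj L)
        (isZero_ext_X (S := S) L hL) n p h (T (S := S) K L n y) =
      HomBC.Ω (B := S) (K.X p) (L.X 0)
        ((concEquivX K L hL n p h).toLinearMap.lTensor S y) := by
  induction y using TensorProduct.induction_on with
  | zero =>
    rw [map_zero, map_zero, map_zero, map_zero]
    rfl
  | add y y' hy hy' =>
    rw [map_add, map_add, map_add, map_add, hy, hy']
    rfl
  | tmul s z =>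
    rw [T_tmul, map_smul, LinearMap.lTensor_tmul, HomBC.Ω_tmul]
    rfl

/-- the base change map is an isomorphism for `K` termwise finite projective and `L` concentrated
in degree `0` -/
theorem isIso_τ (hK : DRing.TermwiseFiniteProjective K)
    (hL : ∀ q : ℤ, q ≠ 0 → IsZero (L.X q)) : IsIso (τ (S := S) K L) := by
  haveI : ∀ n, IsIso ((τ (S := S) K L).f n) := fun n => by
    haveI := (hK (-n)).1
    haveI := (hK (-n)).2
    rw [ConcreteCategory.isIso_iff_bijective]
    have h : (-n) + n = 0 := by omega
    have hT : Function.Bijective (T (S := S) K L n) := by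
      have hb : Function.Bijective (fun y => concEquivX ((DTen.extCx (algebraMap R S)).obj K)
          ((DTen.extCx (algebraMap R S)).obj L) (isZero_ext_X (S := S) L hL) n (-n) h
          (T (S := S) K L n y)) := by
        have : (fun y => concEquivX ((DTen.extCx (algebraMap R S)).obj K)
            ((DTen.extCx (algebraMap R S)).obj L) (isZero_ext_X (S := S) L hL) n (-n) h
            (T (S := S) K L n y)) =
            (HomBC.Ω (B := S) (K.X (-n)) (L.X 0)) ∘ ((concEquivX K L hL n (-n) h).lTensor S) :=
          funext (concEquiv_T K L hL n (-n) h)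
        rw [this]
        exact (HomBC.Ω_bijective_of_finite_projective (K.X (-n)) (L.X 0)).comp
          ((concEquivX K L hL n (-n) h).lTensor S).bijective
      exact (Function.Bijective.of_comp_iff' (concEquivX ((DTen.extCx (algebraMap R S)).obj K)
        ((DTen.extCx (algebraMap R S)).obj L) (isZero_ext_X (S := S) L hL) n (-n) h).bijective
        _).1 hb
    have h2 : (((τ (S := S) K L).f n).hom : _ → _) =
        (T (S := S) K L n) ∘ (extMEquiv (B := S) ((DRing.homCx K L).X n)) := by
      funext x
      change _ = ((τ (S := S) K L).f n).hom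
        ((extMEquiv (B := S) ((DRing.homCx K L).X n)).symm
          ((extMEquiv (B := S) ((DRing.homCx K L).X n)) x))
      rw [LinearEquiv.symm_apply_apply]
    change Function.Bijective (((τ (S := S) K L).f n).hom : _ → _)
    rw [h2]
    exact hT.comp (extMEquiv (B := S) ((DRing.homCx K L).X n)).bijective
  exact HomologicalComplex.Hom.isIso_of_components _

end tau

section dual

variable {R S : Type u} [CommRing R] [CommRing S] [Algebra R S]

/-- `R[0] ⊗_R S ≅ S[0]` -/
noncomputable def uι : (DTen.extCx (algebraMap R S)).obj (𝟙_ (DRing.Cx R)) ≅ 𝟙_ (DRing.Cx S) :=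
  (HomologicalComplex.singleMapHomologicalComplex (extM (A := R) (B := S))
      (ComplexShape.up ℤ) 0).app (𝟙_ (ModuleCat.{u} R)) ≪≫
    (HomologicalComplex.single (ModuleCat.{u} S) (ComplexShape.up ℤ) 0).mapIso
      (Functor.Monoidal.εIso (extM (A := R) (B := S))).symm

/-- **the dual of a termwise finite projective complex commutes with base change** -/
theorem nonempty_ext_dual_iso (K : DRing.Cx R) (hK : DRing.TermwiseFiniteProjective K) :
    Nonempty ((DTen.extCx (algebraMap R S)).obj (Du.dualCx K) ≅
      Du.dualCx ((DTen.extCx (algebraMap R S)).obj K)) := by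
  haveI := isIso_τ (S := S) K (𝟙_ (DRing.Cx R)) hK (fun q hq => Du.isZero_unit_X q hq)
  exact ⟨asIso (τ (S := S) K (𝟙_ (DRing.Cx R))) ≪≫
    (DRing.homCxFunctor ((DTen.extCx (algebraMap R S)).obj K)).mapIso uι⟩

end dual

end DuF

end Groth.Agent.Lib.Helper18.DR
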