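import Mathlib
import Groth.Agent.Lib.Helper18.KProjG
import Groth.Agent.Lib.Helper18.DRSum
import Groth.Agent.Lib.Helper18.DRTorC

/-!
# Relatively perfect objects form a saturated triangulated subcategory (helper18)
-/

set_option autoImplicit false
set_option linter.style.haveILetI false
universe u
open CategoryTheory CategoryTheory.Limits CategoryTheory.Pretriangulated DerivedCategory
open ZeroObject

attribute [local instance] HasDerivedCategory.standard

namespace Groth.Agent.Lib.Helper18.DR

variable (R A : Type u) [CommRing R] [CommRing A] [Algebra R A]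

lemma isRelPerfect_of_iso {K L : Dual.D A} (e : K ≅ L) (h : Dual2.IsRelPerfect R A K) :
    Dual2.IsRelPerfect R A L := by
  obtain ⟨h1, a, b, h2⟩ := h
  exact ⟨isPseudoCoherent'_of_iso e h1, a, b,
    hasTorAmplitudeIn_of_iso ((DRing.restrictD (algebraMap R A)).mapIso e) h2⟩

/-- S7093 -/
theorem isRelPerfect_isTriangulated_and_saturated :
    ObjectProperty.IsTriangulated (C := Dual.D A) (fun K => Dual2.IsRelPerfect R A K) ∧
      ObjectProperty.IsClosedUnderIsomorphisms (C := Dual.D A)
        (fun K => Dual2.IsRelPerfect R A K) ∧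
      ∀ X Y : Dual.D A, Dual2.IsRelPerfect R A (X ⊞ Y) →
        Dual2.IsRelPerfect R A X ∧ Dual2.IsRelPerfect R A Y := by
  refine ⟨{ exists_zero := ?_, isStableUnderShiftBy := ?_, ext₂' := ?_ },
    ⟨fun e h => isRelPerfect_of_iso R A e h⟩, ?_⟩
  · refine ⟨0, isZero_zero _, ?_, 0, 0, ?_⟩
    · exact isPseudoCoherent'_of_forall _ (fun m => isPseudoCoherent_of_isZero _ (isZero_zero _) m)
    · exact hasTorAmplitudeIn_of_isZero _
        (Functor.map_isZero (DRing.restrictD (algebraMap R A)) (isZero_zero _)) 0 0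
  · intro n
    refine ⟨fun K hK => ?_⟩
    obtain ⟨h1, a, b, h2⟩ := hK
    exact ⟨isPseudoCoherent'_shift h1 n, a - n, b - n,
      hasTorAmplitudeIn_of_iso (((DRing.restrictD (algebraMap R A)).commShiftIso n).app K).symm
        (hasTorAmplitudeIn_shift h2 n)⟩
  · intro T hT h1 h3
    apply ObjectProperty.le_isoClosure
    obtain ⟨p1, a1, b1, t1⟩ := h1
    obtain ⟨p3, a3, b3, t3⟩ := h3
    refine ⟨isPseudoCoherent'_of_forall _ fun m => (isPseudoCoherent_triangle T hT m).2.1
      (isPseudoCoherent_of_isPseudoCoherent' p1 m) (isPseudoCoherent_of_isPseudoCoherent' p3 m),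
      min a1 a3, max b1 b3, ?_⟩
    exact (hasTorAmplitudeIn_triangle (min a1 a3) (max b1 b3) _
      ((DRing.restrictD (algebraMap R A)).map_distinguished T hT)).2.1
      (hasTorAmplitudeIn_mono t1 (min_le_left _ _) (le_max_left _ _))
      (hasTorAmplitudeIn_mono t3 (min_le_right _ _) (le_max_right _ _))
  · intro X Y h
    haveI : PreservesBinaryBiproducts (DRing.restrictD (algebraMap R A)) :=
      preservesBinaryBiproducts_of_preservesBiproducts _
    obtain ⟨p, a, b, t⟩ := h
    obtain ⟨pX, pY⟩ := isPseudoCoherent'_of_biprod X Y p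
    obtain ⟨tX, tY⟩ := hasTorAmplitudeIn_of_biprod a b _ _
      (hasTorAmplitudeIn_of_iso ((DRing.restrictD (algebraMap R A)).mapBiprod X Y) t)
    exact ⟨⟨pX, a, b, tX⟩, ⟨pY, a, b, tY⟩⟩

end Groth.Agent.Lib.Helper18.DR
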