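import Mathlib
import Groth.Agent.Lib.Helper18.DRFib
import Groth.Agent.Lib.Helper18.KProjH

/-!
# Relatively perfect complexes and base change (helper18)
-/

set_option autoImplicit false
set_option linter.style.haveILetI false
universe u
open CategoryTheory CategoryTheory.Limits CategoryTheory.Pretriangulated DerivedCategory
open TensorProduct MonoidalCategory

attribute [local instance] HasDerivedCategory.standard
attribute [local instance] Algebra.TensorProduct.rightAlgebra

namespace Groth.Agent.Lib.Helper18.DR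

/-! ## The base change isomorphism for a pushout square of rings -/

section pushout

variable {A B κ C : Type u} [CommRing A] [CommRing B] [CommRing κ] [CommRing C]
  [Algebra A B] [Algebra A κ] [Algebra A C] [Algebra κ C] [Algebra B C]
  [IsScalarTower A κ C] [IsScalarTower A B C] [Algebra.IsPushout A κ B C]

/-- `extMEquiv` as a `κ`-linear equivalence -/
noncomputable def extMEquivRes (M : ModuleCat.{u} B) :
    ((ModuleCat.restrictScalars.{u} (algebraMap κ C)).obj ((extM (A := B) (B := C)).obj M)) ≃ₗ[κ]
      C ⊗[B] M :=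
  { toFun := fun x => extMEquiv (B := C) M x
    invFun := fun x => (extMEquiv (B := C) M).symm x
    map_add' := fun x y => map_add (extMEquiv (B := C) M) x y
    map_smul' := fun k x => by
      change extMEquiv (B := C) M ((algebraMap κ C k) • (show (extM (A := B) (B := C)).obj M from x)) =
        k • extMEquiv (B := C) M x
      rw [map_smul, algebraMap_smul]
    left_inv := fun x => (extMEquiv (B := C) M).symm_apply_apply x
    right_inv := fun x => (extMEquiv (B := C) M).apply_symm_apply x }

/-- `(C ⊗_B M)|_κ ≃ κ ⊗_A (M|_A)` for a pushout square -/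
noncomputable def pushoutEquiv (M : ModuleCat.{u} B) :
    ((ModuleCat.restrictScalars.{u} (algebraMap κ C)).obj ((extM (A := B) (B := C)).obj M)) ≃ₗ[κ]
      ((extM (A := A) (B := κ)).obj ((ModuleCat.restrictScalars.{u} (algebraMap A B)).obj M)) :=
  haveI := isScalarTower_restrictScalars (A := A) M
  (extMEquivRes (κ := κ) M).trans
    ((Algebra.IsPushout.cancelBaseChange A κ B C
      ((ModuleCat.restrictScalars.{u} (algebraMap A B)).obj M)).trans
      (extMEquiv (B := κ) ((ModuleCat.restrictScalars.{u} (algebraMap A B)).obj M)).symm)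

lemma pushoutEquiv_naturality {M M' : ModuleCat.{u} B} (f : M ⟶ M')
    (x : (ModuleCat.restrictScalars.{u} (algebraMap κ C)).obj ((extM (A := B) (B := C)).obj M)) :
    pushoutEquiv (A := A) (κ := κ) M'
        (((ModuleCat.restrictScalars.{u} (algebraMap κ C)).map
          ((extM (A := B) (B := C)).map f)).hom x) =
      ((extM (A := A) (B := κ)).map ((ModuleCat.restrictScalars.{u} (algebraMap A B)).map f)).hom
        (pushoutEquiv (A := A) (κ := κ) M x) := by
  haveI i1 : IsScalarTower A B ((ModuleCat.restrictScalars.{u} (algebraMap A B)).obj M) :=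
    isScalarTower_restrictScalars (A := A) M
  haveI i2 : IsScalarTower A B ((ModuleCat.restrictScalars.{u} (algebraMap A B)).obj M') :=
    isScalarTower_restrictScalars (A := A) M'
  apply (extMEquiv (B := κ) ((ModuleCat.restrictScalars.{u} (algebraMap A B)).obj M')).injective
  rw [extMEquiv_naturality]
  change (extMEquiv (B := κ) _) ((extMEquiv (B := κ) _).symm
      (Algebra.IsPushout.cancelBaseChange A κ B C
        ((ModuleCat.restrictScalars.{u} (algebraMap A B)).obj M')
        (extMEquiv (B := C) M' (((extM (A := B) (B := C)).map f).hom x)))) =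
    (((ModuleCat.restrictScalars.{u} (algebraMap A B)).map f).hom.lTensor κ)
      ((extMEquiv (B := κ) _) ((extMEquiv (B := κ) _).symm
        (Algebra.IsPushout.cancelBaseChange A κ B C
          ((ModuleCat.restrictScalars.{u} (algebraMap A B)).obj M)
          (extMEquiv (B := C) M x))))
  rw [LinearEquiv.apply_symm_apply, LinearEquiv.apply_symm_apply, extMEquiv_naturality]
  exact @cancelBaseChange_naturality' A B κ C _ _ _ _ _ _ _ _ _ _ _ _
    ((ModuleCat.restrictScalars.{u} (algebraMap A B)).obj M)
    ((ModuleCat.restrictScalars.{u} (algebraMap A B)).obj M') _ _ _ i1 _ _ _ i2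
    f.hom ((ModuleCat.restrictScalars.{u} (algebraMap A B)).map f).hom (fun _ => rfl) _

/-- the base change isomorphism on complexes -/
noncomputable def pushoutCxIso (Q : DRing.Cx B) :
    ((ModuleCat.restrictScalars.{u} (algebraMap κ C)).mapHomologicalComplex (ComplexShape.up ℤ)).obj
        (((extM (A := B) (B := C)).mapHomologicalComplex (ComplexShape.up ℤ)).obj Q) ≅
      ((extM (A := A) (B := κ)).mapHomologicalComplex (ComplexShape.up ℤ)).obj
        (((ModuleCat.restrictScalars.{u} (algebraMap A B)).mapHomologicalComplex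
          (ComplexShape.up ℤ)).obj Q) :=
  HomologicalComplex.Hom.isoOfComponents
    (fun i => (pushoutEquiv (A := A) (κ := κ) (C := C) (Q.X i)).toModuleIso)
    (fun i j _ => by
      ext x
      exact (pushoutEquiv_naturality (A := A) (κ := κ) (C := C) (Q.d i j) x).symm)

end pushout

/-! ## Tor amplitude and tensor-like functors -/

theorem TensorLike.hasTorAmplitudeIn_mapHC {A B : Type u} [CommRing A] [CommRing B]
    {Φ : ModuleCat.{u} A ⥤ ModuleCat.{u} B} {N : Type u} [AddCommGroup N] [Module A N]
    (t : TensorLike Φ N) [Φ.Additive]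
    (hflat : ∀ M : ModuleCat.{u} A, Module.Flat A M → Module.Flat B (Φ.obj M))
    (F : DRing.Cx A) (c : ℤ) (hFc : DRing.VanishesAbove F c) (hFflat : DRing.TermwiseFlat F)
    (a b : ℤ) (hTA : DRing.HasTorAmplitudeIn A a b (DRing.toD F)) :
    DRing.HasTorAmplitudeIn B a b
      (DRing.toD ((Φ.mapHomologicalComplex (ComplexShape.up ℤ)).obj F)) := by
  obtain ⟨E, hE, hEf, ⟨e⟩⟩ := hTA
  haveI : (DRing.toD F).IsLE c := isLE_toD_of_vanishesAbove F c hFc
  obtain ⟨G, hGb, hGfree, ⟨eG⟩⟩ := exists_free_resolution (DRing.toD F) c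
  have hGproj : ∀ i, Module.Projective A (G.X i) := fun i => by
    haveI := hGfree i; exact Module.Projective.of_free
  have hGflat : DRing.TermwiseFlat G := fun i => by haveI := hGproj i; infer_instance
  haveI : G.IsKProjective := isKProjective_of_vanishesAbove G c hGb hGproj
  obtain ⟨f, hf⟩ := exists_map_eq G E (eG.hom ≫ e.inv)
  obtain ⟨g, hg⟩ := exists_map_eq G F eG.hom
  have hisof : IsIso (DerivedCategory.Q.map f) := by rw [hf]; infer_instance
  have hisog : IsIso (DerivedCategory.Q.map g) := by rw [hg]; infer_instance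
  haveI := t.isIso_Q_map G E f (max c b) (VanishesAbove.mono hGb (by omega))
    (VanishesAbove.mono (VanishesOutside.above hE) (le_max_right c b)) hGflat hEf hisof
  haveI := t.isIso_Q_map G F g c (VanishesAbove.mono hGb (by omega)) hFc hGflat hFflat hisog
  refine ⟨(Φ.mapHomologicalComplex (ComplexShape.up ℤ)).obj E,
    vanishesOutside_mapHC Φ E a b hE, fun i => hflat _ (hEf i), ⟨?_⟩⟩
  exact (asIso (DerivedCategory.Q.map ((Φ.mapHomologicalComplex (ComplexShape.up ℤ)).map f))).symm
    ≪≫ asIso (DerivedCategory.Q.map ((Φ.mapHomologicalComplex (ComplexShape.up ℤ)).map g))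

/-! ## S7075 -/

theorem isRelPerfect_LBaseChange (R A R' : Type u) [CommRing R] [CommRing A] [Algebra R A]
    [CommRing R'] [Algebra R R'] [Module.Flat R A]
    [DRing.HasLBaseChange (Algebra.TensorProduct.includeRight.toRingHom : A →+* R' ⊗[R] A)]
    (K : Dual.D A) (hK : Dual2.IsRelPerfect R A K) :
    Dual2.IsRelPerfect R' (R' ⊗[R] A)
      ((DRing.LBaseChange (Algebra.TensorProduct.includeRight.toRingHom : A →+* R' ⊗[R] A)).obj
        K) := by
  obtain ⟨hpc, a, b, hTA⟩ := hK
  refine ⟨isPseudoCoherent'_of_forall _ (fun m => isPseudoCoherent_LBaseChange _ K m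
    (isPseudoCoherent_of_isPseudoCoherent' hpc m)), a, b, ?_⟩
  obtain ⟨Q, c, hQc, hQff, ⟨eQ⟩⟩ := hpc
  have hQproj : ∀ i, Module.Projective A (Q.X i) := fun i => by
    haveI := (hQff i).2; exact Module.Projective.of_free
  have hQflat : DRing.TermwiseFlat Q := fun i => by haveI := hQproj i; infer_instance
  haveI : Q.IsKProjective := isKProjective_of_vanishesAbove Q c hQc hQproj
  -- the restriction of `Q` to `R`
  let F : DRing.Cx R := ((ModuleCat.restrictScalars.{u} (algebraMap R A)).mapHomologicalComplex
    (ComplexShape.up ℤ)).obj Q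
  have hFc : DRing.VanishesAbove F c :=
    vanishesAbove_mapHC (ModuleCat.restrictScalars.{u} (algebraMap R A)) Q c hQc
  have hFflat : DRing.TermwiseFlat F := fun i => by
    haveI := hQflat i
    exact flat_restrictScalars (Q.X i)
  have hTA' : DRing.HasTorAmplitudeIn R a b (DRing.toD F) :=
    hasTorAmplitudeIn_of_iso
      ((DRing.restrictD (algebraMap R A)).mapIso eQ.symm ≪≫
        (ModuleCat.restrictScalars.{u} (algebraMap R A)).mapDerivedCategoryFactors.app Q) hTA
  have h1 := (tensorLike_extM (A := R) (B := R')).hasTorAmplitudeIn_mapHC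
    (fun M hM => by haveI := hM; exact flat_extM (B := R') M) F c hFc hFflat a b hTA'
  refine hasTorAmplitudeIn_of_iso ?_ h1
  exact DerivedCategory.Q.mapIso (pushoutCxIso (A := R) (κ := R') (C := R' ⊗[R] A) Q).symm ≪≫
    ((ModuleCat.restrictScalars.{u} (algebraMap R' (R' ⊗[R] A))).mapDerivedCategoryFactors.app
      _).symm ≪≫
    (DRing.restrictD (algebraMap R' (R' ⊗[R] A))).mapIso
      ((LBaseChangeIso _ Q).symm ≪≫ (DRing.LBaseChange _).mapIso eQ)

/-! ## Tor amplitude descends along nilpotent thickenings (bounded above flat complexes) -/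

theorem hasTorAmplitudeIn_of_extM_nilpotent {R' R : Type u} [CommRing R'] [CommRing R]
    [Algebra R' R] (hφ : Function.Surjective (algebraMap R' R))
    (hnil : IsNilpotent (RingHom.ker (algebraMap R' R)))
    (F : DRing.Cx R') (c : ℤ) (hFc : DRing.VanishesAbove F c) (hFflat : DRing.TermwiseFlat F)
    (a b : ℤ)
    (hTA : DRing.HasTorAmplitudeIn R a b (DRing.toD
      (((extM (A := R') (B := R)).mapHomologicalComplex (ComplexShape.up ℤ)).obj F))) :
    DRing.HasTorAmplitudeIn R' a b (DRing.toD F) := by
  have hGc : DRing.VanishesAbove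
      (((extM (A := R') (B := R)).mapHomologicalComplex (ComplexShape.up ℤ)).obj F) c :=
    vanishesAbove_mapHC extM F c hFc
  have hGflat : DRing.TermwiseFlat
      (((extM (A := R') (B := R)).mapHomologicalComplex (ComplexShape.up ℤ)).obj F) := fun i => by
    haveI := hFflat i
    exact flat_extM (B := R) (F.X i)
  have hN : ∀ (i j k : ℤ), i + 1 = j → j + 1 = k → (j < a ∨ b < j) →
      ∀ (N : Type u) [AddCommGroup N] [Module R N] [Module R' N] [IsScalarTower R' R N],
      Function.Exact ((F.d i j).hom.lTensor N) ((F.d j k).hom.lTensor N) := by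
    intro i j k hij hjk hj N _ _ _ _
    apply lTensor_exact_of_extM_module (S := R) N
    rw [← (tensorLike_tensorRight (ModuleCat.of R N)).exact_iff]
    have h1 := (tensorLike_tensorRight (ModuleCat.of R N)).isZero_H_of_hasTorAmplitudeIn_flat
      (((extM (A := R') (B := R)).mapHomologicalComplex (ComplexShape.up ℤ)).obj F) c hGc hGflat
      a b hTA j hj
    exact (isZero_H_toD_iff _ i j k hij hjk).mp h1
  have hM : ∀ (M : Type u) [AddCommGroup M] [Module R' M] (i j k : ℤ), i + 1 = j → j + 1 = k →
      (j < a ∨ b < j) →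
      Function.Exact ((F.d i j).hom.lTensor M) ((F.d j k).hom.lTensor M) := by
    intro M _ _ i j k hij hjk hj
    haveI : Module.Flat R' (F.X k) := hFflat k
    exact exact_lTensor_of_nilpotent_ker hφ hnil (F.d i j).hom (F.d j k).hom
      (d_comp_d_hom F i j k) (fun N _ _ _ _ => hN i j k hij hjk hj N) M
  have hH : ∀ j : ℤ, (j < a ∨ b < j) → IsZero ((H R' j).obj (DRing.toD F)) := fun j hj => by
    rw [isZero_H_toD_iff F (j - 1) j (j + 1) (by omega) rfl]
    exact exact_of_exact_lTensor_self _ _ (hM R' (j - 1) j (j + 1) (by omega) rfl hj)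
  haveI : (DRing.toD F).IsLE b := by
    rw [DerivedCategory.isLE_iff]; intro i hi; exact hH i (Or.inr hi)
  obtain ⟨G, hGb, hGfree, ⟨eG⟩⟩ := exists_free_resolution (DRing.toD F) b
  have hGproj : ∀ i, Module.Projective R' (G.X i) := fun i => by
    haveI := hGfree i; exact Module.Projective.of_free
  have hG'flat : DRing.TermwiseFlat G := fun i => by haveI := hGproj i; infer_instance
  haveI : G.IsKProjective := isKProjective_of_vanishesAbove G b hGb hGproj
  obtain ⟨f, hf⟩ := exists_map_eq G F eG.hom
  have hiso : IsIso (DerivedCategory.Q.map f) := by rw [hf]; infer_instance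
  refine hasTorAmplitudeIn_of_iso eG
    (hasTorAmplitudeIn_of_exact_lTensor G a b hGb hG'flat ?_)
  intro M _ _ i j k hij hjk hj
  haveI := (tensorLike_tensorRight (ModuleCat.of R' M)).isIso_Q_map G F f (max b c)
    (VanishesAbove.mono hGb (by omega)) (VanishesAbove.mono hFc (le_max_right b c))
    hG'flat hFflat hiso
  have h1 : IsZero ((H R' j).obj (DRing.toD (((tensorRight (ModuleCat.of R' M)).mapHomologicalComplex
      (ComplexShape.up ℤ)).obj F))) :=
    (isZero_H_toD_iff _ i j k hij hjk).mpr
      (((tensorLike_tensorRight (ModuleCat.of R' M)).exact_iff _ _).mpr (hM M i j k hij hjk hj))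
  have h2 : IsZero ((H R' j).obj (DRing.toD (((tensorRight (ModuleCat.of R' M)).mapHomologicalComplex
      (ComplexShape.up ℤ)).obj G))) :=
    h1.of_iso ((H R' j).mapIso (asIso (DerivedCategory.Q.map
      (((tensorRight (ModuleCat.of R' M)).mapHomologicalComplex (ComplexShape.up ℤ)).map f))))
  exact ((tensorLike_tensorRight (ModuleCat.of R' M)).exact_iff _ _).mp
    ((isZero_H_toD_iff _ i j k hij hjk).mp h2)

/-! ## The base change of a nilpotent thickening -/

section incl

variable {R' R A' : Type u} [CommRing R'] [CommRing R] [Algebra R' R] [CommRing A'] [Algebra R' A']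

lemma includeRight_surjective (hs : Function.Surjective (algebraMap R' R)) :
    Function.Surjective (Algebra.TensorProduct.includeRight.toRingHom : A' →+* R ⊗[R'] A') := by
  intro z
  obtain ⟨m, hm⟩ := mk_one_surjective hs A' z
  exact ⟨m, hm⟩

lemma includeRight_ker_nilpotent (hs : Function.Surjective (algebraMap R' R))
    (hn : IsNilpotent (RingHom.ker (algebraMap R' R))) :
    IsNilpotent (RingHom.ker
      (Algebra.TensorProduct.includeRight.toRingHom : A' →+* R ⊗[R'] A')) := by
  obtain ⟨n, hn⟩ := hn
  refine ⟨n, ?_⟩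
  have hle : RingHom.ker (Algebra.TensorProduct.includeRight.toRingHom : A' →+* R ⊗[R'] A') ≤
      (RingHom.ker (algebraMap R' R)).map (algebraMap R' A') := by
    intro x hx
    rw [RingHom.mem_ker] at hx
    have h1 : (1 : R) ⊗ₜ[R'] x = 0 := hx
    rw [mk_one_eq_zero_iff hs A' x] at h1
    refine Submodule.smul_induction_on h1 (fun r hr m _ => ?_)
      (fun x y hx hy => Ideal.add_mem _ hx hy)
    rw [Algebra.smul_def]
    exact Ideal.mul_mem_right _ _ (Ideal.mem_map_of_mem _ hr)
  rw [Ideal.zero_eq_bot, eq_bot_iff]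
  calc RingHom.ker (Algebra.TensorProduct.includeRight.toRingHom : A' →+* R ⊗[R'] A') ^ n
      ≤ ((RingHom.ker (algebraMap R' R)).map (algebraMap R' A')) ^ n := Ideal.pow_right_mono hle n
    _ = ((RingHom.ker (algebraMap R' R)) ^ n).map (algebraMap R' A') := (Ideal.map_pow _ _ _).symm
    _ = ⊥ := by rw [hn, Ideal.zero_eq_bot, Ideal.map_bot]

end incl

/-! ## S7076 -/

theorem isRelPerfect_of_LBaseChange_nilpotent (R' A' R : Type u) [CommRing R'] [CommRing A']
    [Algebra R' A'] [CommRing R] [Algebra R' R] [Module.Flat R' A']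
    (hs : Function.Surjective (algebraMap R' R)) (hn : IsNilpotent (RingHom.ker (algebraMap R' R)))
    [DRing.HasLBaseChange (Algebra.TensorProduct.includeRight.toRingHom : A' →+* R ⊗[R'] A')]
    (K' : Dual.D A')
    (hK : Dual2.IsRelPerfect R (R ⊗[R'] A')
      ((DRing.LBaseChange
        (Algebra.TensorProduct.includeRight.toRingHom : A' →+* R ⊗[R'] A')).obj K')) :
    Dual2.IsRelPerfect R' A' K' := by
  obtain ⟨hpcR, a, b, hTA⟩ := hK
  have hpc : DRing.IsPseudoCoherent' A' K' :=
    (isPseudoCoherent'_LBaseChange_iff_nilpotent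
      (Algebra.TensorProduct.includeRight.toRingHom : A' →+* R ⊗[R'] A')
      (includeRight_surjective hs) (includeRight_ker_nilpotent hs hn) K').mp hpcR
  refine ⟨hpc, a, b, ?_⟩
  obtain ⟨Q, c, hQc, hQff, ⟨eQ⟩⟩ := hpc
  have hQproj : ∀ i, Module.Projective A' (Q.X i) := fun i => by
    haveI := (hQff i).2; exact Module.Projective.of_free
  have hQflat : DRing.TermwiseFlat Q := fun i => by haveI := hQproj i; infer_instance
  haveI : Q.IsKProjective := isKProjective_of_vanishesAbove Q c hQc hQproj
  let F : DRing.Cx R' := ((ModuleCat.restrictScalars.{u} (algebraMap R' A')).mapHomologicalComplex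
    (ComplexShape.up ℤ)).obj Q
  have hFc : DRing.VanishesAbove F c :=
    vanishesAbove_mapHC (ModuleCat.restrictScalars.{u} (algebraMap R' A')) Q c hQc
  have hFflat : DRing.TermwiseFlat F := fun i => by
    haveI := hQflat i
    exact flat_restrictScalars (Q.X i)
  have hTA' : DRing.HasTorAmplitudeIn R a b (DRing.toD
      (((extM (A := R') (B := R)).mapHomologicalComplex (ComplexShape.up ℤ)).obj F)) := by
    refine hasTorAmplitudeIn_of_iso ?_ hTA
    exact (DRing.restrictD (algebraMap R (R ⊗[R'] A'))).mapIso
        ((DRing.LBaseChange _).mapIso eQ.symm ≪≫ LBaseChangeIso _ Q) ≪≫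
      (ModuleCat.restrictScalars.{u} (algebraMap R (R ⊗[R'] A'))).mapDerivedCategoryFactors.app _ ≪≫
      DerivedCategory.Q.mapIso (pushoutCxIso (A := R') (κ := R) (C := R ⊗[R'] A') Q)
  have h1 := hasTorAmplitudeIn_of_extM_nilpotent hs hn F c hFc hFflat a b hTA'
  exact hasTorAmplitudeIn_of_iso
    (((ModuleCat.restrictScalars.{u} (algebraMap R' A')).mapDerivedCategoryFactors.app Q).symm ≪≫
      (DRing.restrictD (algebraMap R' A')).mapIso eQ) h1

end Groth.Agent.Lib.Helper18.DR
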