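import Mathlib
import Groth.Agent.Lib.Helper18.RelPerfBC
import Groth.Agent.Lib.Helper18.MixRes
import Groth.Agent.Lib.Helper18.ProjCx
import Groth.Agent.Lib.Helper18.DTenC
import Groth.Agent.Lib.Helper2.Tot.DRingRes

/-!
# Tor-independent base change: K-flatness of restrictions along flat maps, pushout squares (helper18)
-/

set_option autoImplicit false
set_option linter.style.haveILetI false
universe u
open CategoryTheory CategoryTheory.Limits MonoidalCategory HomologicalComplex
open TensorProduct

attribute [local instance] HasDerivedCategory.standard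

namespace Groth.Agent.Lib.Helper18.DR

namespace DuH

open DTen Groth.Agent.Lib.Helper2.Tot Groth.Agent.Lib.Helper2.Tot.DR

section pushout

variable {A B κ C : Type u} [CommRing A] [CommRing B] [CommRing κ] [CommRing C]
  [Algebra A B] [Algebra A κ] [Algebra A C] [Algebra κ C] [Algebra B C]
  [IsScalarTower A κ C] [IsScalarTower A B C] [Algebra.IsPushout A κ B C]

/-- naturality of the base change isomorphism for a pushout square -/
lemma pushoutCxIso_naturality {Q Q' : DRing.Cx B} (f : Q ⟶ Q') :
    (DTen.resCx (algebraMap κ C)).map ((DTen.extCx (algebraMap B C)).map f) ≫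
        (pushoutCxIso (A := A) (κ := κ) (C := C) Q').hom =
      (pushoutCxIso (A := A) (κ := κ) (C := C) Q).hom ≫
        (DTen.extCx (algebraMap A κ)).map ((DTen.resCx (algebraMap A B)).map f) := by
  ext i : 1
  refine ModuleCat.hom_ext (LinearMap.ext fun x => ?_)
  exact pushoutEquiv_naturality (A := A) (κ := κ) (C := C) (f.f i) x

end pushout

section kflat

variable {R B : Type u} [CommRing R] [CommRing B] [Algebra R B] [Module.Flat R B]

/-- flat extension of scalars preserves acyclic complexes -/
lemma isZero_homology_extCx (N : DRing.Cx R) (hN : ∀ i : ℤ, IsZero (N.homology i)) (i : ℤ) :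
    IsZero (((DTen.extCx (algebraMap R B)).obj N).homology i) := by
  rw [← HomologicalComplex.exactAt_iff_isZero_homology]
  have h := (HomologicalComplex.exactAt_iff_isZero_homology N i).2 (hN i)
  exact (h.map (extM (A := R) (B := B)))

/-- **restriction of scalars along a flat ring map preserves K-flat complexes** -/
theorem kflat_resCx (G : DRing.Cx B) (hG : KFlat (T B) G) :
    KFlat (T R) ((DTen.resCx (algebraMap R B)).obj G) := by
  rw [← kflat_iff]
  intro N hN i
  have h1 : ∀ j, IsZero ((((DTen.extCx (algebraMap R B)).obj N) ⊗ G).homology j) :=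
    (kflat_iff G).2 hG _ (isZero_homology_extCx N hN)
  have h2 : IsZero (((DTen.resCx (algebraMap R B)).obj
      ((DTen.mixT (algebraMap R B)).obj (N, G))).homology i) := by
    rw [← HomologicalComplex.exactAt_iff_isZero_homology, ProjCx.exactAt_resCx_iff,
      HomologicalComplex.exactAt_iff_isZero_homology]
    exact h1 i
  exact h2.of_iso ((HomologicalComplex.homologyFunctor _ _ i).mapIso
    (MixRes.mixResIso (algebraMap R B) N G))

end kflat

section comp

variable {R₁ R₂ R₃ : Type u} [CommRing R₁] [CommRing R₂] [CommRing R₃]
  (f : R₁ →+* R₂) (g : R₂ →+* R₃) (gf : R₁ →+* R₃) (h : gf = g.comp f)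

/-- restriction of scalars on complexes along a composition -/
noncomputable def resCxCompIso (E : DRing.Cx R₃) :
    (DTen.resCx gf).obj E ≅ (DTen.resCx f).obj ((DTen.resCx g).obj E) :=
  HomologicalComplex.Hom.isoOfComponents
    (fun i => (ModuleCat.restrictScalarsComp'.{u} f g gf h).app (E.X i))
    (fun i k _ => ((ModuleCat.restrictScalarsComp'.{u} f g gf h).hom.naturality (E.d i k)).symm)

end comp

end DuH

end Groth.Agent.Lib.Helper18.DR
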