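import Mathlib
import Groth.Agent.Lib.Helper18.DuH1
import Groth.Agent.Lib.Helper18.DRLBC
import Groth.Agent.Lib.Helper18.KProjC

/-!
# Tor-independent base change for a pushout square flat over a base (helper18)
-/

set_option autoImplicit false
set_option linter.style.haveILetI false
universe u
open CategoryTheory CategoryTheory.Limits MonoidalCategory HomologicalComplex
open TensorProduct

attribute [local instance] HasDerivedCategory.standard

namespace Groth.Agent.Lib.Helper18.DR

namespace DuH

open DTen Groth.Agent.Lib.Helper2.Tot Groth.Agent.Lib.Helper2.Tot.DR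

section flatbase

/-- base change along `P → P' = R' ⊗_R P` preserves quasi-isomorphisms between complexes which are
K-flat over `R` -/
theorem quasiIso_extCx_map_of_kflat_base (R R' : Type u) {P P' : Type u} [CommRing R]
    [CommRing R'] [CommRing P] [CommRing P']
    [Algebra R R'] [Algebra R P] [Algebra R P'] [Algebra R' P'] [Algebra P P']
    [IsScalarTower R R' P'] [IsScalarTower R P P'] [Algebra.IsPushout R R' P P']
    {X Y : DRing.Cx P} (γ : X ⟶ Y) [QuasiIso γ]
    (hX : KFlat (T R) ((DTen.resCx (algebraMap R P)).obj X))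
    (hY : KFlat (T R) ((DTen.resCx (algebraMap R P)).obj Y)) :
    QuasiIso ((DTen.extCx (algebraMap P P')).map γ) := by
  haveI : QuasiIso ((DTen.resCx (algebraMap R P)).map γ) := by
    rw [HomologicalComplex.quasiIso_map_iff_of_preservesHomology]
    infer_instance
  haveI := DTenC.quasiIso_extCx_map (algebraMap R R') hX hY ((DTen.resCx (algebraMap R P)).map γ)
  have hnat := pushoutCxIso_naturality (A := R) (κ := R') (B := P) (C := P') γ
  have h5 : QuasiIso ((DTen.resCx (algebraMap R' P')).map
      ((DTen.extCx (algebraMap P P')).map γ)) := by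
    have h4 : (DTen.resCx (algebraMap R' P')).map ((DTen.extCx (algebraMap P P')).map γ) =
        (pushoutCxIso (A := R) (κ := R') (C := P') X).hom ≫
          (DTen.extCx (algebraMap R R')).map ((DTen.resCx (algebraMap R P)).map γ) ≫
          (pushoutCxIso (A := R) (κ := R') (C := P') Y).inv := by
      rw [← Category.assoc, ← hnat, Category.assoc, Iso.hom_inv_id, Category.comp_id]
    rw [h4]
    infer_instance
  exact (HomologicalComplex.quasiIso_map_iff_of_preservesHomology _
    (ModuleCat.restrictScalars.{u} (algebraMap R' P'))).1 h5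

end flatbase

section main

/-- **tor-independent base change**: for `P' = R' ⊗_R P`, `A' = P' ⊗_P A` with `P`, `A` flat over `R`,
`(M|_P) ⊗^L_P P' ≅ (M ⊗^L_A A')|_{P'}` -/
theorem nonempty_torIndep_baseChange_iso (R R' : Type u) {P P' A A' : Type u} [CommRing R]
    [CommRing R'] [CommRing P] [CommRing P'] [CommRing A] [CommRing A']
    [Algebra R R'] [Algebra R P] [Algebra R A] [Algebra R P'] [Algebra R' P'] [Algebra P P']
    [Algebra P A] [Algebra P A'] [Algebra P' A'] [Algebra A A']
    [IsScalarTower R R' P'] [IsScalarTower R P P'] [IsScalarTower R P A]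
    [IsScalarTower P P' A'] [IsScalarTower P A A']
    [Algebra.IsPushout R R' P P'] [Algebra.IsPushout P P' A A']
    [Module.Flat R P] [Module.Flat R A]
    [DRing.HasLBaseChange (algebraMap P P')] [DRing.HasLBaseChange (algebraMap A A')]
    (M : Dual.D A) :
    Nonempty ((DRing.LBaseChange (algebraMap P P')).obj
        ((DRing.restrictD (algebraMap P A)).obj M) ≅
      (DRing.restrictD (algebraMap P' A')).obj
        ((DRing.LBaseChange (algebraMap A A')).obj M)) := by
  obtain ⟨F, hF, -, ⟨e₀⟩⟩ := exists_kprojective_resolution M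
  haveI := hF
  let X : DRing.Cx P := (DTen.resCx (algebraMap P A)).obj F
  obtain ⟨G, γ, hG, hγ⟩ := DTenB.exists_kprojective_quasiIso X
  haveI := hG
  haveI := hγ
  have kG : KFlat (T R) ((DTen.resCx (algebraMap R P)).obj G) :=
    kflat_resCx G (DTenB.kflat_of_isKProjective G)
  have kX : KFlat (T R) ((DTen.resCx (algebraMap R P)).obj X) :=
    KFlat.of_iso (resCxCompIso (algebraMap R P) (algebraMap P A) (algebraMap R A)
      (IsScalarTower.algebraMap_eq R P A) F) (kflat_resCx F (DTenB.kflat_of_isKProjective F))
  haveI : QuasiIso ((DTen.extCx (algebraMap P P')).map γ) :=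
    quasiIso_extCx_map_of_kflat_base R R' γ kG kX
  let lhs : (DRing.LBaseChange (algebraMap P P')).obj
      ((DRing.restrictD (algebraMap P A)).obj M) ≅
      DerivedCategory.Q.obj ((DTen.extCx (algebraMap P P')).obj X) :=
    (DRing.LBaseChange (algebraMap P P')).mapIso
      ((DRing.restrictD (algebraMap P A)).mapIso e₀.symm ≪≫
        (DTen.resFactors (algebraMap P A)).app F ≪≫
        (asIso (DerivedCategory.Q.map γ)).symm) ≪≫
      LBaseChangeIso (algebraMap P P') G ≪≫
      asIso (DerivedCategory.Q.map ((DTen.extCx (algebraMap P P')).map γ))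
  let rhs : (DRing.restrictD (algebraMap P' A')).obj
      ((DRing.LBaseChange (algebraMap A A')).obj M) ≅
      DerivedCategory.Q.obj ((DTen.extCx (algebraMap P P')).obj X) :=
    (DRing.restrictD (algebraMap P' A')).mapIso
      ((DRing.LBaseChange (algebraMap A A')).mapIso e₀.symm ≪≫
        LBaseChangeIso (algebraMap A A') F) ≪≫
      (DTen.resFactors (algebraMap P' A')).app ((DTen.extCx (algebraMap A A')).obj F) ≪≫
      DerivedCategory.Q.mapIso (pushoutCxIso (A := P) (κ := P') (B := A) (C := A') F)
  exact ⟨lhs ≪≫ rhs.symm⟩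

end main

end DuH

end Groth.Agent.Lib.Helper18.DR
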