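import Mathlib
import Groth.Agent.Lib.Helper18.DuG
import Groth.Agent.Lib.Helper18.DualFin
import Groth.Agent.Lib.Helper18.FbcA

/-!
# Rigidity: `RHom_R(A, R)` is determined by its restriction to `R` (helper18)
-/

set_option autoImplicit false
set_option linter.style.haveILetI false
universe u
open CategoryTheory CategoryTheory.Limits MonoidalCategory HomologicalComplex
  CochainComplex.HomComplex

attribute [local instance] HasDerivedCategory.standard

namespace Groth.Agent.Lib.Helper18.DR

namespace Du

open HomCx Psi Coext CoextHom DTen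

section conservative

variable {A B : Type u} [CommRing A] [CommRing B] (φ : A →+* B)

/-- restriction of scalars on derived categories reflects isomorphisms -/
theorem isIso_of_isIso_restrictD {X Y : Dual.D B} (f : X ⟶ Y)
    (h : IsIso ((DRing.restrictD φ).map f)) : IsIso f := by
  rw [DerivedCategory.isIso_iff]
  intro i
  have h1 : IsIso ((H A i).map ((DRing.restrictD φ).map f)) := inferInstance
  have h2 : IsIso ((ModuleCat.restrictScalars.{u} φ).map ((H B i).map f)) := by
    have := (NatIso.isIso_map_iff (HomBC.homologyNatIso (ModuleCat.restrictScalars.{u} φ) i) f).1 h1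
    exact this
  exact isIso_of_reflects_iso _ (ModuleCat.restrictScalars.{u} φ)

end conservative

section rigid

variable {R A : Type u} [CommRing R] [CommRing A] [Algebra R A]
  (F : Dual.D R ⥤ Dual.D A) (adj : DRing.restrictD (algebraMap R A) ⊣ F)

include adj in
/-- **rigidity**: for `R → A` surjective with `A` perfect over `R`, an object of `D(A)` whose
restriction to `R` is isomorphic to the restriction of `RHom_R(A, R)` is isomorphic to `RHom_R(A, R)` -/
theorem nonempty_iso_of_restrict_iso (hφ : Function.Surjective (algebraMap R A))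
    (E : DRing.Cx R) (a b : ℤ) (hE : DRing.VanishesOutside E a b)
    (hp : DRing.TermwiseFiniteProjective E) (e : E ⟶ V (algebraMap R A)) [QuasiIso e]
    (W : Dual.D A)
    (ξ : (DRing.restrictD (algebraMap R A)).obj W ≅
      (DRing.restrictD (algebraMap R A)).obj (F.obj (DTen.unit R))) :
    Nonempty (W ≅ F.obj (DTen.unit R)) := by
  haveI : E.IsKProjective :=
    isKProjective_of_vanishesAbove E b (VanishesOutside.above hE) (fun i => (hp i).2)
  obtain ⟨z, hz⟩ := exists_lift_one (algebraMap R A) E e
  obtain ⟨ζ, -⟩ := exists_restrict_rightAdj_unit_iso (algebraMap R A) F adj E e z hz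
  set ω' := F.obj (DTen.unit R) with hω'
  set Y := (DRing.restrictD (algebraMap R A)).obj ω' with hY
  let cu : Y ⟶ DTen.unit R := adj.counit.app (DTen.unit R)
  let g : (DRing.restrictD (algebraMap R A)).obj W ⟶ DTen.unit R := ξ.hom ≫ cu
  let bb : W ⟶ ω' := adj.homEquiv W (DTen.unit R) g
  have hb : (DRing.restrictD (algebraMap R A)).map bb ≫ cu = g := by
    have := (adj.homEquiv W (DTen.unit R)).symm_apply_apply g
    rw [Adjunction.homEquiv_counit] at this
    exact this
  let s : Y ⟶ Y := ξ.inv ≫ (DRing.restrictD (algebraMap R A)).map bb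
  have hs : s ≫ cu = cu := by
    change (ξ.inv ≫ (DRing.restrictD (algebraMap R A)).map bb) ≫ cu = cu
    rw [Category.assoc, hb, Iso.inv_hom_id_assoc]
  -- `s` is a scalar
  obtain ⟨r, hr⟩ := exists_smul_of_end_dual hφ E b (VanishesOutside.above hE) (-a)
    (VanishesOutside.above (vanishesOutside_dual E a b hE)) hp e (ζ.inv ≫ s ≫ ζ.hom)
  have hsr : s = r • 𝟙 Y := by
    have : s = ζ.hom ≫ (ζ.inv ≫ s ≫ ζ.hom) ≫ ζ.inv := by simp
    rw [this, hr, Linear.smul_comp, Linear.comp_smul, Category.id_comp, Iso.hom_inv_id]
  -- the scalar acts as the identity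
  have h1 : (DRing.restrictD (algebraMap R A)).map ((algebraMap R A r) • 𝟙 ω') ≫ cu =
      (DRing.restrictD (algebraMap R A)).map (𝟙 ω') ≫ cu := by
    rw [restrictD_map_smul_id, ← hsr, hs, CategoryTheory.Functor.map_id, Category.id_comp]
  have h2 : (algebraMap R A r) • 𝟙 ω' = 𝟙 ω' := by
    apply (adj.homEquiv ω' (DTen.unit R)).symm.injective
    rw [Adjunction.homEquiv_counit, Adjunction.homEquiv_counit]
    exact h1
  have h3 : s = 𝟙 Y := by
    rw [hsr, ← restrictD_map_smul_id, h2, CategoryTheory.Functor.map_id]
  have h4 : (DRing.restrictD (algebraMap R A)).map bb = ξ.hom := by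
    have : ξ.hom ≫ s = ξ.hom := by rw [h3, Category.comp_id]
    rw [← this]
    change _ = ξ.hom ≫ ξ.inv ≫ _
    rw [Iso.hom_inv_id_assoc]
  haveI : IsIso bb := isIso_of_isIso_restrictD (algebraMap R A) bb (by rw [h4]; infer_instance)
  exact ⟨asIso bb⟩

end rigid

end Du

end Groth.Agent.Lib.Helper18.DR
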