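import Mathlib
import Groth.Agent.Lib.Helper18.DuI
import Groth.Agent.Lib.Helper18.DuH2
import Groth.Agent.Lib.Helper18.DuF2

/-!
# Base change of `RHom_P(A, P)` along a tor-independent pushout square (helper18)
-/

set_option autoImplicit false
set_option linter.style.haveILetI false
universe u
open CategoryTheory CategoryTheory.Limits MonoidalCategory HomologicalComplex
open TensorProduct

attribute [local instance] HasDerivedCategory.standard

namespace Groth.Agent.Lib.Helper18.DR

namespace Du

open HomCx Psi Coext CoextHom DTen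

/-- **base change of `RHom_P(A, P)`**: for `P' = R' ⊗_R P`, `A' = P' ⊗_P A` with `P`, `A` flat over
`R`, `P → A` surjective and `A` perfect over `P`: `RHom_P(A, P) ⊗^L_A A' ≅ RHom_{P'}(A', P')` -/
theorem nonempty_LBaseChange_rightAdj_unit_iso (R R' : Type u) {P P' A A' : Type u} [CommRing R]
    [CommRing R'] [CommRing P] [CommRing P'] [CommRing A] [CommRing A']
    [Algebra R R'] [Algebra R P] [Algebra R A] [Algebra R P'] [Algebra R' P'] [Algebra P P']
    [Algebra P A] [Algebra P A'] [Algebra P' A'] [Algebra A A']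
    [IsScalarTower R R' P'] [IsScalarTower R P P'] [IsScalarTower R P A]
    [IsScalarTower P P' A'] [IsScalarTower P A A']
    [Algebra.IsPushout R R' P P'] [Algebra.IsPushout P P' A A']
    [Module.Flat R P] [Module.Flat R A]
    [DRing.HasLBaseChange (algebraMap P P')] [DRing.HasLBaseChange (algebraMap A A')]
    (hs' : Function.Surjective (algebraMap P' A'))
    (hA : DRing.IsPerfect P ((DRing.restrictD (algebraMap P A)).obj (DTen.unit A)))
    (F : Dual.D P ⥤ Dual.D A) (adj : DRing.restrictD (algebraMap P A) ⊣ F)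
    (F' : Dual.D P' ⥤ Dual.D A') (adj' : DRing.restrictD (algebraMap P' A') ⊣ F') :
    Nonempty ((DRing.LBaseChange (algebraMap A A')).obj (F.obj (DTen.unit P)) ≅
      F'.obj (DTen.unit P')) := by
  obtain ⟨E, a, b, hE, hp, e, he⟩ := RelDual.exists_quasiIso_of_isPerfect (algebraMap P A) hA
  haveI := he
  haveI : E.IsKProjective :=
    isKProjective_of_vanishesAbove E b (VanishesOutside.above hE) (fun i => (hp i).2)
  -- the base changed resolution
  let E' : DRing.Cx P' := (DTen.extCx (algebraMap P P')).obj E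
  have hE' : DRing.VanishesOutside E' a b :=
    vanishesOutside_mapHC (ModuleCat.extendScalars.{u, u, u} (algebraMap P P')) E a b hE
  have hp' : DRing.TermwiseFiniteProjective E' := fun i => by
    haveI := (hp i).1
    haveI := (hp i).2
    exact ⟨finite_extM (B := P') (E.X i), projective_extM (B := P') (E.X i)⟩
  haveI : E'.IsKProjective :=
    isKProjective_of_vanishesAbove E' b (VanishesOutside.above hE') (fun i => (hp' i).2)
  -- `E'` resolves `A'`
  haveI := isKProjective_unit' A
  obtain ⟨c₁⟩ := DuH.nonempty_torIndep_baseChange_iso R R' (P := P) (P' := P') (A := A) (A' := A')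
    (DTen.unit A)
  let i₀ : DerivedCategory.Q.obj E' ≅ DerivedCategory.Q.obj (V (algebraMap P' A')) :=
    (LBaseChangeIso (algebraMap P P') E).symm ≪≫
    (DRing.LBaseChange (algebraMap P P')).mapIso
      (asIso (DerivedCategory.Q.map e) ≪≫
        (DerivedCategory.Q.mapIso (RelDual.resUnitIso (algebraMap P A))).symm ≪≫
        ((DTen.resFactors (algebraMap P A)).app (𝟙_ (DRing.Cx A))).symm) ≪≫
    c₁ ≪≫
    (DRing.restrictD (algebraMap P' A')).mapIso
      (LBaseChangeIso (algebraMap A A') (𝟙_ (DRing.Cx A)) ≪≫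
        DerivedCategory.Q.mapIso (DuF.uι (R := A) (S := A'))) ≪≫
    (DTen.resFactors (algebraMap P' A')).app (𝟙_ (DRing.Cx A')) ≪≫
    DerivedCategory.Q.mapIso (RelDual.resUnitIso (algebraMap P' A'))
  obtain ⟨e', he'⟩ := exists_map_eq E' (V (algebraMap P' A')) i₀.hom
  haveI : IsIso (DerivedCategory.Q.map e') := by rw [he']; infer_instance
  haveI : QuasiIso e' := (DerivedCategory.isIso_Q_map_iff_quasiIso _ e').1 inferInstance
  -- the two restrictions
  obtain ⟨ζ⟩ := Om.nonempty_restrict_rightAdj_unit_iso (algebraMap P A) F adj E e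
  obtain ⟨ζ'⟩ := Om.nonempty_restrict_rightAdj_unit_iso (algebraMap P' A') F' adj' E' e'
  obtain ⟨c₂⟩ := DuH.nonempty_torIndep_baseChange_iso R R' (P := P) (P' := P') (A := A) (A' := A')
    (F.obj (DTen.unit P))
  obtain ⟨t⟩ := DuF.nonempty_ext_dual_iso (S := P') E hp
  haveI : (dualCx E).IsKProjective := isKProjective_of_vanishesAbove _ (-a)
    (VanishesOutside.above (vanishesOutside_dual E a b hE))
    (fun i => (termwiseFiniteProjective_dual E hp i).2)
  let ξ : (DRing.restrictD (algebraMap P' A')).obj
      ((DRing.LBaseChange (algebraMap A A')).obj (F.obj (DTen.unit P))) ≅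
      (DRing.restrictD (algebraMap P' A')).obj (F'.obj (DTen.unit P')) :=
    c₂.symm ≪≫ (DRing.LBaseChange (algebraMap P P')).mapIso ζ ≪≫
      LBaseChangeIso (algebraMap P P') (dualCx E) ≪≫ DerivedCategory.Q.mapIso t ≪≫ ζ'.symm
  exact nonempty_iso_of_restrict_iso F' adj' hs' E' a b hE' hp' e' _ ξ

end Du

end Groth.Agent.Lib.Helper18.DR
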