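import Mathlib
import Groth.Agent.Lib.Helper18.FbcA

/-!
# The base change isomorphism `res_ψ' ∘ ext_k ≅ ext_j ∘ res_ψ` for a pushout square (helper18)
-/

set_option autoImplicit false
set_option linter.style.haveILetI false
universe u
open CategoryTheory CategoryTheory.Limits CategoryTheory.Pretriangulated DerivedCategory
open TensorProduct

attribute [local instance] HasDerivedCategory.standard

namespace Groth.Agent.Lib.Helper18.DR

namespace Fbc

variable {P A P' A' : Type u} [CommRing P] [CommRing A] [CommRing P'] [CommRing A']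
  [Algebra P A] [Algebra P' A'] [Algebra P P'] [Algebra A A'] [Algebra P A']
  [IsScalarTower P A A'] [IsScalarTower P P' A'] [Algebra.IsPushout P P' A A']

section mod

variable (M : ModuleCat.{u} A)

/-- `M` as a `P`-module -/
noncomputable abbrev MP : ModuleCat.{u} P := (ModuleCat.restrictScalars.{u} (algebraMap P A)).obj M

/-- the `A`-module structure on `MP M` -/
noncomputable instance modA : Module A (MP (P := P) M) := inferInstanceAs (Module A M)

instance towerMP : IsScalarTower P A (MP (P := P) M) :=
  IsScalarTower.of_algebraMap_smul (fun _ _ => rfl)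

variable (P P' A') in
/-- the cancellation isomorphism `A' ⊗_A M ≃ P' ⊗_P M` -/
noncomputable def cb : A' ⊗[A] (MP (P := P) M) ≃ₗ[P'] P' ⊗[P] (MP (P := P) M) :=
  Algebra.IsPushout.cancelBaseChange P P' A A' (MP (P := P) M)

lemma cb_symm_tmul (s : P') (m : MP (P := P) M) :
    (cb P P' A' M).symm (s ⊗ₜ[P] m) = (algebraMap P' A' s) ⊗ₜ[A] m :=
  Algebra.IsPushout.cancelBaseChange_symm_tmul P P' A A' (MP (P := P) M) s m

variable (P A') in
/-- `A' ⊗_A M` for `M` and for `MP M` -/
noncomputable def e1 : (extM (A := A) (B := A')).obj M ≃ₗ[A'] A' ⊗[A] (MP (P := P) M) :=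
  extMEquiv (B := A') M

variable (P P' A') in
/-- the underlying function of the base change isomorphism -/
noncomputable def bcFun (y : (extM (A := P) (B := P')).obj (MP (P := P) M)) :
    (extM (A := A) (B := A')).obj M :=
  (e1 P A' M).symm ((cb P P' A' M).symm (extMEquiv (B := P') (MP (P := P) M) y))

variable (P P' A') in
/-- the underlying function of the inverse base change isomorphism -/
noncomputable def bcInv (x : (extM (A := A) (B := A')).obj M) :
    (extM (A := P) (B := P')).obj (MP (P := P) M) :=
  (extMEquiv (B := P') (MP (P := P) M)).symm ((cb P P' A' M) (e1 P A' M x))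

lemma bcFun_bcInv (x : (extM (A := A) (B := A')).obj M) :
    bcFun P P' A' M (bcInv P P' A' M x) = x := by
  unfold bcFun bcInv
  rw [LinearEquiv.apply_symm_apply, LinearEquiv.symm_apply_apply, LinearEquiv.symm_apply_apply]

lemma bcInv_bcFun (y : (extM (A := P) (B := P')).obj (MP (P := P) M)) :
    bcInv P P' A' M (bcFun P P' A' M y) = y := by
  unfold bcFun bcInv
  rw [LinearEquiv.apply_symm_apply, LinearEquiv.apply_symm_apply, LinearEquiv.symm_apply_apply]

lemma bcFun_add (y y' : (extM (A := P) (B := P')).obj (MP (P := P) M)) :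
    bcFun P P' A' M (y + y') =
      bcFun P P' A' M y + bcFun P P' A' M y' := by
  unfold bcFun
  rw [map_add, map_add, map_add]

lemma bcFun_smul (p' : P') (y : (extM (A := P) (B := P')).obj (MP (P := P) M)) :
    bcFun P P' A' M (p' • y) =
      (algebraMap P' A' p') • bcFun P P' A' M y := by
  unfold bcFun
  rw [map_smul, map_smul, ← algebraMap_smul A' p', map_smul]

lemma bcFun_one_tmul (m : M) :
    bcFun P P' A' M ((1 : P') ⊗ₜ[P] (show (MP (P := P) M : Type u) from m)) =
      ((1 : A') ⊗ₜ[A] m : (extM (A := A) (B := A')).obj M) := by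
  unfold bcFun
  have h1 : extMEquiv (B := P') (MP (P := P) M)
      ((1 : P') ⊗ₜ[P] (show (MP (P := P) M : Type u) from m)) =
      (1 : P') ⊗ₜ[P] (show (MP (P := P) M : Type u) from m) := rfl
  rw [h1, cb_symm_tmul, map_one]
  rfl

variable (P P' A') in
/-- the base change isomorphism at the module level -/
noncomputable def bcLinEquiv :
    ((extM (A := P) (B := P')).obj (MP (P := P) M)) ≃ₗ[P']
      ((ModuleCat.restrictScalars.{u} (algebraMap P' A')).obj
        ((extM (A := A) (B := A')).obj M)) where
  toFun := bcFun P P' A' M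
  invFun := bcInv P P' A' M
  map_add' := bcFun_add M
  map_smul' := fun p' y => bcFun_smul M p' y
  left_inv := bcInv_bcFun M
  right_inv := bcFun_bcInv M

end mod

variable (P P' A A') in
/-- the base change isomorphism `ext_j ∘ res_ψ ≅ res_ψ' ∘ ext_k` at the module level -/
noncomputable def bcNatIso :
    ModuleCat.restrictScalars.{u} (algebraMap P A) ⋙ extM (A := P) (B := P') ≅
      extM (A := A) (B := A') ⋙ ModuleCat.restrictScalars.{u} (algebraMap P' A') :=
  NatIso.ofComponents (fun M => (bcLinEquiv P P' A' M).toModuleIso) (by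
    intro M M' f
    apply ModuleCat.ExtendScalars.hom_ext
    intro m
    change bcFun P P' A' M' ((1 : P') ⊗ₜ[P] (show (MP (P := P) M' : Type u) from f.hom m)) =
      ((extM (A := A) (B := A')).map f).hom
        (bcFun P P' A' M ((1 : P') ⊗ₜ[P] (show (MP (P := P) M : Type u) from m)))
    rw [bcFun_one_tmul, bcFun_one_tmul]
    rfl)

include P in
variable (P P' A A') in
/-- the pushout of a flat algebra is flat -/
lemma flat_of_isPushout [Module.Flat P P'] : Module.Flat A A' := by
  have h : Algebra.IsPushout P A P' A' := Algebra.IsPushout.symm inferInstance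
  exact Module.Flat.isBaseChange (R := P) (S := A) (M := P') A' h.out

omit [Algebra.IsPushout P P' A A'] in
variable (P P' A A') in
lemma hcomm_of_tower (p : P) :
    algebraMap P' A' (algebraMap P P' p) = algebraMap A A' (algebraMap P A p) := by
  rw [← IsScalarTower.algebraMap_apply, ← IsScalarTower.algebraMap_apply]

variable (P P' A A') in
/-- the base change isomorphism `res_ψ' ∘ ext_k ≅ ext_j ∘ res_ψ` on derived categories -/
noncomputable def betaIso [Module.Flat P P'] [Module.Flat A A'] :
    extD A A' ⋙ DRing.restrictD (algebraMap P' A') ≅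
      DRing.restrictD (algebraMap P A) ⋙ extD P P' :=
  (Shr.mapDCompIso (Iso.refl (extM (A := A) (B := A') ⋙
      ModuleCat.restrictScalars.{u} (algebraMap P' A')))).symm ≪≫
    Shr.mapDCongr (bcNatIso P A P' A').symm ≪≫
    Shr.mapDCompIso (Iso.refl (ModuleCat.restrictScalars.{u} (algebraMap P A) ⋙
      extM (A := P) (B := P')))

/-- flat base change for the right adjoint of restriction, for a pushout square -/
theorem nonempty_fbc_iso_of_isPushout [Module.Flat P P'] [Module.Flat A A'] [IsNoetherianRing P]
    [Module.Finite P A] (hψ' : Function.Surjective (algebraMap P' A'))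
    (Rψ : Dual.D P ⥤ Dual.D A) (adj : DRing.restrictD (algebraMap P A) ⊣ Rψ)
    (Rψ' : Dual.D P' ⥤ Dual.D A') (adj' : DRing.restrictD (algebraMap P' A') ⊣ Rψ')
    (N : Dual.D P) (n₀ : ℤ) [N.IsGE n₀] :
    Nonempty ((extD A A').obj (Rψ.obj N) ≅ Rψ'.obj ((extD P P').obj N)) :=
  nonempty_fbc_iso (hcomm_of_tower P A P' A') (betaIso P A P' A') Rψ adj Rψ' adj' N hψ' n₀

end Fbc

end Groth.Agent.Lib.Helper18.DR
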