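import Mathlib
import Groth.Agent.Lib.Helper18.FbcB

/-!
# Composition of upper shrieks (helper18)
-/

set_option autoImplicit false
set_option linter.style.haveILetI false
universe u
open CategoryTheory CategoryTheory.Limits CategoryTheory.Pretriangulated DerivedCategory
open TensorProduct

attribute [local instance] HasDerivedCategory.standard

namespace Groth.Agent.Lib.Helper18.DR

namespace Shr

section indep

variable {R A : Type u} [CommRing R] [CommRing A] [Algebra R A]

/-- general independence of the presentation -/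
theorem ShriekVia.indep {ι ι' : Type} [Finite ι] [Finite ι'] {v : ι → A} {v' : ι' → A}
    {d d' : ℤ} {K : Dual.D R} {X X' : Dual.D A}
    (h : ShriekVia R A ι v d K X) (h' : ShriekVia R A ι' v' d' K X')
    (hv : Function.Surjective (MvPolynomial.aeval v : MvPolynomial ι R →ₐ[R] A))
    (hv' : Function.Surjective (MvPolynomial.aeval v' : MvPolynomial ι' R →ₐ[R] A))
    (hd : d + (Nat.card ι' : ℤ) = d' + (Nat.card ι : ℤ)) : Nonempty (X ≅ X') := by
  have h3 := h.addVars hv ι' v'
  have h4 := (h'.addVars hv' ι v).rename (Equiv.sumComm ι ι')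
  refine ShriekVia.unique h3 (h4.congr ?_ hd)
  funext x
  cases x with
  | inl i => rfl
  | inr i => rfl

end indep

section comp

variable (A B C : Type u) [CommRing A] [CommRing B] [CommRing C] [IsNoetherianRing A]
  [Algebra A B] [Algebra B C] [Algebra A C] [IsScalarTower A B C]
  (n : ℕ) (ψ : MvPolynomial (Fin n) A →ₐ[A] B) (hψ : Function.Surjective ψ)
  [DRing.HasLBaseChange (algebraMap A (MvPolynomial (Fin n) A))]
  (Rψ : Dual.D (MvPolynomial (Fin n) A) ⥤ Dual.D B) (adj : DRing.restrictD ψ.toRingHom ⊣ Rψ)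
  (m : ℕ) (χ : MvPolynomial (Fin m) B →ₐ[B] C)
  [DRing.HasLBaseChange (algebraMap B (MvPolynomial (Fin m) B))]
  (Rχ : Dual.D (MvPolynomial (Fin m) B) ⥤ Dual.D C) (adjχ : DRing.restrictD χ.toRingHom ⊣ Rχ)
  (K : Dual.D A) (c : ℤ) (hK : ∀ i : ℤ, i < c → Subsingleton (Dual.HD A K i))

include hψ adj adjχ hK in
/-- the iterated upper shriek is an upper shriek via `A[x][y]` -/
theorem isShriek_comp :
    IsShriek ((algebraMap (MvPolynomial (Fin n) A)
        (MvPolynomial (Fin m) (MvPolynomial (Fin n) A))).comp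
        (algebraMap A (MvPolynomial (Fin n) A)))
      (χ.toRingHom.comp (MvPolynomial.map ψ.toRingHom)) ((n : ℤ) + (m : ℤ)) K
      (Dual2.shriekVia m Rχ (Dual2.shriekVia n Rψ K)) := by
  letI algPB : Algebra (MvPolynomial (Fin n) A) B := ψ.toRingHom.toAlgebra
  letI algP'Q : Algebra (MvPolynomial (Fin m) (MvPolynomial (Fin n) A))
    (MvPolynomial (Fin m) B) := MvPolynomial.algebraMvPolynomial
  haveI : Module.Finite (MvPolynomial (Fin n) A) B :=
    Module.Finite.of_surjective (Algebra.linearMap (MvPolynomial (Fin n) A) B) hψ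
  have hψ' : Function.Surjective (algebraMap (MvPolynomial (Fin m) (MvPolynomial (Fin n) A))
      (MvPolynomial (Fin m) B)) := MvPolynomial.map_surjective ψ.toRingHom hψ
  let L₁ := DRing.LBaseChange (algebraMap A (MvPolynomial (Fin n) A))
  let N : Dual.D (MvPolynomial (Fin n) A) := L₁.obj K
  obtain ⟨eN⟩ := HomBC.nonempty_LBaseChange_iso_extD (A := A) (B := MvPolynomial (Fin n) A) K
  haveI : K.IsGE c := by
    rw [DerivedCategory.isGE_iff]
    intro j hj
    haveI := hK j hj
    exact ModuleCat.isZero_of_subsingleton _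
  haveI : ((extD A (MvPolynomial (Fin n) A)).obj K).IsGE c :=
    isGE_mapD (extM (A := A) (B := MvPolynomial (Fin n) A)) K c
  haveI : N.IsGE c := DerivedCategory.TStructure.t.isGE_of_iso eN.symm c
  let Rψ' := coextD (algebraMap (MvPolynomial (Fin m) (MvPolynomial (Fin n) A))
    (MvPolynomial (Fin m) B))
  let adj' := coextAdj (algebraMap (MvPolynomial (Fin m) (MvPolynomial (Fin n) A))
    (MvPolynomial (Fin m) B))
  obtain ⟨eF⟩ := Fbc.nonempty_fbc_iso_of_isPushout (P := MvPolynomial (Fin n) A) (A := B)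
    (P' := MvPolynomial (Fin m) (MvPolynomial (Fin n) A)) (A' := MvPolynomial (Fin m) B)
    hψ' Rψ adj Rψ' adj' N c
  let L₂ := DRing.LBaseChange (algebraMap B (MvPolynomial (Fin m) B))
  let eL₂ : L₂ ≅ extD B (MvPolynomial (Fin m) B) :=
    (LBCAdj.adjD _).leftAdjointUniq (extAdj B (MvPolynomial (Fin m) B))
  refine ⟨L₁ ⋙ extD (MvPolynomial (Fin n) A) (MvPolynomial (Fin m) (MvPolynomial (Fin n) A)),
    ((LBCAdj.adjD _).comp (extAdj (MvPolynomial (Fin n) A)
      (MvPolynomial (Fin m) (MvPolynomial (Fin n) A)))).ofNatIsoRight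
      (resCompIso _ _ _ rfl).symm,
    Rψ' ⋙ Rχ,
    (adjχ.comp adj').ofNatIsoLeft (resCompIso _ _ _ rfl).symm, ?_⟩
  let Y : Dual.D B := Rψ.obj N
  let e1 : L₂.obj (Y⟦(n : ℤ)⟧) ≅
      ((extD B (MvPolynomial (Fin m) B)).obj Y)⟦(n : ℤ)⟧ :=
    eL₂.app _ ≪≫ ((extD B (MvPolynomial (Fin m) B)).commShiftIso (n : ℤ)).app Y
  let e2 : Rχ.obj (L₂.obj (Y⟦(n : ℤ)⟧)) ≅
      (Rχ.obj (Rψ'.obj ((extD (MvPolynomial (Fin n) A)
        (MvPolynomial (Fin m) (MvPolynomial (Fin n) A))).obj N)))⟦(n : ℤ)⟧ :=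
    Rχ.mapIso (e1 ≪≫ (shiftFunctor _ (n : ℤ)).mapIso eF) ≪≫
      rightAdjShiftIso χ.toRingHom Rχ adjχ _ (n : ℤ)
  exact ⟨(shiftFunctor _ (m : ℤ)).mapIso e2 ≪≫
    ((shiftFunctorAdd' (Dual.D C) (n : ℤ) (m : ℤ) ((n : ℤ) + (m : ℤ)) rfl).app _).symm⟩

include hψ adj adjχ hK in
/-- composition of upper shrieks -/
theorem nonempty_shriekVia_comp_iso (hχ : Function.Surjective χ) (k : ℕ)
    (θ : MvPolynomial (Fin k) A →ₐ[A] C) (hθ : Function.Surjective θ)
    [DRing.HasLBaseChange (algebraMap A (MvPolynomial (Fin k) A))]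
    (Rθ : Dual.D (MvPolynomial (Fin k) A) ⥤ Dual.D C) (adjθ : DRing.restrictD θ.toRingHom ⊣ Rθ) :
    Nonempty (Dual2.shriekVia k Rθ K ≅ Dual2.shriekVia m Rχ (Dual2.shriekVia n Rψ K)) := by
  have h1 := shriekVia_of_presentation k θ Rθ adjθ K
  have h2 := isShriek_comp A B C n ψ hψ Rψ adj m χ Rχ adjχ K c hK
  let σ : MvPolynomial (Fin m) (MvPolynomial (Fin n) A) ≃ₐ[A] MvPolynomial (Fin m ⊕ Fin n) A :=
    (MvPolynomial.sumAlgEquiv A (Fin m) (Fin n)).symm
  have h3 := IsShriek.transport h2 σ.toRingEquiv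
  let w : Fin m ⊕ Fin n → C :=
    Sum.elim (fun i => χ (MvPolynomial.X i)) (fun j => algebraMap B C (ψ (MvPolynomial.X j)))
  have eq2 : (MvPolynomial.aeval w : MvPolynomial (Fin m ⊕ Fin n) A →ₐ[A] C).toRingHom =
      (χ.toRingHom.comp (MvPolynomial.map ψ.toRingHom)).comp σ.toRingEquiv.symm.toRingHom := by
    apply MvPolynomial.ringHom_ext
    · intro r
      change MvPolynomial.aeval w (MvPolynomial.C r) =
        χ (MvPolynomial.map ψ.toRingHom
          (MvPolynomial.sumAlgEquiv A (Fin m) (Fin n) (MvPolynomial.C r)))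
      rw [MvPolynomial.sumAlgEquiv_C_inl, MvPolynomial.map_C,
        MvPolynomial.aeval_C]
      change algebraMap A C r = χ (MvPolynomial.C (ψ (MvPolynomial.C r)))
      rw [← MvPolynomial.algebraMap_eq, ← MvPolynomial.algebraMap_eq, AlgHom.commutes,
        AlgHom.commutes, ← IsScalarTower.algebraMap_apply]
    · intro x
      change MvPolynomial.aeval w (MvPolynomial.X x) =
        χ (MvPolynomial.map ψ.toRingHom
          (MvPolynomial.sumAlgEquiv A (Fin m) (Fin n) (MvPolynomial.X x)))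
      rw [MvPolynomial.aeval_X]
      cases x with
      | inl i =>
        rw [MvPolynomial.sumAlgEquiv_X_inl, MvPolynomial.map_X]
        rfl
      | inr j =>
        rw [MvPolynomial.sumAlgEquiv_X_inr, MvPolynomial.map_C]
        change algebraMap B C (ψ (MvPolynomial.X j)) = χ (MvPolynomial.C (ψ (MvPolynomial.X j)))
        rw [← MvPolynomial.algebraMap_eq, AlgHom.commutes]
  have h4 : ShriekVia A C (Fin m ⊕ Fin n) w ((n : ℤ) + (m : ℤ)) K
      (Dual2.shriekVia m Rχ (Dual2.shriekVia n Rψ K)) := by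
    refine IsShriek.congr h3 ?_ eq2 rfl
    refine RingHom.ext fun r => ?_
    change algebraMap A (MvPolynomial (Fin m ⊕ Fin n) A) r =
      σ (algebraMap (MvPolynomial (Fin n) A) (MvPolynomial (Fin m) (MvPolynomial (Fin n) A))
        (algebraMap A (MvPolynomial (Fin n) A) r))
    rw [← IsScalarTower.algebraMap_apply, AlgEquiv.commutes]
  have hs1 : Function.Surjective
      (MvPolynomial.aeval (fun i => θ (MvPolynomial.X i)) : MvPolynomial (Fin k) A →ₐ[A] C) := by
    have e : (MvPolynomial.aeval (fun i => θ (MvPolynomial.X i)) :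
        MvPolynomial (Fin k) A →ₐ[A] C) = θ := (MvPolynomial.aeval_unique θ).symm
    rw [e]
    exact hθ
  have hs2 : Function.Surjective
      (MvPolynomial.aeval w : MvPolynomial (Fin m ⊕ Fin n) A →ₐ[A] C) := by
    have e : ∀ x, (MvPolynomial.aeval w : MvPolynomial (Fin m ⊕ Fin n) A →ₐ[A] C) x =
        χ (MvPolynomial.map ψ.toRingHom (σ.symm x)) := fun x => RingHom.congr_fun eq2 x
    intro y
    obtain ⟨q, rfl⟩ := hχ y
    obtain ⟨p', rfl⟩ := MvPolynomial.map_surjective ψ.toRingHom hψ q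
    exact ⟨σ p', by rw [e, AlgEquiv.symm_apply_apply]⟩
  refine ShriekVia.indep h1 h4 hs1 hs2 ?_
  rw [Nat.card_eq_fintype_card, Nat.card_eq_fintype_card, Fintype.card_sum, Fintype.card_fin,
    Fintype.card_fin, Fintype.card_fin]
  push_cast
  ring

end comp

end Shr

end Groth.Agent.Lib.Helper18.DR
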