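import Mathlib
import Groth.Agent.Lib.Helper18.FbcC

/-!
# Flat base change of upper shrieks (helper18)
-/

set_option autoImplicit false
set_option linter.style.haveILetI false
universe u
open CategoryTheory CategoryTheory.Limits CategoryTheory.Pretriangulated DerivedCategory
open TensorProduct

attribute [local instance] HasDerivedCategory.standard

namespace Groth.Agent.Lib.Helper18.DR

namespace Shr

section bc

attribute [local instance] Algebra.TensorProduct.rightAlgebra MvPolynomial.algebraMvPolynomial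

variable (R R' A : Type u) [CommRing R] [CommRing R'] [CommRing A] [Algebra R R'] [Algebra R A]
  (n : ℕ) (ψ : MvPolynomial (Fin n) R →ₐ[R] A)

/-- the base-changed presentation `R'[x] → R' ⊗ A` -/
noncomputable def psiBC : MvPolynomial (Fin n) R' →ₐ[R'] (R' ⊗[R] A) :=
  MvPolynomial.aeval (fun i => (1 : R') ⊗ₜ[R] ψ (MvPolynomial.X i))

lemma psiBC_map (p : MvPolynomial (Fin n) R) :
    psiBC R R' A n ψ (MvPolynomial.map (algebraMap R R') p) = (1 : R') ⊗ₜ[R] ψ p := by
  have h : (psiBC R R' A n ψ).toRingHom.comp (MvPolynomial.map (algebraMap R R')) =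
      (Algebra.TensorProduct.includeRight : A →ₐ[R] R' ⊗[R] A).toRingHom.comp ψ.toRingHom := by
    apply MvPolynomial.ringHom_ext
    · intro r
      change psiBC R R' A n ψ (MvPolynomial.map (algebraMap R R') (MvPolynomial.C r)) =
        (1 : R') ⊗ₜ[R] ψ (MvPolynomial.C r)
      rw [MvPolynomial.map_C, ← MvPolynomial.algebraMap_eq, ← MvPolynomial.algebraMap_eq,
        AlgHom.commutes, AlgHom.commutes, Algebra.TensorProduct.algebraMap_apply,
        Algebra.algebraMap_self_apply, Algebra.algebraMap_eq_smul_one r,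
        Algebra.algebraMap_eq_smul_one r, TensorProduct.smul_tmul]
    · intro i
      change psiBC R R' A n ψ (MvPolynomial.map (algebraMap R R') (MvPolynomial.X i)) =
        (1 : R') ⊗ₜ[R] ψ (MvPolynomial.X i)
      rw [MvPolynomial.map_X]
      unfold psiBC
      rw [MvPolynomial.aeval_X]
  exact RingHom.congr_fun h p

lemma psiBC_surjective (hψ : Function.Surjective ψ) :
    Function.Surjective (psiBC R R' A n ψ) := by
  intro z
  induction z using TensorProduct.induction_on with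
  | zero => exact ⟨0, map_zero _⟩
  | tmul r' a =>
    obtain ⟨p, rfl⟩ := hψ a
    refine ⟨r' • MvPolynomial.map (algebraMap R R') p, ?_⟩
    rw [map_smul, psiBC_map, TensorProduct.smul_tmul', smul_eq_mul, mul_one]
  | add x y hx hy =>
    obtain ⟨x', rfl⟩ := hx
    obtain ⟨y', rfl⟩ := hy
    exact ⟨x' + y', map_add _ _ _⟩

variable [IsNoetherianRing R] [Module.Flat R R']

/-- flat base change of the upper shriek -/
theorem nonempty_shriekVia_flat_baseChange_iso (hψ : Function.Surjective ψ)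
    [DRing.HasLBaseChange (algebraMap R (MvPolynomial (Fin n) R))]
    (Rψ : Dual.D (MvPolynomial (Fin n) R) ⥤ Dual.D A) (adj : DRing.restrictD ψ.toRingHom ⊣ Rψ)
    (m : ℕ) (ψ' : MvPolynomial (Fin m) R' →ₐ[R'] (R' ⊗[R] A)) (hψ' : Function.Surjective ψ')
    [DRing.HasLBaseChange (algebraMap R' (MvPolynomial (Fin m) R'))]
    (Rψ' : Dual.D (MvPolynomial (Fin m) R') ⥤ Dual.D (R' ⊗[R] A))
    (adj' : DRing.restrictD ψ'.toRingHom ⊣ Rψ')
    [DRing.HasLBaseChange (Algebra.TensorProduct.includeRight : A →ₐ[R] R' ⊗[R] A).toRingHom]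
    [DRing.HasLBaseChange (algebraMap R R')] (K : Dual.D R) (c : ℤ)
    (hK : ∀ i : ℤ, i < c → Subsingleton (Dual.HD R K i)) :
    Nonempty ((DRing.LBaseChange
        (Algebra.TensorProduct.includeRight : A →ₐ[R] R' ⊗[R] A).toRingHom).obj
        (Dual2.shriekVia n Rψ K) ≅
      Dual2.shriekVia m Rψ' ((DRing.LBaseChange (algebraMap R R')).obj K)) := by
  letI algPA : Algebra (MvPolynomial (Fin n) R) A := ψ.toRingHom.toAlgebra
  letI algP'A' : Algebra (MvPolynomial (Fin n) R') (R' ⊗[R] A) :=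
    (psiBC R R' A n ψ).toRingHom.toAlgebra
  letI algPA' : Algebra (MvPolynomial (Fin n) R) (R' ⊗[R] A) :=
    ((algebraMap A (R' ⊗[R] A)).comp (algebraMap (MvPolynomial (Fin n) R) A)).toAlgebra
  haveI t1 : IsScalarTower (MvPolynomial (Fin n) R) A (R' ⊗[R] A) :=
    IsScalarTower.of_algebraMap_eq (fun _ => rfl)
  haveI t2 : IsScalarTower (MvPolynomial (Fin n) R) (MvPolynomial (Fin n) R') (R' ⊗[R] A) :=
    IsScalarTower.of_algebraMap_eq (fun p => (psiBC_map R R' A n ψ p).symm)
  haveI t3 : IsScalarTower R (MvPolynomial (Fin n) R) A :=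
    IsScalarTower.of_algebraMap_eq (fun r => (ψ.commutes r).symm)
  haveI t4 : IsScalarTower R' (MvPolynomial (Fin n) R') (R' ⊗[R] A) :=
    IsScalarTower.of_algebraMap_eq (fun r => ((psiBC R R' A n ψ).commutes r).symm)
  haveI t5 : IsScalarTower R (MvPolynomial (Fin n) R') (R' ⊗[R] A) :=
    IsScalarTower.of_algebraMap_eq (fun r => by
      rw [IsScalarTower.algebraMap_apply R R' (R' ⊗[R] A),
        IsScalarTower.algebraMap_apply R R' (MvPolynomial (Fin n) R'),
        ← IsScalarTower.algebraMap_apply R' (MvPolynomial (Fin n) R') (R' ⊗[R] A)])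
  have hpo : Algebra.IsPushout (MvPolynomial (Fin n) R) A (MvPolynomial (Fin n) R') (R' ⊗[R] A) :=
    (Algebra.IsPushout.comp_iff R (MvPolynomial (Fin n) R) R' (MvPolynomial (Fin n) R')
      (T := A) (T' := R' ⊗[R] A)).1 inferInstance
  haveI hpo' : Algebra.IsPushout (MvPolynomial (Fin n) R) (MvPolynomial (Fin n) R') A
      (R' ⊗[R] A) := hpo.symm
  haveI : Module.Flat (MvPolynomial (Fin n) R) (MvPolynomial (Fin n) R') :=
    Fbc.flat_of_isPushout R (MvPolynomial (Fin n) R) R' (MvPolynomial (Fin n) R')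
  haveI : Module.Flat A (R' ⊗[R] A) := Fbc.flat_of_isPushout R A R' (R' ⊗[R] A)
  haveI : Module.Finite (MvPolynomial (Fin n) R) A :=
    Module.Finite.of_surjective (Algebra.linearMap (MvPolynomial (Fin n) R) A) hψ
  have hs : Function.Surjective (algebraMap (MvPolynomial (Fin n) R') (R' ⊗[R] A)) :=
    psiBC_surjective R R' A n ψ hψ
  let L₁ := DRing.LBaseChange (algebraMap R (MvPolynomial (Fin n) R))
  let N : Dual.D (MvPolynomial (Fin n) R) := L₁.obj K
  obtain ⟨eN⟩ := HomBC.nonempty_LBaseChange_iso_extD (A := R) (B := MvPolynomial (Fin n) R) K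
  haveI : K.IsGE c := by
    rw [DerivedCategory.isGE_iff]
    intro j hj
    haveI := hK j hj
    exact ModuleCat.isZero_of_subsingleton _
  haveI : ((extD R (MvPolynomial (Fin n) R)).obj K).IsGE c :=
    isGE_mapD (extM (A := R) (B := MvPolynomial (Fin n) R)) K c
  haveI : N.IsGE c := DerivedCategory.TStructure.t.isGE_of_iso eN.symm c
  let Rψ₀ := coextD (algebraMap (MvPolynomial (Fin n) R') (R' ⊗[R] A))
  let adj₀ := coextAdj (algebraMap (MvPolynomial (Fin n) R') (R' ⊗[R] A))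
  obtain ⟨eF⟩ := Fbc.nonempty_fbc_iso_of_isPushout (P := MvPolynomial (Fin n) R) (A := A)
    (P' := MvPolynomial (Fin n) R') (A' := R' ⊗[R] A) hs Rψ adj Rψ₀ adj₀ N c
  let LA := DRing.LBaseChange
    (Algebra.TensorProduct.includeRight : A →ₐ[R] R' ⊗[R] A).toRingHom
  let eLA : LA ≅ extD A (R' ⊗[R] A) :=
    (LBCAdj.adjD _).leftAdjointUniq (extAdj A (R' ⊗[R] A))
  let LR := DRing.LBaseChange (algebraMap R R')
  let adjA : L₁ ⋙ extD (MvPolynomial (Fin n) R) (MvPolynomial (Fin n) R') ⊣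
      DRing.restrictD (algebraMap R (MvPolynomial (Fin n) R')) :=
    ((LBCAdj.adjD _).comp (extAdj (MvPolynomial (Fin n) R)
      (MvPolynomial (Fin n) R'))).ofNatIsoRight
      (resCompIso _ _ _ (IsScalarTower.algebraMap_eq R (MvPolynomial (Fin n) R)
        (MvPolynomial (Fin n) R'))).symm
  let adjB : LR ⋙ extD R' (MvPolynomial (Fin n) R') ⊣
      DRing.restrictD (algebraMap R (MvPolynomial (Fin n) R')) :=
    ((LBCAdj.adjD _).comp (extAdj R' (MvPolynomial (Fin n) R'))).ofNatIsoRight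
      (resCompIso _ _ _ (IsScalarTower.algebraMap_eq R R' (MvPolynomial (Fin n) R'))).symm
  let eLL := adjA.leftAdjointUniq adjB
  let Y : Dual.D A := Rψ.obj N
  let e1 : LA.obj (Y⟦(n : ℤ)⟧) ≅ ((extD A (R' ⊗[R] A)).obj Y)⟦(n : ℤ)⟧ :=
    eLA.app _ ≪≫ ((extD A (R' ⊗[R] A)).commShiftIso (n : ℤ)).app Y
  have h1 : ShriekVia R' (R' ⊗[R] A) (Fin n)
      (fun i => (1 : R') ⊗ₜ[R] ψ (MvPolynomial.X i)) (n : ℤ) (LR.obj K)
      (LA.obj (Dual2.shriekVia n Rψ K)) :=
    ⟨extD R' (MvPolynomial (Fin n) R'), extAdj R' (MvPolynomial (Fin n) R'), Rψ₀, adj₀,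
      ⟨e1 ≪≫ (shiftFunctor _ (n : ℤ)).mapIso (eF ≪≫ Rψ₀.mapIso (eLL.app K))⟩⟩
  have h2 := shriekVia_of_presentation m ψ' Rψ' adj' (LR.obj K)
  have hs1 : Function.Surjective
      (MvPolynomial.aeval (fun i => (1 : R') ⊗ₜ[R] ψ (MvPolynomial.X i)) :
        MvPolynomial (Fin n) R' →ₐ[R'] (R' ⊗[R] A)) := psiBC_surjective R R' A n ψ hψ
  have hs2 : Function.Surjective
      (MvPolynomial.aeval (fun i => ψ' (MvPolynomial.X i)) :
        MvPolynomial (Fin m) R' →ₐ[R'] (R' ⊗[R] A)) := by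
    have e : (MvPolynomial.aeval (fun i => ψ' (MvPolynomial.X i)) :
        MvPolynomial (Fin m) R' →ₐ[R'] (R' ⊗[R] A)) = ψ' := (MvPolynomial.aeval_unique ψ').symm
    rw [e]
    exact hψ'
  refine ShriekVia.indep h1 h2 hs1 hs2 ?_
  rw [Nat.card_eq_fintype_card, Nat.card_eq_fintype_card, Fintype.card_fin, Fintype.card_fin]
  ring

end bc

end Shr

end Groth.Agent.Lib.Helper18.DR
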