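import Mathlib
import Groth.Agent.Lib.Helper18.DTenB
import Groth.Agent.Lib.Helper18.Ampl

/-!
# The derived tensor product with a complex, `DRing.LTensorCx` (helper18)

* `LTensorCxIso`: `P ⊗^L L ≅ Q(P ⊗ L)` for `P` K-projective.
* terms of a tensor product of bounded above complexes.
* pseudo-coherence and perfection of `K ⊗^L L`.
-/

set_option autoImplicit false
set_option linter.style.haveILetI false
universe u
open CategoryTheory CategoryTheory.Limits MonoidalCategory DerivedCategory HomologicalComplex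

attribute [local instance] HasDerivedCategory.standard

namespace Groth.Agent.Lib.Helper18.DR

namespace LTCx

open Groth.Agent.Lib.Helper2.Tot Groth.Agent.Lib.Helper2.Tot.DR

variable {R : Type u} [CommRing R] (L : DRing.Cx R)

lemma tensorCxQ_map_eq (P : DRing.Cx R) [P.IsKProjective] (c : DRing.Cx R) (f g : P ⟶ c)
    (h : DerivedCategory.Q.map f = DerivedCategory.Q.map g) :
    (DRing.tensorCxQ R L).map f = (DRing.tensorCxQ R L).map g := by
  obtain ⟨H⟩ := nonempty_homotopy_of_map_eq P c f g h
  change DerivedCategory.Q.map (f ▷ L) = DerivedCategory.Q.map (g ▷ L)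
  have e1 : f ▷ L = f ⊗ₘ 𝟙 L := (MonoidalCategory.tensorHom_id f L).symm
  have e2 : g ▷ L = g ⊗ₘ 𝟙 L := (MonoidalCategory.tensorHom_id g L).symm
  rw [e1, e2]
  exact DTenA.Q_map_tensorHom_eq H (Homotopy.refl _)

variable [DRing.HasLTensorCx R L]

/-- the counit of `- ⊗^L L` -/
noncomputable abbrev εCx : DerivedCategory.Q ⋙ DRing.LTensorCx R L ⟶ DRing.tensorCxQ R L :=
  (DRing.tensorCxQ R L).totalLeftDerivedCounit DerivedCategory.Q
    (HomologicalComplex.quasiIso (ModuleCat.{u} R) (ComplexShape.up ℤ))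

theorem isIso_εCx_app (P : DRing.Cx R) [P.IsKProjective] : IsIso ((εCx L).app P) := by
  haveI : (DRing.LTensorCx R L).IsRightKanExtension (εCx L) :=
    (Functor.isLeftDerivedFunctor_iff_isRightKanExtension (DRing.LTensorCx R L) (εCx L)
      (HomologicalComplex.quasiIso (ModuleCat.{u} R) (ComplexShape.up ℤ))).1 inferInstance
  exact Kan2.isIso_counit_app DerivedCategory.Q
    (HomologicalComplex.quasiIso (ModuleCat.{u} R) (ComplexShape.up ℤ))
    (DRing.LTensorCx R L) (εCx L) P
    (fun c g => exists_map_eq P c g) (tensorCxQ_map_eq L P)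

/-- `P ⊗^L L ≅ Q(P ⊗ L)` for `P` K-projective -/
noncomputable def LTensorCxIso (P : DRing.Cx R) [P.IsKProjective] :
    (DRing.LTensorCx R L).obj (DerivedCategory.Q.obj P) ≅ DerivedCategory.Q.obj (P ⊗ L) :=
  haveI := isIso_εCx_app L P
  asIso ((εCx L).app P)

lemma LTensorCxIso_naturality {P P' : DRing.Cx R} [P.IsKProjective] [P'.IsKProjective]
    (f : P ⟶ P') :
    (DRing.LTensorCx R L).map (DerivedCategory.Q.map f) ≫ (LTensorCxIso L P').hom =
      (LTensorCxIso L P).hom ≫ DerivedCategory.Q.map (f ▷ L) :=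
  (εCx L).naturality f

end LTCx

end Groth.Agent.Lib.Helper18.DR
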