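import Mathlib
import Groth.Agent.Lib.Helper18.LTCxA

/-!
# Terms of a tensor product of bounded above complexes (helper18)
-/

set_option autoImplicit false
set_option linter.style.haveILetI false
universe u
open CategoryTheory CategoryTheory.Limits MonoidalCategory DerivedCategory HomologicalComplex

attribute [local instance] HasDerivedCategory.standard

namespace Groth.Agent.Lib.Helper18.DR

namespace LTCx

open Groth.Agent.Lib.Helper2.Tot Groth.Agent.Lib.Helper2.Tot.DR DirectSum

variable {R : Type u} [CommRing R]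

/-- a direct sum with finitely many nonzero finitely generated summands is finitely generated -/
lemma finite_directSum {ι : Type} [DecidableEq ι] (M : ι → Type u) [∀ i, AddCommGroup (M i)]
    [∀ i, Module R (M i)] (S : Finset ι) (hS : ∀ i, i ∉ S → Subsingleton (M i))
    (hfin : ∀ i, Module.Finite R (M i)) : Module.Finite R (⨁ i, M i) := by
  classical
  haveI := hfin
  let f : (∀ i : S, M i.1) →ₗ[R] ⨁ i, M i :=
    ∑ i : S, (DirectSum.lof R ι M i.1).comp (LinearMap.proj i)
  refine Module.Finite.of_surjective f (fun x => ?_)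
  refine ⟨fun i => x i.1, ?_⟩
  change (∑ i : S, (DirectSum.lof R ι M i.1).comp (LinearMap.proj i)) (fun i => x i.1) = x
  rw [LinearMap.sum_apply]
  refine DFinsupp.ext (fun j => ?_)
  rw [DFinsupp.finset_sum_apply]
  by_cases hj : j ∈ S
  · rw [Finset.sum_eq_single (⟨j, hj⟩ : S)]
    · change (DirectSum.lof R ι M j (x j)) j = x j
      exact DirectSum.lof_apply R j (x j)
    · intro b _ hb
      change (DirectSum.lof R ι M b.1 (x b.1)) j = 0
      rw [DirectSum.lof_eq_of, DirectSum.of_eq_of_ne]
      intro h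
      exact hb (Subtype.ext h.symm)
    · intro h
      exact absurd (Finset.mem_univ _) h
  · haveI := hS j hj
    exact Subsingleton.elim _ _

/-- the terms of the tensor product as a direct sum -/
lemma nonempty_tensor_X_equiv (F F' : DRing.Cx R) (n : ℤ) :
    Nonempty (((F ⊗ F').X n : ModuleCat.{u} R) ≃ₗ[R]
      ⨁ i : Idx n, (((F.X i.1.1) ⊗ (F'.X i.1.2) : ModuleCat.{u} R) : Type u)) := by
  classical
  let Z : Idx n → ModuleCat.{u} R := fun i => (F.X i.1.1) ⊗ (F'.X i.1.2)
  have e := IsColimit.coconePointUniqueUpToIso (isColimitTotCofan (T R) F F' n)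
    (ModuleCat.coproductCoconeIsColimit Z)
  exact ⟨e.toLinearEquiv⟩

/-- the finite support of the tensor product of bounded above complexes -/
lemma exists_support (F F' : DRing.Cx R) (b b' : ℤ) (hF : DRing.VanishesAbove F b)
    (hF' : DRing.VanishesAbove F' b') (n : ℤ) :
    ∃ S : Finset (Idx n), ∀ i, i ∉ S →
      Subsingleton (((F.X i.1.1) ⊗ (F'.X i.1.2) : ModuleCat.{u} R) : Type u) := by
  classical
  let g : ℤ → Option (Idx n) := fun p =>
    if h : p + (n - p) = n then some ⟨(p, n - p), h⟩ else none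
  refine ⟨(Finset.Icc (n - b') b).image g |>.eraseNone, fun i hi => ?_⟩
  obtain ⟨⟨p, q⟩, hpq⟩ := i
  have hpq' : p + q = n := hpq
  by_cases h1 : b < p
  · exact ModuleCat.subsingleton_of_isZero ((tensorRight (F'.X q)).map_isZero (hF p h1))
  · by_cases h2 : b' < q
    · exact ModuleCat.subsingleton_of_isZero ((tensorLeft (F.X p)).map_isZero (hF' q h2))
    · exfalso
      apply hi
      rw [Finset.mem_eraseNone, Finset.mem_image]
      refine ⟨p, Finset.mem_Icc.2 ⟨by omega, by omega⟩, ?_⟩
      have hq : q = n - p := by omega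
      subst hq
      simp only [g]
      rw [dif_pos (by omega)]

lemma finite_tensor_X (F F' : DRing.Cx R) (b b' : ℤ) (hF : DRing.VanishesAbove F b)
    (hF' : DRing.VanishesAbove F' b') (h : ∀ i, Module.Finite R (F.X i))
    (h' : ∀ i, Module.Finite R (F'.X i)) (n : ℤ) : Module.Finite R ((F ⊗ F').X n) := by
  classical
  obtain ⟨e⟩ := nonempty_tensor_X_equiv F F' n
  obtain ⟨S, hS⟩ := exists_support F F' b b' hF hF' n
  haveI := finite_directSum (R := R)
    (fun i : Idx n => (((F.X i.1.1) ⊗ (F'.X i.1.2) : ModuleCat.{u} R) : Type u)) S hS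
    (fun i => by
      haveI := h i.1.1
      haveI := h' i.1.2
      change Module.Finite R (TensorProduct R (F.X i.1.1) (F'.X i.1.2))
      infer_instance)
  exact Module.Finite.equiv e.symm

lemma free_tensor_X (F F' : DRing.Cx R) (h : ∀ i, Module.Free R (F.X i))
    (h' : ∀ i, Module.Free R (F'.X i)) (n : ℤ) : Module.Free R ((F ⊗ F').X n) := by
  classical
  obtain ⟨e⟩ := nonempty_tensor_X_equiv F F' n
  haveI : ∀ i : Idx n,
      Module.Free R (((F.X i.1.1) ⊗ (F'.X i.1.2) : ModuleCat.{u} R) : Type u) := fun i => by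
    haveI := h i.1.1
    haveI := h' i.1.2
    change Module.Free R (TensorProduct R (F.X i.1.1) (F'.X i.1.2))
    infer_instance
  exact Module.Free.of_equiv e.symm

lemma projective_tensor_X (F F' : DRing.Cx R) (h : ∀ i, Module.Projective R (F.X i))
    (h' : ∀ i, Module.Projective R (F'.X i)) (n : ℤ) : Module.Projective R ((F ⊗ F').X n) := by
  classical
  obtain ⟨e⟩ := nonempty_tensor_X_equiv F F' n
  haveI : ∀ i : Idx n,
      Module.Projective R (((F.X i.1.1) ⊗ (F'.X i.1.2) : ModuleCat.{u} R) : Type u) := fun i => by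
    haveI := h i.1.1
    haveI := h' i.1.2
    change Module.Projective R (TensorProduct R (F.X i.1.1) (F'.X i.1.2))
    infer_instance
  exact Module.Projective.of_equiv e.symm

lemma flat_tensor_X (F F' : DRing.Cx R) (h : ∀ i, Module.Flat R (F.X i))
    (h' : ∀ i, Module.Flat R (F'.X i)) (n : ℤ) : Module.Flat R ((F ⊗ F').X n) := by
  classical
  obtain ⟨e⟩ := nonempty_tensor_X_equiv F F' n
  haveI : ∀ i : Idx n,
      Module.Flat R (((F.X i.1.1) ⊗ (F'.X i.1.2) : ModuleCat.{u} R) : Type u) := fun i => by
    haveI := h i.1.1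
    haveI := h' i.1.2
    change Module.Flat R (TensorProduct R (F.X i.1.1) (F'.X i.1.2))
    infer_instance
  exact Module.Flat.of_linearEquiv e

/-- terms of a tensor product vanish below the sum of the lower bounds -/
lemma isZero_tensor_X_of_lt (E E' : DRing.Cx R) (a a' : ℤ) (hE : ∀ i, i < a → IsZero (E.X i))
    (hE' : ∀ i, i < a' → IsZero (E'.X i)) (m : ℤ) (hm : m < a + a') :
    IsZero ((E ⊗ E').X m) := by
  rw [IsZero.iff_id_eq_zero]
  refine mapBifunctor.hom_ext (fun i j hij => ?_)
  have hij' : i + j = m := hij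
  have hz : IsZero ((E.X i) ⊗ (E'.X j)) := by
    by_cases hi : i < a
    · exact ((tensorRight (E'.X j)).map_isZero (hE i hi))
    · exact ((tensorLeft (E.X i)).map_isZero (hE' j (by omega)))
  exact hz.eq_of_src _ _

lemma vanishesOutside_tensor (E E' : DRing.Cx R) (a b a' b' : ℤ)
    (hE : DRing.VanishesOutside E a b) (hE' : DRing.VanishesOutside E' a' b') :
    DRing.VanishesOutside (E ⊗ E') (a + a') (b + b') := by
  intro m hm
  rcases hm with hm | hm
  · exact isZero_tensor_X_of_lt E E' a a' (fun i hi => hE i (Or.inl hi))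
      (fun i hi => hE' i (Or.inl hi)) m hm
  · exact Ampl.vanishesAbove_tensor E E' b b' (fun i hi => hE i (Or.inr hi))
      (fun i hi => hE' i (Or.inr hi)) m hm

end LTCx

end Groth.Agent.Lib.Helper18.DR
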