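import Mathlib
import Groth.Agent.Lib.Helper18.LTCxB

/-!
# Pseudo-coherence and perfection of `K ⊗^L L` (helper18)
-/

set_option autoImplicit false
set_option linter.style.haveILetI false
universe u
open CategoryTheory CategoryTheory.Limits MonoidalCategory DerivedCategory HomologicalComplex

attribute [local instance] HasDerivedCategory.standard

namespace Groth.Agent.Lib.Helper18.DR

namespace LTCx

variable {R : Type u} [CommRing R] (L : DRing.Cx R) [DRing.HasLTensorCx R L]

/-- `K ⊗^L L ≅ Q(F ⊗ F')` when `K ≅ Q F`, `Q L ≅ Q F'` with `F`, `F'` K-projective -/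
lemma nonempty_LTensorCx_iso (K : Dual.D R) (F F' : DRing.Cx R) [F.IsKProjective]
    [F'.IsKProjective] (e : DRing.toD F ≅ K) (e' : DRing.toD F' ≅ DRing.toD L) :
    Nonempty ((DRing.LTensorCx R L).obj K ≅ DerivedCategory.Q.obj (F ⊗ F')) := by
  obtain ⟨g, hg⟩ := exists_map_eq F' L e'.hom
  haveI : IsIso (DerivedCategory.Q.map g) := by rw [hg]; infer_instance
  haveI : QuasiIso g := (DerivedCategory.isIso_Q_map_iff_quasiIso _ g).1 inferInstance
  haveI : QuasiIso (F ◁ g) := inferInstance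
  haveI : IsIso (DerivedCategory.Q.map (F ◁ g)) :=
    (DerivedCategory.isIso_Q_map_iff_quasiIso _ _).2 inferInstance
  exact ⟨(DRing.LTensorCx R L).mapIso e.symm ≪≫ LTensorCxIso L F ≪≫
    (asIso (DerivedCategory.Q.map (F ◁ g))).symm⟩

/-- S7037 -/
theorem isPseudoCoherent'_LTensorCx (K : Dual.D R) (hK : DRing.IsPseudoCoherent' R K)
    (hL : DRing.IsPseudoCoherent' R (DRing.toD L)) :
    DRing.IsPseudoCoherent' R ((DRing.LTensorCx R L).obj K) := by
  obtain ⟨F, b, hFb, hFf, ⟨e⟩⟩ := hK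
  obtain ⟨F', b', hFb', hFf', ⟨e'⟩⟩ := hL
  haveI : F.IsKProjective := isKProjective_of_vanishesAbove F b hFb
    (fun i => haveI := (hFf i).2; inferInstance)
  haveI : F'.IsKProjective := isKProjective_of_vanishesAbove F' b' hFb'
    (fun i => haveI := (hFf' i).2; inferInstance)
  obtain ⟨i⟩ := nonempty_LTensorCx_iso L K F F' e e'
  exact ⟨F ⊗ F', b + b', Ampl.vanishesAbove_tensor F F' b b' hFb hFb',
    fun n => ⟨finite_tensor_X F F' b b' hFb hFb' (fun i => (hFf i).1) (fun i => (hFf' i).1) n,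
      free_tensor_X F F' (fun i => (hFf i).2) (fun i => (hFf' i).2) n⟩, ⟨i.symm⟩⟩

/-- S6959 -/
theorem isPerfect_LTensorCx (K : Dual.D R) (hK : DRing.IsPerfect R K)
    (hL : DRing.IsPerfect R (DRing.toD L)) :
    DRing.IsPerfect R ((DRing.LTensorCx R L).obj K) := by
  obtain ⟨F, a, b, hFb, hFf, ⟨e⟩⟩ := hK
  obtain ⟨F', a', b', hFb', hFf', ⟨e'⟩⟩ := hL
  have hFa : DRing.VanishesAbove F b := fun i hi => hFb i (Or.inr hi)
  have hFa' : DRing.VanishesAbove F' b' := fun i hi => hFb' i (Or.inr hi)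
  haveI : F.IsKProjective := isKProjective_of_vanishesAbove F b hFa (fun i => (hFf i).2)
  haveI : F'.IsKProjective := isKProjective_of_vanishesAbove F' b' hFa' (fun i => (hFf' i).2)
  obtain ⟨i⟩ := nonempty_LTensorCx_iso L K F F' e e'
  exact ⟨F ⊗ F', a + a', b + b', vanishesOutside_tensor F F' a b a' b' hFb hFb',
    fun n => ⟨finite_tensor_X F F' b b' hFa hFa' (fun i => (hFf i).1) (fun i => (hFf' i).1) n,
      projective_tensor_X F F' (fun i => (hFf i).2) (fun i => (hFf' i).2) n⟩, ⟨i.symm⟩⟩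

end LTCx

end Groth.Agent.Lib.Helper18.DR
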