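import Mathlib
import Groth.Agent.Lib.Helper18.OmB
import Groth.Agent.Lib.Helper18.ShrI
import Groth.Agent.Lib.Helper18.DRTorZ3
import Groth.Prelude.Def_DualSh

/-!
# `ω_{A/R}` is perfect relative to `R` for `R → A` flat of finite type (helper18)
-/

set_option autoImplicit false
set_option linter.style.haveILetI false
universe u
open CategoryTheory CategoryTheory.Limits CategoryTheory.Pretriangulated DerivedCategory
  MonoidalCategory

attribute [local instance] HasDerivedCategory.standard

namespace Groth.Agent.Lib.Helper18.DR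

namespace Om

open DTen
open scoped TensorProduct

section

variable (R A : Type u) [CommRing R] [CommRing A] [IsNoetherianRing R] [Algebra R A]
  [Module.Flat R A] (n : ℕ) (ψ : MvPolynomial (Fin n) R →ₐ[R] A) (hψ : Function.Surjective ψ)
  [DRing.HasLBaseChange (algebraMap R (MvPolynomial (Fin n) R))]
  (Rψ : Dual.D (MvPolynomial (Fin n) R) ⥤ Dual.D A) (adj : DRing.restrictD ψ.toRingHom ⊣ Rψ)

/-- `R ⊗^L_R R[x] ≅ R[x]` -/
lemma nonempty_LBaseChange_unit_iso :
    Nonempty ((DRing.LBaseChange (algebraMap R (MvPolynomial (Fin n) R))).obj (Dual.inD R R) ≅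
      DTen.unit (MvPolynomial (Fin n) R)) := by
  obtain ⟨e⟩ := HomBC.nonempty_LBaseChange_iso_extD (A := R) (B := MvPolynomial (Fin n) R)
    (Dual.inD R R)
  exact ⟨e ≪≫ extDInDIso (A := R) (B := MvPolynomial (Fin n) R) R ≪≫
    (singleFunctor (ModuleCat.{u} (MvPolynomial (Fin n) R)) 0).mapIso
      (TensorProduct.AlgebraTensorModule.rid R (MvPolynomial (Fin n) R)
        (MvPolynomial (Fin n) R)).toModuleIso ≪≫
    (DerivedCategory.singleFunctorIsoCompQ (ModuleCat.{u} (MvPolynomial (Fin n) R)) 0).app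
      (ModuleCat.of (MvPolynomial (Fin n) R) (MvPolynomial (Fin n) R))⟩

include hψ adj in
/-- `ω_{A/R}`, restricted to the polynomial ring, is perfect -/
theorem isPerfect_restrict_shriekVia_self :
    DRing.IsPerfect (MvPolynomial (Fin n) R)
      ((DRing.restrictD ψ.toRingHom).obj (Dual2.shriekVia n Rψ (Dual.inD R R))) := by
  obtain ⟨eN⟩ := nonempty_LBaseChange_unit_iso R n
  have hA : DRing.IsPerfect (MvPolynomial (Fin n) R)
      ((DRing.restrictD ψ.toRingHom).obj (DTen.unit A)) :=
    isPerfect_of_iso ((DRing.restrictD ψ.toRingHom).mapIso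
      ((DerivedCategory.singleFunctorIsoCompQ (ModuleCat.{u} A) 0).app (ModuleCat.of A A)))
      (isPerfect_of_flat R A n ψ hψ).1
  have h1 := isPerfect_restrict_rightAdj_unit ψ.toRingHom Rψ adj hA
  have h2 : DRing.IsPerfect (MvPolynomial (Fin n) R)
      ((DRing.restrictD ψ.toRingHom).obj (Rψ.obj
        ((DRing.LBaseChange (algebraMap R (MvPolynomial (Fin n) R))).obj (Dual.inD R R)))) :=
    isPerfect_of_iso ((DRing.restrictD ψ.toRingHom).mapIso (Rψ.mapIso eN.symm)) h1
  exact isPerfect_of_iso (((DRing.restrictD ψ.toRingHom).commShiftIso (n : ℤ)).app _).symm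
    (isPerfect_shift h2 (n : ℤ))

include hψ adj in
/-- **`ω_{A/R}` is perfect relative to `R`** -/
theorem isRelPerfect_shriekVia_self [IsNoetherianRing A] :
    Dual2.IsRelPerfect R A (Dual2.shriekVia n Rψ (Dual.inD R R)) := by
  have hperf := isPerfect_restrict_shriekVia_self R A n ψ hψ Rψ adj
  set ω := Dual2.shriekVia n Rψ (Dual.inD R R) with hω
  refine ⟨?_, ?_⟩
  · -- pseudo-coherence over `A`
    obtain ⟨E, a, b, hE, -, ⟨e⟩⟩ := hperf
    haveI : (DRing.toD E).IsLE b := isLE_toD_of_vanishesAbove E b (VanishesOutside.above hE)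
    haveI : ((DRing.restrictD ψ.toRingHom).obj ω).IsLE b :=
      DerivedCategory.TStructure.t.isLE_of_iso e b
    haveI : ω.IsLE b := isLE_of_restrictD ψ.toRingHom ω b inferInstance
    have hfin := (Shr.shriekVia_bounded_coherent R A n ψ hψ Rψ adj (Dual.inD R R) 0
      (fun i hi => ModuleCat.subsingleton_of_isZero
        (isZero_of_isGE (Dual.inD R R) 0 i hi))).2 (fun i => by
        by_cases hi : i = 0
        · subst hi
          exact Module.Finite.equiv (HSg 0 (ModuleCat.of R R)).toLinearEquiv.symm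
        · haveI : Subsingleton (Dual.HD R (Dual.inD R R) i) := by
            rcases lt_or_gt_of_ne hi with h | h
            · exact ModuleCat.subsingleton_of_isZero (isZero_of_isGE (Dual.inD R R) 0 i h)
            · exact ModuleCat.subsingleton_of_isZero (isZero_of_isLE (Dual.inD R R) 0 i h)
          exact Module.Finite.of_finite)
    exact (isPseudoCoherent'_iff_forall ω).1 (fun m => (isPseudoCoherent_iff_of_noetherian m ω).2
      ⟨⟨b, fun j hj => ModuleCat.subsingleton_of_isZero (isZero_of_isLE ω b j hj)⟩,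
        fun j _ => hfin j⟩)
  · -- finite tor dimension over `R`
    obtain ⟨a, b, hab⟩ := ((isPerfect_iff_pc_and_finiteTorDim _).1 hperf).2
    have hB : DRing.HasTorAmplitudeIn R (-((0 : ℕ) : ℤ)) 0
        (Dual.inD R (MvPolynomial (Fin n) R)) := by
      simpa using hasTorAmplitudeIn_Sg_of_flat
        (ModuleCat.of R (MvPolynomial (Fin n) R))
    have h1 := hasTorAmplitudeIn_restrictScalars_of_torDim_algebra 0 hB _ a b hab
    have hcomp : algebraMap R A = ψ.toRingHom.comp (algebraMap R (MvPolynomial (Fin n) R)) :=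
      RingHom.ext fun r => (ψ.commutes r).symm
    exact ⟨a - (0 : ℕ), b, hasTorAmplitudeIn_of_iso
      ((Shr.resCompIso _ _ _ hcomp).app ω).symm h1⟩

end

end Om

end Groth.Agent.Lib.Helper18.DR
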