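import Mathlib
import Groth.Agent.Lib.Helper18.OmC
import Groth.Agent.Lib.Helper18.LTCxC
import Groth.Agent.Lib.Helper18.CiD
import Groth.Agent.Lib.Helper18.KProjD
import Groth.Agent.Lib.Helper18.DRLBC

/-!
# `φ^!(K) ≅ (K ⊗^L_R A) ⊗^L_A ω_{A/R}` for `R → A` flat of finite type (helper18)
-/

set_option autoImplicit false
set_option linter.style.haveILetI false
universe u
open CategoryTheory CategoryTheory.Limits CategoryTheory.Pretriangulated DerivedCategory
  MonoidalCategory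

attribute [local instance] HasDerivedCategory.standard

namespace Groth.Agent.Lib.Helper18.DR

namespace Om

open DTen Coext RelDual
open scoped TensorProduct

section chain

variable {A : Type u} [CommRing A]

/-- chain level: `L ⊗ (N⟦n⟧) ≅ (L ⊗ N)⟦n⟧` -/
noncomputable def tensorShiftRightIso (L N : DRing.Cx A) (n : ℤ) :
    L ⊗ (N⟦n⟧) ≅ (L ⊗ N)⟦n⟧ :=
  CochainComplex.mapBifunctorShift₂Iso L N (curriedTensor (ModuleCat.{u} A)) n

/-- tensoring a K-projective complex with complexes that are isomorphic in the derived category -/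
lemma nonempty_Q_tensor_iso (L : DRing.Cx A) [L.IsKProjective] (W W' : DRing.Cx A)
    (e : DRing.toD W ≅ DRing.toD W') :
    Nonempty (DerivedCategory.Q.obj (L ⊗ W) ≅ DerivedCategory.Q.obj (L ⊗ W')) := by
  obtain ⟨W₀, p, hW₀, hp⟩ := DTenB.exists_kprojective_quasiIso W
  haveI := hW₀
  haveI := hp
  obtain ⟨p', hp'⟩ := exists_map_eq W₀ W' (DerivedCategory.Q.map p ≫ e.hom)
  haveI : IsIso (DerivedCategory.Q.map p') := by rw [hp']; infer_instance
  haveI : QuasiIso p' := (DerivedCategory.isIso_Q_map_iff_quasiIso _ p').1 inferInstance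
  haveI : QuasiIso (L ◁ p) := inferInstance
  haveI : QuasiIso (L ◁ p') := inferInstance
  exact ⟨(asIso (DerivedCategory.Q.map (L ◁ p))).symm ≪≫ asIso (DerivedCategory.Q.map (L ◁ p'))⟩

end chain

section main

variable (R A : Type u) [CommRing R] [CommRing A] [IsNoetherianRing R] [Algebra R A]
  [Module.Flat R A] (n : ℕ) (ψ : MvPolynomial (Fin n) R →ₐ[R] A) (hψ : Function.Surjective ψ)
  (Rψ : Dual.D (MvPolynomial (Fin n) R) ⥤ Dual.D A) (adj : DRing.restrictD ψ.toRingHom ⊣ Rψ)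

include hψ adj in
/-- chain-level description of `RHom_P(A, K ⊗_R P)` for `A` flat over `R` -/
theorem exists_chain_model [DRing.HasLBaseChange (algebraMap R (MvPolynomial (Fin n) R))] :
    ∃ N : DRing.Cx A,
      Nonempty (Rψ.obj (DTen.unit (MvPolynomial (Fin n) R)) ≅ DerivedCategory.Q.obj N) ∧
      ∀ (K₀ : DRing.Cx R), K₀.IsKProjective →
        Nonempty (Rψ.obj ((DRing.LBaseChange (algebraMap R (MvPolynomial (Fin n) R))).obj
          (DerivedCategory.Q.obj K₀)) ≅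
          DerivedCategory.Q.obj ((DTen.extCx (algebraMap R A)).obj K₀ ⊗ N)) := by
  have hA : DRing.IsPerfect (MvPolynomial (Fin n) R)
      ((DRing.restrictD ψ.toRingHom).obj (DTen.unit A)) :=
    isPerfect_of_iso ((DRing.restrictD ψ.toRingHom).mapIso
      ((DerivedCategory.singleFunctorIsoCompQ (ModuleCat.{u} A) 0).app (ModuleCat.of A A)))
      (isPerfect_of_flat R A n ψ hψ).1
  obtain ⟨E, a, b, hE, hp, e, he⟩ := RelDual.exists_quasiIso_of_isPerfect ψ.toRingHom hA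
  haveI := he
  obtain ⟨I, ι, hI, hι, -, -⟩ := Groth.Agent.Lib.Helper2.KInj.exists_kInjective_resolution
    (𝟙_ (DRing.Cx (MvPolynomial (Fin n) R)))
  haveI := hI
  haveI := hι
  refine ⟨(coextCx ψ.toRingHom).obj I,
    ⟨Rψ.mapIso (asIso (DerivedCategory.Q.map ι)) ≪≫
      (rightAdjointIso ψ.toRingHom Rψ adj I).symm⟩, fun K₀ hK₀ => ?_⟩
  haveI := hK₀
  haveI : ((DTen.extCx (algebraMap R (MvPolynomial (Fin n) R))).obj K₀).IsKProjective :=
    isKProjective_extendScalars _ K₀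
  haveI := isIso_θ ψ.toRingHom Rψ adj
    ((DTen.extCx (algebraMap R (MvPolynomial (Fin n) R))).obj K₀) I ι E a b hE hp e
  have hcomp : algebraMap R A = ψ.toRingHom.comp (algebraMap R (MvPolynomial (Fin n) R)) :=
    RingHom.ext fun r => (ψ.commutes r).symm
  let i3 : (DTen.mixT ψ.toRingHom).obj
      ((DTen.extCx (algebraMap R (MvPolynomial (Fin n) R))).obj K₀,
        (coextCx ψ.toRingHom).obj I) ≅
      (DTen.extCx (algebraMap R A)).obj K₀ ⊗ (coextCx ψ.toRingHom).obj I :=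
    MonoidalCategory.whiskerRightIso
      (Ci.extCxCompIso (algebraMap R (MvPolynomial (Fin n) R)) ψ.toRingHom (algebraMap R A)
        hcomp K₀).symm _
  exact ⟨Rψ.mapIso (LBaseChangeIso (algebraMap R (MvPolynomial (Fin n) R)) K₀) ≪≫
    (asIso (θ ψ.toRingHom Rψ adj
      ((DTen.extCx (algebraMap R (MvPolynomial (Fin n) R))).obj K₀) I ι)).symm ≪≫
    DerivedCategory.Q.mapIso i3⟩

include hψ adj in
/-- **S1820** -/
theorem nonempty_shriekVia_iso_LTensorCx
    [DRing.HasLBaseChange (algebraMap R (MvPolynomial (Fin n) R))] (W : DRing.Cx A)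
    (hW : Nonempty (DRing.toD W ≅ Dual2.shriekVia n Rψ (Dual.inD R R)))
    [DRing.HasLBaseChange (algebraMap R A)] [DRing.HasLTensorCx A W] (K : Dual.D R) :
    Nonempty (Dual2.shriekVia n Rψ K ≅
      (DRing.LTensorCx A W).obj ((DRing.LBaseChange (algebraMap R A)).obj K)) := by
  obtain ⟨N, ⟨eN⟩, hN⟩ := exists_chain_model R A n ψ hψ Rψ adj
  obtain ⟨K₀, hK₀, -, ⟨e₀⟩⟩ := exists_kprojective_resolution K
  haveI := hK₀
  haveI : ((DTen.extCx (algebraMap R A)).obj K₀).IsKProjective :=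
    isKProjective_extendScalars _ K₀
  obtain ⟨i1⟩ := hN K₀ hK₀
  obtain ⟨eU⟩ := nonempty_LBaseChange_unit_iso R n
  obtain ⟨eW⟩ := hW
  let hWN : DRing.toD W ≅ DRing.toD (N⟦(n : ℤ)⟧) :=
    eW ≪≫ (shiftFunctor _ (n : ℤ)).mapIso (Rψ.mapIso eU ≪≫ eN) ≪≫
      ((DerivedCategory.Q.commShiftIso (n : ℤ)).app N).symm
  obtain ⟨i2⟩ := nonempty_Q_tensor_iso ((DTen.extCx (algebraMap R A)).obj K₀) W (N⟦(n : ℤ)⟧) hWN
  let lhs : Dual2.shriekVia n Rψ K ≅
      DerivedCategory.Q.obj ((DTen.extCx (algebraMap R A)).obj K₀ ⊗ N⟦(n : ℤ)⟧) :=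
    (shiftFunctor _ (n : ℤ)).mapIso
      (Rψ.mapIso ((DRing.LBaseChange (algebraMap R (MvPolynomial (Fin n) R))).mapIso e₀.symm) ≪≫
        i1) ≪≫
      ((DerivedCategory.Q.commShiftIso (n : ℤ)).app _).symm ≪≫
      DerivedCategory.Q.mapIso
        (tensorShiftRightIso ((DTen.extCx (algebraMap R A)).obj K₀) N (n : ℤ)).symm
  let rhs : (DRing.LTensorCx A W).obj ((DRing.LBaseChange (algebraMap R A)).obj K) ≅
      DerivedCategory.Q.obj ((DTen.extCx (algebraMap R A)).obj K₀ ⊗ W) :=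
    (DRing.LTensorCx A W).mapIso
      ((DRing.LBaseChange (algebraMap R A)).mapIso e₀.symm ≪≫
        LBaseChangeIso (algebraMap R A) K₀) ≪≫
      LTCx.LTensorCxIso W ((DTen.extCx (algebraMap R A)).obj K₀)
  exact ⟨lhs ≪≫ i2.symm ≪≫ rhs.symm⟩

end main

end Om

end Groth.Agent.Lib.Helper18.DR
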