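import Mathlib
import Groth.Agent.Lib.Helper2.Stk.BaseChangeQis
import Groth.Agent.Lib.Helper2.Tot.DRingRes
import Groth.Agent.Lib.Helper2.LDer.Constructors
import Groth.Prelude.Def_DDual2

/-!
# Derived base change exists for every ring map (after helper2's `TildeBC`) (helper18)

This repeats helper2's `adapted_baseChangeKh` with lighter imports.
-/

set_option autoImplicit false
universe u
open CategoryTheory CategoryTheory.Limits HomologicalComplex
open Groth.Agent.Lib.Helper2.Tot Groth.Agent.Lib.Helper2.LDer

attribute [local instance] HasDerivedCategory.standard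

namespace Groth.Agent.Lib.Helper18.DR

namespace Om

local notation "cc" => ComplexShape.up ℤ

variable {A B : Type u} [CommRing A] [CommRing B] (φ : A →+* B)

/-- The class of objects of `K(A)` represented by K-flat complexes. -/
def PKfR (Z : HomotopyCategory (ModuleCat.{u} A) cc) : Prop :=
  ∃ P : CochainComplex (ModuleCat.{u} A) ℤ, KFlat (DR.T A) P ∧
    Z = (HomotopyCategory.quotient _ _).obj P

theorem adapted_baseChangeKh :
    Adapted (HomotopyCategory.quasiIso (ModuleCat.{u} A) cc) DerivedCategory.Qh
      (DRing.baseChangeKh φ) PKfR := by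
  refine Adapted.of_calculus _ _ _ _ ?_ ?_
  · intro Z
    obtain ⟨K, rfl⟩ := HomotopyCategory.quotient_obj_surjective Z
    obtain ⟨P, s, hP, _, hs, _⟩ := DR.exists_kflat_resolution K
    exact ⟨_, (HomotopyCategory.quotient _ _).map s, ⟨P, hP, rfl⟩,
      (HomotopyCategory.quotient_map_mem_quasiIso_iff s).2
        ((HomologicalComplex.mem_quasiIso_iff s).2 hs)⟩
  · rintro Z Z' s' ⟨P, hP, rfl⟩ ⟨P', hP', rfl⟩ hs'
    obtain ⟨s, rfl⟩ := (HomotopyCategory.quotient _ _).map_surjective s'
    haveI : QuasiIso s := (HomologicalComplex.mem_quasiIso_iff s).1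
      ((HomotopyCategory.quotient_map_mem_quasiIso_iff s).1 hs')
    have hq := Groth.Agent.Lib.Helper2.Stk.BC.quasiIso_extendScalars φ hP hP' s
    change IsIso (DerivedCategory.Qh.map ((HomotopyCategory.quotient _ _).map
      (((ModuleCat.extendScalars.{u, u, u} φ).mapHomologicalComplex cc).map s)))
    exact Localization.inverts DerivedCategory.Qh (HomotopyCategory.quasiIso _ _) _
      ((HomotopyCategory.quotient_map_mem_quasiIso_iff _).2
        ((HomologicalComplex.mem_quasiIso_iff _).2 hq))

/-- derived base change exists along every ring map -/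
theorem hasLBaseChange : DRing.HasLBaseChange φ := (adapted_baseChangeKh φ).hasLeftDerivedFunctor

end Om

end Groth.Agent.Lib.Helper18.DR
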