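import Mathlib
import Groth.Agent.Lib.Helper18.DuJ
import Groth.Agent.Lib.Helper18.OmE
import Groth.Agent.Lib.Helper18.OmLBC
import Groth.Agent.Lib.Helper18.FbcD
import Groth.Agent.Lib.Helper18.HomCxF

/-!
# Base change of upper shrieks for flat morphisms of finite type (helper18)
-/

set_option autoImplicit false
set_option linter.style.haveILetI false
set_option maxHeartbeats 1600000
universe u
open CategoryTheory CategoryTheory.Limits CategoryTheory.Pretriangulated DerivedCategory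
  MonoidalCategory
open TensorProduct

attribute [local instance] HasDerivedCategory.standard

namespace Groth.Agent.Lib.Helper18.DR

namespace Du

open DTen Shr

section bc

attribute [local instance] Algebra.TensorProduct.rightAlgebra MvPolynomial.algebraMvPolynomial

variable (R R' A : Type u) [CommRing R] [CommRing R'] [CommRing A] [Algebra R R'] [Algebra R A]
  [IsNoetherianRing R] [IsNoetherianRing R'] [Module.Flat R A]
  (n : ℕ) (ψ : MvPolynomial (Fin n) R →ₐ[R] A)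

/-- base change of the upper shriek for a flat morphism of finite type -/
theorem nonempty_shriekVia_baseChange_iso (hψ : Function.Surjective ψ)
    [DRing.HasLBaseChange (algebraMap R (MvPolynomial (Fin n) R))]
    (Rψ : Dual.D (MvPolynomial (Fin n) R) ⥤ Dual.D A) (adj : DRing.restrictD ψ.toRingHom ⊣ Rψ)
    (m : ℕ) (ψ' : MvPolynomial (Fin m) R' →ₐ[R'] (R' ⊗[R] A)) (hψ' : Function.Surjective ψ')
    [DRing.HasLBaseChange (algebraMap R' (MvPolynomial (Fin m) R'))]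
    (Rψ' : Dual.D (MvPolynomial (Fin m) R') ⥤ Dual.D (R' ⊗[R] A))
    (adj' : DRing.restrictD ψ'.toRingHom ⊣ Rψ')
    [DRing.HasLBaseChange (Algebra.TensorProduct.includeRight : A →ₐ[R] R' ⊗[R] A).toRingHom]
    [DRing.HasLBaseChange (algebraMap R R')] (K : Dual.D R) :
    Nonempty ((DRing.LBaseChange
        (Algebra.TensorProduct.includeRight : A →ₐ[R] R' ⊗[R] A).toRingHom).obj
        (Dual2.shriekVia n Rψ K) ≅
      Dual2.shriekVia m Rψ' ((DRing.LBaseChange (algebraMap R R')).obj K)) := by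
  letI algPA : Algebra (MvPolynomial (Fin n) R) A := ψ.toRingHom.toAlgebra
  letI algP'A' : Algebra (MvPolynomial (Fin n) R') (R' ⊗[R] A) :=
    (psiBC R R' A n ψ).toRingHom.toAlgebra
  letI algPA' : Algebra (MvPolynomial (Fin n) R) (R' ⊗[R] A) :=
    ((algebraMap A (R' ⊗[R] A)).comp (algebraMap (MvPolynomial (Fin n) R) A)).toAlgebra
  haveI t1 : IsScalarTower (MvPolynomial (Fin n) R) A (R' ⊗[R] A) :=
    IsScalarTower.of_algebraMap_eq (fun _ => rfl)
  haveI t2 : IsScalarTower (MvPolynomial (Fin n) R) (MvPolynomial (Fin n) R') (R' ⊗[R] A) :=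
    IsScalarTower.of_algebraMap_eq (fun p => (psiBC_map R R' A n ψ p).symm)
  haveI t3 : IsScalarTower R (MvPolynomial (Fin n) R) A :=
    IsScalarTower.of_algebraMap_eq (fun r => (ψ.commutes r).symm)
  haveI t4 : IsScalarTower R' (MvPolynomial (Fin n) R') (R' ⊗[R] A) :=
    IsScalarTower.of_algebraMap_eq (fun r => ((psiBC R R' A n ψ).commutes r).symm)
  haveI t5 : IsScalarTower R (MvPolynomial (Fin n) R') (R' ⊗[R] A) :=
    IsScalarTower.of_algebraMap_eq (fun r => by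
      rw [IsScalarTower.algebraMap_apply R R' (R' ⊗[R] A),
        IsScalarTower.algebraMap_apply R R' (MvPolynomial (Fin n) R'),
        ← IsScalarTower.algebraMap_apply R' (MvPolynomial (Fin n) R') (R' ⊗[R] A)])
  have hpo : Algebra.IsPushout (MvPolynomial (Fin n) R) A (MvPolynomial (Fin n) R') (R' ⊗[R] A) :=
    (Algebra.IsPushout.comp_iff R (MvPolynomial (Fin n) R) R' (MvPolynomial (Fin n) R')
      (T := A) (T' := R' ⊗[R] A)).1 inferInstance
  haveI hpo' : Algebra.IsPushout (MvPolynomial (Fin n) R) (MvPolynomial (Fin n) R') A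
      (R' ⊗[R] A) := hpo.symm
  haveI hpoR : Algebra.IsPushout R R' (MvPolynomial (Fin n) R) (MvPolynomial (Fin n) R') :=
    Algebra.IsPushout.symm inferInstance
  have hs : Function.Surjective (algebraMap (MvPolynomial (Fin n) R') (R' ⊗[R] A)) :=
    psiBC_surjective R R' A n ψ hψ
  haveI : DRing.HasLBaseChange (algebraMap (MvPolynomial (Fin n) R) (MvPolynomial (Fin n) R')) :=
    Om.hasLBaseChange _
  haveI : DRing.HasLBaseChange (algebraMap R' (MvPolynomial (Fin n) R')) := Om.hasLBaseChange _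
  haveI hLA : DRing.HasLBaseChange (algebraMap A (R' ⊗[R] A)) :=
    inferInstanceAs (DRing.HasLBaseChange
      (Algebra.TensorProduct.includeRight : A →ₐ[R] R' ⊗[R] A).toRingHom)
  let Rψ₀ := coextD (algebraMap (MvPolynomial (Fin n) R') (R' ⊗[R] A))
  let adj₀ := coextAdj (algebraMap (MvPolynomial (Fin n) R') (R' ⊗[R] A))
  have hA : DRing.IsPerfect (MvPolynomial (Fin n) R)
      ((DRing.restrictD (algebraMap (MvPolynomial (Fin n) R) A)).obj (DTen.unit A)) :=
    isPerfect_of_iso ((DRing.restrictD ψ.toRingHom).mapIso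
      ((DerivedCategory.singleFunctorIsoCompQ (ModuleCat.{u} A) 0).app (ModuleCat.of A A)))
      (Om.isPerfect_of_flat R A n ψ hψ).1
  -- the case `K = R`
  obtain ⟨c₀⟩ := nonempty_LBaseChange_rightAdj_unit_iso R R' (P := MvPolynomial (Fin n) R)
    (P' := MvPolynomial (Fin n) R') (A := A) (A' := R' ⊗[R] A) hs hA Rψ adj Rψ₀ adj₀
  -- chain models
  obtain ⟨N, ⟨eN⟩, hN⟩ := Om.exists_chain_model R A n ψ hψ Rψ adj
  obtain ⟨N', ⟨eN'⟩, hN'⟩ := Om.exists_chain_model R' (R' ⊗[R] A) n (psiBC R R' A n ψ)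
    (psiBC_surjective R R' A n ψ hψ) Rψ₀ adj₀
  obtain ⟨K₀, hK₀, -, ⟨e₀⟩⟩ := exists_kprojective_resolution K
  haveI := hK₀
  let K₀' : DRing.Cx R' := (DTen.extCx (algebraMap R R')).obj K₀
  haveI hK₀' : K₀'.IsKProjective := isKProjective_extendScalars _ K₀
  obtain ⟨i1⟩ := hN K₀ hK₀
  obtain ⟨i1'⟩ := hN' K₀' hK₀'
  let X : DRing.Cx A := (DTen.extCx (algebraMap R A)).obj K₀
  haveI : X.IsKProjective := isKProjective_extendScalars _ K₀
  let X' : DRing.Cx (R' ⊗[R] A) := (DTen.extCx (algebraMap R' (R' ⊗[R] A))).obj K₀'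
  haveI : X'.IsKProjective := isKProjective_extendScalars _ K₀'
  obtain ⟨N₁, p, hN₁, hp⟩ := DTenB.exists_kprojective_quasiIso N
  haveI := hN₁
  haveI := hp
  obtain ⟨j1⟩ := Om.nonempty_Q_tensor_iso X N N₁ (asIso (DerivedCategory.Q.map p)).symm
  haveI : (X ⊗ N₁).IsKProjective := HomCx.isKProjective_tensor X N₁
  let α : A →+* R' ⊗[R] A := algebraMap A (R' ⊗[R] A)
  let LA := DRing.LBaseChange α
  let j2 := LBaseChangeIso α (X ⊗ N₁)
  let j3 : (DTen.extCx α).obj (X ⊗ N₁) ≅ (DTen.extCx α).obj X ⊗ (DTen.extCx α).obj N₁ :=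
    DTen.extTenCxIso α X N₁
  have hc1 : algebraMap R (R' ⊗[R] A) = α.comp (algebraMap R A) :=
    IsScalarTower.algebraMap_eq R A (R' ⊗[R] A)
  have hc2 : algebraMap R (R' ⊗[R] A) =
      (algebraMap R' (R' ⊗[R] A)).comp (algebraMap R R') :=
    IsScalarTower.algebraMap_eq R R' (R' ⊗[R] A)
  let j4 : (DTen.extCx α).obj X ≅ X' :=
    (Ci.extCxCompIso (algebraMap R A) α _ hc1 K₀).symm ≪≫
      Ci.extCxCompIso (algebraMap R R') (algebraMap R' (R' ⊗[R] A)) _ hc2 K₀
  let eN₁ : DerivedCategory.Q.obj ((DTen.extCx α).obj N₁) ≅ DerivedCategory.Q.obj N' :=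
    (LBaseChangeIso α N₁).symm ≪≫ LA.mapIso (asIso (DerivedCategory.Q.map p) ≪≫ eN.symm) ≪≫
      c₀ ≪≫ eN'
  obtain ⟨j5⟩ := Om.nonempty_Q_tensor_iso X' ((DTen.extCx α).obj N₁) N' eN₁
  let L₁ := DRing.LBaseChange (algebraMap R (MvPolynomial (Fin n) R))
  let L₁' := DRing.LBaseChange (algebraMap R' (MvPolynomial (Fin n) R'))
  let LR := DRing.LBaseChange (algebraMap R R')
  let core : LA.obj (Rψ.obj (L₁.obj K)) ≅ Rψ₀.obj (L₁'.obj (LR.obj K)) :=
    LA.mapIso (Rψ.mapIso (L₁.mapIso e₀.symm) ≪≫ i1 ≪≫ j1) ≪≫ j2 ≪≫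
      DerivedCategory.Q.mapIso (j3 ≪≫ MonoidalCategory.whiskerRightIso j4 _) ≪≫ j5 ≪≫
      i1'.symm ≪≫ Rψ₀.mapIso (L₁'.mapIso
        ((LBaseChangeIso (algebraMap R R') K₀).symm ≪≫ LR.mapIso e₀))
  let sh : LA.obj (Dual2.shriekVia n Rψ K) ≅ Dual2.shriekVia n Rψ₀ (LR.obj K) :=
    leftAdjShiftIso α LA (LBCAdj.adjD α) (Rψ.obj (L₁.obj K)) (n : ℤ) ≪≫
      (shiftFunctor _ (n : ℤ)).mapIso core
  obtain ⟨ind⟩ := nonempty_shriekVia_iso (R := R') (A := R' ⊗[R] A) n (psiBC R R' A n ψ)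
    (psiBC_surjective R R' A n ψ hψ) Rψ₀ adj₀ m ψ' hψ' Rψ' adj' (LR.obj K)
  exact ⟨sh ≪≫ ind⟩

end bc

end Du

end Groth.Agent.Lib.Helper18.DR
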