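import Mathlib
import Groth.Agent.Lib.Helper18.UniqB

/-!
# The converse: `Ext(κ, R) = κ[0]` implies that `R` is dualizing, I (helper18)
-/

set_option autoImplicit false
set_option linter.style.haveILetI false
universe u
open CategoryTheory CategoryTheory.Limits CategoryTheory.Pretriangulated DerivedCategory

attribute [local instance] HasDerivedCategory.standard

namespace Groth.Agent.Lib.Helper18.DR

namespace Uniq

open HomLoc HomBC Bid MaxCrit Norm

section factor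

variable {A : Type u} [CommRing A] (J : DRing.Cx A) (I : Ideal A)

/-- `y ↦ φ ∘ (y * -)` -/
noncomputable def mulHom (φ : ModuleCat.of A (A ⧸ I) ⟶ J.X 0) :
    ModuleCat.of A (A ⧸ I) ⟶ (Dc J (ModuleCat.of A (A ⧸ I))).X 0 :=
  ModuleCat.ofHom ((LinearMap.llcomp A (A ⧸ I) (A ⧸ I) (J.X 0) φ.hom) ∘ₗ (LinearMap.mul A (A ⧸ I)))

lemma mulHom_apply (φ : ModuleCat.of A (A ⧸ I) ⟶ J.X 0) (y z : A ⧸ I) :
    (show (A ⧸ I) →ₗ[A] J.X 0 from (mulHom J I φ).hom y) z = φ.hom (y * z) := rfl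

lemma mulHom_comp_d (φ : ModuleCat.of A (A ⧸ I) ⟶ J.X 0) (hφ : φ ≫ J.d 0 1 = 0) :
    mulHom J I φ ≫ (Dc J (ModuleCat.of A (A ⧸ I))).d 0 1 = 0 := by
  apply ModuleCat.hom_ext
  apply LinearMap.ext
  intro y
  change (J.d 0 1).hom ∘ₗ (show (A ⧸ I) →ₗ[A] J.X 0 from (mulHom J I φ).hom y) = 0
  apply LinearMap.ext
  intro z
  change (J.d 0 1).hom (φ.hom (y * z)) = 0
  have := congrArg (fun f => f.hom (y * z)) hφ
  exact this

/-- every chain map `(A/I)[0] ⟶ J` factors through evaluation at `1` -/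
lemma fromSgMap_eq_comp_evM (φ : ModuleCat.of A (A ⧸ I) ⟶ J.X 0) (hφ : φ ≫ J.d 0 1 = 0) :
    fromSgMap J 0 (ModuleCat.of A (A ⧸ I)) 1 rfl φ hφ =
      fromSgMap (Dc J (ModuleCat.of A (A ⧸ I))) 0 (ModuleCat.of A (A ⧸ I)) 1 rfl (mulHom J I φ)
        (mulHom_comp_d J I φ hφ) ≫ evM J (M := ModuleCat.of A (A ⧸ I)) (1 : A ⧸ I) := by
  apply HomologicalComplex.from_single_hom_ext
  rw [HomologicalComplex.comp_f, fromSgMap_f, fromSgMap_f]
  have h1 : φ = mulHom J I φ ≫ (evM J (M := ModuleCat.of A (A ⧸ I)) (1 : A ⧸ I)).f 0 := by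
    apply ModuleCat.hom_ext
    apply LinearMap.ext
    intro y
    change φ.hom y = φ.hom (y * 1)
    rw [mul_one]
  exact (congrArg (fun t => (HomologicalComplex.singleObjXSelf (ComplexShape.up ℤ) 0
    (ModuleCat.of A (A ⧸ I))).hom ≫ t) h1).trans (Category.assoc _ _ _).symm

/-- if evaluation at `1` vanishes in the derived category, so does every map `(A/I)[0] ⟶ J` -/
lemma hom_Sg_quot_eq_zero [J.IsKInjective]
    (h : DerivedCategory.Q.map (evM J (M := ModuleCat.of A (A ⧸ I)) (1 : A ⧸ I)) = 0)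
    (ξ : Sg 0 (ModuleCat.of A (A ⧸ I)) ⟶ QE J) : ξ = 0 := by
  obtain ⟨z, rfl⟩ := cycToHom_surjective J (ModuleCat.of A (A ⧸ I)) 0 1 rfl ξ
  rw [cycToHom_apply, fromSgMap_eq_comp_evM, Functor.map_comp]
  rw [h, comp_zero, comp_zero]

end factor

end Uniq

end Groth.Agent.Lib.Helper18.DR
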