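import Mathlib
import Groth.Agent.Lib.Helper18.UniqD

/-!
# The converse: `Ext(κ, R) = κ[0]` implies that `R` is dualizing, II (helper18)
-/

set_option autoImplicit false
set_option linter.style.haveILetI false
universe u
open CategoryTheory CategoryTheory.Limits CategoryTheory.Pretriangulated DerivedCategory

attribute [local instance] HasDerivedCategory.standard

namespace Groth.Agent.Lib.Helper18.DR

namespace Uniq

open HomLoc HomBC Bid MaxCrit Norm

variable {A : Type u} [CommRing A] [IsLocalRing A] [IsNoetherianRing A]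
  (J : DRing.Cx A) (hJinj : DRing.TermwiseInjective J) [J.IsKInjective]

/-- the residue field is reflexive -/
theorem bijective_theta_kap (hvan : ∀ i : ℤ, i ≠ 0 → Subsingleton (Sg i (kap A) ⟶ QE J))
    (hd : (Sg 0 (kap A) ⟶ QE J) ≃ₗ[A] IsLocalRing.ResidueField A) :
    Function.Bijective (Bid.theta J (kap A)) := by
  obtain ⟨V, e, ⟨eV⟩⟩ := exists_iso_Sg_DD J (kap A) hvan
  let q : (A ⧸ IsLocalRing.maximalIdeal A) ≃ₗ[A] IsLocalRing.ResidueField A :=
    Groth.Agent.Lib.Helper1.Matlis.quotEquivResidueField (R := A)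
  let eVκ : V ≃ₗ[A] (A ⧸ IsLocalRing.maximalIdeal A) := (eV.trans hd).trans q.symm
  let iV : Sg 0 V ≅ Sg 0 (kap A) :=
    (DerivedCategory.singleFunctor (ModuleCat.{u} A) 0).mapIso eVκ.toModuleIso
  let s := shiftFunctorZero (Dual.D A) ℤ
  let E₂ : (DD J (kap A) ⟶ (QE J)⟦(0 : ℤ)⟧) ≃ₗ[A] IsLocalRing.ResidueField A :=
    (Linear.homCongr A (e ≪≫ iV) (s.app (QE J))).trans hd
  have hne : thetaL J (kap A) ≠ 0 := by
    intro h0
    have h1 : Bid.theta J (kap A) (1 : A ⧸ IsLocalRing.maximalIdeal A) = 0 := by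
      have := congrArg (fun f => f (1 : A ⧸ IsLocalRing.maximalIdeal A)) h0
      exact this
    rw [Bid.theta_apply] at h1
    have h2 : DerivedCategory.Q.map (evM J (M := ModuleCat.of A (A ⧸ IsLocalRing.maximalIdeal A))
        (1 : A ⧸ IsLocalRing.maximalIdeal A)) = 0 :=
      (cancel_mono (s.inv.app (QE J))).1 (h1.trans zero_comp.symm)
    have h3 : hd.symm 1 = 0 := hom_Sg_quot_eq_zero J (IsLocalRing.maximalIdeal A) h2 _
    have h4 : (1 : IsLocalRing.ResidueField A) = 0 := by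
      rw [← hd.apply_symm_apply 1, h3, map_zero]
    exact one_ne_zero h4
  exact bijective_of_ne_zero q E₂ (thetaL J (kap A)) hne

include hJinj in
/-- the Nakayama step for reflexivity -/
theorem bijective_theta_of_quot
    (hvanAll : ∀ (n : ℤ), n ≠ 0 → ∀ (N : Type u) [AddCommGroup N] [Module A N]
      [Module.Finite A N], Subsingleton (DD J (ModuleCat.of A N) ⟶ (QE J)⟦n⟧))
    (hfinH : ∀ (N : ModuleCat.{u} A) [Module.Finite A N],
      Module.Finite A (DD J N ⟶ (QE J)⟦(0 : ℤ)⟧))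
    (p : Ideal A) [p.IsPrime] (x : A) (hx : x ∈ IsLocalRing.maximalIdeal A) (hxp : x ∉ p)
    (hq : Function.Bijective (Bid.theta J (ModuleCat.of A (A ⧸ (p ⊔ Ideal.span {x}))))) :
    Function.Bijective (Bid.theta J (ModuleCat.of A (A ⧸ p))) := by
  have hcol : ∀ r, r ∈ p ↔ r * x ∈ p := fun r =>
    ⟨fun hr => p.mul_mem_right x hr,
      fun hr => ((Ideal.IsPrime.mem_or_mem inferInstance hr)).resolve_right hxp⟩
  have hS := colonSC_shortExact p p x hcol
  let M : ModuleCat.{u} A := ModuleCat.of A (A ⧸ p)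
  let M' : ModuleCat.{u} A := ModuleCat.of A (A ⧸ (p ⊔ Ideal.span {x}))
  let T := tri hJinj (colonSC p p x hcol) hS
  have hT : T ∈ distTriang (Dual.D A) := tri_distinguished hJinj _ hS
  let W₀ : Dual.D A := (QE J)⟦(0 : ℤ)⟧
  let m₁ : DD J M' ⟶ DD J M := T.mor₁
  haveI : Module.Finite A (A ⧸ p) := Module.Finite.of_surjective (Submodule.mkQ p)
    (Submodule.mkQ_surjective p)
  haveI : Module.Finite A (A ⧸ (p ⊔ Ideal.span {x})) :=
    Module.Finite.of_surjective (Submodule.mkQ _) (Submodule.mkQ_surjective _)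
  haveI : Module.Finite A (DD J M ⟶ W₀) := hfinH M
  have hjac : Ideal.span {x} ≤ Ideal.jacobson ⊥ := by
    rw [IsLocalRing.jacobson_eq_maximalIdeal ⊥ bot_ne_top, Ideal.span_singleton_le_iff_mem]
    exact hx
  have h1 : ModuleCat.ofHom (mulQ p p x hcol) = x • 𝟙 M := by
    apply ModuleCat.hom_ext
    apply LinearMap.ext
    intro y
    obtain ⟨r, rfl⟩ := Submodule.Quotient.mk_surjective _ y
    change mulQ p p x hcol (Submodule.Quotient.mk r) = x • (Submodule.Quotient.mk r : A ⧸ p)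
    rw [mulQ_mk, ← Submodule.Quotient.mk_smul, smul_eq_mul, mul_comm]
  have h2 : T.mor₂ = x • 𝟙 (DD J M) := by
    change DerivedCategory.Q.map (Dmap J (ModuleCat.ofHom (mulQ p p x hcol))) = _
    rw [h1, Dmap_smul, Dmap_id, Functor.map_smul, CategoryTheory.Functor.map_id]
  -- (a)
  have ha : ∀ y : A ⧸ p, Bid.theta J M' (projQ p x y) = m₁ ≫ Bid.theta J M y := fun y =>
    Bid.theta_naturality J (ModuleCat.ofHom (projQ p x) : M ⟶ M') y
  -- (b)
  have hb : ∀ t : DD J M ⟶ W₀, m₁ ≫ t = 0 → ∃ t' : DD J M ⟶ W₀, t = x • t' := by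
    intro t ht
    obtain ⟨ψ, hψ⟩ : ∃ ψ : DD J M ⟶ W₀, t = (x • 𝟙 (DD J M)) ≫ ψ := by
      obtain ⟨ψ, hψ⟩ := Triangle.yoneda_exact₂ T hT t ht
      exact ⟨ψ, hψ.trans (congrArg (fun t' : DD J M ⟶ DD J M => t' ≫ ψ) h2)⟩
    refine ⟨ψ, ?_⟩
    rw [hψ, Linear.smul_comp, Category.id_comp]
  -- (c)
  have hc : ∀ t : DD J M ⟶ W₀, x • t = 0 → t = 0 := by
    intro t ht
    have hv : Subsingleton (T.obj₁ ⟶ (QE J)⟦(-1 : ℤ)⟧) :=
      hvanAll (-1) (by omega) (A ⧸ (p ⊔ Ideal.span {x}))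
    refine eq_zero_of_comp_mor₂_eq_zero T hT ((QE J)⟦(-1 : ℤ)⟧) W₀
      (Bid.shiftIso J (-1) 0 (by omega)) hv t ?_
    have : (x • 𝟙 (DD J M)) ≫ t = 0 := by rw [Linear.smul_comp, Category.id_comp, ht]
    exact (congrArg (fun t' : DD J M ⟶ DD J M => t' ≫ t) h2).trans this
  constructor
  · -- injectivity
    let K : Submodule A (A ⧸ p) := LinearMap.ker (thetaL J M)
    have hK : K ≤ (Ideal.span {x}) • K := by
      intro k hk
      have hk0 : Bid.theta J M k = 0 := hk
      have h3 : Bid.theta J M' (projQ p x k) = 0 := by rw [ha, hk0, comp_zero]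
      have h4 : projQ p x k = 0 := hq.1 (h3.trans (map_zero _).symm)
      obtain ⟨k', rfl⟩ := (exact_mulQ_projQ p p x hcol k).1 h4
      have h5 : mulQ p p x hcol k' = x • k' := by
        obtain ⟨r, rfl⟩ := Submodule.Quotient.mk_surjective _ k'
        rw [mulQ_mk, ← Submodule.Quotient.mk_smul, smul_eq_mul, mul_comm]
      rw [h5] at hk0 ⊢
      have hk1 : x • Bid.theta J M k' = 0 := by rw [← theta_smul]; exact hk0
      have h6 : Bid.theta J M k' = 0 := hc _ hk1
      exact Submodule.smul_mem_smul (Ideal.subset_span rfl) h6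
    have hbot := Submodule.eq_bot_of_le_smul_of_le_jacobson_bot (Ideal.span {x}) K
      (IsNoetherian.noetherian K) hK hjac
    rw [injective_iff_map_eq_zero]
    intro k hk
    have hkK : k ∈ K := hk
    rw [hbot] at hkK
    exact (Submodule.mem_bot A).1 hkK
  · -- surjectivity
    let Rg : Submodule A (DD J M ⟶ W₀) := LinearMap.range (thetaL J M)
    have hle : (⊤ : Submodule A (DD J M ⟶ W₀)) ≤ Rg ⊔ (Ideal.span {x}) • ⊤ := by
      intro t _
      obtain ⟨y', hy'⟩ := hq.2 (m₁ ≫ t)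
      obtain ⟨y, rfl⟩ := projQ_surjective p x y'
      have h0 : m₁ ≫ (t - Bid.theta J M y) = 0 := by
        rw [Preadditive.comp_sub, ← ha, hy', sub_self]
      obtain ⟨t', ht'⟩ := hb _ h0
      have h3 : t = Bid.theta J M y + x • t' := by rw [← ht']; abel
      rw [h3]
      exact Submodule.add_mem_sup ⟨y, rfl⟩
        (Submodule.smul_mem_smul (Ideal.subset_span rfl) Submodule.mem_top)
    have htop := Submodule.le_of_le_smul_of_le_jacobson_bot Module.Finite.fg_top hjac hle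
    intro t
    obtain ⟨y, hy⟩ := htop (Submodule.mem_top : t ∈ ⊤)
    exact ⟨y, hy⟩

end Uniq

end Groth.Agent.Lib.Helper18.DR
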