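import Mathlib
import Groth.Agent.Lib.Helper18.UniqE
import Groth.Agent.Lib.Helper18.InvTwistA

/-!
# The converse: `Ext(κ, R) = κ[-d]` implies that `R` is dualizing, III (helper18)
-/

set_option autoImplicit false
set_option linter.style.haveILetI false
universe u
open CategoryTheory CategoryTheory.Limits CategoryTheory.Pretriangulated DerivedCategory

attribute [local instance] HasDerivedCategory.standard

namespace Groth.Agent.Lib.Helper18.DR

namespace Uniq

open HomLoc HomBC Bid MaxCrit Norm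

variable {A : Type u} [CommRing A] [IsLocalRing A] [IsNoetherianRing A]

section refl

variable (J : DRing.Cx A) (hJinj : DRing.TermwiseInjective J) [J.IsKInjective]

include hJinj in
/-- every finite module is reflexive -/
theorem refl_of_residue (hfidJ : DRing.HasFiniteInjDim A (QE J)) (a₀ : ℤ)
    (hJa : ∀ i : ℤ, i < a₀ → Subsingleton (Dual.HD A (QE J) i))
    (hJfin : ∀ j : ℤ, Module.Finite A (Dual.HD A (QE J) j))
    (hvan : ∀ i : ℤ, i ≠ 0 → Subsingleton (Sg i (kap A) ⟶ QE J))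
    (hd : (Sg 0 (kap A) ⟶ QE J) ≃ₗ[A] IsLocalRing.ResidueField A)
    (N : Type u) [AddCommGroup N] [Module A N] [Module.Finite A N] :
    Refl J (ModuleCat.of A N) := by
  have hfinH : ∀ (n : ℤ) (N' : ModuleCat.{u} A) [Module.Finite A N'],
      Module.Finite A (DD J N' ⟶ (QE J)⟦n⟧) := fun n N' _ =>
    finite_hom_shift_of_finiteInjDim (DD J N') (QE J) (finite_HD_DD J a₀ hJa hJfin N') hJfin
      hfidJ n
  obtain ⟨V, e, ⟨eV⟩⟩ := exists_iso_Sg_DD J (kap A) hvan
  let eVκ : V ≃ₗ[A] (A ⧸ IsLocalRing.maximalIdeal A) := (eV.trans hd).trans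
    (Groth.Agent.Lib.Helper1.Matlis.quotEquivResidueField (R := A)).symm
  let i₀ : DD J (kap A) ≅ Sg 0 (kap A) :=
    e ≪≫ (DerivedCategory.singleFunctor (ModuleCat.{u} A) 0).mapIso eVκ.toModuleIso
  have hvanAll : ∀ (n : ℤ), n ≠ 0 → ∀ (N : Type u) [AddCommGroup N] [Module A N]
      [Module.Finite A N], Subsingleton (DD J (ModuleCat.of A N) ⟶ (QE J)⟦n⟧) := by
    intro n hn0 N _ _ _
    refine subsingleton_hom_DD J hJinj ((QE J)⟦n⟧) (fun N' _ => hfinH n N') ?_ N
    haveI := (subsingleton_extD_iff (kap A) (QE J) n).2 (hvan n hn0)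
    exact ⟨fun x y => by
      rw [← cancel_epi i₀.inv]
      exact Subsingleton.elim _ _⟩
  refine ⟨fun n hn0 => hvanAll n hn0 N, ?_⟩
  refine Dev.devissage (A := A)
    (fun N _ _ => Function.Bijective (Bid.theta J (ModuleCat.of A N))) ?_ ?_ ?_ ?_ N
  · intro N _ _ _
    exact (refl_of_subsingleton (E := J) (ModuleCat.of A N)).bij
  · exact bijective_theta_kap J hvan hd
  · intro N₁ _ _ _ N₂ _ _ _ N₃ _ _ _ f g hf hg hfg h₁ h₃
    let S : ShortComplex (ModuleCat.{u} A) :=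
      ShortComplex.mk (ModuleCat.ofHom f) (ModuleCat.ofHom g) (by
        refine ModuleCat.hom_ext (LinearMap.ext fun p => ?_)
        exact hfg.apply_apply_eq_zero p)
    have hS : S.ShortExact := ModuleCat.shortComplex_shortExact _ hfg hf hg
    exact (refl_ext hJinj S hS ⟨fun n hn0 => hvanAll n hn0 N₁, h₁⟩
      ⟨fun n hn0 => hvanAll n hn0 N₃, h₃⟩).bij
  · intro p _ x hx hxp hq
    exact bijective_theta_of_quot J hJinj hvanAll (fun N' _ => hfinH 0 N') p x hx hxp hq

end refl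

/-- the normalized case of **S11171** -/
theorem isDualizing_of_residue_normalized (R : Dual.D A)
    (hfin : ∀ i : ℤ, Module.Finite A (Dual.HD A R i)) (a₀ : ℤ) [R.IsGE a₀]
    (hvan : ∀ i : ℤ, i ≠ 0 → Subsingleton (Sg 0 (kap A) ⟶ R⟦i⟧))
    (hd : (Sg 0 (kap A) ⟶ R) ≃ₗ[A] IsLocalRing.ResidueField A) : Dual.IsDualizing A R := by
  have hfid : FidIn R a₀ 0 := fidIn_of_maximal R a₀ 0 hfin (fun m hm i hi => by
    obtain rfl := IsLocalRing.eq_maximalIdeal hm
    exact hvan i (by omega))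
  obtain ⟨J, hJv, hJinj, ⟨eJ⟩⟩ := ((injAmp_tfae R a₀ 0).out 0 1).2 hfid
  haveI : J.IsKInjective :=
    isKInjective_of_vanishesBelow J a₀ (fun j hj => hJv j (Or.inl hj)) hJinj
  haveI : (QE J).IsGE a₀ := TStructure.t.isGE_of_iso eJ.symm a₀
  have hJa : ∀ i : ℤ, i < a₀ → Subsingleton (Dual.HD A (QE J) i) := fun i hi =>
    ModuleCat.subsingleton_of_isZero (isZero_of_isGE (QE J) a₀ i hi)
  have hJfin : ∀ j : ℤ, Module.Finite A (Dual.HD A (QE J) j) := fun j => by
    haveI := hfin j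
    exact Module.Finite.equiv ((H A j).mapIso eJ).toLinearEquiv.symm
  have hfidJ : FidIn (QE J) a₀ 0 := fidIn_of_iso eJ.symm hfid
  have hvanJ : ∀ i : ℤ, i ≠ 0 → Subsingleton (Sg i (kap A) ⟶ QE J) := by
    intro i hi
    apply (subsingleton_extD_iff (kap A) (QE J) i).1
    haveI := hvan i hi
    exact ⟨fun x y => by
      rw [← cancel_mono ((shiftFunctor (Dual.D A) i).map eJ.hom)]
      exact Subsingleton.elim _ _⟩
  let hdJ : (Sg 0 (kap A) ⟶ QE J) ≃ₗ[A] IsLocalRing.ResidueField A :=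
    (Linear.homCongr A (Iso.refl _) eJ).trans hd
  have hRefl : Refl J (ModuleCat.of A A) :=
    refl_of_residue J hJinj ((hasFiniteInjDim_iff (QE J)).2 ⟨a₀, 0, hfidJ⟩) a₀ hJa hJfin hvanJ hdJ A
  let u : DD J (ModuleCat.of A A) ≅ QE J :=
    asIso (DerivedCategory.Q.map (evM J (1 : (ModuleCat.of A A : ModuleCat.{u} A))))
  have h1 : ∀ x : A, Bid.theta J (ModuleCat.of A A) x =
      u.hom ≫ (x • 𝟙 (QE J)) ≫ (shiftFunctorZero (Dual.D A) ℤ).inv.app (QE J) := by
    intro x
    rw [Bid.theta_apply, evM_eq_smul_evM_one, Functor.map_comp, Functor.map_smul,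
      CategoryTheory.Functor.map_id, Category.assoc]
    rfl
  have hJdual : Dual.IsDualizing A (QE J) := by
    refine ⟨inferInstance, ⟨a₀, 0, hfidJ⟩, hJfin, ⟨?_, ?_⟩, ?_⟩
    · intro x y hxy
      have hxy' : x • 𝟙 (QE J) = y • 𝟙 (QE J) := hxy
      apply hRefl.bij.1
      rw [h1, h1, hxy']
    · intro t
      obtain ⟨x, hx⟩ := hRefl.bij.2 (u.hom ≫ t ≫ (shiftFunctorZero (Dual.D A) ℤ).inv.app (QE J))
      refine ⟨x, ?_⟩
      change x • 𝟙 (QE J) = t
      rw [h1] at hx
      exact (cancel_mono _).1 ((cancel_epi _).1 hx)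
    · intro i hi
      haveI := hRefl.vanish i hi
      exact ⟨fun f g => by
        rw [← cancel_epi u.hom]
        exact Subsingleton.elim _ _⟩
  exact isDualizing_of_iso eJ hJdual

/-- **S11171** -/
theorem isDualizing_of_residue (R : Dual.D A)
    (hfin : ∀ i : ℤ, Module.Finite A (Dual.HD A R i))
    (hbdd : ∃ a : ℤ, ∀ i : ℤ, i < a → Subsingleton (Dual.HD A R i)) (d : ℤ)
    (hvan : ∀ i : ℤ, i ≠ d →
      Subsingleton (Dual.inD A (IsLocalRing.ResidueField A) ⟶ R⟦i⟧))
    (hd : Nonempty ((Dual.inD A (IsLocalRing.ResidueField A) ⟶ R⟦d⟧) ≃ₗ[A]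
      IsLocalRing.ResidueField A)) : Dual.IsDualizing A R := by
  obtain ⟨a, ha⟩ := hbdd
  obtain ⟨hd⟩ := hd
  haveI : R.IsGE a := by
    rw [DerivedCategory.isGE_iff]
    intro i hi
    haveI := ha i hi
    exact ModuleCat.isZero_of_subsingleton _
  haveI : (R⟦d⟧).IsGE (a - d) := TStructure.t.isGE_shift R a d (a - d) (by omega)
  have h1 : Dual.IsDualizing A (R⟦d⟧) := by
    refine isDualizing_of_residue_normalized (R⟦d⟧) (fun i => ?_) (a - d) (fun i hi => ?_)
      ((Linear.homCongr A (kapIso (A := A)).symm (Iso.refl _)).symm.trans hd)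
    · haveI := hfin (d + i)
      exact Module.Finite.equiv ((HShiftIso A d i (d + i) rfl).app R).toLinearEquiv.symm
    · haveI := hvan (d + i) (by omega)
      let c : (R⟦d⟧)⟦i⟧ ≅ R⟦d + i⟧ := ((shiftFunctorAdd' (Dual.D A) d i (d + i) rfl).app R).symm
      refine ⟨fun x y => ?_⟩
      rw [← cancel_mono c.hom, ← cancel_epi (kapIso (A := A)).inv]
      exact Subsingleton.elim _ _
  exact isDualizing_of_iso ((shiftFunctorCompIsoId (Dual.D A) d (-d) (by omega)).app R)
    (InvTwist.isDualizing_shift _ h1 (-d))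

end Uniq

end Groth.Agent.Lib.Helper18.DR
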