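import Mathlib
import Groth.Agent.Lib.Helper18.UniqF
import Groth.Agent.Lib.Helper18.FbcB

/-!
# Flat base change of dualizing complexes with Gorenstein fibres, I: lifting from a quotient
(helper18)
-/

set_option autoImplicit false
set_option linter.style.haveILetI false
universe u
open CategoryTheory CategoryTheory.Limits CategoryTheory.Pretriangulated DerivedCategory

attribute [local instance] HasDerivedCategory.standard

namespace Groth.Agent.Lib.Helper18.DR

namespace FlatGor

open HomLoc HomBC Bid MaxCrit Norm Uniq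

section lift

variable {B : Type u} [CommRing B] [IsLocalRing B] [IsNoetherianRing B]

lemma isLocalRing_quot (I : Ideal B) (hI : I ≠ ⊤) : IsLocalRing (B ⧸ I) := by
  haveI : Nontrivial (B ⧸ I) := Ideal.Quotient.nontrivial_iff.2 hI
  exact IsLocalRing.of_surjective' (Ideal.Quotient.mk I) Ideal.Quotient.mk_surjective

/-- the residue field of `B ⧸ I` as a `B`-module -/
noncomputable def residueQuotEquiv (I : Ideal B) (hI : I ≠ ⊤) :
    haveI := isLocalRing_quot I hI
    IsLocalRing.ResidueField B ≃ₗ[B]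
      ((ModuleCat.restrictScalars.{u} (algebraMap B (B ⧸ I))).obj
        (ModuleCat.of (B ⧸ I) ((B ⧸ I) ⧸ IsLocalRing.maximalIdeal (B ⧸ I)))) := by
  haveI := isLocalRing_quot I hI
  let N : ModuleCat.{u} B := (ModuleCat.restrictScalars.{u} (algebraMap B (B ⧸ I))).obj
    (ModuleCat.of (B ⧸ I) ((B ⧸ I) ⧸ IsLocalRing.maximalIdeal (B ⧸ I)))
  let f : B →ₗ[B] N :=
    { toFun := fun b => (Ideal.Quotient.mk (IsLocalRing.maximalIdeal (B ⧸ I))
        (Ideal.Quotient.mk I b) : (B ⧸ I) ⧸ IsLocalRing.maximalIdeal (B ⧸ I))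
      map_add' := fun x y => by
        change Ideal.Quotient.mk _ (Ideal.Quotient.mk I (x + y)) = _
        rw [map_add, map_add]
        rfl
      map_smul' := fun b x => by
        change Ideal.Quotient.mk _ (Ideal.Quotient.mk I (b * x)) = _
        rw [map_mul, map_mul]
        rfl }
  have hsurj : Function.Surjective f := by
    intro y
    obtain ⟨y', rfl⟩ := Ideal.Quotient.mk_surjective (show (B ⧸ I) ⧸ _ from y)
    obtain ⟨b, rfl⟩ := Ideal.Quotient.mk_surjective y'
    exact ⟨b, rfl⟩
  have hker : LinearMap.ker f = (IsLocalRing.maximalIdeal B : Submodule B B) := by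
    ext b
    rw [LinearMap.mem_ker]
    change Ideal.Quotient.mk _ (Ideal.Quotient.mk I b) = 0 ↔ b ∈ IsLocalRing.maximalIdeal B
    rw [Ideal.Quotient.eq_zero_iff_mem, IsLocalRing.mem_maximalIdeal, IsLocalRing.mem_maximalIdeal,
      mem_nonunits_iff, mem_nonunits_iff]
    haveI : IsLocalHom (Ideal.Quotient.mk I) :=
      IsLocalHom.of_surjective (Ideal.Quotient.mk I) Ideal.Quotient.mk_surjective
    exact not_congr (isUnit_map_iff (Ideal.Quotient.mk I) b)
  exact (Submodule.quotEquivOfEq _ _ hker.symm).trans (f.quotKerEquivOfSurjective hsurj)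

/-- **lifting lemma**: if the derived coextension of `K` to a quotient `B ⧸ I` of the local ring
`B` is dualizing, then `K` is dualizing -/
theorem isDualizing_of_coext_quot (K : Dual.D B)
    (hfin : ∀ i : ℤ, Module.Finite B (Dual.HD B K i))
    (hbdd : ∃ a : ℤ, ∀ i : ℤ, i < a → Subsingleton (Dual.HD B K i)) (I : Ideal B) (hI : I ≠ ⊤)
    (hR : Dual.IsDualizing (B ⧸ I) ((Shr.coextD (algebraMap B (B ⧸ I))).obj K)) :
    Dual.IsDualizing B K := by
  haveI := isLocalRing_quot I hI
  let R := Shr.coextD (algebraMap B (B ⧸ I))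
  let adj := Shr.coextAdj (algebraMap B (B ⧸ I))
  obtain ⟨n, hn, ⟨en⟩⟩ := exists_degree_residueField (R.obj K) hR
    (IsLocalRing.maximalIdeal (B ⧸ I))
  let e₁ := residueQuotEquiv I hI
  let e₂ := (DerivedCategory.singleFunctor (ModuleCat.{u} B) 0).mapIso e₁.toModuleIso
  let Φ : ∀ i : ℤ, (Dual.inD B (IsLocalRing.ResidueField B) ⟶ K⟦i⟧) →
      (Dual.inD (B ⧸ I) ((B ⧸ I) ⧸ IsLocalRing.maximalIdeal (B ⧸ I)) ⟶ (R.obj K)⟦i⟧) :=
    fun i x => homAdjEquiv R adj K ((B ⧸ I) ⧸ IsLocalRing.maximalIdeal (B ⧸ I)) i (e₂.inv ≫ x)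
  have hΦ : ∀ i, Function.Bijective (Φ i) := fun i => by
    have hb : Function.Bijective
        (fun x : Dual.inD B (IsLocalRing.ResidueField B) ⟶ K⟦i⟧ => e₂.inv ≫ x) := by
      constructor
      · intro x y h
        exact (cancel_epi e₂.inv).1 h
      · intro y
        exact ⟨e₂.hom ≫ y, by simp⟩
    exact (homAdjEquiv R adj K ((B ⧸ I) ⧸ IsLocalRing.maximalIdeal (B ⧸ I)) i).bijective.comp hb
  refine isDualizing_of_residue K hfin hbdd n (fun i hi => ?_) ?_
  · haveI := hn i hi
    exact (hΦ i).1.subsingleton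
  · refine ⟨LinearEquiv.ofBijective
      { toFun := fun x => e₁.symm (en (Φ n x))
        map_add' := fun x y => ?_
        map_smul' := fun b x => ?_ } (e₁.symm.bijective.comp (en.bijective.comp (hΦ n)))⟩
    · have h1 : Φ n (x + y) = Φ n x + Φ n y := by
        change homAdjEquiv R adj K _ n (e₂.inv ≫ (x + y)) = _
        rw [Preadditive.comp_add, homAdjEquiv_add]
      have h2 : en (Φ n (x + y)) = en (Φ n x) + en (Φ n y) := by rw [h1, map_add]
      change e₁.symm (en (Φ n (x + y))) = e₁.symm (en (Φ n x)) + e₁.symm (en (Φ n y))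
      rw [h2]
      exact e₁.symm.map_add (en (Φ n x)) (en (Φ n y))
    · change e₁.symm (en (Φ n (b • x))) = b • e₁.symm (en (Φ n x))
      have h1 : Φ n (b • x) = (algebraMap B (B ⧸ I) b) • Φ n x := by
        change homAdjEquiv R adj K _ n (e₂.inv ≫ (b • x)) = _
        rw [Linear.comp_smul, homAdjEquiv_smul]
      have h2 : en (Φ n (b • x)) = (algebraMap B (B ⧸ I) b) • en (Φ n x) := by
        rw [h1, map_smul]
      rw [h2]
      exact e₁.symm.map_smul b (en (Φ n x))

end lift

end FlatGor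

end Groth.Agent.Lib.Helper18.DR
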