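import Mathlib
import Groth.Agent.Lib.Helper18.FlatGorA
import Groth.Agent.S11179

/-!
# Flat base change of dualizing complexes with Gorenstein fibres, II: flat local homomorphisms
(helper18)
-/

set_option autoImplicit false
set_option linter.style.haveILetI false
universe u
open CategoryTheory CategoryTheory.Limits CategoryTheory.Pretriangulated DerivedCategory

attribute [local instance] HasDerivedCategory.standard

namespace Groth.Agent.Lib.Helper18.DR

namespace FlatGor

open HomLoc HomBC Bid MaxCrit Norm Uniq TensorProduct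

section pushout

variable {A B : Type u} [CommRing A] [CommRing B] [Algebra A B] (m : Ideal A)

lemma isPushout_quot : Algebra.IsPushout A B (A ⧸ m) (B ⧸ m.map (algebraMap A B)) := by
  constructor
  refine IsBaseChange.of_equiv
    (Algebra.TensorProduct.quotIdealMapEquivTensorQuot B m).symm.toLinearEquiv (fun x => ?_)
  obtain ⟨a, rfl⟩ := Ideal.Quotient.mk_surjective x
  change (Algebra.TensorProduct.quotIdealMapEquivTensorQuot B m).symm ((1 : B) ⊗ₜ[A]
    (Ideal.Quotient.mk m a)) = algebraMap (A ⧸ m) (B ⧸ m.map (algebraMap A B))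
      (Ideal.Quotient.mk m a)
  rw [Algebra.TensorProduct.quotIdealMapEquivTensorQuot_symm_tmul,
    Ideal.Quotient.algebraMap_quotient_map_quotient, Algebra.smul_def, mul_one]
  rfl

end pushout

section local_

variable {A B : Type u} [CommRing A] [CommRing B] [Algebra A B] [Module.Flat A B]
  [IsNoetherianRing A] [IsNoetherianRing B] [IsLocalRing A] [IsLocalRing B]

/-- `A[-n]` over a Gorenstein local ring is dualizing -/
lemma isDualizing_Sg_of_gorenstein (F : Type u) [CommRing F]
    (hF : LocCoh.IsGorensteinLocalRing F) (n : ℤ) :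
    Dual.IsDualizing F (Sg n (ModuleCat.of F F)) := by
  haveI := hF
  have h0 := (Groth.Agent.S11179.result F).1 hF
  exact isDualizing_of_iso (SgShiftIso (-n) n 0 (by omega) (ModuleCat.of F F))
    (InvTwist.isDualizing_shift _ h0 (-n))

/-- **(KL)** flat base change of a dualizing complex along a flat local homomorphism with
Gorenstein closed fibre -/
theorem isDualizing_extD_of_gorenstein_closedFibre (ω : Dual.D A) (hω : Dual.IsDualizing A ω)
    (hF : LocCoh.IsGorensteinLocalRing
      (B ⧸ (IsLocalRing.maximalIdeal A).map (algebraMap A B))) :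
    Dual.IsDualizing B ((extD A B).obj ω) := by
  obtain ⟨a, b, hab⟩ := hω.finite_injective_dimension
  have hfid : FidIn ω a b := hab
  haveI := hfid.isGE
  let m := IsLocalRing.maximalIdeal A
  have hI : m.map (algebraMap A B) ≠ ⊤ := by
    haveI := hF
    exact Ideal.Quotient.nontrivial_iff.1 inferInstance
  letI : Field (A ⧸ m) := Ideal.Quotient.field m
  haveI := isPushout_quot (A := A) (B := B) m
  haveI : Module.Flat (A ⧸ m) (B ⧸ m.map (algebraMap A B)) :=
    Fbc.flat_of_isPushout A (A ⧸ m) B (B ⧸ m.map (algebraMap A B))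
  let Rk := Shr.coextD (algebraMap A (A ⧸ m))
  let adjk := Shr.coextAdj (algebraMap A (A ⧸ m))
  let RF := Shr.coextD (algebraMap B (B ⧸ m.map (algebraMap A B)))
  let adjF := Shr.coextAdj (algebraMap B (B ⧸ m.map (algebraMap A B)))
  obtain ⟨fbc⟩ := Fbc.nonempty_fbc_iso_of_isPushout (P := A) (A := A ⧸ m) (P' := B)
    (A' := B ⧸ m.map (algebraMap A B)) Ideal.Quotient.mk_surjective Rk adjk RF adjF ω a
  -- the dualizing complex of the residue field
  have hW : Dual.IsDualizing (A ⧸ m) (Rk.obj ω) := Bid.isDualizing_rightAdjoint Rk adjk ω hω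
  obtain ⟨n, hn0, ⟨en⟩⟩ := exists_degree_of_field (Rk.obj ω) hW
  haveI : (Rk.obj ω).IsGE n := (DerivedCategory.isGE_iff _ _).2 (fun i hi => hn0 i (by omega))
  haveI : (Rk.obj ω).IsLE n := (DerivedCategory.isLE_iff _ _).2 (fun i hi => hn0 i (by omega))
  obtain ⟨V, ⟨e⟩⟩ := DerivedCategory.exists_iso_singleFunctor_obj_of_isGE_of_isLE (Rk.obj ω) n
  let eV : V ≅ ModuleCat.of (A ⧸ m) (A ⧸ m) :=
    (HSg n V).symm ≪≫ (H (A ⧸ m) n).mapIso e.symm ≪≫ en.toModuleIso
  let e' : Rk.obj ω ≅ Sg n (ModuleCat.of (A ⧸ m) (A ⧸ m)) :=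
    e ≪≫ (singleFunctor (ModuleCat.{u} (A ⧸ m)) n).mapIso eV
  -- the coextension of `ω_B`
  let c : RF.obj ((extD A B).obj ω) ≅
      Sg n (ModuleCat.of (B ⧸ m.map (algebraMap A B)) (B ⧸ m.map (algebraMap A B))) :=
    fbc.symm ≪≫ (extD (A ⧸ m) (B ⧸ m.map (algebraMap A B))).mapIso e' ≪≫
      Fbc.extSgIso (A := A ⧸ m) (A' := B ⧸ m.map (algebraMap A B)) n
  have hR : Dual.IsDualizing (B ⧸ m.map (algebraMap A B)) (RF.obj ((extD A B).obj ω)) :=
    isDualizing_of_iso c.symm (isDualizing_Sg_of_gorenstein _ hF n)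
  refine isDualizing_of_coext_quot ((extD A B).obj ω) (finite_HD_extD ω hω) ⟨a, fun i hi => ?_⟩
    (m.map (algebraMap A B)) hI hR
  haveI : ((extD A B).obj ω).IsGE a := isGE_mapD (extM (A := A) (B := B)) ω a
  exact ModuleCat.subsingleton_of_isZero (isZero_of_isGE ((extD A B).obj ω) a i hi)

end local_

end FlatGor

end Groth.Agent.Lib.Helper18.DR
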