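import Mathlib
import Groth.Agent.Lib.Helper18.FlatGorB
import Groth.Agent.Lib.Helper18.DimH
import Groth.Prelude.Def_EGA4b

/-!
# Flat base change of dualizing complexes with Gorenstein fibres, III: globalization (helper18)
-/

set_option autoImplicit false
set_option linter.style.haveILetI false
universe u
open CategoryTheory CategoryTheory.Limits CategoryTheory.Pretriangulated DerivedCategory

attribute [local instance] HasDerivedCategory.standard

namespace Groth.Agent.Lib.Helper18.DR

namespace FlatGor

open HomLoc HomBC Bid MaxCrit Norm Uniq Dim TensorProduct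

section comp

variable (A B C : Type u) [CommRing A] [CommRing B] [CommRing C] [Algebra A B] [Algebra B C]
  [Algebra A C] [IsScalarTower A B C]

/-- transitivity of extension of scalars -/
noncomputable def extMCompIso :
    extM (A := A) (B := C) ≅ extM (A := A) (B := B) ⋙ extM (A := B) (B := C) :=
  eqToIso (congrArg ModuleCat.extendScalars.{u, u, u} (IsScalarTower.algebraMap_eq A B C)) ≪≫
    ModuleCat.extendScalarsComp (algebraMap A B) (algebraMap B C)

variable [Module.Flat A B] [Module.Flat B C] [Module.Flat A C]

/-- transitivity of flat base change -/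
noncomputable def extDCompIso : extD A C ≅ extD A B ⋙ extD B C :=
  Shr.mapDCompIso (extMCompIso A B C)

end comp

section glob

variable {A B : Type u} [CommRing A] [CommRing B] [Algebra A B] [Module.Flat A B]
  [IsNoetherianRing A] [IsNoetherianRing B]

/-- the localization of `ω ⊗_A B` at a prime with Gorenstein fibre local ring is dualizing -/
theorem isDualizing_locAt_extD (ω : Dual.D A) (hω : Dual.IsDualizing A ω) (q : PrimeSpectrum B)
    (hfib : LocCoh.IsGorensteinLocalRing (EGA4.FibLocRing A B q.asIdeal)) :
    Dual.IsDualizing (Localization.AtPrime q.asIdeal) (locAt ((extD A B).obj ω) q) := by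
  let p : Ideal A := q.asIdeal.under A
  haveI hpp : p.IsPrime := inferInstance
  haveI : q.asIdeal.LiesOver p := ⟨rfl⟩
  letI := Localization.AtPrime.algebraOfLiesOver p q.asIdeal
  haveI : Module.Flat A (Localization.AtPrime q.asIdeal) :=
    Module.Flat.trans A B (Localization.AtPrime q.asIdeal)
  let i1 := (extDCompIso A B (Localization.AtPrime q.asIdeal)).app ω
  let i2 := (extDCompIso A (Localization.AtPrime p) (Localization.AtPrime q.asIdeal)).app ω
  have hp : Dual.IsDualizing (Localization.AtPrime p)
      ((extD A (Localization.AtPrime p)).obj ω) := isDualizing_locAt ω hω ⟨p, hpp⟩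
  have hI : (IsLocalRing.maximalIdeal (Localization.AtPrime p)).map
      (algebraMap (Localization.AtPrime p) (Localization.AtPrime q.asIdeal)) =
      p.map (algebraMap A (Localization.AtPrime q.asIdeal)) := by
    rw [← Localization.AtPrime.map_eq_maximalIdeal, Ideal.map_map, ← IsScalarTower.algebraMap_eq]
  have hF : LocCoh.IsGorensteinLocalRing (Localization.AtPrime q.asIdeal ⧸
      (IsLocalRing.maximalIdeal (Localization.AtPrime p)).map
        (algebraMap (Localization.AtPrime p) (Localization.AtPrime q.asIdeal))) := by
    rw [hI]
    exact hfib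
  have h := isDualizing_extD_of_gorenstein_closedFibre (A := Localization.AtPrime p)
    (B := Localization.AtPrime q.asIdeal) _ hp hF
  exact isDualizing_of_iso (i2.symm ≪≫ i1) h

/-- **(MT)** flat base change of a dualizing complex along a flat map with Gorenstein fibres to a
ring of finite Krull dimension -/
theorem isDualizing_extD_of_gorenstein_fibres (hdim : ringKrullDim B < ⊤) (ω : Dual.D A)
    (hω : Dual.IsDualizing A ω)
    (hfib : ∀ q : PrimeSpectrum B, LocCoh.IsGorensteinLocalRing (EGA4.FibLocRing A B q.asIdeal)) :
    Dual.IsDualizing B ((extD A B).obj ω) := by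
  obtain ⟨a, b, hab⟩ := hω.finite_injective_dimension
  have hfid : FidIn ω a b := hab
  haveI := hfid.isGE
  haveI : ((extD A B).obj ω).IsGE a := isGE_mapD (extM (A := A) (B := B)) ω a
  refine isDualizing_of_pointwise hdim _ (finite_HD_extD ω hω) ⟨a, fun i hi => ?_⟩
    (fun q => isDualizing_locAt_extD ω hω q (hfib q))
  exact ModuleCat.subsingleton_of_isZero (isZero_of_isGE ((extD A B).obj ω) a i hi)

end glob

end FlatGor

end Groth.Agent.Lib.Helper18.DR
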