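import Mathlib
import Groth.Agent.Lib.Helper18.FlatGorC
import Groth.Agent.Lib.Helper18.DimE
import Groth.Agent.Lib.Helper4.GorRing

/-!
# Flat base change of dualizing complexes with Gorenstein fibres, IV: S1788 (helper18)
-/

set_option autoImplicit false
set_option linter.style.haveILetI false
universe u
open CategoryTheory CategoryTheory.Limits CategoryTheory.Pretriangulated DerivedCategory

attribute [local instance] HasDerivedCategory.standard

namespace Groth.Agent.Lib.Helper18.DR

namespace FlatGor

open HomLoc HomBC Bid MaxCrit Norm Uniq Dim TensorProduct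

section fibres

variable {A B : Type u} [CommRing A] [CommRing B] [Algebra A B] [IsNoetherianRing A]
  [IsNoetherianRing B]

/-- Gorenstein fibre rings give Gorenstein fibre local rings -/
lemma gor_fibLocRing_of_tensor_residueField
    (hG : ∀ p : PrimeSpectrum A, LocCoh.IsGorensteinRing (B ⊗[A] p.asIdeal.ResidueField))
    (q : PrimeSpectrum B) : LocCoh.IsGorensteinLocalRing (EGA4.FibLocRing A B q.asIdeal) := by
  let p : PrimeSpectrum A := ⟨q.asIdeal.comap (algebraMap A B), inferInstance⟩
  have h2 : LocCoh.IsGorensteinRing (p.asIdeal.Fiber B) :=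
    Groth.Agent.Lib.Helper4.GorRing.gorRing_of_ringEquiv
      (Algebra.TensorProduct.comm A B p.asIdeal.ResidueField).toRingEquiv (hG p)
  exact (Groth.Agent.Lib.Helper4.GorFibre.isGorensteinRing_fiber_iff A B p.asIdeal).1 h2
    q.asIdeal rfl

end fibres

section main

variable {A B : Type u} [CommRing A] [CommRing B] [Algebra A B] [IsNoetherianRing A]
  [IsNoetherianRing B] [Module.FaithfullyFlat A B]

/-- **S1788**, in terms of flat base change -/
theorem isDualizing_iff_extD_of_gorenstein_fibres [Algebra.FiniteType A B]
    (hfib : ∀ q : PrimeSpectrum B, LocCoh.IsGorensteinLocalRing (EGA4.FibLocRing A B q.asIdeal))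
    (K : Dual.D A) : Dual.IsDualizing A K ↔ Dual.IsDualizing B ((extD A B).obj K) := by
  constructor
  · intro hK
    obtain ⟨ωB, hωB⟩ := exists_isDualizing_of_finiteType K hK B inferInstance
    exact isDualizing_extD_of_gorenstein_fibres (ringKrullDim_lt_top_of_dualizing ωB hωB) K hK hfib
  · intro hK
    exact isDualizing_of_extD K hK

end main

end FlatGor

end Groth.Agent.Lib.Helper18.DR
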