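import Mathlib
import Groth.Agent.Lib.Helper18.FlatGorD
import Groth.Agent.Lib.Helper18.BidF
import Groth.Agent.Lib.Helper4.GorField

/-!
# Flat base change of dualizing complexes, VII: extension of the base field (helper18)
-/

set_option autoImplicit false
set_option linter.style.haveILetI false
universe u
open CategoryTheory CategoryTheory.Limits CategoryTheory.Pretriangulated DerivedCategory

attribute [local instance] HasDerivedCategory.standard

namespace Groth.Agent.Lib.Helper18.DR

namespace FlatGor

open HomLoc HomBC Bid MaxCrit Norm Uniq Dim TensorProduct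

section fg

variable (k A : Type u) [Field k] [CommRing A] [Algebra k A] [Algebra.FiniteType k A]

/-- the residue fields of a finite type algebra over a field are finitely generated fields -/
lemma exists_finset_adjoin_residueField (p : Ideal A) [p.IsPrime] :
    ∃ s : Finset p.ResidueField, IntermediateField.adjoin k (s : Set p.ResidueField) = ⊤ := by
  classical
  obtain ⟨s, hs⟩ := (Algebra.FiniteType.out : (⊤ : Subalgebra k A).FG)
  refine ⟨s.image (algebraMap A p.ResidueField), ?_⟩
  rw [eq_top_iff]
  intro z _
  have himg : ∀ a : A, algebraMap A p.ResidueField a ∈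
      IntermediateField.adjoin k ((s.image (algebraMap A p.ResidueField) : Finset _) :
        Set p.ResidueField) := by
    intro a
    have ha : a ∈ Algebra.adjoin k (s : Set A) := by rw [hs]; trivial
    have h1 : algebraMap A p.ResidueField a ∈
        (Algebra.adjoin k (s : Set A)).map (IsScalarTower.toAlgHom k A p.ResidueField) :=
      ⟨a, ha, rfl⟩
    rw [AlgHom.map_adjoin] at h1
    refine IntermediateField.algebra_adjoin_le_adjoin k _ ?_
    convert h1 using 2
    ext x
    simp
  obtain ⟨⟨x, y⟩, hxy⟩ := IsLocalization.surj (nonZeroDivisors (A ⧸ p)) z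
  obtain ⟨x', rfl⟩ := Ideal.Quotient.mk_surjective x
  obtain ⟨y', hy'⟩ := Ideal.Quotient.mk_surjective (y : A ⧸ p)
  have hy0 : algebraMap (A ⧸ p) p.ResidueField (y : A ⧸ p) ≠ 0 :=
    (IsLocalization.map_units p.ResidueField y).ne_zero
  have hz : z = algebraMap A p.ResidueField x' / algebraMap A p.ResidueField y' := by
    rw [eq_div_iff]
    · rw [← Ideal.algebraMap_quotient_residueField_mk, ← Ideal.algebraMap_quotient_residueField_mk,
        hy']
      exact hxy
    · rw [← Ideal.algebraMap_quotient_residueField_mk, hy']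
      exact hy0
  rw [hz]
  exact div_mem (himg x') (himg y')

end fg

section main

variable (k K A : Type u) [Field k] [Field K] [Algebra k K] [CommRing A] [Algebra k A]

/-- the `A`-algebra structure on `K ⊗[k] A` through the right factor -/
noncomputable abbrev algR : Algebra A (K ⊗[k] A) :=
  (Algebra.TensorProduct.includeRight : A →ₐ[k] K ⊗[k] A).toRingHom.toAlgebra

attribute [local instance] algR

/-- swapping the factors, as an isomorphism of `A`-algebras -/
noncomputable def commAlgEquiv : (K ⊗[k] A) ≃ₐ[A] (A ⊗[k] K) :=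
  AlgEquiv.ofRingEquiv (f := (Algebra.TensorProduct.comm k K A).toRingEquiv) (fun a => by
    change Algebra.TensorProduct.comm k K A ((1 : K) ⊗ₜ[k] a) = _
    rw [Algebra.TensorProduct.comm_tmul]
    rfl)

lemma flat_algR : Module.Flat A (K ⊗[k] A) :=
  Module.Flat.of_linearEquiv (commAlgEquiv k K A).toLinearEquiv

attribute [local instance] flat_algR

variable [Algebra.FiniteType k A]

lemma isNoetherianRing_tensor : IsNoetherianRing (K ⊗[k] A) :=
  Algebra.FiniteType.isNoetherianRing K (K ⊗[k] A)

/-- the fibres of `A → K ⊗[k] A` are Gorenstein -/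
lemma gorRing_fiber_tensor [IsNoetherianRing A] (p : Ideal A) [p.IsPrime] :
    LocCoh.IsGorensteinRing (p.Fiber (K ⊗[k] A)) := by
  have hK : LocCoh.IsGorensteinRing K :=
    Groth.Agent.Lib.Helper4.GorRing.gorRing_of_gor K (Groth.Agent.Lib.Helper4.GorFlat.gor_field K)
  have h1 := Groth.Agent.Lib.Helper4.GorField.gorRing_tensor_of_fg k p.ResidueField K
    (exists_finset_adjoin_residueField k A p) hK
  have c2 : p.ResidueField ⊗[A] (K ⊗[k] A) ≃ₐ[A] p.ResidueField ⊗[A] (A ⊗[k] K) :=
    Algebra.TensorProduct.congr AlgEquiv.refl (commAlgEquiv k K A)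
  have c1 : p.ResidueField ⊗[A] (A ⊗[k] K) ≃ₐ[A] p.ResidueField ⊗[k] K :=
    Algebra.TensorProduct.cancelBaseChange k A A p.ResidueField K
  exact Groth.Agent.Lib.Helper4.GorRing.gorRing_of_ringEquiv
    (c2.toRingEquiv.trans c1.toRingEquiv).symm h1

/-- **S8932**, in terms of flat base change -/
theorem isDualizing_extD_field_extension [IsNoetherianRing A] (ω : Dual.D A)
    (hω : Dual.IsDualizing A ω) :
    Dual.IsDualizing (K ⊗[k] A) ((extD A (K ⊗[k] A)).obj ω) := by
  haveI := isNoetherianRing_tensor k K A
  have hKd : Dual.IsDualizing K (Dual.inD K K) :=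
    (Groth.Agent.S11179.result K).1 (Groth.Agent.Lib.Helper4.GorFlat.gor_field K)
  obtain ⟨ωB, hωB⟩ := exists_isDualizing_of_finiteType (Dual.inD K K) hKd (K ⊗[k] A) inferInstance
  refine isDualizing_extD_of_gorenstein_fibres (ringKrullDim_lt_top_of_dualizing ωB hωB) ω hω
    (fun q => ?_)
  exact (Groth.Agent.Lib.Helper4.GorFibre.isGorensteinRing_fiber_iff A (K ⊗[k] A)
    (q.asIdeal.comap (algebraMap A (K ⊗[k] A)))).1 (gorRing_fiber_tensor k K A _) q.asIdeal rfl

end main

end FlatGor

end Groth.Agent.Lib.Helper18.DR
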