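import Mathlib
import Groth.Agent.Lib.Helper18.DuL
import Groth.Agent.Lib.Helper18.DuK
import Groth.Agent.Lib.Helper18.OmC
import Groth.Agent.Lib.Helper18.FlatGorG

/-!
# Properties of `ω_{A/R} = φ^!(R)` for `R → A` flat of finite type (helper18)
-/

set_option autoImplicit false
set_option linter.style.haveILetI false
universe u
open CategoryTheory CategoryTheory.Limits CategoryTheory.Pretriangulated DerivedCategory
  MonoidalCategory
open scoped TensorProduct

attribute [local instance] HasDerivedCategory.standard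

namespace Groth.Agent.Lib.Helper18.DR

namespace Du

open DTen Shr HomBC

section

variable (R A : Type u) [CommRing R] [CommRing A] [IsNoetherianRing R] [IsNoetherianRing A]
  [Algebra R A] [Module.Flat R A] (n : ℕ) (ψ : MvPolynomial (Fin n) R →ₐ[R] A)
  (hψ : Function.Surjective ψ)
  [DRing.HasLBaseChange (algebraMap R (MvPolynomial (Fin n) R))]
  (Rψ : Dual.D (MvPolynomial (Fin n) R) ⥤ Dual.D A) (adj : DRing.restrictD ψ.toRingHom ⊣ Rψ)

include hψ adj in
/-- (a): `ω_{A/R}` is bounded with finite cohomology modules -/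
theorem bounded_finite_shriekVia_self :
    (∃ a b : ℤ, ∀ i : ℤ, (i < a ∨ b < i) →
      Subsingleton (Dual.HD A (Dual2.shriekVia n Rψ (Dual.inD R R)) i)) ∧
    (∀ i : ℤ, Module.Finite A (Dual.HD A (Dual2.shriekVia n Rψ (Dual.inD R R)) i)) := by
  have hperf := Om.isPerfect_restrict_shriekVia_self R A n ψ hψ Rψ adj
  set ω := Dual2.shriekVia n Rψ (Dual.inD R R) with hω
  obtain ⟨E, a, b, hE, -, ⟨e⟩⟩ := hperf
  haveI : (DRing.toD E).IsLE b := isLE_toD_of_vanishesAbove E b (VanishesOutside.above hE)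
  haveI : ((DRing.restrictD ψ.toRingHom).obj ω).IsLE b :=
    DerivedCategory.TStructure.t.isLE_of_iso e b
  haveI : ω.IsLE b := isLE_of_restrictD ψ.toRingHom ω b inferInstance
  obtain ⟨⟨b', hb'⟩, hfin⟩ := Shr.shriekVia_bounded_coherent R A n ψ hψ Rψ adj (Dual.inD R R) 0
    (fun i hi => ModuleCat.subsingleton_of_isZero (isZero_of_isGE (Dual.inD R R) 0 i hi))
  refine ⟨⟨b', b, fun i hi => ?_⟩, hfin (fun i => ?_)⟩
  · rcases hi with hi | hi
    · exact hb' i hi
    · exact ModuleCat.subsingleton_of_isZero (isZero_of_isLE ω b i hi)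
  · by_cases hi : i = 0
    · subst hi
      exact Module.Finite.equiv (HSg 0 (ModuleCat.of R R)).toLinearEquiv.symm
    · haveI : Subsingleton (Dual.HD R (Dual.inD R R) i) := by
        rcases lt_or_gt_of_ne hi with h | h
        · exact ModuleCat.subsingleton_of_isZero (isZero_of_isGE (Dual.inD R R) 0 i h)
        · exact ModuleCat.subsingleton_of_isZero (isZero_of_isLE (Dual.inD R R) 0 i h)
      exact Module.Finite.of_finite

include hψ adj in
/-- (c): `A → End(ω_{A/R})` is bijective and `ω_{A/R}` has no self-maps of nonzero degree -/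
theorem selfmaps_shriekVia_self :
    Function.Bijective (fun a : A => a • 𝟙 (Dual2.shriekVia n Rψ (Dual.inD R R))) ∧
    ∀ i : ℤ, i ≠ 0 → Subsingleton (Dual2.shriekVia n Rψ (Dual.inD R R) ⟶
      (Dual2.shriekVia n Rψ (Dual.inD R R))⟦i⟧) := by
  letI algPA : Algebra (MvPolynomial (Fin n) R) A := ψ.toRingHom.toAlgebra
  have hA : DRing.IsPerfect (MvPolynomial (Fin n) R)
      ((DRing.restrictD (algebraMap (MvPolynomial (Fin n) R) A)).obj (DTen.unit A)) :=
    isPerfect_of_iso ((DRing.restrictD ψ.toRingHom).mapIso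
      ((DerivedCategory.singleFunctorIsoCompQ (ModuleCat.{u} A) 0).app (ModuleCat.of A A)))
      (Om.isPerfect_of_flat R A n ψ hψ).1
  obtain ⟨E, a, b, hE, hp, e, he⟩ :=
    RelDual.exists_quasiIso_of_isPerfect (algebraMap (MvPolynomial (Fin n) R) A) hA
  haveI := he
  obtain ⟨eN⟩ := Om.nonempty_LBaseChange_unit_iso R n
  let ι : Dual2.shriekVia n Rψ (Dual.inD R R) ≅
      (Rψ.obj (DTen.unit (MvPolynomial (Fin n) R)))⟦(n : ℤ)⟧ :=
    (shiftFunctor _ (n : ℤ)).mapIso (Rψ.mapIso eN)
  have hs : Function.Surjective (algebraMap (MvPolynomial (Fin n) R) A) := hψ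
  have hb := bijective_smul_id_rightAdj_unit (R := MvPolynomial (Fin n) R) (A := A) Rψ adj hs
    E a b hE hp e
  refine ⟨bijective_smul_id_of_iso ι.symm (bijective_smul_id_shift _ _ hb), fun i hi => ?_⟩
  exact subsingleton_hom_shift_of_iso ι.symm i (subsingleton_hom_shift_shift _ _ i
    (subsingleton_hom_shift_rightAdj_unit (R := MvPolynomial (Fin n) R) (A := A) Rψ adj
      E a b hE hp e i hi))

include hψ adj in
/-- (d): the base change of `ω_{A/R}` to a fibre is dualizing -/
theorem isDualizing_baseChange_shriekVia_self (k : Type u) [Field k] [Algebra R k]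
    [DRing.HasLBaseChange (Algebra.TensorProduct.includeRight : A →ₐ[R] k ⊗[R] A).toRingHom] :
    Dual.IsDualizing (k ⊗[R] A) ((DRing.LBaseChange
      (Algebra.TensorProduct.includeRight : A →ₐ[R] k ⊗[R] A).toRingHom).obj
      (Dual2.shriekVia n Rψ (Dual.inD R R))) := by
  haveI : DRing.HasLBaseChange (algebraMap R k) := Om.hasLBaseChange _
  haveI : DRing.HasLBaseChange (algebraMap k (MvPolynomial (Fin n) k)) := Om.hasLBaseChange _
  let ψ' : MvPolynomial (Fin n) k →ₐ[k] (k ⊗[R] A) := psiBC R k A n ψ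
  have hψ' : Function.Surjective ψ' := psiBC_surjective R k A n ψ hψ
  haveI : IsNoetherianRing (k ⊗[R] A) :=
    isNoetherianRing_of_surjective _ _ ψ'.toRingHom hψ'
  let Rψ' := coextD ψ'.toRingHom
  let adj' := coextAdj ψ'.toRingHom
  obtain ⟨c⟩ := nonempty_shriekVia_baseChange_iso R k A n ψ hψ Rψ adj n ψ' hψ' Rψ' adj'
    (Dual.inD R R)
  haveI := isKProjective_unit' R
  let sR : Dual.inD R R ≅ DTen.unit R :=
    (DerivedCategory.singleFunctorIsoCompQ (ModuleCat.{u} R) 0).app (ModuleCat.of R R)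
  let sk : Dual.inD k k ≅ DTen.unit k :=
    (DerivedCategory.singleFunctorIsoCompQ (ModuleCat.{u} k) 0).app (ModuleCat.of k k)
  let u : (DRing.LBaseChange (algebraMap R k)).obj (Dual.inD R R) ≅ Dual.inD k k :=
    (DRing.LBaseChange (algebraMap R k)).mapIso sR ≪≫
      LBaseChangeIso (algebraMap R k) (𝟙_ (DRing.Cx R)) ≪≫
      DerivedCategory.Q.mapIso (DuF.uι (R := R) (S := k)) ≪≫ sk.symm
  have hk : Dual.IsDualizing k (Dual.inD k k) :=
    (Groth.Agent.S11179.result k).1 (Groth.Agent.Lib.Helper4.GorFlat.gor_field k)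
  have h1 := Bid.isDualizing_shriekVia k (k ⊗[R] A) n ψ' hψ' Rψ' adj' (Dual.inD k k) hk
  let c' : Dual2.shriekVia n Rψ' ((DRing.LBaseChange (algebraMap R k)).obj (Dual.inD R R)) ≅
      Dual2.shriekVia n Rψ' (Dual.inD k k) :=
    (shiftFunctor _ (n : ℤ)).mapIso (Rψ'.mapIso
      ((DRing.LBaseChange (algebraMap k (MvPolynomial (Fin n) k))).mapIso u))
  exact isDualizing_of_iso (c ≪≫ c').symm h1

end

end Du

end Groth.Agent.Lib.Helper18.DR
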