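import Mathlib
import Groth.Agent.Lib.Helper18.DuM

/-!
# Derived base change: composition, shifts, the unit (helper18)
-/

set_option autoImplicit false
set_option linter.style.haveILetI false
universe u
open CategoryTheory CategoryTheory.Limits CategoryTheory.Pretriangulated DerivedCategory
  MonoidalCategory

attribute [local instance] HasDerivedCategory.standard

namespace Groth.Agent.Lib.Helper18.DR

namespace Gf

open DTen Shr HomBC

section comp

variable {R₁ R₂ R₃ : Type u} [CommRing R₁] [CommRing R₂] [CommRing R₃]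

/-- derived base change is compatible with composition of ring maps -/
noncomputable def lbcCompIso (f : R₁ →+* R₂) (g : R₂ →+* R₃) (gf : R₁ →+* R₃)
    (h : gf = g.comp f) [DRing.HasLBaseChange f] [DRing.HasLBaseChange g]
    [DRing.HasLBaseChange gf] :
    DRing.LBaseChange gf ≅ DRing.LBaseChange f ⋙ DRing.LBaseChange g :=
  Bid.leftAdjCompIso f g gf h _ _ _ (LBCAdj.adjD f) (LBCAdj.adjD g) (LBCAdj.adjD gf)

end comp

section unit

variable {A B : Type u} [CommRing A] [CommRing B] (φ : A →+* B) [DRing.HasLBaseChange φ]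

/-- `A[0] ⊗^L_A B ≅ B[0]` -/
noncomputable def lbcUnitIso : (DRing.LBaseChange φ).obj (Dual.inD A A) ≅ Dual.inD B B :=
  letI := φ.toAlgebra
  haveI := Du.isKProjective_unit' A
  (DRing.LBaseChange φ).mapIso
      ((DerivedCategory.singleFunctorIsoCompQ (ModuleCat.{u} A) 0).app (ModuleCat.of A A)) ≪≫
    LBaseChangeIso φ (𝟙_ (DRing.Cx A)) ≪≫
    DerivedCategory.Q.mapIso (DuF.uι (R := A) (S := B)) ≪≫
    ((DerivedCategory.singleFunctorIsoCompQ (ModuleCat.{u} B) 0).app (ModuleCat.of B B)).symm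

/-- derived base change commutes with shifts -/
noncomputable def lbcShiftIso (X : Dual.D A) (n : ℤ) :
    (DRing.LBaseChange φ).obj (X⟦n⟧) ≅ ((DRing.LBaseChange φ).obj X)⟦n⟧ :=
  leftAdjShiftIso φ _ (LBCAdj.adjD φ) X n

/-- `A[n] ⊗^L_A B ≅ B[n]` -/
noncomputable def lbcShiftUnitIso (n : ℤ) :
    (DRing.LBaseChange φ).obj ((Dual.inD A A)⟦n⟧) ≅ (Dual.inD B B)⟦n⟧ :=
  lbcShiftIso φ _ n ≪≫ (shiftFunctor _ n).mapIso (lbcUnitIso φ)

end unit

end Gf

end Groth.Agent.Lib.Helper18.DR
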