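import Mathlib
import Groth.Agent.Lib.Helper18.ShrH

/-!
# More operations on `IsShriek` (helper18)
-/

set_option autoImplicit false
set_option linter.style.haveILetI false
universe u
open CategoryTheory CategoryTheory.Limits CategoryTheory.Pretriangulated DerivedCategory

attribute [local instance] HasDerivedCategory.standard

namespace Groth.Agent.Lib.Helper18.DR

namespace Shr

variable {R Q A : Type u} [CommRing R] [CommRing Q] [CommRing A]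
  {a : R →+* Q} {b : Q →+* A} {d : ℤ} {K : Dual.D R} {X : Dual.D A}

/-- passing to a quotient `π : Q → Q'` of the middle ring with `R_π (L K) ≅ (L' K)[-e]` -/
theorem IsShriek.gstep (h : IsShriek a b d K X) {Qb : Type u} [CommRing Qb] (π : Q →+* Qb)
    (bb : Qb →+* A) (hb : b = bb.comp π) (c : R →+* Qb) (e : ℤ)
    (Lb : Dual.D R ⥤ Dual.D Qb) (adjLb : Lb ⊣ DRing.restrictD c)
    (hgood : ∀ (L : Dual.D R ⥤ Dual.D Q) (_ : L ⊣ DRing.restrictD a)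
      (Rπ : Dual.D Q ⥤ Dual.D Qb) (_ : DRing.restrictD π ⊣ Rπ),
      Nonempty (Rπ.obj (L.obj K) ≅ (Lb.obj K)⟦-e⟧)) :
    IsShriek c bb (d - e) K X := by
  obtain ⟨L, adjL, Rb, adjR, ⟨e0⟩⟩ := h
  let adj' : DRing.restrictD b ⊣ coextD π ⋙ coextD bb :=
    ((coextAdj bb).comp (coextAdj π)).ofNatIsoLeft (resCompIso π bb b hb).symm
  let u : Rb ≅ coextD π ⋙ coextD bb := adjR.rightAdjointUniq adj'
  obtain ⟨g⟩ := hgood L adjL (coextD π) (coextAdj π)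
  refine ⟨Lb, adjLb, coextD bb, coextAdj bb, ⟨?_⟩⟩
  exact e0 ≪≫ (shiftFunctor (Dual.D A) d).mapIso
    (u.app (L.obj K) ≪≫ (coextD bb).mapIso g ≪≫
      rightAdjShiftIso bb (coextD bb) (coextAdj bb) (Lb.obj K) (-e)) ≪≫
    ((shiftFunctorAdd' (Dual.D A) (-e) d (d - e) (by omega)).app
      ((coextD bb).obj (Lb.obj K))).symm

/-- factoring the first map -/
theorem IsShriek.factor (h : IsShriek a b d K X) {R₁ : Type u} [CommRing R₁]
    (a₁ : R →+* R₁) (a₂ : R₁ →+* Q) (ha : a = a₂.comp a₁)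
    (L₁ : Dual.D R ⥤ Dual.D R₁) (adj₁ : L₁ ⊣ DRing.restrictD a₁)
    (L₂ : Dual.D R₁ ⥤ Dual.D Q) (adj₂ : L₂ ⊣ DRing.restrictD a₂) :
    IsShriek a₂ b d (L₁.obj K) X := by
  obtain ⟨L, adjL, Rb, adjR, ⟨e0⟩⟩ := h
  let adj' : L₁ ⋙ L₂ ⊣ DRing.restrictD a :=
    (adj₁.comp adj₂).ofNatIsoRight (resCompIso a₁ a₂ a ha).symm
  let u : L ≅ L₁ ⋙ L₂ := adjL.leftAdjointUniq adj'
  exact ⟨L₂, adj₂, Rb, adjR, ⟨e0 ≪≫ (shiftFunctor (Dual.D A) d).mapIso
    (Rb.mapIso (u.app K))⟩⟩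

/-- the trivial case: no variables -/
theorem IsShriek.of_id {b' : R →+* A} {X' : Dual.D A} (h : IsShriek (RingHom.id R) b' 0 K X')
    (R' : Dual.D R ⥤ Dual.D A) (adjR' : DRing.restrictD b' ⊣ R') :
    Nonempty (X' ≅ R'.obj K) := by
  obtain ⟨L, adjL, Rb, adjR, ⟨e0⟩⟩ := h
  let adj' : 𝟭 (Dual.D R) ⊣ DRing.restrictD (RingHom.id R) :=
    (Adjunction.id).ofNatIsoRight (resIdIso (RingHom.id R) rfl).symm
  let u : L ≅ 𝟭 (Dual.D R) := adjL.leftAdjointUniq adj'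
  exact ⟨e0 ≪≫ (shiftFunctorZero (Dual.D A) ℤ).app _ ≪≫ Rb.mapIso (u.app K) ≪≫
    (adjR.rightAdjointUniq adjR').app K⟩

end Shr

end Groth.Agent.Lib.Helper18.DR
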