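import Mathlib
import Groth.Agent.Lib.Helper18.CoextHom
import Groth.Agent.Lib.Helper18.DRExt2

/-!
# Frobenius algebras: `B ⊗_C M ≅ Hom_C(B, M)` for a finite projective `C`-algebra `B` with a
nondegenerate functional `λ : B → C` (helper18)
-/

set_option autoImplicit false
set_option linter.style.haveILetI false
universe u
open CategoryTheory CategoryTheory.Limits
open TensorProduct

namespace Groth.Agent.Lib.Helper18.DR

namespace Frob

open Coext CoextHom

variable {C B : Type u} [CommRing C] [CommRing B] [Algebra C B] (lam : B →ₗ[C] C)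

/-- `b ↦ λ(b ·)` -/
noncomputable def frobT : B →ₗ[C] Module.Dual C B := (LinearMap.mul C B).compr₂ lam

lemma frobT_apply (x y : B) : frobT lam x y = lam (x * y) := rfl

section lin

variable [Module.Finite C B] [Module.Projective C B] (hT : Function.Bijective (frobT lam))
  (M : Type u) [AddCommGroup M] [Module C M]

/-- the `C`-linear equivalence `B ⊗ M ≃ Hom_C(B, M)` -/
noncomputable def frobLin : B ⊗[C] M ≃ₗ[C] (B →ₗ[C] M) :=
  (TensorProduct.congr (LinearEquiv.ofBijective (frobT lam) hT) (LinearEquiv.refl C M)) ≪≫ₗ
    dualTensorHomEquiv C B M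

lemma frobLin_tmul (b : B) (m : M) (b' : B) :
    frobLin lam hT M (b ⊗ₜ[C] m) b' = lam (b * b') • m := rfl

end lin

section cat

variable (M : ModuleCat.{u} C)

/-- the `C`-linear map `B ⊗ M → M`, `b ⊗ m ↦ λ(b) m` -/
noncomputable def tauLin :
    ((ModuleCat.restrictScalars.{u} (algebraMap C B)).obj ((extM (A := C) (B := B)).obj M) :
      Type u) →ₗ[C] (M : Type u) where
  toFun x := TensorProduct.lid C M ((lam.rTensor M) (extMEquiv (A := C) (B := B) M x))
  map_add' x y := by
    have h : extMEquiv (A := C) (B := B) M (x + y) =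
        extMEquiv (A := C) (B := B) M x + extMEquiv (A := C) (B := B) M y :=
      map_add (extMEquiv (A := C) (B := B) M) x y
    rw [h, map_add, map_add]
  map_smul' c x := by
    have h : extMEquiv (A := C) (B := B) M (c • x) =
        c • extMEquiv (A := C) (B := B) M x := by
      have h1 : extMEquiv (A := C) (B := B) M (algebraMap C B c • (show
          ((extM (A := C) (B := B)).obj M : Type u) from x)) =
          algebraMap C B c • extMEquiv (A := C) (B := B) M x :=
        map_smul (extMEquiv (A := C) (B := B) M) (algebraMap C B c) x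
      have h2 : algebraMap C B c • extMEquiv (A := C) (B := B) M x =
          c • extMEquiv (A := C) (B := B) M x := algebraMap_smul B c _
      exact h1.trans h2
    rw [h, map_smul, map_smul, RingHom.id_apply]

/-- `τ : res (B ⊗ M) → M` -/
noncomputable def tau :
    (ModuleCat.restrictScalars.{u} (algebraMap C B)).obj ((extM (A := C) (B := B)).obj M) ⟶ M :=
  ModuleCat.ofHom (X := (ModuleCat.restrictScalars.{u} (algebraMap C B)).obj
    ((extM (A := C) (B := B)).obj M)) (tauLin lam M)

/-- the Frobenius map `B ⊗ M → Hom_C(B, M)`, `b ⊗ m ↦ (b' ↦ λ(b' b) m)` -/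
noncomputable def frobHom :
    (extM (A := C) (B := B)).obj M ⟶ (coextM (algebraMap C B)).obj M :=
  ModuleCat.RestrictionCoextensionAdj.HomEquiv.fromRestriction.{u, u, u} (algebraMap C B)
    (tau lam M)

lemma frobHom_apply (x : (extM (A := C) (B := B)).obj M) (b' : B) :
    ModuleCat.CoextendScalars.equiv (algebraMap C B) M ((frobHom lam M).hom x) b' =
      TensorProduct.lid C M ((lam.rTensor M) (extMEquiv (A := C) (B := B) M (b' • x))) := rfl

lemma frobHom_symm_tmul (b : B) (m : M) (b' : B) :
    ModuleCat.CoextendScalars.equiv (algebraMap C B) M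
      ((frobHom lam M).hom ((extMEquiv (A := C) (B := B) M).symm (b ⊗ₜ[C] m))) b' =
      lam (b' * b) • m := by
  rw [frobHom_apply, ← map_smul, LinearEquiv.apply_symm_apply, TensorProduct.smul_tmul',
    LinearMap.rTensor_tmul, TensorProduct.lid_tmul, smul_eq_mul]

end cat

end Frob

end Groth.Agent.Lib.Helper18.DR
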