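import Mathlib
import Groth.Agent.Lib.Helper18.FrobA
import Groth.Agent.Lib.Helper18.ShrB

/-!
# Frobenius algebras: `R Hom_C(B, K) ≅ K ⊗_C B` (helper18)
-/

set_option autoImplicit false
set_option linter.style.haveILetI false
universe u
open CategoryTheory CategoryTheory.Limits CategoryTheory.Pretriangulated DerivedCategory
open TensorProduct

attribute [local instance] HasDerivedCategory.standard

namespace Groth.Agent.Lib.Helper18.DR

namespace Frob

open Coext CoextHom

variable {C B : Type u} [CommRing C] [CommRing B] [Algebra C B] (lam : B →ₗ[C] C)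

section bij

variable (M : ModuleCat.{u} C)

/-- the underlying linear map `B → M` of an element of `Hom_C(B, M)` -/
noncomputable def uLin (g : (coextM (algebraMap C B)).obj M) : B →ₗ[C] (M : Type u) :=
  (coextToLin (algebraMap C B) M g).comp (resBEquiv (A := C) (B := B)).symm.toLinearMap

lemma uLin_apply (g : (coextM (algebraMap C B)).obj M) (b' : B) :
    uLin M g b' = ModuleCat.CoextendScalars.equiv (algebraMap C B) M g b' := rfl

lemma uLin_add (g g' : (coextM (algebraMap C B)).obj M) :
    uLin M (g + g') = uLin M g + uLin M g' := by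
  refine LinearMap.ext fun b' => ?_
  change ModuleCat.CoextendScalars.equiv (algebraMap C B) M (g + g') b' = _
  rw [map_add]
  rfl

lemma uLin_zero : uLin M (0 : (coextM (algebraMap C B)).obj M) = 0 := by
  refine LinearMap.ext fun b' => ?_
  change ModuleCat.CoextendScalars.equiv (algebraMap C B) M 0 b' = _
  rw [map_zero]
  rfl

lemma uLin_injective : Function.Injective (uLin (B := B) M) := by
  intro g g' h
  apply ModuleCat.CoextendScalars.ext
  refine LinearMap.ext fun b' => ?_
  exact LinearMap.congr_fun h b'

variable [Module.Finite C B] [Module.Projective C B] (hT : Function.Bijective (frobT lam))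

lemma uLin_frobHom_symm (y : B ⊗[C] (M : Type u)) :
    uLin M ((frobHom lam M).hom ((extMEquiv (A := C) (B := B) M).symm y)) =
      frobLin lam hT M y := by
  induction y using TensorProduct.induction_on with
  | zero => rw [map_zero, map_zero, map_zero, uLin_zero]
  | tmul b m =>
    refine LinearMap.ext fun b' => ?_
    rw [uLin_apply, frobHom_symm_tmul, frobLin_tmul, mul_comm]
  | add y y' hy hy' => rw [map_add, map_add, uLin_add, hy, hy', map_add]

lemma uLin_frobHom (x : (extM (A := C) (B := B)).obj M) :
    uLin M ((frobHom lam M).hom x) = frobLin lam hT M (extMEquiv (A := C) (B := B) M x) := by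
  rw [← uLin_frobHom_symm, LinearEquiv.symm_apply_apply]

include hT in
lemma frobHom_bijective : Function.Bijective (frobHom lam M).hom := by
  constructor
  · intro x x' h
    have h1 : frobLin lam hT M (extMEquiv (A := C) (B := B) M x) =
        frobLin lam hT M (extMEquiv (A := C) (B := B) M x') := by
      rw [← uLin_frobHom, ← uLin_frobHom, h]
    exact (extMEquiv (A := C) (B := B) M).injective ((frobLin lam hT M).injective h1)
  · intro g
    refine ⟨(extMEquiv (A := C) (B := B) M).symm ((frobLin lam hT M).symm (uLin M g)), ?_⟩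
    apply uLin_injective M
    rw [uLin_frobHom_symm lam M hT, LinearEquiv.apply_symm_apply]

include hT in
lemma isIso_frobHom : IsIso (frobHom lam M) :=
  (ConcreteCategory.isIso_iff_bijective (frobHom lam M)).2 (frobHom_bijective lam M hT)

end bij

lemma frobHom_naturality {M M' : ModuleCat.{u} C} (h : M ⟶ M') :
    frobHom lam M ≫ (coextM (algebraMap C B)).map h =
      (extM (A := C) (B := B)).map h ≫ frobHom lam M' := by
  apply ModuleCat.ExtendScalars.hom_ext
  intro m
  apply ModuleCat.CoextendScalars.ext
  refine LinearMap.ext fun b' => ?_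
  have e1 : ((1 : B) ⊗ₜ[C] m : (extM (A := C) (B := B)).obj M) =
      (extMEquiv (A := C) (B := B) M).symm ((1 : B) ⊗ₜ[C] m) :=
    ((LinearEquiv.symm_apply_eq _).2 rfl).symm
  have e2 : ((1 : B) ⊗ₜ[C] h.hom m : (extM (A := C) (B := B)).obj M') =
      (extMEquiv (A := C) (B := B) M').symm ((1 : B) ⊗ₜ[C] h.hom m) :=
    ((LinearEquiv.symm_apply_eq _).2 rfl).symm
  change h.hom (ModuleCat.CoextendScalars.equiv (algebraMap C B) M
      ((frobHom lam M).hom ((1 : B) ⊗ₜ[C] m)) b') =
    ModuleCat.CoextendScalars.equiv (algebraMap C B) M'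
      ((frobHom lam M').hom ((1 : B) ⊗ₜ[C] h.hom m)) b'
  rw [e1, e2, frobHom_symm_tmul, frobHom_symm_tmul, map_smul]

section derived

variable [Module.Finite C B] [Module.Projective C B] (hT : Function.Bijective (frobT lam))

/-- the isomorphism of complexes `E ⊗_C B ≅ Hom_C(B, E)` -/
noncomputable def frobCxIso (E : DRing.Cx C) :
    (mapCx (extM (A := C) (B := B))).obj E ≅ (coextCx (algebraMap C B)).obj E :=
  HomologicalComplex.Hom.isoOfComponents
    (fun i => @asIso _ _ _ _ (frobHom lam (E.X i)) (isIso_frobHom lam (E.X i) hT))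
    (fun i k _ => frobHom_naturality lam (E.d i k))

include hT in
/-- for a Frobenius algebra, coextension and extension of scalars agree on derived categories -/
theorem nonempty_rightAdj_iso_extD (Rc : Dual.D C ⥤ Dual.D B)
    (adj : DRing.restrictD (algebraMap C B) ⊣ Rc) (K : Dual.D C) :
    Nonempty (Rc.obj K ≅ (extD C B).obj K) := by
  obtain ⟨E, ⟨e⟩⟩ : ∃ E : DRing.Cx C, Nonempty (DRing.toD E ≅ K) :=
    ⟨DerivedCategory.Q.objPreimage K, ⟨DerivedCategory.Q.objObjPreimageIso K⟩⟩
  obtain ⟨I, j, hI, hj, -, -⟩ := Groth.Agent.Lib.Helper2.KInj.exists_kInjective_resolution E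
  haveI := hI
  haveI := hj
  let e' : DRing.toD I ≅ K := (asIso (DerivedCategory.Q.map j)).symm ≪≫ e
  exact ⟨Rc.mapIso e'.symm ≪≫ (rightAdjointIso (algebraMap C B) Rc adj I).symm ≪≫
    DerivedCategory.Q.mapIso (frobCxIso lam hT I).symm ≪≫
    (mapDToDIso (extM (A := C) (B := B)) I).symm ≪≫ (extD C B).mapIso e'⟩

end derived

end Frob

end Groth.Agent.Lib.Helper18.DR
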