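import Mathlib
import Groth.Agent.Lib.Helper18.FrobB

/-!
# `C[x]/(f)` for monic `f` is a Frobenius `C`-algebra (helper18)
-/

set_option autoImplicit false
set_option linter.style.haveILetI false
universe u
open CategoryTheory CategoryTheory.Limits
open Polynomial

attribute [local instance] HasDerivedCategory.standard

namespace Groth.Agent.Lib.Helper18.DR
namespace Frob

variable {C : Type u} [CommRing C] (f : C[X]) (hf : f.Monic) (hd : 0 < f.natDegree)

/-- the coefficient of `x^{d-1}` -/
noncomputable def lamAR : AdjoinRoot f →ₗ[C] C :=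
  (AdjoinRoot.powerBasis' hf).basis.coord ⟨f.natDegree - 1, by
    change f.natDegree - 1 < f.natDegree
    omega⟩

lemma lamAR_root_pow (k : ℕ) (hk : k < f.natDegree) :
    lamAR f hf hd (AdjoinRoot.root f ^ k) = if k = f.natDegree - 1 then 1 else 0 := by
  have h1 : AdjoinRoot.root f ^ k = (AdjoinRoot.powerBasis' hf).basis ⟨k, hk⟩ := by
    rw [PowerBasis.basis_eq_pow]
    rfl
  rw [h1]
  unfold lamAR
  rw [Module.Basis.coord_apply, Module.Basis.repr_self, Finsupp.single_apply]
  by_cases h : k = f.natDegree - 1
  · rw [if_pos h, if_pos (Fin.ext h)]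
  · rw [if_neg h, if_neg (fun h' => h (Fin.ext_iff.1 h'))]


lemma frobT_lamAR_bijective : Function.Bijective (frobT (lamAR f hf hd)) := by
  classical
  let b : Module.Basis (Fin f.natDegree) C (AdjoinRoot f) := (AdjoinRoot.powerBasis' hf).basis
  have hb : ∀ i : Fin f.natDegree, b i = AdjoinRoot.root f ^ (i : ℕ) := fun i =>
    (AdjoinRoot.powerBasis' hf).basis_eq_pow i
  have hM : ∀ i j : Fin f.natDegree,
      LinearMap.toMatrix b b.dualBasis (frobT (lamAR f hf hd)) i j =
        lamAR f hf hd (AdjoinRoot.root f ^ ((j : ℕ) + (i : ℕ))) := by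
    intro i j
    rw [LinearMap.toMatrix_apply, Module.Basis.dualBasis_repr, frobT_apply, hb, hb, ← pow_add]
  have hdet : IsUnit (LinearMap.toMatrix b b.dualBasis (frobT (lamAR f hf hd))).det := by
    have h1 : ((LinearMap.toMatrix b b.dualBasis (frobT (lamAR f hf hd))).submatrix id
        Fin.revPerm).det = 1 := by
      rw [Matrix.det_of_isLowerTriangular]
      · apply Finset.prod_eq_one
        intro i _
        rw [Matrix.submatrix_apply, id, hM, Fin.revPerm_apply, Fin.val_rev, lamAR_root_pow,
          if_pos]
        · have := i.2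
          omega
        · have := i.2
          omega
      · intro i j hij
        have hij' : (i : ℕ) < (j : ℕ) := hij
        rw [Matrix.submatrix_apply, id, hM, Fin.revPerm_apply, Fin.val_rev, lamAR_root_pow,
          if_neg]
        · have := j.2
          omega
        · have := j.2
          omega
    rw [Matrix.det_permute'] at h1
    exact IsUnit.of_mul_eq_one_right _ h1
  exact (LinearEquiv.ofIsUnitDet hdet).bijective


include hf hd in
/-- `R Hom_C(C[x]/(f), K) ≅ K ⊗_C C[x]/(f)` for monic `f` of positive degree -/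
theorem nonempty_rightAdj_iso_extD_adjoinRoot [Module.Flat C (AdjoinRoot f)]
    (Rc : Dual.D C ⥤ Dual.D (AdjoinRoot f))
    (adj : DRing.restrictD (algebraMap C (AdjoinRoot f)) ⊣ Rc) (K : Dual.D C) :
    Nonempty (Rc.obj K ≅ (extD C (AdjoinRoot f)).obj K) := by
  haveI : Module.Finite C (AdjoinRoot f) := Module.Finite.of_basis (AdjoinRoot.powerBasis' hf).basis
  haveI : Module.Free C (AdjoinRoot f) := Module.Free.of_basis (AdjoinRoot.powerBasis' hf).basis
  exact nonempty_rightAdj_iso_extD (lamAR f hf hd) (frobT_lamAR_bijective f hf hd) Rc adj K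

end Frob

end Groth.Agent.Lib.Helper18.DR
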