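import Mathlib
import Groth.Agent.Lib.Helper18.FinA
import Groth.Agent.Lib.Helper18.CiD
import Groth.Agent.Lib.Helper18.FrobC

/-!
# The upper shriek of a finite morphism is the right adjoint of restriction (helper18)
-/

set_option autoImplicit false
set_option linter.style.haveILetI false
universe u
open CategoryTheory CategoryTheory.Limits CategoryTheory.Pretriangulated DerivedCategory
open Polynomial

attribute [local instance] HasDerivedCategory.standard

namespace Groth.Agent.Lib.Helper18.DR

namespace Shr

section ring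

variable {R : Type u} [CommRing R] (ι : Type) (f : R[X])

/-- `R[X][x_i] → (R[X]/f)[x_i]` -/
noncomputable def piMap : MvPolynomial ι R[X] →+* MvPolynomial ι (AdjoinRoot f) :=
  MvPolynomial.map (AdjoinRoot.mk f)

lemma piMap_surjective : Function.Surjective (piMap ι f) :=
  MvPolynomial.map_surjective _ AdjoinRoot.mk_surjective

lemma ker_piMap : RingHom.ker (piMap ι f) = Ideal.span {MvPolynomial.C f} := by
  have h : RingHom.ker (AdjoinRoot.mk f) = Ideal.span {f} := Ideal.mk_ker
  rw [piMap, MvPolynomial.ker_map, h, Ideal.map_span, Set.image_singleton]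

lemma C_mem_nonZeroDivisors (hf : f.Monic) :
    (MvPolynomial.C f : MvPolynomial ι R[X]) ∈ nonZeroDivisors (MvPolynomial ι R[X]) := by
  rw [mem_nonZeroDivisors_iff_right]
  intro p hp
  refine MvPolynomial.ext _ _ fun m => ?_
  have h1 := congrArg (MvPolynomial.coeff m) hp
  rw [mul_comm, MvPolynomial.coeff_C_mul, MvPolynomial.coeff_zero] at h1
  rw [MvPolynomial.coeff_zero]
  exact (mul_left_mem_nonZeroDivisors_eq_zero_iff hf.mem_nonZeroDivisors).1 h1

lemma piMap_algebraMap (r : R) :
    piMap ι f (algebraMap R (MvPolynomial ι R[X]) r) =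
      algebraMap R (MvPolynomial ι (AdjoinRoot f)) r := by
  rw [piMap, MvPolynomial.algebraMap_apply, MvPolynomial.map_C, MvPolynomial.algebraMap_apply,
    Polynomial.algebraMap_apply, Algebra.algebraMap_self_apply, AdjoinRoot.mk_C,
    AdjoinRoot.algebraMap_eq]

end ring

lemma isZero_of_subsingleton_ring (A : Type u) [CommRing A] [Subsingleton A] (X : Dual.D A) :
    IsZero X := by
  rw [IsZero.iff_id_eq_zero]
  haveI : IsIso (0 : X ⟶ X) := by
    rw [DerivedCategory.isIso_iff]
    intro n
    haveI : Subsingleton ((DerivedCategory.homologyFunctor (ModuleCat.{u} A) n).obj X) :=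
      Module.subsingleton A _
    have hz : IsZero ((DerivedCategory.homologyFunctor (ModuleCat.{u} A) n).obj X) :=
      ModuleCat.isZero_of_subsingleton _
    exact ⟨⟨0, hz.eq_of_src _ _, hz.eq_of_src _ _⟩⟩
  rw [← IsIso.hom_inv_id (0 : X ⟶ X), Limits.zero_comp]

end Shr

end Groth.Agent.Lib.Helper18.DR
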