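import Mathlib
import Groth.Agent.Lib.Helper18.FinB

/-!
# The upper shriek of a finite morphism is the right adjoint of restriction, II (helper18)
-/

set_option autoImplicit false
set_option linter.style.haveILetI false
universe u
open CategoryTheory CategoryTheory.Limits CategoryTheory.Pretriangulated DerivedCategory
open Polynomial

attribute [local instance] HasDerivedCategory.standard

namespace Groth.Agent.Lib.Helper18.DR

namespace Shr

/-- the statement proved by induction on the number of variables -/
def FinShriek (ι : Type) : Prop :=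
  ∀ (R A : Type u) [CommRing R] [CommRing A] [Algebra R A] (v : ι → A)
    (_ : ∀ i, IsIntegral R (v i)) (K : Dual.D R) (X : Dual.D A)
    (_ : ShriekVia R A ι v (Nat.card ι : ℤ) K X) (R' : Dual.D R ⥤ Dual.D A)
    (_ : DRing.restrictD (algebraMap R A) ⊣ R'), Nonempty (X ≅ R'.obj K)

lemma finShriek_of_equiv {α β : Type} (e : α ≃ β) (h : FinShriek.{u} α) : FinShriek.{u} β := by
  intro R A _ _ _ v hv K X hX R' adjR
  have h1 := hX.rename e.symm
  refine h R A (v ∘ e) (fun i => hv (e i)) K X (h1.congr ?_ ?_) R' adjR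
  · rfl
  · rw [Nat.card_congr e]

lemma finShriek_pempty : FinShriek.{u} PEmpty := by
  intro R A _ _ _ v hv K X hX R' adjR
  have h1 := IsShriek.transport hX (MvPolynomial.isEmptyAlgEquiv R PEmpty).toRingEquiv
  refine IsShriek.of_id (IsShriek.congr h1 ?_ ?_ ?_) R' adjR
  · refine RingHom.ext fun r => ?_
    change r = (MvPolynomial.isEmptyAlgEquiv R PEmpty) (algebraMap R (MvPolynomial PEmpty R) r)
    rw [AlgEquiv.commutes]
    rfl
  · refine RingHom.ext fun r => ?_
    change algebraMap R A r = MvPolynomial.aeval v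
      ((MvPolynomial.isEmptyAlgEquiv R PEmpty).symm r)
    have h2 : (MvPolynomial.isEmptyAlgEquiv R PEmpty).symm r =
        algebraMap R (MvPolynomial PEmpty R) r :=
      (MvPolynomial.isEmptyAlgEquiv R PEmpty).symm.commutes r
    rw [h2, AlgHom.commutes]
  · simp

lemma finShriek_option {α : Type} [Finite α] (hα : FinShriek.{u} α) :
    FinShriek.{u} (Option α) := by
  intro R A _ _ _ w hw K X hX R' adjR
  rcases subsingleton_or_nontrivial R with hR | hR
  · haveI : Subsingleton A := by
      refine ⟨fun x y => ?_⟩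
      have h1 : (1 : A) = 0 := by
        rw [← map_one (algebraMap R A), Subsingleton.elim (1 : R) 0, map_zero]
      rw [← one_mul x, ← one_mul y, h1, zero_mul, zero_mul]
    exact ⟨(isZero_of_subsingleton_ring A X).iso (isZero_of_subsingleton_ring A _)⟩
  obtain ⟨f₀, hf₀, hfg₀⟩ := hw none
  let f : R[X] := f₀ * Polynomial.X
  have hf : f.Monic := hf₀.mul Polynomial.monic_X
  have hd : 0 < f.natDegree := by
    have : f.natDegree = f₀.natDegree + 1 := Polynomial.natDegree_mul_X hf₀.ne_zero
    omega
  have hfg : f.eval₂ (algebraMap R A) (w none) = 0 := by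
    change (f₀ * Polynomial.X).eval₂ (algebraMap R A) (w none) = 0
    rw [Polynomial.eval₂_mul, hfg₀, zero_mul]
  letI algBA : Algebra (AdjoinRoot f) A := (AdjoinRoot.lift (algebraMap R A) (w none) hfg).toAlgebra
  haveI tower : IsScalarTower R (AdjoinRoot f) A := IsScalarTower.of_algebraMap_eq (fun r => by
    rw [RingHom.algebraMap_toAlgebra, AdjoinRoot.algebraMap_eq, AdjoinRoot.lift_of])
  letI algQ : Algebra (MvPolynomial α R[X]) (MvPolynomial α (AdjoinRoot f)) :=
    (piMap α f).toAlgebra
  haveI towerQ : IsScalarTower R (MvPolynomial α R[X]) (MvPolynomial α (AdjoinRoot f)) :=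
    IsScalarTower.of_algebraMap_eq (fun r => (piMap_algebraMap α f r).symm)
  haveI : Module.Free R (AdjoinRoot f) := Module.Free.of_basis (AdjoinRoot.powerBasis' hf).basis
  haveI : Module.Flat R (MvPolynomial α R[X]) := Module.Flat.trans R R[X] _
  haveI : Module.Flat R (MvPolynomial α (AdjoinRoot f)) := Module.Flat.trans R (AdjoinRoot f) _
  -- step 1: transport to `R[X][x_i]`
  have h1 := IsShriek.transport hX (MvPolynomial.optionEquivRight R α).toRingEquiv
  let b₂ : MvPolynomial α (AdjoinRoot f) →+* A :=
    (MvPolynomial.aeval (w ∘ some) : MvPolynomial α (AdjoinRoot f) →ₐ[AdjoinRoot f] A).toRingHom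
  have hb0 : (b₂.comp (piMap α f)).comp
      (MvPolynomial.optionEquivRight R α).toRingEquiv.toRingHom =
      (MvPolynomial.aeval w : MvPolynomial (Option α) R →ₐ[R] A).toRingHom := by
    apply MvPolynomial.ringHom_ext
    · intro r
      change MvPolynomial.aeval (w ∘ some) (piMap α f
        (MvPolynomial.optionEquivRight R α (MvPolynomial.C r))) =
        MvPolynomial.aeval w (MvPolynomial.C r)
      rw [MvPolynomial.optionEquivRight_C, piMap, MvPolynomial.map_C, MvPolynomial.aeval_C,
        MvPolynomial.aeval_C, AdjoinRoot.mk_C, RingHom.algebraMap_toAlgebra, AdjoinRoot.lift_of]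
    · intro o
      change MvPolynomial.aeval (w ∘ some) (piMap α f
        (MvPolynomial.optionEquivRight R α (MvPolynomial.X o))) =
        MvPolynomial.aeval w (MvPolynomial.X o)
      cases o with
      | none =>
        rw [MvPolynomial.optionEquivRight_X_none, piMap, MvPolynomial.map_C, MvPolynomial.aeval_C,
          MvPolynomial.aeval_X, AdjoinRoot.mk_X, RingHom.algebraMap_toAlgebra,
          AdjoinRoot.lift_root]
      | some i =>
        rw [MvPolynomial.optionEquivRight_X_some, piMap, MvPolynomial.map_X,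
          MvPolynomial.aeval_X, MvPolynomial.aeval_X]
        rfl
  have h2 : IsShriek (algebraMap R (MvPolynomial α R[X])) (b₂.comp (piMap α f))
      ((Nat.card α : ℤ) + 1) K X := by
    refine IsShriek.congr h1 ?_ ?_ ?_
    · refine RingHom.ext fun r => ?_
      change algebraMap R (MvPolynomial α R[X]) r =
        (MvPolynomial.optionEquivRight R α) (algebraMap R (MvPolynomial (Option α) R) r)
      rw [AlgEquiv.commutes]
    · rw [← hb0]
      refine RingHom.ext fun x => ?_
      change b₂ (piMap α f x) = b₂ (piMap α f ((MvPolynomial.optionEquivRight R α)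
        ((MvPolynomial.optionEquivRight R α).symm x)))
      rw [AlgEquiv.apply_symm_apply]
    · rw [Finite.card_option]
      push_cast
      ring
  -- step 2: divide by `f`
  have h3 : IsShriek (algebraMap R (MvPolynomial α (AdjoinRoot f))) b₂
      ((Nat.card α : ℤ) + 1 - 1) K X := by
    refine h2.gstep (piMap α f) b₂ rfl _ 1 (extD R (MvPolynomial α (AdjoinRoot f)))
      (extAdj R (MvPolynomial α (AdjoinRoot f))) ?_
    intro L adjL Rπ adjπ
    obtain ⟨g⟩ := Ci.nonempty_rightAdj_extD_iso (R := R) (Q := MvPolynomial α R[X])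
      (Qb := MvPolynomial α (AdjoinRoot f)) (MvPolynomial.C f) (ker_piMap α f)
      (piMap_surjective α f) (C_mem_nonZeroDivisors α f hf) Rπ adjπ K
    let u : L ≅ extD R (MvPolynomial α R[X]) :=
      adjL.leftAdjointUniq (extAdj R (MvPolynomial α R[X]))
    exact ⟨Rπ.mapIso (u.app K) ≪≫ g⟩
  -- step 3: change the base to `R[X]/f`
  have h4 : ShriekVia (AdjoinRoot f) A α (w ∘ some) (Nat.card α : ℤ)
      ((extD R (AdjoinRoot f)).obj K) X := by
    have h5 := h3.factor (algebraMap R (AdjoinRoot f))
      (algebraMap (AdjoinRoot f) (MvPolynomial α (AdjoinRoot f)))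
      (IsScalarTower.algebraMap_eq R (AdjoinRoot f) (MvPolynomial α (AdjoinRoot f)))
      (extD R (AdjoinRoot f)) (extAdj R (AdjoinRoot f))
      (extD (AdjoinRoot f) (MvPolynomial α (AdjoinRoot f)))
      (extAdj (AdjoinRoot f) (MvPolynomial α (AdjoinRoot f)))
    exact IsShriek.congr h5 rfl rfl (by ring)
  -- step 4: induction
  obtain ⟨g1⟩ := hα (AdjoinRoot f) A (w ∘ some)
    (fun i => (hw (some i)).tower_top) _ X h4 (coextD (algebraMap (AdjoinRoot f) A))
    (coextAdj (algebraMap (AdjoinRoot f) A))
  -- step 5: Frobenius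
  obtain ⟨g2⟩ := Frob.nonempty_rightAdj_iso_extD_adjoinRoot f hf hd
    (coextD (algebraMap R (AdjoinRoot f))) (coextAdj (algebraMap R (AdjoinRoot f))) K
  let adj'' : DRing.restrictD (algebraMap R A) ⊣
      coextD (algebraMap R (AdjoinRoot f)) ⋙ coextD (algebraMap (AdjoinRoot f) A) :=
    ((coextAdj (algebraMap (AdjoinRoot f) A)).comp
      (coextAdj (algebraMap R (AdjoinRoot f)))).ofNatIsoLeft
      (resCompIso (algebraMap R (AdjoinRoot f)) (algebraMap (AdjoinRoot f) A) (algebraMap R A)
        (IsScalarTower.algebraMap_eq R (AdjoinRoot f) A)).symm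
  exact ⟨g1 ≪≫ (coextD (algebraMap (AdjoinRoot f) A)).mapIso g2.symm ≪≫
    (adj''.rightAdjointUniq adjR).app K⟩


/-- for generators integral over the base, the upper shriek via the presentation is the right
adjoint of restriction of scalars -/
theorem finShriek (ι : Type) [Finite ι] : FinShriek.{u} ι := by
  refine Finite.induction_empty_option (P := FinShriek.{u}) ?_ ?_ ?_ ι
  · intro α β e h
    exact finShriek_of_equiv e h
  · exact finShriek_pempty
  · intro α _ hα
    exact finShriek_option hα

/-- S1784 -/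
theorem nonempty_shriekVia_iso_rightAdjoint_of_finite (R A : Type u) [CommRing R] [CommRing A]
    [Algebra R A] (n : ℕ) (ψ : MvPolynomial (Fin n) R →ₐ[R] A)
    [DRing.HasLBaseChange (algebraMap R (MvPolynomial (Fin n) R))]
    (Rψ : Dual.D (MvPolynomial (Fin n) R) ⥤ Dual.D A) (adj : DRing.restrictD ψ.toRingHom ⊣ Rψ)
    [Module.Finite R A] (R' : Dual.D R ⥤ Dual.D A)
    (adjR : DRing.restrictD (algebraMap R A) ⊣ R') (K : Dual.D R) :
    Nonempty (Dual2.shriekVia n Rψ K ≅ R'.obj K) := by
  have h1 := shriekVia_of_presentation n ψ Rψ adj K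
  refine finShriek (Fin n) R A _ (fun i => Algebra.IsIntegral.isIntegral _) K _
    (h1.congr rfl ?_) R' adjR
  simp

end Shr

end Groth.Agent.Lib.Helper18.DR
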