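import Mathlib
import Groth.Agent.Lib.Helper18.FbcC
import Groth.Agent.Lib.Helper18.FinC
import Groth.Agent.Lib.Helper18.BidF
import Groth.Agent.Lib.Helper18.NormC
import Groth.Agent.Lib.Helper18.DimI
import Groth.Agent.Lib.Helper18.OmLBC

/-!
# The upper shriek of a normalized dualizing complex is normalized at closed points over the
closed point (helper18)
-/

set_option autoImplicit false
set_option linter.style.haveILetI false
universe u
open CategoryTheory CategoryTheory.Limits CategoryTheory.Pretriangulated DerivedCategory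
open TensorProduct

attribute [local instance] HasDerivedCategory.standard

namespace Groth.Agent.Lib.Helper18.DR

namespace NrmLoc

open Shr HomBC HomLoc Dim Norm Uniq

section fl

variable (R A : Type u) [CommRing R] [CommRing A] [IsNoetherianRing R] [Algebra R A]
  [Algebra.FiniteType R A] [IsLocalRing R] (m : Ideal A) [m.IsMaximal]
  (hm : m.comap (algebraMap R A) = IsLocalRing.maximalIdeal R)

include hm in
/-- the residue field at a closed point over the closed point is finite over the base -/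
theorem finite_quotient : Module.Finite R (A ⧸ m) := by
  haveI : m.LiesOver (IsLocalRing.maximalIdeal R) := ⟨hm.symm⟩
  letI : Field (A ⧸ m) := Ideal.Quotient.field m
  letI : Field (R ⧸ IsLocalRing.maximalIdeal R) := Ideal.Quotient.field _
  haveI : Algebra.FiniteType R (A ⧸ m) :=
    Algebra.FiniteType.of_surjective (Ideal.Quotient.mkₐ R m) (Ideal.Quotient.mkₐ_surjective R m)
  haveI : Algebra.FiniteType (R ⧸ IsLocalRing.maximalIdeal R) (A ⧸ m) :=
    Algebra.FiniteType.of_restrictScalars_finiteType R _ _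
  haveI : Module.Finite (R ⧸ IsLocalRing.maximalIdeal R) (A ⧸ m) :=
    finite_of_finite_type_of_isJacobsonRing _ _
  exact Module.Finite.trans (R ⧸ IsLocalRing.maximalIdeal R) (A ⧸ m)

include hm in
/-- the residue field at a closed point over the closed point has finite length over the base -/
theorem isFiniteLength_quotient : IsFiniteLength R (A ⧸ m) := by
  haveI : m.LiesOver (IsLocalRing.maximalIdeal R) := ⟨hm.symm⟩
  letI : Field (A ⧸ m) := Ideal.Quotient.field m
  letI : Field (R ⧸ IsLocalRing.maximalIdeal R) := Ideal.Quotient.field _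
  haveI : Algebra.FiniteType R (A ⧸ m) :=
    Algebra.FiniteType.of_surjective (Ideal.Quotient.mkₐ R m) (Ideal.Quotient.mkₐ_surjective R m)
  haveI : Algebra.FiniteType (R ⧸ IsLocalRing.maximalIdeal R) (A ⧸ m) :=
    Algebra.FiniteType.of_restrictScalars_finiteType R _ _
  haveI : Module.Finite (R ⧸ IsLocalRing.maximalIdeal R) (A ⧸ m) :=
    finite_of_finite_type_of_isJacobsonRing _ _
  haveI : Module.Finite R (A ⧸ m) := Module.Finite.trans (R ⧸ IsLocalRing.maximalIdeal R) (A ⧸ m)
  haveI : IsArtinian (R ⧸ IsLocalRing.maximalIdeal R) (A ⧸ m) := inferInstance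
  haveI : IsArtinian R (A ⧸ m) :=
    isArtinian_of_surjective_algebraMap (R := R ⧸ IsLocalRing.maximalIdeal R) (M := A ⧸ m)
      Ideal.Quotient.mk_surjective
  exact isFiniteLength_iff_isNoetherian_isArtinian.2 ⟨inferInstance, inferInstance⟩

end fl

section main

variable (R A : Type u) [CommRing R] [CommRing A] [IsNoetherianRing R] [IsNoetherianRing A]
  [Algebra R A] (n : ℕ) (ψ : MvPolynomial (Fin n) R →ₐ[R] A) (hψ : Function.Surjective ψ)
  [DRing.HasLBaseChange (algebraMap R (MvPolynomial (Fin n) R))]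
  (Rψ : Dual.D (MvPolynomial (Fin n) R) ⥤ Dual.D A) (adj : DRing.restrictD ψ.toRingHom ⊣ Rψ)
  [IsLocalRing R] (m : Ideal A) [m.IsMaximal]
  (hm : m.comap (algebraMap R A) = IsLocalRing.maximalIdeal R)
  (ω : Dual.D R) (hω : Dual.IsDualizing R ω) (hn : Dual.IsNormalized R ω)

include hψ adj hm hω hn in
/-- `Ext^i_A(A/m, φ^! ω) = 0` for `i ≠ 0` when `ω` is normalized and `m` lies over the closed
point -/
theorem subsingleton_hom_quotient_shriekVia (i : ℤ) (hi : i ≠ 0) :
    Subsingleton (Dual.inD A (A ⧸ m) ⟶ (Dual2.shriekVia n Rψ ω)⟦i⟧) := by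
  set X := Dual2.shriekVia n Rψ ω with hX
  letI : Field (A ⧸ m) := Ideal.Quotient.field m
  haveI : Algebra.FiniteType R A :=
    Algebra.FiniteType.of_surjective ψ hψ
  haveI fin1 : Module.Finite R (A ⧸ m) := finite_quotient R A m hm
  haveI fin2 : Module.Finite A (A ⧸ m) :=
    Module.Finite.of_surjective (Submodule.mkQ m) (Submodule.mkQ_surjective m)
  -- presentations
  let χ : MvPolynomial (Fin 0) A →ₐ[A] (A ⧸ m) :=
    (Algebra.ofId A (A ⧸ m)).comp (MvPolynomial.isEmptyAlgEquiv A (Fin 0)).toAlgHom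
  have hχ : Function.Surjective χ := by
    intro y
    obtain ⟨a, rfl⟩ := Ideal.Quotient.mk_surjective y
    exact ⟨MvPolynomial.C a, by simp [χ]⟩
  let θ : MvPolynomial (Fin n) R →ₐ[R] (A ⧸ m) := (IsScalarTower.toAlgHom R A (A ⧸ m)).comp ψ
  have hθ : Function.Surjective θ := by
    intro y
    obtain ⟨a, rfl⟩ := Ideal.Quotient.mk_surjective y
    obtain ⟨p, rfl⟩ := hψ a
    exact ⟨p, rfl⟩
  haveI : DRing.HasLBaseChange (algebraMap A (MvPolynomial (Fin 0) A)) := Om.hasLBaseChange _
  let Rχ := coextD χ.toRingHom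
  let adjχ := coextAdj χ.toRingHom
  let Rθ := coextD θ.toRingHom
  let adjθ := coextAdj θ.toRingHom
  obtain ⟨a, b, hab⟩ := hω.finite_injective_dimension
  have hfid : FidIn ω a b := hab
  haveI := hfid.isGE
  have hK : ∀ j : ℤ, j < a → Subsingleton (Dual.HD R ω j) := fun j hj =>
    ModuleCat.subsingleton_of_isZero (isZero_of_isGE ω a j hj)
  obtain ⟨e1⟩ := nonempty_shriekVia_comp_iso R A (A ⧸ m) n ψ hψ Rψ adj 0 χ Rχ adjχ ω a hK hχ
    n θ hθ Rθ adjθ
  let RR := coextD (algebraMap R (A ⧸ m))
  let adjR := coextAdj (algebraMap R (A ⧸ m))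
  let RA := coextD (algebraMap A (A ⧸ m))
  let adjA := coextAdj (algebraMap A (A ⧸ m))
  obtain ⟨e2⟩ := nonempty_shriekVia_iso_rightAdjoint_of_finite R (A ⧸ m) n θ Rθ adjθ RR adjR ω
  obtain ⟨e3⟩ := nonempty_shriekVia_iso_rightAdjoint_of_finite A (A ⧸ m) 0 χ Rχ adjχ RA adjA X
  let c : RA.obj X ≅ RR.obj ω := e3.symm ≪≫ e1.symm ≪≫ e2
  -- the module `A ⧸ m` over `R` and over `A`
  let NR : ModuleCat.{u} R := (ModuleCat.restrictScalars.{u} (algebraMap R (A ⧸ m))).obj
    (ModuleCat.of (A ⧸ m) (A ⧸ m))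
  let NA : ModuleCat.{u} A := (ModuleCat.restrictScalars.{u} (algebraMap A (A ⧸ m))).obj
    (ModuleCat.of (A ⧸ m) (A ⧸ m))
  let eR : (A ⧸ m) ≃ₗ[R] NR :=
    { toFun := fun x => x
      invFun := fun x => x
      left_inv := fun _ => rfl
      right_inv := fun _ => rfl
      map_add' := fun _ _ => rfl
      map_smul' := fun r x => (algebraMap_smul (A ⧸ m) r (show A ⧸ m from x)).symm }
  let eA : (A ⧸ m) ≃ₗ[A] NA :=
    { toFun := fun x => x
      invFun := fun x => x
      left_inv := fun _ => rfl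
      right_inv := fun _ => rfl
      map_add' := fun _ _ => rfl
      map_smul' := fun r x => (algebraMap_smul (A ⧸ m) r (show A ⧸ m from x)).symm }
  have hfl : IsFiniteLength R NR :=
    (isFiniteLength_quotient R A m hm).of_surjective (f := eR.toLinearMap) eR.surjective
  haveI h0 : Subsingleton (Dual.inD R NR ⟶ ω⟦i⟧) :=
    subsingleton_hom_of_isFiniteLength ω hn i hi NR hfl
  haveI h1 : Subsingleton (Dual.inD (A ⧸ m) (A ⧸ m) ⟶ (RR.obj ω)⟦i⟧) :=
    (homAdjEquiv RR adjR ω (A ⧸ m) i).symm.subsingleton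
  haveI h2 : Subsingleton (Dual.inD (A ⧸ m) (A ⧸ m) ⟶ (RA.obj X)⟦i⟧) :=
    ⟨fun x y => by
      rw [← cancel_mono ((shiftFunctor _ i).map c.hom)]
      exact Subsingleton.elim _ _⟩
  haveI h3 : Subsingleton (Dual.inD A NA ⟶ X⟦i⟧) :=
    (homAdjEquiv RA adjA X (A ⧸ m) i).subsingleton
  refine ⟨fun x y => ?_⟩
  rw [← cancel_epi ((DerivedCategory.singleFunctor (ModuleCat.{u} A) 0).map eA.toModuleIso.inv)]
  exact Subsingleton.elim _ _

include hψ adj hm hω hn in
/-- **S1789**: the localization of `φ^! ω` at a closed point over the closed point is a normalized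
dualizing complex -/
theorem isDualizing_isNormalized_LBaseChange_shriekVia
    [DRing.HasLBaseChange (algebraMap A (Localization.AtPrime m))] :
    Dual.IsDualizing (Localization.AtPrime m)
        ((DRing.LBaseChange (algebraMap A (Localization.AtPrime m))).obj
          (Dual2.shriekVia n Rψ ω)) ∧
      Dual.IsNormalized (Localization.AtPrime m)
        ((DRing.LBaseChange (algebraMap A (Localization.AtPrime m))).obj
          (Dual2.shriekVia n Rψ ω)) := by
  set X := Dual2.shriekVia n Rψ ω with hX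
  have hXd : Dual.IsDualizing A X := Bid.isDualizing_shriekVia R A n ψ hψ Rψ adj ω hω
  let p : PrimeSpectrum A := ⟨m, inferInstance⟩
  obtain ⟨e⟩ := nonempty_LBaseChange_iso_extD (A := A) (B := Localization.AtPrime m) X
  have hd : Dual.IsDualizing (Localization.AtPrime m) (locAt X p) := isDualizing_locAt X hXd p
  refine ⟨isDualizing_of_iso e.symm hd, fun i hi => ?_⟩
  obtain ⟨a, b, hab⟩ := hXd.finite_injective_dimension
  have hfid : FidIn X a b := hab
  haveI := hfid.isGE
  haveI h0 := subsingleton_hom_quotient_shriekVia R A n ψ hψ Rψ adj m hm ω hω hn i hi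
  have h1 : ¬ Nontrivial (LocalizedModule p.asIdeal.primeCompl
      (Dual.inD A (A ⧸ p.asIdeal) ⟶ X⟦i⟧)) := by
    rw [not_nontrivial_iff_subsingleton]
    haveI : Subsingleton (Dual.inD A (A ⧸ p.asIdeal) ⟶ X⟦i⟧) := h0
    infer_instance
  rw [nontrivial_localizedModule_iff X a p i, not_nontrivial_iff_subsingleton] at h1
  refine ⟨fun x y => ?_⟩
  rw [← cancel_epi (kapIso (A := Localization.AtPrime m)).hom,
    ← cancel_mono ((shiftFunctor _ i).map e.hom)]
  exact h1.elim _ _

end main

end NrmLoc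

end Groth.Agent.Lib.Helper18.DR
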