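import Mathlib
import Groth.Agent.Lib.Helper18.OmC
import Groth.Agent.Lib.Helper18.OmLBC
import Groth.Agent.Lib.Helper18.FbcD
import Groth.Agent.Lib.Helper18.FinC

/-!
# `RHom_{A ⊗_R A}(A, ω_{A/R} ⊗_A (A ⊗_R A)) ≅ A` for `R → A` flat of finite type (helper18)
-/

set_option autoImplicit false
set_option linter.style.haveILetI false
universe u
open CategoryTheory CategoryTheory.Limits CategoryTheory.Pretriangulated DerivedCategory
  MonoidalCategory

attribute [local instance] HasDerivedCategory.standard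

namespace Groth.Agent.Lib.Helper18.DR

namespace Om

open DTen
open scoped TensorProduct

/-- `R ⊗^L_R S ≅ S` for a flat `R`-algebra `S` -/
lemma nonempty_LBaseChange_inD_self_iso (R S : Type u) [CommRing R] [CommRing S] [Algebra R S]
    [Module.Flat R S] [DRing.HasLBaseChange (algebraMap R S)] :
    Nonempty ((DRing.LBaseChange (algebraMap R S)).obj (Dual.inD R R) ≅ Dual.inD S S) := by
  obtain ⟨e⟩ := HomBC.nonempty_LBaseChange_iso_extD (A := R) (B := S) (Dual.inD R R)
  exact ⟨e ≪≫ extDInDIso (A := R) (B := S) R ≪≫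
    (singleFunctor (ModuleCat.{u} S) 0).mapIso
      (TensorProduct.AlgebraTensorModule.rid R S S).toModuleIso⟩

section swap

variable (R A : Type u) [CommRing R] [CommRing A] [Algebra R A]

/-- the swap automorphism of `A ⊗_R A` -/
noncomputable abbrev swapE : (A ⊗[R] A) ≃+* (A ⊗[R] A) :=
  (Algebra.TensorProduct.comm R A A).toRingEquiv

lemma includeLeft_eq_swap_comp :
    (Algebra.TensorProduct.includeLeftRingHom : A →+* A ⊗[R] A) =
      (swapE R A).toRingHom.comp
        (Algebra.TensorProduct.includeRight : A →ₐ[R] A ⊗[R] A).toRingHom := by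
  refine RingHom.ext fun a => ?_
  change a ⊗ₜ[R] (1 : A) = Algebra.TensorProduct.comm R A A ((1 : A) ⊗ₜ[R] a)
  rw [Algebra.TensorProduct.comm_tmul]

lemma lmul'_eq_comp_swap :
    (Algebra.TensorProduct.lmul' R (S := A)).toRingHom =
      (Algebra.TensorProduct.lmul' R (S := A)).toRingHom.comp (swapE R A).toRingHom := by
  refine RingHom.ext fun x => ?_
  induction x using TensorProduct.induction_on with
  | zero => simp
  | tmul a b =>
    change Algebra.TensorProduct.lmul' R (a ⊗ₜ[R] b) =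
      Algebra.TensorProduct.lmul' R (Algebra.TensorProduct.comm R A A (a ⊗ₜ[R] b))
    rw [Algebra.TensorProduct.comm_tmul, Algebra.TensorProduct.lmul'_apply_tmul,
      Algebra.TensorProduct.lmul'_apply_tmul, mul_comm]
  | add x y hx hy => rw [map_add, map_add, hx, hy]

variable [DRing.HasLBaseChange (Algebra.TensorProduct.includeLeftRingHom : A →+* A ⊗[R] A)]
  [DRing.HasLBaseChange (Algebra.TensorProduct.includeRight : A →ₐ[R] A ⊗[R] A).toRingHom]
  (Rμ : Dual.D (A ⊗[R] A) ⥤ Dual.D A)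
  (adjμ : DRing.restrictD (Algebra.TensorProduct.lmul' R (S := A)).toRingHom ⊣ Rμ)

include adjμ in
/-- base change along the left and the right coprojection agree after `RHom_{A ⊗ A}(A, -)` -/
theorem nonempty_Rμ_swap_iso (X : Dual.D A) :
    Nonempty (Rμ.obj ((DRing.LBaseChange
        (Algebra.TensorProduct.includeLeftRingHom : A →+* A ⊗[R] A)).obj X) ≅
      Rμ.obj ((DRing.LBaseChange
        (Algebra.TensorProduct.includeRight : A →ₐ[R] A ⊗[R] A).toRingHom).obj X)) := by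
  let σ := swapE R A
  let iL : A →+* A ⊗[R] A := Algebra.TensorProduct.includeLeftRingHom
  let iR : A →+* A ⊗[R] A := (Algebra.TensorProduct.includeRight : A →ₐ[R] A ⊗[R] A).toRingHom
  let μ : A ⊗[R] A →+* A := (Algebra.TensorProduct.lmul' R (S := A)).toRingHom
  let adj1 : DRing.LBaseChange iR ⋙ DRing.restrictD σ.symm.toRingHom ⊣ DRing.restrictD iL :=
    ((LBCAdj.adjD iR).comp (Shr.resEquivAdj' σ)).ofNatIsoRight
      (Shr.resCompIso iR σ.toRingHom iL (includeLeft_eq_swap_comp R A)).symm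
  let e1 : DRing.LBaseChange iL ≅ DRing.LBaseChange iR ⋙ DRing.restrictD σ.symm.toRingHom :=
    (LBCAdj.adjD iL).leftAdjointUniq adj1
  let adj2 : DRing.restrictD μ ⊣ DRing.restrictD σ.symm.toRingHom ⋙ Rμ :=
    (adjμ.comp (Shr.resEquivAdj σ)).ofNatIsoLeft
      (Shr.resCompIso σ.toRingHom μ μ (lmul'_eq_comp_swap R A)).symm
  let e2 : Rμ ≅ DRing.restrictD σ.symm.toRingHom ⋙ Rμ := adjμ.rightAdjointUniq adj2
  exact ⟨Rμ.mapIso (e1.app X) ≪≫ (e2.app _).symm⟩

end swap

section main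

variable (R A : Type u) [CommRing R] [CommRing A] [IsNoetherianRing R] [IsNoetherianRing A]
  [Algebra R A] [Module.Flat R A]
  (n : ℕ) (ψ : MvPolynomial (Fin n) R →ₐ[R] A) (hψ : Function.Surjective ψ)
  [DRing.HasLBaseChange (algebraMap R (MvPolynomial (Fin n) R))]
  (Rψ : Dual.D (MvPolynomial (Fin n) R) ⥤ Dual.D A) (adj : DRing.restrictD ψ.toRingHom ⊣ Rψ)
  (Rμ : Dual.D (A ⊗[R] A) ⥤ Dual.D A)
  (adjμ : DRing.restrictD (Algebra.TensorProduct.lmul' R (S := A)).toRingHom ⊣ Rμ)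

include hψ adj adjμ in
/-- `RHom_{A ⊗ A}(A, ω_{A/R} ⊗_A (A ⊗_R A)) ≅ A`, base change along the right coprojection -/
theorem nonempty_Rμ_includeRight_iso
    [DRing.HasLBaseChange (Algebra.TensorProduct.includeRight : A →ₐ[R] A ⊗[R] A).toRingHom] :
    Nonempty (Rμ.obj ((DRing.LBaseChange
        (Algebra.TensorProduct.includeRight : A →ₐ[R] A ⊗[R] A).toRingHom).obj
        (Dual2.shriekVia n Rψ (Dual.inD R R))) ≅ Dual.inD A A) := by
  -- existence of the auxiliary derived base changes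
  haveI : DRing.HasLBaseChange (algebraMap R A) := hasLBaseChange _
  haveI : DRing.HasLBaseChange (algebraMap A (MvPolynomial (Fin n) A)) := hasLBaseChange _
  haveI : DRing.HasLBaseChange (algebraMap A (MvPolynomial (Fin 0) A)) := hasLBaseChange _
  haveI : DRing.HasLBaseChange (algebraMap (A ⊗[R] A) (MvPolynomial (Fin 0) (A ⊗[R] A))) :=
    hasLBaseChange _
  -- step 1: flat base change along `R → A`
  let ψ' : MvPolynomial (Fin n) A →ₐ[A] (A ⊗[R] A) := Shr.psiBC R A A n ψ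
  have hψ' : Function.Surjective ψ' := Shr.psiBC_surjective R A A n ψ hψ
  let Rψ' := Shr.coextD ψ'.toRingHom
  let adj' := Shr.coextAdj ψ'.toRingHom
  obtain ⟨e1⟩ := Shr.nonempty_shriekVia_flat_baseChange_iso R A A n ψ hψ Rψ adj n ψ' hψ' Rψ' adj'
    (Dual.inD R R) 0 (fun i hi => ModuleCat.subsingleton_of_isZero
      (isZero_of_isGE (Dual.inD R R) 0 i hi))
  obtain ⟨e2⟩ := nonempty_LBaseChange_inD_self_iso R A
  -- step 2: composition `A → A ⊗ A → A`
  letI algBA : Algebra (A ⊗[R] A) A := (Algebra.TensorProduct.lmul' R (S := A)).toRingHom.toAlgebra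
  haveI : IsScalarTower A (A ⊗[R] A) A := IsScalarTower.of_algebraMap_eq (fun a => by
    change a = Algebra.TensorProduct.lmul' R (a ⊗ₜ[R] (1 : A))
    rw [Algebra.TensorProduct.lmul'_apply_tmul, mul_one])
  let χ : MvPolynomial (Fin 0) (A ⊗[R] A) →ₐ[A ⊗[R] A] A := MvPolynomial.aeval Fin.elim0
  have hχ : Function.Surjective χ := by
    intro a
    refine ⟨MvPolynomial.C (a ⊗ₜ[R] (1 : A)), ?_⟩
    change MvPolynomial.aeval Fin.elim0 (MvPolynomial.C (a ⊗ₜ[R] (1 : A))) = a
    rw [MvPolynomial.aeval_C]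
    change Algebra.TensorProduct.lmul' R (a ⊗ₜ[R] (1 : A)) = a
    rw [Algebra.TensorProduct.lmul'_apply_tmul, mul_one]
  let Rχ := Shr.coextD χ.toRingHom
  let adjχ := Shr.coextAdj χ.toRingHom
  let θ : MvPolynomial (Fin 0) A →ₐ[A] A := MvPolynomial.aeval Fin.elim0
  have hθ : Function.Surjective θ := by
    intro a
    refine ⟨MvPolynomial.C a, ?_⟩
    change MvPolynomial.aeval Fin.elim0 (MvPolynomial.C a) = a
    rw [MvPolynomial.aeval_C]
    rfl
  let Rθ := Shr.coextD θ.toRingHom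
  let adjθ := Shr.coextAdj θ.toRingHom
  obtain ⟨e3⟩ := Shr.nonempty_shriekVia_comp_iso A (A ⊗[R] A) A n ψ' hψ' Rψ' adj' 0 χ Rχ adjχ
    (Dual.inD A A) 0 (fun i hi => ModuleCat.subsingleton_of_isZero
      (isZero_of_isGE (Dual.inD A A) 0 i hi)) hχ 0 θ hθ Rθ adjθ
  -- step 3: finite maps
  let adjId : DRing.restrictD (algebraMap A A) ⊣ 𝟭 (Dual.D A) :=
    Adjunction.id.ofNatIsoLeft (Shr.resIdIso (algebraMap A A) rfl).symm
  obtain ⟨e4⟩ := Shr.nonempty_shriekVia_iso_rightAdjoint_of_finite A A 0 θ Rθ adjθ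
    (𝟭 (Dual.D A)) adjId (Dual.inD A A)
  haveI : Module.Finite (A ⊗[R] A) A :=
    Module.Finite.of_surjective (Algebra.linearMap (A ⊗[R] A) A) (fun a => by
      refine ⟨a ⊗ₜ[R] (1 : A), ?_⟩
      change Algebra.TensorProduct.lmul' R (a ⊗ₜ[R] (1 : A)) = a
      rw [Algebra.TensorProduct.lmul'_apply_tmul, mul_one])
  obtain ⟨e5⟩ := Shr.nonempty_shriekVia_iso_rightAdjoint_of_finite (A ⊗[R] A) A 0 χ Rχ adjχ
    Rμ adjμ (Dual2.shriekVia n Rψ' (Dual.inD A A))
  -- assembly
  let e6 : Dual2.shriekVia n Rψ' ((DRing.LBaseChange (algebraMap R A)).obj (Dual.inD R R)) ≅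
      Dual2.shriekVia n Rψ' (Dual.inD A A) :=
    (shiftFunctor _ (n : ℤ)).mapIso (Rψ'.mapIso
      ((DRing.LBaseChange (algebraMap A (MvPolynomial (Fin n) A))).mapIso e2))
  exact ⟨Rμ.mapIso (e1 ≪≫ e6) ≪≫ e5.symm ≪≫ e3.symm ≪≫ e4⟩

end main

end Om

end Groth.Agent.Lib.Helper18.DR
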