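import Mathlib
import Groth.Agent.Lib.Helper18.OmE
import Groth.Agent.Lib.Helper18.OmD
import Groth.Agent.Lib.Helper18.GfA

/-!
# The upper shriek of an open immersion is the derived base change (helper18)
-/

set_option autoImplicit false
set_option linter.style.haveILetI false
universe u
open CategoryTheory CategoryTheory.Limits CategoryTheory.Pretriangulated DerivedCategory
  MonoidalCategory
open scoped TensorProduct

attribute [local instance] HasDerivedCategory.standard

namespace Groth.Agent.Lib.Helper18.DR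

namespace OpenImm

open DTen Shr HomBC AlgebraicGeometry

section ring

variable (R A : Type u) [CommRing R] [CommRing A] [Algebra R A]

/-- an open immersion of affine schemes is flat -/
lemma flat_of_isOpenImmersion
    (hopen : IsOpenImmersion (Spec.map (CommRingCat.ofHom (algebraMap R A)))) :
    Module.Flat R A := by
  haveI := hopen
  have h : Flat (Spec.map (CommRingCat.ofHom (algebraMap R A))) := inferInstance
  rw [Flat.SpecMap_iff] at h
  exact RingHom.flat_algebraMap_iff.1 h

/-- an open immersion of affine schemes comes from an epimorphism of rings -/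
lemma isEpi_of_isOpenImmersion
    (hopen : IsOpenImmersion (Spec.map (CommRingCat.ofHom (algebraMap R A)))) :
    Algebra.IsEpi R A := by
  haveI := hopen
  rw [← CommRingCat.epi_iff_epi]
  have h : Mono (Spec.map (CommRingCat.ofHom (algebraMap R A))) := inferInstance
  have h2 : Mono (CommRingCat.ofHom (algebraMap R A)).op :=
    Scheme.Spec.mono_of_mono_map h
  exact (inferInstance : Epi (CommRingCat.ofHom (algebraMap R A)).op.unop)

/-- for an epimorphism of rings the multiplication map is an isomorphism -/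
noncomputable def mulEquiv [Algebra.IsEpi R A] : (A ⊗[R] A) ≃+* A :=
  RingEquiv.ofBijective (Algebra.TensorProduct.lmul' R (S := A)).toRingHom
    ⟨by
      have h := Algebra.IsEpi.injective_lift_mul (R := R) (A := A)
      intro x y hxy
      apply h
      have hx : ∀ z : A ⊗[R] A, (Algebra.TensorProduct.lmul' R (S := A)).toRingHom z =
          TensorProduct.lift (LinearMap.mul R A) z := fun z => by
        induction z using TensorProduct.induction_on with
        | zero => simp
        | tmul a b =>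
          change Algebra.TensorProduct.lmul' R (a ⊗ₜ[R] b) = _
          rw [Algebra.TensorProduct.lmul'_apply_tmul, TensorProduct.lift.tmul]
          rfl
        | add a b ha hb => rw [map_add, map_add, ha, hb]
      rw [← hx, ← hx]
      exact hxy,
    fun a => ⟨a ⊗ₜ[R] 1, by
      change Algebra.TensorProduct.lmul' R (a ⊗ₜ[R] (1 : A)) = a
      rw [Algebra.TensorProduct.lmul'_apply_tmul, mul_one]⟩⟩

lemma mulEquiv_toRingHom [Algebra.IsEpi R A] :
    (mulEquiv R A).toRingHom = (Algebra.TensorProduct.lmul' R (S := A)).toRingHom := rfl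

end ring

section main

variable (R A : Type u) [CommRing R] [CommRing A] [IsNoetherianRing R] [IsNoetherianRing A]
  [Algebra R A] [Module.Flat R A] [Algebra.IsEpi R A]
  (n : ℕ) (ψ : MvPolynomial (Fin n) R →ₐ[R] A) (hψ : Function.Surjective ψ)
  [DRing.HasLBaseChange (algebraMap R (MvPolynomial (Fin n) R))]
  (Rψ : Dual.D (MvPolynomial (Fin n) R) ⥤ Dual.D A) (adj : DRing.restrictD ψ.toRingHom ⊣ Rψ)

include hψ adj in
/-- `ω_{A/R} ≅ A[0]` for a flat epimorphism of finite type -/
theorem nonempty_shriekVia_self_iso :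
    Nonempty (Dual2.shriekVia n Rψ (Dual.inD R R) ≅ Dual.inD A A) := by
  set ω := Dual2.shriekVia n Rψ (Dual.inD R R) with hω
  let σ := mulEquiv R A
  let μ : A ⊗[R] A →+* A := (Algebra.TensorProduct.lmul' R (S := A)).toRingHom
  let iR : A →+* A ⊗[R] A := (Algebra.TensorProduct.includeRight : A →ₐ[R] A ⊗[R] A).toRingHom
  let Rμ := DRing.restrictD σ.symm.toRingHom
  let adjμ : DRing.restrictD μ ⊣ Rμ := resEquivAdj σ
  haveI : DRing.HasLBaseChange iR := Om.hasLBaseChange _
  haveI : DRing.HasLBaseChange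
      (Algebra.TensorProduct.includeRight : A →ₐ[R] A ⊗[R] A).toRingHom := Om.hasLBaseChange _
  haveI : DRing.HasLBaseChange μ := Om.hasLBaseChange _
  haveI : DRing.HasLBaseChange (RingHom.id A) := Om.hasLBaseChange _
  obtain ⟨e⟩ := Om.nonempty_Rμ_includeRight_iso R A n ψ hψ Rψ adj Rμ adjμ
  let u1 : DRing.LBaseChange (RingHom.id A) ≅ 𝟭 (Dual.D A) :=
    (LBCAdj.adjD (RingHom.id A)).leftAdjointUniq
      ((Adjunction.id).ofNatIsoRight (resIdIso (RingHom.id A) rfl).symm)
  have h' : RingHom.id A = μ.comp iR := by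
    refine RingHom.ext (fun a => ?_)
    change a = Algebra.TensorProduct.lmul' R ((1 : A) ⊗ₜ[R] a)
    rw [Algebra.TensorProduct.lmul'_apply_tmul, one_mul]
  let u2 : DRing.LBaseChange (RingHom.id A) ≅ DRing.LBaseChange iR ⋙ DRing.LBaseChange μ :=
    Gf.lbcCompIso iR μ (RingHom.id A) h'
  let u3 : DRing.LBaseChange μ ≅ Rμ := (LBCAdj.adjD μ).leftAdjointUniq (resEquivAdj' σ)
  exact ⟨(u1.app ω).symm ≪≫ u2.app ω ≪≫ u3.app _ ≪≫ e⟩

include hψ adj in
/-- **S8943** (ring form): `φ^!(K) ≅ K ⊗^L_R A` for a flat epimorphism of finite type -/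
theorem nonempty_shriekVia_iso_LBaseChange [DRing.HasLBaseChange (algebraMap R A)]
    (K : Dual.D R) :
    Nonempty (Dual2.shriekVia n Rψ K ≅ (DRing.LBaseChange (algebraMap R A)).obj K) := by
  obtain ⟨eω⟩ := nonempty_shriekVia_self_iso R A n ψ hψ Rψ adj
  obtain ⟨N, ⟨eN⟩, hN⟩ := Om.exists_chain_model R A n ψ hψ Rψ adj
  obtain ⟨K₀, hK₀, -, ⟨e₀⟩⟩ := exists_kprojective_resolution K
  haveI := hK₀
  haveI : ((DTen.extCx (algebraMap R A)).obj K₀).IsKProjective :=
    isKProjective_extendScalars _ K₀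
  obtain ⟨i1⟩ := hN K₀ hK₀
  obtain ⟨eU⟩ := Om.nonempty_LBaseChange_unit_iso R n
  let W : DRing.Cx A := 𝟙_ (DRing.Cx A)
  let hWN : DRing.toD W ≅ DRing.toD (N⟦(n : ℤ)⟧) :=
    ((DerivedCategory.singleFunctorIsoCompQ (ModuleCat.{u} A) 0).app (ModuleCat.of A A)).symm ≪≫
      eω.symm ≪≫ (shiftFunctor _ (n : ℤ)).mapIso (Rψ.mapIso eU ≪≫ eN) ≪≫
      ((DerivedCategory.Q.commShiftIso (n : ℤ)).app N).symm
  obtain ⟨i2⟩ := Om.nonempty_Q_tensor_iso ((DTen.extCx (algebraMap R A)).obj K₀) W
    (N⟦(n : ℤ)⟧) hWN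
  let lhs : Dual2.shriekVia n Rψ K ≅
      DerivedCategory.Q.obj ((DTen.extCx (algebraMap R A)).obj K₀ ⊗ N⟦(n : ℤ)⟧) :=
    (shiftFunctor _ (n : ℤ)).mapIso
      (Rψ.mapIso ((DRing.LBaseChange (algebraMap R (MvPolynomial (Fin n) R))).mapIso e₀.symm) ≪≫
        i1) ≪≫
      ((DerivedCategory.Q.commShiftIso (n : ℤ)).app _).symm ≪≫
      DerivedCategory.Q.mapIso
        (Om.tensorShiftRightIso ((DTen.extCx (algebraMap R A)).obj K₀) N (n : ℤ)).symm
  let rhs : (DRing.LBaseChange (algebraMap R A)).obj K ≅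
      DerivedCategory.Q.obj ((DTen.extCx (algebraMap R A)).obj K₀ ⊗ W) :=
    (DRing.LBaseChange (algebraMap R A)).mapIso e₀.symm ≪≫
      LBaseChangeIso (algebraMap R A) K₀ ≪≫
      DerivedCategory.Q.mapIso (ρ_ ((DTen.extCx (algebraMap R A)).obj K₀)).symm
  exact ⟨lhs ≪≫ i2.symm ≪≫ rhs.symm⟩

end main

end OpenImm

end Groth.Agent.Lib.Helper18.DR
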