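import Mathlib
import Groth.Agent.Lib.Helper18.NrmLoc
import Groth.Agent.Lib.Helper18.OpenImm
import Groth.Prelude.Def_QFDual

/-!
# `H^0` of the right adjoint of restriction along a ring map is `Hom_A(B, A)` (helper18)
-/

set_option autoImplicit false
set_option linter.style.haveILetI false
universe u
open CategoryTheory CategoryTheory.Limits CategoryTheory.Pretriangulated DerivedCategory
open TensorProduct

attribute [local instance] HasDerivedCategory.standard

namespace Groth.Agent.Lib.Helper18.DR

namespace ShOm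

open Shr HomBC HomLoc Norm

section omega

variable {A B : Type u} [CommRing A] [CommRing B] [Algebra A B]
  (R : Dual.D A ⥤ Dual.D B) (adj : DRing.restrictD (algebraMap A B) ⊣ R)

/-- `B` as an `A`-module (object of `ModuleCat A`) -/
noncomputable abbrev BA : ModuleCat.{u} A :=
  (ModuleCat.restrictScalars.{u} (algebraMap A B)).obj (ModuleCat.of B B)

/-- the identification of `B|_A` with `B` -/
noncomputable def eBA : (BA (A := A) (B := B) : Type u) ≃ₗ[A] B :=
  { toFun := fun b => b
    invFun := fun b => b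
    map_add' := fun _ _ => rfl
    map_smul' := fun a b => (Algebra.smul_def a (show B from b)).symm
    left_inv := fun _ => rfl
    right_inv := fun _ => rfl }

/-- the `A`-linear map underlying an element of `ω_{B/A}` as a morphism `B|_A ⟶ A` -/
noncomputable def omToHom (φ : Disc.Omega A B) : BA (A := A) (B := B) ⟶ ModuleCat.of A A :=
  ConcreteCategory.ofHom (C := ModuleCat.{u} A) (X := BA (A := A) (B := B))
    (Y := ModuleCat.of A A) (φ.toLinearMap ∘ₗ (eBA (A := A) (B := B)).toLinearMap)

lemma omToHom_apply (φ : Disc.Omega A B) (x : (BA (A := A) (B := B) : Type u)) :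
    (omToHom φ).hom x = φ.toLinearMap (eBA x) := rfl

noncomputable def homToOm (f : BA (A := A) (B := B) ⟶ ModuleCat.of A A) : Disc.Omega A B :=
  ⟨f.hom ∘ₗ (eBA (A := A) (B := B)).symm.toLinearMap⟩

lemma omToHom_homToOm (f : BA (A := A) (B := B) ⟶ ModuleCat.of A A) :
    omToHom (homToOm f) = f := by
  ext x
  change f.hom ((eBA (A := A) (B := B)).symm (eBA x)) = f.hom x
  rw [LinearEquiv.symm_apply_apply]

lemma homToOm_omToHom (φ : Disc.Omega A B) : homToOm (omToHom φ) = φ := by
  apply Disc.Omega.toLinearMap_injective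
  ext x
  change φ.toLinearMap (eBA ((eBA (A := A) (B := B)).symm x)) = φ.toLinearMap x
  rw [LinearEquiv.apply_symm_apply]

/-- multiplication by `b` on `B`, as an endomorphism of the `B`-module `B` -/
noncomputable abbrev mulB (b : B) : ModuleCat.of B B ⟶ ModuleCat.of B B := b • 𝟙 _

lemma omToHom_smul (b : B) (φ : Disc.Omega A B) :
    omToHom (b • φ) = (ModuleCat.restrictScalars.{u} (algebraMap A B)).map (mulB b) ≫
      omToHom φ := by
  ext x
  change (b • φ).toLinearMap (eBA x) = φ.toLinearMap (eBA (A := A) (B := B) _)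
  rw [Disc.Omega.smul_toLinearMap_apply]
  rfl

lemma omToHom_add (φ ψ : Disc.Omega A B) : omToHom (φ + ψ) = omToHom φ + omToHom ψ := by
  ext x
  change (φ + ψ).toLinearMap (eBA x) = φ.toLinearMap (eBA x) + ψ.toLinearMap (eBA x)
  rw [Disc.Omega.add_toLinearMap]
  rfl

/-- the comparison map `ω_{B/A} → Hom_{D(B)}(B, R(A))` -/
noncomputable def omToD (φ : Disc.Omega A B) :
    Sg 0 (ModuleCat.of B B) ⟶ R.obj (Dual.inD A A) :=
  adj.homEquiv _ _
    ((((ModuleCat.restrictScalars.{u} (algebraMap A B)).mapDerivedCategorySingleFunctor 0).app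
      (ModuleCat.of B B)).hom ≫ (singleFunctor (ModuleCat.{u} A) 0).map (omToHom φ))

lemma omToD_add (φ ψ : Disc.Omega A B) :
    omToD R adj (φ + ψ) = omToD R adj φ + omToD R adj ψ := by
  unfold omToD
  rw [omToHom_add, Functor.map_add, Preadditive.comp_add, Adjunction.homAddEquiv_add]

lemma omToD_smul (b : B) (φ : Disc.Omega A B) :
    omToD R adj (b • φ) = b • omToD R adj φ := by
  unfold omToD
  rw [omToHom_smul, Functor.map_comp]
  have hnat := ((ModuleCat.restrictScalars.{u} (algebraMap A B)).mapDerivedCategorySingleFunctor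
    0).hom.naturality (mulB (B := B) b)
  simp only [Functor.comp_map] at hnat
  erw [← Category.assoc, ← hnat]
  rw [Category.assoc, Adjunction.homEquiv_naturality_left]
  have h1 : (singleFunctor (ModuleCat.{u} B) 0).map (mulB (B := B) b) =
      b • 𝟙 (Sg 0 (ModuleCat.of B B)) := by
    rw [Functor.map_smul, CategoryTheory.Functor.map_id]
  rw [h1, Linear.smul_comp, Category.id_comp]
  rfl

lemma omToD_bijective : Function.Bijective (omToD (A := A) (B := B) R adj) := by
  have hff : Function.Bijective
      (fun f : BA (A := A) (B := B) ⟶ ModuleCat.of A A =>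
        (singleFunctor (ModuleCat.{u} A) 0).map f) :=
    ⟨(singleFunctor (ModuleCat.{u} A) 0).map_injective,
      (singleFunctor (ModuleCat.{u} A) 0).map_surjective⟩
  have h1 : Function.Bijective (omToHom (A := A) (B := B)) :=
    ⟨fun φ ψ h => by rw [← homToOm_omToHom φ, ← homToOm_omToHom ψ, h],
      fun f => ⟨homToOm f, omToHom_homToOm f⟩⟩
  have h2 : Function.Bijective
      (fun g : (singleFunctor (ModuleCat.{u} A) 0).obj (BA (A := A) (B := B)) ⟶
          (singleFunctor (ModuleCat.{u} A) 0).obj (ModuleCat.of A A) =>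
        (((ModuleCat.restrictScalars.{u} (algebraMap A B)).mapDerivedCategorySingleFunctor 0).app
          (ModuleCat.of B B)).hom ≫ g) :=
    ⟨fun g g' h => by simpa using h,
      fun y => ⟨(((ModuleCat.restrictScalars.{u}
        (algebraMap A B)).mapDerivedCategorySingleFunctor 0).app (ModuleCat.of B B)).inv ≫ y,
        by simp⟩⟩
  exact (adj.homEquiv _ _).bijective.comp (h2.comp (hff.comp h1))

/-- the comparison map as a linear map -/
noncomputable def omToDLin :
    Disc.Omega A B →ₗ[B] (Sg 0 (ModuleCat.of B B) ⟶ R.obj (Dual.inD A A)) where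
  toFun := omToD R adj
  map_add' := omToD_add R adj
  map_smul' := fun b φ => omToD_smul R adj b φ

/-- `Hom_{D(B)}(B, R(A)) ≅ ω_{B/A}` as `B`-modules -/
noncomputable def omegaEquiv₀ :
    Disc.Omega A B ≃ₗ[B] (Sg 0 (ModuleCat.of B B) ⟶ R.obj (Dual.inD A A)) :=
  LinearEquiv.ofBijective (omToDLin R adj) (omToD_bijective R adj)

/-- `H^0(R(A)) ≅ ω_{B/A}` as `B`-modules -/
noncomputable def omegaEquiv :
    Disc.Omega A B ≃ₗ[B] (H B 0).obj (R.obj (Dual.inD A A)) :=
  (omegaEquiv₀ R adj).trans (homSgEquivH 0 (R.obj (Dual.inD A A)))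

end omega

end ShOm

end Groth.Agent.Lib.Helper18.DR
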