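import Mathlib
import Groth.Agent.Lib.Helper18.FdC
import Groth.Agent.Lib.Helper18.NormB
import Groth.Agent.Lib.Helper18.BCHom5
import Groth.Agent.Lib.Helper18.HomLoc6
import Groth.Agent.Lib.Helper18.GfA
import Groth.Agent.Lib.Helper18.ShOmA

/-!
# `H^i(ω_{A/R})_q = 0` for `i < -d`, `d` the local dimension of the fibre at `q` (helper18)
-/

set_option autoImplicit false
set_option linter.style.haveILetI false
universe u
open CategoryTheory CategoryTheory.Limits CategoryTheory.Pretriangulated DerivedCategory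
open TensorProduct RingTheory.Sequence

attribute [local instance] HasDerivedCategory.standard

namespace Groth.Agent.Lib.Helper18.DR

namespace FdD

open HomBC HomLoc Norm

section kill

variable {P A : Type u} [CommRing P] [CommRing A] [Algebra P A] [IsNoetherianRing P]
  [Module.Finite P A]
  (Rψ : Dual.D P ⥤ Dual.D A) (adj : DRing.restrictD (algebraMap P A) ⊣ Rψ)
  (Q : Ideal P) [Q.IsPrime]

/-- `A` as a `P`-module -/
noncomputable abbrev AP : ModuleCat.{u} P :=
  (ModuleCat.restrictScalars.{u} (algebraMap P A)).obj (ModuleCat.of A A)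

instance : Module.Finite P (AP (P := P) (A := A)) :=
  Module.Finite.equiv (ShOm.eBA (A := P) (B := A)).symm

include adj in
/-- if `Hom(A ⊗ P_Q, X_Q[j]) = 0` then every map `A ⟶ RHom_P(A, X)[j]` is killed by an element
outside `Q` -/
theorem exists_smul_eq_zero (X : Dual.D P) (m : ℤ) [X.IsGE m] (j : ℤ)
    (hvan : Subsingleton ((extD P (Localization.AtPrime Q)).obj
        (Dual.inD P (AP (P := P) (A := A))) ⟶
      (extD P (Localization.AtPrime Q)).obj (X⟦j⟧)))
    (f : Dual.inD A A ⟶ (Rψ.obj X)⟦j⟧) : ∃ s ∈ Q.primeCompl, (algebraMap P A s) • f = 0 := by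
  have hN : DRing.IsPseudoCoherent' P (Dual.inD P (AP (P := P) (A := A))) :=
    isPseudoCoherent'_Sg_of_finite (AP (P := P) (A := A)) 0
  haveI : (X⟦j⟧).IsGE (m - j) := TStructure.t.isGE_shift X m j (m - j) (by omega)
  have hbc : BCProp (B := Localization.AtPrime Q) (X⟦j⟧) (Dual.inD P (AP (P := P) (A := A))) :=
    bcProp_of_isPseudoCoherent' (m - j) _ hN
  let g := (homAdjEquiv Rψ adj X A j).symm f
  have h0 : Ψ (B := Localization.AtPrime Q) (Dual.inD P (AP (P := P) (A := A))) (X⟦j⟧)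
      ((1 : Localization.AtPrime Q) ⊗ₜ[P] g) = 0 := Subsingleton.elim _ _
  have h1 : (1 : Localization.AtPrime Q) ⊗ₜ[P] g = 0 := hbc.1 (by rw [h0, map_zero])
  haveI := IsLocalization.tensorProduct_isLocalizedModule Q.primeCompl (Localization.AtPrime Q)
    (M := (Dual.inD P (AP (P := P) (A := A)) ⟶ X⟦j⟧))
  obtain ⟨s, hs⟩ := (IsLocalizedModule.eq_zero_iff Q.primeCompl
    (TensorProduct.mk P (Localization.AtPrime Q)
      (Dual.inD P (AP (P := P) (A := A)) ⟶ X⟦j⟧) 1)).1 h1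
  refine ⟨s.1, s.2, ?_⟩
  have hf : f = homAdjEquiv Rψ adj X A j g := ((homAdjEquiv Rψ adj X A j).apply_symm_apply f).symm
  have hs' : (s.1 : P) • g = 0 := hs
  rw [hf, ← homAdjEquiv_smul, hs']
  have h00 := homAdjEquiv_smul Rψ adj X A j (0 : P) g
  rw [zero_smul, RingHom.map_zero, zero_smul] at h00
  exact h00

end kill

section vanish

variable {P A : Type u} [CommRing P] [CommRing A] [Algebra P A]
  (B : Type u) [CommRing B] [Algebra P B] [Module.Flat P B]

lemma smul_tensor_AP_eq_zero (y : B)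
    (hy : y ∈ (RingHom.ker (algebraMap P A)).map (algebraMap P B))
    (z : B ⊗[P] (AP (P := P) (A := A))) : y • z = 0 := by
  revert z
  refine Submodule.span_induction (p := fun y _ => ∀ z : B ⊗[P] (AP (P := P) (A := A)), y • z = 0)
    ?_ ?_ ?_ ?_ hy
  · rintro _ ⟨f, hf, rfl⟩ z
    rw [algebraMap_smul]
    induction z using TensorProduct.induction_on with
    | zero => exact smul_zero _
    | tmul b a =>
      have : f • a = 0 := by
        change algebraMap P A f * (show A from a) = 0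
        rw [(RingHom.mem_ker).1 hf, zero_mul]
      rw [← TensorProduct.tmul_smul, this, TensorProduct.tmul_zero]
    | add z z' hz hz' => rw [smul_add, hz, hz', add_zero]
  · intro z; exact zero_smul _ _
  · intro y y' _ _ h h' z; rw [add_smul, h, h', add_zero]
  · intro b y _ h z; rw [smul_eq_mul, mul_smul, h, smul_zero]

theorem subsingleton_extD_hom (ys : List B)
    (hys : ∀ y ∈ ys, y ∈ (RingHom.ker (algebraMap P A)).map (algebraMap P B))
    (hreg : IsWeaklyRegular B ys) (j : ℤ) (hj : j < ys.length) :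
    Subsingleton ((extD P B).obj (Dual.inD P (AP (P := P) (A := A))) ⟶
      (extD P B).obj ((Dual.inD P P)⟦j⟧)) := by
  let N₁ : ModuleCat.{u} B := ModuleCat.of B (B ⊗[P] (AP (P := P) (A := A)))
  let M₁ : ModuleCat.{u} B := ModuleCat.of B (B ⊗[P] P)
  let iso1 : (extD P B).obj (Dual.inD P (AP (P := P) (A := A))) ≅
      Dual.inD B (B ⊗[P] (AP (P := P) (A := A))) := extDInDIso _
  let iso2 : (extD P B).obj ((Dual.inD P P)⟦j⟧) ≅ (Dual.inD B (B ⊗[P] P))⟦j⟧ :=
    ((extD P B).commShiftIso j).app _ ≪≫ (shiftFunctor _ j).mapIso (extDInDIso P)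
  suffices h : Subsingleton (Dual.inD B (B ⊗[P] (AP (P := P) (A := A))) ⟶
      (Dual.inD B (B ⊗[P] P))⟦j⟧) from (Iso.homCongr iso1 iso2).subsingleton
  by_cases hneg : j < 0
  · haveI : ((Dual.inD B (B ⊗[P] P))⟦j⟧).IsGE (0 + 1) := by
      haveI : ((Dual.inD B (B ⊗[P] P))⟦j⟧).IsGE (-j) :=
        TStructure.t.isGE_shift (Dual.inD B (B ⊗[P] P)) 0 j (-j) (by omega)
      exact TStructure.t.isGE_of_ge _ (0 + 1) (-j) (by omega)
    exact ⟨fun x y => by
      rw [hom_Sg_eq_zero_of_isGE 0 _ _ x, hom_Sg_eq_zero_of_isGE 0 _ _ y]⟩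
  · obtain ⟨j', rfl⟩ : ∃ j' : ℕ, j = j' := ⟨j.toNat, by omega⟩
    have hann : ∀ y ∈ ys, y ∈ Module.annihilator B N₁ := fun y hy =>
      Module.mem_annihilator.2 (fun z => smul_tensor_AP_eq_zero B y (hys y hy) z)
    have hregM : IsWeaklyRegular M₁ ys :=
      ((TensorProduct.AlgebraTensorModule.rid P B B).isWeaklyRegular_congr ys).2 hreg
    haveI : Subsingleton (Abelian.Ext N₁ M₁ j') :=
      Fd.subsingleton_ext_of_isWeaklyRegular N₁ ys M₁ hann hregM j' (by exact_mod_cast hj)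
    exact (Abelian.Ext.homEquiv (X := N₁) (Y := M₁) (n := j')).symm.subsingleton

end vanish

section main

variable (R A : Type u) [CommRing R] [CommRing A] [IsNoetherianRing R] [Algebra R A] (n : ℕ)
  (ψ : MvPolynomial (Fin n) R →ₐ[R] A) (hψ : Function.Surjective ψ)
  [DRing.HasLBaseChange (algebraMap R (MvPolynomial (Fin n) R))]
  (Rψ : Dual.D (MvPolynomial (Fin n) R) ⥤ Dual.D A) (adj : DRing.restrictD ψ.toRingHom ⊣ Rψ)

include hψ adj in
/-- **S1785** -/
theorem main (q : PrimeSpectrum A) (d : ℕ)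
    (hd : FlatMor.fibreDimAt (AlgebraicGeometry.Spec.map (CommRingCat.ofHom (algebraMap R A))) q = d)
    (i : ℤ)
    (h : Nontrivial (LocalizedModule q.asIdeal.primeCompl
      (Dual.HD A (Dual2.shriekVia n Rψ (Dual.inD R R)) i))) : -(d : ℤ) ≤ i := by
  by_contra hlt
  push_neg at hlt
  letI : Algebra (MvPolynomial (Fin n) R) A := ψ.toRingHom.toAlgebra
  haveI : Module.Finite (MvPolynomial (Fin n) R) A :=
    Module.Finite.of_surjective (Algebra.linearMap (MvPolynomial (Fin n) R) A) hψ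
  let Q : Ideal (MvPolynomial (Fin n) R) := q.asIdeal.comap ψ.toRingHom
  haveI : Q.IsPrime := Ideal.comap_isPrime _ _
  obtain ⟨ys, hys, hreg, hlen⟩ := Fd.exists_regular_sequence_local R A n ψ hψ q Q rfl d hd
  have hj : (n : ℤ) + i < ys.length := by omega
  let X := (DRing.LBaseChange (algebraMap R (MvPolynomial (Fin n) R))).obj (Dual.inD R R)
  let eX : X ≅ Dual.inD (MvPolynomial (Fin n) R) (MvPolynomial (Fin n) R) :=
    Gf.lbcUnitIso (algebraMap R (MvPolynomial (Fin n) R))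
  have hvan := subsingleton_extD_hom (P := MvPolynomial (Fin n) R) (A := A)
    (Localization.AtPrime Q) ys hys hreg ((n : ℤ) + i) hj
  apply not_subsingleton (LocalizedModule q.asIdeal.primeCompl
      (Dual.HD A (Dual2.shriekVia n Rψ (Dual.inD R R)) i))
  rw [LocalizedModule.subsingleton_iff]
  intro x
  let Y := Rψ.obj X
  let e1 : (H A i).obj (Y⟦(n : ℤ)⟧) ≅ (H A ((n : ℤ) + i)).obj Y :=
    (HShiftIso A (n : ℤ) i ((n : ℤ) + i) rfl).app Y
  let x' : (H A ((n : ℤ) + i)).obj Y := e1.hom.hom x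
  let f₁ : Sg ((n : ℤ) + i) (ModuleCat.of A A) ⟶ Y := (homSgEquivH ((n : ℤ) + i) Y).symm x'
  let f : Dual.inD A A ⟶ Y⟦(n : ℤ) + i⟧ :=
    (SgShiftIso ((n : ℤ) + i) 0 ((n : ℤ) + i) (by omega) (ModuleCat.of A A)).inv ≫
      f₁⟦(n : ℤ) + i⟧'
  let f' : Dual.inD A A ⟶ (Rψ.obj (Dual.inD (MvPolynomial (Fin n) R)
      (MvPolynomial (Fin n) R)))⟦(n : ℤ) + i⟧ := f ≫ ((Rψ.mapIso eX).hom)⟦(n : ℤ) + i⟧'
  obtain ⟨s, hs, hsf⟩ := exists_smul_eq_zero Rψ adj Q
    (Dual.inD (MvPolynomial (Fin n) R) (MvPolynomial (Fin n) R)) 0 ((n : ℤ) + i) hvan f'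
  refine ⟨ψ s, hs, ?_⟩
  have h1 : (ψ s) • f = 0 := by
    have : ((ψ s) • f) ≫ ((Rψ.mapIso eX).hom)⟦(n : ℤ) + i⟧' = 0 := by
      rw [Linear.smul_comp]; exact hsf
    rw [← cancel_mono (((Rψ.mapIso eX).hom)⟦(n : ℤ) + i⟧'), this, zero_comp]
  have h2 : (ψ s) • f₁ = 0 := by
    apply (shiftFunctor (Dual.D A) ((n : ℤ) + i)).map_injective
    rw [Functor.map_smul, Functor.map_zero]
    rw [← cancel_epi (SgShiftIso ((n : ℤ) + i) 0 ((n : ℤ) + i) (by omega) (ModuleCat.of A A)).inv,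
      Linear.comp_smul, comp_zero]
    exact h1
  have h3 : (ψ s) • x' = 0 := by
    have : x' = homSgEquivH ((n : ℤ) + i) Y f₁ :=
      ((homSgEquivH ((n : ℤ) + i) Y).apply_symm_apply x').symm
    rw [this, ← map_smul, h2, map_zero]
  have h4 : e1.hom.hom ((ψ s) • x) = 0 := by
    rw [map_smul]; exact h3
  have h5 := congrArg e1.inv.hom h4
  rw [map_zero] at h5
  have h6 : e1.inv.hom (e1.hom.hom ((ψ s) • x)) = (ψ s) • x := by
    have := congrArg (fun g => g.hom ((ψ s) • x)) e1.hom_inv_id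
    exact this
  rw [h6] at h5
  exact h5

end main

end FdD

end Groth.Agent.Lib.Helper18.DR
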