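import Mathlib
import Groth.Agent.Lib.Helper18.FdD
import Groth.Agent.Lib.Helper18.OmA
import Groth.Agent.Lib.Helper18.DRProjAmp
import Groth.Agent.Lib.Helper18.DRTorB

/-!
# `H^j(RHom_P(A, P ⊗_R M)) = 0` outside `[n - d, n]` for `R → A` flat with fibres of dimension
`≤ d` (helper18)
-/

set_option autoImplicit false
set_option linter.style.haveILetI false
universe u
open CategoryTheory CategoryTheory.Limits CategoryTheory.Pretriangulated DerivedCategory
open TensorProduct RingTheory.Sequence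

attribute [local instance] HasDerivedCategory.standard

namespace Groth.Agent.Lib.Helper18.DR

namespace FdG

open HomBC HomLoc Norm FdD

section toHom

variable {A : Type u} [CommRing A]

/-- the map `A ⟶ Y⟦j⟧` attached to a class in `H^j(Y)` -/
noncomputable def toHom (Y : Dual.D A) (j : ℤ) (x : (H A j).obj Y) : Dual.inD A A ⟶ Y⟦j⟧ :=
  (SgShiftIso j 0 j (by omega) (ModuleCat.of A A)).inv ≫ ((homSgEquivH j Y).symm x)⟦j⟧'

lemma smul_eq_zero_of_smul_toHom (Y : Dual.D A) (j : ℤ) (x : (H A j).obj Y) (a : A)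
    (h : a • toHom Y j x = 0) : a • x = 0 := by
  have h2 : a • (homSgEquivH j Y).symm x = 0 := by
    apply (shiftFunctor (Dual.D A) j).map_injective
    rw [Functor.map_smul, Functor.map_zero]
    rw [← cancel_epi (SgShiftIso j 0 j (by omega) (ModuleCat.of A A)).inv,
      Linear.comp_smul, comp_zero]
    exact h
  have h3 : x = homSgEquivH j Y ((homSgEquivH j Y).symm x) :=
    ((homSgEquivH j Y).apply_symm_apply x).symm
  rw [h3, ← map_smul, h2, map_zero]

/-- a module all of whose elements are killed, at every prime, by an element outside the prime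
is zero -/
lemma subsingleton_of_forall_prime (N : Type u) [AddCommGroup N] [Module A N]
    (h : ∀ (q : PrimeSpectrum A) (x : N), ∃ a ∉ q.asIdeal, a • x = 0) : Subsingleton N := by
  refine ⟨fun x y => ?_⟩
  suffices hx : ∀ z : N, z = 0 by rw [hx x, hx y]
  intro z
  by_contra hz
  let I : Ideal A := LinearMap.ker (LinearMap.toSpanSingleton A N z)
  have hI : I ≠ ⊤ := by
    intro hI
    have : (1 : A) ∈ I := by rw [hI]; exact Submodule.mem_top
    rw [LinearMap.mem_ker, LinearMap.toSpanSingleton_apply, one_smul] at this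
    exact hz this
  obtain ⟨m, hm, hIm⟩ := Ideal.exists_le_maximal I hI
  obtain ⟨a, ha, haz⟩ := h ⟨m, hm.isPrime⟩ z
  exact ha (hIm (by rw [LinearMap.mem_ker, LinearMap.toSpanSingleton_apply]; exact haz))

end toHom

section kill

variable {P A : Type u} [CommRing P] [CommRing A] [Algebra P A] [IsNoetherianRing P]
  [Module.Finite P A]
  (Rψ : Dual.D P ⥤ Dual.D A) (adj : DRing.restrictD (algebraMap P A) ⊣ Rψ)

include adj in
/-- classes in `H^j(RHom_P(A, X))` are killed locally if the localized `Hom` vanishes -/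
theorem exists_smul_H_eq_zero (Q : Ideal P) [Q.IsPrime] (X : Dual.D P) (m : ℤ) [X.IsGE m] (j : ℤ)
    (hvan : Subsingleton ((extD P (Localization.AtPrime Q)).obj
        (Dual.inD P (AP (P := P) (A := A))) ⟶
      (extD P (Localization.AtPrime Q)).obj (X⟦j⟧)))
    (x : (H A j).obj (Rψ.obj X)) : ∃ s ∈ Q.primeCompl, (algebraMap P A s) • x = 0 := by
  obtain ⟨s, hs, hsf⟩ := exists_smul_eq_zero Rψ adj Q X m j hvan (toHom (Rψ.obj X) j x)
  exact ⟨s, hs, smul_eq_zero_of_smul_toHom _ j x _ hsf⟩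

include adj in
/-- `H^j(RHom_P(A, X)) = 0` if `Hom(A, X[j]) = 0` -/
theorem isZero_H_of_subsingleton_hom (X : Dual.D P) (j : ℤ)
    (h : Subsingleton (Dual.inD P (AP (P := P) (A := A)) ⟶ X⟦j⟧)) :
    IsZero ((H A j).obj (Rψ.obj X)) := by
  haveI : Subsingleton ((H A j).obj (Rψ.obj X)) := by
    refine ⟨fun x y => ?_⟩
    suffices hx : ∀ z : (H A j).obj (Rψ.obj X), z = 0 by rw [hx x, hx y]
    intro z
    haveI : Subsingleton (Dual.inD A A ⟶ (Rψ.obj X)⟦j⟧) :=
      (homAdjEquiv Rψ adj X A j).symm.subsingleton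
    have h1 : (1 : A) • toHom (Rψ.obj X) j z = 0 := Subsingleton.elim _ _
    have h2 := smul_eq_zero_of_smul_toHom _ j z 1 h1
    rwa [one_smul] at h2
  exact ModuleCat.isZero_of_subsingleton _

end kill

section vanish

variable {P A : Type u} [CommRing P] [CommRing A] [Algebra P A]
  (B : Type u) [CommRing B] [Algebra P B] [Module.Flat P B]

/-- `Hom(A ⊗ B, (M' ⊗ B)[j]) = 0` below the length of an `M' ⊗ B`-regular sequence in `ker · B` -/
theorem subsingleton_extD_hom' (M' : Type u) [AddCommGroup M'] [Module P M'] (ys : List B)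
    (hys : ∀ y ∈ ys, y ∈ (RingHom.ker (algebraMap P A)).map (algebraMap P B))
    (hreg : IsWeaklyRegular (B ⊗[P] M') ys) (j : ℤ) (hj : j < ys.length) :
    Subsingleton ((extD P B).obj (Dual.inD P (AP (P := P) (A := A))) ⟶
      (extD P B).obj ((Dual.inD P M')⟦j⟧)) := by
  let N₁ : ModuleCat.{u} B := ModuleCat.of B (B ⊗[P] (AP (P := P) (A := A)))
  let M₁ : ModuleCat.{u} B := ModuleCat.of B (B ⊗[P] M')
  let iso1 : (extD P B).obj (Dual.inD P (AP (P := P) (A := A))) ≅
      Dual.inD B (B ⊗[P] (AP (P := P) (A := A))) := extDInDIso _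
  let iso2 : (extD P B).obj ((Dual.inD P M')⟦j⟧) ≅ (Dual.inD B (B ⊗[P] M'))⟦j⟧ :=
    ((extD P B).commShiftIso j).app _ ≪≫ (shiftFunctor _ j).mapIso (extDInDIso M')
  suffices h : Subsingleton (Dual.inD B (B ⊗[P] (AP (P := P) (A := A))) ⟶
      (Dual.inD B (B ⊗[P] M'))⟦j⟧) from (Iso.homCongr iso1 iso2).subsingleton
  by_cases hneg : j < 0
  · haveI : ((Dual.inD B (B ⊗[P] M'))⟦j⟧).IsGE (0 + 1) := by
      haveI : ((Dual.inD B (B ⊗[P] M'))⟦j⟧).IsGE (-j) :=
        TStructure.t.isGE_shift (Dual.inD B (B ⊗[P] M')) 0 j (-j) (by omega)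
      exact TStructure.t.isGE_of_ge _ (0 + 1) (-j) (by omega)
    exact ⟨fun x y => by
      rw [hom_Sg_eq_zero_of_isGE 0 _ _ x, hom_Sg_eq_zero_of_isGE 0 _ _ y]⟩
  · obtain ⟨j', rfl⟩ : ∃ j' : ℕ, j = j' := ⟨j.toNat, by omega⟩
    have hann : ∀ y ∈ ys, y ∈ Module.annihilator B N₁ := fun y hy =>
      Module.mem_annihilator.2 (fun z => smul_tensor_AP_eq_zero B y (hys y hy) z)
    haveI : Subsingleton (Abelian.Ext N₁ M₁ j') :=
      Fd.subsingleton_ext_of_isWeaklyRegular N₁ ys M₁ hann hreg j' (by exact_mod_cast hj)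
    exact (Abelian.Ext.homEquiv (X := N₁) (Y := M₁) (n := j')).symm.subsingleton

end vanish

section main

variable (R A : Type u) [CommRing R] [CommRing A] [IsNoetherianRing R] [Algebra R A] (n : ℕ)
  (ψ : MvPolynomial (Fin n) R →ₐ[R] A) (hψ : Function.Surjective ψ)
  (Rψ : Dual.D (MvPolynomial (Fin n) R) ⥤ Dual.D A) (adj : DRing.restrictD ψ.toRingHom ⊣ Rψ)

include hψ adj in
/-- `Ext^j_P(A, M') = 0` for `j > n` when `A` is flat over `R` -/
theorem isZero_H_upper [Module.Flat R A] (M' : Type u) [AddCommGroup M']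
    [Module (MvPolynomial (Fin n) R) M'] (j : ℤ) (hj : (n : ℤ) < j) :
    IsZero ((H A j).obj (Rψ.obj (Dual.inD (MvPolynomial (Fin n) R) M'))) := by
  letI : Algebra (MvPolynomial (Fin n) R) A := ψ.toRingHom.toAlgebra
  haveI : Module.Finite (MvPolynomial (Fin n) R) A :=
    Module.Finite.of_surjective (Algebra.linearMap (MvPolynomial (Fin n) R) A) hψ
  apply isZero_H_of_subsingleton_hom (P := MvPolynomial (Fin n) R) (A := A) Rψ adj
  have hK : DRing.IsPseudoCoherent' (MvPolynomial (Fin n) R)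
      ((DRing.restrictD ψ.toRingHom).obj (Sg 0 (ModuleCat.of A A))) :=
    Fbc.isPseudoCoherent'_restrictD_Sg (MvPolynomial (Fin n) R) A 0
  obtain ⟨hperf, hTA⟩ := Om.isPerfect_of_flat R A n ψ hψ
  have h1 := (projAmp_iff_isPerfect_and_torAmp _ hK (-(n : ℤ)) 0).2 ⟨hperf, hTA⟩
  have h2' : ∀ (N : Type u) [AddCommGroup N] [Module (MvPolynomial (Fin n) R) N] (i : ℤ),
      (i < -0 ∨ -(-(n : ℤ)) < i) →
        Subsingleton (DRing.ExtD (MvPolynomial (Fin n) R)
          ((DRing.restrictD ψ.toRingHom).obj (Sg 0 (ModuleCat.of A A)))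
          (Dual.inD (MvPolynomial (Fin n) R) N) i) :=
    ((projAmp_tfae ((DRing.restrictD ψ.toRingHom).obj (Sg 0 (ModuleCat.of A A)))
      (-(n : ℤ)) 0).out 0 1).1 h1
  have h2 := h2' M' j (Or.inr (by omega))
  let e : (DRing.restrictD ψ.toRingHom).obj (Sg 0 (ModuleCat.of A A)) ≅
      Dual.inD (MvPolynomial (Fin n) R) (AP (P := MvPolynomial (Fin n) R) (A := A)) :=
    restrictDSgIso (algebraMap (MvPolynomial (Fin n) R) A) 0 (ModuleCat.of A A)
  exact (Iso.homCongr e (Iso.refl _)).symm.subsingleton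

include hψ adj in
/-- `Ext^j_P(A, P ⊗_R M) = 0` for `j < n - d` when the fibres of `R → A` have dimension `≤ d` -/
theorem isZero_H_lower (d : ℕ)
    (hd : ∀ q : PrimeSpectrum A, FlatMor.fibreDimAt
      (AlgebraicGeometry.Spec.map (CommRingCat.ofHom (algebraMap R A))) q ≤ (d : WithBot ℕ∞))
    (M : Type u) [AddCommGroup M] [Module R M] (j : ℤ) (hj : j < (n : ℤ) - d) :
    IsZero ((H A j).obj (Rψ.obj (Dual.inD (MvPolynomial (Fin n) R)
      (MvPolynomial (Fin n) R ⊗[R] M)))) := by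
  letI : Algebra (MvPolynomial (Fin n) R) A := ψ.toRingHom.toAlgebra
  haveI : Module.Finite (MvPolynomial (Fin n) R) A :=
    Module.Finite.of_surjective (Algebra.linearMap (MvPolynomial (Fin n) R) A) hψ
  haveI : Algebra.FiniteType R A := Algebra.FiniteType.of_surjective ψ hψ
  haveI : Subsingleton ((H A j).obj (Rψ.obj (Dual.inD (MvPolynomial (Fin n) R)
      (MvPolynomial (Fin n) R ⊗[R] M)))) := by
    refine subsingleton_of_forall_prime (A := A) _ ?_
    intro q x
    let Q : Ideal (MvPolynomial (Fin n) R) := q.asIdeal.comap ψ.toRingHom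
    haveI : Q.IsPrime := Ideal.comap_isPrime _ _
    -- the fibre dimension at `q` is a natural number `≤ d`
    have hq := hd q
    rw [Fd.fibreDimAt_eq R A q] at hq
    have hq' : (Order.height (Fd.qbar R A q) + Order.coheight (Fd.qbar R A q) : ℕ∞) ≤ (d : ℕ∞) := by
      exact_mod_cast hq
    obtain ⟨dq, hdq⟩ := ENat.ne_top_iff_exists.1 (ne_top_of_le_ne_top (ENat.coe_ne_top d) hq')
    have hdq' : dq ≤ d := by
      rw [← hdq] at hq'
      exact_mod_cast hq'
    have hfd : FlatMor.fibreDimAt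
        (AlgebraicGeometry.Spec.map (CommRingCat.ofHom (algebraMap R A))) q = dq := by
      rw [Fd.fibreDimAt_eq R A q, ← hdq]
      rfl
    obtain ⟨ys, hys, hreg, hlen⟩ :=
      Fd.exists_regular_sequence_local_tensor R A n ψ hψ q Q rfl dq hfd
    have hj' : j < ys.length := by omega
    have hreg' : IsWeaklyRegular (Localization.AtPrime Q ⊗[MvPolynomial (Fin n) R]
        (MvPolynomial (Fin n) R ⊗[R] M)) ys :=
      ((TensorProduct.AlgebraTensorModule.cancelBaseChange R (MvPolynomial (Fin n) R)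
        (Localization.AtPrime Q) (Localization.AtPrime Q) M).isWeaklyRegular_congr ys).2 (hreg M)
    have hvan := subsingleton_extD_hom' (P := MvPolynomial (Fin n) R) (A := A)
      (Localization.AtPrime Q) (MvPolynomial (Fin n) R ⊗[R] M) ys hys hreg' j hj'
    obtain ⟨s, hs, hsx⟩ := exists_smul_H_eq_zero Rψ adj Q
      (Dual.inD (MvPolynomial (Fin n) R) (MvPolynomial (Fin n) R ⊗[R] M)) 0 j hvan x
    exact ⟨ψ s, hs, hsx⟩
  exact ModuleCat.isZero_of_subsingleton _

end main

end FdG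

end Groth.Agent.Lib.Helper18.DR
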