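import Mathlib
import Groth.Agent.Lib.Helper18.CMLocC
import Groth.Agent.Lib.Helper18.FdG

/-!
# Cohen–Macaulayness of `A_p` via the localized cohomology modules of a dualizing complex (helper18)
-/

set_option autoImplicit false
set_option linter.style.haveILetI false
universe u
open CategoryTheory CategoryTheory.Limits CategoryTheory.Pretriangulated DerivedCategory

attribute [local instance] HasDerivedCategory.standard

namespace Groth.Agent.Lib.Helper18.DR

namespace DSchB

open HomLoc HomBC MaxCrit Uniq Norm Dim ExtDim CMLoc FdG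

section equiv

variable {A : Type u} [CommRing A]

/-- `toHom` as a linear map -/
noncomputable def toHomₗ (Y : Dual.D A) (j : ℤ) :
    (H A j).obj Y →ₗ[A] (Dual.inD A A ⟶ Y⟦j⟧) where
  toFun := toHom Y j
  map_add' x y := by
    simp only [toHom, map_add, Functor.map_add, Preadditive.comp_add]
  map_smul' a x := by
    simp only [toHom, map_smul, Functor.map_smul, Linear.comp_smul, RingHom.id_apply]

lemma toHomₗ_bijective (Y : Dual.D A) (j : ℤ) : Function.Bijective (toHomₗ Y j) := by
  constructor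
  · intro x y hxy
    have h1 : ((homSgEquivH j Y).symm x)⟦j⟧' = ((homSgEquivH j Y).symm y)⟦j⟧' := by
      rw [← cancel_epi (SgShiftIso j 0 j (by omega) (ModuleCat.of A A)).inv]
      exact hxy
    exact (homSgEquivH j Y).symm.injective ((shiftFunctor (Dual.D A) j).map_injective h1)
  · intro f
    obtain ⟨g, hg⟩ := (shiftFunctor (Dual.D A) j).map_surjective
      ((SgShiftIso j 0 j (by omega) (ModuleCat.of A A)).hom ≫ f)
    refine ⟨homSgEquivH j Y g, ?_⟩
    show (SgShiftIso j 0 j (by omega) (ModuleCat.of A A)).inv ≫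
      ((homSgEquivH j Y).symm (homSgEquivH j Y g))⟦j⟧' = f
    rw [LinearEquiv.symm_apply_apply, hg, Iso.inv_hom_id_assoc]

/-- `H^j(Y) ≃ Hom(A, Y[j])` -/
noncomputable def hEquiv (Y : Dual.D A) (j : ℤ) :
    (H A j).obj Y ≃ₗ[A] (Dual.inD A A ⟶ Y⟦j⟧) :=
  LinearEquiv.ofBijective (toHomₗ Y j) (toHomₗ_bijective Y j)

lemma mem_support_hom_iff_HD (Y : Dual.D A) (j : ℤ) (p : PrimeSpectrum A) :
    p ∈ Module.support A (Dual.inD A A ⟶ Y⟦j⟧) ↔
      Nontrivial (LocalizedModule p.asIdeal.primeCompl (Dual.HD A Y j)) := by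
  rw [← (hEquiv Y j).support_eq, Module.mem_support_iff]

end equiv

section main

variable {A : Type u} [CommRing A] [IsNoetherianRing A]

/-- over a local ring, some `Ext^i(N, ω)` is nonzero -/
lemma exists_nontrivial_hom {B : Type u} [CommRing B] [IsLocalRing B] [IsNoetherianRing B]
    (ω : Dual.D B) (hω : Dual.IsDualizing B ω) (N : Type u)
    [AddCommGroup N] [Module B N] [Module.Finite B N] [Nontrivial N] :
    ∃ i : ℤ, Nontrivial (Dual.inD B N ⟶ ω⟦i⟧) := by
  obtain ⟨n, hn⟩ := exists_isNormalized_shift ω hω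
  have hω' := InvTwist.isDualizing_shift ω hω n
  obtain ⟨d, hd⟩ := Groth.Agent.Lib.Helper4.exists_nat_supportDim (R := B) (M := N)
  have hd' : Module.supportDim B N = (d : WithBot ℕ∞) := hd
  have hnt := Groth.Agent.S19859.result B (ω⟦n⟧) hω' hn N d hd'
  rw [nontrivial_hom_shift_shift_iff] at hnt
  exact ⟨_, hnt⟩

/-- some cohomology module of a dualizing complex is nonzero at `p` -/
lemma exists_mem_support (ω : Dual.D A) (hω : Dual.IsDualizing A ω) (p : PrimeSpectrum A) :
    ∃ i : ℤ, p ∈ Module.support A (Dual.inD A A ⟶ ω⟦i⟧) := by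
  obtain ⟨a, b, hab⟩ := hω.finite_injective_dimension
  have hfid : FidIn ω a b := hab
  haveI := hfid.isGE
  haveI := finite_localizedModule p A
  haveI : Nontrivial (LocalizedModule p.asIdeal.primeCompl A) :=
    (locSelfEquiv p).toEquiv.nontrivial
  obtain ⟨i, hi⟩ := exists_nontrivial_hom (locAt ω p) (isDualizing_locAt ω hω p)
    (LocalizedModule p.asIdeal.primeCompl A)
  exact ⟨i, (mem_support_hom_iff ω A a p i).2 hi⟩

/-- **the Cohen–Macaulay criterion in terms of the localized cohomology modules** -/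
theorem cm_iff_existsUnique (ω : Dual.D A) (hω : Dual.IsDualizing A ω) (p : PrimeSpectrum A) :
    LocCoh.IsCohenMacaulayLocalRing (Localization.AtPrime p.asIdeal) ↔
      ∃! i : ℤ, Nontrivial (LocalizedModule p.asIdeal.primeCompl (Dual.HD A ω i)) := by
  rw [cmLocalRing_iff p, subsingleton_or_cm_iff ω A hω p]
  simp only [mem_support_hom_iff_HD]
  constructor
  · intro h
    obtain ⟨i, hi⟩ := exists_mem_support ω hω p
    rw [mem_support_hom_iff_HD] at hi
    exact ⟨i, hi, fun j hj => h j i hj hi⟩
  · rintro ⟨i, -, hu⟩ j k hj hk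
    rw [hu j hj, hu k hk]

end main

end DSchB

end Groth.Agent.Lib.Helper18.DR
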