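import Mathlib
import Groth.Agent.Lib.Helper18.CMLocB
import Groth.Agent.S11179

/-!
# The Gorenstein locus of a ring with a dualizing complex is open (helper18)
-/

set_option autoImplicit false
set_option linter.style.haveILetI false
universe u
open CategoryTheory CategoryTheory.Limits CategoryTheory.Pretriangulated DerivedCategory

attribute [local instance] HasDerivedCategory.standard

namespace Groth.Agent.Lib.Helper18.DR

namespace GorLoc

open HomLoc HomBC MaxCrit Uniq Norm Dim ExtDim CMLoc

section loc

variable {B : Type u} [CommRing B] [IsLocalRing B] [IsNoetherianRing B]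

omit [IsLocalRing B] [IsNoetherianRing B] in
/-- a free nonzero module has `B` as a retract -/
lemma nonempty_retract_of_free (F : ModuleCat.{u} B) [Module.Free B F] [Nontrivial F] :
    Nonempty (Retract (ModuleCat.of B B) F) := by
  let b := Module.Free.chooseBasis B F
  haveI : Nonempty (Module.Free.ChooseBasisIndex B F) := b.index_nonempty
  obtain ⟨i⟩ := this
  exact ⟨{ i := ModuleCat.ofHom (LinearMap.toSpanSingleton B F (b i))
           r := ModuleCat.ofHom (b.coord i)
           retract := by
             ext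
             simp }⟩

/-- if a dualizing complex is a free module placed in one degree, the ring is Gorenstein -/
theorem gorenstein_of_iso_single (ω' : Dual.D B) (hω' : Dual.IsDualizing B ω') (m : ℤ)
    (F : ModuleCat.{u} B) [Module.Free B F] (e : ω' ≅ Sg m F) :
    LocCoh.IsGorensteinLocalRing B := by
  haveI : Nontrivial F := by
    by_contra h
    rw [not_nontrivial_iff_subsingleton] at h
    have hz : IsZero ω' :=
      (Functor.map_isZero (singleFunctor (ModuleCat.{u} B) m)
        (ModuleCat.isZero_of_subsingleton F)).of_iso e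
    have := hω'.toEnd_bijective.1 (a₁ := 0) (a₂ := 1) (hz.eq_of_src _ _)
    exact zero_ne_one this
  obtain ⟨a, b, hab⟩ := hω'.finite_injective_dimension
  obtain ⟨r⟩ := nonempty_retract_of_free F
  let N : ℕ := (b - m + 1).toNat
  haveI : HasInjectiveDimensionLT F N := by
    refine HasInjectiveDimensionLT.mk (fun j hj Y e' => ?_)
    have hs : Subsingleton (Sg 0 Y ⟶ (Sg 0 F)⟦(j : ℤ)⟧) := by
      haveI : Subsingleton (Sg 0 Y ⟶ ω'⟦m + j⟧) := hab Y (m + j) (Or.inr (by omega))
      let c : (Sg 0 F)⟦(j : ℤ)⟧ ≅ ω'⟦m + j⟧ :=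
        (shiftFunctor (Dual.D B) (j : ℤ)).mapIso ((SgShiftIso m 0 m (by omega) F).symm ≪≫
          (shiftFunctor (Dual.D B) m).mapIso e.symm) ≪≫
          ((shiftFunctorAdd' (Dual.D B) m j (m + j) rfl).app ω').symm
      exact ⟨fun x y => by
        rw [← cancel_mono c.hom]
        exact Subsingleton.elim _ _⟩
    apply (Abelian.Ext.homEquiv (X := Y) (Y := F) (n := j)).injective
    exact hs.elim _ _
  haveI := r.hasInjectiveDimensionLT N
  exact { exists_hasInjectiveDimensionLT := ⟨N, inferInstance⟩ }

end loc

section glob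

variable {A : Type u} [CommRing A] [IsNoetherianRing A] (ω : Dual.D A)

/-- cohomology of the localization -/
noncomputable def HLocIso (p : PrimeSpectrum A) (i : ℤ) :
    (H (Localization.AtPrime p.asIdeal) i).obj (locAt ω p) ≅
      ModuleCat.of (Localization.AtPrime p.asIdeal)
        (LocalizedModule p.asIdeal.primeCompl ((H A i).obj ω)) :=
  homologyMapDIso (extM (A := A) (B := Localization.AtPrime p.asIdeal)) ω i ≪≫
    extMLocIso p ((H A i).obj ω)

theorem gorenstein_of_mem (hω : Dual.IsDualizing A ω) (p : PrimeSpectrum A) (m : ℤ)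
    (hz : ∀ i : ℤ, i ≠ m → p ∉ Module.support A ((H A i).obj ω))
    (hf : p ∈ Module.freeLocus A ((H A m).obj ω)) :
    LocCoh.IsGorensteinLocalRing (Localization.AtPrime p.asIdeal) := by
  have hzero : ∀ i : ℤ, i ≠ m →
      IsZero ((H (Localization.AtPrime p.asIdeal) i).obj (locAt ω p)) := fun i hi => by
    have := hz i hi
    rw [Module.notMem_support_iff] at this
    exact (ModuleCat.isZero_of_subsingleton _).of_iso (HLocIso ω p i)
  haveI : (locAt ω p).IsGE m := (DerivedCategory.isGE_iff _ _).2 (fun i hi => hzero i (by omega))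
  haveI : (locAt ω p).IsLE m := (DerivedCategory.isLE_iff _ _).2 (fun i hi => hzero i (by omega))
  obtain ⟨F, ⟨e⟩⟩ := DerivedCategory.exists_iso_singleFunctor_obj_of_isGE_of_isLE (locAt ω p) m
  have eF : F ≅ ModuleCat.of (Localization.AtPrime p.asIdeal)
      (LocalizedModule p.asIdeal.primeCompl ((H A m).obj ω)) :=
    (HSg m F).symm ≪≫ (H (Localization.AtPrime p.asIdeal) m).mapIso e.symm ≪≫ HLocIso ω p m
  haveI : Module.Free (Localization.AtPrime p.asIdeal)
      (LocalizedModule p.asIdeal.primeCompl ((H A m).obj ω)) := hf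
  haveI : Module.Free (Localization.AtPrime p.asIdeal) F :=
    Module.Free.of_equiv eF.toLinearEquiv.symm
  exact gorenstein_of_iso_single (locAt ω p) (isDualizing_locAt ω hω p) m F e

theorem exists_of_gorenstein (hω : Dual.IsDualizing A ω) (p : PrimeSpectrum A)
    (hG : LocCoh.IsGorensteinLocalRing (Localization.AtPrime p.asIdeal)) :
    ∃ m : ℤ, (∀ i : ℤ, i ≠ m → p ∉ Module.support A ((H A i).obj ω)) ∧
      p ∈ Module.freeLocus A ((H A m).obj ω) := by
  have hB := (Groth.Agent.S11179.result (Localization.AtPrime p.asIdeal)).1 hG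
  obtain ⟨n, ⟨e⟩⟩ := exists_shift_iso (Dual.inD (Localization.AtPrime p.asIdeal)
    (Localization.AtPrime p.asIdeal)) (locAt ω p) hB (isDualizing_locAt ω hω p)
  refine ⟨-n, fun i hi => ?_, ?_⟩
  · rw [Module.notMem_support_iff]
    have hz : IsZero ((H (Localization.AtPrime p.asIdeal) i).obj (locAt ω p)) := by
      have h1 : IsZero ((H (Localization.AtPrime p.asIdeal) (n + i)).obj
          (Dual.inD (Localization.AtPrime p.asIdeal) (Localization.AtPrime p.asIdeal))) := by
        rcases lt_or_gt_of_ne (show n + i ≠ 0 by omega) with h | h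
        · exact isZero_of_isGE _ 0 _ h
        · exact isZero_of_isLE _ 0 _ h
      exact (h1.of_iso ((HShiftIso (Localization.AtPrime p.asIdeal) n i (n + i) rfl).app _)).of_iso
        ((H (Localization.AtPrime p.asIdeal) i).mapIso e)
    exact ModuleCat.subsingleton_of_isZero (hz.of_iso (HLocIso ω p i).symm)
  · rw [Module.mem_freeLocus]
    let iso : ModuleCat.of (Localization.AtPrime p.asIdeal)
        (LocalizedModule p.asIdeal.primeCompl ((H A (-n)).obj ω)) ≅
        ModuleCat.of (Localization.AtPrime p.asIdeal) (Localization.AtPrime p.asIdeal) :=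
      (HLocIso ω p (-n)).symm ≪≫ (H (Localization.AtPrime p.asIdeal) (-n)).mapIso e ≪≫
        (HShiftIso (Localization.AtPrime p.asIdeal) n (-n) 0 (by omega)).app _ ≪≫
        HSg 0 (ModuleCat.of (Localization.AtPrime p.asIdeal) (Localization.AtPrime p.asIdeal))
    exact Module.Free.of_equiv iso.toLinearEquiv.symm

/-- **S0373** -/
theorem isOpen_gorenstein_locus (hω : Dual.IsDualizing A ω) :
    IsOpen {p : PrimeSpectrum A |
      LocCoh.IsGorensteinLocalRing (Localization.AtPrime p.asIdeal)} := by
  obtain ⟨a, b, hab⟩ := hω.finite_injective_dimension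
  have hfid : FidIn ω a b := hab
  haveI := hfid.isGE
  haveI := hfid.isLE
  rw [isOpen_iff_forall_mem_open]
  intro p hp
  obtain ⟨m, hz, hf⟩ := exists_of_gorenstein ω hω p hp
  let U : Set (PrimeSpectrum A) :=
    (⋂ i ∈ ((Finset.Icc a b).filter (fun i => i ≠ m) : Finset ℤ),
      (Module.support A ((H A i).obj ω))ᶜ) ∩ Module.freeLocus A ((H A m).obj ω)
  refine ⟨U, ?_, ?_, ?_⟩
  · intro q hq
    refine gorenstein_of_mem ω hω q m (fun i hi => ?_) hq.2
    by_cases hr : i ∈ Finset.Icc a b
    · exact Set.mem_iInter₂.1 hq.1 i (Finset.mem_filter.2 ⟨hr, hi⟩)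
    · rw [Finset.mem_Icc] at hr
      have hzz : IsZero ((H A i).obj ω) := by
        by_cases h : i < a
        · exact isZero_of_isGE ω a i h
        · exact isZero_of_isLE ω b i (by omega)
      haveI := ModuleCat.subsingleton_of_isZero hzz
      rw [Module.support_eq_empty]
      exact Set.notMem_empty _
  · refine IsOpen.inter ?_ ?_
    · exact Set.Finite.isOpen_biInter (Finset.finite_toSet _) (fun i _ => by
        haveI : Module.Finite A ((H A i).obj ω) := hω.finite_cohomology i
        exact Module.isClosed_support.isOpen_compl)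
    · haveI : Module.Finite A ((H A m).obj ω) := hω.finite_cohomology m
      haveI : Module.FinitePresentation A ((H A m).obj ω) :=
        Module.finitePresentation_of_finite A _
      exact Module.isOpen_freeLocus
  · exact ⟨Set.mem_iInter₂.2 (fun i hi => hz i (Finset.mem_filter.1 hi).2), hf⟩

end glob

end GorLoc

end Groth.Agent.Lib.Helper18.DR
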