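import Mathlib
import Groth.Agent.Lib.Helper18.NrmLoc
import Groth.Agent.Lib.Helper18.DuM
import Groth.Agent.Lib.Helper18.DSchB
import Groth.Agent.Lib.Helper18.CMLocB
import Groth.Agent.Lib.Helper18.GorLocA
import Groth.Agent.Lib.Helper18.CMLocC
import Groth.Agent.Lib.Helper12.DimFT2
import Groth.Agent.Lib.Helper4.CMChain
import Groth.Agent.S0368
import Groth.Agent.S19859
import Groth.Agent.S11179

/-!
# The dualizing complex `ω_{C/k}` of a finite type algebra over a field: Cohen–Macaulayness and
equidimensionality (helper18)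
-/

set_option autoImplicit false
set_option linter.style.haveILetI false
universe u
open CategoryTheory CategoryTheory.Limits CategoryTheory.Pretriangulated DerivedCategory
open scoped TensorProduct

attribute [local instance] HasDerivedCategory.standard

namespace Groth.Agent.Lib.Helper18.DR

namespace Cmf

open HomLoc HomBC Dim DSchB GorLoc CMLoc

section field

variable (k : Type u) [Field k]

lemma isDualizing_field : Dual.IsDualizing k (Dual.inD k k) :=
  (Groth.Agent.S11179.result k).1 (Groth.Agent.Lib.Helper4.GorFlat.gor_field k)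

lemma isNormalized_field : Dual.IsNormalized k (Dual.inD k k) := by
  intro i hi
  refine ⟨fun x y => ?_⟩
  suffices h : ∀ z : Dual.inD k (IsLocalRing.ResidueField k) ⟶ (Dual.inD k k)⟦i⟧, z = 0 by
    rw [h x, h y]
  intro z
  rcases lt_or_gt_of_ne hi with h | h
  · haveI : ((Dual.inD k k)⟦i⟧).IsGE (0 - i) := TStructure.t.isGE_shift _ 0 i (0 - i) (by omega)
    haveI : ((Dual.inD k k)⟦i⟧).IsGE (0 + 1) := TStructure.t.isGE_of_ge _ (0 + 1) (0 - i) (by omega)
    exact hom_Sg_eq_zero_of_isGE 0 _ _ z
  · haveI : ((Dual.inD k k)⟦i⟧).IsLE (0 - i) := TStructure.t.isLE_shift _ 0 i (0 - i) (by omega)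
    haveI : ((Dual.inD k k)⟦i⟧).IsLE (0 - 1) := TStructure.t.isLE_of_le _ (0 - i) (0 - 1) (by omega)
    haveI : Projective (ModuleCat.of k (IsLocalRing.ResidueField k)) :=
      (IsProjective.iff_projective (R := k)
        (P := ModuleCat.of k (IsLocalRing.ResidueField k))).mp inferInstance
    exact hom_Sg_eq_zero_of_isLE 0 _ _ z

end field

section iso

variable {A : Type u} [CommRing A] [IsLocalRing A]

lemma isNormalized_of_iso {ω ω' : Dual.D A} (e : ω ≅ ω') (h : Dual.IsNormalized A ω) :
    Dual.IsNormalized A ω' := fun i hi =>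
  haveI := h i hi
  (Iso.homCongr (Iso.refl _) ((shiftFunctor (Dual.D A) i).mapIso e)).symm.subsingleton

end iso

section modloc

variable {C : Type u} [CommRing C]

/-- a module all of whose localizations at maximal ideals vanish is zero -/
lemma subsingleton_of_forall_maximal_loc (E : Type u) [AddCommGroup E] [Module C E]
    (h : ∀ (m : Ideal C) [m.IsMaximal], Subsingleton (LocalizedModule m.primeCompl E)) :
    Subsingleton E := by
  refine ⟨fun x y => ?_⟩
  suffices hx : ∀ z : E, z = 0 by rw [hx x, hx y]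
  intro z
  by_contra hz
  let I : Ideal C := LinearMap.ker (LinearMap.toSpanSingleton C E z)
  have hI : I ≠ ⊤ := by
    intro hI
    have : (1 : C) ∈ I := by rw [hI]; exact Submodule.mem_top
    rw [LinearMap.mem_ker, LinearMap.toSpanSingleton_apply, one_smul] at this
    exact hz this
  obtain ⟨m, hm, hIm⟩ := Ideal.exists_le_maximal I hI
  haveI := hm
  obtain ⟨a, ha, haz⟩ := (LocalizedModule.subsingleton_iff.1 (h m)) z
  exact ha (hIm (by rw [LinearMap.mem_ker, LinearMap.toSpanSingleton_apply]; exact haz))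

end modloc

section homloc

variable {C : Type u} [CommRing C] [IsNoetherianRing C] (ω : Dual.D C)

/-- `Hom(C_p, ω_p[j])` against the localized cohomology module -/
noncomputable def homLocEquiv (p : PrimeSpectrum C) (j : ℤ) :
    (Dual.inD (Localization.AtPrime p.asIdeal) (Localization.AtPrime p.asIdeal) ⟶
      (locAt ω p)⟦j⟧) ≃
    LocalizedModule p.asIdeal.primeCompl ((H C j).obj ω) :=
  (hEquiv (locAt ω p) j).symm.toEquiv.trans (HLocIso ω p j).toLinearEquiv.toEquiv

end homloc

section main

variable (k : Type u) [Field k] (C : Type u) [CommRing C] [Algebra k C] [IsNoetherianRing C]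
  (N : ℕ) (ψ : MvPolynomial (Fin N) k →ₐ[k] C) (hψ : Function.Surjective ψ)
  [DRing.HasLBaseChange (algebraMap k (MvPolynomial (Fin N) k))]
  (Rψ : Dual.D (MvPolynomial (Fin N) k) ⥤ Dual.D C) (adj : DRing.restrictD ψ.toRingHom ⊣ Rψ)

include hψ adj in
/-- `ω_{C/k}` is dualizing -/
lemma isDualizing_omega : Dual.IsDualizing C (Dual2.shriekVia N Rψ (Dual.inD k k)) :=
  Bid.isDualizing_shriekVia k C N ψ hψ Rψ adj (Dual.inD k k) (isDualizing_field k)

include hψ adj in
/-- the localization of `ω_{C/k}` at a maximal ideal is a normalized dualizing complex -/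
lemma locMax (m : Ideal C) [hm : m.IsMaximal] :
    Dual.IsDualizing (Localization.AtPrime m)
      (locAt (Dual2.shriekVia N Rψ (Dual.inD k k)) ⟨m, hm.isPrime⟩) ∧
    Dual.IsNormalized (Localization.AtPrime m)
      (locAt (Dual2.shriekVia N Rψ (Dual.inD k k)) ⟨m, hm.isPrime⟩) := by
  haveI : DRing.HasLBaseChange (algebraMap C (Localization.AtPrime m)) := Om.hasLBaseChange _
  have hcm : m.comap (algebraMap k C) = IsLocalRing.maximalIdeal k := by
    rw [IsLocalRing.maximalIdeal_eq_bot]
    haveI : (m.comap (algebraMap k C)).IsPrime := Ideal.comap_isPrime _ _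
    exact (Ideal.eq_bot_or_top _).resolve_right (Ideal.IsPrime.ne_top inferInstance)
  obtain ⟨h1, h2⟩ := NrmLoc.isDualizing_isNormalized_LBaseChange_shriekVia k C N ψ hψ
    Rψ adj m hcm (Dual.inD k k) (isDualizing_field k) (isNormalized_field k)
  obtain ⟨e⟩ := HomBC.nonempty_LBaseChange_iso_extD (A := C) (B := Localization.AtPrime m)
    (Dual2.shriekVia N Rψ (Dual.inD k k))
  exact ⟨isDualizing_of_iso e h1, isNormalized_of_iso e h2⟩

include hψ adj in
/-- Cohen–Macaulayness of `C_m` in terms of the localized cohomology of `ω_{C/k}` -/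
lemma loc_cm_iff (m : Ideal C) [hm : m.IsMaximal] (d : ℕ)
    (hd : Module.supportDim (Localization.AtPrime m) (Localization.AtPrime m) = d) :
    LocCoh.IsCohenMacaulayLocalRing (Localization.AtPrime m) ↔
      ∀ i : ℤ, i ≠ -(d : ℤ) → Subsingleton (LocalizedModule m.primeCompl
        ((H C i).obj (Dual2.shriekVia N Rψ (Dual.inD k k)))) := by
  obtain ⟨h1, h2⟩ := locMax k C N ψ hψ Rψ adj m
  have key := Groth.Agent.S0368.result (Localization.AtPrime m) _ h1 h2 (Localization.AtPrime m) d hd
  have hcm : LocCoh.IsCohenMacaulayLocalRing (Localization.AtPrime m) ↔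
      LocCoh.IsCohenMacaulayModule (Localization.AtPrime m) (Localization.AtPrime m) :=
    ⟨fun h => h.supportDim_eq_depth, fun h => { supportDim_eq_depth := h }⟩
  rw [hcm, key]
  constructor
  · intro h i hi
    haveI := h (-i) (by omega)
    exact (homLocEquiv (Dual2.shriekVia N Rψ (Dual.inD k k)) ⟨m, hm.isPrime⟩
      (- -i)).symm.subsingleton |> fun hs => by rwa [neg_neg] at hs
  · intro h i hi
    haveI := h (-i) (by omega)
    exact (homLocEquiv (Dual2.shriekVia N Rψ (Dual.inD k k)) ⟨m, hm.isPrime⟩ (-i)).subsingleton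

include hψ adj in
/-- the cohomology of `ω_{C/k}` in degree `-dim C_m` is nonzero at `m` -/
lemma loc_nontrivial (m : Ideal C) [hm : m.IsMaximal] (d : ℕ)
    (hd : Module.supportDim (Localization.AtPrime m) (Localization.AtPrime m) = d) :
    Nontrivial (LocalizedModule m.primeCompl
      ((H C (-(d : ℤ))).obj (Dual2.shriekVia N Rψ (Dual.inD k k)))) := by
  obtain ⟨h1, h2⟩ := locMax k C N ψ hψ Rψ adj m
  haveI := Groth.Agent.S19859.result (Localization.AtPrime m) _ h1 h2 (Localization.AtPrime m) d hd
  exact (homLocEquiv (Dual2.shriekVia N Rψ (Dual.inD k k)) ⟨m, hm.isPrime⟩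
    (-(d : ℤ))).symm.nontrivial

include hψ adj in
/-- **F1**: if `C` is Cohen–Macaulay and equidimensional of dimension `n`, then `ω_{C/k}` is
concentrated in degree `-n` -/
theorem isZero_H_of_cm_equidim (n : ℕ) (hCM : LocCoh.IsCohenMacaulayRing C)
    (hEq : ∀ Q : PrimeSpectrum C, Q.asIdeal ∈ minimalPrimes C → Order.coheight Q = (n : ℕ∞))
    (i : ℤ) (hi : i ≠ -(n : ℤ)) :
    IsZero ((H C i).obj (Dual2.shriekVia N Rψ (Dual.inD k k))) := by
  haveI : Algebra.FiniteType k C := Algebra.FiniteType.of_surjective ψ hψ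
  have hdimQ : ∀ P ∈ minimalPrimes C, ∀ _ : P.IsPrime, ringKrullDim (C ⧸ P) = n := by
    intro P hP hPp
    rw [Groth.Agent.Lib.Helper12.DimFT.ringKrullDim_quotient_eq_coheight ⟨P, hPp⟩,
      hEq ⟨P, hPp⟩ hP]
    rfl
  haveI : Subsingleton ((H C i).obj (Dual2.shriekVia N Rψ (Dual.inD k k))) := by
    refine subsingleton_of_forall_maximal_loc (C := C) _ (fun m hm => ?_)
    have hco : Order.coheight (⟨m, hm.isPrime⟩ : PrimeSpectrum C) = 0 := by
      rw [Order.coheight_eq_zero]
      intro z hz
      have h1 : m ≤ z.asIdeal := hz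
      have h2 : z.asIdeal = m := (hm.eq_of_le z.2.ne_top h1).symm
      exact le_of_eq (PrimeSpectrum.ext h2)
    have hht := Groth.Agent.Lib.Helper12.DimFT2.height_add_coheight_of_equidim k C n hdimQ
      ⟨m, hm.isPrime⟩
    rw [hco, add_zero] at hht
    have hht' : m.height = n := by
      rw [← hht]
      exact PrimeSpectrum.height_eq_orderHeight ⟨m, hm.isPrime⟩
    have hd : Module.supportDim (Localization.AtPrime m) (Localization.AtPrime m) = n := by
      rw [Module.supportDim_self_eq_ringKrullDim,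
        IsLocalization.AtPrime.ringKrullDim_eq_height m (Localization.AtPrime m), hht']
      rfl
    haveI := hm.isPrime
    exact (loc_cm_iff k C N ψ hψ Rψ adj m n hd).1
      (hCM.isCohenMacaulayLocalRing_localization m) i hi
  exact ModuleCat.isZero_of_subsingleton _

include hψ adj in
/-- if `ω_{C/k}` is concentrated in degree `-n`, all local rings at maximal ideals are
Cohen–Macaulay of dimension `n` -/
lemma loc_of_isZero_H (n : ℕ)
    (hz : ∀ i : ℤ, i ≠ -(n : ℤ) → IsZero ((H C i).obj (Dual2.shriekVia N Rψ (Dual.inD k k))))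
    (m : Ideal C) [hm : m.IsMaximal] :
    Module.supportDim (Localization.AtPrime m) (Localization.AtPrime m) = n ∧
      LocCoh.IsCohenMacaulayLocalRing (Localization.AtPrime m) := by
  obtain ⟨d, hd⟩ := Groth.Agent.Lib.Helper4.exists_nat_supportDim
    (R := Localization.AtPrime m) (M := Localization.AtPrime m)
  have hd' : Module.supportDim (Localization.AtPrime m) (Localization.AtPrime m) =
    (d : WithBot ℕ∞) := hd
  have hnt := loc_nontrivial k C N ψ hψ Rψ adj m d hd'
  have hdn : d = n := by
    by_contra hne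
    haveI : Subsingleton ((H C (-(d : ℤ))).obj (Dual2.shriekVia N Rψ (Dual.inD k k))) :=
      ModuleCat.subsingleton_of_isZero (hz _ (by omega))
    exact not_subsingleton _ (inferInstance : Subsingleton (LocalizedModule m.primeCompl
      ((H C (-(d : ℤ))).obj (Dual2.shriekVia N Rψ (Dual.inD k k)))))
  subst hdn
  refine ⟨hd', (loc_cm_iff k C N ψ hψ Rψ adj m d hd').2 (fun i hi => ?_)⟩
  haveI : Subsingleton ((H C i).obj (Dual2.shriekVia N Rψ (Dual.inD k k))) :=
    ModuleCat.subsingleton_of_isZero (hz i hi)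
  infer_instance

include hψ adj in
/-- **F2 (CM part)** -/
theorem cm_of_isZero_H (n : ℕ)
    (hz : ∀ i : ℤ, i ≠ -(n : ℤ) → IsZero ((H C i).obj (Dual2.shriekVia N Rψ (Dual.inD k k)))) :
    LocCoh.IsCohenMacaulayRing C := by
  set ω := Dual2.shriekVia N Rψ (Dual.inD k k) with hω
  have hdual := isDualizing_omega k C N ψ hψ Rψ adj
  refine { isCohenMacaulayLocalRing_localization := fun q hq => ?_ }
  have key : ∀ i : ℤ, (⟨q, hq⟩ : PrimeSpectrum C) ∈ Module.support C (Dual.inD C C ⟶ ω⟦i⟧) →
      i = -(n : ℤ) := by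
    intro i hi
    by_contra hne
    rw [mem_support_hom_iff_HD] at hi
    haveI : Subsingleton ((H C i).obj ω) := ModuleCat.subsingleton_of_isZero (hz i hne)
    exact not_subsingleton _ (inferInstance : Subsingleton (LocalizedModule
      (⟨q, hq⟩ : PrimeSpectrum C).asIdeal.primeCompl (Dual.HD C ω i)))
  exact (cmLocalRing_iff ⟨q, hq⟩).2 ((subsingleton_or_cm_iff ω C hdual ⟨q, hq⟩).2
    (fun i j hi hj => by rw [key i hi, key j hj]))

include hψ adj in
/-- **F2 (equidimensionality)** -/
theorem coheight_eq_of_isZero_H (n : ℕ)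
    (hz : ∀ i : ℤ, i ≠ -(n : ℤ) → IsZero ((H C i).obj (Dual2.shriekVia N Rψ (Dual.inD k k))))
    (Q : PrimeSpectrum C) (hQ : Q.asIdeal ∈ minimalPrimes C) : Order.coheight Q = (n : ℕ∞) := by
  have hheight : ∀ (m : Ideal C) [m.IsMaximal], m.height = n := by
    intro m hm
    have h1 := (loc_of_isZero_H k C N ψ hψ Rψ adj n hz m).1
    haveI := hm.isPrime
    rw [Module.supportDim_self_eq_ringKrullDim,
      IsLocalization.AtPrime.ringKrullDim_eq_height m (Localization.AtPrime m)] at h1
    exact_mod_cast h1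
  apply le_antisymm
  · have hdim : ringKrullDim C ≤ (n : WithBot ℕ∞) := by
      rw [ringKrullDim_le_iff_isMaximal_height_le]
      intro m hm
      rw [hheight m]
      rfl
    have h1 := Groth.Agent.Lib.Helper12.DimFT.ringKrullDim_quotient_eq_coheight Q
    have h2 := (ringKrullDim_quotient_le Q.asIdeal).trans hdim
    rw [h1] at h2
    exact_mod_cast h2
  · obtain ⟨m, hm, hQm⟩ := Ideal.exists_le_maximal Q.asIdeal Q.2.ne_top
    haveI := hm
    haveI := hm.isPrime
    obtain ⟨hd, hcm⟩ := loc_of_isZero_H k C N ψ hψ Rψ adj n hz m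
    set S := Localization.AtPrime m with hS
    have hdisj : Disjoint (m.primeCompl : Set C) (Q.asIdeal : Set C) := by
      rw [Set.disjoint_left]
      intro x hx hxQ
      exact hx (hQm hxQ)
    let J : Ideal S := Q.asIdeal.map (algebraMap C S)
    haveI hJ : J.IsPrime := IsLocalization.isPrime_of_isPrime_disjoint m.primeCompl S _ Q.2 hdisj
    have hJht : J.height = 0 := by
      rw [IsLocalization.height_map_of_disjoint m.primeCompl Q.asIdeal hdisj]
      exact Ideal.height_eq_zero_iff.2 hQ
    have hcomap : J.comap (algebraMap C S) = Q.asIdeal :=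
      IsLocalization.comap_map_of_isPrime_disjoint m.primeCompl S Q.2 hdisj
    have hsupp : Module.support S S = Set.univ := by
      rw [Module.support_eq_zeroLocus, Module.annihilator_eq_bot.2 inferInstance]
      exact PrimeSpectrum.zeroLocus_bot
    have h1 := Groth.Agent.Lib.Helper4.cm_height_add_ringKrullDim_quotient (A := S) (M := S)
      hcm.supportDim_eq_depth hsupp ⟨J, hJ⟩
    have hdimS : ringKrullDim S = (n : WithBot ℕ∞) := by
      rw [← Module.supportDim_self_eq_ringKrullDim (R := S)]
      exact hd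
    rw [hdimS] at h1
    change ((J.height : ℕ∞) : WithBot ℕ∞) + ringKrullDim (S ⧸ J) = _ at h1
    rw [hJht, Groth.Agent.Lib.Helper12.DimFT.ringKrullDim_quotient_eq_coheight ⟨J, hJ⟩] at h1
    have h2 : (Order.coheight (⟨J, hJ⟩ : PrimeSpectrum S) : ℕ∞) = n := by
      have h3 : ((0 : ℕ∞) : WithBot ℕ∞) + (Order.coheight (⟨J, hJ⟩ : PrimeSpectrum S) : ℕ∞) =
        ((n : ℕ∞) : WithBot ℕ∞) := h1
      rw [← WithBot.coe_add, zero_add] at h3
      exact WithBot.coe_injective h3
    have hmono : StrictMono (PrimeSpectrum.comap (algebraMap C S)) := by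
      intro x y hxy
      have hle : x.asIdeal.comap (algebraMap C S) ≤ y.asIdeal.comap (algebraMap C S) :=
        Ideal.comap_mono hxy.le
      refine lt_of_le_of_ne hle (fun heq => ?_)
      have h4 : x = y := PrimeSpectrum.localization_comap_injective S m.primeCompl heq
      exact hxy.ne h4
    have h5 := Order.coheight_le_coheight_apply_of_strictMono _ hmono ⟨J, hJ⟩
    have h6 : PrimeSpectrum.comap (algebraMap C S) ⟨J, hJ⟩ = Q := PrimeSpectrum.ext hcomap
    rw [h6, h2] at h5
    exact h5

end main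

end Cmf

end Groth.Agent.Lib.Helper18.DR
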