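import Mathlib
import Groth.Agent.Lib.Helper18.SPInd
import Groth.Agent.Lib.Helper18.LTCxC
import Groth.Agent.Lib.Helper18.KProjH
import Groth.Agent.Lib.Helper18.DTenF

/-!
# Tensoring with a strictly perfect complex: dévissage (helper18)
-/

set_option autoImplicit false
set_option linter.style.haveILetI false
universe u
open CategoryTheory CategoryTheory.Limits CategoryTheory.Pretriangulated MonoidalCategory
  DerivedCategory HomologicalComplex

attribute [local instance] HasDerivedCategory.standard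

namespace Groth.Agent.Lib.Helper18.DR

namespace LTCx

open Groth.Agent.Lib.Helper2.Tot Groth.Agent.Lib.Helper2.Tot.DR

section abstract

variable {C₁ C₂ D : Type*} [Category C₁] [Category C₂] [Category D]
  [HasZeroMorphisms C₁] [Preadditive C₂] [Preadditive D]
  (F : C₁ ⥤ C₂ ⥤ D) [F.PreservesZeroMorphisms] [∀ X₁, (F.obj X₁).Additive]
  [∀ (K₁ : CochainComplex C₁ ℤ) (K₂ : CochainComplex C₂ ℤ),
    HasMapBifunctor K₁ K₂ F (ComplexShape.up ℤ)]

instance additive_map₂_obj (K₁ : CochainComplex C₁ ℤ) :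
    ((F.map₂CochainComplex).obj K₁).Additive where
  map_add {K₂ L₂ f g} := by
    ext n
    apply mapBifunctor.hom_ext
    intro p q hpq
    change ιMapBifunctor K₁ K₂ F (ComplexShape.up ℤ) p q n hpq ≫
      (mapBifunctorMap (𝟙 K₁) (f + g) F (ComplexShape.up ℤ)).f n =
      ιMapBifunctor K₁ K₂ F (ComplexShape.up ℤ) p q n hpq ≫
        ((mapBifunctorMap (𝟙 K₁) f F (ComplexShape.up ℤ)).f n +
          (mapBifunctorMap (𝟙 K₁) g F (ComplexShape.up ℤ)).f n)
    rw [Preadditive.comp_add, ι_mapBifunctorMap, ι_mapBifunctorMap, ι_mapBifunctorMap]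
    simp

end abstract

variable {A : Type u} [CommRing A]

/-- tensoring on the left preserves short exact sequences with termwise projective cokernel -/
lemma shortExact_tensorLeft (F : DRing.Cx A) (S : ShortComplex (DRing.Cx A)) (hS : S.ShortExact)
    (hp : ∀ i, Module.Projective A (S.X₃.X i)) :
    (S.map ((T A).map₂CochainComplex.obj F)).ShortExact :=
  shortExact_map₂ (T A) F S (fun p q => by
    obtain ⟨σ⟩ := SPInd.nonempty_degreewise_splitting S hS hp q
    exact (σ.map ((T A).obj (F.X p))).shortExact)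

/-- **Dévissage for `F ⊗ E` with `E` strictly perfect.** -/
theorem tensor_strictlyPerfect_induction (Pr : ObjectProperty (Dual.D A)) [Pr.IsTriangulated]
    [Pr.IsClosedUnderIsomorphisms] (hsum : ∀ X Y : Dual.D A, Pr (X ⊞ Y) → Pr X)
    (F : DRing.Cx A) (hF : Pr (DerivedCategory.Q.obj F))
    (E : DRing.Cx A) (a b : ℤ) (hE : DRing.VanishesOutside E a b)
    (hp : DRing.TermwiseFiniteProjective E) : Pr (DerivedCategory.Q.obj (F ⊗ E)) := by
  refine SPInd.strictlyPerfect_induction (fun E' => Pr (DerivedCategory.Q.obj (F ⊗ E')))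
    ?_ ?_ ?_ ?_ ?_ E a b hE hp
  · intro X Y e h
    exact Pr.prop_of_iso (DerivedCategory.Q.mapIso (whiskerLeftIso F e)) h
  · exact Pr.prop_of_iso (DerivedCategory.Q.mapIso (ρ_ F).symm) hF
  · intro X n h
    have e1 : F ⊗ X⟦n⟧ ≅ (F ⊗ X)⟦n⟧ :=
      (((T A).map₂CochainComplex.obj F).commShiftIso n).app X
    have e2 := (DerivedCategory.Q.commShiftIso n).app (F ⊗ X)
    exact Pr.prop_of_iso (DerivedCategory.Q.mapIso e1 ≪≫ e2).symm (Pr.le_shift n _ h)
  · intro S hS hp' h1 h3
    have hS' := shortExact_tensorLeft F S hS hp'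
    exact Pr.ext_of_isTriangulatedClosed₂ _ (triangleOfSES_distinguished hS') h1 h3
  · intro X Y h
    haveI : ((T A).map₂CochainComplex.obj F ⋙ DerivedCategory.Q).Additive := inferInstance
    haveI := preservesBinaryBiproducts_of_preservesBiproducts
      ((T A).map₂CochainComplex.obj F ⋙ DerivedCategory.Q)
    exact hsum _ _ (Pr.prop_of_iso
      (((T A).map₂CochainComplex.obj F ⋙ DerivedCategory.Q).mapBiprod X Y) h)

end LTCx

end Groth.Agent.Lib.Helper18.DR
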