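import Mathlib
import Groth.Agent.Lib.Helper18.RHomCmpE
import Groth.Agent.Lib.Helper18.LTCxD

/-!
# `- ⊗ F` and universal arrows to derived complete objects, one element at a time (helper18)
-/

set_option autoImplicit false
set_option linter.style.haveILetI false
universe u
open CategoryTheory CategoryTheory.Limits CategoryTheory.Pretriangulated HomologicalComplex
  DerivedCategory MonoidalCategory

attribute [local instance] HasDerivedCategory.standard

namespace Groth.Agent.Lib.Helper18.DR

namespace DCTens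

open Groth.Agent.Lib.Helper2.PRes RHomCmp Groth.Agent.Lib.Helper2.Tot
  Groth.Agent.Lib.Helper2.Tot.DR

variable {A : Type u} [CommRing A]

/-- the key step: `- ⊗ F` of a map whose cone has `f` invertible induces a bijection on maps
into derived `f`-complete objects -/
theorem bijective_precomp_whiskerRight (F X Y : DRing.Cx A) [F.IsKProjective] (u : X ⟶ Y)
    (N : Dual.D A) (g : DRing.toD Y ⟶ N) (δ : N ⟶ (DRing.toD X)⟦(1 : ℤ)⟧)
    (hT : Triangle.mk (DerivedCategory.Q.map u) g δ ∈ distTriang (Dual.D A)) (f : A)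
    (hN : FInv f N) (E : Dual.D A) (hE : FC f E) :
    PreBij E (DerivedCategory.Q.map (u ▷ F)) := by
  haveI : ∀ n, Mono ((cylι u).f n) := fun n => mono_of_mono_fac (cylι_f_retraction u n)
  haveI : Mono (cylι u) := HomologicalComplex.mono_of_mono_f _ inferInstance
  let S : ShortComplex (DRing.Cx A) :=
    ShortComplex.mk (cylι u) (cokernel.π (cylι u)) (cokernel.condition _)
  have hS : S.ShortExact :=
    ShortComplex.ShortExact.mk' (ShortComplex.exact_cokernel (cylι u)) inferInstance
      (inferInstanceAs (Epi (cokernel.π (cylι u))))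
  have σ : ∀ p, (S.map (HomologicalComplex.eval _ _ p)).Splitting := fun p => by
    have hSp : (S.map (HomologicalComplex.eval _ (ComplexShape.up ℤ) p)).ShortExact :=
      hS.map_of_exact _
    haveI := hSp.epi_g
    exact ShortComplex.Splitting.ofExactOfRetraction _ hSp.exact _ (cylι_f_retraction u p)
      hSp.epi_g
  have hT₂ := DerivedCategory.triangleOfSES_distinguished hS
  let π : cyl (R := X) (K' := Y) ⟶ Y := cylπ
  haveI : QuasiIso π := inferInstanceAs (QuasiIso (cylπ : cyl (R := X) (K' := Y) ⟶ Y))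
  haveI : IsIso (DerivedCategory.Q.map π) := inferInstance
  let e₂ : DRing.toD (cyl (R := X) (K' := Y)) ≅ DRing.toD Y := asIso (DerivedCategory.Q.map π)
  let eT : DerivedCategory.triangleOfSES hS ≅ Triangle.mk (DerivedCategory.Q.map u) g δ :=
    isoTriangleOfIso₁₂ _ _ hT₂ hT (Iso.refl _) e₂ (by
        change DerivedCategory.Q.map (cylι u) ≫ DerivedCategory.Q.map π =
          𝟙 _ ≫ DerivedCategory.Q.map u
        rw [← Functor.map_comp, cylι_π, Category.id_comp])
  have hW : FInv f (DRing.toD S.X₃) := hN.of_iso (Triangle.π₃.mapIso eT).symm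
  haveI : QuasiIso (f • 𝟙 S.X₃) := quasiIso_smul_id_of_finv f S.X₃ hW
  haveI : QuasiIso (f • 𝟙 (S.X₃ ⊗ F)) := by
    rw [← smul_id_whiskerRight]
    infer_instance
  have hGW : FInv f (DRing.toD (S.X₃ ⊗ F)) := finv_of_quasiIso_smul_id f _
  -- the triangle of `S ⊗ F`
  have hS' : (S.map ((T A).map₂CochainComplex.flip.obj F)).ShortExact :=
    shortExact_map₁ (T A) F S (fun p q => ((σ p).map ((T A).flip.obj (F.X q))).shortExact)
  have hT₃ := DerivedCategory.triangleOfSES_distinguished hS'
  have b1 := bijective_precomp_of_triangle _ hT₃ E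
    (fun φ => eq_zero_of_finv_of_fc hGW hE φ)
    (fun φ => eq_zero_of_finv_of_fc (hGW.shift (-1)) hE φ)
  change Function.Bijective (fun φ : DRing.toD (cyl (R := X) (K' := Y) ⊗ F) ⟶ E =>
    DerivedCategory.Q.map (cylι u ▷ F) ≫ φ) at b1
  haveI : QuasiIso (π ▷ F) := inferInstance
  haveI : IsIso (DerivedCategory.Q.map (π ▷ F)) := inferInstance
  have b2 : PreBij E (DerivedCategory.Q.map (π ▷ F)) := PreBij.of_isIso E _
  have h3 : DerivedCategory.Q.map (u ▷ F) =
      DerivedCategory.Q.map (cylι u ▷ F) ≫ DerivedCategory.Q.map (π ▷ F) := by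
    rw [← Functor.map_comp, ← MonoidalCategory.comp_whiskerRight, cylι_π]
  rw [h3]
  exact PreBij.comp b1 b2

end DCTens

end Groth.Agent.Lib.Helper18.DR
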