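import Mathlib
import Groth.Agent.Lib.Helper18.DCTensA
import Groth.Agent.Lib.Helper18.DRRes
import Groth.Agent.Lib.Helper18.DRDC4

/-!
# Derived completion commutes with `- ⊗^L F`, `F` pseudo-coherent, on bounded above objects
(helper18)
-/

set_option autoImplicit false
set_option linter.style.haveILetI false
universe u
open CategoryTheory CategoryTheory.Limits CategoryTheory.Pretriangulated HomologicalComplex
  DerivedCategory MonoidalCategory ZeroObject

attribute [local instance] HasDerivedCategory.standard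

namespace Groth.Agent.Lib.Helper18.DR

namespace DCTens

open Groth.Agent.Lib.Helper2.PRes RHomCmp Groth.Agent.Lib.Helper2.Tot
  Groth.Agent.Lib.Helper2.Tot.DR

variable {A : Type u} [CommRing A]

/-- derived `f`-completeness is a triangulated property -/
lemma fc_isTriangulated (f : A) :
    ObjectProperty.IsTriangulated (C := Dual.D A) (fun K => FC f K) :=
  { exists_zero := ⟨(0 : DerivedCategory (ModuleCat.{u} A)), isZero_zero _,
      fc_of_isZero (isZero_zero _)⟩
    isStableUnderShiftBy := fun n => ⟨fun K hK => FC.shift hK n⟩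
    ext₂' := fun T hT h1 h3 => ObjectProperty.le_isoClosure _ _ (fc_obj₂ T hT h1 h3) }

/-- `X ⊗ F` is derived `f`-complete when `X` is and `X`, `F` are bounded above, `F` termwise
finite free -/
theorem fc_tensor (f : A) (X F : DRing.Cx A) (b c : ℤ) (hX : DRing.VanishesAbove X b)
    (hXf : FC f (DRing.toD X)) (hFc : DRing.VanishesAbove F c)
    (hFf : DRing.TermwiseFiniteFree F) : FC f (DRing.toD (X ⊗ F)) := by
  haveI := fc_isTriangulated (A := A) f
  haveI : ObjectProperty.IsClosedUnderIsomorphisms (fun K : Dual.D A => FC f K) :=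
    ⟨fun e h => FC.of_iso e h⟩
  rw [fc_iff_cohomology]
  intro i
  obtain ⟨m, hm⟩ : ∃ m : ℤ, m = i - b - 1 := ⟨_, rfl⟩
  let S : ShortComplex (DRing.Cx A) := subQuotSC F (sigmaSub F m) (sigmaSub_stable F m)
  have hS : S.ShortExact := subQuotSC_shortExact _ _ _
  have hp : ∀ j, Module.Projective A (S.X₃.X j) := fun j => by
    haveI : Module.Free A ((sigmaLT F m).X j) := (termwiseFiniteFree_sigmaLT F m hFf j).2
    exact (Module.Projective.of_free : Module.Projective A ((sigmaLT F m).X j))
  have hS' := LTCx.shortExact_tensorLeft X S hS hp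
  have hT := triangleOfSES_distinguished hS'
  have h1 : FC f (DRing.toD (X ⊗ sigmaGE F m)) :=
    LTCx.tensor_strictlyPerfect_induction (fun K : Dual.D A => FC f K)
      (fun X Y h => fc_of_biprod X Y h) X hXf (sigmaGE F m) m c
      (vanishesOutside_sigmaGE F m hFc)
      (fun j => ⟨(termwiseFiniteFree_sigmaGE F m hFf j).1,
        haveI := (termwiseFiniteFree_sigmaGE F m hFf j).2
        Module.Projective.of_free⟩)
  have h1' := (fc_iff_cohomology f _).1 h1 i
  have hv : DRing.VanishesAbove (X ⊗ sigmaLT F m) (b + (m - 1)) :=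
    Ampl.vanishesAbove_tensor X (sigmaLT F m) b (m - 1) hX
      (fun j hj => isZero_sigmaLT_X F m (by omega))
  haveI := isStrictlyLE_of_vanishesAbove _ _ hv
  haveI : (DRing.toD (X ⊗ sigmaLT F m)).IsLE (b + (m - 1)) :=
    (inferInstance : (DerivedCategory.Q.obj (X ⊗ sigmaLT F m)).IsLE (b + (m - 1)))
  have hiso : IsIso ((H A i).map (triangleOfSES hS').mor₁) :=
    isIso_H_mor₁_of_isZero hT (i - 1) i (by omega)
      (isZero_of_isLE (DRing.toD (X ⊗ sigmaLT F m)) (b + (m - 1)) _ (by omega))
      (isZero_of_isLE (DRing.toD (X ⊗ sigmaLT F m)) (b + (m - 1)) _ (by omega))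
  exact FC.of_iso ((singleFunctor (ModuleCat.{u} A) 0).mapIso
    (@asIso _ _ _ _ _ hiso)) h1'

end DCTens

end Groth.Agent.Lib.Helper18.DR
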