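import Mathlib
import Groth.Agent.Lib.Helper18.DCTensB

/-!
# Derived completion commutes with `- ⊗^L F`, `F` pseudo-coherent, on bounded above objects, II
(helper18)
-/

set_option autoImplicit false
set_option linter.style.haveILetI false
universe u
open CategoryTheory CategoryTheory.Limits CategoryTheory.Pretriangulated HomologicalComplex
  DerivedCategory MonoidalCategory ZeroObject

attribute [local instance] HasDerivedCategory.standard

namespace Groth.Agent.Lib.Helper18.DR

namespace DCTens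

open RHomCmp

variable {A : Type u} [CommRing A]

/-- existence of the derived `f`-completion of the image of a complex, with its triangle and
the cohomological bound -/
theorem exists_fcompletion_toD'' (f : A) (K : DRing.Cx A) :
    ∃ (Z' : Dual.D A) (η : DRing.toD K ⟶ Z') (N : Dual.D A) (g : Z' ⟶ N)
      (δ' : N ⟶ (DRing.toD K)⟦(1 : ℤ)⟧),
      Triangle.mk η g δ' ∈ distTriang (Dual.D A) ∧ FInv f N ∧ FC f Z' ∧
      (∀ g' : A, FC g' (DRing.toD K) → FC g' Z') ∧
      (∀ i : ℤ, IsZero ((H A i).obj (DRing.toD K)) → IsZero ((H A (i + 1)).obj (DRing.toD K)) →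
        IsZero ((H A i).obj Z')) ∧
      (∀ L : Dual.D A, FC f L → Function.Bijective (fun φ : Z' ⟶ L => η ≫ φ)) := by
  let D := powDataPCx f K
  have hT₀ := DerivedCategory.mappingCone_triangle_distinguished (θCx f K)
  obtain ⟨ι, hι⟩ : ∃ ι : DRing.toD (PCx K) ⟶ DRing.toD (CochainComplex.mappingCone (θCx f K)),
    ι = (DerivedCategory.Q.mapTriangle.obj (CochainComplex.mappingCone.triangle (θCx f K))).mor₂ :=
    ⟨_, rfl⟩
  obtain ⟨δ, hδ⟩ : ∃ δ : DRing.toD (CochainComplex.mappingCone (θCx f K)) ⟶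
      (DRing.toD (PCx K))⟦(1 : ℤ)⟧,
    δ = (DerivedCategory.Q.mapTriangle.obj (CochainComplex.mappingCone.triangle (θCx f K))).mor₃ :=
    ⟨_, rfl⟩
  have hT : Triangle.mk D.θ ι δ ∈ distTriang (Dual.D A) := by
    rw [hι, hδ]
    exact hT₀
  obtain ⟨Z', η, g, hT'⟩ := distinguished_cocone_triangle₂ (δ ≫ (D.π 0)⟦(1 : ℤ)⟧')
  have hN : FInv f (DRing.toD (CochainComplex.mappingCone (θCx f K))) := by
    refine finv_of_triangle f D.s ι δ ?_
    rw [← D.θ_eq]
    exact hT
  refine ⟨Z', η, _, g, _, hT', hN, ?_, ?_, ?_, ?_⟩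
  · exact fc_of_forall_finv (fun E hE φ => eq_zero_of_finv_of_triangle D ι δ hT η g hT' hE φ)
  · intro g' hZ
    have hX : FC g' (DRing.toD (PCx K)) := fc_of_isProdFam D.isProd hZ
    have hN' : FC g' (DRing.toD (CochainComplex.mappingCone (θCx f K))) := fc_obj₃ _ hT hX hX
    exact fc_obj₂ _ hT' hZ hN'
  · intro i h0 h1
    have hX0 : IsZero ((H A i).obj (DRing.toD (PCx K))) := isZero_H_PCx K i h0
    have hX1 : IsZero ((H A (i + 1)).obj (DRing.toD (PCx K))) := isZero_H_PCx K (i + 1) h1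
    have hN0 : IsZero ((H A i).obj (DRing.toD (CochainComplex.mappingCone (θCx f K)))) :=
      (HomologySequence.exact₃ _ hT i (i + 1) rfl).isZero_X₂ (hX0.eq_of_src _ _)
        (hX1.eq_of_tgt _ _)
    exact (HomologySequence.exact₂ _ hT' i).isZero_X₂ (h0.eq_of_src _ _) (hN0.eq_of_tgt _ _)
  · intro L hL
    constructor
    · intro φ ψ hφψ
      have h1 : η ≫ (φ - ψ) = 0 := by
        rw [Preadditive.comp_sub]
        exact sub_eq_zero.2 hφψ
      obtain ⟨β, hβ⟩ := Triangle.yoneda_exact₂ _ hT' (φ - ψ) h1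
      have hβ0 : β = 0 := eq_zero_of_finv_of_fc hN hL β
      rw [hβ0, comp_zero] at hβ
      exact sub_eq_zero.1 hβ
    · intro γ
      have hT'' := inv_rot_of_distTriang _ hT'
      have h1 : (Triangle.mk η g (δ ≫ (D.π 0)⟦(1 : ℤ)⟧')).invRotate.mor₁ ≫ γ = 0 :=
        eq_zero_of_finv_of_fc (hN.shift (-1)) hL _
      obtain ⟨α, hα⟩ := Triangle.yoneda_exact₂ _ hT'' γ h1
      exact ⟨α, hα.symm⟩

section main

variable (F : DRing.Cx A) [F.IsKProjective] [DRing.HasLTensorCx A F]

/-- the one-element step for `- ⊗^L F` -/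
theorem preBij_LTensorCx_map (X : DRing.Cx A) [X.IsKProjective] (Z' : Dual.D A)
    (η : DRing.toD X ⟶ Z') (N : Dual.D A) (g : Z' ⟶ N) (δ' : N ⟶ (DRing.toD X)⟦(1 : ℤ)⟧)
    (hT : Triangle.mk η g δ' ∈ distTriang (Dual.D A)) (f : A) (hN : FInv f N) (E : Dual.D A)
    (hE : FC f E) : PreBij E ((DRing.LTensorCx A F).map η) := by
  obtain ⟨Y, hY, -, ⟨e₂⟩⟩ := exists_kprojective_resolution Z'
  haveI := hY
  obtain ⟨u, hu⟩ := exists_map_eq X Y (η ≫ e₂.inv)
  have hT' : Triangle.mk (DerivedCategory.Q.map u) (e₂.hom ≫ g) δ' ∈ distTriang (Dual.D A) := by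
    refine isomorphic_distinguished _ hT _ ?_
    refine Triangle.isoMk _ _ (Iso.refl _) e₂ (Iso.refl _) ?_ ?_ ?_
    · change DerivedCategory.Q.map u ≫ e₂.hom = 𝟙 _ ≫ η
      rw [hu, Category.assoc, e₂.inv_hom_id, Category.comp_id, Category.id_comp]
    · change (e₂.hom ≫ g) ≫ 𝟙 _ = e₂.hom ≫ g
      rw [Category.comp_id]
    · change δ' ≫ (shiftFunctor (Dual.D A) (1 : ℤ)).map (𝟙 _) = 𝟙 _ ≫ δ'
      rw [CategoryTheory.Functor.map_id, Category.comp_id, Category.id_comp]
  have b1 : PreBij E (DerivedCategory.Q.map (u ▷ F)) :=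
    bijective_precomp_whiskerRight F X Y u N (e₂.hom ≫ g) δ' hT' f hN E hE
  have hnat0 := LTCx.LTensorCxIso_naturality F u
  have hnat : (DRing.LTensorCx A F).map (DerivedCategory.Q.map u) =
      (LTCx.LTensorCxIso F X).hom ≫ DerivedCategory.Q.map (u ▷ F) ≫
        (LTCx.LTensorCxIso F Y).inv := by
    rw [← Category.assoc, ← hnat0, Category.assoc, Iso.hom_inv_id, Category.comp_id]
  have hη : η = DerivedCategory.Q.map u ≫ e₂.hom := by
    rw [hu, Category.assoc, e₂.inv_hom_id, Category.comp_id]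
  rw [hη, Functor.map_comp, hnat]
  exact (((PreBij.of_isIso E (LTCx.LTensorCxIso F X).hom).comp
    (b1.comp (PreBij.of_isIso E (LTCx.LTensorCxIso F Y).inv)))).comp (PreBij.of_isIso E _)

/-- completion with respect to a finite set of elements, compatible with `- ⊗^L F`, keeping a
cohomological bound -/
theorem exists_completion_LTensorCx (s : Finset A) (b : ℤ) : ∀ Z : Dual.D A,
    (∀ i : ℤ, b < i → IsZero ((H A i).obj Z)) → ∃ (Z' : Dual.D A) (η : Z ⟶ Z'),
    (∀ f ∈ s, FC f Z') ∧ (∀ i : ℤ, b < i → IsZero ((H A i).obj Z')) ∧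
    (∀ L : Dual.D A, (∀ f ∈ s, FC f L) → PreBij L η) ∧
    (∀ E : Dual.D A, (∀ f ∈ s, FC f E) → PreBij E ((DRing.LTensorCx A F).map η)) := by
  classical
  induction s using Finset.induction_on with
  | empty =>
    intro Z hZ
    refine ⟨Z, 𝟙 Z, fun f hf => absurd hf (Finset.notMem_empty f), hZ, fun L _ => ?_,
      fun E _ => ?_⟩
    · exact PreBij.of_isIso L _
    · exact PreBij.of_isIso E _
  | insert f s hfs ih =>
    intro Z hZ
    obtain ⟨Z₁, η₁, h1, hb1, h2, h3⟩ := ih Z hZ
    obtain ⟨X, hX, -, ⟨e⟩⟩ := exists_kprojective_resolution Z₁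
    haveI := hX
    obtain ⟨Z₂, η₂, N, g, δ', hT, hN, k1, k2, k3, k4⟩ := exists_fcompletion_toD'' f X
    refine ⟨Z₂, η₁ ≫ e.inv ≫ η₂, ?_, ?_, ?_, ?_⟩
    · intro g' hg'
      rcases Finset.mem_insert.1 hg' with rfl | hg'
      · exact k1
      · exact k2 g' ((h1 g' hg').of_iso e.symm)
    · intro i hi
      exact k3 i ((hb1 i hi).of_iso ((H A i).mapIso e))
        ((hb1 (i + 1) (by omega)).of_iso ((H A (i + 1)).mapIso e))
    · intro L hL
      have b1 := h2 L (fun g' hg' => hL g' (Finset.mem_insert_of_mem hg'))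
      have b2 : PreBij L η₂ := k4 L (hL f (Finset.mem_insert_self f s))
      exact b1.comp ((PreBij.of_isIso L e.inv).comp b2)
    · intro E hE
      have b1 := h3 E (fun g' hg' => hE g' (Finset.mem_insert_of_mem hg'))
      have b2 : PreBij E ((DRing.LTensorCx A F).map η₂) :=
        preBij_LTensorCx_map F X Z₂ η₂ N g δ' hT f hN E (hE f (Finset.mem_insert_self f s))
      rw [Functor.map_comp, Functor.map_comp]
      exact b1.comp ((PreBij.of_isIso E _).comp b2)

end main

/-- `Z ⊗^L F` is derived `f`-complete when `Z` is, for `Z` bounded above and `F` bounded above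
termwise finite free -/
theorem fc_LTensorCx (f : A) (F : DRing.Cx A) (c : ℤ) (hFc : DRing.VanishesAbove F c)
    (hFf : DRing.TermwiseFiniteFree F) [DRing.HasLTensorCx A F] (Z : Dual.D A) (b : ℤ)
    (hZ : ∀ i : ℤ, b < i → IsZero ((H A i).obj Z)) (hZf : FC f Z) :
    FC f ((DRing.LTensorCx A F).obj Z) := by
  haveI : Z.IsLE b := (DerivedCategory.isLE_iff Z b).2 hZ
  obtain ⟨X, hXb, hXfree, ⟨e⟩⟩ := exists_free_resolution Z b
  haveI : X.IsKProjective := isKProjective_of_vanishesAbove X b hXb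
    (fun i => haveI := hXfree i; Module.Projective.of_free)
  have h1 : FC f (DRing.toD (X ⊗ F)) := fc_tensor f X F b c hXb (hZf.of_iso e.symm) hFc hFf
  exact h1.of_iso ((LTCx.LTensorCxIso F X).symm ≪≫ (DRing.LTensorCx A F).mapIso e)

/-- **S7103** -/
theorem derivedCompletion_LTensorCx (I : Ideal A) (hI : I.FG) [DRing.HasDerivedCompletion I]
    (F : DRing.Cx A) (c : ℤ) (hFc : DRing.VanishesAbove F c)
    (hFf : DRing.TermwiseFiniteFree F) [DRing.HasLTensorCx A F]
    (K : Dual.D A) (b : ℤ) (hK : ∀ i : ℤ, b < i → Subsingleton (Dual.HD A K i)) :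
    DRing.IsDerivedComplete I
        ((DRing.LTensorCx A F).obj ((DRing.derivedCompletion I).obj K).obj) ∧
      ∀ E : Dual.D A, DRing.IsDerivedComplete I E →
        Function.Bijective
          (fun φ : (DRing.LTensorCx A F).obj ((DRing.derivedCompletion I).obj K).obj ⟶ E =>
            (DRing.LTensorCx A F).map (DRing.toDerivedCompletion I K) ≫ φ) := by
  classical
  obtain ⟨s, rfl⟩ := hI
  haveI : F.IsKProjective := isKProjective_of_vanishesAbove F c hFc
    (fun i => haveI := (hFf i).2; Module.Projective.of_free)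
  have hK' : ∀ i : ℤ, b < i → IsZero ((H A i).obj K) := fun i hi =>
    haveI := hK i hi
    ModuleCat.isZero_of_subsingleton _
  obtain ⟨Z', η, h1, hb, h2, h3⟩ := exists_completion_LTensorCx F s b K hK'
  obtain ⟨d, hd⟩ := nonempty_iso_of_universal
    (P := fun L => DRing.IsDerivedComplete (Ideal.span (s : Set A)) L) η
    (DRing.toDerivedCompletion (Ideal.span (s : Set A)) K)
    ((isDerivedComplete_span_iff s Z').2 h1)
    ((DRing.derivedCompletion (Ideal.span (s : Set A))).obj K).property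
    (fun L' hL' => h2 L' ((isDerivedComplete_span_iff s L').1 hL'))
    (fun L' hL' => bijective_toDerivedCompletion_comp _ K L' hL')
  constructor
  · rw [isDerivedComplete_span_iff]
    intro f hf
    exact (fc_LTensorCx f F c hFc hFf Z' b hb (h1 f hf)).of_iso
      ((DRing.LTensorCx A F).mapIso d)
  · intro E hE
    have b1 := h3 E ((isDerivedComplete_span_iff s E).1 hE)
    have : PreBij E ((DRing.LTensorCx A F).map
        (DRing.toDerivedCompletion (Ideal.span (s : Set A)) K)) := by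
      rw [← hd, Functor.map_comp]
      exact b1.comp (PreBij.of_isIso E _)
    exact this

end DCTens

end Groth.Agent.Lib.Helper18.DR
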