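import Mathlib
import Groth.Agent.Lib.Helper18.DRTorF

/-!
# Naturality of `LTensorIso` (helper18)
-/

set_option autoImplicit false
set_option linter.style.haveILetI false
universe u
open CategoryTheory CategoryTheory.Limits HomologicalComplex MonoidalCategory DerivedCategory

attribute [local instance] HasDerivedCategory.standard

namespace Groth.Agent.Lib.Helper18.DR

variable {R : Type u} [CommRing R] (M : ModuleCat.{u} R)

lemma tensorKhObjIso_naturality {X X' : DRing.Cx R} (f : X ⟶ X') :
    (DRing.tensorKh R M).map ((HomotopyCategory.quotient _ _).map f) ≫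
        (tensorKhObjIso M X').hom =
      (tensorKhObjIso M X).hom ≫ DerivedCategory.Q.map
        (((tensorRight M).mapHomologicalComplex (ComplexShape.up ℤ)).map f) := by
  dsimp only [tensorKhObjIso, Iso.trans_hom, Functor.mapIso_hom, Iso.app_hom]
  have h1 := ((tensorRight M).mapHomotopyCategoryFactors (ComplexShape.up ℤ)).hom.naturality f
  have h2 := (DerivedCategory.quotientCompQhIso (ModuleCat.{u} R)).hom.naturality
    (((tensorRight M).mapHomologicalComplex (ComplexShape.up ℤ)).map f)
  dsimp only [Functor.comp_map] at h1 h2
  change DerivedCategory.Qh.map (((tensorRight M).mapHomotopyCategory (ComplexShape.up ℤ)).map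
    ((HomotopyCategory.quotient _ _).map f)) ≫ _ = _
  rw [← Category.assoc, ← Functor.map_comp, h1, Functor.map_comp, Category.assoc, h2,
    Category.assoc]

variable [DRing.HasLTensor R M]

lemma LTensorIso_naturality {P P' : DRing.Cx R} [P.IsKProjective] [P'.IsKProjective]
    (f : P ⟶ P') :
    (DRing.LTensor R M).map (DerivedCategory.Q.map f) ≫ (LTensorIso M P').hom =
      (LTensorIso M P).hom ≫ DerivedCategory.Q.map
        (((tensorRight M).mapHomologicalComplex (ComplexShape.up ℤ)).map f) := by
  haveI := isIso_LTensor_counit M P
  haveI := isIso_LTensor_counit M P'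
  dsimp only [LTensorIso, Iso.trans_hom, Functor.mapIso_hom, Iso.symm_hom, Iso.app_inv,
    asIso_hom]
  have h1 := (DerivedCategory.quotientCompQhIso (ModuleCat.{u} R)).inv.naturality f
  dsimp only [Functor.comp_map] at h1
  have h2 := ((DRing.tensorKh R M).totalLeftDerivedCounit DerivedCategory.Qh
      (HomotopyCategory.quasiIso (ModuleCat.{u} R) (ComplexShape.up ℤ))).naturality
        ((HomotopyCategory.quotient _ _).map f)
  dsimp only [Functor.comp_map] at h2
  have h3 := tensorKhObjIso_naturality M f
  dsimp only [Functor.comp_map] at h3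
  rw [← Category.assoc, ← Functor.map_comp, h1, Functor.map_comp, Category.assoc,
    ← Category.assoc ((DRing.LTensor R M).map (DerivedCategory.Qh.map _)), h2, Category.assoc,
    h3, Category.assoc, Category.assoc]

end Groth.Agent.Lib.Helper18.DR
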