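import Mathlib
import Groth.Agent.Lib.Helper18.TotSingle
import Groth.Agent.Lib.Helper2.Tot.DRing
import Groth.Prelude.Def_DRing4

/-!
# `W ⊗ M[0]` is `W^• ⊗ M` (helper18)
-/

set_option autoImplicit false
set_option linter.style.haveILetI false
universe u
open CategoryTheory CategoryTheory.Limits HomologicalComplex MonoidalCategory

namespace Groth.Agent.Lib.Helper18.DR

namespace TotSingleR

open Groth.Agent.Lib.Helper2.Tot Groth.Agent.Lib.Helper2.Tot.DR

variable {A : Type u} [CommRing A] (M : ModuleCat.{u} A)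

/-- the complex `M[0]` -/
noncomputable abbrev S0 : DRing.Cx A :=
  (HomologicalComplex.single (ModuleCat.{u} A) (ComplexShape.up ℤ) 0).obj M

/-- termwise `- ⊗ M` -/
noncomputable abbrev GM : DRing.Cx A ⥤ DRing.Cx A :=
  (tensorRight M).mapHomologicalComplex (ComplexShape.up ℤ)

/-- `W^• ⊗ M ≅ W ⊗ M[0]` -/
noncomputable def ρ (W : DRing.Cx A) : (GM M).obj W ≅ W ⊗ S0 M :=
  TotSingle.iso (T A).flip M W ≪≫
    HomologicalComplex.mapBifunctorFlipIso W (S0 M) (T A) (ComplexShape.up ℤ)

lemma ρ_naturality {W W' : DRing.Cx A} (g : W ⟶ W') :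
    (GM M).map g ≫ (ρ M W').hom = (ρ M W).hom ≫ (g ▷ S0 M) := by
  dsimp only [ρ, Iso.trans_hom]
  rw [← Category.assoc, TotSingle.iso_hom_naturality (T A).flip M g, Category.assoc,
    Category.assoc]
  congr 1
  ext n : 1
  apply HomologicalComplex.mapBifunctor.hom_ext
  intro p q h
  rw [HomologicalComplex.comp_f, HomologicalComplex.comp_f, ι_mapBifunctorMap_assoc,
    ι_mapBifunctorFlipIso_hom_assoc]
  have h' : q + p = n := by
    have : p + q = n := h
    omega
  have e1 : ιMapBifunctor (TotSingle.Sg₀ M) W' (T A).flip (ComplexShape.up ℤ) p q n h ≫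
      (mapBifunctorFlipIso W' (S0 M) (T A) (ComplexShape.up ℤ)).hom.f n =
      (ComplexShape.up ℤ).σ (ComplexShape.up ℤ) (ComplexShape.up ℤ) q p •
        ιMapBifunctor W' (S0 M) (T A) (ComplexShape.up ℤ) q p n h' :=
    ι_mapBifunctorFlipIso_hom W' (S0 M) (T A) (ComplexShape.up ℤ) q p n h
  rw [e1, Linear.units_smul_comp, Linear.comp_units_smul, Linear.comp_units_smul]
  congr 1
  change _ = ιMapBifunctor W (S0 M) (T A) (ComplexShape.up ℤ) q p n h' ≫
    (mapBifunctorMap g (𝟙 (S0 M)) (T A) (ComplexShape.up ℤ)).f n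
  rw [ι_mapBifunctorMap]
  simp only [HomologicalComplex.id_f, CategoryTheory.Functor.map_id, NatTrans.id_app,
    Category.id_comp]
  rfl

end TotSingleR

end Groth.Agent.Lib.Helper18.DR
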