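import Mathlib
import Groth.Agent.Lib.Helper18.DCTensC
import Groth.Agent.Lib.Helper18.TotSingleR
import Groth.Agent.Lib.Helper18.LTensNat
import Groth.Agent.Lib.Helper18.DRNoeth

/-!
# Derived completion commutes with `- ⊗^L M`, `M` a finite module over a Noetherian ring, on
bounded above objects (helper18)
-/

set_option autoImplicit false
set_option linter.style.haveILetI false
universe u
open CategoryTheory CategoryTheory.Limits CategoryTheory.Pretriangulated HomologicalComplex
  DerivedCategory MonoidalCategory ZeroObject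

attribute [local instance] HasDerivedCategory.standard

namespace Groth.Agent.Lib.Helper18.DR

namespace DCTensM

open RHomCmp TotSingleR DCTens

variable {A : Type u} [CommRing A] (M : ModuleCat.{u} A) (F : DRing.Cx A) (ε : F ⟶ S0 M)

/-- the comparison `X ⊗ F ⟶ X^• ⊗ M` -/
noncomputable def ν (X : DRing.Cx A) : X ⊗ F ⟶ (GM M).obj X := (X ◁ ε) ≫ (ρ M X).inv

lemma ν_naturality {X Y : DRing.Cx A} (u : X ⟶ Y) :
    (u ▷ F) ≫ ν M F ε Y = ν M F ε X ≫ (GM M).map u := by
  dsimp only [ν]
  have h1 : (ρ M X).inv ≫ (GM M).map u = (u ▷ S0 M) ≫ (ρ M Y).inv := by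
    rw [Iso.inv_comp_eq, ← Category.assoc, ← ρ_naturality, Category.assoc, Iso.hom_inv_id,
      Category.comp_id]
  rw [Category.assoc, h1, ← Category.assoc, ← Category.assoc]
  congr 1
  exact (MonoidalCategory.whisker_exchange u ε).symm

variable [QuasiIso ε]

instance quasiIso_ν (X : DRing.Cx A) [X.IsKProjective] : QuasiIso (ν M F ε X) := by
  haveI : QuasiIso (X ◁ ε) := inferInstance
  dsimp only [ν]
  infer_instance

variable [F.IsKProjective]

include F ε

/-- the key step for the termwise tensor product with `M` -/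
theorem preBij_Q_GM_map (X Y : DRing.Cx A) [X.IsKProjective] [Y.IsKProjective] (u : X ⟶ Y)
    (N : Dual.D A) (g : DRing.toD Y ⟶ N) (δ : N ⟶ (DRing.toD X)⟦(1 : ℤ)⟧)
    (hT : Triangle.mk (DerivedCategory.Q.map u) g δ ∈ distTriang (Dual.D A)) (f : A)
    (hN : FInv f N) (E : Dual.D A) (hE : FC f E) :
    PreBij E (DerivedCategory.Q.map ((GM M).map u)) := by
  have b1 : PreBij E (DerivedCategory.Q.map (u ▷ F)) :=
    bijective_precomp_whiskerRight F X Y u N g δ hT f hN E hE
  haveI : IsIso (DerivedCategory.Q.map (ν M F ε X)) := inferInstance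
  haveI : IsIso (DerivedCategory.Q.map (ν M F ε Y)) := inferInstance
  have h1 : DerivedCategory.Q.map ((GM M).map u) =
      inv (DerivedCategory.Q.map (ν M F ε X)) ≫ DerivedCategory.Q.map (u ▷ F) ≫
        DerivedCategory.Q.map (ν M F ε Y) := by
    rw [IsIso.eq_inv_comp, ← Functor.map_comp, ← Functor.map_comp, ν_naturality]
  rw [h1]
  exact (PreBij.of_isIso E _).comp (b1.comp (PreBij.of_isIso E _))

variable [DRing.HasLTensor A M]

/-- the one-element step for `- ⊗^L M` -/
theorem preBij_LTensor_map (X : DRing.Cx A) [X.IsKProjective] (Z' : Dual.D A)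
    (η : DRing.toD X ⟶ Z') (N : Dual.D A) (g : Z' ⟶ N) (δ' : N ⟶ (DRing.toD X)⟦(1 : ℤ)⟧)
    (hT : Triangle.mk η g δ' ∈ distTriang (Dual.D A)) (f : A) (hN : FInv f N) (E : Dual.D A)
    (hE : FC f E) : PreBij E ((DRing.LTensor A M).map η) := by
  obtain ⟨Y, hY, -, ⟨e₂⟩⟩ := exists_kprojective_resolution Z'
  haveI := hY
  obtain ⟨u, hu⟩ := exists_map_eq X Y (η ≫ e₂.inv)
  have hT' : Triangle.mk (DerivedCategory.Q.map u) (e₂.hom ≫ g) δ' ∈ distTriang (Dual.D A) := by
    refine isomorphic_distinguished _ hT _ ?_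
    refine Triangle.isoMk _ _ (Iso.refl _) e₂ (Iso.refl _) ?_ ?_ ?_
    · change DerivedCategory.Q.map u ≫ e₂.hom = 𝟙 _ ≫ η
      rw [hu, Category.assoc, e₂.inv_hom_id, Category.comp_id, Category.id_comp]
    · change (e₂.hom ≫ g) ≫ 𝟙 _ = e₂.hom ≫ g
      rw [Category.comp_id]
    · change δ' ≫ (shiftFunctor (Dual.D A) (1 : ℤ)).map (𝟙 _) = 𝟙 _ ≫ δ'
      rw [CategoryTheory.Functor.map_id, Category.comp_id, Category.id_comp]
  have b1 : PreBij E (DerivedCategory.Q.map ((GM M).map u)) :=
    preBij_Q_GM_map M F ε X Y u N (e₂.hom ≫ g) δ' hT' f hN E hE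
  have hnat0 := LTensorIso_naturality M u
  have hnat : (DRing.LTensor A M).map (DerivedCategory.Q.map u) =
      (LTensorIso M X).hom ≫ DerivedCategory.Q.map ((GM M).map u) ≫ (LTensorIso M Y).inv := by
    rw [← Category.assoc, ← hnat0, Category.assoc, Iso.hom_inv_id, Category.comp_id]
  have hη : η = DerivedCategory.Q.map u ≫ e₂.hom := by
    rw [hu, Category.assoc, e₂.inv_hom_id, Category.comp_id]
  rw [hη, Functor.map_comp, hnat]
  exact (((PreBij.of_isIso E (LTensorIso M X).hom).comp
    (b1.comp (PreBij.of_isIso E (LTensorIso M Y).inv)))).comp (PreBij.of_isIso E _)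

/-- completion with respect to a finite set of elements, compatible with `- ⊗^L M`, keeping a
cohomological bound -/
theorem exists_completion_LTensor (s : Finset A) (b : ℤ) : ∀ Z : Dual.D A,
    (∀ i : ℤ, b < i → IsZero ((H A i).obj Z)) → ∃ (Z' : Dual.D A) (η : Z ⟶ Z'),
    (∀ f ∈ s, FC f Z') ∧ (∀ i : ℤ, b < i → IsZero ((H A i).obj Z')) ∧
    (∀ L : Dual.D A, (∀ f ∈ s, FC f L) → PreBij L η) ∧
    (∀ E : Dual.D A, (∀ f ∈ s, FC f E) → PreBij E ((DRing.LTensor A M).map η)) := by
  classical
  induction s using Finset.induction_on with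
  | empty =>
    intro Z hZ
    refine ⟨Z, 𝟙 Z, fun f hf => absurd hf (Finset.notMem_empty f), hZ, fun L _ => ?_,
      fun E _ => ?_⟩
    · exact PreBij.of_isIso L _
    · exact PreBij.of_isIso E _
  | insert f s hfs ih =>
    intro Z hZ
    obtain ⟨Z₁, η₁, h1, hb1, h2, h3⟩ := ih Z hZ
    obtain ⟨X, hX, -, ⟨e⟩⟩ := exists_kprojective_resolution Z₁
    haveI := hX
    obtain ⟨Z₂, η₂, N, g, δ', hT, hN, k1, k2, k3, k4⟩ := exists_fcompletion_toD'' f X
    refine ⟨Z₂, η₁ ≫ e.inv ≫ η₂, ?_, ?_, ?_, ?_⟩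
    · intro g' hg'
      rcases Finset.mem_insert.1 hg' with rfl | hg'
      · exact k1
      · exact k2 g' ((h1 g' hg').of_iso e.symm)
    · intro i hi
      exact k3 i ((hb1 i hi).of_iso ((H A i).mapIso e))
        ((hb1 (i + 1) (by omega)).of_iso ((H A (i + 1)).mapIso e))
    · intro L hL
      have b1 := h2 L (fun g' hg' => hL g' (Finset.mem_insert_of_mem hg'))
      have b2 : PreBij L η₂ := k4 L (hL f (Finset.mem_insert_self f s))
      exact b1.comp ((PreBij.of_isIso L e.inv).comp b2)
    · intro E hE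
      have b1 := h3 E (fun g' hg' => hE g' (Finset.mem_insert_of_mem hg'))
      have b2 : PreBij E ((DRing.LTensor A M).map η₂) :=
        preBij_LTensor_map M F ε X Z₂ η₂ N g δ' hT f hN E (hE f (Finset.mem_insert_self f s))
      rw [Functor.map_comp, Functor.map_comp]
      exact b1.comp ((PreBij.of_isIso E _).comp b2)

omit [F.IsKProjective] in
/-- `Z ⊗^L M` is derived `f`-complete when `Z` is, for `Z` bounded above -/
theorem fc_LTensor (f : A) (c : ℤ) (hFc : DRing.VanishesAbove F c)
    (hFf : DRing.TermwiseFiniteFree F) (Z : Dual.D A) (b : ℤ)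
    (hZ : ∀ i : ℤ, b < i → IsZero ((H A i).obj Z)) (hZf : FC f Z) :
    FC f ((DRing.LTensor A M).obj Z) := by
  haveI : Z.IsLE b := (DerivedCategory.isLE_iff Z b).2 hZ
  obtain ⟨X, hXb, hXfree, ⟨e⟩⟩ := exists_free_resolution Z b
  haveI : X.IsKProjective := isKProjective_of_vanishesAbove X b hXb
    (fun i => haveI := hXfree i; Module.Projective.of_free)
  have h1 : FC f (DRing.toD (X ⊗ F)) := fc_tensor f X F b c hXb (hZf.of_iso e.symm) hFc hFf
  haveI : IsIso (DerivedCategory.Q.map (ν M F ε X)) := inferInstance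
  exact h1.of_iso (asIso (DerivedCategory.Q.map (ν M F ε X)) ≪≫ (LTensorIso M X).symm ≪≫
    (DRing.LTensor A M).mapIso e)

end DCTensM

open DCTensM TotSingleR RHomCmp in
/-- **S7095** -/
theorem derivedCompletion_LTensor_finite {A : Type u} [CommRing A] [IsNoetherianRing A]
    (I : Ideal A) [DRing.HasDerivedCompletion I] (M : Type u) [AddCommGroup M] [Module A M]
    [Module.Finite A M] [DRing.HasLTensor A (ModuleCat.of A M)] (K : Dual.D A) (b : ℤ)
    (hK : ∀ i : ℤ, b < i → Subsingleton (Dual.HD A K i)) :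
    DRing.IsDerivedComplete I
        ((DRing.LTensor A (ModuleCat.of A M)).obj ((DRing.derivedCompletion I).obj K).obj) ∧
      ∀ E : Dual.D A, DRing.IsDerivedComplete I E →
        Function.Bijective
          (fun φ : (DRing.LTensor A (ModuleCat.of A M)).obj
              ((DRing.derivedCompletion I).obj K).obj ⟶ E =>
            (DRing.LTensor A (ModuleCat.of A M)).map (DRing.toDerivedCompletion I K) ≫ φ) := by
  classical
  obtain ⟨s, rfl⟩ := (isNoetherianRing_iff_ideal_fg A).1 inferInstance I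
  obtain ⟨F, c, hFc, hFf, ⟨e⟩⟩ := isPseudoCoherentModule'_of_finite_noetherian (R := A) M
  haveI : F.IsKProjective := isKProjective_of_vanishesAbove F c hFc
    (fun i => haveI := (hFf i).2; Module.Projective.of_free)
  let e' : DRing.toD F ≅ DRing.toD (S0 (ModuleCat.of A M)) :=
    e ≪≫ (DerivedCategory.singleFunctorIsoCompQ (ModuleCat.{u} A) 0).app (ModuleCat.of A M)
  obtain ⟨ε, hε⟩ := exists_map_eq F (S0 (ModuleCat.of A M)) e'.hom
  haveI : IsIso (DerivedCategory.Q.map ε) := by rw [hε]; infer_instance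
  haveI : QuasiIso ε := (DerivedCategory.isIso_Q_map_iff_quasiIso _ ε).1 inferInstance
  have hK' : ∀ i : ℤ, b < i → IsZero ((H A i).obj K) := fun i hi =>
    haveI := hK i hi
    ModuleCat.isZero_of_subsingleton _
  obtain ⟨Z', η, h1, hb, h2, h3⟩ :=
    exists_completion_LTensor (ModuleCat.of A M) F ε s b K hK'
  obtain ⟨d, hd⟩ := nonempty_iso_of_universal
    (P := fun L => DRing.IsDerivedComplete (Ideal.span (s : Set A)) L) η
    (DRing.toDerivedCompletion (Ideal.span (s : Set A)) K)
    ((isDerivedComplete_span_iff s Z').2 h1)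
    ((DRing.derivedCompletion (Ideal.span (s : Set A))).obj K).property
    (fun L' hL' => h2 L' ((isDerivedComplete_span_iff s L').1 hL'))
    (fun L' hL' => bijective_toDerivedCompletion_comp _ K L' hL')
  constructor
  · rw [isDerivedComplete_span_iff]
    intro f hf
    exact (fc_LTensor (ModuleCat.of A M) F ε f c hFc hFf Z' b hb (h1 f hf)).of_iso
      ((DRing.LTensor A (ModuleCat.of A M)).mapIso d)
  · intro E hE
    have b1 := h3 E ((isDerivedComplete_span_iff s E).1 hE)
    have : PreBij E ((DRing.LTensor A (ModuleCat.of A M)).map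
        (DRing.toDerivedCompletion (Ideal.span (s : Set A)) K)) := by
      rw [← hd, Functor.map_comp]
      exact b1.comp (PreBij.of_isIso E _)
    exact this

end Groth.Agent.Lib.Helper18.DR
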