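import Mathlib
import Groth.Agent.Lib.Helper18.FdG
import Groth.Agent.Lib.Helper18.OmE
import Groth.Agent.Lib.Helper18.MixRes
import Groth.Agent.Lib.Helper18.DCTensD
import Groth.Agent.Lib.Helper18.KProjD

/-!
# `ω_{A/R}|_R ⊗^L_R M ≅ φ^!(M)|_R`, chain level, and the tor amplitude of `ω_{A/R}` over `R`
(helper18)
-/

set_option autoImplicit false
set_option linter.style.haveILetI false
universe u
open CategoryTheory CategoryTheory.Limits CategoryTheory.Pretriangulated DerivedCategory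
  MonoidalCategory
open TensorProduct

attribute [local instance] HasDerivedCategory.standard

namespace Groth.Agent.Lib.Helper18.DR

namespace FdH

open DTen TotSingleR DCTensM MixRes

section chain

variable {R A : Type u} [CommRing R] [CommRing A] (φ : R →+* A)

/-- `G^• ⊗_R M ≅ (K₀ ⊗_R A) ⊗_A N` in `D(R)`, for K-projective resolutions `K₀ → M[0]` and
`G → N|_R` -/
theorem nonempty_comparison (M : ModuleCat.{u} R) (K₀ : DRing.Cx R) [K₀.IsKProjective]
    (ε : K₀ ⟶ S0 M) [QuasiIso ε] (N : DRing.Cx A) (G : DRing.Cx R) [G.IsKProjective]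
    (g : G ⟶ (resCx φ).obj N) [QuasiIso g] :
    Nonempty (DerivedCategory.Q.obj ((GM M).obj G) ≅
      (DRing.restrictD φ).obj (DerivedCategory.Q.obj ((mixT φ).obj (K₀, N)))) := by
  haveI : QuasiIso (ν M K₀ ε G) := inferInstance
  haveI : QuasiIso (g ▷ K₀) := inferInstance
  let i1 : DerivedCategory.Q.obj ((GM M).obj G) ≅ DerivedCategory.Q.obj (G ⊗ K₀) :=
    (asIso (DerivedCategory.Q.map (ν M K₀ ε G))).symm
  let i2 : DerivedCategory.Q.obj (G ⊗ K₀) ≅ DerivedCategory.Q.obj ((resCx φ).obj N ⊗ K₀) :=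
    asIso (DerivedCategory.Q.map (g ▷ K₀))
  let i3 : DerivedCategory.Q.obj ((resCx φ).obj N ⊗ K₀) ≅
      DerivedCategory.Q.obj (K₀ ⊗ (resCx φ).obj N) :=
    DerivedCategory.Q.mapIso (braidCx _ _)
  let i4 : DerivedCategory.Q.obj (K₀ ⊗ (resCx φ).obj N) ≅
      DerivedCategory.Q.obj ((resCx φ).obj ((mixT φ).obj (K₀, N))) :=
    DerivedCategory.Q.mapIso (mixResIso φ K₀ N)
  let i5 : DerivedCategory.Q.obj ((resCx φ).obj ((mixT φ).obj (K₀, N))) ≅
      (DRing.restrictD φ).obj (DerivedCategory.Q.obj ((mixT φ).obj (K₀, N))) :=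
    ((resFactors φ).app _).symm
  exact ⟨i1 ≪≫ i2 ≪≫ i3 ≪≫ i4 ≪≫ i5⟩

end chain

section main

variable (R A : Type u) [CommRing R] [CommRing A] [IsNoetherianRing R] [Algebra R A]
  [Module.Flat R A] (n : ℕ) (ψ : MvPolynomial (Fin n) R →ₐ[R] A) (hψ : Function.Surjective ψ)
  [DRing.HasLBaseChange (algebraMap R (MvPolynomial (Fin n) R))]
  (Rψ : Dual.D (MvPolynomial (Fin n) R) ⥤ Dual.D A) (adj : DRing.restrictD ψ.toRingHom ⊣ Rψ)

/-- transfer of vanishing from `RHom_P(A, P ⊗_R M)` to `φ^!(M)[-n]` restricted to `R` -/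
theorem isZero_H_restrict (M : Type u) [AddCommGroup M] [Module R M] (j : ℤ)
    (h : IsZero ((H A j).obj (Rψ.obj (Dual.inD (MvPolynomial (Fin n) R)
      (MvPolynomial (Fin n) R ⊗[R] M))))) :
    IsZero ((H R j).obj ((DRing.restrictD (algebraMap R A)).obj (Rψ.obj
      ((DRing.LBaseChange (algebraMap R (MvPolynomial (Fin n) R))).obj (Dual.inD R M))))) := by
  obtain ⟨e⟩ := HomBC.nonempty_LBaseChange_iso_extD (A := R) (B := MvPolynomial (Fin n) R)
    (Dual.inD R M)
  let e' : (DRing.LBaseChange (algebraMap R (MvPolynomial (Fin n) R))).obj (Dual.inD R M) ≅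
      Dual.inD (MvPolynomial (Fin n) R) (MvPolynomial (Fin n) R ⊗[R] M) :=
    e ≪≫ extDInDIso (A := R) (B := MvPolynomial (Fin n) R) M
  have h1 : IsZero ((H A j).obj (Rψ.obj
      ((DRing.LBaseChange (algebraMap R (MvPolynomial (Fin n) R))).obj (Dual.inD R M)))) :=
    h.of_iso ((H A j).mapIso (Rψ.mapIso e'))
  exact ((ModuleCat.restrictScalars.{u} (algebraMap R A)).map_isZero h1).of_iso
    (homologyRestrictIso (algebraMap R A) _ j)

include hψ adj in
/-- the tor amplitude over `R` of `RHom_P(A, P)`, `R → A` flat with fibres of dimension `≤ d` -/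
theorem hasTorAmplitudeIn_restrict_unshifted (d : ℕ)
    (hd : ∀ q : PrimeSpectrum A, FlatMor.fibreDimAt
      (AlgebraicGeometry.Spec.map (CommRingCat.ofHom (algebraMap R A))) q ≤ (d : WithBot ℕ∞)) :
    DRing.HasTorAmplitudeIn R ((n : ℤ) - d) n
      ((DRing.restrictD (algebraMap R A)).obj (Rψ.obj
        ((DRing.LBaseChange (algebraMap R (MvPolynomial (Fin n) R))).obj (Dual.inD R R)))) := by
  set K' := (DRing.restrictD (algebraMap R A)).obj (Rψ.obj
    ((DRing.LBaseChange (algebraMap R (MvPolynomial (Fin n) R))).obj (Dual.inD R R))) with hK'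
  -- the vanishing statement
  have hvan : ∀ (M : Type u) [AddCommGroup M] [Module R M] (j : ℤ),
      (j < (n : ℤ) - d ∨ (n : ℤ) < j) →
      IsZero ((H R j).obj ((DRing.restrictD (algebraMap R A)).obj (Rψ.obj
        ((DRing.LBaseChange (algebraMap R (MvPolynomial (Fin n) R))).obj (Dual.inD R M))))) := by
    intro M _ _ j hj
    apply isZero_H_restrict R A n Rψ M j
    rcases hj with hj | hj
    · exact FdG.isZero_H_lower R A n ψ hψ Rψ adj d hd M j hj
    · exact FdG.isZero_H_upper R A n ψ hψ Rψ adj _ j hj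
  haveI : K'.IsLE n := by
    rw [DerivedCategory.isLE_iff]
    intro i hi
    exact hvan R i (Or.inr hi)
  obtain ⟨G, hGb, hGfree, ⟨eG⟩⟩ := exists_free_resolution K' n
  have hGproj : ∀ i, Module.Projective R (G.X i) := fun i => by
    haveI := hGfree i; exact Module.Projective.of_free
  have hGflat : DRing.TermwiseFlat G := fun i => by haveI := hGproj i; infer_instance
  haveI : G.IsKProjective := isKProjective_of_vanishesAbove G n hGb hGproj
  obtain ⟨N, ⟨eN⟩, hN⟩ := Om.exists_chain_model R A n ψ hψ Rψ adj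
  obtain ⟨eU⟩ := Om.nonempty_LBaseChange_unit_iso R n
  let eK : K' ≅ DerivedCategory.Q.obj ((resCx (algebraMap R A)).obj N) :=
    (DRing.restrictD (algebraMap R A)).mapIso (Rψ.mapIso eU ≪≫ eN) ≪≫
      (resFactors (algebraMap R A)).app N
  obtain ⟨g, hg⟩ := exists_map_eq G ((resCx (algebraMap R A)).obj N) (eG.hom ≫ eK.hom)
  haveI : IsIso (DerivedCategory.Q.map g) := by rw [hg]; infer_instance
  haveI : QuasiIso g := (DerivedCategory.isIso_Q_map_iff_quasiIso _ g).1 inferInstance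
  refine hasTorAmplitudeIn_of_iso eG
    (hasTorAmplitudeIn_of_exact_lTensor G ((n : ℤ) - d) n hGb hGflat ?_)
  intro M _ _ i j k hij hjk hj
  -- a K-projective resolution of `M[0]`
  obtain ⟨K₀, hK₀, -, ⟨e₀⟩⟩ := exists_kprojective_resolution (Dual.inD R M)
  haveI := hK₀
  obtain ⟨ε, hε⟩ := exists_map_eq K₀ (S0 (ModuleCat.of R M))
    (e₀.hom ≫ ((DerivedCategory.singleFunctorIsoCompQ (ModuleCat.{u} R) 0).app
      (ModuleCat.of R M)).hom)
  haveI : IsIso (DerivedCategory.Q.map ε) := by rw [hε]; infer_instance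
  haveI : QuasiIso ε := (DerivedCategory.isIso_Q_map_iff_quasiIso _ ε).1 inferInstance
  obtain ⟨c⟩ := nonempty_comparison (algebraMap R A) (ModuleCat.of R M) K₀ ε N G g
  obtain ⟨i1⟩ := hN K₀ hK₀
  let c' : DerivedCategory.Q.obj ((GM (ModuleCat.of R M)).obj G) ≅
      (DRing.restrictD (algebraMap R A)).obj (Rψ.obj
        ((DRing.LBaseChange (algebraMap R (MvPolynomial (Fin n) R))).obj (Dual.inD R M))) :=
    c ≪≫ (DRing.restrictD (algebraMap R A)).mapIso (i1.symm ≪≫
      Rψ.mapIso ((DRing.LBaseChange (algebraMap R (MvPolynomial (Fin n) R))).mapIso e₀))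
  have h1 : IsZero ((H R j).obj (DRing.toD ((GM (ModuleCat.of R M)).obj G))) :=
    (hvan M j hj).of_iso ((H R j).mapIso c')
  have h2 := (isZero_H_toD_iff _ i j k hij hjk).mp h1
  exact ((tensorLike_tensorRight (ModuleCat.of R M)).exact_iff (G.d i j) (G.d j k)).mp h2

include hψ adj in
/-- `H^i(ω_{A/R}) = 0` for `i > 0`, `R → A` flat -/
theorem isZero_H_shriekVia_of_pos (i : ℤ) (hi : 0 < i) :
    IsZero ((H A i).obj (Dual2.shriekVia n Rψ (Dual.inD R R))) := by
  obtain ⟨e⟩ := HomBC.nonempty_LBaseChange_iso_extD (A := R) (B := MvPolynomial (Fin n) R)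
    (Dual.inD R R)
  let e' : (DRing.LBaseChange (algebraMap R (MvPolynomial (Fin n) R))).obj (Dual.inD R R) ≅
      Dual.inD (MvPolynomial (Fin n) R) (MvPolynomial (Fin n) R ⊗[R] R) :=
    e ≪≫ extDInDIso (A := R) (B := MvPolynomial (Fin n) R) R
  have h0 := FdG.isZero_H_upper R A n ψ hψ Rψ adj (MvPolynomial (Fin n) R ⊗[R] R)
    ((n : ℤ) + i) (by omega)
  have h1 : IsZero ((H A ((n : ℤ) + i)).obj (Rψ.obj
      ((DRing.LBaseChange (algebraMap R (MvPolynomial (Fin n) R))).obj (Dual.inD R R)))) :=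
    h0.of_iso ((H A ((n : ℤ) + i)).mapIso (Rψ.mapIso e'))
  exact h1.of_iso ((HShiftIso A (n : ℤ) i ((n : ℤ) + i) rfl).app _)

include hψ adj in
/-- **S1790 (b)** -/
theorem hasTorAmplitudeIn_restrict (d : ℕ)
    (hd : ∀ q : PrimeSpectrum A, FlatMor.fibreDimAt
      (AlgebraicGeometry.Spec.map (CommRingCat.ofHom (algebraMap R A))) q ≤ (d : WithBot ℕ∞)) :
    DRing.HasTorAmplitudeIn R (-(d : ℤ)) 0
      ((DRing.restrictD (algebraMap R A)).obj (Dual2.shriekVia n Rψ (Dual.inD R R))) := by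
  have h := hasTorAmplitudeIn_shift
    (hasTorAmplitudeIn_restrict_unshifted R A n ψ hψ Rψ adj d hd) (n : ℤ)
  have e1 : (n : ℤ) - d - n = -(d : ℤ) := by ring
  have e2 : (n : ℤ) - n = 0 := by ring
  rw [e1, e2] at h
  exact hasTorAmplitudeIn_of_iso
    (((DRing.restrictD (algebraMap R A)).commShiftIso (n : ℤ)).app _).symm h

end main

end FdH

end Groth.Agent.Lib.Helper18.DR
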