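import Mathlib
import Groth.Agent.Lib.Helper18.GfA
import Groth.Agent.S6972

/-!
# A pseudo-coherent complex over a local ring whose fibre is `κ[m]` is `B[m]` (helper18)
-/

set_option autoImplicit false
set_option linter.style.haveILetI false
universe u
open CategoryTheory CategoryTheory.Limits CategoryTheory.Pretriangulated DerivedCategory

attribute [local instance] HasDerivedCategory.standard

namespace Groth.Agent.Lib.Helper18.DR

namespace Gf

open HomBC

section cx

variable {B : Type u} [CommRing B]

/-- homology vanishes where the complex vanishes -/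
lemma isZero_H_toD_of_isZero (P : DRing.Cx B) (i : ℤ) (h : IsZero (P.X i)) :
    IsZero ((H B i).obj (DRing.toD P)) :=
  (ShortComplex.isZero_homology_of_isZero_X₂ (P.sc i) h).of_iso (HtoDIso P i)

/-- homology is the term when the neighbours vanish -/
noncomputable def HtoDIsoOfIsZero (P : DRing.Cx B) (i : ℤ)
    (h₁ : IsZero (P.X ((ComplexShape.up ℤ).prev i)))
    (h₂ : IsZero (P.X ((ComplexShape.up ℤ).next i))) :
    (H B i).obj (DRing.toD P) ≅ P.X i :=
  HtoDIso P i ≪≫
    (ShortComplex.LeftHomologyData.ofZeros (P.sc i) (h₁.eq_of_src _ _)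
      (h₂.eq_of_tgt _ _)).homologyIso

end cx

section loc

variable (B : Type u) [CommRing B] [IsLocalRing B]
  [DRing.HasLBaseChange (IsLocalRing.residue B)]

/-- **a pseudo-coherent complex over a local ring with fibre `κ[m]` has a single cohomology module,
free of rank one** -/
theorem local_invertible_of_fibre (K : Dual.D B) (hK : DRing.IsPseudoCoherent' B K) (m : ℤ)
    (e : (DRing.LBaseChange (IsLocalRing.residue B)).obj K ≅
      (Dual.inD (IsLocalRing.ResidueField B) (IsLocalRing.ResidueField B))⟦m⟧) :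
    (∀ i : ℤ, i ≠ -m → IsZero ((H B i).obj K)) ∧
      Nonempty ((H B (-m)).obj K ≅ ModuleCat.of B B) := by
  obtain ⟨-, -, ⟨P, -, hP, ⟨eP⟩⟩, -⟩ := Groth.Agent.S6972.result B K hK
  set κ := IsLocalRing.ResidueField B with hκ
  -- the cohomology of `κ[m]`
  have hrank : ∀ i : ℤ, Module.finrank κ (Dual.HD κ
      ((DRing.LBaseChange (IsLocalRing.residue B)).obj K) i) = if i = -m then 1 else 0 := by
    intro i
    let c : (H κ i).obj ((DRing.LBaseChange (IsLocalRing.residue B)).obj K) ≅
        (H κ (m + i)).obj (Dual.inD κ κ) :=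
      (H κ i).mapIso e ≪≫ (HShiftIso κ m i (m + i) rfl).app _
    split_ifs with hi
    · subst hi
      let c' : (H κ (-m)).obj ((DRing.LBaseChange (IsLocalRing.residue B)).obj K) ≅
          ModuleCat.of κ κ :=
        (H κ (-m)).mapIso e ≪≫ (HShiftIso κ m (-m) 0 (by omega)).app _ ≪≫
          HSg 0 (ModuleCat.of κ κ)
      rw [LinearEquiv.finrank_eq c'.toLinearEquiv]
      exact Module.finrank_self κ
    · have hz : IsZero ((H κ (m + i)).obj (Dual.inD κ κ)) := by
        rcases lt_or_gt_of_ne (show m + i ≠ 0 by omega) with h | h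
        · exact isZero_of_isGE _ 0 _ h
        · exact isZero_of_isLE _ 0 _ h
      haveI : Subsingleton (Dual.HD κ ((DRing.LBaseChange (IsLocalRing.residue B)).obj K) i) :=
        ModuleCat.subsingleton_of_isZero (hz.of_iso c)
      exact Module.finrank_zero_of_subsingleton
  have hzero : ∀ i : ℤ, i ≠ -m → IsZero (P.X i) := by
    intro i hi
    obtain ⟨hfree, hfin, hr⟩ := hP i
    rw [hrank i, if_neg hi] at hr
    haveI := hfree
    haveI := hfin
    haveI : Subsingleton (P.X i) := (Module.finrank_eq_zero_iff_of_free B (P.X i)).1 hr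
    exact ModuleCat.isZero_of_subsingleton _
  refine ⟨fun i hi => (isZero_H_toD_of_isZero P i (hzero i hi)).of_iso
    ((H B i).mapIso eP.symm), ?_⟩
  obtain ⟨hfree, hfin, hr⟩ := hP (-m)
  rw [hrank (-m), if_pos rfl] at hr
  haveI := hfree
  haveI := hfin
  haveI : Nontrivial B := inferInstance
  obtain ⟨l⟩ := FiniteDimensional.nonempty_linearEquiv_of_finrank_eq (R := B) (M := P.X (-m)) (M' := B)
    (by rw [hr, Module.finrank_self])
  have h₁ : IsZero (P.X ((ComplexShape.up ℤ).prev (-m))) :=
    hzero _ (by rw [CochainComplex.prev]; omega)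
  have h₂ : IsZero (P.X ((ComplexShape.up ℤ).next (-m))) :=
    hzero _ (by rw [CochainComplex.next]; omega)
  exact ⟨(H B (-m)).mapIso eP.symm ≪≫ HtoDIsoOfIsZero P (-m) h₁ h₂ ≪≫ l.toModuleIso⟩

end loc

end Gf

end Groth.Agent.Lib.Helper18.DR
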