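import Mathlib
import Groth.Agent.Lib.Helper18.GfB
import Groth.Agent.Lib.Helper18.GorLocA

/-!
# Spreading out: a complex which is `A_q[-m]` at a prime `q` is `A_f[-m]` near `q` (helper18)
-/

set_option autoImplicit false
set_option linter.style.haveILetI false
universe u
open CategoryTheory CategoryTheory.Limits CategoryTheory.Pretriangulated DerivedCategory
open scoped TensorProduct

attribute [local instance] HasDerivedCategory.standard

namespace Groth.Agent.Lib.Helper18.DR

namespace Gf

open HomBC HomLoc

section mod

variable {A : Type u} [CommRing A]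

/-- extension of scalars to a localization is the localized module -/
noncomputable def extMLocSIso (S : Submonoid A) (M : Type u) [AddCommGroup M] [Module A M] :
    (extM (A := A) (B := Localization S)).obj (ModuleCat.of A M) ≅
      ModuleCat.of (Localization S) (LocalizedModule S M) :=
  ((extMEquiv (B := Localization S) (ModuleCat.of A M)).trans
    (LocalizedModule.equivTensorProduct S M).symm).toModuleIso

/-- a finite module vanishing at a prime is killed by an element outside the prime -/
lemma exists_mem_annihilator_notMem (N : Type u) [AddCommGroup N] [Module A N] [Module.Finite A N]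
    (q : PrimeSpectrum A) (h : Subsingleton (LocalizedModule q.asIdeal.primeCompl N)) :
    ∃ g ∈ Module.annihilator A N, g ∉ q.asIdeal := by
  have h1 : q ∉ Module.support A N := Module.notMem_support_iff.2 h
  rw [Module.mem_support_iff_of_finite] at h1
  exact SetLike.not_le_iff_exists.1 h1

/-- a module killed by `t` vanishes after inverting `t` -/
lemma subsingleton_localizedModule_powers (N : Type u) [AddCommGroup N] [Module A N] (t : A)
    (ht : t ∈ Module.annihilator A N) :
    Subsingleton (LocalizedModule (Submonoid.powers t) N) := by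
  rw [LocalizedModule.subsingleton_iff]
  intro n
  exact ⟨t, Submonoid.mem_powers t, Module.mem_annihilator.1 ht n⟩

variable [IsNoetherianRing A]

/-- a finite module free of rank one at `q` is free of rank one after inverting any multiple of a
suitable `r ∉ q` -/
theorem exists_linearEquiv_away (M : Type u) [AddCommGroup M] [Module A M] [Module.Finite A M]
    (q : PrimeSpectrum A)
    (l : LocalizedModule q.asIdeal.primeCompl M ≃ₗ[Localization.AtPrime q.asIdeal]
      Localization.AtPrime q.asIdeal) :
    ∃ r : A, r ∉ q.asIdeal ∧ ∀ t : A, r ∣ t →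
      Nonempty (LocalizedModule (Submonoid.powers t) M ≃ₗ[Localization (Submonoid.powers t)]
        Localization (Submonoid.powers t)) := by
  haveI : Module.FinitePresentation A M := Module.finitePresentation_of_finite A M
  let S := q.asIdeal.primeCompl
  let fA : A →ₗ[A] Localization.AtPrime q.asIdeal :=
    Algebra.linearMap A (Localization.AtPrime q.asIdeal)
  let gM := LocalizedModule.mkLinearMap S M
  let h : A →ₗ[A] LocalizedModule S M := (l.symm.restrictScalars A).toLinearMap ∘ₗ fA
  obtain ⟨φ, s, H⟩ := Module.FinitePresentation.exists_lift_of_isLocalizedModule S gM h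
  have hbij : Function.Bijective (IsLocalizedModule.map S fA gM φ) := by
    have : IsLocalizedModule.map S fA gM φ =
        (s • LinearMap.id) ∘ₗ (l.symm.restrictScalars A).toLinearMap := by
      apply IsLocalizedModule.ext S fA (IsLocalizedModule.map_units gM)
      apply LinearMap.ext fun x => ?_
      simp only [LinearMap.coe_comp, Function.comp_apply, IsLocalizedModule.map_apply]
      rw [← LinearMap.comp_apply, H]
      simp [h]
    rw [this]
    exact ((Module.End.isUnit_iff _).mp (IsLocalizedModule.map_units gM s)).comp
      (l.symm.restrictScalars A).bijective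
  obtain ⟨r, hr, hr'⟩ := exists_bijective_map_powers S fA gM φ hbij
  refine ⟨r, hr, fun t ht => ?_⟩
  let e1 : LocalizedModule (Submonoid.powers t) A ≃ₗ[Localization (Submonoid.powers t)]
      LocalizedModule (Submonoid.powers t) M :=
    LinearEquiv.ofBijective (LocalizedModule.map (Submonoid.powers t) φ) (hr' t ht)
  let e2 : LocalizedModule (Submonoid.powers t) A ≃ₗ[Localization (Submonoid.powers t)]
      Localization (Submonoid.powers t) :=
    (LocalizedModule.equivTensorProduct (Submonoid.powers t) A).trans
      (TensorProduct.AlgebraTensorModule.rid A (Localization (Submonoid.powers t))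
        (Localization (Submonoid.powers t)))
  exact ⟨e1.symm.trans e2⟩

end mod

section der

variable {A : Type u} [CommRing A] [IsNoetherianRing A]

open GorLoc Dim

/-- **spreading out**: a bounded complex with finite cohomology which looks like `A_q[-m]` at a
prime `q` is isomorphic to `A_f[-m]` over a principal open neighbourhood of `q` -/
theorem exists_away_iso_shift (ω : Dual.D A) (a b : ℤ) [ω.IsGE a] [ω.IsLE b]
    (hfin : ∀ i : ℤ, Module.Finite A ((H A i).obj ω)) (q : PrimeSpectrum A) (m : ℤ)
    (hz : ∀ i : ℤ, i ≠ m → IsZero ((H (Localization.AtPrime q.asIdeal) i).obj (locAt ω q)))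
    (hf : Nonempty ((H (Localization.AtPrime q.asIdeal) m).obj (locAt ω q) ≅
      ModuleCat.of (Localization.AtPrime q.asIdeal) (Localization.AtPrime q.asIdeal))) :
    ∃ f : A, f ∉ q.asIdeal ∧
      Nonempty ((extD A (Localization.Away f)).obj ω ≅
        (Dual.inD (Localization.Away f) (Localization.Away f))⟦-m⟧) := by
  classical
  -- vanishing away from `m`
  have hann : ∀ i : ℤ, ∃ g : A, g ∉ q.asIdeal ∧
      (i ≠ m → g ∈ Module.annihilator A ((H A i).obj ω)) := by
    intro i
    by_cases hi : i = m
    · exact ⟨1, fun h => q.isPrime.ne_top ((Ideal.eq_top_iff_one _).2 h), fun h => absurd hi h⟩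
    · haveI := hfin i
      have hs : Subsingleton (LocalizedModule q.asIdeal.primeCompl ((H A i).obj ω)) :=
        ModuleCat.subsingleton_of_isZero ((hz i hi).of_iso (HLocIso ω q i).symm)
      obtain ⟨g, hg, hgq⟩ := exists_mem_annihilator_notMem ((H A i).obj ω) q hs
      exact ⟨g, hgq, fun _ => hg⟩
  choose g hgq hg using hann
  -- the free part
  obtain ⟨e0⟩ := hf
  haveI := hfin m
  let l : LocalizedModule q.asIdeal.primeCompl ((H A m).obj ω) ≃ₗ[Localization.AtPrime q.asIdeal]
      Localization.AtPrime q.asIdeal := ((HLocIso ω q m).symm ≪≫ e0).toLinearEquiv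
  obtain ⟨r, hr, hr'⟩ := exists_linearEquiv_away ((H A m).obj ω) q l
  -- the element
  let f : A := r * ∏ i ∈ Finset.Icc a b, g i
  have hfq : f ∉ q.asIdeal := by
    intro h
    rcases q.isPrime.mem_or_mem h with h | h
    · exact hr h
    · obtain ⟨i, -, hi⟩ := (Ideal.IsPrime.prod_mem_iff (hp := q.isPrime)).1 h
      exact hgq i hi
  refine ⟨f, hfq, ?_⟩
  set B := Localization.Away f with hB
  -- cohomology of the localization
  let c : ∀ i : ℤ, (H B i).obj ((extD A B).obj ω) ≅
      ModuleCat.of B (LocalizedModule (Submonoid.powers f) ((H A i).obj ω)) := fun i =>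
    homologyMapDIso (extM (A := A) (B := B)) ω i ≪≫ extMLocSIso (Submonoid.powers f) _
  have hzero : ∀ i : ℤ, i ≠ m → IsZero ((H B i).obj ((extD A B).obj ω)) := by
    intro i hi
    suffices hsub : Subsingleton (LocalizedModule (Submonoid.powers f) ((H A i).obj ω)) from
      IsZero.of_iso (ModuleCat.isZero_of_subsingleton _) (c i)
    by_cases hr : i ∈ Finset.Icc a b
    · have h1 : g i ∣ f := Dvd.dvd.mul_left (Finset.dvd_prod_of_mem g hr) r
      obtain ⟨d, hd⟩ := h1
      have h2 : f ∈ Module.annihilator A ((H A i).obj ω) := by
        rw [hd]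
        exact Ideal.mul_mem_right _ _ (hg i hi)
      exact subsingleton_localizedModule_powers _ f h2
    · rw [Finset.mem_Icc] at hr
      have hzz : IsZero ((H A i).obj ω) := by
        by_cases h : i < a
        · exact isZero_of_isGE ω a i h
        · exact isZero_of_isLE ω b i (by omega)
      haveI := ModuleCat.subsingleton_of_isZero hzz
      infer_instance
  obtain ⟨lf⟩ := hr' f (Dvd.intro _ rfl)
  haveI : ((extD A B).obj ω).IsGE m :=
    (DerivedCategory.isGE_iff _ _).2 (fun i hi => hzero i (by omega))
  haveI : ((extD A B).obj ω).IsLE m :=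
    (DerivedCategory.isLE_iff _ _).2 (fun i hi => hzero i (by omega))
  obtain ⟨F, ⟨e⟩⟩ :=
    DerivedCategory.exists_iso_singleFunctor_obj_of_isGE_of_isLE ((extD A B).obj ω) m
  let eF : F ≅ ModuleCat.of B B :=
    (HSg m F).symm ≪≫ (H B m).mapIso e.symm ≪≫ c m ≪≫ lf.toModuleIso
  exact ⟨e ≪≫ (singleFunctor (ModuleCat.{u} B) m).mapIso eF ≪≫
    (SgShiftIso (-m) m 0 (by omega) (ModuleCat.of B B)).symm⟩

end der

end Gf

end Groth.Agent.Lib.Helper18.DR
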