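import Mathlib
import Groth.Agent.Lib.Helper18.GfC
import Groth.Agent.Lib.Helper4.GorRing

/-!
# Gorenstein fibres and invertibility of `ω_{A/R}` (helper18)
-/

set_option autoImplicit false
set_option linter.style.haveILetI false
universe u
open CategoryTheory CategoryTheory.Limits CategoryTheory.Pretriangulated DerivedCategory
open scoped TensorProduct

attribute [local instance] HasDerivedCategory.standard

namespace Groth.Agent.Lib.Helper18.DR

namespace Gf

open HomBC HomLoc GorLoc Dim Uniq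

section forward

variable (R A : Type u) [CommRing R] [CommRing A] [IsNoetherianRing R] [IsNoetherianRing A]
  [Algebra R A] [Module.Flat R A] (n : ℕ) (ψ : MvPolynomial (Fin n) R →ₐ[R] A)
  (hψ : Function.Surjective ψ)
  [DRing.HasLBaseChange (algebraMap R (MvPolynomial (Fin n) R))]
  (Rψ : Dual.D (MvPolynomial (Fin n) R) ⥤ Dual.D A) (adj : DRing.restrictD ψ.toRingHom ⊣ Rψ)

include hψ adj in
/-- if the fibre through `q` is Gorenstein, then `ω_{A/R}` is invertible near `q` -/
theorem exists_away_iso_of_gorenstein_fibre (q : PrimeSpectrum A)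
    (hG : LocCoh.IsGorensteinRing
      ((q.asIdeal.comap (algebraMap R A)).ResidueField ⊗[R] A)) :
    ∃ (f : A) (_ : f ∉ q.asIdeal) (m : ℤ), Nonempty ((extD A (Localization.Away f)).obj
        (Dual2.shriekVia n Rψ (Dual.inD R R)) ≅
      (Dual.inD (Localization.Away f) (Localization.Away f))⟦m⟧) := by
  set ω := Dual2.shriekVia n Rψ (Dual.inD R R) with hω
  let p : Ideal R := q.asIdeal.comap (algebraMap R A)
  haveI : p.IsPrime := inferInstance
  let k := p.ResidueField
  let C := k ⊗[R] A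
  let B := Localization.AtPrime q.asIdeal
  let κB := q.asIdeal.ResidueField
  -- ring maps
  let ρ : k →ₐ[R] κB := Ideal.ResidueField.mapₐ p q.asIdeal (Algebra.ofId R A) rfl
  let γ : C →ₐ[R] κB := Algebra.TensorProduct.productMap ρ (IsScalarTower.toAlgHom R A κB)
  let α : A →+* C := (Algebra.TensorProduct.includeRight : A →ₐ[R] k ⊗[R] A).toRingHom
  let lam : A →+* B := algebraMap A B
  let res : B →+* κB := IsLocalRing.residue B
  let θ : A →+* κB := algebraMap A κB
  have hθ1 : θ = res.comp lam := rfl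
  have hθ2 : θ = γ.toRingHom.comp α := by
    refine RingHom.ext (fun x => ?_)
    change algebraMap A κB x = γ ((1 : k) ⊗ₜ[R] x)
    rw [Algebra.TensorProduct.productMap_apply_tmul, map_one, one_mul]
    rfl
  let P : Ideal C := RingHom.ker γ.toRingHom
  haveI hP : P.IsPrime := RingHom.ker_isPrime γ.toRingHom
  let CP := Localization.AtPrime P
  have hunit : ∀ y : P.primeCompl, IsUnit (γ.toRingHom y) := fun y => by
    have : γ.toRingHom (y : C) ≠ 0 := fun h => y.2 h
    exact isUnit_iff_ne_zero.2 this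
  let γ' : CP →+* κB := IsLocalization.lift (M := P.primeCompl) (g := γ.toRingHom) hunit
  have hγ' : γ.toRingHom = γ'.comp (algebraMap C CP) :=
    (IsLocalization.lift_comp (M := P.primeCompl) (g := γ.toRingHom) hunit).symm
  -- derived base changes
  haveI : DRing.HasLBaseChange α := Om.hasLBaseChange _
  haveI : DRing.HasLBaseChange (Algebra.TensorProduct.includeRight : A →ₐ[R] k ⊗[R] A).toRingHom :=
    Om.hasLBaseChange _
  haveI : DRing.HasLBaseChange lam := Om.hasLBaseChange _
  haveI : DRing.HasLBaseChange (algebraMap A B) := Om.hasLBaseChange _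
  haveI : DRing.HasLBaseChange res := Om.hasLBaseChange _
  haveI : DRing.HasLBaseChange (IsLocalRing.residue B) := Om.hasLBaseChange _
  haveI : DRing.HasLBaseChange θ := Om.hasLBaseChange _
  haveI : DRing.HasLBaseChange γ.toRingHom := Om.hasLBaseChange _
  haveI : DRing.HasLBaseChange γ' := Om.hasLBaseChange _
  haveI : DRing.HasLBaseChange (algebraMap C CP) := Om.hasLBaseChange _
  -- the dualizing complex of the fibre
  have hωC : Dual.IsDualizing C ((DRing.LBaseChange α).obj ω) :=
    Du.isDualizing_baseChange_shriekVia_self R A n ψ hψ Rψ adj k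
  haveI : IsNoetherianRing C := hωC.isNoetherianRing
  set ωC := (DRing.LBaseChange α).obj ω with hωCdef
  haveI hGP : LocCoh.IsGorensteinLocalRing CP := hG.isGorensteinLocalRing_localization P
  have hCP := (Groth.Agent.S11179.result CP).1 hGP
  obtain ⟨d, ⟨e1⟩⟩ := exists_shift_iso (Dual.inD CP CP) (locAt ωC ⟨P, hP⟩) hCP
    (isDualizing_locAt ωC hωC ⟨P, hP⟩)
  obtain ⟨e2⟩ := nonempty_LBaseChange_iso_extD (A := C) (B := CP) ωC
  obtain ⟨e3⟩ := nonempty_LBaseChange_iso_extD (A := A) (B := B) ω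
  -- the fibre of `ω` at `q`
  let c1 : (DRing.LBaseChange θ).obj ω ≅
      (DRing.LBaseChange res).obj ((DRing.LBaseChange lam).obj ω) :=
    (lbcCompIso lam res θ hθ1).app ω
  let c2 : (DRing.LBaseChange θ).obj ω ≅
      (DRing.LBaseChange γ.toRingHom).obj ωC := (lbcCompIso α γ.toRingHom θ hθ2).app ω
  let c3 : (DRing.LBaseChange γ.toRingHom).obj ωC ≅
      (DRing.LBaseChange γ').obj ((DRing.LBaseChange (algebraMap C CP)).obj ωC) :=
    (lbcCompIso (algebraMap C CP) γ' γ.toRingHom hγ').app ωC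
  let c4 : (DRing.LBaseChange γ').obj ((DRing.LBaseChange (algebraMap C CP)).obj ωC) ≅
      (Dual.inD κB κB)⟦d⟧ :=
    (DRing.LBaseChange γ').mapIso (e2 ≪≫ e1) ≪≫ lbcShiftUnitIso γ' d
  let e : (DRing.LBaseChange (IsLocalRing.residue B)).obj (locAt ω q) ≅ (Dual.inD κB κB)⟦d⟧ :=
    (DRing.LBaseChange res).mapIso e3.symm ≪≫ c1.symm ≪≫ c2 ≪≫ c3 ≪≫ c4
  have hpc : DRing.IsPseudoCoherent' B (locAt ω q) :=
    isPseudoCoherent'_extD ω (Om.isRelPerfect_shriekVia_self R A n ψ hψ Rψ adj).1
  obtain ⟨hz, hf⟩ := local_invertible_of_fibre B (locAt ω q) hpc d e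
  -- spreading out
  obtain ⟨⟨a, b, hab⟩, hfin⟩ := Du.bounded_finite_shriekVia_self R A n ψ hψ Rψ adj
  haveI : ω.IsGE a := (DerivedCategory.isGE_iff _ _).2 (fun i hi =>
    haveI := hab i (Or.inl hi)
    ModuleCat.isZero_of_subsingleton _)
  haveI : ω.IsLE b := (DerivedCategory.isLE_iff _ _).2 (fun i hi =>
    haveI := hab i (Or.inr hi)
    ModuleCat.isZero_of_subsingleton _)
  obtain ⟨f, hfq, hiso⟩ := exists_away_iso_shift ω a b hfin q (-d) hz hf
  exact ⟨f, hfq, - -d, hiso⟩

include hψ adj in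
/-- if `ω_{A/R}` is invertible, then the fibre rings are Gorenstein -/
theorem gorenstein_fibre_of_invertible (k : Type u) [Field k] [Algebra R k]
    [hL : ∀ f : A, DRing.HasLBaseChange (algebraMap A (Localization.Away f))]
    (hInv : ∀ q : PrimeSpectrum A, ∃ (f : A) (_ : f ∉ q.asIdeal) (m : ℤ),
      Nonempty ((DRing.LBaseChange (algebraMap A (Localization.Away f))).obj
        (Dual2.shriekVia n Rψ (Dual.inD R R)) ≅
      (Dual.inD (Localization.Away f) (Localization.Away f))⟦m⟧)) :
    LocCoh.IsGorensteinRing (k ⊗[R] A) := by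
  set ω := Dual2.shriekVia n Rψ (Dual.inD R R) with hω
  let C := k ⊗[R] A
  let α : A →+* C := (Algebra.TensorProduct.includeRight : A →ₐ[R] k ⊗[R] A).toRingHom
  haveI : DRing.HasLBaseChange α := Om.hasLBaseChange _
  haveI : DRing.HasLBaseChange (Algebra.TensorProduct.includeRight : A →ₐ[R] k ⊗[R] A).toRingHom :=
    Om.hasLBaseChange _
  have hωC : Dual.IsDualizing C ((DRing.LBaseChange α).obj ω) :=
    Du.isDualizing_baseChange_shriekVia_self R A n ψ hψ Rψ adj k
  haveI : IsNoetherianRing C := hωC.isNoetherianRing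
  set ωC := (DRing.LBaseChange α).obj ω with hωCdef
  refine { isGorensteinLocalRing_localization := fun P hP => ?_ }
  let CP := Localization.AtPrime P
  let q : PrimeSpectrum A := ⟨P.comap α, inferInstance⟩
  obtain ⟨f, hfq, m, ⟨e0⟩⟩ := hInv q
  let Af := Localization.Away f
  let θ : A →+* CP := (algebraMap C CP).comp α
  have hu : IsUnit (θ f) := by
    have : α f ∈ P.primeCompl := hfq
    exact IsLocalization.map_units CP ⟨α f, this⟩
  let δ : Af →+* CP := IsLocalization.Away.lift f hu
  have hδ : θ = δ.comp (algebraMap A Af) :=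
    (IsLocalization.Away.lift_comp f hu).symm
  haveI : DRing.HasLBaseChange θ := Om.hasLBaseChange _
  haveI : DRing.HasLBaseChange δ := Om.hasLBaseChange _
  haveI : DRing.HasLBaseChange (algebraMap C CP) := Om.hasLBaseChange _
  obtain ⟨e2⟩ := nonempty_LBaseChange_iso_extD (A := C) (B := CP) ωC
  let c1 : (DRing.LBaseChange θ).obj ω ≅ (DRing.LBaseChange (algebraMap C CP)).obj ωC :=
    (lbcCompIso α (algebraMap C CP) θ rfl).app ω
  let c2 : (DRing.LBaseChange θ).obj ω ≅
      (DRing.LBaseChange δ).obj ((DRing.LBaseChange (algebraMap A Af)).obj ω) :=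
    (lbcCompIso (algebraMap A Af) δ θ hδ).app ω
  let e : locAt ωC ⟨P, hP⟩ ≅ Sg (-m) (ModuleCat.of CP CP) :=
    e2.symm ≪≫ c1.symm ≪≫ c2 ≪≫ (DRing.LBaseChange δ).mapIso e0 ≪≫ lbcShiftUnitIso δ m ≪≫
      SgShiftIso m (-m) 0 (by omega) (ModuleCat.of CP CP)
  haveI : Module.Free CP (ModuleCat.of CP CP) := inferInstanceAs (Module.Free CP CP)
  exact gorenstein_of_iso_single (locAt ωC ⟨P, hP⟩) (isDualizing_locAt ωC hωC ⟨P, hP⟩) (-m)
    (ModuleCat.of CP CP) e

end forward

end Gf

end Groth.Agent.Lib.Helper18.DR
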