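import Mathlib
import Groth.Agent.Lib.Helper18.CmfA
import Groth.Agent.Lib.Helper18.GfD
import Groth.Agent.Lib.Helper18.FdH
import Groth.Agent.Lib.Helper18.DRFib
import Groth.Agent.Lib.Helper18.DRTorC

/-!
# Cohen–Macaulay fibres and the relative dualizing complex: base change to the fibres, vanishing
from the fibres, tor amplitude (helper18)
-/

set_option autoImplicit false
set_option linter.style.haveILetI false
universe u
open CategoryTheory CategoryTheory.Limits CategoryTheory.Pretriangulated DerivedCategory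
  MonoidalCategory
open scoped TensorProduct

attribute [local instance] HasDerivedCategory.standard

namespace Groth.Agent.Lib.Helper18.DR

namespace Cmf

open HomLoc HomBC Dim DSchB GorLoc CMLoc DTen Shr Du

section lbc

variable {A B : Type u} [CommRing A] [CommRing B] (φ : A →+* B) [DRing.HasLBaseChange φ]

/-- derived base change is right t-exact -/
lemma isLE_LBaseChange (K : Dual.D A) (b : ℤ) [K.IsLE b] :
    ((DRing.LBaseChange φ).obj K).IsLE b := by
  letI := φ.toAlgebra
  obtain ⟨E, hEb, hEfree, ⟨eE⟩⟩ := exists_free_resolution K b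
  have hEproj : ∀ i, Module.Projective A (E.X i) := fun i => by
    haveI := hEfree i; exact Module.Projective.of_free
  haveI : E.IsKProjective := isKProjective_of_vanishesAbove E b hEb hEproj
  let e : (DRing.LBaseChange φ).obj K ≅
      DRing.toD (((extM (A := A) (B := B)).mapHomologicalComplex (ComplexShape.up ℤ)).obj E) :=
    (DRing.LBaseChange φ).mapIso eE.symm ≪≫ LBaseChangeIso (algebraMap A B) E
  haveI : (DRing.toD (((extM (A := A) (B := B)).mapHomologicalComplex
      (ComplexShape.up ℤ)).obj E)).IsLE b :=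
    isLE_toD_of_vanishesAbove _ b (vanishesAbove_mapHC extM E b hEb)
  exact TStructure.t.isLE_of_iso e.symm b

end lbc

section fibre

variable (R A : Type u) [CommRing R] [CommRing A] [IsNoetherianRing R] [IsNoetherianRing A]
  [Algebra R A] [Module.Flat R A] (n : ℕ) (ψ : MvPolynomial (Fin n) R →ₐ[R] A)
  (hψ : Function.Surjective ψ)
  [DRing.HasLBaseChange (algebraMap R (MvPolynomial (Fin n) R))]
  (Rψ : Dual.D (MvPolynomial (Fin n) R) ⥤ Dual.D A) (adj : DRing.restrictD ψ.toRingHom ⊣ Rψ)

/-- the ring map `A → k ⊗_R A` -/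
abbrev fibα (k : Type u) [CommRing k] [Algebra R k] : A →+* k ⊗[R] A :=
  (Algebra.TensorProduct.includeRight : A →ₐ[R] k ⊗[R] A).toRingHom

/-- the dualizing complex `ω_{C/k}` of the fibre `C = k ⊗_R A` -/
noncomputable def fibOmega (k : Type u) [Field k] [Algebra R k] : Dual.D (k ⊗[R] A) :=
  haveI : DRing.HasLBaseChange (algebraMap k (MvPolynomial (Fin n) k)) := Om.hasLBaseChange _
  Dual2.shriekVia n (coextD (psiBC R k A n ψ).toRingHom) (Dual.inD k k)

include hψ adj in
/-- base change of `ω_{A/R}` to a fibre -/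
theorem nonempty_fibre_iso (k : Type u) [Field k] [Algebra R k]
    [DRing.HasLBaseChange (fibα R A k)] :
    Nonempty ((DRing.LBaseChange (fibα R A k)).obj (Dual2.shriekVia n Rψ (Dual.inD R R)) ≅
      fibOmega R A n ψ k) := by
  haveI : DRing.HasLBaseChange (algebraMap R k) := Om.hasLBaseChange _
  haveI : DRing.HasLBaseChange (algebraMap k (MvPolynomial (Fin n) k)) := Om.hasLBaseChange _
  let ψ' : MvPolynomial (Fin n) k →ₐ[k] (k ⊗[R] A) := psiBC R k A n ψ
  have hψ' : Function.Surjective ψ' := psiBC_surjective R k A n ψ hψ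
  haveI : IsNoetherianRing (k ⊗[R] A) :=
    isNoetherianRing_of_surjective _ _ ψ'.toRingHom hψ'
  let Rψ' := coextD ψ'.toRingHom
  let adj' := coextAdj ψ'.toRingHom
  obtain ⟨c⟩ := nonempty_shriekVia_baseChange_iso R k A n ψ hψ Rψ adj n ψ' hψ' Rψ' adj'
    (Dual.inD R R)
  haveI := isKProjective_unit' R
  let sR : Dual.inD R R ≅ DTen.unit R :=
    (DerivedCategory.singleFunctorIsoCompQ (ModuleCat.{u} R) 0).app (ModuleCat.of R R)
  let sk : Dual.inD k k ≅ DTen.unit k :=
    (DerivedCategory.singleFunctorIsoCompQ (ModuleCat.{u} k) 0).app (ModuleCat.of k k)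
  let u : (DRing.LBaseChange (algebraMap R k)).obj (Dual.inD R R) ≅ Dual.inD k k :=
    (DRing.LBaseChange (algebraMap R k)).mapIso sR ≪≫
      LBaseChangeIso (algebraMap R k) (𝟙_ (DRing.Cx R)) ≪≫
      DerivedCategory.Q.mapIso (DuF.uι (R := R) (S := k)) ≪≫ sk.symm
  let c' : Dual2.shriekVia n Rψ' ((DRing.LBaseChange (algebraMap R k)).obj (Dual.inD R R)) ≅
      Dual2.shriekVia n Rψ' (Dual.inD k k) :=
    (shiftFunctor _ (n : ℤ)).mapIso (Rψ'.mapIso
      ((DRing.LBaseChange (algebraMap k (MvPolynomial (Fin n) k))).mapIso u))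
  exact ⟨c ≪≫ c'⟩

include hψ adj in
/-- **vanishing from the fibres (Nakayama)**: if the dualizing complexes of all fibres over primes
of `R` vanish above degree `b`, so does `ω_{A/R}` -/
theorem isZero_H_of_fibres (b : ℤ)
    (hfib : ∀ (p : PrimeSpectrum R) (i : ℤ), b < i →
      IsZero ((H (p.asIdeal.ResidueField ⊗[R] A) i).obj (fibOmega R A n ψ p.asIdeal.ResidueField)))
    (i : ℤ) (hi : b < i) :
    IsZero ((H A i).obj (Dual2.shriekVia n Rψ (Dual.inD R R))) := by
  set ω := Dual2.shriekVia n Rψ (Dual.inD R R) with hω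
  obtain ⟨F, c, hFc, hFff, ⟨e⟩⟩ := (Om.isRelPerfect_shriekVia_self R A n ψ hψ Rψ adj).1
  have hFproj : ∀ i, Module.Projective A (F.X i) := fun i => by
    haveI := (hFff i).2; exact Module.Projective.of_free
  haveI : F.IsKProjective := isKProjective_of_vanishesAbove F c hFc hFproj
  refine IsZero.of_iso ?_ ((H A i).mapIso e.symm)
  rw [isZero_H_toD_iff F (i - 1) i (i + 1) (by omega) rfl]
  refine exact_above_of_fibres F c b hFc (fun j => ⟨(hFff j).1, hFproj j⟩) ?_ (i - 1) i (i + 1)
    (by omega) rfl hi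
  intro m hm i' j k hij hjk hj
  haveI := hm
  haveI : DRing.HasLBaseChange (Ideal.Quotient.mk m) := Om.hasLBaseChange _
  rw [← (tensorLike_extM (A := A) (B := A ⧸ m)).exact_iff]
  let eB : (DRing.LBaseChange (Ideal.Quotient.mk m)).obj ω ≅
      DRing.toD (((extM (A := A) (B := A ⧸ m)).mapHomologicalComplex
        (ComplexShape.up ℤ)).obj F) :=
    (DRing.LBaseChange _).mapIso e.symm ≪≫ LBaseChangeIso (Ideal.Quotient.mk m) F
  -- the fibre through `m`
  let p : PrimeSpectrum R := ⟨m.comap (algebraMap R A), inferInstance⟩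
  let κ := p.asIdeal.ResidueField
  letI : Field (A ⧸ m) := Ideal.Quotient.field m
  let ρ : κ →ₐ[R] A ⧸ m := Ideal.ResidueField.liftₐ p.asIdeal (Algebra.ofId R (A ⧸ m))
    (fun r hr => by
      rw [RingHom.mem_ker]
      change algebraMap R (A ⧸ m) r = 0
      rw [IsScalarTower.algebraMap_apply R A (A ⧸ m)]
      exact Ideal.Quotient.eq_zero_iff_mem.2 hr)
    (fun r hr => by
      change IsUnit (algebraMap R (A ⧸ m) r)
      rw [isUnit_iff_ne_zero, IsScalarTower.algebraMap_apply R A (A ⧸ m)]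
      intro h0
      have h1 : Ideal.Quotient.mk m (algebraMap R A r) = 0 := h0
      have h2 : algebraMap R A r ∈ m := Ideal.Quotient.eq_zero_iff_mem.1 h1
      exact hr (Ideal.mem_comap.2 h2))
  let γ : κ ⊗[R] A →ₐ[R] A ⧸ m := Algebra.TensorProduct.productMap ρ (Ideal.Quotient.mkₐ R m)
  have hcomp : Ideal.Quotient.mk m = γ.toRingHom.comp (fibα R A κ) := by
    refine RingHom.ext (fun x => ?_)
    change Ideal.Quotient.mk m x = γ ((1 : κ) ⊗ₜ[R] x)
    rw [Algebra.TensorProduct.productMap_apply_tmul, map_one, one_mul]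
    rfl
  haveI : DRing.HasLBaseChange (fibα R A κ) := Om.hasLBaseChange _
  haveI : DRing.HasLBaseChange γ.toRingHom := Om.hasLBaseChange _
  obtain ⟨c1⟩ := nonempty_fibre_iso R A n ψ hψ Rψ adj κ
  have hle : (fibOmega R A n ψ κ).IsLE b := (DerivedCategory.isLE_iff _ _).2
    (fun i hi => hfib p i hi)
  haveI : ((DRing.LBaseChange (fibα R A κ)).obj ω).IsLE b := TStructure.t.isLE_of_iso c1.symm b
  haveI := isLE_LBaseChange γ.toRingHom ((DRing.LBaseChange (fibα R A κ)).obj ω) b
  have c2 := (Gf.lbcCompIso (fibα R A κ) γ.toRingHom (Ideal.Quotient.mk m) hcomp).app ω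
  haveI : ((DRing.LBaseChange (fibα R A κ) ⋙ DRing.LBaseChange γ.toRingHom).obj ω).IsLE b :=
    isLE_LBaseChange γ.toRingHom ((DRing.LBaseChange (fibα R A κ)).obj ω) b
  haveI : ((DRing.LBaseChange (Ideal.Quotient.mk m)).obj ω).IsLE b :=
    TStructure.t.isLE_of_iso c2.symm b
  have h1 : IsZero ((H (A ⧸ m) j).obj (DRing.toD
      (((extM (A := A) (B := A ⧸ m)).mapHomologicalComplex (ComplexShape.up ℤ)).obj F))) :=
    (DerivedCategory.isZero_of_isLE _ b j hj).of_iso ((H _ j).mapIso eB.symm)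
  exact (isZero_H_toD_iff _ i' j k hij hjk).mp h1

include hψ adj in
/-- the tor amplitude over `R` of `RHom_P(A, P)`, when it is known to vanish above degree `c'` -/
theorem hasTorAmplitudeIn_restrict_of_isLE (d : ℕ)
    (hd : ∀ q : PrimeSpectrum A, FlatMor.fibreDimAt
      (AlgebraicGeometry.Spec.map (CommRingCat.ofHom (algebraMap R A))) q ≤ (d : WithBot ℕ∞))
    (c' : ℤ)
    (hle : ((DRing.restrictD (algebraMap R A)).obj (Rψ.obj
        ((DRing.LBaseChange (algebraMap R (MvPolynomial (Fin n) R))).obj (Dual.inD R R)))).IsLE c') :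
    DRing.HasTorAmplitudeIn R ((n : ℤ) - d) c'
      ((DRing.restrictD (algebraMap R A)).obj (Rψ.obj
        ((DRing.LBaseChange (algebraMap R (MvPolynomial (Fin n) R))).obj (Dual.inD R R)))) := by
  set K' := (DRing.restrictD (algebraMap R A)).obj (Rψ.obj
    ((DRing.LBaseChange (algebraMap R (MvPolynomial (Fin n) R))).obj (Dual.inD R R))) with hK'
  haveI := hle
  -- the vanishing statement
  have hvan : ∀ (M : Type u) [AddCommGroup M] [Module R M] (j : ℤ), j < (n : ℤ) - d →
      IsZero ((H R j).obj ((DRing.restrictD (algebraMap R A)).obj (Rψ.obj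
        ((DRing.LBaseChange (algebraMap R (MvPolynomial (Fin n) R))).obj (Dual.inD R M))))) := by
    intro M _ _ j hj
    apply FdH.isZero_H_restrict R A n Rψ M j
    exact FdG.isZero_H_lower R A n ψ hψ Rψ adj d hd M j hj
  obtain ⟨G, hGb, hGfree, ⟨eG⟩⟩ := exists_free_resolution K' c'
  have hGproj : ∀ i, Module.Projective R (G.X i) := fun i => by
    haveI := hGfree i; exact Module.Projective.of_free
  have hGflat : DRing.TermwiseFlat G := fun i => by haveI := hGproj i; infer_instance
  haveI : G.IsKProjective := isKProjective_of_vanishesAbove G c' hGb hGproj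
  obtain ⟨N, ⟨eN⟩, hN⟩ := Om.exists_chain_model R A n ψ hψ Rψ adj
  obtain ⟨eU⟩ := Om.nonempty_LBaseChange_unit_iso R n
  let eK : K' ≅ DerivedCategory.Q.obj ((resCx (algebraMap R A)).obj N) :=
    (DRing.restrictD (algebraMap R A)).mapIso (Rψ.mapIso eU ≪≫ eN) ≪≫
      (resFactors (algebraMap R A)).app N
  obtain ⟨g, hg⟩ := exists_map_eq G ((resCx (algebraMap R A)).obj N) (eG.hom ≫ eK.hom)
  haveI : IsIso (DerivedCategory.Q.map g) := by rw [hg]; infer_instance
  haveI : QuasiIso g := (DerivedCategory.isIso_Q_map_iff_quasiIso _ g).1 inferInstance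
  refine hasTorAmplitudeIn_of_iso eG
    (hasTorAmplitudeIn_of_exact_lTensor G ((n : ℤ) - d) c' hGb hGflat ?_)
  intro M _ _ i j k hij hjk hj
  rcases hj with hj | hj
  · -- a K-projective resolution of `M[0]`
    obtain ⟨K₀, hK₀, -, ⟨e₀⟩⟩ := exists_kprojective_resolution (Dual.inD R M)
    haveI := hK₀
    obtain ⟨ε, hε⟩ := exists_map_eq K₀ (TotSingleR.S0 (ModuleCat.of R M))
      (e₀.hom ≫ ((DerivedCategory.singleFunctorIsoCompQ (ModuleCat.{u} R) 0).app
        (ModuleCat.of R M)).hom)
    haveI : IsIso (DerivedCategory.Q.map ε) := by rw [hε]; infer_instance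
    haveI : QuasiIso ε := (DerivedCategory.isIso_Q_map_iff_quasiIso _ ε).1 inferInstance
    obtain ⟨c⟩ := FdH.nonempty_comparison (algebraMap R A) (ModuleCat.of R M) K₀ ε N G g
    obtain ⟨i1⟩ := hN K₀ hK₀
    let c'' : DerivedCategory.Q.obj ((TotSingleR.GM (ModuleCat.of R M)).obj G) ≅
        (DRing.restrictD (algebraMap R A)).obj (Rψ.obj
          ((DRing.LBaseChange (algebraMap R (MvPolynomial (Fin n) R))).obj (Dual.inD R M))) :=
      c ≪≫ (DRing.restrictD (algebraMap R A)).mapIso (i1.symm ≪≫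
        Rψ.mapIso ((DRing.LBaseChange (algebraMap R (MvPolynomial (Fin n) R))).mapIso e₀))
    have h1 : IsZero ((H R j).obj (DRing.toD ((TotSingleR.GM (ModuleCat.of R M)).obj G))) :=
      (hvan M j hj).of_iso ((H R j).mapIso c'')
    have h2 := (isZero_H_toD_iff _ i j k hij hjk).mp h1
    exact ((tensorLike_tensorRight (ModuleCat.of R M)).exact_iff (G.d i j) (G.d j k)).mp h2
  · haveI : Subsingleton (G.X j) := ModuleCat.subsingleton_of_isZero (hGb j hj)
    haveI : Subsingleton (M ⊗[R] (G.X j)) := by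
      refine ⟨fun x y => ?_⟩
      suffices h : ∀ z : M ⊗[R] (G.X j), z = 0 by rw [h x, h y]
      intro z
      induction z using TensorProduct.induction_on with
      | zero => rfl
      | tmul a b => rw [Subsingleton.elim b 0, TensorProduct.tmul_zero]
      | add x y hx hy => rw [hx, hy, add_zero]
    intro y
    constructor
    · intro _
      exact ⟨0, Subsingleton.elim _ _⟩
    · intro _
      rw [Subsingleton.elim y 0, map_zero]

/-- restriction of scalars reflects vanishing -/
lemma isZero_of_isZero_restrictScalars {A' B' : Type u} [CommRing A'] [CommRing B']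
    (φ : A' →+* B') (M : ModuleCat.{u} B')
    (h : IsZero ((ModuleCat.restrictScalars.{u} φ).obj M)) : IsZero M := by
  haveI : Subsingleton ((ModuleCat.restrictScalars.{u} φ).obj M) :=
    ModuleCat.subsingleton_of_isZero h
  haveI : Subsingleton M := ⟨fun x y =>
    Subsingleton.elim (α := (ModuleCat.restrictScalars.{u} φ).obj M) x y⟩
  exact ModuleCat.isZero_of_subsingleton _

include hψ adj in
/-- **(⇒)**: Cohen–Macaulay fibres of pure dimension `d` force `RHom_P(A, P)` to be concentrated in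
degree `n - d`, with `R`-flat cohomology there -/
theorem vanishing_flat_of_cm_fibres (d : ℕ)
    (hCM : ∀ p : PrimeSpectrum R, LocCoh.IsCohenMacaulayRing (p.asIdeal.ResidueField ⊗[R] A))
    (hEq : ∀ (p : PrimeSpectrum R) (Q : PrimeSpectrum (p.asIdeal.ResidueField ⊗[R] A)),
      Q.asIdeal ∈ minimalPrimes (p.asIdeal.ResidueField ⊗[R] A) → Order.coheight Q = (d : ℕ∞)) :
    (∀ j : ℤ, j ≠ (n : ℤ) - d → IsZero ((H A j).obj (Rψ.obj
      ((DRing.LBaseChange (algebraMap R (MvPolynomial (Fin n) R))).obj (Dual.inD R R))))) ∧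
    Module.Flat R ((ModuleCat.restrictScalars.{u} (algebraMap R A)).obj
      ((H A ((n : ℤ) - d)).obj (Rψ.obj
        ((DRing.LBaseChange (algebraMap R (MvPolynomial (Fin n) R))).obj (Dual.inD R R))))) := by
  set Y := Rψ.obj
    ((DRing.LBaseChange (algebraMap R (MvPolynomial (Fin n) R))).obj (Dual.inD R R)) with hY
  set K' := (DRing.restrictD (algebraMap R A)).obj Y with hK'
  haveI : Algebra.FiniteType R A := Algebra.FiniteType.of_surjective ψ hψ
  -- the fibres
  have hfib : ∀ (p : PrimeSpectrum R) (i : ℤ), i ≠ -(d : ℤ) →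
      IsZero ((H (p.asIdeal.ResidueField ⊗[R] A) i).obj
        (fibOmega R A n ψ p.asIdeal.ResidueField)) := by
    intro p i hi
    haveI : IsNoetherianRing (p.asIdeal.ResidueField ⊗[R] A) := (hCM p).toIsNoetherian
    haveI : DRing.HasLBaseChange (algebraMap p.asIdeal.ResidueField
      (MvPolynomial (Fin n) p.asIdeal.ResidueField)) := Om.hasLBaseChange _
    exact isZero_H_of_cm_equidim p.asIdeal.ResidueField (p.asIdeal.ResidueField ⊗[R] A) n
      (psiBC R p.asIdeal.ResidueField A n ψ) (psiBC_surjective R p.asIdeal.ResidueField A n ψ hψ)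
      (coextD (psiBC R p.asIdeal.ResidueField A n ψ).toRingHom)
      (coextAdj (psiBC R p.asIdeal.ResidueField A n ψ).toRingHom) d (hCM p) (hEq p) i hi
  -- upper vanishing
  have hup : ∀ i : ℤ, -(d : ℤ) < i →
      IsZero ((H A i).obj (Dual2.shriekVia n Rψ (Dual.inD R R))) :=
    isZero_H_of_fibres R A n ψ hψ Rψ adj (-(d : ℤ)) (fun p i hi => hfib p i (by omega))
  have hupY : ∀ j : ℤ, (n : ℤ) - d < j → IsZero ((H A j).obj Y) := by
    intro j hj
    exact (hup (j - n) (by omega)).of_iso
      ((HShiftIso A (n : ℤ) (j - n) j (by omega)).app Y).symm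
  have hle : K'.IsLE ((n : ℤ) - d) := by
    rw [DerivedCategory.isLE_iff]
    intro j hj
    exact ((ModuleCat.restrictScalars.{u} (algebraMap R A)).map_isZero (hupY j hj)).of_iso
      (homologyRestrictIso (algebraMap R A) Y j)
  -- the fibre dimension
  have hd : ∀ q : PrimeSpectrum A, FlatMor.fibreDimAt
      (AlgebraicGeometry.Spec.map (CommRingCat.ofHom (algebraMap R A))) q ≤ (d : WithBot ℕ∞) := by
    intro q
    rw [Fd.fibreDimAt_eq R A q]
    let p : PrimeSpectrum R := PrimeSpectrum.comap (algebraMap R A) q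
    haveI : Algebra.FiniteType p.asIdeal.ResidueField (p.asIdeal.ResidueField ⊗[R] A) :=
      Algebra.FiniteType.of_surjective (psiBC R p.asIdeal.ResidueField A n ψ)
        (psiBC_surjective R p.asIdeal.ResidueField A n ψ hψ)
    have h1 := Groth.Agent.Lib.Helper12.DimFT2.height_add_coheight_of_equidim
      p.asIdeal.ResidueField (p.asIdeal.ResidueField ⊗[R] A) d
      (fun P hP hPp => by
        rw [Groth.Agent.Lib.Helper12.DimFT.ringKrullDim_quotient_eq_coheight ⟨P, hPp⟩,
          hEq p ⟨P, hPp⟩ hP]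
        rfl) (Fd.qbar R A q)
    rw [h1]
    exact le_rfl
  have hTA := hasTorAmplitudeIn_restrict_of_isLE R A n ψ hψ Rψ adj d hd ((n : ℤ) - d) hle
  haveI := hle
  haveI hge : K'.IsGE ((n : ℤ) - d) := isGE_of_hasTorAmplitudeIn hTA
  refine ⟨fun j hj => ?_, ?_⟩
  · rcases lt_or_gt_of_ne hj with h | h
    · apply isZero_of_isZero_restrictScalars (algebraMap R A)
      exact (DerivedCategory.isZero_of_isGE K' ((n : ℤ) - d) j h).of_iso
        (homologyRestrictIso (algebraMap R A) Y j).symm
    · exact hupY j h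
  · haveI := flat_H_of_hasTorAmplitudeIn K' ((n : ℤ) - d) ((n : ℤ) - d) hTA
    exact Module.Flat.of_linearEquiv
      (homologyRestrictIso (algebraMap R A) Y ((n : ℤ) - d)).toLinearEquiv.symm

end fibre

section lbcTA

variable {A κ : Type u} [CommRing A] [CommRing κ] [Algebra A κ]
  [DRing.HasLBaseChange (algebraMap A κ)]

/-- derived base change of a complex of tor amplitude `[a, b]` lives in `[a, b]` -/
lemma isZero_H_LBaseChange_of_hasTorAmplitudeIn (K : Dual.D A) (a b : ℤ)
    (hTA : DRing.HasTorAmplitudeIn A a b K) (i : ℤ) (hi : i < a ∨ b < i) :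
    IsZero ((H κ i).obj ((DRing.LBaseChange (algebraMap A κ)).obj K)) := by
  obtain ⟨E, hE, hEf, ⟨e⟩⟩ := hTA
  obtain ⟨e'⟩ := nonempty_LBaseChange_iso_of_flat (κ := κ) E b (VanishesOutside.above hE) hEf
  refine IsZero.of_iso ?_ ((H κ i).mapIso ((DRing.LBaseChange (algebraMap A κ)).mapIso e.symm ≪≫ e'))
  exact Gf.isZero_H_toD_of_isZero _ i (vanishesOutside_mapHC extM E a b hE i hi)

end lbcTA

section fibre2

attribute [local instance] Algebra.TensorProduct.rightAlgebra

variable (R A : Type u) [CommRing R] [CommRing A] [IsNoetherianRing R] [IsNoetherianRing A]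
  [Algebra R A] [Module.Flat R A] (n : ℕ) (ψ : MvPolynomial (Fin n) R →ₐ[R] A)
  (hψ : Function.Surjective ψ)
  [DRing.HasLBaseChange (algebraMap R (MvPolynomial (Fin n) R))]
  (Rψ : Dual.D (MvPolynomial (Fin n) R) ⥤ Dual.D A) (adj : DRing.restrictD ψ.toRingHom ⊣ Rψ)

include hψ adj in
/-- **(⇐)**: if `RHom_P(A, P)` is concentrated in degree `n - d` with `R`-flat cohomology there,
then the fibres are Cohen–Macaulay of pure dimension `d` -/
theorem cm_fibres_of_vanishing_flat (d : ℕ)
    (hvan : ∀ j : ℤ, j ≠ (n : ℤ) - d → IsZero ((H A j).obj (Rψ.obj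
      ((DRing.LBaseChange (algebraMap R (MvPolynomial (Fin n) R))).obj (Dual.inD R R)))))
    (hflat : Module.Flat R ((ModuleCat.restrictScalars.{u} (algebraMap R A)).obj
      ((H A ((n : ℤ) - d)).obj (Rψ.obj
        ((DRing.LBaseChange (algebraMap R (MvPolynomial (Fin n) R))).obj (Dual.inD R R))))))
    (p : PrimeSpectrum R) :
    LocCoh.IsCohenMacaulayRing (p.asIdeal.ResidueField ⊗[R] A) ∧
      ∀ Q : PrimeSpectrum (p.asIdeal.ResidueField ⊗[R] A),
        Q.asIdeal ∈ minimalPrimes (p.asIdeal.ResidueField ⊗[R] A) →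
        Order.coheight Q = (d : ℕ∞) := by
  set Y := Rψ.obj
    ((DRing.LBaseChange (algebraMap R (MvPolynomial (Fin n) R))).obj (Dual.inD R R)) with hY
  set K' := (DRing.restrictD (algebraMap R A)).obj Y with hK'
  set k := p.asIdeal.ResidueField with hk
  set ω := Dual2.shriekVia n Rψ (Dual.inD R R) with hω
  -- tor amplitude of `K'`
  have hHK : ∀ j : ℤ, (H R j).obj K' ≅
      (ModuleCat.restrictScalars.{u} (algebraMap R A)).obj ((H A j).obj Y) := fun j =>
    homologyRestrictIso (algebraMap R A) Y j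
  have hTA : DRing.HasTorAmplitudeIn R ((n : ℤ) - d) ((n : ℤ) - d) K' := by
    refine hasTorAmplitudeIn_of_cohomology _ _ K' ⟨(n : ℤ) - d, (n : ℤ) - d, fun i hi => ?_⟩
      (fun i => ?_)
    · exact ModuleCat.subsingleton_of_isZero
        (((ModuleCat.restrictScalars.{u} (algebraMap R A)).map_isZero
          (hvan i (by omega))).of_iso (hHK i))
    · by_cases hi : i = (n : ℤ) - d
      · subst hi
        haveI : Module.Flat R ((H R ((n : ℤ) - d)).obj K') :=
          Module.Flat.of_linearEquiv (hHK ((n : ℤ) - d)).toLinearEquiv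
        rw [sub_self]
        exact Om.hasTorAmplitudeIn_Sg_of_flat ((H R ((n : ℤ) - d)).obj K')
      · refine hasTorAmplitudeIn_of_isZero _ ?_ _ _
        exact Functor.map_isZero _ (((ModuleCat.restrictScalars.{u} (algebraMap R A)).map_isZero
          (hvan i hi)).of_iso (hHK i))
  -- tor amplitude of `ω|_R`
  have hTAω : DRing.HasTorAmplitudeIn R (-(d : ℤ)) (-(d : ℤ))
      ((DRing.restrictD (algebraMap R A)).obj ω) := by
    have h := hasTorAmplitudeIn_shift hTA (n : ℤ)
    have e1 : (n : ℤ) - d - n = -(d : ℤ) := by ring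
    rw [e1] at h
    exact hasTorAmplitudeIn_of_iso
      (((DRing.restrictD (algebraMap R A)).commShiftIso (n : ℤ)).app _).symm h
  -- base change to the fibre
  haveI : DRing.HasLBaseChange (algebraMap R k) := Om.hasLBaseChange _
  haveI : DRing.HasLBaseChange (algebraMap A (k ⊗[R] A)) := Om.hasLBaseChange _
  haveI : DRing.HasLBaseChange (fibα R A k) := Om.hasLBaseChange _
  obtain ⟨t⟩ := DuH.nonempty_torIndep_baseChange_iso R k (P := R) (P' := k) (A := A)
    (A' := k ⊗[R] A) ω
  have hfibz : ∀ i : ℤ, i ≠ -(d : ℤ) → IsZero ((H (k ⊗[R] A) i).obj (fibOmega R A n ψ k)) := by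
    intro i hi
    obtain ⟨c1⟩ := nonempty_fibre_iso R A n ψ hψ Rψ adj k
    refine IsZero.of_iso ?_ ((H (k ⊗[R] A) i).mapIso c1.symm)
    apply isZero_of_isZero_restrictScalars (algebraMap k (k ⊗[R] A))
    refine IsZero.of_iso ?_ (homologyRestrictIso (algebraMap k (k ⊗[R] A)) _ i).symm
    refine IsZero.of_iso ?_ ((H k i).mapIso t.symm)
    exact isZero_H_LBaseChange_of_hasTorAmplitudeIn _ _ _ hTAω i (by omega)
  haveI : DRing.HasLBaseChange (algebraMap k (MvPolynomial (Fin n) k)) := Om.hasLBaseChange _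
  haveI : IsNoetherianRing (k ⊗[R] A) :=
    isNoetherianRing_of_surjective _ _ (psiBC R k A n ψ).toRingHom
      (psiBC_surjective R k A n ψ hψ)
  exact ⟨cm_of_isZero_H k (k ⊗[R] A) n (psiBC R k A n ψ) (psiBC_surjective R k A n ψ hψ)
      (coextD (psiBC R k A n ψ).toRingHom) (coextAdj (psiBC R k A n ψ).toRingHom) d hfibz,
    coheight_eq_of_isZero_H k (k ⊗[R] A) n (psiBC R k A n ψ) (psiBC_surjective R k A n ψ hψ)
      (coextD (psiBC R k A n ψ).toRingHom) (coextAdj (psiBC R k A n ψ).toRingHom) d hfibz⟩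

end fibre2

end Cmf

end Groth.Agent.Lib.Helper18.DR
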