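import Mathlib
import Groth.Agent.Lib.Helper18.DSchB
import Groth.Agent.Lib.Helper18.NormB

/-!
# `Ext^j_P(B, X) ≃ H^j(RHom_P(B, X))`: module level `Ext` against the right adjoint of restriction
(helper18)
-/

set_option autoImplicit false
set_option linter.style.haveILetI false
universe u
open CategoryTheory CategoryTheory.Limits CategoryTheory.Pretriangulated DerivedCategory

attribute [local instance] HasDerivedCategory.standard

namespace Groth.Agent.Lib.Helper18.DR

namespace ExtBr

open HomLoc HomBC Norm DSchB FdG

variable {P B : Type u} [CommRing P] [CommRing B] [Algebra P B]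
  (R : Dual.D P ⥤ Dual.D B) (adj : DRing.restrictD (algebraMap P B) ⊣ R)

/-- the bridge `Ext^j_P(M, X) → H^j(R(X))`, for `M ≅ B` as `P`-modules -/
noncomputable def bridge (M : ModuleCat.{u} P)
    (eM : M ≅ (ModuleCat.restrictScalars.{u} (algebraMap P B)).obj (ModuleCat.of B B))
    (X : Type u) [AddCommGroup X] [Module P X] (j : ℕ)
    (e : Abelian.Ext M (ModuleCat.of P X) j) : (H B (j : ℤ)).obj (R.obj (Dual.inD P X)) :=
  (hEquiv (R.obj (Dual.inD P X)) (j : ℤ)).symm
    (homAdjEquiv R adj (Dual.inD P X) B (j : ℤ)
      (((singleFunctor (ModuleCat.{u} P) 0).mapIso eM).inv ≫ Abelian.Ext.homLinearEquiv (R := P) e))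

lemma bridge_add (M : ModuleCat.{u} P)
    (eM : M ≅ (ModuleCat.restrictScalars.{u} (algebraMap P B)).obj (ModuleCat.of B B))
    (X : Type u) [AddCommGroup X] [Module P X] (j : ℕ)
    (e e' : Abelian.Ext M (ModuleCat.of P X) j) :
    bridge R adj M eM X j (e + e') = bridge R adj M eM X j e + bridge R adj M eM X j e' := by
  unfold bridge
  rw [map_add, Preadditive.comp_add, homAdjEquiv_add, map_add]

lemma bridge_smul (M : ModuleCat.{u} P)
    (eM : M ≅ (ModuleCat.restrictScalars.{u} (algebraMap P B)).obj (ModuleCat.of B B))
    (X : Type u) [AddCommGroup X] [Module P X] (j : ℕ) (p : P)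
    (e : Abelian.Ext M (ModuleCat.of P X) j) :
    bridge R adj M eM X j (p • e) = algebraMap P B p • bridge R adj M eM X j e := by
  unfold bridge
  rw [map_smul, Linear.comp_smul, homAdjEquiv_smul, map_smul]

lemma bridge_bijective (M : ModuleCat.{u} P)
    (eM : M ≅ (ModuleCat.restrictScalars.{u} (algebraMap P B)).obj (ModuleCat.of B B))
    (X : Type u) [AddCommGroup X] [Module P X] (j : ℕ) :
    Function.Bijective (bridge R adj M eM X j) := by
  unfold bridge
  refine (hEquiv (R.obj (Dual.inD P X)) (j : ℤ)).symm.bijective.comp
    ((homAdjEquiv R adj (Dual.inD P X) B (j : ℤ)).bijective.comp ?_)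
  exact (((singleFunctor (ModuleCat.{u} P) 0).mapIso eM).homFromEquiv).bijective.comp
    (Abelian.Ext.homLinearEquiv (R := P)).bijective

/-- packaging: an invertible `B`-module `P`-isomorphic to `X` exists iff the `B`-module `E`, which
is semilinearly isomorphic to `X`, is invertible -/
theorem exists_invertible_iff {P B : Type u} [CommRing P] [CommRing B] [Algebra P B]
    (hsurj : Function.Surjective (algebraMap P B)) (X : Type u) [AddCommGroup X] [Module P X]
    (E : Type u) [AddCommGroup E] [Module B E] (γ : X → E) (hγ : Function.Bijective γ)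
    (hadd : ∀ x y, γ (x + y) = γ x + γ y)
    (hsmul : ∀ (p : P) (x : X), γ (p • x) = algebraMap P B p • γ x) :
    (∃ (L : Type u) (_ : AddCommGroup L) (_ : Module B L), Module.Invertible B L ∧
      Nonempty (RestrictScalars P B L ≃ₗ[P] X)) ↔ Module.Invertible B E := by
  constructor
  · rintro ⟨L, _, _, hL, ⟨l⟩⟩
    let g : L →ₗ[B] E :=
      { toFun := fun x => γ (l ((RestrictScalars.addEquiv P B L).symm x))
        map_add' := fun x y => by rw [map_add, map_add, hadd]
        map_smul' := fun b x => by
          obtain ⟨p, rfl⟩ := hsurj b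
          have h1 : (RestrictScalars.addEquiv P B L).symm (algebraMap P B p • x) =
              p • (RestrictScalars.addEquiv P B L).symm x := rfl
          rw [h1, map_smul, hsmul]
          rfl }
    have hg : Function.Bijective g :=
      hγ.comp (l.bijective.comp (RestrictScalars.addEquiv P B L).symm.bijective)
    exact Module.Invertible.congr (LinearEquiv.ofBijective g hg)
  · intro hE
    refine ⟨E, inferInstance, inferInstance, hE, ⟨LinearEquiv.symm ?_⟩⟩
    refine LinearEquiv.ofBijective
      { toFun := fun x => (RestrictScalars.addEquiv P B E).symm (γ x)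
        map_add' := fun x y => by rw [hadd, map_add]
        map_smul' := fun p x => by
          rw [hsmul]
          rfl } ?_
    exact (RestrictScalars.addEquiv P B E).symm.bijective.comp hγ

end ExtBr

end Groth.Agent.Lib.Helper18.DR
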