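import Mathlib
import Groth.Agent.Lib.Helper18.CmfB
import Groth.Agent.Lib.Helper18.ExtBrA
import Groth.Agent.Lib.Helper14.CMFibres5

/-!
# Transfer lemmas for the Cohen–Macaulay fibre criterion (helper18)
-/

set_option autoImplicit false
set_option linter.style.haveILetI false
universe u
open CategoryTheory CategoryTheory.Limits
open scoped TensorProduct

namespace Groth.Agent.Lib.Helper18.DR

namespace Cmf

/-- coheights of minimal primes along a ring isomorphism -/
lemma coheight_transfer {S₁ S₂ : Type u} [CommRing S₁] [CommRing S₂] (e : S₁ ≃+* S₂) (n : ℕ∞)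
    (h : ∀ Q : PrimeSpectrum S₂, Q.asIdeal ∈ minimalPrimes S₂ → Order.coheight Q = n)
    (Q : PrimeSpectrum S₁) (hQ : Q.asIdeal ∈ minimalPrimes S₁) : Order.coheight Q = n := by
  have hmin : (PrimeSpectrum.comapEquiv e Q).asIdeal ∈ minimalPrimes S₂ := by
    rw [← Ideal.height_eq_zero_iff]
    change (Q.asIdeal.comap e.symm).height = 0
    rw [RingEquiv.height_comap e.symm Q.asIdeal]
    exact Ideal.height_eq_zero_iff.2 hQ
  have h1 := h (PrimeSpectrum.comapEquiv e Q) hmin
  rwa [Order.coheight_orderIso] at h1

/-- flatness along a semilinear bijection -/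
lemma flat_iff_of_semilinear {A P B : Type u} [CommRing A] [CommRing P] [CommRing B]
    [Algebra A P] [Algebra P B] [Algebra A B] [IsScalarTower A P B]
    (X : Type u) [AddCommGroup X] [Module P X] (E : ModuleCat.{u} B) (f : X → E)
    (hf : Function.Bijective f) (hadd : ∀ x y, f (x + y) = f x + f y)
    (hsmul : ∀ (p : P) (x : X), f (p • x) = algebraMap P B p • f x) :
    Module.Flat A (RestrictScalars A P X) ↔
      Module.Flat A ((ModuleCat.restrictScalars.{u} (algebraMap A B)).obj E) := by
  let g : RestrictScalars A P X →ₗ[A]
      ((ModuleCat.restrictScalars.{u} (algebraMap A B)).obj E) :=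
    { toFun := fun x => (show ((ModuleCat.restrictScalars.{u} (algebraMap A B)).obj E) from
        f (RestrictScalars.addEquiv A P X x))
      map_add' := fun x y => by
        change f (RestrictScalars.addEquiv A P X (x + y)) = f _ + f _
        rw [map_add, hadd]
      map_smul' := fun a x => by
        have h1 : RestrictScalars.addEquiv A P X (a • x) =
            algebraMap A P a • RestrictScalars.addEquiv A P X x := rfl
        change f (RestrictScalars.addEquiv A P X (a • x)) =
          algebraMap A B a • f (RestrictScalars.addEquiv A P X x)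
        rw [h1, hsmul, ← IsScalarTower.algebraMap_apply A P B] }
  have hg : Function.Bijective g := hf.comp (RestrictScalars.addEquiv A P X).bijective
  let l : RestrictScalars A P X ≃ₗ[A] ((ModuleCat.restrictScalars.{u} (algebraMap A B)).obj E) :=
    LinearEquiv.ofBijective g hg
  exact ⟨fun h => Module.Flat.of_linearEquiv l.symm, fun h => Module.Flat.of_linearEquiv l⟩

end Cmf

end Groth.Agent.Lib.Helper18.DR
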