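import Mathlib
import Groth.Prelude.Def_CotT2

/-!
# Element-level API for the cotangent complex `L₂ → L₁ → L₀` of a presentation (`CotT`)

Every element of `L₁ = B ⊗_R F` is `1 ⊗ f` and every element of `L₂` is the class of `1 ⊗ q`
(because `R → B` is surjective).  We record the additive maps `mkL1 : F → L₁`, `mkL2 : Q → L₂`,
their semilinearity, the universal property of `L₂` (`liftL2`) and computation rules for the maps
induced by a morphism of presentations.
-/

set_option autoImplicit false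
universe u v w t u' v' w' t' m

open TensorProduct

namespace Groth.Agent.Lib.Helper18.CotTApi

open CotT

section Basic

variable {A : Type u} {B : Type v} {ι : Type w} {σ : Type t}
variable [CommRing A] [CommRing B] [Algebra A B]
variable (P : Algebra.Presentation A B ι σ)

theorem algebraMap_surjective : Function.Surjective (algebraMap P.toExtension.Ring B) :=
  P.toExtension.algebraMap_surjective

theorem one_tmul_smul {N : Type*} [AddCommMonoid N] [Module P.toExtension.Ring N]
    (r : P.toExtension.Ring) (n : N) :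
    ((1 : B) ⊗ₜ[P.toExtension.Ring] (r • n)) =
      algebraMap P.toExtension.Ring B r • ((1 : B) ⊗ₜ[P.toExtension.Ring] n) := by
  calc ((1 : B) ⊗ₜ[P.toExtension.Ring] (r • n))
      = (r • (1 : B)) ⊗ₜ[P.toExtension.Ring] n := (TensorProduct.smul_tmul r 1 n).symm
    _ = (algebraMap P.toExtension.Ring B r • (1 : B)) ⊗ₜ[P.toExtension.Ring] n := by
        rw [algebraMap_smul]
    _ = algebraMap P.toExtension.Ring B r • ((1 : B) ⊗ₜ[P.toExtension.Ring] n) :=
        (TensorProduct.smul_tmul' _ _ _).symm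

theorem tmul_eq_smul_one_tmul {N : Type*} [AddCommMonoid N] [Module P.toExtension.Ring N]
    (b : B) (n : N) :
    (b ⊗ₜ[P.toExtension.Ring] n) = b • ((1 : B) ⊗ₜ[P.toExtension.Ring] n) := by
  rw [TensorProduct.smul_tmul', smul_eq_mul, mul_one]

theorem exists_one_tmul {N : Type*} [AddCommMonoid N] [Module P.toExtension.Ring N]
    (z : B ⊗[P.toExtension.Ring] N) : ∃ n : N, z = (1 : B) ⊗ₜ[P.toExtension.Ring] n := by
  induction z using TensorProduct.induction_on with
  | zero => exact ⟨0, (TensorProduct.tmul_zero _ _).symm⟩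
  | tmul b n =>
    obtain ⟨r, rfl⟩ := algebraMap_surjective P b
    exact ⟨r • n, by rw [one_tmul_smul, ← tmul_eq_smul_one_tmul]⟩
  | add x y hx hy =>
    obtain ⟨n, rfl⟩ := hx
    obtain ⟨n', rfl⟩ := hy
    exact ⟨n + n', (TensorProduct.tmul_add _ _ _).symm⟩

/-- `f ↦ 1 ⊗ f`, `F → L₁`. -/
noncomputable def mkL1 : relMod P →+ L1 P where
  toFun f := (1 : B) ⊗ₜ[P.toExtension.Ring] f
  map_zero' := TensorProduct.tmul_zero _ _
  map_add' f g := TensorProduct.tmul_add _ _ _

theorem mkL1_apply (f : relMod P) : mkL1 P f = (1 : B) ⊗ₜ[P.toExtension.Ring] f := rfl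

theorem mkL1_smul (r : P.toExtension.Ring) (f : relMod P) :
    mkL1 P (r • f) = algebraMap P.toExtension.Ring B r • mkL1 P f :=
  one_tmul_smul P r f

theorem mkL1_surjective : Function.Surjective (mkL1 P) := by
  intro x
  obtain ⟨f, rfl⟩ := exists_one_tmul P x
  exact ⟨f, rfl⟩

/-- `q ↦` class of `1 ⊗ q`, `Q → L₂`. -/
noncomputable def mkL2 : relKer P →+ L2 P where
  toFun q := Submodule.Quotient.mk ((1 : B) ⊗ₜ[P.toExtension.Ring] q)
  map_zero' := by rw [TensorProduct.tmul_zero, Submodule.Quotient.mk_zero]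
  map_add' q q' := by rw [TensorProduct.tmul_add, Submodule.Quotient.mk_add]

theorem mkL2_apply (q : relKer P) :
    mkL2 P q = Submodule.Quotient.mk ((1 : B) ⊗ₜ[P.toExtension.Ring] q) := rfl

theorem mkL2_smul (r : P.toExtension.Ring) (q : relKer P) :
    mkL2 P (r • q) = algebraMap P.toExtension.Ring B r • mkL2 P q := by
  rw [mkL2_apply, mkL2_apply, one_tmul_smul, Submodule.Quotient.mk_smul]

theorem mkL2_surjective : Function.Surjective (mkL2 P) := by
  intro x
  obtain ⟨z, rfl⟩ := Submodule.Quotient.mk_surjective _ x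
  obtain ⟨q, rfl⟩ := exists_one_tmul P z
  exact ⟨q, rfl⟩

theorem d2_mkL2 (q : relKer P) : d2 P (mkL2 P q) = mkL1 P (q : relMod P) :=
  d2_mk_tmul P 1 q

theorem mkL2_eq_zero (q : relKer P) (hq : (q : relMod P) ∈ trivRel P) : mkL2 P q = 0 := by
  rw [mkL2_apply, Submodule.Quotient.mk_eq_zero]
  exact ⟨(1 : B) ⊗ₜ[P.toExtension.Ring] (⟨q, hq⟩ : trivRelKer P), rfl⟩

theorem mkL2_congr (q q' : relKer P) (h : (q : relMod P) - (q' : relMod P) ∈ trivRel P) :
    mkL2 P q = mkL2 P q' := by
  rw [← sub_eq_zero, ← map_sub]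
  exact mkL2_eq_zero P _ h

theorem toCot_mkL1 (f : relMod P) :
    toCot P (mkL1 P f) = Algebra.Extension.Cotangent.mk (jker P f) := by
  rw [mkL1_apply, toCot_tmul, one_smul]

theorem d1_mkL1 (f : relMod P) :
    d1 P (mkL1 P f) = (1 : B) ⊗ₜ KaehlerDifferential.D A P.toExtension.Ring (jmap P f) := by
  rw [mkL1_apply, d1_tmul, one_smul]

theorem mkL1_single (s : σ) (r : P.toExtension.Ring) :
    mkL1 P (Finsupp.single s r) = algebraMap P.toExtension.Ring B r • L1basis P s := by
  rw [L1basis_apply, ← mkL1_apply, ← mkL1_smul, Finsupp.smul_single, smul_eq_mul, mul_one]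

section Lift

variable {M : Type m} [AddCommGroup M] [Module B M]

theorem apply_mkL1 (φ : L1 P →ₗ[B] M) (f : relMod P) :
    φ (mkL1 P f) = f.sum (fun s r => algebraMap P.toExtension.Ring B r • φ (L1basis P s)) := by
  induction f using Finsupp.induction_linear with
  | zero => simp
  | add f g hf hg =>
    rw [map_add, map_add, hf, hg, Finsupp.sum_add_index']
    · intro s; rw [map_zero, zero_smul]
    · intro s r r'; rw [map_add, add_smul]
  | single s r =>
    rw [mkL1_single, map_smul, Finsupp.sum_single_index]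
    rw [map_zero, zero_smul]

theorem hom_ext_L1 {φ ψ : L1 P →ₗ[B] M} (h : ∀ s, φ (L1basis P s) = ψ (L1basis P s)) : φ = ψ :=
  (L1basis P).ext h

theorem hom_ext_L2 {φ ψ : L2 P →ₗ[B] M} (h : ∀ q, φ (mkL2 P q) = ψ (mkL2 P q)) : φ = ψ := by
  refine LinearMap.ext fun x => ?_
  obtain ⟨q, rfl⟩ := mkL2_surjective P x
  exact h q

/-- The universal property of `L₂`: a semilinear map on the relation module killing the trivial
relations induces a `B`-linear map on `L₂`. -/
noncomputable def liftL2 (g : relKer P →+ M)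
    (hs : ∀ (r : P.toExtension.Ring) (q : relKer P),
      g (r • q) = algebraMap P.toExtension.Ring B r • g q)
    (hz : ∀ q : relKer P, (q : relMod P) ∈ trivRel P → g q = 0) : L2 P →ₗ[B] M :=
  letI : Module P.toExtension.Ring M := Module.compHom M (algebraMap P.toExtension.Ring B)
  haveI : IsScalarTower P.toExtension.Ring B M := IsScalarTower.of_compHom P.toExtension.Ring B M
  Submodule.liftQ _ (LinearMap.liftBaseChange B
      ({ toFun := g, map_add' := g.map_add, map_smul' := fun r q => hs r q } :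
        relKer P →ₗ[P.toExtension.Ring] M))
    (by
      rintro _ ⟨z, rfl⟩
      rw [LinearMap.mem_ker]
      induction z using TensorProduct.induction_on with
      | zero => simp
      | add x y hx hy => rw [map_add, map_add, hx, hy, add_zero]
      | tmul b k =>
        rw [LinearMap.baseChange_tmul, LinearMap.liftBaseChange_tmul]
        change b • g ((trivRelKer P).subtype k) = 0
        have h0 : g ((trivRelKer P).subtype k) = 0 := hz ((trivRelKer P).subtype k) k.2
        rw [h0, smul_zero])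

theorem liftL2_mkL2 (g : relKer P →+ M)
    (hs : ∀ (r : P.toExtension.Ring) (q : relKer P),
      g (r • q) = algebraMap P.toExtension.Ring B r • g q)
    (hz : ∀ q : relKer P, (q : relMod P) ∈ trivRel P → g q = 0) (q : relKer P) :
    liftL2 P g hs hz (mkL2 P q) = g q := by
  change (1 : B) • g q = g q
  exact one_smul _ _

theorem T2_mk_eq_zero_iff (ψ : L2 P →ₗ[B] M) :
    (Submodule.Quotient.mk ψ : T2 P M) = 0 ↔ ∃ φ : L1 P →ₗ[B] M, φ ∘ₗ d2 P = ψ := by
  rw [Submodule.Quotient.mk_eq_zero]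
  rfl

theorem T2_mk_eq_iff (ψ ψ' : L2 P →ₗ[B] M) :
    (Submodule.Quotient.mk ψ : T2 P M) = Submodule.Quotient.mk ψ' ↔
      ∃ φ : L1 P →ₗ[B] M, φ ∘ₗ d2 P = ψ - ψ' := by
  rw [← sub_eq_zero, ← Submodule.Quotient.mk_sub, T2_mk_eq_zero_iff]

theorem T1_mk_eq_zero_iff (z : cocycles1 P M) :
    (Submodule.Quotient.mk z : T1 P M) = 0 ↔
      ∃ χ : L0 P →ₗ[B] M, χ ∘ₗ d1 P = (z : L1 P →ₗ[B] M) := by
  rw [Submodule.Quotient.mk_eq_zero]
  rfl

theorem T1_mk_eq_iff (z z' : cocycles1 P M) :
    (Submodule.Quotient.mk z : T1 P M) = Submodule.Quotient.mk z' ↔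
      ∃ χ : L0 P →ₗ[B] M, χ ∘ₗ d1 P = (z : L1 P →ₗ[B] M) - (z' : L1 P →ₗ[B] M) := by
  rw [← sub_eq_zero, ← Submodule.Quotient.mk_sub, T1_mk_eq_zero_iff]
  rfl

theorem mem_cocycles1_iff (φ : L1 P →ₗ[B] M) : φ ∈ cocycles1 P M ↔ φ ∘ₗ d2 P = 0 := by
  rw [LinearMap.mem_ker]
  rfl

theorem mem_T0_iff (φ : L0 P →ₗ[B] M) : φ ∈ LinearMap.ker (d1Star P M) ↔ φ ∘ₗ d1 P = 0 := by
  rw [LinearMap.mem_ker]
  rfl

end Lift

end Basic

section Pull

variable {A : Type u} {B : Type v} {ι : Type w} {σ : Type t}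
variable {A' : Type u'} {B' : Type v'} {ι' : Type w'} {σ' : Type t'}
variable [CommRing A] [CommRing B] [Algebra A B] [CommRing A'] [CommRing B'] [Algebra A' B']
variable [Algebra A A'] [Algebra B B'] [Algebra A B'] [IsScalarTower A A' B'] [IsScalarTower A B B']
variable {P : Algebra.Presentation A B ι σ} {P' : Algebra.Presentation A' B' ι' σ'}
variable (h : PresHom P P')

theorem L1map_mkL1 (f : relMod P) : h.L1map (mkL1 P f) = mkL1 P' (h.relModMap f) := by
  rw [mkL1_apply, PresHom.L1map_tmul, map_one, mkL1_apply]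

theorem L2map_mkL2 (q : relKer P) : h.L2map (mkL2 P q) = mkL2 P' (h.relKerMap q) := by
  rw [mkL2_apply, PresHom.L2map_mk_tmul, map_one, mkL2_apply]

theorem L0map_one_tmul_D (r : P.toExtension.Ring) :
    h.L0map ((1 : B) ⊗ₜ KaehlerDifferential.D A P.toExtension.Ring r) =
      (1 : B') ⊗ₜ KaehlerDifferential.D A' P'.toExtension.Ring (h.ringHom r) := by
  rw [PresHom.L0map_apply, Algebra.Extension.CotangentSpace.map_tmul, map_one]
  rfl

variable (M' : Type m) [AddCommGroup M'] [Module B' M'] [Module B M'] [IsScalarTower B B' M']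

theorem T2pull_mk (ψ : L2 P' →ₗ[B'] M') :
    h.T2pull M' (Submodule.Quotient.mk ψ) = Submodule.Quotient.mk (h.pull2 M' ψ) := rfl

theorem T1pull_mk (z : cocycles1 P' M') :
    h.T1pull M' (Submodule.Quotient.mk z) = Submodule.Quotient.mk (h.cocycles1Pull M' z) := rfl

theorem T0pull_val (x : T0 P' M') :
    ((h.T0pull M' x : T0 P M') : L0 P →ₗ[B] M') = h.pull0 M' (x : L0 P' →ₗ[B'] M') := rfl

theorem pull2_mkL2 (ψ : L2 P' →ₗ[B'] M') (q : relKer P) :
    h.pull2 M' ψ (mkL2 P q) = ψ (mkL2 P' (h.relKerMap q)) := by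
  rw [PresHom.pull2_apply, L2map_mkL2]

theorem pull1_mkL1 (ψ : L1 P' →ₗ[B'] M') (f : relMod P) :
    h.pull1 M' ψ (mkL1 P f) = ψ (mkL1 P' (h.relModMap f)) := by
  rw [PresHom.pull1_apply, L1map_mkL1]

end Pull

end Groth.Agent.Lib.Helper18.CotTApi
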