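import Mathlib
import Groth.Prelude.Def_CotT

/-!
# Basic facts on the cotangent complex of a presentation (`CotT`)

* `toCot_surjective`, `ker_toCot` : `L₂ → L₁ → I/I² → 0` is exact;
* `exists_factor_toCot` : a 1-cocycle factors through `I/I²`.
-/

set_option autoImplicit false
universe u v w t m

open TensorProduct

namespace Groth.Agent.Lib.Helper18.CotTBasic

open CotT

variable {A : Type u} {B : Type v} {ι : Type w} {σ : Type t}
variable [CommRing A] [CommRing B] [Algebra A B]
variable (P : Algebra.Presentation A B ι σ)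

/-- A linear map killing the kernel of a surjection factors through it. -/
theorem exists_comp_eq_of_ker_le {R : Type*} [CommRing R] {L N M : Type*} [AddCommGroup L] [Module R L]
    [AddCommGroup N] [Module R N] [AddCommGroup M] [Module R M] (p : L →ₗ[R] N)
    (hp : Function.Surjective p) (c : L →ₗ[R] M) (h : LinearMap.ker p ≤ LinearMap.ker c) :
    ∃ φ : N →ₗ[R] M, φ ∘ₗ p = c := by
  refine ⟨(LinearMap.ker p).liftQ c h ∘ₗ (p.quotKerEquivOfSurjective hp).symm.toLinearMap, ?_⟩
  ext x
  have : (p.quotKerEquivOfSurjective hp).symm (p x) = Submodule.Quotient.mk x := by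
    rw [LinearEquiv.symm_apply_eq, LinearMap.quotKerEquivOfSurjective_apply_mk]
  simp only [LinearMap.coe_comp, LinearEquiv.coe_coe, Function.comp_apply, this,
    Submodule.liftQ_apply]

theorem jker_surjective : Function.Surjective (jker P) := by
  rintro ⟨x, hx⟩
  have hx' : x ∈ LinearMap.range (jmap P) := by rw [range_jmap]; exact hx
  obtain ⟨f, rfl⟩ := hx'
  exact ⟨f, rfl⟩

theorem exact_subtype_jker : Function.Exact (relKer P).subtype (jker P) := by
  intro f
  constructor
  · intro hf
    have : jmap P f = 0 := congrArg Subtype.val hf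
    exact ⟨⟨f, this⟩, rfl⟩
  · rintro ⟨q, rfl⟩
    exact Subtype.ext q.2

theorem toCot_eq : toCot P =
    P.toExtension.cotangentEquiv.toLinearMap ∘ₗ (jker P).baseChange B := by
  refine TensorProduct.AlgebraTensorModule.ext fun b f => ?_
  simp [toCot_tmul]

theorem toCot_surjective : Function.Surjective (toCot P) := by
  rw [toCot_eq]
  refine P.toExtension.cotangentEquiv.surjective.comp ?_
  rw [LinearMap.baseChange_eq_ltensor]
  exact LinearMap.lTensor_surjective B (jker_surjective P)

theorem ker_toCot : LinearMap.ker (toCot P) = LinearMap.range (d2 P) := by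
  have hex' := @lTensor_exact P.toExtension.Ring (relKer P) (relMod P) P.toExtension.ker _ _ _ _ _ _ _
      (relKer P).subtype (jker P) B _ _ (exact_subtype_jker P) (jker_surjective P)
  have hex : Function.Exact ((relKer P).subtype.baseChange B) ((jker P).baseChange B) := hex'
  have hr : LinearMap.range (d2 P) = LinearMap.range ((relKer P).subtype.baseChange B) := by
    rw [← d2_comp_mkQ, LinearMap.range_comp, Submodule.range_mkQ, Submodule.map_top]
  rw [hr]
  ext x
  rw [LinearMap.mem_ker, toCot_eq, LinearMap.comp_apply, LinearEquiv.coe_coe,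
    LinearEquiv.map_eq_zero_iff]
  exact hex x

variable {M : Type m} [AddCommGroup M] [Module B M]

/-- A 1-cocycle `c : L₁ → M` (`c ∘ d₂ = 0`) factors through `toCot : L₁ → I/I²`. -/
theorem exists_factor_toCot (c : L1 P →ₗ[B] M) (hc : c ∘ₗ d2 P = 0) :
    ∃ φ : P.toExtension.Cotangent →ₗ[B] M, φ ∘ₗ toCot P = c := by
  apply exists_comp_eq_of_ker_le (toCot P) (toCot_surjective P) c
  rw [ker_toCot]
  rintro _ ⟨y, rfl⟩
  rw [LinearMap.mem_ker, ← LinearMap.comp_apply, hc, LinearMap.zero_apply]

theorem comp_toCot_injective {φ ψ : P.toExtension.Cotangent →ₗ[B] M}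
    (h : φ ∘ₗ toCot P = ψ ∘ₗ toCot P) : φ = ψ :=
  (LinearMap.cancel_right (toCot_surjective P)).1 h

end Groth.Agent.Lib.Helper18.CotTBasic
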