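import Mathlib

/-!
# Koszul relations: if all relations among `r₁, …, rₙ` are trivial then the sequence is regular

For a Noetherian ring `R` and elements `rᵢ` of the Jacobson radical: if every relation
`∑ aᵢ rᵢ = 0` is a combination of the Koszul relations `rᵢ eⱼ - rⱼ eᵢ` (`Triv r`), then
`r₁, …, rₙ` is a weakly regular sequence (`isWeaklyRegular_of_triv`).
-/

set_option autoImplicit false

namespace Groth.Agent.Lib.Helper18.CotTKoszul

open RingTheory.Sequence

variable {R : Type*} [CommRing R]

/-- The Koszul (trivial) relations among a family `r`. -/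
noncomputable def trivS {σ : Type*} (r : σ → R) : Submodule R (σ →₀ R) :=
  Submodule.span R {y | ∃ i j : σ, y = Finsupp.single j (r i) - Finsupp.single i (r j)}

/-- All relations among the `r i` are trivial. -/
def Triv {σ : Type*} (r : σ → R) : Prop :=
  ∀ f : σ →₀ R, Finsupp.linearCombination R r f = 0 → f ∈ trivS r

section General

variable {σ : Type*} (r : σ → R)

theorem single_lc_sub_mem (i : σ) (c : σ →₀ R) :
    Finsupp.single i (Finsupp.linearCombination R r c) - r i • c ∈ trivS r := by
  induction c using Finsupp.induction_linear with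
  | zero => simp
  | add a b ha hb =>
    have h : Finsupp.single i (Finsupp.linearCombination R r (a + b)) - r i • (a + b) =
        (Finsupp.single i (Finsupp.linearCombination R r a) - r i • a) +
        (Finsupp.single i (Finsupp.linearCombination R r b) - r i • b) := by
      rw [map_add, Finsupp.single_add, smul_add]; abel
    rw [h]; exact Submodule.add_mem _ ha hb
  | single j a =>
    have h : Finsupp.single i (Finsupp.linearCombination R r (Finsupp.single j a)) -
        r i • Finsupp.single j a = a • (Finsupp.single i (r j) - Finsupp.single j (r i)) := by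
      simp only [Finsupp.linearCombination_single, smul_sub, Finsupp.smul_single, smul_eq_mul,
        mul_comm (r i) a]
    rw [h]
    exact Submodule.smul_mem _ _ (Submodule.subset_span ⟨j, i, rfl⟩)

theorem lc_smul_sub_mem (a b : σ →₀ R) :
    Finsupp.linearCombination R r a • b - Finsupp.linearCombination R r b • a ∈ trivS r := by
  induction a using Finsupp.induction_linear with
  | zero => simp
  | add a a' ha ha' =>
    have h : Finsupp.linearCombination R r (a + a') • b -
        Finsupp.linearCombination R r b • (a + a') =
        (Finsupp.linearCombination R r a • b - Finsupp.linearCombination R r b • a) +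
        (Finsupp.linearCombination R r a' • b - Finsupp.linearCombination R r b • a') := by
      rw [map_add, add_smul, smul_add]; abel
    rw [h]; exact Submodule.add_mem _ ha ha'
  | single i x =>
    have h : Finsupp.linearCombination R r (Finsupp.single i x) • b -
        Finsupp.linearCombination R r b • Finsupp.single i x =
        (-x) • (Finsupp.single i (Finsupp.linearCombination R r b) - r i • b) := by
      rw [Finsupp.linearCombination_single, neg_smul, smul_sub, Finsupp.smul_single,
        Finsupp.smul_single, smul_smul]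
      simp only [smul_eq_mul]
      rw [mul_comm (Finsupp.linearCombination R r b) x]
      abel
    rw [h]
    exact Submodule.smul_mem _ _ (single_lc_sub_mem r i b)

theorem lc_eq_zero_of_mem_trivS (y : σ →₀ R) (hy : y ∈ trivS r) :
    Finsupp.linearCombination R r y = 0 := by
  induction hy using Submodule.span_induction with
  | mem y hy =>
    obtain ⟨i, j, rfl⟩ := hy
    rw [map_sub, Finsupp.linearCombination_single, Finsupp.linearCombination_single, smul_eq_mul,
      smul_eq_mul, mul_comm, sub_self]
  | zero => exact map_zero _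
  | add a b _ _ ha hb => rw [map_add, ha, hb, add_zero]
  | smul c a _ ha => rw [map_smul, ha, smul_zero]

end General

section Extend

variable {σ τ : Type*} (e : τ → σ) (he : Function.Injective e) (z : σ) (hz : ∀ t, e t ≠ z)
  (hcov : ∀ s, s = z ∨ ∃ t, s = e t) (r : σ → R)

include hz hcov in
theorem apply_mem_of_mem_trivS (y : σ →₀ R) (hy : y ∈ trivS r) :
    y z ∈ Ideal.span (Set.range (r ∘ e)) := by
  classical
  induction hy using Submodule.span_induction with
  | mem y hy =>
    obtain ⟨i, j, rfl⟩ := hy
    rw [Finsupp.sub_apply, Finsupp.single_apply, Finsupp.single_apply]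
    rcases hcov i with rfl | ⟨a, rfl⟩ <;> rcases hcov j with rfl | ⟨b, rfl⟩
    · rw [if_pos rfl, sub_self]; exact Submodule.zero_mem _
    · rw [if_neg (hz b), if_pos rfl, zero_sub]
      exact Submodule.neg_mem _ (Ideal.subset_span ⟨b, rfl⟩)
    · rw [if_pos rfl, if_neg (hz a), sub_zero]
      exact Ideal.subset_span ⟨a, rfl⟩
    · rw [if_neg (hz b), if_neg (hz a), sub_zero]; exact Submodule.zero_mem _
  | zero => rw [Finsupp.zero_apply]; exact Submodule.zero_mem _
  | add a b _ _ ha hb => rw [Finsupp.add_apply]; exact Submodule.add_mem _ ha hb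
  | smul c a _ ha => rw [Finsupp.smul_apply, smul_eq_mul]; exact Ideal.mul_mem_left _ _ ha

include hz hcov in
/-- If all relations are trivial, the last element is regular modulo the others. -/
theorem Triv.regular_last (hT : Triv r) (x : R)
    (hx : r z * x ∈ Ideal.span (Set.range (r ∘ e))) : x ∈ Ideal.span (Set.range (r ∘ e)) := by
  obtain ⟨c, hc⟩ := Finsupp.mem_span_range_iff_exists_finsupp.1 hx
  have hc' : Finsupp.linearCombination R (r ∘ e) c = r z * x := by
    rw [Finsupp.linearCombination_apply]; exact hc
  have hf : Finsupp.linearCombination R r (Finsupp.single z x - c.mapDomain e) = 0 := by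
    rw [map_sub, Finsupp.linearCombination_single, Finsupp.linearCombination_mapDomain, hc',
      smul_eq_mul, mul_comm, sub_self]
  have h1 := apply_mem_of_mem_trivS e z hz hcov r _ (hT _ hf)
  have h2 : (c.mapDomain e) z = 0 :=
    Finsupp.mapDomain_of_notMem_range _ _ (fun ⟨t, ht⟩ => hz t ht)
  rw [Finsupp.sub_apply, Finsupp.single_eq_same, h2, sub_zero] at h1
  exact h1

include he hz hcov in
theorem shape_of_mem_trivS (y : σ →₀ R) (hy : y ∈ trivS r) :
    ∃ t ∈ trivS (r ∘ e), ∃ c : τ →₀ R, y = t.mapDomain e +
      (r z • c.mapDomain e - Finsupp.single z (Finsupp.linearCombination R (r ∘ e) c)) := by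
  induction hy using Submodule.span_induction with
  | mem y hy =>
    obtain ⟨i, j, rfl⟩ := hy
    rcases hcov i with rfl | ⟨a, rfl⟩ <;> rcases hcov j with rfl | ⟨b, rfl⟩
    · exact ⟨0, Submodule.zero_mem _, 0, by simp⟩
    · refine ⟨0, Submodule.zero_mem _, Finsupp.single b 1, ?_⟩
      rw [Finsupp.mapDomain_zero, zero_add, Finsupp.mapDomain_single, Finsupp.smul_single,
        smul_eq_mul, mul_one, Finsupp.linearCombination_single, one_smul, Function.comp_apply]
    · refine ⟨0, Submodule.zero_mem _, Finsupp.single a (-1), ?_⟩
      rw [Finsupp.mapDomain_zero, zero_add, Finsupp.mapDomain_single, Finsupp.smul_single,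
        smul_eq_mul, mul_neg, mul_one, Finsupp.linearCombination_single, neg_smul, one_smul,
        Function.comp_apply, Finsupp.single_neg, Finsupp.single_neg]
      abel
    · refine ⟨Finsupp.single b (r (e a)) - Finsupp.single a (r (e b)),
        Submodule.subset_span ⟨a, b, rfl⟩, 0, ?_⟩
      rw [Finsupp.mapDomain_sub, Finsupp.mapDomain_single, Finsupp.mapDomain_single,
        Finsupp.mapDomain_zero, smul_zero, map_zero, Finsupp.single_zero, sub_zero, add_zero]
  | zero => exact ⟨0, Submodule.zero_mem _, 0, by simp⟩
  | add y y' _ _ hy hy' =>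
    obtain ⟨t, ht, c, rfl⟩ := hy
    obtain ⟨t', ht', c', rfl⟩ := hy'
    refine ⟨t + t', Submodule.add_mem _ ht ht', c + c', ?_⟩
    rw [Finsupp.mapDomain_add, Finsupp.mapDomain_add, smul_add, map_add, Finsupp.single_add]
    abel
  | smul s y _ hy =>
    obtain ⟨t, ht, c, rfl⟩ := hy
    refine ⟨s • t, Submodule.smul_mem _ _ ht, s • c, ?_⟩
    rw [Finsupp.mapDomain_smul, Finsupp.mapDomain_smul, map_smul, smul_add, smul_sub,
      Finsupp.smul_single, smul_comm s (r z)]

include he hz hcov in
/-- If all relations among the `r s` are trivial and the last element lies in the Jacobson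
radical, then all relations among the others are trivial. -/
theorem Triv.init [IsNoetherianRing R] [Finite τ] (hT : Triv r)
    (hzJ : r z ∈ Ideal.jacobson (⊥ : Ideal R)) : Triv (r ∘ e) := by
  classical
  have : Fintype τ := Fintype.ofFinite τ
  have : IsNoetherian R (τ →₀ R) :=
    isNoetherian_of_linearEquiv (Finsupp.linearEquivFunOnFinite R R τ).symm
  have hle : LinearMap.ker (Finsupp.linearCombination R (r ∘ e)) ≤ trivS (r ∘ e) := by
    refine Submodule.le_of_le_smul_of_le_jacobson_bot (I := Ideal.span {r z})
      (IsNoetherian.noetherian _) (Ideal.span_le.2 (Set.singleton_subset_iff.2 hzJ)) ?_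
    intro a' ha'
    have ha0 : Finsupp.linearCombination R (r ∘ e) a' = 0 := ha'
    have ha : Finsupp.linearCombination R r (a'.mapDomain e) = 0 := by
      rw [Finsupp.linearCombination_mapDomain]; exact ha0
    obtain ⟨t, ht, c, hc⟩ := shape_of_mem_trivS e he z hz hcov r _ (hT _ ha)
    have hcz : Finsupp.linearCombination R (r ∘ e) c = 0 := by
      have h1 := DFunLike.congr_fun hc z
      have h2 : ∀ v : τ →₀ R, (v.mapDomain e) z = 0 := fun v =>
        Finsupp.mapDomain_of_notMem_range _ _ (fun ⟨t, ht⟩ => hz t ht)
      rw [Finsupp.add_apply, Finsupp.sub_apply, Finsupp.smul_apply, h2, h2, h2,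
        Finsupp.single_eq_same, smul_zero, zero_add, zero_sub] at h1
      exact neg_eq_zero.1 h1.symm
    have h3 : a'.mapDomain e = (t + r z • c).mapDomain e := by
      rw [hc, hcz, Finsupp.single_zero, sub_zero, Finsupp.mapDomain_add, Finsupp.mapDomain_smul]
    have h4 : a' = t + r z • c := Finsupp.mapDomain_injective he h3
    rw [h4]
    exact Submodule.add_mem_sup ht
      (Submodule.smul_mem_smul (Ideal.mem_span_singleton_self _) hcz)
  intro f hf
  exact hle hf

end Extend

theorem isSMulRegular_quot_of (J : Ideal R) (x : R) (h : ∀ y, x * y ∈ J → y ∈ J) :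
    IsSMulRegular (R ⧸ (J • ⊤ : Submodule R R)) x := by
  have htop : (J • ⊤ : Submodule R R) = J := by
    change J • (⊤ : Ideal R) = J
    rw [Ideal.smul_eq_mul, Ideal.mul_top]
  intro a b hab
  obtain ⟨a, rfl⟩ := Submodule.Quotient.mk_surjective _ a
  obtain ⟨b, rfl⟩ := Submodule.Quotient.mk_surjective _ b
  have hab' : x • (Submodule.Quotient.mk a : R ⧸ (J • ⊤ : Submodule R R)) =
      x • Submodule.Quotient.mk b := hab
  rw [← Submodule.Quotient.mk_smul, ← Submodule.Quotient.mk_smul, Submodule.Quotient.eq, htop,
    ← smul_sub, smul_eq_mul] at hab'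
  rw [Submodule.Quotient.eq, htop]
  exact h _ hab'

theorem ofList_ofFn {n : ℕ} (r : Fin n → R) :
    Ideal.ofList (List.ofFn r) = Ideal.span (Set.range r) := by
  unfold Ideal.ofList
  congr 1
  ext x
  simp [List.mem_ofFn]

/-- **Koszul converse**: in a Noetherian ring, elements of the Jacobson radical all of whose
relations are trivial form a weakly regular sequence. -/
theorem isWeaklyRegular_of_triv [IsNoetherianRing R] :
    ∀ (n : ℕ) (r : Fin n → R), (∀ i, r i ∈ Ideal.jacobson (⊥ : Ideal R)) → Triv r →
      IsWeaklyRegular R (List.ofFn r)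
  | 0, r, _, _ => by
    rw [List.ofFn_zero]
    exact IsWeaklyRegular.nil R R
  | n + 1, r, hJ, hT => by
    have hz : ∀ t : Fin n, Fin.castSucc t ≠ Fin.last n := fun t => (Fin.castSucc_lt_last t).ne
    have hcov : ∀ s : Fin (n + 1), s = Fin.last n ∨ ∃ t : Fin n, s = Fin.castSucc t := by
      intro s
      rcases Fin.eq_castSucc_or_eq_last s with ⟨t, rfl⟩ | rfl
      · exact Or.inr ⟨t, rfl⟩
      · exact Or.inl rfl
    rw [List.ofFn_succ', List.concat_eq_append, isWeaklyRegular_append_iff]
    refine ⟨isWeaklyRegular_of_triv n (fun i => r (Fin.castSucc i)) (fun i => hJ _)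
      (hT.init Fin.castSucc (Fin.castSucc_injective n) (Fin.last n) hz hcov r (hJ _)), ?_⟩
    rw [isWeaklyRegular_singleton_iff]
    apply isSMulRegular_quot_of
    intro y hy
    rw [ofList_ofFn] at hy ⊢
    exact hT.regular_last Fin.castSucc (Fin.last n) hz hcov r y hy

end Groth.Agent.Lib.Helper18.CotTKoszul
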