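import Mathlib
import Groth.Prelude.Def_CotT2
import Groth.Agent.Lib.Helper18.CotTApi
import Groth.Agent.Lib.Helper18.CotTKoszul

/-!
# `T²` and complete intersections

* `mkL2_eq_zero_iff`: the class of a relation in `L₂` vanishes iff the relation is trivial.
* `quotPresFn`: the presentation of a quotient `B = A/(r₁, …, rₙ)` with no variables.
* `triv_of_relKer_le`: if all relations of `quotPresFn` are trivial then `Triv r`.
* `subsingleton_L2`: if `T²(P, L₂(P)) = 0` and the relations have coefficients in the maximal
  ideal, then `L₂(P) = 0`.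
* `exists_minimal_family`: minimal generating families of ideals in local Noetherian rings.
-/

set_option autoImplicit false
universe u v w t m

open TensorProduct

namespace Groth.Agent.Lib.Helper18.CotTCI

open CotT Groth.Agent.Lib.Helper18.CotTApi Groth.Agent.Lib.Helper18.CotTKoszul

section TensorLemma

theorem mem_ker_smul_top_of_one_tmul_eq_zero {R B X : Type*} [CommRing R] [CommRing B]
    [Algebra R B] [AddCommGroup X] [Module R X] (hs : Function.Surjective (algebraMap R B))
    (x : X) (hx : (1 : B) ⊗ₜ[R] x = 0) :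
    x ∈ (RingHom.ker (algebraMap R B)) • (⊤ : Submodule R X) := by
  have hs' : Function.Surjective (Algebra.ofId R B) := hs
  let e : (R ⧸ RingHom.ker (Algebra.ofId R B)) ≃ₐ[R] B :=
    Ideal.quotientKerAlgEquivOfSurjective hs'
  have h1 : (1 : R ⧸ RingHom.ker (Algebra.ofId R B)) ⊗ₜ[R] x =
      (0 : (R ⧸ RingHom.ker (Algebra.ofId R B)) ⊗[R] X) := by
    have h2 := congrArg (TensorProduct.congr e.symm.toLinearEquiv (LinearEquiv.refl R X)) hx
    rw [TensorProduct.congr_tmul, map_zero] at h2
    have h3 : e.symm.toLinearEquiv (1 : B) = 1 := map_one e.symm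
    rw [h3] at h2
    exact h2
  have h3 := congrArg (TensorProduct.quotTensorEquivQuotSMul X (RingHom.ker (Algebra.ofId R B))) h1
  rw [TensorProduct.quotTensorEquivQuotSMul_mk_one_tmul, map_zero,
    Submodule.Quotient.mk_eq_zero] at h3
  exact h3

end TensorLemma

section General

variable {A : Type u} {B : Type v} {ι : Type w} {σ : Type t}
variable [CommRing A] [CommRing B] [Algebra A B]
variable (P : Algebra.Presentation A B ι σ)

theorem ker_smul_mem_trivRel (x : P.toExtension.Ring)
    (hx : algebraMap P.toExtension.Ring B x = 0) (q : relMod P) (hq : q ∈ relKer P) :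
    x • q ∈ trivRel P := by
  have hx' : x ∈ LinearMap.range (jmap P) := by
    rw [range_jmap]; exact hx
  obtain ⟨x', rfl⟩ := hx'
  have hq0 : jmap P q = 0 := hq
  have h1 : jmap P x' • q = jmap P x' • q - jmap P q • x' := by
    rw [hq0, zero_smul, sub_zero]
  rw [h1]
  exact Submodule.subset_span ⟨x', q, rfl⟩

theorem mkL2_eq_zero_iff (q : relKer P) : mkL2 P q = 0 ↔ (q : relMod P) ∈ trivRel P := by
  refine ⟨fun h => ?_, mkL2_eq_zero P q⟩
  rw [mkL2_apply, Submodule.Quotient.mk_eq_zero] at h
  obtain ⟨z, hz⟩ := h
  let π₀ : relKer P →ₗ[P.toExtension.Ring] (relMod P ⧸ trivRel P) :=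
    (Submodule.mkQ (trivRel P)).comp (relKer P).subtype
  let π : relKer P →ₗ[P.toExtension.Ring] LinearMap.range π₀ := π₀.rangeRestrict
  have hπ : ∀ n : relKer P, ((π n : LinearMap.range π₀) : relMod P ⧸ trivRel P) =
      Submodule.Quotient.mk (n : relMod P) := fun _ => rfl
  have hπ0 : ∀ n : relKer P, (n : relMod P) ∈ trivRel P → π n = 0 := by
    intro n hn
    apply Subtype.ext
    rw [hπ, Submodule.coe_zero, Submodule.Quotient.mk_eq_zero]
    exact hn
  have key : ∀ z : B ⊗[P.toExtension.Ring] (trivRelKer P),
      (LinearMap.lTensor B π) (((trivRelKer P).subtype.baseChange B) z) = 0 := by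
    intro z
    induction z using TensorProduct.induction_on with
    | zero => simp
    | add a b ha hb => rw [map_add, map_add, ha, hb, add_zero]
    | tmul b k =>
      rw [LinearMap.baseChange_tmul, LinearMap.lTensor_tmul,
        hπ0 ((trivRelKer P).subtype k) k.2, TensorProduct.tmul_zero]
  have h1 := key z
  rw [hz, LinearMap.lTensor_tmul] at h1
  have h2 := mem_ker_smul_top_of_one_tmul_eq_zero (algebraMap_surjective P) _ h1
  have h3 : (RingHom.ker (algebraMap P.toExtension.Ring B)) •
      (⊤ : Submodule P.toExtension.Ring (LinearMap.range π₀)) = ⊥ := by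
    rw [eq_bot_iff, Submodule.smul_le]
    intro x hx n _
    obtain ⟨n, rfl⟩ := LinearMap.surjective_rangeRestrict π₀ n
    rw [Submodule.mem_bot]
    change x • π n = 0
    rw [← map_smul]
    exact hπ0 _ (ker_smul_mem_trivRel P x hx n n.2)
  rw [h3, Submodule.mem_bot] at h2
  have h4 := congrArg Subtype.val h2
  rw [hπ, Submodule.coe_zero, Submodule.Quotient.mk_eq_zero] at h4
  exact h4

theorem relKer_le_trivRel_of_subsingleton [Subsingleton (L2 P)] : relKer P ≤ trivRel P := by
  intro q hq
  exact (mkL2_eq_zero_iff P ⟨q, hq⟩).1 (Subsingleton.elim _ _)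

/-- If `T²(P, L₂(P)) = 0` and all relations have coefficients in the maximal ideal, then
`L₂(P) = 0`. -/
theorem subsingleton_L2 [Finite σ] [IsLocalRing B] (hT2 : Subsingleton (T2 P (L2 P)))
    (hmin : ∀ q ∈ relKer P, ∀ s, algebraMap P.toExtension.Ring B (q s) ∈
      IsLocalRing.maximalIdeal B) : Subsingleton (L2 P) := by
  have h0 : (Submodule.Quotient.mk (LinearMap.id : L2 P →ₗ[B] L2 P) : T2 P (L2 P)) = 0 :=
    Subsingleton.elim _ _
  obtain ⟨φ, hφ⟩ := (T2_mk_eq_zero_iff P _).1 h0
  have hφ' : ∀ z, φ (d2 P z) = z := fun z => LinearMap.congr_fun hφ z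
  have hsurj : Function.Surjective φ := fun z => ⟨d2 P z, hφ' z⟩
  have : Module.Finite B (L1 P) := Module.Finite.of_basis (L1basis P)
  have : Module.Finite B (L2 P) := Module.Finite.of_surjective φ hsurj
  have hle : (⊤ : Submodule B (L2 P)) ≤ IsLocalRing.maximalIdeal B • ⊤ := by
    intro z _
    obtain ⟨q, rfl⟩ := mkL2_surjective P z
    rw [← hφ' (mkL2 P q), d2_mkL2, apply_mkL1]
    refine Submodule.sum_mem _ fun s _ => ?_
    exact Submodule.smul_mem_smul (hmin _ q.2 s) Submodule.mem_top
  have htop := Submodule.eq_bot_of_le_smul_of_le_jacobson_bot (IsLocalRing.maximalIdeal B)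
    (⊤ : Submodule B (L2 P)) Module.Finite.fg_top hle
    (IsLocalRing.maximalIdeal_le_jacobson ⊥)
  refine ⟨fun a b => ?_⟩
  have ha : a ∈ (⊤ : Submodule B (L2 P)) := Submodule.mem_top
  have hb : b ∈ (⊤ : Submodule B (L2 P)) := Submodule.mem_top
  rw [htop, Submodule.mem_bot] at ha hb
  rw [ha, hb]

end General

section QuotFn

variable {A : Type u} {B : Type v} [CommRing A] [CommRing B] [Algebra A B]
variable (hs : Function.Surjective (algebraMap A B)) {n : ℕ} (r : Fin n → A)
  (hI : RingHom.ker (algebraMap A B) = Ideal.span (Set.range r))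

/-- The presentation of a quotient `B = A/(r₁, …, rₙ)` with no variables and relations `r`. -/
noncomputable def quotPresFn : Algebra.Presentation A B PEmpty.{1} (Fin n) where
  __ := Algebra.Generators.ofSurjectiveAlgebraMap hs
  relation i := MvPolynomial.C (r i)
  span_range_relation_eq_ker := by
    rw [Algebra.Generators.ker_eq_ker_aeval_val]
    apply le_antisymm
    · rw [Ideal.span_le]
      rintro _ ⟨i, rfl⟩
      rw [SetLike.mem_coe, RingHom.mem_ker, MvPolynomial.aeval_C]
      have h1 : r i ∈ RingHom.ker (algebraMap A B) := by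
        rw [hI]; exact Ideal.subset_span ⟨i, rfl⟩
      exact h1
    · intro p hp
      obtain ⟨a, rfl⟩ := MvPolynomial.C_surjective PEmpty p
      rw [RingHom.mem_ker, MvPolynomial.aeval_C] at hp
      have ha : a ∈ Ideal.span (Set.range r) := by rw [← hI]; exact hp
      have hmap : Ideal.map (MvPolynomial.C : A →+* MvPolynomial PEmpty A)
          (Ideal.span (Set.range r)) ≤
          Ideal.span (Set.range fun i : Fin n =>
            (MvPolynomial.C (r i) : MvPolynomial PEmpty A)) := by
        rw [Ideal.map_span, Ideal.span_le]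
        rintro _ ⟨x, ⟨i, rfl⟩, rfl⟩
        exact Ideal.subset_span ⟨i, rfl⟩
      exact hmap (Ideal.mem_map_of_mem _ ha)

/-- constant coefficient, on the ring of the presentation -/
noncomputable def ccQ : (quotPresFn hs r hI).toExtension.Ring →+* A :=
  (MvPolynomial.constantCoeff : MvPolynomial PEmpty.{1} A →+* A)

/-- constants, into the ring of the presentation -/
noncomputable def CQ : A →+* (quotPresFn hs r hI).toExtension.Ring :=
  (MvPolynomial.C : A →+* MvPolynomial PEmpty.{1} A)

theorem ccQ_CQ (a : A) : ccQ hs r hI (CQ hs r hI a) = a :=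
  MvPolynomial.constantCoeff_C _ a

theorem CQ_ccQ (x : (quotPresFn hs r hI).toExtension.Ring) : CQ hs r hI (ccQ hs r hI x) = x := by
  obtain ⟨a, rfl⟩ := MvPolynomial.C_surjective PEmpty.{1} (x : MvPolynomial PEmpty.{1} A)
  exact congrArg MvPolynomial.C (MvPolynomial.constantCoeff_C _ a)

theorem rel_eq (i : Fin n) : rel (quotPresFn hs r hI) i = CQ hs r hI (r i) := rfl

theorem algebraMap_CQ (a : A) :
    algebraMap (quotPresFn hs r hI).toExtension.Ring B (CQ hs r hI a) = algebraMap A B a := by
  rw [algebraMap_toExtension]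
  exact MvPolynomial.aeval_C _ a

/-- `Fin n →₀ R → Fin n →₀ A`, coefficientwise constant coefficient. -/
noncomputable def rho : relMod (quotPresFn hs r hI) →+ (Fin n →₀ A) :=
  Finsupp.mapRange.addMonoidHom (ccQ hs r hI).toAddMonoidHom

theorem rho_apply (g : relMod (quotPresFn hs r hI)) (i : Fin n) :
    rho hs r hI g i = ccQ hs r hI (g i) := rfl

theorem rho_smul (c : (quotPresFn hs r hI).toExtension.Ring)
    (g : relMod (quotPresFn hs r hI)) :
    rho hs r hI (c • g) = ccQ hs r hI c • rho hs r hI g := by
  ext i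
  rw [rho_apply, Finsupp.smul_apply, Finsupp.smul_apply, rho_apply, smul_eq_mul, smul_eq_mul,
    map_mul]

theorem ccQ_jmap (g : relMod (quotPresFn hs r hI)) :
    ccQ hs r hI (jmap (quotPresFn hs r hI) g) =
      Finsupp.linearCombination A r (rho hs r hI g) := by
  induction g using Finsupp.induction_linear with
  | zero => simp
  | add a b ha hb => rw [map_add, map_add, ha, hb, map_add, map_add]
  | single i x =>
    have h1 : rho hs r hI (Finsupp.single i x) = Finsupp.single i (ccQ hs r hI x) := by
      ext j
      rw [rho_apply, Finsupp.single_apply, Finsupp.single_apply]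
      split_ifs
      · rfl
      · exact map_zero _
    rw [jmap_single, h1, Finsupp.linearCombination_single, map_mul, rel_eq, ccQ_CQ, smul_eq_mul]

theorem rho_mem_trivS (y : relMod (quotPresFn hs r hI)) (hy : y ∈ trivRel (quotPresFn hs r hI)) :
    rho hs r hI y ∈ trivS r := by
  induction hy using Submodule.span_induction with
  | mem y hy =>
    obtain ⟨a, b, rfl⟩ := hy
    rw [map_sub, rho_smul, rho_smul, ccQ_jmap, ccQ_jmap]
    exact lc_smul_sub_mem r _ _
  | zero => rw [map_zero]; exact Submodule.zero_mem _
  | add a b _ _ ha hb => rw [map_add]; exact Submodule.add_mem _ ha hb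
  | smul c a _ ha => rw [rho_smul]; exact Submodule.smul_mem _ _ ha

/-- the lift of a relation over `A` -/
noncomputable def liftRel (f : Fin n →₀ A) : relMod (quotPresFn hs r hI) :=
  Finsupp.mapRange.addMonoidHom (CQ hs r hI).toAddMonoidHom f

theorem liftRel_apply (f : Fin n →₀ A) (i : Fin n) :
    liftRel hs r hI f i = CQ hs r hI (f i) := rfl

theorem rho_liftRel (f : Fin n →₀ A) : rho hs r hI (liftRel hs r hI f) = f := by
  ext i
  rw [rho_apply, liftRel_apply, ccQ_CQ]

theorem liftRel_rho (g : relMod (quotPresFn hs r hI)) : liftRel hs r hI (rho hs r hI g) = g := by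
  ext i
  rw [liftRel_apply, rho_apply, CQ_ccQ]

theorem jmap_eq_zero_iff (g : relMod (quotPresFn hs r hI)) :
    jmap (quotPresFn hs r hI) g = 0 ↔ Finsupp.linearCombination A r (rho hs r hI g) = 0 := by
  rw [← ccQ_jmap]
  constructor
  · intro h; rw [h, map_zero]
  · intro h
    rw [← CQ_ccQ hs r hI (jmap (quotPresFn hs r hI) g), h, map_zero]

/-- If all relations of the presentation are trivial, then all relations among the `r i` are. -/
theorem triv_of_relKer_le (h : relKer (quotPresFn hs r hI) ≤ trivRel (quotPresFn hs r hI)) :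
    Triv r := by
  intro f hf
  have h1 : liftRel hs r hI f ∈ relKer (quotPresFn hs r hI) := by
    change jmap (quotPresFn hs r hI) (liftRel hs r hI f) = 0
    rw [jmap_eq_zero_iff, rho_liftRel]
    exact hf
  have h2 := rho_mem_trivS hs r hI _ (h h1)
  rw [rho_liftRel] at h2
  exact h2

/-- Coefficients of relations of a minimal family are non-units. -/
theorem algebraMap_mem_maximalIdeal [IsLocalRing A] [IsLocalRing B]
    (hmin : ∀ f : Fin n →₀ A, Finsupp.linearCombination A r f = 0 →
      ∀ i, f i ∈ IsLocalRing.maximalIdeal A)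
    (q : relMod (quotPresFn hs r hI)) (hq : q ∈ relKer (quotPresFn hs r hI)) (s : Fin n) :
    algebraMap (quotPresFn hs r hI).toExtension.Ring B (q s) ∈ IsLocalRing.maximalIdeal B := by
  have hq0 : jmap (quotPresFn hs r hI) q = 0 := hq
  have h1 := hmin (rho hs r hI q) ((jmap_eq_zero_iff hs r hI q).1 hq0) s
  rw [rho_apply] at h1
  rw [← CQ_ccQ hs r hI (q s), algebraMap_CQ]
  have : IsLocalHom (algebraMap A B) := IsLocalHom.of_surjective _ hs
  exact map_nonunit (algebraMap A B) _ h1

end QuotFn

section Minimal

variable {A : Type u} [CommRing A] [IsLocalRing A] [IsNoetherianRing A]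

theorem exists_minimal_family (I : Ideal A) :
    ∃ (n : ℕ) (r : Fin n → A), Ideal.span (Set.range r) = I ∧
      ∀ f : Fin n →₀ A, Finsupp.linearCombination A r f = 0 →
        ∀ i, f i ∈ IsLocalRing.maximalIdeal A := by
  classical
  have hex : ∃ n : ℕ, ∃ r : Fin n → A, Ideal.span (Set.range r) = I :=
    Submodule.fg_iff_exists_fin_generating_family.1 (IsNoetherian.noetherian I)
  obtain ⟨r, hr⟩ := Nat.find_spec hex
  refine ⟨Nat.find hex, r, hr, ?_⟩
  intro f hf i
  by_contra hfi
  have hu : IsUnit (f i) := by
    by_contra hnu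
    exact hfi ((IsLocalRing.mem_maximalIdeal _).2 hnu)
  -- the family without `i` still generates
  obtain ⟨m, hm⟩ : ∃ m, Nat.find hex = m + 1 :=
    Nat.exists_eq_succ_of_ne_zero (fun h0 => by
      have : Fin (Nat.find hex) := i
      rw [h0] at this
      exact this.elim0)
  have hJ : f i * r i ∈ Ideal.span (r '' {j | j ≠ i}) := by
    have h1 : Finsupp.linearCombination A r f =
        f i * r i + Finsupp.linearCombination A r (f.erase i) := by
      conv_lhs => rw [← Finsupp.single_add_erase i f]
      rw [map_add, Finsupp.linearCombination_single, smul_eq_mul]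
    have h2 : Finsupp.linearCombination A r (f.erase i) ∈ Ideal.span (r '' {j | j ≠ i}) := by
      refine (Finsupp.mem_span_image_iff_linearCombination A).2 ⟨f.erase i, ?_, rfl⟩
      rw [Finsupp.mem_supported, Finsupp.support_erase]
      intro j hj
      exact Finset.ne_of_mem_erase hj
    have h3 : f i * r i = - Finsupp.linearCombination A r (f.erase i) := by
      rw [hf] at h1
      exact eq_neg_of_add_eq_zero_left h1.symm
    rw [h3]
    exact Submodule.neg_mem _ h2
  have hri : r i ∈ Ideal.span (r '' {j | j ≠ i}) := by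
    obtain ⟨u, hu'⟩ := hu
    have h1 : r i = (↑u⁻¹ : A) * (f i * r i) := by
      rw [← hu', ← mul_assoc, Units.inv_mul, one_mul]
    rw [h1]
    exact Ideal.mul_mem_left _ _ hJ
  have hspan : Ideal.span (r '' {j | j ≠ i}) = I := by
    apply le_antisymm
    · exact (Ideal.span_mono (Set.image_subset_range _ _)).trans hr.le
    · refine hr.ge.trans (Ideal.span_le.2 ?_)
      rintro _ ⟨j, rfl⟩
      by_cases hji : j = i
      · rw [hji]; exact hri
      · exact Ideal.subset_span ⟨j, hji, rfl⟩
  -- reindex by `Fin m`
  have hlt : m < Nat.find hex := by omega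
  refine Nat.find_min hex hlt ?_
  let i' : Fin (m + 1) := Fin.cast hm i
  let r' : Fin (m + 1) → A := fun j => r (Fin.cast hm.symm j)
  refine ⟨fun j => r' (i'.succAbove j), ?_⟩
  have h1 : Set.range (fun j => r' (i'.succAbove j)) = r '' {j | j ≠ i} := by
    ext x
    constructor
    · rintro ⟨j, rfl⟩
      refine ⟨Fin.cast hm.symm (i'.succAbove j), ?_, rfl⟩
      intro h
      have h2 : i'.succAbove j = i' := by
        apply Fin.ext
        have := congrArg Fin.val h
        simpa [i'] using this
      exact Fin.succAbove_ne i' j h2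
    · rintro ⟨j, hj, rfl⟩
      have hne : Fin.cast hm j ≠ i' := by
        intro h
        apply hj
        apply Fin.ext
        have := congrArg Fin.val h
        simpa [i'] using this
      obtain ⟨j', hj'⟩ := Fin.exists_succAbove_eq hne
      refine ⟨j', ?_⟩
      change r (Fin.cast hm.symm (i'.succAbove j')) = r j
      rw [hj']
      congr 1
  rw [h1]
  exact hspan

end Minimal

end Groth.Agent.Lib.Helper18.CotTCI
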