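import Mathlib
import Groth.Prelude.Def_CotT2
import Groth.Agent.Lib.Helper18.CotTApi

/-!
# Composition of morphisms of presentations and functoriality of `T⁰, T¹, T²`
-/

set_option autoImplicit false
universe u v w t u' v' w' t' u'' v'' w'' t'' m

open TensorProduct

namespace Groth.Agent.Lib.Helper18.CotTComp

open CotT Groth.Agent.Lib.Helper18.CotTApi

section Exists

variable {A : Type u} {B : Type v} {ι : Type w} {σ : Type t}
variable {A' : Type u'} {B' : Type v'} {ι' : Type w'} {σ' : Type t'}
variable [CommRing A] [CommRing B] [Algebra A B] [CommRing A'] [CommRing B'] [Algebra A' B']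
variable [Algebra A A'] [Algebra B B'] [Algebra A B'] [IsScalarTower A A' B'] [IsScalarTower A B B']
variable (P : Algebra.Presentation A B ι σ) (P' : Algebra.Presentation A' B' ι' σ')

theorem exists_relVal (hom : Algebra.Generators.Hom P.toGenerators P'.toGenerators) (s : σ) :
    ∃ f : relMod P', jmap P' f = hom.toExtensionHom.toRingHom (rel P s) := by
  have hmem : hom.toExtensionHom.toRingHom (rel P s) ∈ LinearMap.range (jmap P') := by
    rw [range_jmap]
    refine RingHom.mem_ker.2 ?_
    have h1 := hom.toExtensionHom.algebraMap_toRingHom (rel P s)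
    rw [algebraMap_rel, map_zero] at h1
    exact h1
  exact hmem

/-- A morphism of presentations with prescribed images of the variables. -/
noncomputable def ofHom (hom : Algebra.Generators.Hom P.toGenerators P'.toGenerators) :
    PresHom P P' where
  hom := hom
  relVal s := Classical.choose (exists_relVal P P' hom s)
  jmap_relVal s := Classical.choose_spec (exists_relVal P P' hom s)

theorem nonempty_presHom : Nonempty (PresHom P P') :=
  ⟨ofHom P P' (Algebra.Generators.defaultHom _ _)⟩

end Exists

section Id

variable {A : Type u} {B : Type v} {ι : Type w} {σ : Type t}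
variable [CommRing A] [CommRing B] [Algebra A B]
variable (P : Algebra.Presentation A B ι σ)

theorem id_ringHom (x : P.toExtension.Ring) : (PresHom.id P).ringHom x = x := by
  change (Algebra.Generators.Hom.id P.toGenerators).toAlgHom x = x
  rw [Algebra.Generators.Hom.toAlgHom_id]
  rfl

theorem id_relModMap (f : relMod P) : (PresHom.id P).relModMap f = f := by
  induction f using Finsupp.induction_linear with
  | zero => simp
  | add f g hf hg => rw [map_add, hf, hg]
  | single s r =>
    rw [PresHom.relModMap_single, id_ringHom]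
    change r • Finsupp.single s (1 : P.toExtension.Ring) = _
    rw [Finsupp.smul_single, smul_eq_mul, mul_one]

theorem id_relKerMap (q : relKer P) : (PresHom.id P).relKerMap q = q :=
  Subtype.ext (id_relModMap P q)

theorem id_L1map (x : L1 P) : (PresHom.id P).L1map x = x := by
  obtain ⟨f, rfl⟩ := mkL1_surjective P x
  rw [L1map_mkL1, id_relModMap]

theorem id_L2map (x : L2 P) : (PresHom.id P).L2map x = x := by
  obtain ⟨q, rfl⟩ := mkL2_surjective P x
  rw [L2map_mkL2, id_relKerMap]

theorem id_L0map (x : L0 P) : (PresHom.id P).L0map x = x := by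
  obtain ⟨ω, rfl⟩ := exists_one_tmul P x
  have hω : ω ∈ Submodule.span P.toExtension.Ring
      (Set.range (KaehlerDifferential.D A P.toExtension.Ring)) := by
    rw [KaehlerDifferential.span_range_derivation]
    trivial
  induction hω using Submodule.span_induction with
  | mem ω hω =>
    obtain ⟨r, rfl⟩ := hω
    rw [L0map_one_tmul_D, id_ringHom]
  | zero => rw [TensorProduct.tmul_zero, map_zero]
  | add ω ω' _ _ h1 h2 => rw [TensorProduct.tmul_add, map_add, h1, h2]
  | smul r ω _ h1 =>
    rw [one_tmul_smul, LinearMap.map_smulₛₗ, h1]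
    rfl

variable (M : Type m) [AddCommGroup M] [Module B M]

theorem id_T2pull (x : T2 P M) : (PresHom.id P).T2pull M x = x := by
  obtain ⟨ψ, rfl⟩ := Submodule.Quotient.mk_surjective _ x
  rw [T2pull_mk]
  congr 1
  refine LinearMap.ext fun z => ?_
  rw [PresHom.pull2_apply, id_L2map]

theorem id_T1pull (x : T1 P M) : (PresHom.id P).T1pull M x = x := by
  obtain ⟨z, rfl⟩ := Submodule.Quotient.mk_surjective _ x
  rw [T1pull_mk]
  congr 1
  refine Subtype.ext (LinearMap.ext fun y => ?_)
  rw [PresHom.cocycles1Pull_coe, PresHom.pull1_apply, id_L1map]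

theorem id_T0pull (x : T0 P M) : (PresHom.id P).T0pull M x = x := by
  refine Subtype.ext (LinearMap.ext fun y => ?_)
  rw [T0pull_val, PresHom.pull0_apply, id_L0map]

end Id

section Func

variable {A : Type u} {B : Type v} {ι : Type w} {σ : Type t}
variable {A' : Type u'} {B' : Type v'} {ι' : Type w'} {σ' : Type t'}
variable {A'' : Type u''} {B'' : Type v''} {ι'' : Type w''} {σ'' : Type t''}
variable [CommRing A] [CommRing B] [Algebra A B] [CommRing A'] [CommRing B'] [Algebra A' B']
variable [CommRing A''] [CommRing B''] [Algebra A'' B'']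
variable [Algebra A A'] [Algebra B B'] [Algebra A B'] [IsScalarTower A A' B'] [IsScalarTower A B B']
variable [Algebra A' A''] [Algebra B' B''] [Algebra A' B''] [IsScalarTower A' A'' B'']
  [IsScalarTower A' B' B'']
variable [Algebra A A''] [Algebra B B''] [Algebra A B''] [IsScalarTower A A'' B'']
  [IsScalarTower A B B'']
variable {P : Algebra.Presentation A B ι σ} {P' : Algebra.Presentation A' B' ι' σ'}
  {P'' : Algebra.Presentation A'' B'' ι'' σ''}

/-- `l` is a composite of `h` and `k`: the ring maps compose and the lifts of relations compose. -/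
structure IsComp (h : PresHom P P') (k : PresHom P' P'') (l : PresHom P P'') : Prop where
  ring : ∀ x, l.ringHom x = k.ringHom (h.ringHom x)
  rel : ∀ s, l.relVal s = k.relModMap (h.relVal s)

variable {h : PresHom P P'} {k : PresHom P' P''} {l : PresHom P P''} (hc : IsComp h k l)

include hc

theorem IsComp.relModMap (f : relMod P) : l.relModMap f = k.relModMap (h.relModMap f) := by
  induction f using Finsupp.induction_linear with
  | zero => simp
  | add f g hf hg => rw [map_add, map_add, map_add, hf, hg]
  | single s r =>
    rw [PresHom.relModMap_single, PresHom.relModMap_single, LinearMap.map_smulₛₗ, hc.ring, hc.rel]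

theorem IsComp.relKerMap (q : relKer P) : l.relKerMap q = k.relKerMap (h.relKerMap q) :=
  Subtype.ext (hc.relModMap q)

theorem IsComp.L1map (x : L1 P) : l.L1map x = k.L1map (h.L1map x) := by
  obtain ⟨f, rfl⟩ := mkL1_surjective P x
  rw [L1map_mkL1, L1map_mkL1, L1map_mkL1, hc.relModMap]

theorem IsComp.L2map (x : L2 P) : l.L2map x = k.L2map (h.L2map x) := by
  obtain ⟨q, rfl⟩ := mkL2_surjective P x
  rw [L2map_mkL2, L2map_mkL2, L2map_mkL2, hc.relKerMap]

theorem IsComp.algebraMap (b : B) :
    algebraMap B B'' b = algebraMap B' B'' (algebraMap B B' b) := by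
  obtain ⟨r, rfl⟩ := algebraMap_surjective P b
  rw [← l.algebraMap_ringHom, hc.ring, k.algebraMap_ringHom, h.algebraMap_ringHom]

theorem IsComp.L0map (x : L0 P) : l.L0map x = k.L0map (h.L0map x) := by
  obtain ⟨ω, rfl⟩ := exists_one_tmul P x
  have hω : ω ∈ Submodule.span P.toExtension.Ring
      (Set.range (KaehlerDifferential.D A P.toExtension.Ring)) := by
    rw [KaehlerDifferential.span_range_derivation]
    trivial
  induction hω using Submodule.span_induction with
  | mem ω hω =>
    obtain ⟨r, rfl⟩ := hω
    rw [L0map_one_tmul_D, L0map_one_tmul_D, L0map_one_tmul_D, hc.ring]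
  | zero => rw [TensorProduct.tmul_zero, map_zero, map_zero, map_zero]
  | add ω ω' _ _ h1 h2 => rw [TensorProduct.tmul_add, map_add, map_add, map_add, h1, h2]
  | smul r ω _ h1 =>
    rw [one_tmul_smul, LinearMap.map_smulₛₗ, LinearMap.map_smulₛₗ, LinearMap.map_smulₛₗ, h1,
      hc.algebraMap]

variable (M : Type m) [AddCommGroup M] [Module B'' M] [Module B' M] [Module B M]
  [IsScalarTower B' B'' M] [IsScalarTower B B'' M] [IsScalarTower B B' M]

theorem IsComp.T2pull (x : T2 P'' M) : l.T2pull M x = h.T2pull M (k.T2pull M x) := by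
  obtain ⟨ψ, rfl⟩ := Submodule.Quotient.mk_surjective _ x
  rw [T2pull_mk, T2pull_mk, T2pull_mk]
  congr 1
  refine LinearMap.ext fun z => ?_
  rw [PresHom.pull2_apply, PresHom.pull2_apply, PresHom.pull2_apply, hc.L2map]

theorem IsComp.T1pull (x : T1 P'' M) : l.T1pull M x = h.T1pull M (k.T1pull M x) := by
  obtain ⟨z, rfl⟩ := Submodule.Quotient.mk_surjective _ x
  rw [T1pull_mk, T1pull_mk, T1pull_mk]
  congr 1
  refine Subtype.ext (LinearMap.ext fun y => ?_)
  rw [PresHom.cocycles1Pull_coe, PresHom.cocycles1Pull_coe, PresHom.pull1_apply,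
    PresHom.pull1_apply, PresHom.cocycles1Pull_coe, PresHom.pull1_apply, hc.L1map]

theorem IsComp.T0pull (x : T0 P'' M) : l.T0pull M x = h.T0pull M (k.T0pull M x) := by
  refine Subtype.ext (LinearMap.ext fun y => ?_)
  rw [T0pull_val, T0pull_val, PresHom.pull0_apply, PresHom.pull0_apply, T0pull_val,
    PresHom.pull0_apply, hc.L0map]

end Func

section Comp

variable {A : Type u} {B : Type v} {ι : Type w} {σ : Type t}
variable {A' : Type u'} {B' : Type v'} {ι' : Type w'} {σ' : Type t'}
variable {A'' : Type u''} {B'' : Type v''} {ι'' : Type w''} {σ'' : Type t''}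
variable [CommRing A] [CommRing B] [Algebra A B] [CommRing A'] [CommRing B'] [Algebra A' B']
variable [CommRing A''] [CommRing B''] [Algebra A'' B'']
variable [Algebra A A'] [Algebra B B'] [Algebra A B'] [IsScalarTower A A' B'] [IsScalarTower A B B']
variable [Algebra A' A''] [Algebra B' B''] [Algebra A' B''] [IsScalarTower A' A'' B'']
  [IsScalarTower A' B' B'']
variable [Algebra A A''] [Algebra B B''] [Algebra A B''] [IsScalarTower A A'' B'']
  [IsScalarTower A B B'']
variable [IsScalarTower A A' A''] [IsScalarTower B B' B'']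
variable {P : Algebra.Presentation A B ι σ} {P' : Algebra.Presentation A' B' ι' σ'}
  {P'' : Algebra.Presentation A'' B'' ι'' σ''}

theorem comp_ringHom (k : PresHom P' P'') (h : PresHom P P') (x : P.toExtension.Ring) :
    (k.hom.comp h.hom).toExtensionHom.toRingHom x = k.ringHom (h.ringHom x) :=
  Algebra.Generators.Hom.toAlgHom_comp_apply _ _ _ h.hom k.hom x

/-- Composition of morphisms of presentations. -/
noncomputable def comp (k : PresHom P' P'') (h : PresHom P P') : PresHom P P'' where
  hom := k.hom.comp h.hom
  relVal s := k.relModMap (h.relVal s)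
  jmap_relVal s := by
    rw [PresHom.jmap_relModMap, h.jmap_relVal, comp_ringHom]

theorem isComp_comp (k : PresHom P' P'') (h : PresHom P P') : IsComp h k (comp k h) where
  ring x := comp_ringHom k h x
  rel _ := rfl

end Comp

end Groth.Agent.Lib.Helper18.CotTComp
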