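import Mathlib
import Groth.Prelude.Def_CotT2
import Groth.Agent.Lib.Helper18.CotTApi

/-!
# Two morphisms of presentations over the same square induce the same maps on `T⁰, T¹, T²`

The key device: `N = F'/F₀'` (free module on the relations modulo the trivial relations) is a
non-unital commutative ring for `n * m = j(n) • m`, and the two ring maps `τ, τ' : R → R'` differ by
a "biderivation" `c : R → N` obtained from a ring homomorphism `R → Unitization R' N`.
-/

set_option autoImplicit false
universe u v w t u' v' w' t' m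

open TensorProduct

namespace Groth.Agent.Lib.Helper18.CotTUniq

open CotT Groth.Agent.Lib.Helper18.CotTApi

section TQ

variable {A : Type u} {B : Type v} {ι : Type w} {σ : Type t}
variable [CommRing A] [CommRing B] [Algebra A B]
variable (P : Algebra.Presentation A B ι σ)

/-- `F ⧸ F₀`: the free module on the relations modulo the trivial relations. -/
def TQ : Type (max t w u) := relMod P ⧸ trivRel P

noncomputable instance : AddCommGroup (TQ P) :=
  inferInstanceAs (AddCommGroup (relMod P ⧸ trivRel P))

noncomputable instance : Module P.toExtension.Ring (TQ P) :=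
  inferInstanceAs (Module P.toExtension.Ring (relMod P ⧸ trivRel P))

/-- The quotient map `F → F/F₀`. -/
noncomputable def TQ.mk : relMod P →ₗ[P.toExtension.Ring] TQ P := (trivRel P).mkQ

/-- `j : F/F₀ → R`. -/
noncomputable def TQ.j : TQ P →ₗ[P.toExtension.Ring] P.toExtension.Ring :=
  (trivRel P).liftQ (jmap P) (trivRel_le_relKer P)

theorem TQ.j_mk (f : relMod P) : TQ.j P (TQ.mk P f) = jmap P f := rfl

theorem TQ.mk_surjective : Function.Surjective (TQ.mk P) := Submodule.mkQ_surjective _

theorem TQ.mk_eq_zero_iff (f : relMod P) : TQ.mk P f = 0 ↔ f ∈ trivRel P :=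
  Submodule.Quotient.mk_eq_zero _

theorem TQ.symm (n m : TQ P) : TQ.j P n • m = TQ.j P m • n := by
  obtain ⟨a, rfl⟩ := TQ.mk_surjective P n
  obtain ⟨b, rfl⟩ := TQ.mk_surjective P m
  rw [TQ.j_mk, TQ.j_mk, ← map_smul, ← map_smul, ← sub_eq_zero, ← map_sub, TQ.mk_eq_zero_iff]
  exact Submodule.subset_span ⟨a, b, rfl⟩

/-- A set-theoretic section of `F → F/F₀`. -/
noncomputable def TQ.rep (n : TQ P) : relMod P := Function.surjInv (TQ.mk_surjective P) n

theorem TQ.mk_rep (n : TQ P) : TQ.mk P (TQ.rep P n) = n :=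
  Function.surjInv_eq (TQ.mk_surjective P) n

theorem TQ.jmap_rep (n : TQ P) : jmap P (TQ.rep P n) = TQ.j P n := by
  rw [← TQ.j_mk, TQ.mk_rep]

noncomputable instance : Mul (TQ P) := ⟨fun n m => TQ.j P n • m⟩

theorem TQ.mul_def (n m : TQ P) : n * m = TQ.j P n • m := rfl

noncomputable instance : NonUnitalCommRing (TQ P) :=
  { (inferInstance : AddCommGroup (TQ P)) with
    mul := fun n m => TQ.j P n • m
    left_distrib := fun a b c => smul_add _ _ _
    right_distrib := fun a b c => by
      change TQ.j P (a + b) • c = TQ.j P a • c + TQ.j P b • c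
      rw [map_add, add_smul]
    zero_mul := fun a => by
      change TQ.j P 0 • a = 0
      rw [map_zero, zero_smul]
    mul_zero := fun a => smul_zero _
    mul_assoc := fun a b c => by
      change TQ.j P (TQ.j P a • b) • c = TQ.j P a • (TQ.j P b • c)
      rw [map_smul, smul_eq_mul, mul_smul]
    mul_comm := fun a b => TQ.symm P a b }

instance : IsScalarTower P.toExtension.Ring (TQ P) (TQ P) :=
  ⟨fun r n m => by
    change TQ.j P (r • n) • m = r • (TQ.j P n • m)
    rw [map_smul, smul_eq_mul, mul_smul]⟩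

instance : SMulCommClass P.toExtension.Ring (TQ P) (TQ P) :=
  ⟨fun r n m => by
    change r • (TQ.j P n • m) = TQ.j P n • (r • m)
    rw [smul_comm]⟩

/-- The ring homomorphism `(a, n) ↦ a + j n` from the unitization of `F/F₀` to `R`. -/
noncomputable def sumHom : Unitization P.toExtension.Ring (TQ P) →+* P.toExtension.Ring where
  toFun x := x.fst + TQ.j P x.snd
  map_one' := by simp
  map_mul' x y := by
    rw [Unitization.fst_mul, Unitization.snd_mul, map_add, map_add, map_smul, map_smul,
      TQ.mul_def, map_smul]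
    simp only [smul_eq_mul]
    ring
  map_zero' := by simp
  map_add' x y := by
    rw [Unitization.fst_add, Unitization.snd_add, map_add]
    ring

theorem sumHom_apply (x : Unitization P.toExtension.Ring (TQ P)) :
    sumHom P x = x.fst + TQ.j P x.snd := rfl

/-- `f ↦ 1 ⊗ f` as a semilinear map. -/
noncomputable def mkL1ₛₗ : relMod P →ₛₗ[algebraMap P.toExtension.Ring B] L1 P where
  toFun := mkL1 P
  map_add' := map_add _
  map_smul' := mkL1_smul P

theorem mkL1ₛₗ_apply (f : relMod P) : mkL1ₛₗ P f = mkL1 P f := rfl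

theorem mkL1_eq_zero_of_mem (y : relMod P) (hy : y ∈ trivRel P) : mkL1 P y = 0 :=
  one_tmul_eq_zero_of_mem_trivRel P y hy

end TQ

section Homotopy

variable {A : Type u} {B : Type v} {ι : Type w} {σ : Type t}
variable {A' : Type u'} {B' : Type v'} {ι' : Type w'} {σ' : Type t'}
variable [CommRing A] [CommRing B] [Algebra A B] [CommRing A'] [CommRing B'] [Algebra A' B']
variable [Algebra A A'] [Algebra B B'] [Algebra A B'] [IsScalarTower A A' B'] [IsScalarTower A B B']
variable {P : Algebra.Presentation A B ι σ} {P' : Algebra.Presentation A' B' ι' σ'}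
variable (f g : PresHom P P')

theorem sub_mem_range (x : P.toExtension.Ring) :
    f.ringHom x - g.ringHom x ∈ LinearMap.range (jmap P') := by
  rw [range_jmap]
  refine RingHom.mem_ker.2 ?_
  rw [map_sub, f.algebraMap_ringHom, g.algebraMap_ringHom, sub_self]

/-- A lift to `F'` of `τ(x_i) - τ'(x_i)`. -/
noncomputable def liftVar (i : ι) : relMod P' :=
  Classical.choose (sub_mem_range f g (MvPolynomial.X i : MvPolynomial ι A))

theorem jmap_liftVar (i : ι) :
    jmap P' (liftVar f g i) =
      f.ringHom (MvPolynomial.X i : MvPolynomial ι A) -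
        g.ringHom (MvPolynomial.X i : MvPolynomial ι A) :=
  Classical.choose_spec (sub_mem_range f g (MvPolynomial.X i : MvPolynomial ι A))

theorem ringHom_C (h : PresHom P P') (a : A) :
    h.ringHom (MvPolynomial.C a : MvPolynomial ι A) =
      algebraMap A' P'.toExtension.Ring (algebraMap A A' a) :=
  h.hom.toExtensionHom.toRingHom_algebraMap a

/-- Bridge: ring homomorphisms out of `P.toExtension.Ring` agree if they agree on constants and
variables. -/
theorem ringHom_ext' {S : Type*} [Semiring S] {φ ψ : P.toExtension.Ring →+* S}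
    (hC : ∀ a : A, φ (MvPolynomial.C a : MvPolynomial ι A) = ψ (MvPolynomial.C a : MvPolynomial ι A))
    (hX : ∀ i : ι, φ (MvPolynomial.X i : MvPolynomial ι A) = ψ (MvPolynomial.X i : MvPolynomial ι A)) :
    φ = ψ :=
  MvPolynomial.ringHom_ext (f := φ) (g := ψ) hC hX

/-- Bridge: induction on `P.toExtension.Ring`. -/
theorem ring_induction {motive : P.toExtension.Ring → Prop} (x : P.toExtension.Ring)
    (hC : ∀ a : A, motive (MvPolynomial.C a : MvPolynomial ι A))
    (hadd : ∀ p q : P.toExtension.Ring, motive p → motive q → motive (p + q))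
    (hmulX : ∀ (p : P.toExtension.Ring) (i : ι), motive p →
      motive (p * (show P.toExtension.Ring from (MvPolynomial.X i : MvPolynomial ι A)))) : motive x :=
  MvPolynomial.induction_on (motive := motive) x hC hadd hmulX

/-- The ring homomorphism `R → Unitization R' (F'/F₀')` with components `τ'` and the
biderivation `c` (on the polynomial ring). -/
noncomputable def PhiMv : MvPolynomial ι A →+* Unitization P'.toExtension.Ring (TQ P') :=
  MvPolynomial.eval₂Hom
    ((Unitization.inlRingHom P'.toExtension.Ring (TQ P')).comp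
      ((g.ringHom : MvPolynomial ι A →+* P'.toExtension.Ring).comp MvPolynomial.C))
    (fun i => Unitization.inl (g.ringHom (MvPolynomial.X i : MvPolynomial ι A)) +
      ((TQ.mk P' (liftVar f g i) : TQ P') : Unitization P'.toExtension.Ring (TQ P')))

/-- The same ring homomorphism with source `P.toExtension.Ring`. -/
noncomputable def Phi : P.toExtension.Ring →+* Unitization P'.toExtension.Ring (TQ P') :=
  PhiMv f g

theorem Phi_C (a : A) : Phi f g (MvPolynomial.C a : MvPolynomial ι A) =
    Unitization.inl (g.ringHom (MvPolynomial.C a : MvPolynomial ι A)) :=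
  MvPolynomial.eval₂Hom_C _ _ a

theorem Phi_X (i : ι) : Phi f g (MvPolynomial.X i : MvPolynomial ι A) =
    Unitization.inl (g.ringHom (MvPolynomial.X i : MvPolynomial ι A)) +
      ((TQ.mk P' (liftVar f g i) : TQ P') : Unitization P'.toExtension.Ring (TQ P')) :=
  MvPolynomial.eval₂Hom_X' _ _ i

theorem fst_Phi (x : P.toExtension.Ring) : (Phi f g x).fst = g.ringHom x := by
  have h : ((Unitization.fstHom P'.toExtension.Ring (TQ P')).toRingHom.comp (Phi f g)) =
      g.ringHom := by
    apply ringHom_ext'
    · intro a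
      rw [RingHom.comp_apply, Phi_C]
      rfl
    · intro i
      rw [RingHom.comp_apply, Phi_X]
      change (Unitization.inl _ + _ : Unitization P'.toExtension.Ring (TQ P')).fst = _
      rw [Unitization.fst_add, Unitization.fst_inl, Unitization.fst_inr, add_zero]
  exact congrArg (fun φ => φ x) h

theorem sum_Phi (x : P.toExtension.Ring) :
    (Phi f g x).fst + TQ.j P' (Phi f g x).snd = f.ringHom x := by
  have h : ((sumHom P').comp (Phi f g)) = f.ringHom := by
    apply ringHom_ext'
    · intro a
      rw [RingHom.comp_apply, Phi_C, sumHom_apply, Unitization.fst_inl, Unitization.snd_inl,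
        map_zero, add_zero]
      exact (ringHom_C g a).trans (ringHom_C f a).symm
    · intro i
      rw [RingHom.comp_apply, Phi_X, sumHom_apply, Unitization.fst_add, Unitization.fst_inl,
        Unitization.fst_inr, Unitization.snd_add, Unitization.snd_inl, Unitization.snd_inr,
        add_zero, zero_add, TQ.j_mk, jmap_liftVar]
      exact add_sub_cancel _ _
  exact congrArg (fun φ => φ x) h

/-- The biderivation `c : R → F'/F₀'`. -/
noncomputable def cc (x : P.toExtension.Ring) : TQ P' := (Phi f g x).snd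

theorem j_cc (x : P.toExtension.Ring) : TQ.j P' (cc f g x) = f.ringHom x - g.ringHom x := by
  have h := sum_Phi f g x
  rw [fst_Phi] at h
  rw [← h]
  exact (add_sub_cancel_left _ _).symm

theorem cc_zero : cc f g 0 = 0 := by
  change (Phi f g 0).snd = 0
  rw [map_zero, Unitization.snd_zero]

theorem cc_add (x y : P.toExtension.Ring) : cc f g (x + y) = cc f g x + cc f g y := by
  change (Phi f g (x + y)).snd = (Phi f g x).snd + (Phi f g y).snd
  rw [map_add, Unitization.snd_add]

theorem cc_mul (x y : P.toExtension.Ring) :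
    cc f g (x * y) = g.ringHom x • cc f g y + g.ringHom y • cc f g x +
      TQ.j P' (cc f g x) • cc f g y := by
  change (Phi f g (x * y)).snd = _
  rw [map_mul, Unitization.snd_mul, fst_Phi, fst_Phi, TQ.mul_def]
  rfl

theorem cc_C (a : A) : cc f g (MvPolynomial.C a : MvPolynomial ι A) = 0 := by
  change (Phi f g (MvPolynomial.C a : MvPolynomial ι A)).snd = 0
  rw [Phi_C, Unitization.snd_inl]

theorem cc_X (i : ι) : cc f g (MvPolynomial.X i : MvPolynomial ι A) = TQ.mk P' (liftVar f g i) := by
  change (Phi f g (MvPolynomial.X i : MvPolynomial ι A)).snd = _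
  rw [Phi_X, Unitization.snd_add, Unitization.snd_inl, Unitization.snd_inr, zero_add]

/-- `c` as an additive map. -/
noncomputable def ccHom : P.toExtension.Ring →+ TQ P' where
  toFun := cc f g
  map_zero' := cc_zero f g
  map_add' := cc_add f g

/-- `w_s = [relVal s] - [relVal' s] - c(r_s)`. -/
noncomputable def ww (s : σ) : TQ P' :=
  TQ.mk P' (f.relVal s) - TQ.mk P' (g.relVal s) - cc f g (rel P s)

theorem j_ww (s : σ) : TQ.j P' (ww f g s) = 0 := by
  rw [ww, map_sub, map_sub, TQ.j_mk, TQ.j_mk, j_cc, f.jmap_relVal, g.jmap_relVal, sub_self]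

theorem key_single (s : σ) (r : P.toExtension.Ring) :
    f.ringHom r • TQ.mk P' (f.relVal s) - g.ringHom r • TQ.mk P' (g.relVal s) -
      f.ringHom r • ww f g s = cc f g (r * rel P s) := by
  have h1 : f.ringHom r = g.ringHom r + TQ.j P' (cc f g r) := by
    rw [j_cc]; ring
  have h2 : TQ.j P' (cc f g r) • TQ.mk P' (g.relVal s) = g.ringHom (rel P s) • cc f g r := by
    rw [TQ.symm, TQ.j_mk, g.jmap_relVal]
  rw [cc_mul, h1, ww]
  have h3 : (g.ringHom r + TQ.j P' (cc f g r)) • TQ.mk P' (f.relVal s) -
      g.ringHom r • TQ.mk P' (g.relVal s) -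
      (g.ringHom r + TQ.j P' (cc f g r)) •
        (TQ.mk P' (f.relVal s) - TQ.mk P' (g.relVal s) - cc f g (rel P s)) =
      TQ.j P' (cc f g r) • TQ.mk P' (g.relVal s) +
        (g.ringHom r + TQ.j P' (cc f g r)) • cc f g (rel P s) := by
    rw [smul_sub, smul_sub, add_smul (g.ringHom r) (TQ.j P' (cc f g r)) (TQ.mk P' (g.relVal s))]
    abel
  rw [h3, h2, add_smul]
  abel

/-- `W(f₀) = Σ_s τ(f₀ s) • w_s`. -/
noncomputable def WW : relMod P →+ TQ P' :=
  Finsupp.liftAddHom (fun s =>
    ((LinearMap.toSpanSingleton P'.toExtension.Ring (TQ P') (ww f g s)).toAddMonoidHom).comp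
      f.ringHom.toAddMonoidHom)

theorem WW_single (s : σ) (r : P.toExtension.Ring) :
    WW f g (Finsupp.single s r) = f.ringHom r • ww f g s := by
  rw [WW, Finsupp.liftAddHom_apply_single]
  rfl

theorem key_hom :
    ((TQ.mk P').toAddMonoidHom.comp f.relModMap.toAddMonoidHom -
      (TQ.mk P').toAddMonoidHom.comp g.relModMap.toAddMonoidHom - WW f g : relMod P →+ TQ P') =
      (ccHom f g).comp (jmap P).toAddMonoidHom := by
  apply Finsupp.addHom_ext
  intro s r
  simp only [AddMonoidHom.sub_apply, AddMonoidHom.comp_apply, LinearMap.toAddMonoidHom_coe,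
    PresHom.relModMap_single, map_smul, WW_single, jmap_single]
  exact key_single f g s r

theorem key (q : relMod P) (hq : jmap P q = 0) :
    TQ.mk P' (f.relModMap q) - TQ.mk P' (g.relModMap q) - WW f g q = 0 := by
  have h := congrArg (fun φ => φ q) (key_hom f g)
  simp only [AddMonoidHom.sub_apply, AddMonoidHom.comp_apply, LinearMap.toAddMonoidHom_coe] at h
  rw [h, hq]
  exact cc_zero f g

/-- `elt s ∈ Q'`: a representative of `w_s`. -/
noncomputable def elt (s : σ) : relKer P' :=
  ⟨f.relVal s - g.relVal s - TQ.rep P' (cc f g (rel P s)), by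
    change jmap P' _ = 0
    rw [map_sub, map_sub, TQ.jmap_rep, j_cc, f.jmap_relVal, g.jmap_relVal, sub_self]⟩

theorem mk_elt (s : σ) : TQ.mk P' (elt f g s : relMod P') = ww f g s := by
  change TQ.mk P' (f.relVal s - g.relVal s - TQ.rep P' (cc f g (rel P s))) = _
  rw [map_sub, map_sub, TQ.mk_rep, ww]

/-- `V(f₀) = Σ_s τ(f₀ s) • elt s ∈ Q'`. -/
noncomputable def VV : relMod P →+ relKer P' :=
  Finsupp.liftAddHom (fun s =>
    ((LinearMap.toSpanSingleton P'.toExtension.Ring (relKer P') (elt f g s)).toAddMonoidHom).comp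
      f.ringHom.toAddMonoidHom)

theorem VV_single (s : σ) (r : P.toExtension.Ring) :
    VV f g (Finsupp.single s r) = f.ringHom r • elt f g s := by
  rw [VV, Finsupp.liftAddHom_apply_single]
  rfl

theorem mk_VV (q : relMod P) : TQ.mk P' ((VV f g q : relKer P') : relMod P') = WW f g q := by
  have h : ((TQ.mk P').toAddMonoidHom.comp
      ((relKer P').subtype.toAddMonoidHom.comp (VV f g)) : relMod P →+ TQ P') = WW f g := by
    apply Finsupp.addHom_ext
    intro s r
    simp only [AddMonoidHom.comp_apply, LinearMap.toAddMonoidHom_coe, VV_single, WW_single,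
      Submodule.subtype_apply, map_smul, mk_elt]
  exact congrArg (fun φ => φ q) h

theorem mkL2_sub (q : relKer P) :
    mkL2 P' (f.relKerMap q) - mkL2 P' (g.relKerMap q) = mkL2 P' (VV f g (q : relMod P)) := by
  rw [← map_sub, ← sub_eq_zero, ← map_sub]
  apply mkL2_eq_zero
  rw [← TQ.mk_eq_zero_iff]
  change TQ.mk P' (f.relModMap q - g.relModMap q - ((VV f g (q : relMod P) : relKer P') : relMod P'))
    = 0
  rw [map_sub, map_sub, mk_VV]
  exact key f g q q.2

variable (M' : Type m) [AddCommGroup M'] [Module B' M'] [Module B M'] [IsScalarTower B B' M']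

theorem apply_mkL2_VV (ψ : L2 P' →ₗ[B'] M') (q : relMod P) :
    ψ (mkL2 P' (VV f g q)) =
      q.sum (fun s r => algebraMap P.toExtension.Ring B r • ψ (mkL2 P' (elt f g s))) := by
  induction q using Finsupp.induction_linear with
  | zero => simp
  | add a b ha hb =>
    rw [map_add, map_add, map_add, ha, hb, Finsupp.sum_add_index']
    · intro s; rw [map_zero, zero_smul]
    · intro s r r'; rw [map_add, add_smul]
  | single s r =>
    rw [VV_single, mkL2_smul, map_smul, Finsupp.sum_single_index, f.algebraMap_ringHom,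
      IsScalarTower.algebraMap_smul]
    rw [map_zero, zero_smul]

/-- Two morphisms of presentations over the same square induce the same map on `T²`. -/
theorem T2pull_eq (x : T2 P' M') : f.T2pull M' x = g.T2pull M' x := by
  obtain ⟨ψ, rfl⟩ := Submodule.Quotient.mk_surjective _ x
  rw [T2pull_mk, T2pull_mk, T2_mk_eq_iff]
  refine ⟨(L1basis P).constr B (fun s => ψ (mkL2 P' (elt f g s))), ?_⟩
  apply hom_ext_L2
  intro q
  rw [LinearMap.comp_apply, d2_mkL2, apply_mkL1, LinearMap.sub_apply, pull2_mkL2, pull2_mkL2,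
    ← map_sub, mkL2_sub, apply_mkL2_VV]
  refine Finsupp.sum_congr fun s _ => ?_
  rw [Module.Basis.constr_basis]

/-- The semilinear map `F'/F₀' → M'` induced by a `B'`-linear map `L₁' → M'`. -/
noncomputable def Psi1 (ψ : L1 P' →ₗ[B'] M') :
    TQ P' →ₛₗ[algebraMap P'.toExtension.Ring B'] M' :=
  (trivRel P').liftQ (ψ.comp (mkL1ₛₗ P')) (by
    intro y hy
    rw [LinearMap.mem_ker, LinearMap.comp_apply, mkL1ₛₗ_apply, mkL1_eq_zero_of_mem P' y hy,
      map_zero])

theorem Psi1_mk (ψ : L1 P' →ₗ[B'] M') (y : relMod P') :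
    Psi1 M' ψ (TQ.mk P' y) = ψ (mkL1 P' y) := rfl

theorem Psi1_smul (ψ : L1 P' →ₗ[B'] M') (r : P'.toExtension.Ring) (n : TQ P') :
    Psi1 M' ψ (r • n) = algebraMap P'.toExtension.Ring B' r • Psi1 M' ψ n :=
  (Psi1 M' ψ).map_smulₛₗ r n

theorem Psi1_j_smul (ψ : L1 P' →ₗ[B'] M') (n n' : TQ P') :
    Psi1 M' ψ (TQ.j P' n • n') = 0 := by
  rw [Psi1_smul]
  obtain ⟨y, rfl⟩ := TQ.mk_surjective P' n
  rw [TQ.j_mk, algebraMap_jmap, zero_smul]

/-- The `B`-linear map `L₀ → M'` with `dx_i ↦ ψ(1 ⊗ liftVar i)`. -/
noncomputable def chi (ψ : L1 P' →ₗ[B'] M') : L0 P →ₗ[B] M' :=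
  (P.cotangentSpaceBasis).constr B (fun i => ψ (mkL1 P' (liftVar f g i)))

theorem one_tmul_D_mul (x y : P.toExtension.Ring) :
    ((1 : B) ⊗ₜ[P.toExtension.Ring] KaehlerDifferential.D A P.toExtension.Ring (x * y) : L0 P) =
      algebraMap P.toExtension.Ring B x •
        ((1 : B) ⊗ₜ[P.toExtension.Ring] KaehlerDifferential.D A P.toExtension.Ring y : L0 P) +
      algebraMap P.toExtension.Ring B y •
        ((1 : B) ⊗ₜ[P.toExtension.Ring] KaehlerDifferential.D A P.toExtension.Ring x : L0 P) := by
  rw [Derivation.leibniz, TensorProduct.tmul_add, one_tmul_smul, one_tmul_smul]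

theorem chi_D (ψ : L1 P' →ₗ[B'] M') (x : P.toExtension.Ring) :
    chi f g M' ψ ((1 : B) ⊗ₜ[P.toExtension.Ring] KaehlerDifferential.D A P.toExtension.Ring x) =
      Psi1 M' ψ (cc f g x) := by
  induction x using ring_induction with
  | hC a =>
    have h0 : KaehlerDifferential.D A P.toExtension.Ring (MvPolynomial.C a : MvPolynomial ι A) = 0 :=
      (KaehlerDifferential.D A P.toExtension.Ring).map_algebraMap a
    rw [h0, TensorProduct.tmul_zero, map_zero, cc_C, map_zero]
  | hadd p q hp hq =>
    rw [map_add, TensorProduct.tmul_add, map_add, hp, hq, cc_add, map_add]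
  | hmulX p i hp =>
    have hX : chi f g M' ψ ((1 : B) ⊗ₜ[P.toExtension.Ring]
        KaehlerDifferential.D A P.toExtension.Ring (MvPolynomial.X i : MvPolynomial ι A)) =
        Psi1 M' ψ (cc f g (MvPolynomial.X i : MvPolynomial ι A)) := by
      rw [cc_X, Psi1_mk]
      have hb := (P.cotangentSpaceBasis).constr_basis B
        (fun i => ψ (mkL1 P' (liftVar f g i))) i
      rw [Algebra.Generators.cotangentSpaceBasis_apply] at hb
      exact hb
    rw [one_tmul_D_mul, map_add, map_smul, map_smul, hp, hX, cc_mul, map_add, map_add,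
      Psi1_smul, Psi1_smul, Psi1_j_smul, add_zero, g.algebraMap_ringHom, g.algebraMap_ringHom,
      IsScalarTower.algebraMap_smul B', IsScalarTower.algebraMap_smul B']

/-- Two morphisms of presentations over the same square induce the same map on `T¹`. -/
theorem T1pull_eq (x : T1 P' M') : f.T1pull M' x = g.T1pull M' x := by
  obtain ⟨z, rfl⟩ := Submodule.Quotient.mk_surjective _ x
  rw [T1pull_mk, T1pull_mk, T1_mk_eq_iff]
  have hz : (z : L1 P' →ₗ[B'] M') ∘ₗ d2 P' = 0 := (mem_cocycles1_iff P' _).1 z.2
  refine ⟨chi f g M' z, ?_⟩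
  apply hom_ext_L1
  intro s
  rw [LinearMap.comp_apply, LinearMap.sub_apply, PresHom.cocycles1Pull_coe,
    PresHom.cocycles1Pull_coe, L1basis_apply, ← mkL1_apply, pull1_mkL1, pull1_mkL1, d1_mkL1,
    jmap_single, one_mul, PresHom.relModMap_single, PresHom.relModMap_single, map_one, map_one,
    one_smul, one_smul]
  rw [chi_D, ← Psi1_mk, ← Psi1_mk, ← map_sub, ← sub_eq_zero, ← map_sub]
  have hneg : cc f g (rel P s) - (TQ.mk P' (f.relVal s) - TQ.mk P' (g.relVal s)) =
      - ww f g s := by
    rw [ww]; abel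
  rw [hneg, map_neg, neg_eq_zero]
  rw [← mk_elt, Psi1_mk, ← d2_mkL2, ← LinearMap.comp_apply, hz, LinearMap.zero_apply]

/-- Two morphisms of presentations over the same square induce the same map on `T⁰`. -/
theorem T0pull_eq (x : T0 P' M') : f.T0pull M' x = g.T0pull M' x := by
  refine Subtype.ext ?_
  rw [T0pull_val, T0pull_val]
  have hx : (x : L0 P' →ₗ[B'] M') ∘ₗ d1 P' = 0 := (mem_T0_iff P' _).1 x.2
  refine (P.cotangentSpaceBasis).ext fun i => ?_
  rw [Algebra.Generators.cotangentSpaceBasis_apply]
  change f.pull0 M' x ((1 : B) ⊗ₜ[P.toExtension.Ring]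
      KaehlerDifferential.D A P.toExtension.Ring (MvPolynomial.X i : MvPolynomial ι A)) =
    g.pull0 M' x ((1 : B) ⊗ₜ[P.toExtension.Ring]
      KaehlerDifferential.D A P.toExtension.Ring (MvPolynomial.X i : MvPolynomial ι A))
  rw [PresHom.pull0_apply, PresHom.pull0_apply, L0map_one_tmul_D, L0map_one_tmul_D,
    ← sub_eq_zero, ← map_sub, ← TensorProduct.tmul_sub, ← map_sub, ← jmap_liftVar f g i,
    ← d1_mkL1, ← LinearMap.comp_apply, hx, LinearMap.zero_apply]

end Homotopy

end Groth.Agent.Lib.Helper18.CotTUniq
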