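import Mathlib
import Groth.Prelude.Def_CotT2
import Groth.Agent.Lib.Helper18.CotTApi
import Groth.Agent.Lib.Helper18.CotTComp
import Groth.Agent.Lib.Helper18.CotTUniq

/-!
# `T⁰, T¹, T²` do not depend on the presentation

Any morphism between two presentations of the same algebra (over the identity square) induces
bijections on `T⁰, T¹, T²`.
-/

set_option autoImplicit false
universe u v w t w' t' m

namespace Groth.Agent.Lib.Helper18.CotTInv

open CotT Groth.Agent.Lib.Helper18.CotTApi Groth.Agent.Lib.Helper18.CotTComp
  Groth.Agent.Lib.Helper18.CotTUniq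

variable {A : Type u} {B : Type v} {ι : Type w} {σ : Type t} {ι' : Type w'} {σ' : Type t'}
variable [CommRing A] [CommRing B] [Algebra A B]
variable {P : Algebra.Presentation A B ι σ} {P' : Algebra.Presentation A B ι' σ'}
variable (h : PresHom P P') (k : PresHom P' P)
variable (M : Type m) [AddCommGroup M] [Module B M]

theorem T2pull_pull (x : T2 P M) : h.T2pull M (k.T2pull M x) = x := by
  rw [← (isComp_comp k h).T2pull M x, T2pull_eq (comp k h) (PresHom.id P) M x, id_T2pull]

theorem T1pull_pull (x : T1 P M) : h.T1pull M (k.T1pull M x) = x := by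
  rw [← (isComp_comp k h).T1pull M x, T1pull_eq (comp k h) (PresHom.id P) M x, id_T1pull]

theorem T0pull_pull (x : T0 P M) : h.T0pull M (k.T0pull M x) = x := by
  rw [← (isComp_comp k h).T0pull M x, T0pull_eq (comp k h) (PresHom.id P) M x, id_T0pull]

theorem T2pull_bijective : Function.Bijective (h.T2pull M) := by
  obtain ⟨k⟩ := nonempty_presHom P' P
  exact ⟨Function.LeftInverse.injective (g := k.T2pull M) (T2pull_pull k h M),
    Function.RightInverse.surjective (g := k.T2pull M) (T2pull_pull h k M)⟩

theorem T1pull_bijective : Function.Bijective (h.T1pull M) := by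
  obtain ⟨k⟩ := nonempty_presHom P' P
  exact ⟨Function.LeftInverse.injective (g := k.T1pull M) (T1pull_pull k h M),
    Function.RightInverse.surjective (g := k.T1pull M) (T1pull_pull h k M)⟩

theorem T0pull_bijective : Function.Bijective (h.T0pull M) := by
  obtain ⟨k⟩ := nonempty_presHom P' P
  exact ⟨Function.LeftInverse.injective (g := k.T0pull M) (T0pull_pull k h M),
    Function.RightInverse.surjective (g := k.T0pull M) (T0pull_pull h k M)⟩

variable (P P')

/-- `T²` of two presentations of the same algebra are isomorphic. -/
noncomputable def T2equiv : T2 P' M ≃ₗ[B] T2 P M :=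
  LinearEquiv.ofBijective ((Classical.choice (nonempty_presHom P P')).T2pull M)
    (T2pull_bijective _ M)

noncomputable def T1equiv : T1 P' M ≃ₗ[B] T1 P M :=
  LinearEquiv.ofBijective ((Classical.choice (nonempty_presHom P P')).T1pull M)
    (T1pull_bijective _ M)

noncomputable def T0equiv : T0 P' M ≃ₗ[B] T0 P M :=
  LinearEquiv.ofBijective ((Classical.choice (nonempty_presHom P P')).T0pull M)
    (T0pull_bijective _ M)

theorem subsingleton_T2_iff : Subsingleton (T2 P M) ↔ Subsingleton (T2 P' M) :=
  (T2equiv P P' M).symm.toEquiv.subsingleton_congr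

theorem subsingleton_T1_iff : Subsingleton (T1 P M) ↔ Subsingleton (T1 P' M) :=
  (T1equiv P P' M).symm.toEquiv.subsingleton_congr

end Groth.Agent.Lib.Helper18.CotTInv
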