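import Mathlib

/-!
# Cohomology of the dual of a three-term complex `L₂ → L₁ → L₀`, and its long exact sequence

For `B`-modules `L₂ --d₂--> L₁ --d₁--> L₀` with `d₁ ∘ d₂ = 0` and `L₀`, `L₁` projective, the functors
`Tⁱ(M) = hⁱ(Hom_B(L•, M))`, `i = 0, 1, 2` (defined exactly as in the prelude module `Def_CotT`) sit in a
nine-term exact sequence for every short exact sequence of coefficient modules.
-/

set_option autoImplicit false
universe v l0 l1 l2 m m'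

namespace Groth.Agent.Lib.Helper18.ThreeTerm

variable {B : Type v} [CommRing B] {L0 : Type l0} {L1 : Type l1} {L2 : Type l2}
  [AddCommGroup L0] [Module B L0] [AddCommGroup L1] [Module B L1] [AddCommGroup L2] [Module B L2]
  (d1 : L1 →ₗ[B] L0) (d2 : L2 →ₗ[B] L1)

section Defs

variable (M : Type m) [AddCommGroup M] [Module B M]

/-- Precomposition with `d₁`. -/
def d1S : (L0 →ₗ[B] M) →ₗ[B] (L1 →ₗ[B] M) := LinearMap.lcomp B M d1

/-- Precomposition with `d₂`. -/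
def d2S : (L1 →ₗ[B] M) →ₗ[B] (L2 →ₗ[B] M) := LinearMap.lcomp B M d2

variable {M} in
lemma d1S_apply (φ : L0 →ₗ[B] M) : d1S d1 M φ = φ ∘ₗ d1 := rfl

variable {M} in
lemma d2S_apply (φ : L1 →ₗ[B] M) : d2S d2 M φ = φ ∘ₗ d2 := rfl

abbrev T0 : Type (max l0 m) := LinearMap.ker (d1S d1 M)

abbrev Z1 : Submodule B (L1 →ₗ[B] M) := LinearMap.ker (d2S d2 M)

abbrev B1 : Submodule B (Z1 d2 M) := (LinearMap.range (d1S d1 M)).comap (Z1 d2 M).subtype

abbrev T1 : Type (max l1 m) := Z1 d2 M ⧸ B1 d1 d2 M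

abbrev T2 : Type (max l2 m) := (L2 →ₗ[B] M) ⧸ LinearMap.range (d2S d2 M)

end Defs

section Maps

variable {M : Type m} [AddCommGroup M] [Module B M] {N : Type m'} [AddCommGroup N] [Module B N]
  (g : M →ₗ[B] N)

def T0map : T0 d1 M →ₗ[B] T0 d1 N :=
  (LinearMap.llcomp B L0 M N g).restrict (p := LinearMap.ker (d1S d1 M))
    (q := LinearMap.ker (d1S d1 N)) (fun φ hφ => by
      rw [LinearMap.mem_ker, d1S_apply] at hφ ⊢
      change (g ∘ₗ φ) ∘ₗ d1 = 0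
      rw [LinearMap.comp_assoc, hφ, LinearMap.comp_zero])

def Z1map : Z1 d2 M →ₗ[B] Z1 d2 N :=
  (LinearMap.llcomp B L1 M N g).restrict (p := Z1 d2 M) (q := Z1 d2 N) (fun φ hφ => by
      rw [LinearMap.mem_ker, d2S_apply] at hφ ⊢
      change (g ∘ₗ φ) ∘ₗ d2 = 0
      rw [LinearMap.comp_assoc, hφ, LinearMap.comp_zero])

def T1map : T1 d1 d2 M →ₗ[B] T1 d1 d2 N :=
  Submodule.mapQ (B1 d1 d2 M) (B1 d1 d2 N) (Z1map d2 g) (by
    rintro φ ⟨ψ, hψ⟩
    refine ⟨g ∘ₗ ψ, ?_⟩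
    change (g ∘ₗ ψ) ∘ₗ d1 = g ∘ₗ (φ : L1 →ₗ[B] M)
    have h : ψ ∘ₗ d1 = (φ : L1 →ₗ[B] M) := hψ
    rw [LinearMap.comp_assoc, h])

def T2map : T2 d2 M →ₗ[B] T2 d2 N :=
  Submodule.mapQ _ _ (LinearMap.llcomp B L2 M N g) (by
    rintro _ ⟨ψ, rfl⟩
    exact ⟨g ∘ₗ ψ, by rw [d2S_apply, LinearMap.comp_assoc]; rfl⟩)

lemma T0map_val (x : T0 d1 M) : ((T0map d1 g x : T0 d1 N) : L0 →ₗ[B] N) = g ∘ₗ (x : L0 →ₗ[B] M) := rfl

lemma Z1map_val (c : Z1 d2 M) : ((Z1map d2 g c : Z1 d2 N) : L1 →ₗ[B] N) = g ∘ₗ (c : L1 →ₗ[B] M) := rfl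

lemma T1map_mk (c : Z1 d2 M) :
    T1map d1 d2 g (Submodule.Quotient.mk c) = Submodule.Quotient.mk (Z1map d2 g c) := rfl

lemma T2map_mk (φ : L2 →ₗ[B] M) :
    T2map d2 g (Submodule.Quotient.mk φ) = Submodule.Quotient.mk (g ∘ₗ φ) := rfl

end Maps

section Exact

variable {M' M M'' : Type m} [AddCommGroup M'] [Module B M'] [AddCommGroup M] [Module B M]
  [AddCommGroup M''] [Module B M'']
  (f : M' →ₗ[B] M) (g : M →ₗ[B] M'')

/-- Factor a map killed by `g` through the injection `f`. -/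
theorem factor (hf : Function.Injective f) (hfg : Function.Exact f g) {L : Type*} [AddCommGroup L]
    [Module B L] (c : L →ₗ[B] M) (hc : g ∘ₗ c = 0) : ∃ c' : L →ₗ[B] M', f ∘ₗ c' = c := by
  have hmem : ∀ x, c x ∈ LinearMap.range f := fun x =>
    (hfg (c x)).1 (by have := LinearMap.congr_fun hc x; exact this)
  refine ⟨(LinearEquiv.ofInjective f hf).symm.toLinearMap ∘ₗ
    LinearMap.codRestrict (LinearMap.range f) c hmem, ?_⟩
  ext x
  have := congrArg Subtype.val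
    ((LinearEquiv.ofInjective f hf).apply_symm_apply ⟨c x, hmem x⟩)
  exact this

theorem comp_eq_zero (hfg : Function.Exact f g) : g ∘ₗ f = 0 := by
  ext x
  exact hfg.apply_apply_eq_zero x

theorem T0map_injective (hf : Function.Injective f) : Function.Injective (T0map d1 f) := by
  intro x y hxy
  apply Subtype.ext
  apply (LinearMap.cancel_left hf).1
  exact congrArg Subtype.val hxy

theorem T0_exact (hf : Function.Injective f) (hfg : Function.Exact f g) :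
    Function.Exact (T0map d1 f) (T0map d1 g) := by
  intro y
  constructor
  · intro hy
    have hy' : g ∘ₗ (y : L0 →ₗ[B] M) = 0 := congrArg Subtype.val hy
    obtain ⟨c', hc'⟩ := factor f g hf hfg _ hy'
    have hmem : c' ∈ LinearMap.ker (d1S d1 M') := by
      rw [LinearMap.mem_ker, d1S_apply]
      apply (LinearMap.cancel_left hf).1
      rw [← LinearMap.comp_assoc, hc', LinearMap.comp_zero]
      exact y.2
    exact ⟨⟨c', hmem⟩, Subtype.ext hc'⟩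
  · rintro ⟨x, rfl⟩
    apply Subtype.ext
    change g ∘ₗ (f ∘ₗ (x : L0 →ₗ[B] M')) = 0
    rw [← LinearMap.comp_assoc, comp_eq_zero f g hfg, LinearMap.zero_comp]

variable (h12 : d1 ∘ₗ d2 = 0)

include h12 in
theorem T1_exact [Module.Projective B L0] (hf : Function.Injective f) (hg : Function.Surjective g)
    (hfg : Function.Exact f g) : Function.Exact (T1map d1 d2 f) (T1map d1 d2 g) := by
  intro y
  obtain ⟨c, rfl⟩ := Submodule.Quotient.mk_surjective _ y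
  constructor
  · intro hy
    rw [T1map_mk, Submodule.Quotient.mk_eq_zero] at hy
    obtain ⟨ψ'', hψ''⟩ := hy
    have hψ''' : ψ'' ∘ₗ d1 = g ∘ₗ (c : L1 →ₗ[B] M) := hψ''
    obtain ⟨ψ, hψ⟩ := Module.projective_lifting_property g ψ'' hg
    have hker : g ∘ₗ ((c : L1 →ₗ[B] M) - ψ ∘ₗ d1) = 0 := by
      rw [LinearMap.comp_sub, ← LinearMap.comp_assoc, hψ, hψ''', sub_self]
    obtain ⟨c', hc'⟩ := factor f g hf hfg _ hker
    have hcZ : (c : L1 →ₗ[B] M) ∘ₗ d2 = 0 := c.2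
    have hc'Z : c' ∈ Z1 d2 M' := by
      rw [LinearMap.mem_ker, d2S_apply]
      apply (LinearMap.cancel_left hf).1
      rw [← LinearMap.comp_assoc, hc', LinearMap.sub_comp, hcZ, LinearMap.comp_assoc, h12,
        LinearMap.comp_zero, sub_zero, LinearMap.comp_zero]
    refine ⟨Submodule.Quotient.mk ⟨c', hc'Z⟩, ?_⟩
    rw [T1map_mk, Submodule.Quotient.eq]
    refine ⟨-ψ, ?_⟩
    change (-ψ) ∘ₗ d1 = f ∘ₗ c' - (c : L1 →ₗ[B] M)
    rw [hc', LinearMap.neg_comp]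
    abel
  · rintro ⟨x, hx⟩
    rw [← hx]
    obtain ⟨c', rfl⟩ := Submodule.Quotient.mk_surjective _ x
    rw [T1map_mk, T1map_mk, Submodule.Quotient.mk_eq_zero]
    refine ⟨0, ?_⟩
    change (0 : L0 →ₗ[B] M'') ∘ₗ d1 = g ∘ₗ (f ∘ₗ (c' : L1 →ₗ[B] M'))
    rw [← LinearMap.comp_assoc, comp_eq_zero f g hfg, LinearMap.zero_comp, LinearMap.zero_comp]

theorem T2_exact [Module.Projective B L1] (hf : Function.Injective f) (hg : Function.Surjective g)
    (hfg : Function.Exact f g) : Function.Exact (T2map d2 f) (T2map d2 g) := by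
  intro y
  obtain ⟨φ, rfl⟩ := Submodule.Quotient.mk_surjective _ y
  constructor
  · intro hy
    rw [T2map_mk, Submodule.Quotient.mk_eq_zero] at hy
    obtain ⟨ψ'', hψ''⟩ := hy
    have hψ''' : ψ'' ∘ₗ d2 = g ∘ₗ φ := hψ''
    obtain ⟨ψ, hψ⟩ := Module.projective_lifting_property g ψ'' hg
    have hker : g ∘ₗ (φ - ψ ∘ₗ d2) = 0 := by
      rw [LinearMap.comp_sub, ← LinearMap.comp_assoc, hψ, hψ''', sub_self]
    obtain ⟨φ', hφ'⟩ := factor f g hf hfg _ hker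
    refine ⟨Submodule.Quotient.mk φ', ?_⟩
    rw [T2map_mk, Submodule.Quotient.eq]
    refine ⟨-ψ, ?_⟩
    change (-ψ) ∘ₗ d2 = f ∘ₗ φ' - φ
    rw [hφ', LinearMap.neg_comp]
    abel
  · rintro ⟨x, hx⟩
    rw [← hx]
    obtain ⟨φ', rfl⟩ := Submodule.Quotient.mk_surjective _ x
    rw [T2map_mk, T2map_mk, Submodule.Quotient.mk_eq_zero]
    refine ⟨0, ?_⟩
    change (0 : L1 →ₗ[B] M'') ∘ₗ d2 = g ∘ₗ (f ∘ₗ φ')
    rw [← LinearMap.comp_assoc, comp_eq_zero f g hfg, LinearMap.zero_comp, LinearMap.zero_comp]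

end Exact

section Snake

/-- Packaged snake lemma: existence of the connecting map with both exactness statements. -/
theorem snake {R : Type*} [CommRing R] {M₁ M₂ M₃ N₁ N₂ N₃ K₂ K₃ C₁ C₂ : Type*}
    [AddCommGroup M₁] [Module R M₁] [AddCommGroup M₂] [Module R M₂] [AddCommGroup M₃] [Module R M₃]
    [AddCommGroup N₁] [Module R N₁] [AddCommGroup N₂] [Module R N₂] [AddCommGroup N₃] [Module R N₃]
    [AddCommGroup K₂] [Module R K₂] [AddCommGroup K₃] [Module R K₃]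
    [AddCommGroup C₁] [Module R C₁] [AddCommGroup C₂] [Module R C₂]
    (i₁ : M₁ →ₗ[R] N₁) (i₂ : M₂ →ₗ[R] N₂) (i₃ : M₃ →ₗ[R] N₃)
    (f₁ : M₁ →ₗ[R] M₂) (f₂ : M₂ →ₗ[R] M₃) (hf : Function.Exact f₁ f₂)
    (g₁ : N₁ →ₗ[R] N₂) (g₂ : N₂ →ₗ[R] N₃) (hg : Function.Exact g₁ g₂)
    (h₁ : g₁.comp i₁ = i₂.comp f₁) (h₂ : g₂.comp i₂ = i₃.comp f₂)
    (ι₂ : K₂ →ₗ[R] M₂) (hι₂ : Function.Exact ι₂ i₂) (ι₃ : K₃ →ₗ[R] M₃) (hι₃ : Function.Exact ι₃ i₃)
    (π₁ : N₁ →ₗ[R] C₁) (hπ₁ : Function.Exact i₁ π₁) (π₂ : N₂ →ₗ[R] C₂) (hπ₂ : Function.Exact i₂ π₂)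
    (hf₂ : Function.Surjective f₂) (hg₁ : Function.Injective g₁)
    (F : K₂ →ₗ[R] K₃) (hF : f₂.comp ι₂ = ι₃.comp F) (hι₃inj : Function.Injective ι₃)
    (G : C₁ →ₗ[R] C₂) (hG : G.comp π₁ = π₂.comp g₁) (hπ₁surj : Function.Surjective π₁) :
    ∃ δ : K₃ →ₗ[R] C₁, Function.Exact F δ ∧ Function.Exact δ G :=
  ⟨SnakeLemma.δ' i₁ i₂ i₃ f₁ f₂ hf g₁ g₂ hg h₁ h₂ ι₃ hι₃ π₁ hπ₁ hf₂ hg₁,
    SnakeLemma.exact_δ'_right i₁ i₂ i₃ f₁ f₂ hf g₁ g₂ hg h₁ h₂ ι₂ hι₂ ι₃ hι₃ π₁ hπ₁ hf₂ hg₁ F hF hι₃inj,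
    SnakeLemma.exact_δ'_left i₁ i₂ i₃ f₁ f₂ hf g₁ g₂ hg h₁ h₂ ι₃ hι₃ π₁ hπ₁ π₂ hπ₂ hf₂ hg₁ G hG hπ₁surj⟩

end Snake

section Delta

variable {M' M M'' : Type m} [AddCommGroup M'] [Module B M'] [AddCommGroup M] [Module B M]
  [AddCommGroup M''] [Module B M'']
  (f : M' →ₗ[B] M) (g : M →ₗ[B] M'')
variable (h12 : d1 ∘ₗ d2 = 0)

/-- `d₁*` with values in the cocycles. -/
def d1SZ (N : Type m) [AddCommGroup N] [Module B N] : (L0 →ₗ[B] N) →ₗ[B] Z1 d2 N :=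
  LinearMap.codRestrict (Z1 d2 N) (d1S d1 N) (fun φ => by
    rw [LinearMap.mem_ker, d2S_apply, d1S_apply, LinearMap.comp_assoc, h12, LinearMap.comp_zero])

theorem exact_subtype_d1SZ (N : Type m) [AddCommGroup N] [Module B N] :
    Function.Exact (LinearMap.ker (d1S d1 N)).subtype (d1SZ d1 d2 h12 N) := by
  intro φ
  constructor
  · intro h
    have h' : d1S d1 N φ = 0 := congrArg Subtype.val h
    exact ⟨⟨φ, h'⟩, rfl⟩
  · rintro ⟨x, rfl⟩
    exact Subtype.ext x.2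

theorem exact_d1SZ_mkQ (N : Type m) [AddCommGroup N] [Module B N] :
    Function.Exact (d1SZ d1 d2 h12 N) (B1 d1 d2 N).mkQ := by
  intro c
  rw [Submodule.mkQ_apply, Submodule.Quotient.mk_eq_zero]
  constructor
  · rintro ⟨ψ, hψ⟩
    exact ⟨ψ, Subtype.ext hψ⟩
  · rintro ⟨ψ, rfl⟩
    exact ⟨ψ, rfl⟩

theorem exact_llcomp (hf : Function.Injective f) (hfg : Function.Exact f g) (L : Type l0)
    [AddCommGroup L] [Module B L] :
    Function.Exact (LinearMap.llcomp B L M' M f : (L →ₗ[B] M') →ₗ[B] (L →ₗ[B] M))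
      (LinearMap.llcomp B L M M'' g : (L →ₗ[B] M) →ₗ[B] (L →ₗ[B] M'')) := by
  intro φ
  constructor
  · intro h
    obtain ⟨c', hc'⟩ := factor f g hf hfg φ h
    exact ⟨c', hc'⟩
  · rintro ⟨c', rfl⟩
    change g ∘ₗ (f ∘ₗ c') = 0
    rw [← LinearMap.comp_assoc, comp_eq_zero f g hfg, LinearMap.zero_comp]

theorem exact_Z1map (hf : Function.Injective f) (hfg : Function.Exact f g) :
    Function.Exact (Z1map d2 f) (Z1map d2 g) := by
  intro c
  constructor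
  · intro h
    have h' : g ∘ₗ (c : L1 →ₗ[B] M) = 0 := congrArg Subtype.val h
    obtain ⟨c', hc'⟩ := factor f g hf hfg _ h'
    have hc'Z : c' ∈ Z1 d2 M' := by
      rw [LinearMap.mem_ker, d2S_apply]
      apply (LinearMap.cancel_left hf).1
      rw [← LinearMap.comp_assoc, hc', LinearMap.comp_zero]
      exact c.2
    exact ⟨⟨c', hc'Z⟩, Subtype.ext hc'⟩
  · rintro ⟨c', rfl⟩
    apply Subtype.ext
    change g ∘ₗ (f ∘ₗ (c' : L1 →ₗ[B] M')) = 0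
    rw [← LinearMap.comp_assoc, comp_eq_zero f g hfg, LinearMap.zero_comp]

include h12 in
theorem exists_delta0 [Module.Projective B L0] (hf : Function.Injective f)
    (hg : Function.Surjective g) (hfg : Function.Exact f g) :
    ∃ δ₀ : T0 d1 M'' →ₗ[B] T1 d1 d2 M',
      Function.Exact (T0map d1 g) δ₀ ∧ Function.Exact δ₀ (T1map d1 d2 f) := by
  refine snake (d1SZ d1 d2 h12 M') (d1SZ d1 d2 h12 M) (d1SZ d1 d2 h12 M'')
    (LinearMap.llcomp B L0 M' M f) (LinearMap.llcomp B L0 M M'' g) (exact_llcomp f g hf hfg L0)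
    (Z1map d2 f) (Z1map d2 g) (exact_Z1map d2 f g hf hfg) ?_ ?_
    (LinearMap.ker (d1S d1 M)).subtype (exact_subtype_d1SZ d1 d2 h12 M)
    (LinearMap.ker (d1S d1 M'')).subtype (exact_subtype_d1SZ d1 d2 h12 M'')
    (B1 d1 d2 M').mkQ (exact_d1SZ_mkQ d1 d2 h12 M') (B1 d1 d2 M).mkQ (exact_d1SZ_mkQ d1 d2 h12 M)
    ?_ ?_ (T0map d1 g) ?_ Subtype.val_injective (T1map d1 d2 f) ?_ (Submodule.mkQ_surjective _)
  · ext φ : 1
    apply Subtype.ext
    change f ∘ₗ (φ ∘ₗ d1) = (f ∘ₗ φ) ∘ₗ d1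
    rw [LinearMap.comp_assoc]
  · ext φ : 1
    apply Subtype.ext
    change g ∘ₗ (φ ∘ₗ d1) = (g ∘ₗ φ) ∘ₗ d1
    rw [LinearMap.comp_assoc]
  · intro ψ''
    obtain ⟨ψ, hψ⟩ := Module.projective_lifting_property g ψ'' hg
    exact ⟨ψ, hψ⟩
  · intro x y hxy
    apply Subtype.ext
    apply (LinearMap.cancel_left hf).1
    exact congrArg Subtype.val hxy
  · ext x : 1
    rfl
  · ext c : 1
    rfl

/-- `Hom(L₁, N)` modulo the coboundaries. -/
abbrev Q1 (N : Type m) [AddCommGroup N] [Module B N] : Type (max l1 m) :=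
  (L1 →ₗ[B] N) ⧸ LinearMap.range (d1S d1 N)

def Q1map {N N' : Type m} [AddCommGroup N] [Module B N] [AddCommGroup N'] [Module B N']
    (u : N →ₗ[B] N') : Q1 d1 N →ₗ[B] Q1 d1 N' :=
  Submodule.mapQ _ _ (LinearMap.llcomp B L1 N N' u) (by
    rintro _ ⟨ψ, rfl⟩
    exact ⟨u ∘ₗ ψ, by rw [d1S_apply, d1S_apply, LinearMap.comp_assoc]; rfl⟩)

lemma Q1map_mk {N N' : Type m} [AddCommGroup N] [Module B N] [AddCommGroup N'] [Module B N']
    (u : N →ₗ[B] N') (c : L1 →ₗ[B] N) :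
    Q1map d1 u (Submodule.Quotient.mk c) = Submodule.Quotient.mk (u ∘ₗ c) := rfl

/-- `d₂*` on `Hom(L₁, N)` modulo coboundaries. -/
def d2SQ (N : Type m) [AddCommGroup N] [Module B N] : Q1 d1 N →ₗ[B] (L2 →ₗ[B] N) :=
  Submodule.liftQ _ (d2S d2 N) (by
    rintro _ ⟨ψ, rfl⟩
    rw [LinearMap.mem_ker, d2S_apply, d1S_apply, LinearMap.comp_assoc, h12, LinearMap.comp_zero])

lemma d2SQ_mk (N : Type m) [AddCommGroup N] [Module B N] (c : L1 →ₗ[B] N) :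
    d2SQ d1 d2 h12 N (Submodule.Quotient.mk c) = c ∘ₗ d2 := rfl

/-- The inclusion of `T¹` in `Hom(L₁, N)` modulo coboundaries. -/
def T1toQ1 (N : Type m) [AddCommGroup N] [Module B N] : T1 d1 d2 N →ₗ[B] Q1 d1 N :=
  Submodule.mapQ (B1 d1 d2 N) (LinearMap.range (d1S d1 N)) (Z1 d2 N).subtype le_rfl

lemma T1toQ1_mk (N : Type m) [AddCommGroup N] [Module B N] (z : Z1 d2 N) :
    T1toQ1 d1 d2 N (Submodule.Quotient.mk z) = Submodule.Quotient.mk (z : L1 →ₗ[B] N) := rfl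

theorem T1toQ1_injective (N : Type m) [AddCommGroup N] [Module B N] :
    Function.Injective (T1toQ1 d1 d2 N) := by
  rw [injective_iff_map_eq_zero]
  intro x hx
  obtain ⟨z, rfl⟩ := Submodule.Quotient.mk_surjective _ x
  rw [T1toQ1_mk, Submodule.Quotient.mk_eq_zero] at hx
  rw [Submodule.Quotient.mk_eq_zero]
  exact hx

theorem exact_T1toQ1_d2SQ (N : Type m) [AddCommGroup N] [Module B N] :
    Function.Exact (T1toQ1 d1 d2 N) (d2SQ d1 d2 h12 N) := by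
  intro y
  constructor
  · intro hy
    obtain ⟨c, rfl⟩ := Submodule.Quotient.mk_surjective _ y
    rw [d2SQ_mk] at hy
    exact ⟨Submodule.Quotient.mk ⟨c, hy⟩, rfl⟩
  · rintro ⟨x, hx⟩
    rw [← hx]
    obtain ⟨z, rfl⟩ := Submodule.Quotient.mk_surjective _ x
    rw [T1toQ1_mk, d2SQ_mk]
    exact z.2

theorem exact_d2SQ_mkQ (N : Type m) [AddCommGroup N] [Module B N] :
    Function.Exact (d2SQ d1 d2 h12 N) (LinearMap.range (d2S d2 N)).mkQ := by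
  intro φ
  rw [Submodule.mkQ_apply, Submodule.Quotient.mk_eq_zero]
  constructor
  · rintro ⟨c, rfl⟩
    exact ⟨Submodule.Quotient.mk c, rfl⟩
  · rintro ⟨y, rfl⟩
    obtain ⟨c, rfl⟩ := Submodule.Quotient.mk_surjective _ y
    exact ⟨c, rfl⟩

include h12 in
theorem exact_Q1map [Module.Projective B L0] (hf : Function.Injective f)
    (hg : Function.Surjective g) (hfg : Function.Exact f g) :
    Function.Exact (Q1map d1 f) (Q1map d1 g) := by
  intro y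
  constructor
  · intro hy
    obtain ⟨c, rfl⟩ := Submodule.Quotient.mk_surjective _ y
    rw [Q1map_mk, Submodule.Quotient.mk_eq_zero] at hy
    obtain ⟨ψ'', hψ''⟩ := hy
    have hψ3 : ψ'' ∘ₗ d1 = g ∘ₗ c := hψ''
    obtain ⟨ψ, hψ⟩ := Module.projective_lifting_property g ψ'' hg
    have hker : g ∘ₗ (c - ψ ∘ₗ d1) = 0 := by
      rw [LinearMap.comp_sub, ← LinearMap.comp_assoc, hψ, hψ3, sub_self]
    obtain ⟨c', hc'⟩ := factor f g hf hfg _ hker
    refine ⟨Submodule.Quotient.mk c', ?_⟩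
    rw [Q1map_mk, Submodule.Quotient.eq]
    refine ⟨-ψ, ?_⟩
    change (-ψ) ∘ₗ d1 = f ∘ₗ c' - c
    rw [hc', LinearMap.neg_comp]
    abel
  · rintro ⟨x, hx⟩
    rw [← hx]
    obtain ⟨c', rfl⟩ := Submodule.Quotient.mk_surjective _ x
    rw [Q1map_mk, Q1map_mk, Submodule.Quotient.mk_eq_zero]
    refine ⟨0, ?_⟩
    change (0 : L0 →ₗ[B] M'') ∘ₗ d1 = g ∘ₗ (f ∘ₗ c')
    rw [← LinearMap.comp_assoc, comp_eq_zero f g hfg, LinearMap.zero_comp, LinearMap.zero_comp]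

include h12 in
theorem exists_delta1 [Module.Projective B L0] [Module.Projective B L1] (hf : Function.Injective f)
    (hg : Function.Surjective g) (hfg : Function.Exact f g) :
    ∃ δ₁ : T1 d1 d2 M'' →ₗ[B] T2 d2 M',
      Function.Exact (T1map d1 d2 g) δ₁ ∧ Function.Exact δ₁ (T2map d2 f) := by
  refine snake (d2SQ d1 d2 h12 M') (d2SQ d1 d2 h12 M) (d2SQ d1 d2 h12 M'')
    (Q1map d1 f) (Q1map d1 g) (exact_Q1map d1 d2 f g h12 hf hg hfg)
    (LinearMap.llcomp B L2 M' M f) (LinearMap.llcomp B L2 M M'' g) (exact_llcomp f g hf hfg L2) ?_ ?_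
    (T1toQ1 d1 d2 M) (exact_T1toQ1_d2SQ d1 d2 h12 M)
    (T1toQ1 d1 d2 M'') (exact_T1toQ1_d2SQ d1 d2 h12 M'')
    (LinearMap.range (d2S d2 M')).mkQ (exact_d2SQ_mkQ d1 d2 h12 M')
    (LinearMap.range (d2S d2 M)).mkQ (exact_d2SQ_mkQ d1 d2 h12 M)
    ?_ ?_ (T1map d1 d2 g) ?_ (T1toQ1_injective d1 d2 M'') (T2map d2 f) ?_
    (Submodule.mkQ_surjective _)
  · apply Submodule.linearMap_qext
    ext c : 1
    change f ∘ₗ (c ∘ₗ d2) = (f ∘ₗ c) ∘ₗ d2
    rw [LinearMap.comp_assoc]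
  · apply Submodule.linearMap_qext
    ext c : 1
    change g ∘ₗ (c ∘ₗ d2) = (g ∘ₗ c) ∘ₗ d2
    rw [LinearMap.comp_assoc]
  · intro y
    obtain ⟨c'', rfl⟩ := Submodule.Quotient.mk_surjective _ y
    obtain ⟨c, hc⟩ := Module.projective_lifting_property g c'' hg
    exact ⟨Submodule.Quotient.mk c, by rw [Q1map_mk, hc]⟩
  · intro x y hxy
    exact (LinearMap.cancel_left hf).1 hxy
  · apply Submodule.linearMap_qext
    ext z : 1
    rfl
  · ext φ : 1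
    rfl

end Delta

end Groth.Agent.Lib.Helper18.ThreeTerm
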