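import Mathlib
import Groth.Prelude.Def_CotT2
import Groth.Agent.Lib.Helper18.CotTApi
import Groth.Agent.Lib.Helper18.ThreeTerm

/-!
# The long exact sequence of the `Tⁱ` for a "short exact sequence" of presentations

Given morphisms of presentations `P → P' → P''` such that the induced sequences of dual complexes
`0 → Hom(Lᵢ(P''), M) → Hom(Lᵢ(P'), M) → Hom(Lᵢ(P), M)` are exact for `i = 0, 1, 2`, and right exact
for `i = 0, 1`, the nine-term sequence of the `Tⁱ` is exact.
-/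

set_option autoImplicit false
universe u v w t u' v' w' t' u'' v'' w'' t'' m

open TensorProduct

namespace Groth.Agent.Lib.Helper18.CotTLES

open CotT Groth.Agent.Lib.Helper18.CotTApi

section Single

variable {A : Type u} {B : Type v} {ι : Type w} {σ : Type t}
variable [CommRing A] [CommRing B] [Algebra A B]
variable (P : Algebra.Presentation A B ι σ)
variable (M : Type m) [AddCommGroup M] [Module B M]

theorem d2Star_d1Star (φ : L0 P →ₗ[B] M) : d2Star P M (d1Star P M φ) = 0 :=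
  LinearMap.congr_fun (d2Star_comp_d1Star P M) φ

/-- `d₁*` with values in the cocycles. -/
noncomputable def dZ : (L0 P →ₗ[B] M) →ₗ[B] cocycles1 P M :=
  LinearMap.codRestrict (cocycles1 P M) (d1Star P M) (fun φ => by
    rw [LinearMap.mem_ker]
    exact d2Star_d1Star P M φ)

theorem dZ_val (φ : L0 P →ₗ[B] M) : ((dZ P M φ : cocycles1 P M) : L1 P →ₗ[B] M) = d1Star P M φ :=
  rfl

theorem exact_subtype_dZ :
    Function.Exact (LinearMap.ker (d1Star P M)).subtype (dZ P M) := by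
  intro φ
  constructor
  · intro h
    have h' : d1Star P M φ = 0 := congrArg Subtype.val h
    exact ⟨⟨φ, h'⟩, rfl⟩
  · rintro ⟨x, rfl⟩
    exact Subtype.ext x.2

theorem exact_dZ_mkQ : Function.Exact (dZ P M) (coboundaries1 P M).mkQ := by
  intro c
  rw [Submodule.mkQ_apply, Submodule.Quotient.mk_eq_zero]
  constructor
  · rintro ⟨ψ, hψ⟩
    exact ⟨ψ, Subtype.ext hψ⟩
  · rintro ⟨ψ, rfl⟩
    exact ⟨ψ, rfl⟩

/-- `Hom(L₁, M)` modulo the coboundaries. -/
abbrev Q1 : Type (max v t w u m) := (L1 P →ₗ[B] M) ⧸ LinearMap.range (d1Star P M)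

/-- `d₂*` on `Hom(L₁, M)` modulo coboundaries. -/
noncomputable def d2Q : Q1 P M →ₗ[B] (L2 P →ₗ[B] M) :=
  Submodule.liftQ _ (d2Star P M) (by
    rintro _ ⟨ψ, rfl⟩
    rw [LinearMap.mem_ker]
    exact d2Star_d1Star P M ψ)

theorem d2Q_mk (c : L1 P →ₗ[B] M) : d2Q P M (Submodule.Quotient.mk c) = d2Star P M c := rfl

/-- The inclusion of `T¹` in `Hom(L₁, M)` modulo coboundaries. -/
noncomputable def T1toQ1 : T1 P M →ₗ[B] Q1 P M :=
  Submodule.mapQ (coboundaries1 P M) (LinearMap.range (d1Star P M)) (cocycles1 P M).subtype le_rfl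

theorem T1toQ1_mk (z : cocycles1 P M) :
    T1toQ1 P M (Submodule.Quotient.mk z) = Submodule.Quotient.mk (z : L1 P →ₗ[B] M) := rfl

theorem T1toQ1_injective : Function.Injective (T1toQ1 P M) := by
  rw [injective_iff_map_eq_zero]
  intro x hx
  obtain ⟨z, rfl⟩ := Submodule.Quotient.mk_surjective _ x
  rw [T1toQ1_mk, Submodule.Quotient.mk_eq_zero] at hx
  rw [Submodule.Quotient.mk_eq_zero]
  exact hx

theorem exact_T1toQ1_d2Q : Function.Exact (T1toQ1 P M) (d2Q P M) := by
  intro y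
  constructor
  · intro hy
    obtain ⟨c, rfl⟩ := Submodule.Quotient.mk_surjective _ y
    rw [d2Q_mk] at hy
    exact ⟨Submodule.Quotient.mk ⟨c, hy⟩, rfl⟩
  · rintro ⟨x, hx⟩
    rw [← hx]
    obtain ⟨z, rfl⟩ := Submodule.Quotient.mk_surjective _ x
    rw [T1toQ1_mk, d2Q_mk]
    exact z.2

theorem exact_d2Q_mkQ : Function.Exact (d2Q P M) (LinearMap.range (d2Star P M)).mkQ := by
  intro φ
  rw [Submodule.mkQ_apply, Submodule.Quotient.mk_eq_zero]
  constructor
  · rintro ⟨c, rfl⟩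
    exact ⟨Submodule.Quotient.mk c, rfl⟩
  · rintro ⟨y, rfl⟩
    obtain ⟨c, rfl⟩ := Submodule.Quotient.mk_surjective _ y
    exact ⟨c, rfl⟩

end Single

section ToZ

variable {R S : Type*} [Semiring R] [Semiring S] {σ : R →+* S} {X Y : Type*} [AddCommGroup X]
  [AddCommGroup Y] [Module R X] [Module S Y]

/-- A semilinear map as a `ℤ`-linear map. -/
def toZ (f : X →ₛₗ[σ] Y) : X →ₗ[ℤ] Y := f.toAddMonoidHom.toIntLinearMap

@[simp] theorem toZ_apply (f : X →ₛₗ[σ] Y) (x : X) : toZ f x = f x := rfl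

end ToZ

section Pull

variable {A : Type u} {B : Type v} {ι : Type w} {σ : Type t}
variable {A' : Type u'} {B' : Type v'} {ι' : Type w'} {σ' : Type t'}
variable [CommRing A] [CommRing B] [Algebra A B] [CommRing A'] [CommRing B'] [Algebra A' B']
variable [Algebra A A'] [Algebra B B'] [Algebra A B'] [IsScalarTower A A' B'] [IsScalarTower A B B']
variable {P : Algebra.Presentation A B ι σ} {P' : Algebra.Presentation A' B' ι' σ'}
variable (h : PresHom P P')
variable (M' : Type m) [AddCommGroup M'] [Module B' M'] [Module B M'] [IsScalarTower B B' M']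

/-- The map induced on `Hom(L₁, M)` modulo coboundaries. -/
noncomputable def Q1pull : Q1 P' M' →ₗ[B] Q1 P M' :=
  (Submodule.mapQ ((LinearMap.range (d1Star P' M')).restrictScalars B)
    (LinearMap.range (d1Star P M')) (h.pull1 M') (by
    rintro _ ⟨ψ, rfl⟩
    exact ⟨h.pull0 M' ψ, (h.pull1_d1Star M' ψ).symm⟩)).comp
  (Submodule.Quotient.restrictScalarsEquiv B (LinearMap.range (d1Star P' M'))).symm.toLinearMap

theorem Q1pull_mk (c : L1 P' →ₗ[B'] M') :
    Q1pull h M' (Submodule.Quotient.mk c) = Submodule.Quotient.mk (h.pull1 M' c) := rfl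

end Pull

section Nine

variable {A : Type u} {B : Type v} {ι : Type w} {σ : Type t}
variable {A' : Type u'} {B' : Type v'} {ι' : Type w'} {σ' : Type t'}
variable {A'' : Type u''} {B'' : Type v''} {ι'' : Type w''} {σ'' : Type t''}
variable [CommRing A] [CommRing B] [Algebra A B] [CommRing A'] [CommRing B'] [Algebra A' B']
variable [CommRing A''] [CommRing B''] [Algebra A'' B'']
variable [Algebra A A'] [Algebra B B'] [Algebra A B'] [IsScalarTower A A' B'] [IsScalarTower A B B']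
variable [Algebra A' A''] [Algebra B' B''] [Algebra A' B''] [IsScalarTower A' A'' B'']
  [IsScalarTower A' B' B'']
variable {P : Algebra.Presentation A B ι σ} {P' : Algebra.Presentation A' B' ι' σ'}
  {P'' : Algebra.Presentation A'' B'' ι'' σ''}
variable (h : PresHom P P') (k : PresHom P' P'')
variable (M : Type m) [AddCommGroup M] [Module B'' M] [Module B' M] [Module B M]
  [IsScalarTower B' B'' M] [IsScalarTower B B' M]

theorem T0pull_injective (k0i : Function.Injective (k.pull0 M)) :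
    Function.Injective (k.T0pull M) := by
  intro x y hxy
  apply Subtype.ext
  apply k0i
  have h1 := congrArg Subtype.val hxy
  rw [T0pull_val, T0pull_val] at h1
  exact h1

theorem T0_exact (k1i : Function.Injective (k.pull1 M))
    (e0 : Function.Exact (k.pull0 M) (h.pull0 M)) :
    Function.Exact (k.T0pull M) (h.T0pull M) := by
  intro x
  constructor
  · intro hx
    have h1 : h.pull0 M (x : L0 P' →ₗ[B'] M) = 0 := by
      have h2 := congrArg Subtype.val hx
      rw [T0pull_val] at h2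
      exact h2
    obtain ⟨ψ, hψ⟩ := (e0 _).1 h1
    have hψ0 : ψ ∈ LinearMap.ker (d1Star P'' M) := by
      rw [LinearMap.mem_ker]
      apply k1i
      rw [PresHom.pull1_d1Star, hψ, map_zero]
      exact x.2
    exact ⟨⟨ψ, hψ0⟩, Subtype.ext hψ⟩
  · rintro ⟨y, rfl⟩
    apply Subtype.ext
    rw [T0pull_val, T0pull_val]
    exact (e0 _).2 ⟨_, rfl⟩

theorem T1_exact (h0s : Function.Surjective (h.pull0 M))
    (k2i : Function.Injective (k.pull2 M))
    (e1 : Function.Exact (k.pull1 M) (h.pull1 M)) :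
    Function.Exact (k.T1pull M) (h.T1pull M) := by
  intro x
  constructor
  · intro hx
    obtain ⟨z, rfl⟩ := Submodule.Quotient.mk_surjective _ x
    rw [T1pull_mk, T1_mk_eq_zero_iff] at hx
    obtain ⟨χ, hχ⟩ := hx
    rw [PresHom.cocycles1Pull_coe] at hχ
    obtain ⟨χ', rfl⟩ := h0s χ
    have h1 : h.pull1 M ((z : L1 P' →ₗ[B'] M) - d1Star P' M χ') = 0 := by
      rw [map_sub, PresHom.pull1_d1Star, ← hχ]
      exact sub_self _
    obtain ⟨φ, hφ⟩ := (e1 _).1 h1
    have hφZ : φ ∈ cocycles1 P'' M := by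
      rw [LinearMap.mem_ker]
      apply k2i
      have hz : d2Star P' M (z : L1 P' →ₗ[B'] M) = 0 := z.2
      rw [PresHom.pull2_d2Star, hφ, map_zero, map_sub, hz, d2Star_d1Star, sub_zero]
    refine ⟨Submodule.Quotient.mk ⟨φ, hφZ⟩, ?_⟩
    rw [T1pull_mk, T1_mk_eq_iff]
    refine ⟨-χ', ?_⟩
    rw [PresHom.cocycles1Pull_coe]
    change (-χ') ∘ₗ d1 P' = k.pull1 M φ - (z : L1 P' →ₗ[B'] M)
    rw [hφ, LinearMap.neg_comp]
    change _ = (z : L1 P' →ₗ[B'] M) - χ' ∘ₗ d1 P' - (z : L1 P' →ₗ[B'] M)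
    abel
  · rintro ⟨y, rfl⟩
    obtain ⟨z, rfl⟩ := Submodule.Quotient.mk_surjective _ y
    rw [T1pull_mk, T1pull_mk, T1_mk_eq_zero_iff]
    refine ⟨0, ?_⟩
    rw [LinearMap.zero_comp, PresHom.cocycles1Pull_coe, PresHom.cocycles1Pull_coe]
    exact ((e1 _).2 ⟨_, rfl⟩).symm

theorem T2_exact (h1s : Function.Surjective (h.pull1 M))
    (e2 : Function.Exact (k.pull2 M) (h.pull2 M)) :
    Function.Exact (k.T2pull M) (h.T2pull M) := by
  intro x
  constructor
  · intro hx
    obtain ⟨ψ, rfl⟩ := Submodule.Quotient.mk_surjective _ x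
    rw [T2pull_mk, T2_mk_eq_zero_iff] at hx
    obtain ⟨φ, hφ⟩ := hx
    obtain ⟨φ', rfl⟩ := h1s φ
    have h1 : h.pull2 M (ψ - d2Star P' M φ') = 0 := by
      rw [map_sub, PresHom.pull2_d2Star, ← hφ]
      exact sub_self _
    obtain ⟨ψ'', hψ''⟩ := (e2 _).1 h1
    refine ⟨Submodule.Quotient.mk ψ'', ?_⟩
    rw [T2pull_mk, T2_mk_eq_iff]
    refine ⟨-φ', ?_⟩
    rw [hψ'', LinearMap.neg_comp]
    change -(φ' ∘ₗ d2 P') = ψ - φ' ∘ₗ d2 P' - ψ
    abel
  · rintro ⟨y, rfl⟩
    obtain ⟨ψ, rfl⟩ := Submodule.Quotient.mk_surjective _ y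
    rw [T2pull_mk, T2pull_mk, T2_mk_eq_zero_iff]
    refine ⟨0, ?_⟩
    rw [LinearMap.zero_comp]
    exact ((e2 _).2 ⟨_, rfl⟩).symm

theorem exact_cocycles1Pull (k2i : Function.Injective (k.pull2 M))
    (e1 : Function.Exact (k.pull1 M) (h.pull1 M)) :
    Function.Exact (k.cocycles1Pull M) (h.cocycles1Pull M) := by
  intro z
  constructor
  · intro hz
    have h1 : h.pull1 M (z : L1 P' →ₗ[B'] M) = 0 := congrArg Subtype.val hz
    obtain ⟨φ, hφ⟩ := (e1 _).1 h1
    have hφZ : φ ∈ cocycles1 P'' M := by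
      rw [LinearMap.mem_ker]
      apply k2i
      rw [PresHom.pull2_d2Star, hφ, map_zero]
      exact z.2
    exact ⟨⟨φ, hφZ⟩, Subtype.ext hφ⟩
  · rintro ⟨y, rfl⟩
    apply Subtype.ext
    rw [PresHom.cocycles1Pull_coe, PresHom.cocycles1Pull_coe]
    exact (e1 _).2 ⟨_, rfl⟩

theorem exact_Q1pull (h0s : Function.Surjective (h.pull0 M))
    (e1 : Function.Exact (k.pull1 M) (h.pull1 M)) :
    Function.Exact (Q1pull k M) (Q1pull h M) := by
  intro y
  constructor
  · intro hy
    obtain ⟨c, rfl⟩ := Submodule.Quotient.mk_surjective _ y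
    rw [Q1pull_mk, Submodule.Quotient.mk_eq_zero] at hy
    obtain ⟨χ, hχ⟩ := hy
    obtain ⟨χ', rfl⟩ := h0s χ
    have h1 : h.pull1 M (c - d1Star P' M χ') = 0 := by
      rw [map_sub, PresHom.pull1_d1Star, hχ, sub_self]
    obtain ⟨φ, hφ⟩ := (e1 _).1 h1
    refine ⟨Submodule.Quotient.mk φ, ?_⟩
    rw [Q1pull_mk, hφ, Submodule.Quotient.eq]
    refine ⟨-χ', ?_⟩
    rw [map_neg]
    abel
  · rintro ⟨x, rfl⟩
    obtain ⟨φ, rfl⟩ := Submodule.Quotient.mk_surjective _ x
    rw [Q1pull_mk, Q1pull_mk, (e1 _).2 ⟨_, rfl⟩, Submodule.Quotient.mk_zero]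

theorem exists_delta0 (h0s : Function.Surjective (h.pull0 M))
    (k1i : Function.Injective (k.pull1 M)) (k2i : Function.Injective (k.pull2 M))
    (e0 : Function.Exact (k.pull0 M) (h.pull0 M))
    (e1 : Function.Exact (k.pull1 M) (h.pull1 M)) :
    ∃ δ₀ : T0 P M →+ T1 P'' M,
      Function.Exact (h.T0pull M) δ₀ ∧ Function.Exact δ₀ (k.T1pull M) := by
  obtain ⟨δ, hδ1, hδ2⟩ := ThreeTerm.snake (R := ℤ)
    (toZ (dZ P'' M)) (toZ (dZ P' M)) (toZ (dZ P M))
    (toZ (k.pull0 M)) (toZ (h.pull0 M)) e0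
    (toZ (k.cocycles1Pull M)) (toZ (h.cocycles1Pull M)) (exact_cocycles1Pull h k M k2i e1)
    (by
      refine LinearMap.ext fun φ => ?_
      apply Subtype.ext
      exact k.pull1_d1Star M φ)
    (by
      refine LinearMap.ext fun φ => ?_
      apply Subtype.ext
      exact h.pull1_d1Star M φ)
    (toZ (LinearMap.ker (d1Star P' M)).subtype) (exact_subtype_dZ P' M)
    (toZ (LinearMap.ker (d1Star P M)).subtype) (exact_subtype_dZ P M)
    (toZ (coboundaries1 P'' M).mkQ) (exact_dZ_mkQ P'' M)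
    (toZ (coboundaries1 P' M).mkQ) (exact_dZ_mkQ P' M)
    h0s
    (by
      intro x y hxy
      apply Subtype.ext
      apply k1i
      exact congrArg Subtype.val hxy)
    (toZ (h.T0pull M))
    (by
      refine LinearMap.ext fun x => ?_
      rfl)
    Subtype.val_injective
    (toZ (k.T1pull M))
    (by
      refine LinearMap.ext fun c => ?_
      rfl)
    (Submodule.mkQ_surjective _)
  exact ⟨δ.toAddMonoidHom, hδ1, hδ2⟩

theorem exists_delta1 (h0s : Function.Surjective (h.pull0 M))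
    (h1s : Function.Surjective (h.pull1 M)) (k2i : Function.Injective (k.pull2 M))
    (e1 : Function.Exact (k.pull1 M) (h.pull1 M))
    (e2 : Function.Exact (k.pull2 M) (h.pull2 M)) :
    ∃ δ₁ : T1 P M →+ T2 P'' M,
      Function.Exact (h.T1pull M) δ₁ ∧ Function.Exact δ₁ (k.T2pull M) := by
  obtain ⟨δ, hδ1, hδ2⟩ := ThreeTerm.snake (R := ℤ)
    (toZ (d2Q P'' M)) (toZ (d2Q P' M)) (toZ (d2Q P M))
    (toZ (Q1pull k M)) (toZ (Q1pull h M)) (exact_Q1pull h k M h0s e1)
    (toZ (k.pull2 M)) (toZ (h.pull2 M)) e2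
    (by
      refine LinearMap.ext fun y => ?_
      obtain ⟨c, rfl⟩ := Submodule.Quotient.mk_surjective _ y
      exact k.pull2_d2Star M c)
    (by
      refine LinearMap.ext fun y => ?_
      obtain ⟨c, rfl⟩ := Submodule.Quotient.mk_surjective _ y
      exact h.pull2_d2Star M c)
    (toZ (T1toQ1 P' M)) (exact_T1toQ1_d2Q P' M)
    (toZ (T1toQ1 P M)) (exact_T1toQ1_d2Q P M)
    (toZ (LinearMap.range (d2Star P'' M)).mkQ) (exact_d2Q_mkQ P'' M)
    (toZ (LinearMap.range (d2Star P' M)).mkQ) (exact_d2Q_mkQ P' M)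
    (by
      intro y
      obtain ⟨c, rfl⟩ := Submodule.Quotient.mk_surjective _ y
      obtain ⟨c', rfl⟩ := h1s c
      exact ⟨Submodule.Quotient.mk c', rfl⟩)
    k2i
    (toZ (h.T1pull M))
    (by
      refine LinearMap.ext fun x => ?_
      obtain ⟨z, rfl⟩ := Submodule.Quotient.mk_surjective _ x
      change Q1pull h M (T1toQ1 P' M (Submodule.Quotient.mk z)) =
        T1toQ1 P M (h.T1pull M (Submodule.Quotient.mk z))
      rw [T1toQ1_mk, Q1pull_mk, T1pull_mk, T1toQ1_mk, PresHom.cocycles1Pull_coe])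
    (T1toQ1_injective P M)
    (toZ (k.T2pull M))
    (by
      refine LinearMap.ext fun φ => ?_
      change k.T2pull M (Submodule.Quotient.mk φ) = Submodule.Quotient.mk (k.pull2 M φ)
      rw [T2pull_mk])
    (Submodule.mkQ_surjective _)
  exact ⟨δ.toAddMonoidHom, hδ1, hδ2⟩

/-- The nine-term exact sequence. -/
theorem nine_term (h0s : Function.Surjective (h.pull0 M)) (h1s : Function.Surjective (h.pull1 M))
    (k0i : Function.Injective (k.pull0 M)) (k1i : Function.Injective (k.pull1 M))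
    (k2i : Function.Injective (k.pull2 M))
    (e0 : Function.Exact (k.pull0 M) (h.pull0 M))
    (e1 : Function.Exact (k.pull1 M) (h.pull1 M))
    (e2 : Function.Exact (k.pull2 M) (h.pull2 M)) :
    Function.Injective (k.T0pull M) ∧
    Function.Exact (k.T0pull M) (h.T0pull M) ∧
    Function.Exact (k.T1pull M) (h.T1pull M) ∧
    Function.Exact (k.T2pull M) (h.T2pull M) ∧
    ∃ (δ₀ : T0 P M →+ T1 P'' M) (δ₁ : T1 P M →+ T2 P'' M),
      Function.Exact (h.T0pull M) δ₀ ∧ Function.Exact δ₀ (k.T1pull M) ∧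
      Function.Exact (h.T1pull M) δ₁ ∧ Function.Exact δ₁ (k.T2pull M) := by
  obtain ⟨δ₀, h01, h02⟩ := exists_delta0 h k M h0s k1i k2i e0 e1
  obtain ⟨δ₁, h11, h12⟩ := exists_delta1 h k M h0s h1s k2i e1 e2
  exact ⟨T0pull_injective k M k0i, T0_exact h k M k1i e0, T1_exact h k M h0s k2i e1,
    T2_exact h k M h1s e2, δ₀, δ₁, h01, h02, h11, h12⟩

end Nine

end Groth.Agent.Lib.Helper18.CotTLES
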