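import Mathlib
import Groth.Prelude.Def_CotT2
import Groth.Agent.Lib.Helper18.CotTApi

/-!
# The composite presentation `Q.comp P` for `A → B → C`: the morphisms `P → Q.comp P → Q`
and the (split) exactness of the dual complexes in degrees `0` and `1`
-/

set_option autoImplicit false
universe u v x w t w' t' m

open TensorProduct

namespace Groth.Agent.Lib.Helper18.CotTNine

open CotT Groth.Agent.Lib.Helper18.CotTApi

variable {A : Type u} {B : Type v} {C : Type x} {ι : Type w} {σ : Type t} {ι' : Type w'}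
  {σ' : Type t'}
variable [CommRing A] [CommRing B] [CommRing C] [Algebra A B] [Algebra B C] [Algebra A C]
  [IsScalarTower A B C]
variable (P : Algebra.Presentation A B ι σ) (Q : Algebra.Presentation B C ι' σ')

/-- The morphism `P → Q.comp P` (over `A = A`, `B → C`). -/
noncomputable def gHom : PresHom P (Q.comp P) where
  hom := Q.toGenerators.toComp P.toGenerators
  relVal s := Finsupp.single (Sum.inr s) 1
  jmap_relVal s := by
    rw [jmap_single, one_mul]
    change (Q.comp P).relation (Sum.inr s) =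
      (Q.toGenerators.toComp P.toGenerators).toAlgHom (P.relation s)
    rw [Algebra.Generators.toComp_toAlgHom]
    rfl

/-- The morphism `Q.comp P → Q` (over `A → B`, `C = C`). -/
noncomputable def fHom : PresHom (Q.comp P) Q where
  hom := Q.toGenerators.ofComp P.toGenerators
  relVal := Sum.elim (fun u => Finsupp.single u 1) (fun _ => 0)
  jmap_relVal s := by
    cases s with
    | inl u =>
      rw [Sum.elim_inl, jmap_single, one_mul]
      exact (Q.comp_aeval_relation_inl P u).symm
    | inr s =>
      rw [Sum.elim_inr, map_zero]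
      change 0 = (Q.toGenerators.ofComp P.toGenerators).toAlgHom
        (MvPolynomial.rename Sum.inr (P.relation s))
      rw [Algebra.Generators.toAlgHom_ofComp_rename]
      have h0 : algebraMap P.toGenerators.Ring B (P.relation s) = 0 := P.relation_mem_ker s
      rw [h0, map_zero]

theorem gHom_relVal (s : σ) : (gHom P Q).relVal s = Finsupp.single (Sum.inr s) 1 := rfl

theorem fHom_relVal_inl (u : σ') : (fHom P Q).relVal (Sum.inl u) = Finsupp.single u 1 := rfl

theorem fHom_relVal_inr (s : σ) : (fHom P Q).relVal (Sum.inr s) = 0 := rfl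

theorem gHom_ringHom (r : P.toExtension.Ring) :
    (gHom P Q).ringHom r = MvPolynomial.rename Sum.inr (r : MvPolynomial ι A) := by
  change (Q.toGenerators.toComp P.toGenerators).toAlgHom r = _
  rw [Algebra.Generators.toComp_toAlgHom]

theorem fHom_ringHom_rename (r : P.toExtension.Ring) :
    (fHom P Q).ringHom (MvPolynomial.rename Sum.inr (r : MvPolynomial ι A)) =
      MvPolynomial.C (algebraMap P.toExtension.Ring B r) :=
  Algebra.Generators.toAlgHom_ofComp_rename Q.toGenerators P.toGenerators r

theorem fHom_ringHom_surjective : Function.Surjective (fHom P Q).ringHom :=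
  Algebra.Generators.toAlgHom_ofComp_surjective Q.toGenerators P.toGenerators

/-! ### Degree 1 -/

theorem L1basis_eq_mkL1 {A₀ : Type*} {B₀ : Type*} {ι₀ σ₀ : Type*} [CommRing A₀] [CommRing B₀]
    [Algebra A₀ B₀] (P₀ : Algebra.Presentation A₀ B₀ ι₀ σ₀) (s : σ₀) :
    L1basis P₀ s = mkL1 P₀ (Finsupp.single s 1) := by
  rw [L1basis_apply, mkL1_apply]

theorem gL1_basis (s : σ) : (gHom P Q).L1map (L1basis P s) = L1basis (Q.comp P) (Sum.inr s) := by
  rw [L1basis_eq_mkL1, L1basis_eq_mkL1, L1map_mkL1, PresHom.relModMap_single, map_one, one_smul,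
    gHom_relVal]

theorem fL1_basis_inl (u : σ') :
    (fHom P Q).L1map (L1basis (Q.comp P) (Sum.inl u)) = L1basis Q u := by
  rw [L1basis_eq_mkL1, L1basis_eq_mkL1, L1map_mkL1, PresHom.relModMap_single, map_one, one_smul,
    fHom_relVal_inl]

theorem fL1_basis_inr (s : σ) :
    (fHom P Q).L1map (L1basis (Q.comp P) (Sum.inr s)) = 0 := by
  rw [L1basis_eq_mkL1, L1map_mkL1, PresHom.relModMap_single, map_one, one_smul,
    fHom_relVal_inr, map_zero]

variable (M : Type m) [AddCommGroup M] [Module C M] [Module B M] [IsScalarTower B C M]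

theorem F1inj : Function.Injective ((fHom P Q).pull1 M) := by
  intro ψ ψ' h
  refine (L1basis Q).ext fun u => ?_
  have h1 := LinearMap.congr_fun h (L1basis (Q.comp P) (Sum.inl u))
  rw [PresHom.pull1_apply, PresHom.pull1_apply, fL1_basis_inl] at h1
  exact h1

theorem F1comp (ψ : L1 Q →ₗ[C] M) : (gHom P Q).pull1 M ((fHom P Q).pull1 M ψ) = 0 := by
  refine (L1basis P).ext fun s => ?_
  rw [PresHom.pull1_apply, PresHom.pull1_apply, gL1_basis, fL1_basis_inr, map_zero,
    LinearMap.zero_apply]

theorem F1ex : Function.Exact ((fHom P Q).pull1 M) ((gHom P Q).pull1 M) := by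
  intro φ
  constructor
  · intro h
    refine ⟨(L1basis Q).constr C (fun u => φ (L1basis (Q.comp P) (Sum.inl u))), ?_⟩
    refine (L1basis (Q.comp P)).ext fun s => ?_
    cases s with
    | inl u =>
      rw [PresHom.pull1_apply, fL1_basis_inl, Module.Basis.constr_basis]
    | inr s =>
      rw [PresHom.pull1_apply, fL1_basis_inr, map_zero]
      have h1 := LinearMap.congr_fun h (L1basis P s)
      rw [PresHom.pull1_apply, gL1_basis, LinearMap.zero_apply] at h1
      exact h1.symm
  · rintro ⟨ψ, rfl⟩
    exact F1comp P Q M ψ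

theorem F1surj : Function.Surjective ((gHom P Q).pull1 M) := by
  intro φ
  refine ⟨(L1basis (Q.comp P)).constr C (Sum.elim (fun _ => 0) (fun s => φ (L1basis P s))), ?_⟩
  refine (L1basis P).ext fun s => ?_
  rw [PresHom.pull1_apply, gL1_basis, Module.Basis.constr_basis, Sum.elim_inr]

/-! ### Degree 0 -/

theorem basis0_eq {A₀ : Type*} {B₀ : Type*} {ι₀ σ₀ : Type*} [CommRing A₀] [CommRing B₀]
    [Algebra A₀ B₀] (P₀ : Algebra.Presentation A₀ B₀ ι₀ σ₀) (i : ι₀) :
    P₀.cotangentSpaceBasis i = ((1 : B₀) ⊗ₜ[P₀.toExtension.Ring]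
      KaehlerDifferential.D A₀ P₀.toExtension.Ring (MvPolynomial.X i : MvPolynomial ι₀ A₀) :
        L0 P₀) :=
  Algebra.Generators.cotangentSpaceBasis_apply _ i

theorem gL0_basis (i : ι) :
    (gHom P Q).L0map (P.cotangentSpaceBasis i) = (Q.comp P).cotangentSpaceBasis (Sum.inr i) := by
  rw [basis0_eq, basis0_eq, L0map_one_tmul_D, gHom_ringHom, MvPolynomial.rename_X]

theorem fHom_ringHom_X_inl (k : ι') :
    (fHom P Q).ringHom (MvPolynomial.X (Sum.inl k) : MvPolynomial (ι' ⊕ ι) A) =
      (MvPolynomial.X k : MvPolynomial ι' B) := by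
  change (Q.toGenerators.ofComp P.toGenerators).toAlgHom (MvPolynomial.X (Sum.inl k)) = _
  rw [Algebra.Generators.Hom.toAlgHom_X]
  rfl

theorem fHom_ringHom_X_inr (i : ι) :
    (fHom P Q).ringHom (MvPolynomial.X (Sum.inr i) : MvPolynomial (ι' ⊕ ι) A) =
      (MvPolynomial.C (P.val i) : MvPolynomial ι' B) := by
  change (Q.toGenerators.ofComp P.toGenerators).toAlgHom (MvPolynomial.X (Sum.inr i)) = _
  rw [Algebra.Generators.Hom.toAlgHom_X]
  rfl

theorem fL0_basis_inl (k : ι') :
    (fHom P Q).L0map ((Q.comp P).cotangentSpaceBasis (Sum.inl k)) = Q.cotangentSpaceBasis k := by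
  rw [basis0_eq, basis0_eq, L0map_one_tmul_D, fHom_ringHom_X_inl]

theorem fL0_basis_inr (i : ι) :
    (fHom P Q).L0map ((Q.comp P).cotangentSpaceBasis (Sum.inr i)) = 0 := by
  rw [basis0_eq, L0map_one_tmul_D, fHom_ringHom_X_inr]
  have h0 : KaehlerDifferential.D B Q.toExtension.Ring
      (MvPolynomial.C (P.val i) : MvPolynomial ι' B) = 0 :=
    (KaehlerDifferential.D B Q.toExtension.Ring).map_algebraMap (P.val i)
  rw [h0, TensorProduct.tmul_zero]

theorem F0inj : Function.Injective ((fHom P Q).pull0 M) := by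
  intro ψ ψ' h
  refine (Q.cotangentSpaceBasis).ext fun u => ?_
  have h1 := LinearMap.congr_fun h ((Q.comp P).cotangentSpaceBasis (Sum.inl u))
  rw [PresHom.pull0_apply, PresHom.pull0_apply, fL0_basis_inl] at h1
  exact h1

theorem F0comp (ψ : L0 Q →ₗ[C] M) : (gHom P Q).pull0 M ((fHom P Q).pull0 M ψ) = 0 := by
  refine (P.cotangentSpaceBasis).ext fun s => ?_
  rw [PresHom.pull0_apply, PresHom.pull0_apply, gL0_basis, fL0_basis_inr, map_zero,
    LinearMap.zero_apply]

theorem F0ex : Function.Exact ((fHom P Q).pull0 M) ((gHom P Q).pull0 M) := by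
  intro φ
  constructor
  · intro h
    refine ⟨(Q.cotangentSpaceBasis).constr C
      (fun u => φ ((Q.comp P).cotangentSpaceBasis (Sum.inl u))), ?_⟩
    refine ((Q.comp P).cotangentSpaceBasis).ext fun s => ?_
    cases s with
    | inl u =>
      rw [PresHom.pull0_apply, fL0_basis_inl, Module.Basis.constr_basis]
    | inr s =>
      rw [PresHom.pull0_apply, fL0_basis_inr, map_zero]
      have h1 := LinearMap.congr_fun h (P.cotangentSpaceBasis s)
      rw [PresHom.pull0_apply, gL0_basis, LinearMap.zero_apply] at h1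
      exact h1.symm
  · rintro ⟨ψ, rfl⟩
    exact F0comp P Q M ψ

theorem F0surj : Function.Surjective ((gHom P Q).pull0 M) := by
  intro φ
  refine ⟨((Q.comp P).cotangentSpaceBasis).constr C
    (Sum.elim (fun _ => 0) (fun s => φ (P.cotangentSpaceBasis s))), ?_⟩
  refine (P.cotangentSpaceBasis).ext fun s => ?_
  rw [PresHom.pull0_apply, gL0_basis, Module.Basis.constr_basis, Sum.elim_inr]

end Groth.Agent.Lib.Helper18.CotTNine
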