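import Mathlib
import Groth.Prelude.Def_CotT2
import Groth.Agent.Lib.Helper18.CotTApi
import Groth.Agent.Lib.Helper18.CotTNine1

/-!
# The composite presentation: relations with coefficients in the big polynomial ring

`P3a_plain`: a relation among the `rename inr (r s)` with coefficients in `A[x, y]` is a combination
of relations among the `r s` with coefficients in `A[y]` (freeness of `A[x,y]` over `A[y]`).
-/

set_option autoImplicit false
universe u v x w t w' t' m

open TensorProduct

namespace Groth.Agent.Lib.Helper18.CotTNine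

open CotT Groth.Agent.Lib.Helper18.CotTApi MvPolynomial

section Plain

variable {A : Type u} [CommRing A] {ι : Type w} {ι' : Type w'} {σ : Type t}

theorem sumAlgEquiv_rename_inr (p : MvPolynomial ι A) :
    sumAlgEquiv A ι' ι (rename Sum.inr p) = C p := by
  have h := DFunLike.congr_fun
    (sumAlgEquiv_comp_rename_inr (R := A) (S₁ := ι') (S₂ := ι)) p
  simpa using h

theorem rel_coeff (r : σ → MvPolynomial ι A) (m : ι' →₀ ℕ)
    (v : σ →₀ MvPolynomial (ι' ⊕ ι) A) :
    ((v.mapRange (fun y => coeff m (sumAlgEquiv A ι' ι y)) (by simp)).sum fun s a => a * r s) =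
      coeff m (sumAlgEquiv A ι' ι (v.sum fun s a => a * rename Sum.inr (r s))) := by
  induction v using Finsupp.induction_linear with
  | zero => simp
  | add a b ha hb =>
    rw [Finsupp.mapRange_add (fun x y => by rw [map_add, coeff_add]),
      Finsupp.sum_add_index' (fun s => zero_mul _) (fun s x y => add_mul _ _ _), ha, hb,
      Finsupp.sum_add_index' (fun s => zero_mul _) (fun s x y => add_mul _ _ _), map_add,
      coeff_add]
  | single s a =>
    rw [Finsupp.mapRange_single, Finsupp.sum_single_index (zero_mul _),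
      Finsupp.sum_single_index (zero_mul _), map_mul, sumAlgEquiv_rename_inr, mul_comm _ (C (r s)),
      coeff_C_mul, mul_comm]

theorem P3a_plain (r : σ → MvPolynomial ι A) (v : σ →₀ MvPolynomial (ι' ⊕ ι) A)
    (hv : (v.sum fun s a => a * rename Sum.inr (r s)) = 0) :
    v ∈ Submodule.span (MvPolynomial (ι' ⊕ ι) A)
      {y | ∃ q : σ →₀ MvPolynomial ι A, (q.sum fun s a => a * r s) = 0 ∧
        y = q.mapRange (rename Sum.inr : MvPolynomial ι A → MvPolynomial (ι' ⊕ ι) A)
          (map_zero _)} := by
  classical
  have hq : ∀ m : ι' →₀ ℕ,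
      ((v.mapRange (fun y => coeff m (sumAlgEquiv A ι' ι y)) (by simp)).sum
        fun s a => a * r s) = 0 := by
    intro m
    rw [rel_coeff, hv, map_zero, coeff_zero]
  have hv' : v = ∑ m ∈ v.support.biUnion (fun s => (sumAlgEquiv A ι' ι (v s)).support),
      (sumAlgEquiv A ι' ι).symm (monomial m 1) •
        (v.mapRange (fun y => coeff m (sumAlgEquiv A ι' ι y)) (by simp)).mapRange
          (rename Sum.inr : MvPolynomial ι A → MvPolynomial (ι' ⊕ ι) A) (map_zero _) := by
    ext1 s
    rw [Finsupp.finset_sum_apply]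
    simp only [Finsupp.smul_apply, Finsupp.mapRange_apply, smul_eq_mul]
    apply (sumAlgEquiv A ι' ι).injective
    rw [map_sum]
    simp only [map_mul, AlgEquiv.apply_symm_apply, sumAlgEquiv_rename_inr]
    have h1 : ∀ m : ι' →₀ ℕ, monomial m (1 : MvPolynomial ι A) *
        C (coeff m (sumAlgEquiv A ι' ι (v s))) =
        monomial m (coeff m (sumAlgEquiv A ι' ι (v s))) := by
      intro m; rw [mul_comm, C_mul_monomial, mul_one]
    simp only [h1]
    by_cases hs : s ∈ v.support
    · have hsub : (sumAlgEquiv A ι' ι (v s)).support ⊆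
          v.support.biUnion (fun s => (sumAlgEquiv A ι' ι (v s)).support) :=
        Finset.subset_biUnion_of_mem (fun s => (sumAlgEquiv A ι' ι (v s)).support) hs
      rw [← Finset.sum_subset hsub]
      · exact (sumAlgEquiv A ι' ι (v s)).as_sum
      · intro m _ hm
        rw [notMem_support_iff.1 hm, monomial_zero]
    · have h0 : v s = 0 := Finsupp.notMem_support_iff.1 hs
      simp [h0]
  rw [hv']
  exact Submodule.sum_mem _ fun m _ => Submodule.smul_mem _ _
    (Submodule.subset_span ⟨_, hq m, rfl⟩)

theorem P3a_plain' (r : σ → MvPolynomial ι A)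
    (N : Submodule (MvPolynomial (ι' ⊕ ι) A) (σ →₀ MvPolynomial (ι' ⊕ ι) A))
    (hN : ∀ q : σ →₀ MvPolynomial ι A, (q.sum fun s a => a * r s) = 0 →
      q.mapRange (rename Sum.inr : MvPolynomial ι A → MvPolynomial (ι' ⊕ ι) A) (map_zero _) ∈ N)
    (v : σ →₀ MvPolynomial (ι' ⊕ ι) A)
    (hv : (v.sum fun s a => a * rename Sum.inr (r s)) = 0) : v ∈ N :=
  Submodule.span_le.2 (by rintro _ ⟨q, hq, rfl⟩; exact hN q hq) (P3a_plain r v hv)

end Plain

section Rel

variable {A : Type u} {B : Type v} {C : Type x} {ι : Type w} {σ : Type t} {ι' : Type w'}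
  {σ' : Type t'}
variable [CommRing A] [CommRing B] [CommRing C] [Algebra A B] [Algebra B C] [Algebra A C]
  [IsScalarTower A B C]
variable (P : Algebra.Presentation A B ι σ) (Q : Algebra.Presentation B C ι' σ')

/-- `g.relModMap q` is `q` with coefficients renamed, placed on the `inr` coordinates. -/
theorem gHom_relModMap (q : relMod P) :
    (gHom P Q).relModMap q =
      (q.mapRange ((gHom P Q).ringHom) (map_zero _)).mapDomain Sum.inr := by
  induction q using Finsupp.induction_linear with
  | zero => simp
  | add a b ha hb =>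
    rw [map_add, ha, hb, Finsupp.mapRange_add (fun x y => map_add _ x y), Finsupp.mapDomain_add]
  | single s a =>
    rw [PresHom.relModMap_single, gHom_relVal, Finsupp.mapRange_single,
      Finsupp.mapDomain_single, Finsupp.smul_single, smul_eq_mul, mul_one]

theorem fHom_relModMap_mapDomain_inr (c : σ →₀ (Q.comp P).toExtension.Ring) :
    (fHom P Q).relModMap (c.mapDomain Sum.inr) = 0 := by
  induction c using Finsupp.induction_linear with
  | zero => simp
  | add a b ha hb => rw [Finsupp.mapDomain_add, map_add, ha, hb, add_zero]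
  | single s a =>
    rw [Finsupp.mapDomain_single, PresHom.relModMap_single, fHom_relVal_inr, smul_zero]

theorem fHom_relModMap_apply (w : relMod (Q.comp P)) (u : σ') :
    (fHom P Q).relModMap w u = (fHom P Q).ringHom (w (Sum.inl u)) := by
  classical
  induction w using Finsupp.induction_linear with
  | zero => simp
  | add a b ha hb => rw [map_add, Finsupp.add_apply, ha, hb, Finsupp.add_apply, map_add]
  | single s a =>
    rw [PresHom.relModMap_single]
    cases s with
    | inl u' =>
      rw [fHom_relVal_inl, Finsupp.smul_single, smul_eq_mul, mul_one, Finsupp.single_apply,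
        Finsupp.single_apply]
      by_cases h : u' = u
      · rw [if_pos h, if_pos (by rw [h])]
      · rw [if_neg h, if_neg (fun h' => h (Sum.inl_injective h')), map_zero]
    | inr s' =>
      rw [fHom_relVal_inr, smul_zero, Finsupp.zero_apply, Finsupp.single_apply,
        if_neg (by simp), map_zero]

theorem fHom_relModMap_surjective : Function.Surjective (fHom P Q).relModMap := by
  intro y
  induction y using Finsupp.induction_linear with
  | zero => exact ⟨0, map_zero _⟩
  | add a b ha hb =>
    obtain ⟨a', rfl⟩ := ha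
    obtain ⟨b', rfl⟩ := hb
    exact ⟨a' + b', map_add _ _ _⟩
  | single u b =>
    obtain ⟨b', rfl⟩ := fHom_ringHom_surjective P Q b
    refine ⟨Finsupp.single (Sum.inl u) b', ?_⟩
    rw [PresHom.relModMap_single, fHom_relVal_inl, Finsupp.smul_single, smul_eq_mul, mul_one]

/-- The kernel of `R₃ → R_Q` is generated by the relations of `P`. -/
theorem ker_fHom_ringHom (y : (Q.comp P).toExtension.Ring) (hy : (fHom P Q).ringHom y = 0) :
    ∃ c : σ →₀ (Q.comp P).toExtension.Ring, jmap (Q.comp P) (c.mapDomain Sum.inr) = y := by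
  have h1 : y ∈ RingHom.ker (Q.toGenerators.ofComp P.toGenerators).toAlgHom := hy
  rw [← Algebra.Generators.map_toComp_ker, ← P.span_range_relation_eq_ker, Ideal.map_span] at h1
  have h2 : y ∈ Submodule.span (Q.comp P).toExtension.Ring
      (Set.range fun s : σ => rel (Q.comp P) (Sum.inr s)) := by
    refine Submodule.span_mono ?_ h1
    rintro _ ⟨_, ⟨s, rfl⟩, rfl⟩
    refine ⟨s, ?_⟩
    change MvPolynomial.rename Sum.inr (P.relation s) =
      (Q.toGenerators.toComp P.toGenerators).toAlgHom (P.relation s)
    rw [Algebra.Generators.toComp_toAlgHom]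
  obtain ⟨c, hc⟩ := Finsupp.mem_span_range_iff_exists_finsupp.1 h2
  refine ⟨c, ?_⟩
  rw [← hc]
  change Finsupp.linearCombination _ (rel (Q.comp P)) (c.mapDomain Sum.inr) = _
  rw [Finsupp.linearCombination_mapDomain, Finsupp.linearCombination_apply]
  rfl

theorem fHom_relKerMap_surjective : Function.Surjective (fHom P Q).relKerMap := by
  intro q
  obtain ⟨y, hy⟩ := fHom_relModMap_surjective P Q (q : relMod Q)
  have h1 : (fHom P Q).ringHom (jmap (Q.comp P) y) = 0 := by
    rw [← PresHom.jmap_relModMap, hy]
    exact q.2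
  obtain ⟨c, hc⟩ := ker_fHom_ringHom P Q _ h1
  refine ⟨⟨y - c.mapDomain Sum.inr, ?_⟩, ?_⟩
  · change jmap (Q.comp P) (y - c.mapDomain Sum.inr) = 0
    rw [map_sub, hc, sub_self]
  · apply Subtype.ext
    rw [PresHom.relKerMap_coe]
    exact (map_sub (fHom P Q).relModMap y (c.mapDomain Sum.inr)).trans
      (by rw [fHom_relModMap_mapDomain_inr, sub_zero, hy])

/-- Trivial relations of `Q` lift to trivial relations of `Q.comp P`. -/
theorem exists_trivRel_lift (y : relMod Q) (hy : y ∈ trivRel Q) :
    ∃ t ∈ trivRel (Q.comp P), (fHom P Q).relModMap t = y := by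
  induction hy using Submodule.span_induction with
  | mem y hy =>
    obtain ⟨a, b, rfl⟩ := hy
    obtain ⟨a', rfl⟩ := fHom_relModMap_surjective P Q a
    obtain ⟨b', rfl⟩ := fHom_relModMap_surjective P Q b
    refine ⟨jmap (Q.comp P) a' • b' - jmap (Q.comp P) b' • a',
      Submodule.subset_span ⟨a', b', rfl⟩, ?_⟩
    rw [map_sub, LinearMap.map_smulₛₗ, LinearMap.map_smulₛₗ, PresHom.jmap_relModMap,
      PresHom.jmap_relModMap]
  | zero => exact ⟨0, Submodule.zero_mem _, map_zero _⟩
  | add a b _ _ ha hb =>
    obtain ⟨ta, hta, rfl⟩ := ha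
    obtain ⟨tb, htb, rfl⟩ := hb
    exact ⟨ta + tb, Submodule.add_mem _ hta htb, map_add _ _ _⟩
  | smul r a _ ha =>
    obtain ⟨ta, hta, rfl⟩ := ha
    obtain ⟨r', rfl⟩ := fHom_ringHom_surjective P Q r
    exact ⟨r' • ta, Submodule.smul_mem _ _ hta, LinearMap.map_smulₛₗ _ _ _⟩

/-- The span of the images of the relations of `P` in the free module of `Q.comp P`. -/
noncomputable def NN : Submodule (Q.comp P).toExtension.Ring (relMod (Q.comp P)) :=
  Submodule.span _ (Set.range fun q : relKer P => (gHom P Q).relModMap (q : relMod P))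

/-- Relations supported on the `inr` coordinates come from relations of `P`. -/
theorem P3a (v : σ →₀ (Q.comp P).toExtension.Ring)
    (hv : jmap (Q.comp P) (v.mapDomain Sum.inr) = 0) : v.mapDomain Sum.inr ∈ NN P Q := by
  have hv0 : jmap (Q.comp P) (v.mapDomain Sum.inr) =
      v.sum fun s a => a • rel (Q.comp P) (Sum.inr s) := by
    change Finsupp.linearCombination _ (rel (Q.comp P)) (v.mapDomain Sum.inr) = _
    rw [Finsupp.linearCombination_mapDomain, Finsupp.linearCombination_apply]
    rfl
  rw [hv0] at hv
  have key : v ∈ (NN P Q).comap (Finsupp.lmapDomain (Q.comp P).toExtension.Ring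
        (Q.comp P).toExtension.Ring (Sum.inr : σ → σ' ⊕ σ)) := by
    refine P3a_plain' (A := A) (ι := ι) (ι' := ι') (σ := σ)
      (fun s => (rel P s : MvPolynomial ι A)) _ ?_ v hv
    intro q hq
    have hqk : jmap P (show relMod P from q) = 0 := by
      change Finsupp.linearCombination _ (rel P) _ = 0
      rw [Finsupp.linearCombination_apply]
      exact hq
    refine Submodule.subset_span ⟨⟨(show relMod P from q), hqk⟩, ?_⟩
    change (gHom P Q).relModMap (show relMod P from q) = Finsupp.mapDomain Sum.inr _
    rw [gHom_relModMap]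
    congr 1
    refine Finsupp.ext fun s => ?_
    exact gHom_ringHom P Q _
  exact key

end Rel

end Groth.Agent.Lib.Helper18.CotTNine
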