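import Mathlib
import Groth.Prelude.Def_CotT2
import Groth.Agent.Lib.Helper18.CotTApi
import Groth.Agent.Lib.Helper18.CotTNine1
import Groth.Agent.Lib.Helper18.CotTNine2

/-!
# The composite presentation: left exactness of the dual complexes in degree `2`

`F2inj`, `F2comp`, `F2ex`: `0 → Hom(L₂(Q), M) → Hom(L₂(Q.comp P), M) → Hom(L₂(P), M)` is exact.
-/

set_option autoImplicit false
universe u v x w t w' t' m

open TensorProduct

namespace Groth.Agent.Lib.Helper18.CotTNine

open CotT Groth.Agent.Lib.Helper18.CotTApi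

section Vanish

variable {A : Type u} {B : Type v} {ι : Type w} {σ : Type t}
variable [CommRing A] [CommRing B] [Algebra A B]
variable (P : Algebra.Presentation A B ι σ)
variable {M : Type m} [AddCommGroup M] [Module B M]

/-- The relations on which `ψ ∘ mkL2` vanishes, as a submodule of the free module `F`. -/
noncomputable def vanish (ψ : L2 P →ₗ[B] M) : Submodule P.toExtension.Ring (relMod P) where
  carrier := {y | ∃ hy : y ∈ relKer P, ψ (mkL2 P ⟨y, hy⟩) = 0}
  zero_mem' := by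
    refine ⟨Submodule.zero_mem _, ?_⟩
    have h0 : (⟨0, Submodule.zero_mem _⟩ : relKer P) = 0 := rfl
    rw [h0, map_zero, map_zero]
  add_mem' := by
    rintro a b ⟨ha, ha'⟩ ⟨hb, hb'⟩
    refine ⟨Submodule.add_mem _ ha hb, ?_⟩
    have h0 : (⟨a + b, Submodule.add_mem _ ha hb⟩ : relKer P) = ⟨a, ha⟩ + ⟨b, hb⟩ := rfl
    rw [h0, map_add, map_add, ha', hb', add_zero]
  smul_mem' := by
    rintro r a ⟨ha, ha'⟩
    refine ⟨Submodule.smul_mem _ r ha, ?_⟩
    have h0 : (⟨r • a, Submodule.smul_mem _ r ha⟩ : relKer P) = r • ⟨a, ha⟩ := rfl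
    rw [h0, mkL2_smul, map_smul, ha', smul_zero]

theorem mem_vanish_iff (ψ : L2 P →ₗ[B] M) (q : relKer P) :
    (q : relMod P) ∈ vanish P ψ ↔ ψ (mkL2 P q) = 0 :=
  ⟨fun ⟨_, h⟩ => h, fun h => ⟨q.2, h⟩⟩

theorem trivRel_le_vanish (ψ : L2 P →ₗ[B] M) : trivRel P ≤ vanish P ψ := by
  intro y hy
  refine ⟨trivRel_le_relKer P hy, ?_⟩
  rw [mkL2_eq_zero P _ hy, map_zero]

end Vanish

variable {A : Type u} {B : Type v} {C : Type x} {ι : Type w} {σ : Type t} {ι' : Type w'}
  {σ' : Type t'}
variable [CommRing A] [CommRing B] [CommRing C] [Algebra A B] [Algebra B C] [Algebra A C]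
  [IsScalarTower A B C]
variable (P : Algebra.Presentation A B ι σ) (Q : Algebra.Presentation B C ι' σ')

/-- A relation of `Q.comp P` going to zero in `F_Q` is, modulo trivial relations, supported on the
relations of `P`. -/
theorem lemmaM (w : relMod (Q.comp P)) (hw : (fHom P Q).relModMap w = 0) :
    ∃ v : σ →₀ (Q.comp P).toExtension.Ring, w - v.mapDomain Sum.inr ∈ trivRel (Q.comp P) := by
  classical
  have h1 : ∀ u : σ', ∃ c : σ →₀ (Q.comp P).toExtension.Ring,
      jmap (Q.comp P) (c.mapDomain Sum.inr) = w (Sum.inl u) := by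
    intro u
    apply ker_fHom_ringHom
    rw [← fHom_relModMap_apply, hw, Finsupp.zero_apply]
  choose c hc using h1
  let vx : σ' ⊕ σ → (σ →₀ (Q.comp P).toExtension.Ring) :=
    Sum.elim (fun u => rel (Q.comp P) (Sum.inl u) • c u)
      (fun s => Finsupp.single s (w (Sum.inr s)))
  refine ⟨∑ y ∈ w.support, vx y, ?_⟩
  have key : w - (∑ y ∈ w.support, vx y).mapDomain Sum.inr =
      ∑ y ∈ w.support, (Finsupp.single y (w y) - (vx y).mapDomain Sum.inr) := by
    rw [Finset.sum_sub_distrib, ← Finsupp.mapDomain_finset_sum]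
    congr 1
    exact (Finsupp.sum_single w).symm
  rw [key]
  refine Submodule.sum_mem _ fun y _ => ?_
  cases y with
  | inl u =>
    have h2 : Finsupp.single (Sum.inl u : σ' ⊕ σ) (w (Sum.inl u)) -
        (vx (Sum.inl u)).mapDomain (Sum.inr : σ → σ' ⊕ σ) =
        jmap (Q.comp P) ((c u).mapDomain Sum.inr) • Finsupp.single (Sum.inl u) 1 -
          jmap (Q.comp P) (Finsupp.single (Sum.inl u) 1) • (c u).mapDomain Sum.inr := by
      rw [hc u, Finsupp.smul_single, smul_eq_mul, mul_one, jmap_single, one_mul]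
      change _ - Finsupp.mapDomain (Sum.inr : σ → σ' ⊕ σ) (rel (Q.comp P) (Sum.inl u) • c u) = _
      rw [Finsupp.mapDomain_smul]
    rw [h2]
    exact Submodule.subset_span ⟨_, _, rfl⟩
  | inr s =>
    have h2 : Finsupp.single (Sum.inr s : σ' ⊕ σ) (w (Sum.inr s)) -
        (vx (Sum.inr s)).mapDomain (Sum.inr : σ → σ' ⊕ σ) = 0 := by
      change _ - Finsupp.mapDomain (Sum.inr : σ → σ' ⊕ σ) (Finsupp.single s (w (Sum.inr s))) = 0
      rw [Finsupp.mapDomain_single, sub_self]
    rw [h2]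
    exact Submodule.zero_mem _

variable (M : Type m) [AddCommGroup M] [Module C M] [Module B M] [IsScalarTower B C M]

/-- The key point of exactness in degree 2. -/
theorem key2 (ψ₃ : L2 (Q.comp P) →ₗ[C] M) (h0 : (gHom P Q).pull2 M ψ₃ = 0)
    (q₃ : relKer (Q.comp P))
    (hq : (fHom P Q).relModMap (q₃ : relMod (Q.comp P)) ∈ trivRel Q) :
    ψ₃ (mkL2 (Q.comp P) q₃) = 0 := by
  have hNN : NN P Q ≤ vanish (Q.comp P) ψ₃ := by
    refine Submodule.span_le.2 ?_
    rintro _ ⟨q, rfl⟩
    refine ⟨((gHom P Q).relKerMap q).2, ?_⟩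
    have h1 := LinearMap.congr_fun h0 (mkL2 P q)
    rw [pull2_mkL2, LinearMap.zero_apply] at h1
    exact h1
  obtain ⟨t, ht, hft⟩ := exists_trivRel_lift P Q _ hq
  have hw : (fHom P Q).relModMap ((q₃ : relMod (Q.comp P)) - t) = 0 := by
    rw [map_sub, hft, sub_self]
  obtain ⟨v, hv⟩ := lemmaM P Q _ hw
  have hvk : jmap (Q.comp P) (v.mapDomain Sum.inr) = 0 := by
    have h1 : v.mapDomain Sum.inr =
        (q₃ : relMod (Q.comp P)) - t - ((q₃ : relMod (Q.comp P)) - t - v.mapDomain Sum.inr) := by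
      abel
    have h2 : (q₃ : relMod (Q.comp P)) - t - ((q₃ : relMod (Q.comp P)) - t - v.mapDomain Sum.inr)
        ∈ relKer (Q.comp P) :=
      Submodule.sub_mem _ (Submodule.sub_mem _ q₃.2 (trivRel_le_relKer _ ht))
        (trivRel_le_relKer _ hv)
    rw [← h1] at h2
    exact h2
  have h3 : t + ((q₃ : relMod (Q.comp P)) - t - v.mapDomain Sum.inr) + v.mapDomain Sum.inr ∈
      vanish (Q.comp P) ψ₃ :=
    Submodule.add_mem _ (Submodule.add_mem _ (trivRel_le_vanish _ _ ht)
      (trivRel_le_vanish _ _ hv)) (hNN (P3a P Q v hvk))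
  have h4 : t + ((q₃ : relMod (Q.comp P)) - t - v.mapDomain Sum.inr) + v.mapDomain Sum.inr =
      (q₃ : relMod (Q.comp P)) := by abel
  rw [h4] at h3
  exact (mem_vanish_iff _ _ q₃).1 h3

theorem key2_congr (ψ₃ : L2 (Q.comp P) →ₗ[C] M) (h0 : (gHom P Q).pull2 M ψ₃ = 0)
    (a b : relKer (Q.comp P)) (hab : (fHom P Q).relKerMap a = (fHom P Q).relKerMap b) :
    ψ₃ (mkL2 (Q.comp P) a) = ψ₃ (mkL2 (Q.comp P) b) := by
  rw [← sub_eq_zero, ← map_sub, ← map_sub]
  apply key2 P Q M ψ₃ h0
  have h1 : (fHom P Q).relModMap ((a - b : relKer (Q.comp P)) : relMod (Q.comp P)) = 0 := by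
    have h2 := congrArg Subtype.val hab
    rw [PresHom.relKerMap_coe, PresHom.relKerMap_coe] at h2
    rw [Submodule.coe_sub, map_sub, h2, sub_self]
  rw [h1]
  exact Submodule.zero_mem _

theorem F2inj : Function.Injective ((fHom P Q).pull2 M) := by
  intro ψ ψ' h
  refine hom_ext_L2 Q fun q => ?_
  obtain ⟨q', rfl⟩ := fHom_relKerMap_surjective P Q q
  have h1 := LinearMap.congr_fun h (mkL2 (Q.comp P) q')
  rw [pull2_mkL2, pull2_mkL2] at h1
  exact h1

theorem F2comp (ψ : L2 Q →ₗ[C] M) : (gHom P Q).pull2 M ((fHom P Q).pull2 M ψ) = 0 := by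
  refine hom_ext_L2 P fun q => ?_
  rw [pull2_mkL2, pull2_mkL2, LinearMap.zero_apply]
  have h1 : (fHom P Q).relKerMap ((gHom P Q).relKerMap q) = 0 := by
    apply Subtype.ext
    rw [PresHom.relKerMap_coe, PresHom.relKerMap_coe, gHom_relModMap,
      fHom_relModMap_mapDomain_inr]
    rfl
  rw [h1, map_zero, map_zero]

theorem F2ex : Function.Exact ((fHom P Q).pull2 M) ((gHom P Q).pull2 M) := by
  intro ψ₃
  constructor
  · intro h0
    have hsurj := fHom_relKerMap_surjective P Q
    have hG : ∀ q₃ : relKer (Q.comp P),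
        ψ₃ (mkL2 (Q.comp P) (Function.surjInv hsurj ((fHom P Q).relKerMap q₃))) =
          ψ₃ (mkL2 (Q.comp P) q₃) :=
      fun q₃ => key2_congr P Q M ψ₃ h0 _ _ (Function.surjInv_eq hsurj _)
    let G : relKer Q →+ M :=
      { toFun := fun q => ψ₃ (mkL2 (Q.comp P) (Function.surjInv hsurj q))
        map_zero' := by
          have h1 := key2_congr P Q M ψ₃ h0 (Function.surjInv hsurj 0) 0
            (by rw [Function.surjInv_eq hsurj, map_zero])
          rw [h1, map_zero, map_zero]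
        map_add' := fun a b => by
          rw [← map_add, ← map_add]
          apply key2_congr P Q M ψ₃ h0
          rw [map_add, Function.surjInv_eq hsurj, Function.surjInv_eq hsurj,
            Function.surjInv_eq hsurj] }
    have hGdef : ∀ q, G q = ψ₃ (mkL2 (Q.comp P) (Function.surjInv hsurj q)) := fun _ => rfl
    have hs : ∀ (r : Q.toExtension.Ring) (q : relKer Q),
        G (r • q) = algebraMap Q.toExtension.Ring C r • G q := by
      intro r q
      obtain ⟨r', rfl⟩ := fHom_ringHom_surjective P Q r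
      rw [hGdef, hGdef]
      have h1 : ψ₃ (mkL2 (Q.comp P) (Function.surjInv hsurj ((fHom P Q).ringHom r' • q))) =
          ψ₃ (mkL2 (Q.comp P) (r' • Function.surjInv hsurj q)) := by
        apply key2_congr P Q M ψ₃ h0
        rw [LinearMap.map_smulₛₗ, Function.surjInv_eq hsurj, Function.surjInv_eq hsurj]
      rw [h1, mkL2_smul, map_smul]
      congr 1
      exact ((fHom P Q).algebraMap_ringHom r').symm
    have hz : ∀ q : relKer Q, (q : relMod Q) ∈ trivRel Q → G q = 0 := by
      intro q hq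
      rw [hGdef]
      apply key2 P Q M ψ₃ h0
      rw [← PresHom.relKerMap_coe, Function.surjInv_eq hsurj]
      exact hq
    refine ⟨liftL2 Q G hs hz, ?_⟩
    refine hom_ext_L2 (Q.comp P) fun q₃ => ?_
    rw [pull2_mkL2, liftL2_mkL2, hGdef, hG]
  · rintro ⟨ψ, rfl⟩
    exact F2comp P Q M ψ

end Groth.Agent.Lib.Helper18.CotTNine
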