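import Mathlib
import Groth.Prelude.Def_CotT2
import Groth.Agent.Lib.Helper18.CotTApi
import Groth.Agent.Lib.Helper18.CotTComp
import Groth.Agent.Lib.Helper18.CotTUniq
import Groth.Agent.Lib.Helper18.CotTInv
import Groth.Agent.Lib.Helper18.CotTNine1
import Groth.Agent.Lib.Helper18.CotTNine3
import Groth.Agent.Lib.Helper18.CotTLES

/-!
# The nine-term exact sequence of the `Tⁱ` for `A → B → C`

`nine_comp`: for the composite presentation `Q.comp P`.
`nine_general`: for arbitrary presentations `P` of `B/A`, `Q` of `C/B`, `Pc` of `C/A` and arbitrary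
morphisms of presentations `Pc → Q`, `P → Pc` over the evident squares.
-/

set_option autoImplicit false
universe u v x w t w' t' w'' t'' m

open TensorProduct

namespace Groth.Agent.Lib.Helper18.CotTNine

open CotT Groth.Agent.Lib.Helper18.CotTApi Groth.Agent.Lib.Helper18.CotTComp
  Groth.Agent.Lib.Helper18.CotTUniq Groth.Agent.Lib.Helper18.CotTInv

section Abstract

theorem exact_of_conj {X Y Y' Z : Type*} [Zero Z] {a : X → Y} {b : Y → Z} {a' : X → Y'}
    {b' : Y' → Z} (u : Y → Y') (v : Y' → Y) (huv : ∀ y, u (v y) = y) (hvu : ∀ y, v (u y) = y)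
    (ha : ∀ x, a' x = u (a x)) (hb : ∀ y, b' y = b (v y)) (hab : Function.Exact a b) :
    Function.Exact a' b' := by
  intro y
  rw [hb, hab (v y)]
  constructor
  · rintro ⟨x, hx⟩
    exact ⟨x, by rw [ha, hx, huv]⟩
  · rintro ⟨x, rfl⟩
    exact ⟨x, by rw [ha, hvu]⟩

theorem exact_comp_surj {Y Y' Z W : Type*} [Zero W] {b : Y → Z} {b' : Y' → Z} {δ : Z → W}
    (v : Y' → Y) (hv : Function.Surjective v) (hb : ∀ y, b' y = b (v y))
    (h : Function.Exact b δ) : Function.Exact b' δ := by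
  intro z
  rw [h z]
  constructor
  · rintro ⟨y, rfl⟩
    obtain ⟨y', rfl⟩ := hv y
    exact ⟨y', hb y'⟩
  · rintro ⟨y', rfl⟩
    exact ⟨v y', (hb y').symm⟩

theorem exact_comp_inj {W X Y Y' : Type*} [Zero Y] [Zero Y'] {δ : W → X} {a : X → Y}
    {a' : X → Y'} (u : Y → Y') (hu : ∀ y, u y = 0 ↔ y = 0) (ha : ∀ x, a' x = u (a x))
    (h : Function.Exact δ a) : Function.Exact δ a' := by
  intro x
  rw [ha, hu, h x]

end Abstract

variable {A : Type u} {B : Type v} {C : Type x} {ι : Type w} {σ : Type t} {ι' : Type w'}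
  {σ' : Type t'} {ι'' : Type w''} {σ'' : Type t''}
variable [CommRing A] [CommRing B] [CommRing C] [Algebra A B] [Algebra B C] [Algebra A C]
  [IsScalarTower A B C]
variable (P : Algebra.Presentation A B ι σ) (Q : Algebra.Presentation B C ι' σ')
variable (M : Type m) [AddCommGroup M] [Module C M] [Module B M] [IsScalarTower B C M]

/-- The nine-term exact sequence for the composite presentation. -/
theorem nine_comp :
    Function.Injective ((fHom P Q).T0pull M) ∧
    Function.Exact ((fHom P Q).T0pull M) ((gHom P Q).T0pull M) ∧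
    Function.Exact ((fHom P Q).T1pull M) ((gHom P Q).T1pull M) ∧
    Function.Exact ((fHom P Q).T2pull M) ((gHom P Q).T2pull M) ∧
    ∃ (δ₀ : T0 P M →+ T1 Q M) (δ₁ : T1 P M →+ T2 Q M),
      Function.Exact ((gHom P Q).T0pull M) δ₀ ∧ Function.Exact δ₀ ((fHom P Q).T1pull M) ∧
      Function.Exact ((gHom P Q).T1pull M) δ₁ ∧ Function.Exact δ₁ ((fHom P Q).T2pull M) :=
  CotTLES.nine_term (gHom P Q) (fHom P Q) M (F0surj P Q M) (F1surj P Q M) (F0inj P Q M)
    (F1inj P Q M) (F2inj P Q M) (F0ex P Q M) (F1ex P Q M) (F2ex P Q M)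

variable (Pc : Algebra.Presentation A C ι'' σ'') (a : PresHom Pc Q) (b : PresHom P Pc)

/-- The nine-term exact sequence for arbitrary presentations and morphisms. -/
theorem nine_general :
    Function.Injective (a.T0pull M) ∧
    Function.Exact (a.T0pull M) (b.T0pull M) ∧
    Function.Exact (a.T1pull M) (b.T1pull M) ∧
    Function.Exact (a.T2pull M) (b.T2pull M) ∧
    ∃ (δ₀ : T0 P M →+ T1 Q M) (δ₁ : T1 P M →+ T2 Q M),
      Function.Exact (b.T0pull M) δ₀ ∧ Function.Exact δ₀ (a.T1pull M) ∧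
      Function.Exact (b.T1pull M) δ₁ ∧ Function.Exact δ₁ (a.T2pull M) := by
  obtain ⟨θ⟩ := nonempty_presHom (Q.comp P) Pc
  obtain ⟨θ'⟩ := nonempty_presHom Pc (Q.comp P)
  have a0 : ∀ x, a.T0pull M x = θ'.T0pull M ((fHom P Q).T0pull M x) := fun x =>
    (T0pull_eq a (comp (fHom P Q) θ') M x).trans ((isComp_comp (fHom P Q) θ').T0pull M x)
  have a1 : ∀ x, a.T1pull M x = θ'.T1pull M ((fHom P Q).T1pull M x) := fun x =>
    (T1pull_eq a (comp (fHom P Q) θ') M x).trans ((isComp_comp (fHom P Q) θ').T1pull M x)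
  have a2 : ∀ x, a.T2pull M x = θ'.T2pull M ((fHom P Q).T2pull M x) := fun x =>
    (T2pull_eq a (comp (fHom P Q) θ') M x).trans ((isComp_comp (fHom P Q) θ').T2pull M x)
  have b0 : ∀ y, b.T0pull M y = (gHom P Q).T0pull M (θ.T0pull M y) := fun y =>
    (T0pull_eq b (comp θ (gHom P Q)) M y).trans ((isComp_comp θ (gHom P Q)).T0pull M y)
  have b1 : ∀ y, b.T1pull M y = (gHom P Q).T1pull M (θ.T1pull M y) := fun y =>
    (T1pull_eq b (comp θ (gHom P Q)) M y).trans ((isComp_comp θ (gHom P Q)).T1pull M y)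
  have b2 : ∀ y, b.T2pull M y = (gHom P Q).T2pull M (θ.T2pull M y) := fun y =>
    (T2pull_eq b (comp θ (gHom P Q)) M y).trans ((isComp_comp θ (gHom P Q)).T2pull M y)
  obtain ⟨hinj, e0, e1, e2, δ₀, δ₁, d01, d02, d11, d12⟩ := nine_comp P Q M
  refine ⟨?_, ?_, ?_, ?_, δ₀, δ₁, ?_, ?_, ?_, ?_⟩
  · intro x y hxy
    rw [a0, a0] at hxy
    exact hinj ((T0pull_bijective θ' M).1 hxy)
  · exact exact_of_conj (θ'.T0pull M) (θ.T0pull M) (T0pull_pull θ' θ M) (T0pull_pull θ θ' M)
      a0 b0 e0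
  · exact exact_of_conj (θ'.T1pull M) (θ.T1pull M) (T1pull_pull θ' θ M) (T1pull_pull θ θ' M)
      a1 b1 e1
  · exact exact_of_conj (θ'.T2pull M) (θ.T2pull M) (T2pull_pull θ' θ M) (T2pull_pull θ θ' M)
      a2 b2 e2
  · exact exact_comp_surj (θ.T0pull M) (T0pull_bijective θ M).2 b0 d01
  · exact exact_comp_inj (θ'.T1pull M)
      (fun y => map_eq_zero_iff _ (T1pull_bijective θ' M).1) a1 d02
  · exact exact_comp_surj (θ.T1pull M) (T1pull_bijective θ M).2 b1 d11
  · exact exact_comp_inj (θ'.T2pull M)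
      (fun y => map_eq_zero_iff _ (T2pull_bijective θ' M).1) a2 d12

end Groth.Agent.Lib.Helper18.CotTNine
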