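import Mathlib
import Groth.Prelude.Def_CotT2
import Groth.Agent.Lib.Helper18.CotTApi
import Groth.Agent.Lib.Helper18.CotTComp
import Groth.Agent.Lib.Helper18.CotTNine4

/-!
# `T²(B/A) = T²(B/k)` when `T¹(A/k) = T²(A/k) = 0`
-/

set_option autoImplicit false
universe u v x w t m

namespace Groth.Agent.Lib.Helper18.CotTCI

open CotT Groth.Agent.Lib.Helper18.CotTApi Groth.Agent.Lib.Helper18.CotTComp
  Groth.Agent.Lib.Helper18.CotTNine

variable {k : Type u} {A : Type v} {B : Type x} {ι : Type w} {σ : Type t}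
variable [CommRing k] [CommRing A] [CommRing B] [Algebra k A] [Algebra A B] [Algebra k B]
  [IsScalarTower k A B]

/-- If `T¹(A/k, M) = T²(A/k, M) = 0` then `T²(B/A, M)` (computed from any presentation `Q`)
vanishes iff `T²(B/k, M)` does. -/
theorem subsingleton_T2_iff_of_base (Q : Algebra.Presentation A B ι σ) (M : Type m)
    [AddCommGroup M] [Module B M] [Module A M] [IsScalarTower A B M]
    (h1 : Subsingleton (T1 (canon k A) M)) (h2 : Subsingleton (T2 (canon k A) M)) :
    Subsingleton (T2 Q M) ↔ Subsingleton (T2 (canon k B) M) := by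
  obtain ⟨a⟩ := nonempty_presHom (canon k B) Q
  obtain ⟨b⟩ := nonempty_presHom (canon k A) (canon k B)
  obtain ⟨-, -, -, e2, δ₀, δ₁, -, -, d11, d12⟩ := nine_general (canon k A) Q M (canon k B) a b
  constructor
  · intro hQ
    have hx : ∀ y : T2 (canon k B) M, y = 0 := by
      intro y
      obtain ⟨x, rfl⟩ := (e2 y).1 (Subsingleton.elim _ _)
      rw [Subsingleton.elim x 0, map_zero]
    exact ⟨fun x y => by rw [hx x, hx y]⟩
  · intro hB
    have hx : ∀ x : T2 Q M, x = 0 := by
      intro x
      obtain ⟨y, rfl⟩ := (d12 x).1 (Subsingleton.elim _ _)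
      rw [Subsingleton.elim y 0, map_zero]
    exact ⟨fun x y => by rw [hx x, hx y]⟩

end Groth.Agent.Lib.Helper18.CotTCI
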