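import Mathlib
import Groth.Prelude.Def_CotT

/-!
# `T⁰` of a presentation is the module of derivations
-/

set_option autoImplicit false
universe u v w t m

open TensorProduct

namespace Groth.Agent.Lib.Helper18.CotTDer

open CotT

variable {A : Type u} {B : Type v} {ι : Type w} {σ : Type t}
variable [CommRing A] [CommRing B] [Algebra A B]
variable (P : Algebra.Presentation A B ι σ)
variable {M : Type m} [AddCommGroup M] [Module B M] [Module A M] [IsScalarTower A B M]

/-- `r ↦ φ(1 ⊗ dr)`. -/
noncomputable def ell (φ : L0 P →ₗ[B] M) (r : P.toExtension.Ring) : M :=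
  φ ((1 : B) ⊗ₜ[P.toExtension.Ring] KaehlerDifferential.D A P.toExtension.Ring r)

theorem one_tmul_smul (r : P.toExtension.Ring) (ω : Ω[P.toExtension.Ring⁄A]) :
    ((1 : B) ⊗ₜ[P.toExtension.Ring] (r • ω) : L0 P) =
      algebraMap P.toExtension.Ring B r • ((1 : B) ⊗ₜ[P.toExtension.Ring] ω : L0 P) := by
  calc ((1 : B) ⊗ₜ[P.toExtension.Ring] (r • ω) : L0 P)
      = (r • (1 : B)) ⊗ₜ[P.toExtension.Ring] ω := (TensorProduct.smul_tmul r 1 ω).symm
    _ = (algebraMap P.toExtension.Ring B r • (1 : B)) ⊗ₜ[P.toExtension.Ring] ω := by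
        rw [algebraMap_smul]
    _ = algebraMap P.toExtension.Ring B r • ((1 : B) ⊗ₜ[P.toExtension.Ring] ω : L0 P) :=
        (TensorProduct.smul_tmul' _ _ _).symm

theorem ell_add (φ : L0 P →ₗ[B] M) (r s : P.toExtension.Ring) :
    ell P φ (r + s) = ell P φ r + ell P φ s := by
  unfold ell
  rw [map_add, TensorProduct.tmul_add, map_add]

theorem ell_sub (φ : L0 P →ₗ[B] M) (r s : P.toExtension.Ring) :
    ell P φ (r - s) = ell P φ r - ell P φ s := by
  unfold ell
  rw [map_sub, TensorProduct.tmul_sub, map_sub]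

theorem ell_mul (φ : L0 P →ₗ[B] M) (r s : P.toExtension.Ring) :
    ell P φ (r * s) = algebraMap P.toExtension.Ring B r • ell P φ s +
      algebraMap P.toExtension.Ring B s • ell P φ r := by
  unfold ell
  rw [Derivation.leibniz, TensorProduct.tmul_add, map_add, one_tmul_smul, one_tmul_smul,
    map_smul, map_smul]

theorem ell_algebraMap (φ : L0 P →ₗ[B] M) (a : A) :
    ell P φ (algebraMap A P.toExtension.Ring a) = 0 := by
  unfold ell
  rw [Derivation.map_algebraMap, TensorProduct.tmul_zero, map_zero]

theorem ell_ker (φ : L0 P →ₗ[B] M) (hφ : φ ∘ₗ d1 P = 0) (x : P.toExtension.Ring)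
    (hx : algebraMap P.toExtension.Ring B x = 0) : ell P φ x = 0 := by
  have hx' : x ∈ LinearMap.range (jmap P) := by
    rw [range_jmap]
    exact hx
  obtain ⟨f, rfl⟩ := hx'
  have h := LinearMap.congr_fun hφ ((1 : B) ⊗ₜ[P.toExtension.Ring] f)
  rw [LinearMap.comp_apply, d1_tmul, one_smul] at h
  exact h

theorem ell_congr (φ : L0 P →ₗ[B] M) (hφ : φ ∘ₗ d1 P = 0) (r s : P.toExtension.Ring)
    (h : algebraMap P.toExtension.Ring B r = algebraMap P.toExtension.Ring B s) :
    ell P φ r = ell P φ s := by
  have := ell_ker P φ hφ (r - s) (by rw [map_sub, h, sub_self])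
  rw [ell_sub, sub_eq_zero] at this
  exact this

/-- The derivation `B → M` attached to an element of `T⁰`. -/
noncomputable def derOf (φ : L0 P →ₗ[B] M) (hφ : φ ∘ₗ d1 P = 0) : Derivation A B M where
  toFun b := ell P φ (P.toExtension.σ b)
  map_add' b b' := by
    rw [← ell_add]
    apply ell_congr P φ hφ
    rw [map_add, Algebra.Extension.algebraMap_σ, Algebra.Extension.algebraMap_σ,
      Algebra.Extension.algebraMap_σ]
  map_smul' a b := by
    have h1 : ell P φ (P.toExtension.σ (a • b)) =
        ell P φ (algebraMap A P.toExtension.Ring a * P.toExtension.σ b) := by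
      apply ell_congr P φ hφ
      rw [map_mul, Algebra.Extension.algebraMap_σ, Algebra.Extension.algebraMap_σ,
        ← IsScalarTower.algebraMap_apply, Algebra.smul_def]
    rw [h1, ell_mul, ell_algebraMap, smul_zero, add_zero, ← IsScalarTower.algebraMap_apply,
      RingHom.id_apply, algebraMap_smul]
  map_one_eq_zero' := by
    change ell P φ (P.toExtension.σ 1) = 0
    have h1 : ell P φ (P.toExtension.σ 1) = ell P φ (algebraMap A P.toExtension.Ring 1) := by
      apply ell_congr P φ hφ
      rw [Algebra.Extension.algebraMap_σ, map_one, map_one]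
    rw [h1, ell_algebraMap]
  leibniz' b b' := by
    change ell P φ (P.toExtension.σ (b * b')) =
      b • ell P φ (P.toExtension.σ b') + b' • ell P φ (P.toExtension.σ b)
    have h1 : ell P φ (P.toExtension.σ (b * b')) =
        ell P φ (P.toExtension.σ b * P.toExtension.σ b') := by
      apply ell_congr P φ hφ
      rw [map_mul, Algebra.Extension.algebraMap_σ, Algebra.Extension.algebraMap_σ,
        Algebra.Extension.algebraMap_σ]
    rw [h1, ell_mul, Algebra.Extension.algebraMap_σ, Algebra.Extension.algebraMap_σ]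

theorem derOf_algebraMap (φ : L0 P →ₗ[B] M) (hφ : φ ∘ₗ d1 P = 0) (r : P.toExtension.Ring) :
    derOf P φ hφ (algebraMap P.toExtension.Ring B r) = ell P φ r := by
  change ell P φ (P.toExtension.σ (algebraMap P.toExtension.Ring B r)) = ell P φ r
  apply ell_congr P φ hφ
  rw [Algebra.Extension.algebraMap_σ]

theorem derToT0_bijective : Function.Bijective (derToT0 P M) := by
  constructor
  · rw [injective_iff_map_eq_zero]
    intro D hD
    have hD' : derLift P M D = 0 := congrArg Subtype.val hD
    ext b
    obtain ⟨r, rfl⟩ := P.toExtension.algebraMap_surjective b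
    have h := LinearMap.congr_fun hD'
      ((1 : B) ⊗ₜ[P.toExtension.Ring] KaehlerDifferential.D A P.toExtension.Ring r)
    rw [derLift_tmul_D, one_smul] at h
    exact h
  · rintro ⟨φ, hφ⟩
    have hφ' : φ ∘ₗ d1 P = 0 := hφ
    refine ⟨derOf P φ hφ', Subtype.ext ?_⟩
    change derLift P M (derOf P φ hφ') = φ
    refine (P.cotangentSpaceBasis).ext fun i => ?_
    rw [Algebra.Generators.cotangentSpaceBasis_apply]
    erw [derLift_tmul_D]
    rw [one_smul, derOf_algebraMap]
    rfl

end Groth.Agent.Lib.Helper18.CotTDer
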