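import Mathlib
import Groth.Prelude.Def_CotT2
import Groth.Agent.Lib.Helper18.CotTApi

/-!
# Presentations without relations: `T¹ = T² = 0`; the polynomial presentation
-/

set_option autoImplicit false
universe u v w t m

namespace Groth.Agent.Lib.Helper18.CotTEmpty

open CotT Groth.Agent.Lib.Helper18.CotTApi

section Empty

variable {A : Type u} {B : Type v} {ι : Type w} {σ : Type t}
variable [CommRing A] [CommRing B] [Algebra A B]
variable (P : Algebra.Presentation A B ι σ)
variable (M : Type m) [AddCommGroup M] [Module B M]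

theorem L1_eq_zero [IsEmpty σ] (x : L1 P) : x = 0 := by
  obtain ⟨f, rfl⟩ := mkL1_surjective P x
  have hf : f = 0 := Subsingleton.elim _ _
  rw [hf, map_zero]

theorem subsingleton_T1_of_isEmpty [IsEmpty σ] : Subsingleton (T1 P M) := by
  refine ⟨fun x y => ?_⟩
  obtain ⟨z, rfl⟩ := Submodule.Quotient.mk_surjective _ x
  obtain ⟨z', rfl⟩ := Submodule.Quotient.mk_surjective _ y
  congr 1
  refine Subtype.ext (LinearMap.ext fun a => ?_)
  rw [L1_eq_zero P a, map_zero, map_zero]

/-- If the relation module is generated by trivial relations then `L₂ = 0`. -/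
theorem L2_eq_zero_of_relKer_le (hP : relKer P ≤ trivRel P) (x : L2 P) : x = 0 := by
  obtain ⟨q, rfl⟩ := mkL2_surjective P x
  exact mkL2_eq_zero P q (hP q.2)

theorem subsingleton_T2_of_relKer_le (hP : relKer P ≤ trivRel P) : Subsingleton (T2 P M) := by
  refine ⟨fun x y => ?_⟩
  obtain ⟨ψ, rfl⟩ := Submodule.Quotient.mk_surjective _ x
  obtain ⟨ψ', rfl⟩ := Submodule.Quotient.mk_surjective _ y
  congr 1
  refine LinearMap.ext fun a => ?_
  rw [L2_eq_zero_of_relKer_le P hP a, map_zero, map_zero]

theorem subsingleton_T2_of_isEmpty [IsEmpty σ] : Subsingleton (T2 P M) := by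
  apply subsingleton_T2_of_relKer_le
  intro q _
  have hq : q = 0 := Subsingleton.elim _ _
  rw [hq]
  exact Submodule.zero_mem _

end Empty

section Poly

variable {A : Type u} {B : Type v} {κ : Type w}
variable [CommRing A] [CommRing B] [Algebra A B]

/-- The presentation of an algebra isomorphic to a polynomial algebra, with no relations. -/
noncomputable def polyPres (e : MvPolynomial κ A ≃ₐ[A] B) :
    Algebra.Presentation A B κ PEmpty.{1} where
  __ := Algebra.Generators.ofAlgHom (e : MvPolynomial κ A →ₐ[A] B) e.surjective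
  relation := PEmpty.elim
  span_range_relation_eq_ker := by
    simp only [Set.range_eq_empty, Ideal.span_empty]
    symm
    rw [Algebra.Generators.ker_eq_ker_aeval_val, ← RingHom.injective_iff_ker_eq_bot]
    have h : (MvPolynomial.aeval
        (Algebra.Generators.ofAlgHom (e : MvPolynomial κ A →ₐ[A] B) e.surjective).val :
          MvPolynomial κ A →ₐ[A] B) = (e : MvPolynomial κ A →ₐ[A] B) := by
      ext i
      simp [Algebra.Generators.ofAlgHom]
    rw [h]
    exact e.injective

end Poly

end Groth.Agent.Lib.Helper18.CotTEmpty
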