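import Mathlib
import Groth.Prelude.Def_CotT2
import Groth.Agent.Lib.Helper18.CotTApi

/-!
# Regular sequences are `H₁`-regular; the presentation of a quotient by a sequence
-/

set_option autoImplicit false
universe u v w t m

namespace Groth.Agent.Lib.Helper18.CotTReg

open CotT Groth.Agent.Lib.Helper18.CotTApi

section H1

variable {R : Type*} [CommRing R] {n : ℕ} (r : Fin n → R)

/-- The Koszul (trivial) relations among `r₀, …, r_{n-1}`. -/
noncomputable def triv : Submodule R (Fin n →₀ R) :=
  Submodule.span R {y | ∃ i j : Fin n, y = Finsupp.single j (r i) - Finsupp.single i (r j)}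

theorem lc_triv (y : Fin n →₀ R) (hy : y ∈ triv r) : Finsupp.linearCombination R r y = 0 := by
  induction hy using Submodule.span_induction with
  | mem y hy =>
    obtain ⟨i, j, rfl⟩ := hy
    rw [map_sub, Finsupp.linearCombination_single, Finsupp.linearCombination_single, smul_eq_mul,
      smul_eq_mul, mul_comm, sub_self]
  | zero => exact map_zero _
  | add a b _ _ ha hb => rw [map_add, ha, hb, add_zero]
  | smul c a _ ha => rw [map_smul, ha, smul_zero]

theorem T_mem (im : Fin n) (c : Fin n →₀ R) :
    Finsupp.single im (Finsupp.linearCombination R r c) - r im • c ∈ triv r := by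
  induction c using Finsupp.induction_linear with
  | zero => simp
  | add a b ha hb =>
    have h : Finsupp.single im (Finsupp.linearCombination R r (a + b)) - r im • (a + b) =
        (Finsupp.single im (Finsupp.linearCombination R r a) - r im • a) +
        (Finsupp.single im (Finsupp.linearCombination R r b) - r im • b) := by
      rw [map_add, Finsupp.single_add, smul_add]; abel
    rw [h]; exact Submodule.add_mem _ ha hb
  | single j a =>
    have h : Finsupp.single im (Finsupp.linearCombination R r (Finsupp.single j a)) -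
        r im • Finsupp.single j a = a • (Finsupp.single im (r j) - Finsupp.single j (r im)) := by
      simp only [Finsupp.linearCombination_single, smul_sub, Finsupp.smul_single, smul_eq_mul,
        mul_comm (r im) a]
    rw [h]
    exact Submodule.smul_mem _ _ (Submodule.subset_span ⟨j, im, rfl⟩)

theorem h1_aux (H : ∀ (i : Fin n) (x : R), r i * x ∈ Ideal.span (r '' {j | j < i}) →
      x ∈ Ideal.span (r '' {j | j < i})) :
    ∀ (m : ℕ) (f : Fin n →₀ R), (∀ i : Fin n, m ≤ (i : ℕ) → f i = 0) →
      Finsupp.linearCombination R r f = 0 → f ∈ triv r := by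
  intro m
  induction m with
  | zero =>
    intro f hf _
    have h0 : f = 0 := Finsupp.ext fun i => hf i (Nat.zero_le _)
    rw [h0]; exact Submodule.zero_mem _
  | succ m ih =>
    intro f hf hlc
    by_cases hm : m < n
    · have hg0 : ∀ i : Fin n, m ≤ (i : ℕ) → (f - Finsupp.single (⟨m, hm⟩ : Fin n) (f ⟨m, hm⟩)) i = 0 := by
        intro i hi
        by_cases hie : i = ⟨m, hm⟩
        · rw [Finsupp.sub_apply, hie, Finsupp.single_eq_same, sub_self]
        · have hne : (i : ℕ) ≠ m := fun h => hie (Fin.ext h)
          have hi' : m + 1 ≤ (i : ℕ) := by omega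
          rw [Finsupp.sub_apply, hf i hi', Finsupp.single_apply, if_neg (fun h => hie h.symm),
            sub_zero]
      have hgs : (f - Finsupp.single (⟨m, hm⟩ : Fin n) (f ⟨m, hm⟩)) ∈
          Finsupp.supported R R {j : Fin n | j < ⟨m, hm⟩} := by
        rw [Finsupp.mem_supported']
        intro i hi
        apply hg0
        simpa [Fin.lt_def] using hi
      have hlcg : Finsupp.linearCombination R r
          (f - Finsupp.single (⟨m, hm⟩ : Fin n) (f ⟨m, hm⟩)) ∈
          Submodule.span R (r '' {j : Fin n | j < ⟨m, hm⟩}) :=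
        (Finsupp.mem_span_image_iff_linearCombination R).2 ⟨_, hgs, rfl⟩
      have hmul : r ⟨m, hm⟩ * f ⟨m, hm⟩ ∈ Ideal.span (r '' {j : Fin n | j < ⟨m, hm⟩}) := by
        have h1 : Finsupp.linearCombination R r
            (f - Finsupp.single (⟨m, hm⟩ : Fin n) (f ⟨m, hm⟩)) = - (r ⟨m, hm⟩ * f ⟨m, hm⟩) := by
          rw [map_sub, hlc, Finsupp.linearCombination_single, smul_eq_mul, zero_sub, mul_comm]
        rw [← neg_neg (r ⟨m, hm⟩ * f ⟨m, hm⟩), ← h1]
        exact Submodule.neg_mem _ hlcg
      have hfm : f ⟨m, hm⟩ ∈ Submodule.span R (r '' {j : Fin n | j < ⟨m, hm⟩}) :=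
        H ⟨m, hm⟩ (f ⟨m, hm⟩) hmul
      obtain ⟨c, hcs, hc⟩ := (Finsupp.mem_span_image_iff_linearCombination R).1 hfm
      have ht := T_mem r ⟨m, hm⟩ c
      have hf' : f - (Finsupp.single (⟨m, hm⟩ : Fin n) (Finsupp.linearCombination R r c) -
          r ⟨m, hm⟩ • c) ∈ triv r := by
        apply ih
        · intro i hi
          have h2 : f - (Finsupp.single (⟨m, hm⟩ : Fin n) (Finsupp.linearCombination R r c) -
              r ⟨m, hm⟩ • c) =
              (f - Finsupp.single (⟨m, hm⟩ : Fin n) (f ⟨m, hm⟩)) + r ⟨m, hm⟩ • c := by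
            rw [hc]; abel
          have h3 : c i = 0 := by
            refine (Finsupp.mem_supported' R c).1 hcs i ?_
            simp only [Set.mem_setOf_eq, Fin.lt_def, not_lt]
            exact hi
          rw [h2, Finsupp.add_apply, Finsupp.smul_apply, hg0 i hi, h3, smul_zero, add_zero]
        · rw [map_sub, hlc, lc_triv r _ ht, sub_zero]
      have h4 : f = (f - (Finsupp.single (⟨m, hm⟩ : Fin n) (Finsupp.linearCombination R r c) -
          r ⟨m, hm⟩ • c)) + (Finsupp.single (⟨m, hm⟩ : Fin n) (Finsupp.linearCombination R r c) -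
          r ⟨m, hm⟩ • c) := by abel
      rw [h4]; exact Submodule.add_mem _ hf' ht
    · apply ih f _ hlc
      intro i _
      exact absurd i.2 (by omega)

theorem h1 (H : ∀ (i : Fin n) (x : R), r i * x ∈ Ideal.span (r '' {j | j < i}) →
      x ∈ Ideal.span (r '' {j | j < i})) (f : Fin n →₀ R)
    (hf : Finsupp.linearCombination R r f = 0) : f ∈ triv r :=
  h1_aux r H n f (fun i hi => absurd i.2 (by omega)) hf

end H1

section Pres

variable {A : Type u} {B : Type v} {ι : Type w}
variable [CommRing A] [CommRing B] [Algebra A B]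

theorem relKer_le_trivRel {n : ℕ} (P : Algebra.Presentation A B ι (Fin n))
    (H : ∀ (i : Fin n) (x : P.toExtension.Ring),
      rel P i * x ∈ Ideal.span (rel P '' {j | j < i}) → x ∈ Ideal.span (rel P '' {j | j < i})) :
    relKer P ≤ trivRel P := by
  intro f hf
  have hf' : Finsupp.linearCombination P.toExtension.Ring (rel P) f = 0 := hf
  have h := h1 (rel P) H f hf'
  have hle : triv (rel P) ≤ trivRel P := by
    refine Submodule.span_le.2 ?_
    rintro _ ⟨i, j, rfl⟩
    refine Submodule.subset_span ⟨Finsupp.single i 1, Finsupp.single j 1, ?_⟩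
    rw [jmap_single, jmap_single, one_mul, one_mul, Finsupp.smul_single, Finsupp.smul_single,
      smul_eq_mul, smul_eq_mul, mul_one, mul_one]
  exact hle h

end Pres

section Quot

variable {A : Type u} {B : Type v} [CommRing A] [CommRing B] [Algebra A B]
variable (hs : Function.Surjective (algebraMap A B)) (rs : List A)
  (hI : RingHom.ker (algebraMap A B) = Ideal.ofList rs)

/-- The presentation of a quotient `B = A/(rs)` with no variables and relations `rs`. -/
noncomputable def quotPres : Algebra.Presentation A B PEmpty.{1} (Fin rs.length) where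
  __ := Algebra.Generators.ofSurjectiveAlgebraMap hs
  relation i := MvPolynomial.C (rs[i])
  span_range_relation_eq_ker := by
    rw [Algebra.Generators.ker_eq_ker_aeval_val]
    apply le_antisymm
    · rw [Ideal.span_le]
      rintro _ ⟨i, rfl⟩
      rw [SetLike.mem_coe, RingHom.mem_ker, MvPolynomial.aeval_C]
      have h1 : rs[i] ∈ RingHom.ker (algebraMap A B) := by
        rw [hI]; exact Ideal.subset_span (List.getElem_mem _)
      exact h1
    · intro p hp
      obtain ⟨a, rfl⟩ := MvPolynomial.C_surjective PEmpty p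
      rw [RingHom.mem_ker, MvPolynomial.aeval_C] at hp
      have ha : a ∈ Ideal.ofList rs := by rw [← hI]; exact hp
      have hmap : Ideal.map (MvPolynomial.C : A →+* MvPolynomial PEmpty A) (Ideal.ofList rs) ≤
          Ideal.span (Set.range fun i : Fin rs.length =>
            (MvPolynomial.C (rs[i]) : MvPolynomial PEmpty A)) := by
        rw [Ideal.map_span, Ideal.span_le]
        rintro _ ⟨x, hx, rfl⟩
        obtain ⟨i, hi, rfl⟩ := List.getElem_of_mem hx
        exact Ideal.subset_span ⟨⟨i, hi⟩, rfl⟩
      exact hmap (Ideal.mem_map_of_mem _ ha)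

theorem rel_quotPres (i : Fin rs.length) :
    rel (quotPres hs rs hI) i = (MvPolynomial.C (rs[i]) : MvPolynomial PEmpty A) := rfl

theorem image_lt_eq (i : Fin rs.length) :
    (fun j : Fin rs.length => rs[j]) '' {j | j < i} = {x | x ∈ rs.take i} := by
  ext x
  simp only [Set.mem_image, Set.mem_setOf_eq, List.mem_take_iff_getElem]
  constructor
  · rintro ⟨j, hj, rfl⟩
    exact ⟨j, by simp only [lt_min_iff]; exact ⟨hj, j.2⟩, rfl⟩
  · rintro ⟨j, hj, rfl⟩
    rw [lt_min_iff] at hj
    exact ⟨⟨j, hj.2⟩, hj.1, rfl⟩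

theorem H_of_isWeaklyRegular (hreg : RingTheory.Sequence.IsWeaklyRegular A rs)
    (i : Fin rs.length) (x : A)
    (hx : rs[i] * x ∈ Ideal.span ((fun j : Fin rs.length => rs[j]) '' {j | j < i})) :
    x ∈ Ideal.span ((fun j : Fin rs.length => rs[j]) '' {j | j < i}) := by
  rw [image_lt_eq] at hx ⊢
  have hr := hreg.regular_mod_prev i i.2
  have htop : (Ideal.ofList (rs.take i) • ⊤ : Submodule A A) = Ideal.ofList (rs.take i) := by
    change (Ideal.ofList (rs.take i) • (⊤ : Ideal A)) = _
    rw [Ideal.smul_eq_mul, Ideal.mul_top]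
  have h0 : (rs[i] : A) • (Submodule.Quotient.mk x :
      A ⧸ (Ideal.ofList (rs.take i) • ⊤ : Submodule A A)) = rs[i] • 0 := by
    rw [smul_zero, ← Submodule.Quotient.mk_smul, Submodule.Quotient.mk_eq_zero, htop, smul_eq_mul]
    exact hx
  have h1 := hr h0
  rw [Submodule.Quotient.mk_eq_zero, htop] at h1
  exact h1

theorem H_C (hreg : RingTheory.Sequence.IsWeaklyRegular A rs)
    (i : Fin rs.length) (x : MvPolynomial PEmpty.{1} A)
    (hx : (MvPolynomial.C (rs[i]) : MvPolynomial PEmpty.{1} A) * x ∈
      Ideal.span ((fun j : Fin rs.length => (MvPolynomial.C (rs[j]) : MvPolynomial PEmpty.{1} A)) ''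
        {j | j < i})) :
    x ∈ Ideal.span ((fun j : Fin rs.length =>
      (MvPolynomial.C (rs[j]) : MvPolynomial PEmpty.{1} A)) '' {j | j < i}) := by
  have himg : (fun j : Fin rs.length => (MvPolynomial.C (rs[j]) : MvPolynomial PEmpty.{1} A)) ''
      {j | j < i} = (MvPolynomial.C : A →+* MvPolynomial PEmpty.{1} A) ''
        ((fun j : Fin rs.length => rs[j]) '' {j | j < i}) := by
    rw [Set.image_image]
  rw [himg, ← Ideal.map_span] at hx ⊢
  obtain ⟨a, rfl⟩ := MvPolynomial.C_surjective PEmpty.{1} x
  have hx' : (MvPolynomial.C (rs[i] * a) : MvPolynomial PEmpty.{1} A) ∈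
      Ideal.map (MvPolynomial.C : A →+* MvPolynomial PEmpty.{1} A)
        (Ideal.span ((fun j : Fin rs.length => rs[j]) '' {j | j < i})) := by
    rw [map_mul]; exact hx
  have hmem : rs[i] * a ∈ Ideal.span ((fun j : Fin rs.length => rs[j]) '' {j | j < i}) := by
    have h1 := Ideal.mem_map_of_mem
      (MvPolynomial.constantCoeff : MvPolynomial PEmpty.{1} A →+* A) hx'
    rw [Ideal.map_map, MvPolynomial.constantCoeff_comp_C, Ideal.map_id,
      MvPolynomial.constantCoeff_C] at h1
    exact h1
  exact Ideal.mem_map_of_mem _ (H_of_isWeaklyRegular rs hreg i a hmem)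

theorem H_quotPres (hreg : RingTheory.Sequence.IsWeaklyRegular A rs)
    (i : Fin rs.length) (x : (quotPres hs rs hI).toExtension.Ring)
    (hx : rel (quotPres hs rs hI) i * x ∈
      Ideal.span (rel (quotPres hs rs hI) '' {j | j < i})) :
    x ∈ Ideal.span (rel (quotPres hs rs hI) '' {j | j < i}) :=
  H_C rs hreg i x hx

theorem relKer_le_trivRel_quotPres (hreg : RingTheory.Sequence.IsWeaklyRegular A rs) :
    relKer (quotPres hs rs hI) ≤ trivRel (quotPres hs rs hI) :=
  relKer_le_trivRel _ (H_quotPres hs rs hI hreg)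

end Quot

end Groth.Agent.Lib.Helper18.CotTReg
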