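import Mathlib
import Groth.Agent.Lib.Helper18.TotSingleR

/-!
# Homology of `M[0] ⊗ P` for a flat module `M`, naturally in `M` (helper18)
-/

set_option autoImplicit false
set_option linter.style.haveILetI false
universe u
open CategoryTheory CategoryTheory.Limits HomologicalComplex MonoidalCategory

namespace Groth.Agent.Lib.Helper18.TotSingle

variable {C₁ C₂ D : Type*} [Category C₁] [Category C₂] [Category D]
  [Preadditive C₁] [HasZeroObject C₁] [Preadditive C₂] [Preadditive D]
  (F : C₁ ⥤ C₂ ⥤ D) [F.PreservesZeroMorphisms] [∀ X, (F.obj X).PreservesZeroMorphisms]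

/-- naturality of `TotSingle.iso` in the module variable -/
lemma iso_hom_naturality₁ {M M' : C₁} (h : M ⟶ M') (W : CochainComplex C₂ ℤ)
    [HasMapBifunctor (Sg₀ M) W F (ComplexShape.up ℤ)]
    [HasMapBifunctor (Sg₀ M') W F (ComplexShape.up ℤ)] :
    (NatTrans.mapHomologicalComplex (F.map h) (ComplexShape.up ℤ)).app W ≫ (iso F M' W).hom =
      (iso F M W).hom ≫ mapBifunctorMap
        ((HomologicalComplex.single C₁ (ComplexShape.up ℤ) 0).map h) (𝟙 W) F
          (ComplexShape.up ℤ) := by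
  ext n
  change (F.map h).app (W.X n) ≫ φ F M' W n =
    φ F M W n ≫ (mapBifunctorMap ((HomologicalComplex.single C₁ (ComplexShape.up ℤ) 0).map h)
      (𝟙 W) F (ComplexShape.up ℤ)).f n
  dsimp [φ]
  rw [Category.assoc, ι_mapBifunctorMap]
  simp only [HomologicalComplex.id_f, CategoryTheory.Functor.map_id, Category.id_comp]
  rw [← Category.assoc, ← Category.assoc]
  congr 1
  rw [← NatTrans.comp_app, ← NatTrans.comp_app, ← Functor.map_comp, ← Functor.map_comp]
  congr 2
  rw [HomologicalComplex.single_map_f_self, Iso.inv_hom_id_assoc]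

end Groth.Agent.Lib.Helper18.TotSingle

namespace Groth.Agent.Lib.Helper18.DR

namespace DCAdic

open Groth.Agent.Lib.Helper2.Tot Groth.Agent.Lib.Helper2.Tot.DR TotSingleR

variable {A : Type u} [CommRing A]

/-- termwise `M ⊗ -` -/
noncomputable abbrev GLf (M : ModuleCat.{u} A) : DRing.Cx A ⥤ DRing.Cx A :=
  (tensorLeft M).mapHomologicalComplex (ComplexShape.up ℤ)

/-- the natural transformation `GLf M ⟶ GLf M'` induced by `o : M ⟶ M'` -/
noncomputable abbrev GLfmap {M M' : ModuleCat.{u} A} (o : M ⟶ M') : GLf M ⟶ GLf M' :=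
  NatTrans.mapHomologicalComplex ((T A).map o) (ComplexShape.up ℤ)

/-- the chain map `M[0] ⟶ M'[0]` -/
noncomputable abbrev S0map {M M' : ModuleCat.{u} A} (o : M ⟶ M') : S0 M ⟶ S0 M' :=
  (HomologicalComplex.single (ModuleCat.{u} A) (ComplexShape.up ℤ) 0).map o

/-- `M ⊗ P^• ≅ M[0] ⊗ P` -/
noncomputable def tsIso (M : ModuleCat.{u} A) (P : DRing.Cx A) : (GLf M).obj P ≅ S0 M ⊗ P :=
  TotSingle.iso (T A) M P

lemma tsIso_naturality {M M' : ModuleCat.{u} A} (o : M ⟶ M') (P : DRing.Cx A) :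
    (GLfmap o).app P ≫ (tsIso M' P).hom = (tsIso M P).hom ≫ (S0map o ▷ P) :=
  TotSingle.iso_hom_naturality₁ (T A) o P

lemma tsIso_inv_naturality {M M' : ModuleCat.{u} A} (o : M ⟶ M') (P : DRing.Cx A) :
    (tsIso M P).inv ≫ (GLfmap o).app P = (S0map o ▷ P) ≫ (tsIso M' P).inv := by
  rw [Iso.inv_comp_eq, ← Category.assoc, ← tsIso_naturality, Category.assoc, Iso.hom_inv_id,
    Category.comp_id]

section homology

variable (M M' : ModuleCat.{u} A) (o : M ⟶ M') (P : DRing.Cx A) (n : ℤ)
  [(tensorLeft M).PreservesHomology] [(tensorLeft M').PreservesHomology]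

/-- `H^n(M ⊗ P^•) ≅ M ⊗ H^n(P)` for flat `M` -/
noncomputable def mhIso : ((GLf M).obj P).homology n ≅ M ⊗ P.homology n :=
  (P.sc n).mapHomologyIso (tensorLeft M)

lemma mhIso_naturality :
    HomologicalComplex.homologyMap ((GLfmap o).app P) n ≫ (mhIso M' P n).hom =
      (mhIso M P n).hom ≫ (o ▷ P.homology n) := by
  have h1 := NatTrans.app_homology ((T A).map o) (P.sc n)
  rw [show o ▷ P.homology n = (mhIso M P n).inv ≫
    HomologicalComplex.homologyMap ((GLfmap o).app P) n ≫ (mhIso M' P n).hom from h1]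
  rw [Iso.hom_inv_id_assoc]

/-- `H^n(M[0] ⊗ P) ≅ M ⊗ H^n(P)` for flat `M` -/
noncomputable def ζ : (S0 M ⊗ P).homology n ≅ M ⊗ P.homology n :=
  (HomologicalComplex.homologyFunctor _ _ n).mapIso (tsIso M P).symm ≪≫ mhIso M P n

lemma ζ_naturality :
    HomologicalComplex.homologyMap (S0map o ▷ P) n ≫ (ζ M' P n).hom =
      (ζ M P n).hom ≫ (o ▷ P.homology n) := by
  have h3 := congrArg (fun f => HomologicalComplex.homologyMap f n) (tsIso_inv_naturality o P)
  simp only [HomologicalComplex.homologyMap_comp] at h3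
  dsimp only [ζ, Iso.trans_hom, Functor.mapIso_hom, Iso.symm_hom]
  change (HomologicalComplex.homologyMap (S0map o ▷ P) n ≫
    HomologicalComplex.homologyMap (tsIso M' P).inv n ≫ _) =
    (HomologicalComplex.homologyMap (tsIso M P).inv n ≫ _) ≫ _
  rw [Category.assoc, ← mhIso_naturality, ← Category.assoc, ← Category.assoc, h3]

end homology

end DCAdic

end Groth.Agent.Lib.Helper18.DR
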