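import Mathlib
import Groth.Agent.Lib.Helper18.CechD

/-!
# Local duality and derived completion: general lemmas (helper18)
-/

set_option autoImplicit false
set_option linter.style.haveILetI false
universe u
open CategoryTheory CategoryTheory.Limits CategoryTheory.Pretriangulated HomologicalComplex
  DerivedCategory MonoidalCategory CochainComplex CochainComplex.HomComplex

attribute [local instance] HasDerivedCategory.standard

namespace Groth.Agent.Lib.Helper18.DR

namespace LDual

open RHomCmp

variable {A : Type u} [CommRing A]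

/-- `Hom•(-, J)` kills maps which vanish in `D(A)`, for `J` K-injective -/
theorem Q_map_precomp_eq_zero {X Y : DRing.Cx A} (c : X ⟶ Y)
    (hc : DerivedCategory.Q.map c = 0) (J : DRing.Cx A) [J.IsKInjective] :
    DerivedCategory.Q.map (HomCx.precomp c J) = 0 := by
  obtain ⟨P, p, hP, hp⟩ := DTenB.exists_kprojective_quasiIso X
  haveI := hP
  haveI := hp
  haveI : QuasiIso (HomCx.precomp p J) := HomCx.quasiIso_precomp J p
  haveI : IsIso (DerivedCategory.Q.map (HomCx.precomp p J)) := inferInstance
  have h0 : DerivedCategory.Q.map (p ≫ c) = DerivedCategory.Q.map (0 : P ⟶ Y) := by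
    rw [Functor.map_comp, hc, comp_zero, Functor.map_zero]
  obtain ⟨H⟩ := nonempty_homotopy_of_map_eq P Y _ _ h0
  have h1 : DerivedCategory.Q.map (HomCx.precomp (p ≫ c) J) = 0 := by
    rw [DerivedCategory.Q_map_eq_of_homotopy _ (HomCx.precompHomotopy H J), HomCx.precomp_zero,
      Functor.map_zero]
  rw [HomCx.precomp_comp, Functor.map_comp] at h1
  rw [← cancel_mono (DerivedCategory.Q.map (HomCx.precomp p J)), h1, zero_comp]

/-- naturality of the adjunction isomorphism in the first variable -/
lemma homCxAdjIso_naturality_left {X X' : DRing.Cx A} (a : X' ⟶ X) (K L : DRing.Cx A) :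
    HomCx.precomp a (DRing.homCx K L) ≫ (HomCx.homCxAdjIso X' K L).hom =
      (HomCx.homCxAdjIso X K L).hom ≫ HomCx.precomp (a ▷ K) L := by
  refine HomologicalComplex.hom_ext _ _ (fun n => ?_)
  refine ModuleCat.hom_ext (LinearMap.ext fun (z : Cochain X (DRing.homCx K L) n) => ?_)
  exact HomCx.unc_comp_left a z

end LDual

end Groth.Agent.Lib.Helper18.DR
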