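import Mathlib
import Groth.Agent.Lib.Helper18.LDualA
import Groth.Agent.Lib.Helper2.Tot.DRingSymm

/-!
# The extended Čech complex is K-flat; `Č ⊗ W` has torsion cohomology (helper18)
-/

set_option autoImplicit false
set_option linter.style.haveILetI false
universe u
open CategoryTheory CategoryTheory.Limits CategoryTheory.Pretriangulated HomologicalComplex
  DerivedCategory MonoidalCategory CochainComplex

attribute [local instance] HasDerivedCategory.standard

namespace Groth.Agent.Lib.Helper18.DR

namespace LDual

open RHomCmp Cech Groth.Agent.Lib.Helper2.Tot Groth.Agent.Lib.Helper2.Tot.DR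

variable {A : Type u} [CommRing A]

lemma flat_localizedModule (S : Submonoid A) (M : Type u) [AddCommGroup M] [Module A M]
    [Module.Flat A M] : Module.Flat A (LocalizedModule S M) := by
  haveI : Module.Flat (Localization S) (LocalizedModule S M) :=
    Module.Flat.of_isLocalizedModule (R := A) (M := M) (Localization S) S
      (LocalizedModule.mkLinearMap S M)
  haveI : Module.Flat A (Localization S) := IsLocalization.flat (Localization S) S
  exact Module.Flat.trans A (Localization S) (LocalizedModule S M)

theorem flat_extCech_X (M : ModuleCat.{u} A) (hM : Module.Flat A M) (l : List A) :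
    ∀ n : ℤ, Module.Flat A ((DerCA.extCech M l).X n) := by
  induction l with
  | nil =>
    intro n
    by_cases h : n = 0
    · subst h
      exact (flatProp A).iso (HomologicalComplex.singleObjXSelf (ComplexShape.up ℤ) 0 M).symm hM
    · exact (flatProp A).zero (HomologicalComplex.isZero_single_obj_X (ComplexShape.up ℤ) 0 M n h)
  | cons f fs ih =>
    intro n
    let φ := DerCA.locCxUnit (Submonoid.powers f) (DerCA.extCech M fs)
    change Module.Flat A ((mappingCocone φ).X n)
    refine (flatProp A).iso (DerCA.mappingCoconeXIso φ n).symm ((flatProp A).biprod (ih n) ?_)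
    haveI := ih (n - 1)
    exact flat_localizedModule (Submonoid.powers f) ((DerCA.extCech M fs).X (n - 1))

theorem isZero_extCech_X (M : ModuleCat.{u} A) (l : List A) :
    ∀ n : ℤ, (l.length : ℤ) < n → IsZero ((DerCA.extCech M l).X n) := by
  induction l with
  | nil =>
    intro n hn
    exact HomologicalComplex.isZero_single_obj_X (ComplexShape.up ℤ) 0 M n
      (by simp at hn; omega)
  | cons f fs ih =>
    intro n hn
    let φ := DerCA.locCxUnit (Submonoid.powers f) (DerCA.extCech M fs)
    change IsZero ((mappingCocone φ).X n)
    have hn' : (fs.length : ℤ) + 1 < n := by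
      simpa using hn
    refine IsZero.of_iso ?_ (DerCA.mappingCoconeXIso φ n)
    have h1 : IsZero ((DerCA.extCech M fs).X n) := ih n (by omega)
    have h2 : IsZero ((DerCA.extCech M fs).X (n - 1)) := ih (n - 1) (by omega)
    have h3 : IsZero (((DerCA.locCx (Submonoid.powers f)).obj (DerCA.extCech M fs)).X (n - 1)) :=
      (DerCA.locFunctor (Submonoid.powers f)).map_isZero h2
    rw [IsZero.iff_id_eq_zero]
    apply biprod.hom_ext
    · exact h1.eq_of_tgt _ _
    · exact h3.eq_of_tgt _ _

end LDual

end Groth.Agent.Lib.Helper18.DR
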