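import Mathlib
import Groth.Agent.Lib.Helper18.CechD
import Groth.Agent.Lib.Helper18.LDualC
import Groth.Agent.Lib.Helper18.DCTensA
import Groth.Agent.Lib.Helper18.DRInj

/-!
# Objects left orthogonal to the derived complete objects, and `- ⊗ P` (helper18)
-/

set_option autoImplicit false
set_option linter.style.haveILetI false
universe u
open CategoryTheory CategoryTheory.Limits CategoryTheory.Pretriangulated HomologicalComplex
  DerivedCategory MonoidalCategory

attribute [local instance] HasDerivedCategory.standard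

namespace Groth.Agent.Lib.Helper18.DR

namespace DCAdic

open Groth.Agent.Lib.Helper2.PRes RHomCmp Groth.Agent.Lib.Helper2.Tot
  Groth.Agent.Lib.Helper2.Tot.DR Cech

variable {A : Type u} [CommRing A]

/-- `X` has no nonzero maps to objects which are derived `g`-complete for all `g ∈ l` -/
def OrthL (l : List A) (X : Dual.D A) : Prop :=
  ∀ E : Dual.D A, (∀ g ∈ l, FC g E) → ∀ φ : X ⟶ E, φ = 0

/-- the first map of a triangle whose third vertex is orthogonal is universal -/
theorem preBij_of_orthL (l : List A) (T : Triangle (Dual.D A)) (hT : T ∈ distTriang (Dual.D A))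
    (h3 : OrthL l T.obj₃) (E : Dual.D A) (hE : ∀ g ∈ l, FC g E) : PreBij E T.mor₁ := by
  refine bijective_precomp_of_triangle T hT E (fun φ => h3 E hE φ) (fun φ => ?_)
  let a : T.obj₃ ≅ (T.obj₃⟦(-1 : ℤ)⟧)⟦(1 : ℤ)⟧ :=
    ((shiftFunctorCompIsoId (Dual.D A) (-1 : ℤ) 1 (by omega)).app _).symm
  have h1 : a.hom ≫ φ⟦(1 : ℤ)⟧' = 0 := h3 (E⟦(1 : ℤ)⟧) (fun g hg => (hE g hg).shift 1) _
  have h2 : φ⟦(1 : ℤ)⟧' = 0 := by rw [← cancel_epi a.hom, h1, comp_zero]
  apply (CategoryTheory.shiftFunctor (Dual.D A) (1 : ℤ)).map_injective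
  rw [h2, Functor.map_zero]

/-- if `X ⊗ C` is acyclic for a K-flat `C`, there are no nonzero maps `X ⟶ Hom•(C, J)` -/
theorem hom_homCx_eq_zero_of_acyclic (X C J : DRing.Cx A) [J.IsKInjective] (hC : KFlat (T A) C)
    (h : (X ⊗ C).Acyclic)
    (φ : DerivedCategory.Q.obj X ⟶ DRing.toD (DRing.homCx C J)) : φ = 0 := by
  obtain ⟨PX, b, hPX, hb⟩ := DTenB.exists_kprojective_quasiIso X
  haveI := hPX
  haveI := hb
  haveI : IsIso (DerivedCategory.Q.map b) := inferInstance
  obtain ⟨t, ht⟩ := exists_map_eq PX (DRing.homCx C J) (DerivedCategory.Q.map b ≫ φ)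
  haveI : QuasiIso (b ▷ C) := quasiIso_map₁_of_kflat hC b
  have h1 : (PX ⊗ C).Acyclic := acyclic_of_quasiIso' (b ▷ C) h
  have H := CochainComplex.IsKInjective.homotopyZero (HomCx.uncurryHom t) h1
  have H' : Homotopy t 0 :=
    HomCx.homotopyOfUncurry (H.trans (Homotopy.ofEq HomCx.uncurryHom_zero.symm))
  have h0 : DerivedCategory.Q.map t = 0 := by
    rw [DerivedCategory.Q_map_eq_of_homotopy _ H', Functor.map_zero]
  rw [← cancel_epi (DerivedCategory.Q.map b), comp_zero, ← ht, h0]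

/-- every object which is derived complete for all `g ∈ l` is of the form `Hom•(Č, J)` -/
theorem exists_iso_homCx_extCech (l : List A) (E : Dual.D A) (hE : ∀ g ∈ l, FC g E) :
    ∃ (J : DRing.Cx A) (_ : J.IsKInjective),
      Nonempty (E ≅ DRing.toD (DRing.homCx (DerCA.extCech (ModuleCat.of A A) l) J)) := by
  let L : DRing.Cx A := DerivedCategory.Q.objPreimage E
  let eK : DRing.toD L ≅ E := DerivedCategory.Q.objObjPreimageIso E
  obtain ⟨J, j, hJ, hj⟩ := RHomK.hasKInj L
  haveI := hJ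
  haveI := hj
  let u0 : DRing.homCx (DerCA.extCech (ModuleCat.of A A) []) J ≅ J := HomCx.homCxUnitIso J
  let η : E ⟶ DRing.toD (DRing.homCx (DerCA.extCech (ModuleCat.of A A) l) J) :=
    eK.inv ≫ DerivedCategory.Q.map j ≫ DerivedCategory.Q.map u0.inv ≫
      DerivedCategory.Q.map (HomCx.precomp (aug (ModuleCat.of A A) l) J)
  have hZ : ∀ g ∈ l, FC g (DRing.toD (DRing.homCx (DerCA.extCech (ModuleCat.of A A) l) J)) :=
    fun g hg => fc_homCx_extCech (ModuleCat.of A A) l J g hg
  have hη : ∀ E' : Dual.D A, (∀ g ∈ l, FC g E') → PreBij E' η := by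
    intro E' hE'
    haveI : IsIso (DerivedCategory.Q.map j) := inferInstance
    exact (PreBij.of_isIso E' eK.inv).comp ((PreBij.of_isIso E' _).comp
      ((PreBij.of_isIso E' (DerivedCategory.Q.map u0.inv)).comp
        (preBij_aug (ModuleCat.of A A) l J E' hE')))
  obtain ⟨d, -⟩ := nonempty_iso_of_universal
    (P := fun L => ∀ g ∈ l, FC g L) η (𝟙 E) hZ hE hη
    (fun L' _ => PreBij.of_isIso L' (𝟙 E))
  exact ⟨J, hJ, ⟨d.symm⟩⟩

/-- `X` is orthogonal when `X ⊗ Č` is acyclic -/
theorem orthL_of_acyclic_tensor_extCech (l : List A) (X : DRing.Cx A)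
    (h : (X ⊗ DerCA.extCech (ModuleCat.of A A) l).Acyclic) :
    OrthL l (DerivedCategory.Q.obj X) := by
  intro E hE φ
  obtain ⟨J, hJ, ⟨e⟩⟩ := exists_iso_homCx_extCech l E hE
  haveI := hJ
  have hM : Module.Flat A (ModuleCat.of A A) := inferInstanceAs (Module.Flat A A)
  haveI := isStrictlyLE_of_vanishesAbove (DerCA.extCech (ModuleCat.of A A) l) (l.length : ℤ)
    (fun n hn => LDual.isZero_extCech_X (ModuleCat.of A A) l n hn)
  have hC : KFlat (T A) (DerCA.extCech (ModuleCat.of A A) l) :=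
    kflat_of_isStrictlyLE _ (l.length : ℤ)
      (fun n => LDual.flat_extCech_X (ModuleCat.of A A) hM l n)
  have h0 := hom_homCx_eq_zero_of_acyclic X _ J hC h (φ ≫ e.hom)
  rw [← cancel_mono e.hom, h0, zero_comp]

/-- orthogonality is preserved by `- ⊗ F` for `F` K-projective -/
theorem orthL_tensor (l : List A) (W F : DRing.Cx A) [F.IsKProjective]
    (hW : OrthL l (DerivedCategory.Q.obj W)) : OrthL l (DerivedCategory.Q.obj (W ⊗ F)) := by
  intro E hE ψ
  obtain ⟨PW, b, hPW, hb⟩ := DTenB.exists_kprojective_quasiIso W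
  haveI := hPW
  haveI := hb
  haveI : IsIso (DerivedCategory.Q.map b) := inferInstance
  haveI : QuasiIso (b ▷ F) := inferInstance
  haveI : IsIso (DerivedCategory.Q.map (b ▷ F)) := inferInstance
  let L : DRing.Cx A := DerivedCategory.Q.objPreimage E
  let e : DRing.toD L ≅ E := DerivedCategory.Q.objObjPreimageIso E
  obtain ⟨J, j, hJ, hj⟩ := RHomK.hasKInj L
  haveI := hJ
  haveI := hj
  haveI : IsIso (DerivedCategory.Q.map j) := inferInstance
  let eJ : E ≅ DRing.toD J := e.symm ≪≫ asIso (DerivedCategory.Q.map j)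
  obtain ⟨s, hs⟩ := exists_map_eq_inj (PW ⊗ F) J
    (DerivedCategory.Q.map (b ▷ F) ≫ ψ ≫ eJ.hom)
  have hc : ∀ g ∈ l, FC g (DRing.toD (DRing.homCx F J)) :=
    fun g hg => fc_homCx g F J ((hE g hg).of_iso eJ)
  have h0 : DerivedCategory.Q.map (HomCx.curryHom s) = 0 := by
    have h1 := hW _ hc (inv (DerivedCategory.Q.map b) ≫ DerivedCategory.Q.map (HomCx.curryHom s))
    rw [← cancel_epi (inv (DerivedCategory.Q.map b)), h1, comp_zero]
  obtain ⟨H⟩ := nonempty_homotopy_of_map_eq PW _ (HomCx.curryHom s) 0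
    (by rw [h0, Functor.map_zero])
  have H' : Homotopy s 0 :=
    (Homotopy.ofEq (HomCx.uncurryHom_curryHom s).symm).trans
      ((HomCx.uncurryHomotopy H).trans (Homotopy.ofEq HomCx.uncurryHom_zero))
  have hs0 : DerivedCategory.Q.map s = 0 := by
    rw [DerivedCategory.Q_map_eq_of_homotopy _ H', Functor.map_zero]
  rw [hs0] at hs
  have h2 : ψ ≫ eJ.hom = 0 := by
    rw [← cancel_epi (DerivedCategory.Q.map (b ▷ F)), comp_zero, ← hs]
  rw [← cancel_mono eJ.hom, h2, zero_comp]

end DCAdic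

end Groth.Agent.Lib.Helper18.DR
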