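import Mathlib
import Groth.Agent.Lib.Helper18.DCAdicB

/-!
# Universal arrows to derived complete objects and `- ⊗ P` (helper18)
-/

set_option autoImplicit false
set_option linter.style.haveILetI false
universe u
open CategoryTheory CategoryTheory.Limits CategoryTheory.Pretriangulated HomologicalComplex
  DerivedCategory MonoidalCategory

attribute [local instance] HasDerivedCategory.standard

namespace Groth.Agent.Lib.Helper18.DR

namespace DCAdic

open Groth.Agent.Lib.Helper2.PRes RHomCmp Groth.Agent.Lib.Helper2.Tot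
  Groth.Agent.Lib.Helper2.Tot.DR Cech

variable {A : Type u} [CommRing A] {X Y : DRing.Cx A} (u : X ⟶ Y)

instance mono_cylι : Mono (cylι u) := by
  haveI : ∀ n, Mono ((cylι u).f n) := fun n => mono_of_mono_fac (cylι_f_retraction u n)
  exact HomologicalComplex.mono_of_mono_f _ inferInstance

/-- the short exact sequence `X ⟶ cyl(u) ⟶ coker` -/
noncomputable def cylSC : ShortComplex (DRing.Cx A) :=
  ShortComplex.mk (cylι u) (cokernel.π (cylι u)) (cokernel.condition _)

lemma cylSC_shortExact : (cylSC u).ShortExact :=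
  ShortComplex.ShortExact.mk' (ShortComplex.exact_cokernel (cylι u))
    (inferInstanceAs (Mono (cylι u))) (inferInstanceAs (Epi (cokernel.π (cylι u))))

/-- it is termwise split -/
noncomputable def cylSCσ (p : ℤ) :
    ((cylSC u).map (HomologicalComplex.eval _ (ComplexShape.up ℤ) p)).Splitting := by
  have hSp : ((cylSC u).map (HomologicalComplex.eval _ (ComplexShape.up ℤ) p)).ShortExact :=
    (cylSC_shortExact u).map_of_exact _
  haveI := hSp.epi_g
  exact ShortComplex.Splitting.ofExactOfRetraction _ hSp.exact _ (cylι_f_retraction u p)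
    hSp.epi_g

lemma cylSC_tensor_shortExact (C : DRing.Cx A) :
    ((cylSC u).map ((T A).map₂CochainComplex.flip.obj C)).ShortExact :=
  shortExact_map₁ (T A) C (cylSC u)
    (fun p q => ((cylSCσ u p).map ((T A).flip.obj (C.X q))).shortExact)

/-- `coker ⊗ C` is acyclic when `u ⊗ C` is a quasi-isomorphism and `C` is K-flat -/
theorem acyclic_cokCyl_tensor (C : DRing.Cx A) (hC : KFlat (T A) C) [QuasiIso (u ▷ C)] :
    ((cylSC u).X₃ ⊗ C).Acyclic := by
  have hS' := cylSC_tensor_shortExact u C
  let π : cyl (R := X) (K' := Y) ⟶ Y := cylπ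
  haveI : QuasiIso π := inferInstanceAs (QuasiIso (cylπ : cyl (R := X) (K' := Y) ⟶ Y))
  haveI : QuasiIso (π ▷ C) := quasiIso_map₁_of_kflat hC π
  have h3 : cylι u ▷ C ≫ π ▷ C = u ▷ C := by
    rw [← MonoidalCategory.comp_whiskerRight, cylι_π]
  haveI : QuasiIso (cylι u ▷ C ≫ π ▷ C) := by rw [h3]; infer_instance
  have h4 : QuasiIso (cylι u ▷ C) := quasiIso_of_comp_right (cylι u ▷ C) (π ▷ C)
  exact hS'.acyclic_X₃ h4

/-- if the cokernel of `X ⟶ cyl(u)` is orthogonal, `u ⊗ P` is universal -/
theorem preBij_whiskerRight_of_orthL (l : List A) (P : DRing.Cx A) [P.IsKProjective]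
    (hW : OrthL l (DerivedCategory.Q.obj (cylSC u).X₃)) (E : Dual.D A) (hE : ∀ g ∈ l, FC g E) :
    PreBij E (DerivedCategory.Q.map (u ▷ P)) := by
  have hS' := cylSC_tensor_shortExact u P
  have hT₃ := DerivedCategory.triangleOfSES_distinguished hS'
  have hW' : OrthL l (DerivedCategory.Q.obj ((cylSC u).X₃ ⊗ P)) := orthL_tensor l _ P hW
  have b1 := preBij_of_orthL l _ hT₃ hW' E hE
  change PreBij E (DerivedCategory.Q.map (cylι u ▷ P)) at b1
  let π : cyl (R := X) (K' := Y) ⟶ Y := cylπ
  haveI : QuasiIso π := inferInstanceAs (QuasiIso (cylπ : cyl (R := X) (K' := Y) ⟶ Y))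
  haveI : QuasiIso (π ▷ P) := inferInstance
  haveI : IsIso (DerivedCategory.Q.map (π ▷ P)) := inferInstance
  have b2 : PreBij E (DerivedCategory.Q.map (π ▷ P)) := PreBij.of_isIso E _
  have h3 : DerivedCategory.Q.map (u ▷ P) =
      DerivedCategory.Q.map (cylι u ▷ P) ≫ DerivedCategory.Q.map (π ▷ P) := by
    rw [← Functor.map_comp, ← MonoidalCategory.comp_whiskerRight, cylι_π]
  rw [h3]
  exact PreBij.comp b1 b2

/-- **`u ⊗ P` is universal when `u ⊗ Č` is a quasi-isomorphism** -/
theorem preBij_whiskerRight (l : List A)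
    [QuasiIso (u ▷ DerCA.extCech (ModuleCat.of A A) l)] (P : DRing.Cx A) [P.IsKProjective]
    (E : Dual.D A) (hE : ∀ g ∈ l, FC g E) : PreBij E (DerivedCategory.Q.map (u ▷ P)) := by
  have hM : Module.Flat A (ModuleCat.of A A) := inferInstanceAs (Module.Flat A A)
  haveI := isStrictlyLE_of_vanishesAbove (DerCA.extCech (ModuleCat.of A A) l) (l.length : ℤ)
    (fun n hn => LDual.isZero_extCech_X (ModuleCat.of A A) l n hn)
  have hC : KFlat (T A) (DerCA.extCech (ModuleCat.of A A) l) :=
    kflat_of_isStrictlyLE _ (l.length : ℤ)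
      (fun n => LDual.flat_extCech_X (ModuleCat.of A A) hM l n)
  exact preBij_whiskerRight_of_orthL u l P
    (orthL_of_acyclic_tensor_extCech l _ (acyclic_cokCyl_tensor u _ hC)) E hE

end DCAdic

end Groth.Agent.Lib.Helper18.DR
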