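import Mathlib
import Groth.Agent.Lib.Helper18.DCAdicA
import Groth.Agent.Lib.Helper18.DCAdicC
import Groth.Agent.S7041

/-!
# `A ⟶ Â` tensored with a K-projective complex is a derived completion (helper18)
-/

set_option autoImplicit false
set_option linter.style.haveILetI false
universe u
open CategoryTheory CategoryTheory.Limits CategoryTheory.Pretriangulated HomologicalComplex
  DerivedCategory MonoidalCategory
open scoped TensorProduct

attribute [local instance] HasDerivedCategory.standard

namespace Groth.Agent.Lib.Helper18.DR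

namespace DCAdic

open Groth.Agent.Lib.Helper2.PRes RHomCmp Groth.Agent.Lib.Helper2.Tot
  Groth.Agent.Lib.Helper2.Tot.DR Cech TotSingleR

variable {A : Type u} [CommRing A] (I : Ideal A)

lemma mem_map_iff_mem_ker_eval (hI : I.FG) (n : ℕ) (b : AdicCompletion I A) :
    b ∈ Ideal.map (algebraMap A (AdicCompletion I A)) (I ^ n) ↔
      b ∈ LinearMap.ker (AdicCompletion.eval I A n) := by
  rw [← AdicCompletion.pow_smul_top_eq_ker_eval hI, Ideal.smul_top_eq_map]
  rfl

lemma bijective_quotientMap_adicCompletion (hI : I.FG) (n : ℕ) :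
    Function.Bijective (Ideal.quotientMap (Ideal.map (algebraMap A (AdicCompletion I A)) (I ^ n))
      (algebraMap A (AdicCompletion I A)) Ideal.le_comap_map) := by
  constructor
  · apply Ideal.quotientMap_injective'
    intro a ha
    rw [Ideal.mem_comap, mem_map_iff_mem_ker_eval I hI, LinearMap.mem_ker,
      AdicCompletion.algebraMap_apply, Algebra.algebraMap_self_apply, AdicCompletion.eval_of,
      Submodule.mkQ_apply, Submodule.Quotient.mk_eq_zero] at ha
    simpa using ha
  · intro y
    obtain ⟨b, rfl⟩ := Ideal.Quotient.mk_surjective y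
    obtain ⟨a, ha⟩ := Submodule.mkQ_surjective _ (AdicCompletion.eval I A n b)
    refine ⟨Ideal.Quotient.mk _ a, ?_⟩
    rw [Ideal.quotientMap_mk, Ideal.Quotient.eq, mem_map_iff_mem_ker_eval I hI, LinearMap.mem_ker,
      map_sub, AdicCompletion.algebraMap_apply, Algebra.algebraMap_self_apply,
      AdicCompletion.eval_of, ha, sub_self]

/-- `Â` as an `A`-module -/
noncomputable abbrev Bm : ModuleCat.{u} A := ModuleCat.of A (AdicCompletion I A)

/-- the map `A ⟶ Â` -/
noncomputable def oA : 𝟙_ (ModuleCat.{u} A) ⟶ Bm I := ModuleCat.ofHom (AdicCompletion.of I A)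

lemma oA_whiskerRight_apply (N : ModuleCat.{u} A)
    (t : (𝟙_ (ModuleCat.{u} A) ⊗ N : ModuleCat.{u} A)) :
    (oA I ▷ N).hom t = (1 : AdicCompletion I A) ⊗ₜ[A] ((λ_ N).hom.hom t) := by
  induction t using TensorProduct.induction_on with
  | zero => simp
  | tmul a x =>
    rw [ModuleCat.MonoidalCategory.whiskerRight_apply]
    erw [ModuleCat.MonoidalCategory.leftUnitor_hom_apply]
    change (AdicCompletion.of I A a) ⊗ₜ[A] x = _
    rw [TensorProduct.tmul_smul, TensorProduct.smul_tmul']
    congr 1
    have h1 : AdicCompletion.of I A a = algebraMap A (AdicCompletion I A) a := rfl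
    rw [h1, Algebra.algebraMap_eq_smul_one]
  | add x y hx hy => rw [map_add, map_add, TensorProduct.tmul_add, hx, hy]

lemma isIso_oA_whiskerRight (hI : I.FG) (N : ModuleCat.{u} A)
    (hN : LocCoh.IsPowerTorsion I N) : IsIso (oA I ▷ N) := by
  have hb := Groth.Agent.S7041.result (R' := AdicCompletion I A) I
    (fun n _ => bijective_quotientMap_adicCompletion I hI n) N hN
  rw [ConcreteCategory.isIso_iff_bijective]
  have hl : Function.Bijective ((λ_ N).hom.hom) :=
    (ConcreteCategory.isIso_iff_bijective (λ_ N).hom).1 inferInstance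
  have e : ⇑(ConcreteCategory.hom (oA I ▷ N)) =
      (fun m : N => (1 : AdicCompletion I A) ⊗ₜ[A] m) ∘ ((λ_ N).hom.hom) := by
    funext t
    exact oA_whiskerRight_apply I N t
  rw [e]
  exact hb.comp hl

/-- `I`-power torsion from torsion with respect to generators -/
lemma isPowerTorsion_of_forall_mem (l : List A) (N : Type u) [AddCommGroup N] [Module A N]
    (h : ∀ x : N, ∀ g ∈ l, ∃ n : ℕ, g ^ n • x = 0) :
    LocCoh.IsPowerTorsion (Ideal.span {x : A | x ∈ l}) N := by
  intro x
  have hle : Ideal.span {x : A | x ∈ l} ≤ (Ideal.torsionOf A N x).radical := by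
    rw [Ideal.span_le]
    intro g hg
    obtain ⟨n, hn⟩ := h x g hg
    exact ⟨n, (Ideal.mem_torsionOf_iff _ _).2 hn⟩
  have hfg : (Ideal.span {x : A | x ∈ l}).FG := by
    classical
    exact ⟨l.toFinset, by congr 1; ext y; simp⟩
  obtain ⟨N', hN'⟩ := Ideal.exists_pow_le_of_le_radical_of_fg hle hfg
  exact ⟨N', fun a ha => (Ideal.mem_torsionOf_iff _ _).1 (hN' ha)⟩

lemma span_list_fg (l : List A) : (Ideal.span {x : A | x ∈ l}).FG := by
  classical
  exact ⟨l.toFinset, by congr 1; ext y; simp⟩

section noeth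

variable [IsNoetherianRing A]

instance flat_Bm : Module.Flat A (Bm I) :=
  inferInstanceAs (Module.Flat A (AdicCompletion I A))

instance preservesHomology_tensorLeft_Bm : (tensorLeft (Bm I)).PreservesHomology := by
  haveI : PreservesFiniteLimits (tensorLeft (Bm I)) := inferInstance
  infer_instance

instance preservesHomology_tensorLeft_unit :
    (tensorLeft (𝟙_ (ModuleCat.{u} A))).PreservesHomology := by
  haveI : Module.Flat A (𝟙_ (ModuleCat.{u} A)) := inferInstanceAs (Module.Flat A A)
  haveI : PreservesFiniteLimits (tensorLeft (𝟙_ (ModuleCat.{u} A))) := inferInstance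
  infer_instance

/-- `A[0] ⊗ Č ⟶ Â[0] ⊗ Č` is a quasi-isomorphism -/
instance quasiIso_S0map_oA_extCech (l : List A) :
    QuasiIso (S0map (oA (Ideal.span {x : A | x ∈ l})) ▷
      DerCA.extCech (ModuleCat.of A A) l) := by
  rw [quasiIso_iff]
  intro n
  rw [quasiIsoAt_iff_isIso_homologyMap]
  have hnat := ζ_naturality (𝟙_ (ModuleCat.{u} A)) (Bm (Ideal.span {x : A | x ∈ l}))
    (oA (Ideal.span {x : A | x ∈ l})) (DerCA.extCech (ModuleCat.of A A) l) n
  haveI : IsIso (oA (Ideal.span {x : A | x ∈ l}) ▷
      (DerCA.extCech (ModuleCat.of A A) l).homology n) :=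
    isIso_oA_whiskerRight _ (span_list_fg l) _
      (isPowerTorsion_of_forall_mem l _ (fun x g hg =>
        Groth.Agent.Lib.Helper20.CechKill.exists_pow_smul_eq_zero (ModuleCat.of A A) l n x g hg))
  have h : HomologicalComplex.homologyMap (S0map (oA (Ideal.span {x : A | x ∈ l})) ▷
      DerCA.extCech (ModuleCat.of A A) l) n =
      (ζ (𝟙_ (ModuleCat.{u} A)) (DerCA.extCech (ModuleCat.of A A) l) n).hom ≫
        (oA (Ideal.span {x : A | x ∈ l}) ▷ (DerCA.extCech (ModuleCat.of A A) l).homology n) ≫
          (ζ (Bm (Ideal.span {x : A | x ∈ l})) (DerCA.extCech (ModuleCat.of A A) l) n).inv := by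
    rw [← Category.assoc, ← hnat, Category.assoc, Iso.hom_inv_id, Category.comp_id]
  rw [h]
  infer_instance

/-- **`P ≅ A[0] ⊗ P ⟶ Â[0] ⊗ P` is universal among maps to derived complete objects** -/
theorem preBij_completion_tensor (l : List A) (P : DRing.Cx A) [P.IsKProjective]
    (E : Dual.D A) (hE : ∀ g ∈ l, FC g E) :
    PreBij E (DerivedCategory.Q.map (S0map (oA (Ideal.span {x : A | x ∈ l})) ▷ P)) :=
  preBij_whiskerRight (S0map (oA (Ideal.span {x : A | x ∈ l}))) l P E hE

/-- the cohomology of `Â[0] ⊗ P` is the adic completion of the cohomology of `P` -/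
theorem exists_homology_equiv (P : DRing.Cx A) (n : ℤ) [Module.Finite A (P.homology n)] :
    ∃ e : (S0 (Bm I) ⊗ P).homology n ≃ₗ[A] AdicCompletion I (P.homology n),
      ∀ y : (S0 (𝟙_ (ModuleCat.{u} A)) ⊗ P).homology n,
        e ((HomologicalComplex.homologyMap (S0map (oA I) ▷ P) n).hom y) =
          AdicCompletion.of I (P.homology n)
            ((λ_ (P.homology n)).hom.hom ((ζ (𝟙_ (ModuleCat.{u} A)) P n).hom.hom y)) := by
  refine ⟨(ζ (Bm I) P n).toLinearEquiv ≪≫ₗ
    (AdicCompletion.ofTensorProductEquivOfFiniteNoetherian I (P.homology n)).restrictScalars A,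
    fun y => ?_⟩
  have hnat := ζ_naturality (𝟙_ (ModuleCat.{u} A)) (Bm I) (oA I) P n
  have h1 : (ζ (Bm I) P n).hom.hom ((HomologicalComplex.homologyMap (S0map (oA I) ▷ P) n).hom y) =
      (oA I ▷ P.homology n).hom ((ζ (𝟙_ (ModuleCat.{u} A)) P n).hom.hom y) := by
    have := congrArg (fun f => f.hom y) hnat
    exact this
  change AdicCompletion.ofTensorProductEquivOfFiniteNoetherian I (P.homology n)
    ((ζ (Bm I) P n).hom.hom ((HomologicalComplex.homologyMap (S0map (oA I) ▷ P) n).hom y)) = _
  rw [h1, oA_whiskerRight_apply, AdicCompletion.ofTensorProductEquivOfFiniteNoetherian_apply,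
    AdicCompletion.ofTensorProduct_tmul, one_smul]

end noeth

end DCAdic

end Groth.Agent.Lib.Helper18.DR
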