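import Mathlib
import Groth.Agent.Lib.Helper18.DCAdicD
import Groth.Agent.Lib.Helper18.DRDC6
import Groth.Agent.Lib.Helper18.DRDC2
import Groth.Agent.Lib.Helper18.DCmp7
import Groth.Agent.Lib.Helper18.KProjC

/-!
# The cohomology of the derived completion is the adic completion of the cohomology
(Noetherian ring, finite cohomology modules) (helper18)
-/

set_option autoImplicit false
set_option linter.style.haveILetI false
universe u
open CategoryTheory CategoryTheory.Limits CategoryTheory.Pretriangulated HomologicalComplex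
  DerivedCategory MonoidalCategory
open scoped TensorProduct

attribute [local instance] HasDerivedCategory.standard

namespace Groth.Agent.Lib.Helper18.DR

namespace DCAdic

open Groth.Agent.Lib.Helper2.PRes RHomCmp Groth.Agent.Lib.Helper2.Tot
  Groth.Agent.Lib.Helper2.Tot.DR Cech TotSingleR

variable {A : Type u} [CommRing A]

lemma isDerivedComplete_of_iso (I : Ideal A) {X Y : Dual.D A} (e : X ≅ Y)
    (h : DRing.IsDerivedComplete I X) : DRing.IsDerivedComplete I Y :=
  (isDerivedComplete_iff_fc I Y).2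
    (fun f hf => FC.of_iso e ((isDerivedComplete_iff_fc I X).1 h f hf))

/-- the comparison `H^n(Q X) ≃ H^n(X)` -/
noncomputable def facEquiv (X : DRing.Cx A) (n : ℤ) :
    Dual.HD A (DerivedCategory.Q.obj X) n ≃ₗ[A] X.homology n :=
  ((DerivedCategory.homologyFunctorFactors (ModuleCat.{u} A) n).app X).toLinearEquiv

lemma facEquiv_naturality {X Y : DRing.Cx A} (v : X ⟶ Y) (n : ℤ)
    (z : Dual.HD A (DerivedCategory.Q.obj X) n) :
    facEquiv Y n (((DerivedCategory.homologyFunctor (ModuleCat.{u} A) n).map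
      (DerivedCategory.Q.map v)).hom z) =
      (HomologicalComplex.homologyMap v n).hom (facEquiv X n z) := by
  have h := (DerivedCategory.homologyFunctorFactors (ModuleCat.{u} A) n).hom.naturality v
  exact congrArg (fun f => f.hom z) h

variable [IsNoetherianRing A]

/-- **S7060** -/
theorem homology_derivedCompletion_equiv (I : Ideal A) [DRing.HasDerivedCompletion I]
    (K : Dual.D A) (hK : ∀ n : ℤ, Module.Finite A (Dual.HD A K n)) (n : ℤ) :
    ∃ e : Dual.HD A ((DRing.derivedCompletion I).obj K).obj n ≃ₗ[A]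
        AdicCompletion I (Dual.HD A K n),
      ∀ x : Dual.HD A K n,
        e (((DerivedCategory.homologyFunctor (ModuleCat.{u} A) n).map
          (DRing.toDerivedCompletion I K)).hom x) = AdicCompletion.of I (Dual.HD A K n) x := by
  classical
  obtain ⟨s, hs⟩ := (IsNoetherian.noetherian I : I.FG)
  have hl : Ideal.span {x : A | x ∈ s.toList} = I := by
    rw [← hs]
    congr 1
    ext x
    simp
  subst hl
  obtain ⟨P, hP, -, ⟨κ₀⟩⟩ := exists_kprojective_resolution K
  haveI := hP
  let l : List A := s.toList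
  let lam : P ≅ S0 (𝟙_ (ModuleCat.{u} A)) ⊗ P :=
    show P ≅ 𝟙_ (DRing.Cx A) ⊗ P from (λ_ P).symm
  let v : S0 (𝟙_ (ModuleCat.{u} A)) ⊗ P ⟶ S0 (Bm (Ideal.span {x : A | x ∈ l})) ⊗ P :=
    S0map (oA (Ideal.span {x : A | x ∈ l})) ▷ P
  let κ : K ≅ DerivedCategory.Q.obj (S0 (𝟙_ (ModuleCat.{u} A)) ⊗ P) :=
    κ₀.symm ≪≫ DerivedCategory.Q.mapIso lam
  -- the cohomology of `P`
  let β : ∀ i : ℤ, Dual.HD A K i ≃ₗ[A] P.homology i := fun i =>
    ((DerivedCategory.homologyFunctor (ModuleCat.{u} A) i).mapIso κ).toLinearEquiv ≪≫ₗ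
      facEquiv _ i ≪≫ₗ (ζ (𝟙_ (ModuleCat.{u} A)) P i).toLinearEquiv ≪≫ₗ
        (λ_ (P.homology i)).toLinearEquiv
  haveI hfin : ∀ i : ℤ, Module.Finite A (P.homology i) := fun i =>
    haveI := hK i
    Module.Finite.equiv (β i)
  -- completeness of the target
  have hcomp : DRing.IsDerivedComplete (Ideal.span {x : A | x ∈ l})
      (DerivedCategory.Q.obj (S0 (Bm (Ideal.span {x : A | x ∈ l})) ⊗ P)) := by
    rw [isDerivedComplete_iff_cohomology]
    intro i
    obtain ⟨e₀, -⟩ := exists_homology_equiv (Ideal.span {x : A | x ∈ l}) P i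
    haveI : IsAdicComplete (Ideal.span {x : A | x ∈ l})
        (AdicCompletion (Ideal.span {x : A | x ∈ l}) (P.homology i)) :=
      AdicCompletion.isAdicComplete (span_list_fg l)
    have h1 := isDerivedComplete_of_isAdicComplete
      (M := AdicCompletion (Ideal.span {x : A | x ∈ l}) (P.homology i))
      (Ideal.span {x : A | x ∈ l})
    refine isDerivedComplete_of_iso _ ?_ h1
    exact (DerivedCategory.singleFunctor (ModuleCat.{u} A) 0).mapIso
      ((facEquiv _ i ≪≫ₗ e₀).symm.toModuleIso)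
  -- universality
  have huniv : ∀ E : Dual.D A, DRing.IsDerivedComplete (Ideal.span {x : A | x ∈ l}) E →
      PreBij E (κ.hom ≫ DerivedCategory.Q.map v) := by
    intro E hE
    have hE' : ∀ g ∈ l, FC g E := fun g hg =>
      (isDerivedComplete_iff_fc _ E).1 hE g (Ideal.subset_span hg)
    exact (PreBij.of_isIso E κ.hom).comp (preBij_completion_tensor l P E hE')
  obtain ⟨d, hd⟩ := nonempty_iso_of_universal
    (P := fun L => DRing.IsDerivedComplete (Ideal.span {x : A | x ∈ l}) L)
    (DRing.toDerivedCompletion (Ideal.span {x : A | x ∈ l}) K)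
    (κ.hom ≫ DerivedCategory.Q.map v)
    ((DRing.derivedCompletion (Ideal.span {x : A | x ∈ l})).obj K).property hcomp
    (fun L' hL' => bijective_toDerivedCompletion_comp _ K L' hL') huniv
  obtain ⟨e₀, he₀⟩ := exists_homology_equiv (Ideal.span {x : A | x ∈ l}) P n
  obtain ⟨a₁, ha₁⟩ : ∃ a₁ : Dual.HD A ((DRing.derivedCompletion
      (Ideal.span {x : A | x ∈ l})).obj K).obj n ≃ₗ[A]
      Dual.HD A (DerivedCategory.Q.obj (S0 (Bm (Ideal.span {x : A | x ∈ l})) ⊗ P)) n,
      ∀ y, a₁ y = ((DerivedCategory.homologyFunctor (ModuleCat.{u} A) n).map d.hom).hom y :=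
    ⟨((DerivedCategory.homologyFunctor (ModuleCat.{u} A) n).mapIso d).toLinearEquiv,
      fun _ => rfl⟩
  obtain ⟨cg, hcg⟩ : ∃ cg : AdicCompletion (Ideal.span {x : A | x ∈ l}) (P.homology n) ≃ₗ[A]
      AdicCompletion (Ideal.span {x : A | x ∈ l}) (Dual.HD A K n),
      ∀ z, cg z = AdicCompletion.map (Ideal.span {x : A | x ∈ l})
        ((β n).symm : P.homology n →ₗ[A] Dual.HD A K n) z :=
    ⟨(AdicCompletion.congr (Ideal.span {x : A | x ∈ l}) (β n).symm).restrictScalars A,
      fun _ => rfl⟩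
  have hβ : ∀ x : Dual.HD A K n, β n x = (λ_ (P.homology n)).hom.hom
      ((ζ (𝟙_ (ModuleCat.{u} A)) P n).hom.hom (facEquiv _ n
        (((DerivedCategory.homologyFunctor (ModuleCat.{u} A) n).map κ.hom).hom x))) :=
    fun _ => rfl
  refine ⟨a₁ ≪≫ₗ facEquiv _ n ≪≫ₗ e₀ ≪≫ₗ cg, ?_⟩
  intro x
  have h1 : ((DerivedCategory.homologyFunctor (ModuleCat.{u} A) n).map d.hom).hom
      (((DerivedCategory.homologyFunctor (ModuleCat.{u} A) n).map
        (DRing.toDerivedCompletion (Ideal.span {x : A | x ∈ l}) K)).hom x) =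
      ((DerivedCategory.homologyFunctor (ModuleCat.{u} A) n).map
        (DerivedCategory.Q.map v)).hom
        (((DerivedCategory.homologyFunctor (ModuleCat.{u} A) n).map κ.hom).hom x) := by
    have h2 := congrArg (fun f => ((DerivedCategory.homologyFunctor (ModuleCat.{u} A) n).map
      f).hom x) hd
    simp only [Functor.map_comp] at h2
    exact h2
  rw [LinearEquiv.trans_apply, LinearEquiv.trans_apply, LinearEquiv.trans_apply, ha₁, h1,
    facEquiv_naturality, he₀, ← hβ, hcg, AdicCompletion.map_of]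
  congr 1
  exact (β n).symm_apply_apply x

end DCAdic

end Groth.Agent.Lib.Helper18.DR
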