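import Mathlib
import Groth.Agent.Lib.Helper18.DRExtAR

/-!
# Artin–Rees for `Ext^p(M, N) → Ext^p(I^n M, N)` (helper18)
-/

set_option autoImplicit false
set_option linter.style.haveILetI false
universe u
open CategoryTheory CategoryTheory.Limits DerivedCategory

attribute [local instance] HasDerivedCategory.standard

namespace Groth.Agent.Lib.Helper18.DR

variable {A : Type u} [CommRing A] [IsNoetherianRing A] (I : Ideal A)
  (N : Type u) [AddCommGroup N] [Module A N]

open Abelian in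
theorem ext_AR_aux (p : ℕ) : ∀ (M : Type u) [AddCommGroup M] [Module A M] [Module.Finite A M],
    ∃ c : ℕ, ∀ (k : ℕ) (x : Ext (ModuleCat.of A M) (ModuleCat.of A N) p),
      ∃ x' : Ext (ModuleCat.of A ↥(I ^ (k + c) • ⊤ : Submodule A M))
          (ModuleCat.of A ↥(I ^ k • ⊤ : Submodule A N)) p,
        x'.comp (Ext.mk₀ (ModuleCat.ofHom (I ^ k • ⊤ : Submodule A N).subtype)) (add_zero p) =
          (Ext.mk₀ (ModuleCat.ofHom (I ^ (k + c) • ⊤ : Submodule A M).subtype)).comp x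
            (zero_add p) := by
  induction p with
  | zero =>
    intro M _ _ _
    refine ⟨0, fun k x => ?_⟩
    obtain ⟨f, rfl⟩ := (Ext.mk₀_bijective _ _).2 x
    have hf : ∀ z ∈ (I ^ (k + 0) • ⊤ : Submodule A M), f.hom z ∈ (I ^ k • ⊤ : Submodule A N) :=
      fun z hz => map_mem_smul_top (I ^ k) f.hom hz
    let f' : ↥(I ^ (k + 0) • ⊤ : Submodule A M) →ₗ[A] ↥(I ^ k • ⊤ : Submodule A N) :=
      f.hom.restrict hf
    refine ⟨Ext.mk₀ (ModuleCat.ofHom f'), ?_⟩
    rw [Ext.mk₀_comp_mk₀, Ext.mk₀_comp_mk₀]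
    rfl
  | succ p ih =>
    intro M _ _ _
    obtain ⟨t, π, hπ⟩ := Module.Finite.exists_fin' A M
    let P₀ := Fin t → A
    let K : Submodule A P₀ := LinearMap.ker π
    let S := π.shortComplexKer
    have hS : S.ShortExact := LinearMap.shortExact_shortComplexKer hπ
    haveI : Module.Finite A K := Module.IsNoetherian.finite A K
    obtain ⟨c₁, hc₁⟩ := Ideal.exists_pow_inf_eq_pow_smul I K
    obtain ⟨c₂, hc₂⟩ := ih K
    refine ⟨c₂ + c₁, fun k x => ?_⟩
    -- `x` comes from `Ext^p(K, N)`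
    haveI : Projective S.X₂ := by
      rw [← IsProjective.iff_projective]
      exact (inferInstance : Module.Projective A (Fin t → A))
    obtain ⟨y, hy⟩ := Ext.contravariant_sequence_exact₃ hS (ModuleCat.of A N) x
      (Ext.eq_zero_of_projective _) (show 1 + p = p + 1 by omega)
    -- the restricted sequence
    set n := k + (c₂ + c₁) with hn
    have hπn : ∀ z ∈ (I ^ n • ⊤ : Submodule A P₀), π z ∈ (I ^ n • ⊤ : Submodule A M) :=
      fun z hz => map_mem_smul_top (I ^ n) π hz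
    let πn : ↥(I ^ n • ⊤ : Submodule A P₀) →ₗ[A] ↥(I ^ n • ⊤ : Submodule A M) := π.restrict hπn
    have hπn_surj : Function.Surjective πn := by
      rintro ⟨m, hm⟩
      have h1 : (I ^ n • ⊤ : Submodule A M) = Submodule.map π (I ^ n • ⊤ : Submodule A P₀) := by
        rw [Submodule.map_smul'', Submodule.map_top, LinearMap.range_eq_top.2 hπ]
      rw [h1] at hm
      obtain ⟨z, hz, rfl⟩ := hm
      exact ⟨⟨z, hz⟩, rfl⟩
    let Sn := πn.shortComplexKer
    have hSn : Sn.ShortExact := LinearMap.shortExact_shortComplexKer hπn_surj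
    -- the map of short exact sequences
    have hτ₁ : ∀ z : LinearMap.ker πn, (z.1.1 : P₀) ∈ K := fun z => by
      have h1 : πn z.1 = 0 := z.2
      have h2 := congrArg Subtype.val h1
      exact h2
    let τ₁ : LinearMap.ker πn →ₗ[A] K :=
      LinearMap.codRestrict K ((I ^ n • ⊤ : Submodule A P₀).subtype ∘ₗ (LinearMap.ker πn).subtype)
        hτ₁
    let φ : Sn ⟶ S :=
      { τ₁ := ModuleCat.ofHom τ₁
        τ₂ := ModuleCat.ofHom (I ^ n • ⊤ : Submodule A P₀).subtype
        τ₃ := ModuleCat.ofHom (I ^ n • ⊤ : Submodule A M).subtype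
        comm₁₂ := rfl
        comm₂₃ := rfl }
    have hnat := ShortComplex.ShortExact.extClass_naturality hSn hS φ
    -- `τ₁` factors through `I^(k + c₂) K`
    have hj : ∀ z : LinearMap.ker πn, τ₁ z ∈ (I ^ (k + c₂) • ⊤ : Submodule A K) := by
      intro z
      rw [Submodule.mem_smul_top_iff]
      have h1 : (z.1.1 : P₀) ∈ (I ^ n • ⊤ : Submodule A P₀) ⊓ K := ⟨z.1.2, hτ₁ z⟩
      rw [hc₁ n (by omega)] at h1
      have h2 : n - c₁ = k + c₂ := by omega
      rw [h2] at h1
      exact Submodule.smul_mono le_rfl inf_le_right h1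
    let j : LinearMap.ker πn →ₗ[A] ↥(I ^ (k + c₂) • ⊤ : Submodule A K) :=
      LinearMap.codRestrict _ τ₁ hj
    have hjτ : (ModuleCat.ofHom j : Sn.X₁ ⟶ ModuleCat.of A ↥(I ^ (k + c₂) • ⊤ : Submodule A K)) ≫
        (ModuleCat.ofHom (I ^ (k + c₂) • ⊤ : Submodule A K).subtype :
          ModuleCat.of A ↥(I ^ (k + c₂) • ⊤ : Submodule A K) ⟶ S.X₁) = φ.τ₁ := by
      ext z
      rfl
    obtain ⟨y', hy'⟩ := hc₂ k y
    refine ⟨hSn.extClass.comp ((Ext.mk₀ (ModuleCat.ofHom j)).comp y' (zero_add p))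
      (show 1 + p = p + 1 by omega), ?_⟩
    rw [Ext.comp_assoc_of_third_deg_zero, Ext.comp_assoc_of_third_deg_zero, hy',
      Ext.mk₀_comp_mk₀_assoc, hjτ, ← hy]
    have h3 : (Ext.mk₀ φ.τ₃).comp (hS.extClass.comp y (show 1 + p = p + 1 by omega))
        (zero_add (p + 1)) =
        hSn.extClass.comp ((Ext.mk₀ φ.τ₁).comp y (zero_add p)) (show 1 + p = p + 1 by omega) := by
      rw [← Ext.comp_assoc (Ext.mk₀ φ.τ₃) hS.extClass y (zero_add 1) (show 1 + p = p + 1 by omega)
        (by omega), ← hnat, Ext.comp_assoc_of_second_deg_zero]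
    exact h3.symm

end Groth.Agent.Lib.Helper18.DR

namespace Groth.Agent.Lib.Helper18.DR

open Abelian in
/-- S7148 -/
theorem ext_restrict_to_pow_mul_factors (A : Type u) [CommRing A] [IsNoetherianRing A]
    (I : Ideal A) (M N : Type u) [AddCommGroup M] [Module A M] [Module.Finite A M]
    [AddCommGroup N] [Module A N] (p : ℕ) :
    ∃ c : ℕ, ∀ n : ℕ, c ≤ n →
      ∀ e : Dual.inD A M ⟶ (Dual.inD A N)⟦(p : ℤ)⟧,
        ∃ e' : Dual.inD A ↥(I ^ n • ⊤ : Submodule A M) ⟶
            (Dual.inD A ↥(I ^ (n - c) • ⊤ : Submodule A N))⟦(p : ℤ)⟧,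
          e' ≫ ((DerivedCategory.singleFunctor (ModuleCat.{u} A) 0).map
                  (ModuleCat.ofHom (I ^ (n - c) • ⊤ : Submodule A N).subtype))⟦(p : ℤ)⟧' =
            (DerivedCategory.singleFunctor (ModuleCat.{u} A) 0).map
                (ModuleCat.ofHom (I ^ n • ⊤ : Submodule A M).subtype) ≫ e := by
  obtain ⟨c, hc⟩ := ext_AR_aux I N p M
  refine ⟨c, fun n hn e => ?_⟩
  obtain ⟨x, rfl⟩ : ∃ x : Ext (ModuleCat.of A M) (ModuleCat.of A N) p, x.hom = e :=
    ⟨Ext.homEquiv.symm e, Ext.homEquiv.apply_symm_apply e⟩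
  obtain ⟨x', hx'⟩ := hc (n - c) x
  generalize hm' : n - c + c = m at x' hx'
  obtain rfl : m = n := by omega
  refine ⟨x'.hom, ?_⟩
  rw [Ext.hom_comp_singleFunctor_map_shift, hx', Ext.singleFunctor_map_comp_hom]

end Groth.Agent.Lib.Helper18.DR
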