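import Mathlib
import Groth.Agent.Lib.Helper18.DRExtAR2
import Groth.Agent.Lib.Helper18.DRNoeth

/-!
# Detecting `H^i(K) ≠ m H^i(K)` by a map to a torsion module (helper18)
-/

set_option autoImplicit false
set_option linter.style.haveILetI false
universe u
open CategoryTheory CategoryTheory.Limits CategoryTheory.Pretriangulated DerivedCategory

attribute [local instance] HasDerivedCategory.standard

namespace Groth.Agent.Lib.Helper18.DR

variable {A : Type u} [CommRing A]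

/-- the class of a cocycle `z ∈ Z^i(F)` as a morphism `A[-i] → F` composed with the class of a
cocycle `φ : F^i → E` is `φ z` -/
lemma H_clsSg_ne_zero (F : DRing.Cx A) (i : ℤ) (E : ModuleCat.{u} A) (φ : Zc F i E)
    (z : F.X i) (hz : (F.d i (i + 1)).hom z = 0) (hφz : φ.1 z ≠ 0) :
    (H A i).map (clsSg F i E φ) ≠ 0 := by
  intro h0
  let g₀ : ModuleCat.of A A ⟶ F.X i := ModuleCat.ofHom (LinearMap.toSpanSingleton A (F.X i) z)
  have hg₀ : ∀ k : ℤ, (ComplexShape.up ℤ).Rel i k → g₀ ≫ F.d i k = 0 := by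
    intro k hk
    obtain rfl : i + 1 = k := hk
    ext
    change (F.d i (i + 1)).hom ((1 : A) • z) = 0
    rw [one_smul, hz]
  let G : (HomologicalComplex.single (ModuleCat.{u} A) (ComplexShape.up ℤ) i).obj
      (ModuleCat.of A A) ⟶ F := HomologicalComplex.mkHomFromSingle g₀ hg₀
  have hcomp : G ≫ toSgMap F i E (ModuleCat.ofHom φ.1) (Zc_cond F i φ) =
      (HomologicalComplex.single (ModuleCat.{u} A) (ComplexShape.up ℤ) i).map
        (g₀ ≫ ModuleCat.ofHom φ.1) := by
    apply HomologicalComplex.to_single_hom_ext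
    rw [HomologicalComplex.comp_f, toSgMap_f, HomologicalComplex.mkHomFromSingle_f,
      HomologicalComplex.single_map_f_self]
    simp
    rfl
  have h1 : (DerivedCategory.Q.map G : Sg i (ModuleCat.of A A) ⟶ DRing.toD F) ≫ clsSg F i E φ =
      (singleFunctor (ModuleCat.{u} A) i).map (g₀ ≫ ModuleCat.ofHom φ.1) := by
    have h := congrArg (fun t => DerivedCategory.Q.map t) hcomp
    exact (Functor.map_comp _ _ _).symm.trans h
  have h2 : (H A i).map ((singleFunctor (ModuleCat.{u} A) i).map (g₀ ≫ ModuleCat.ofHom φ.1)) = 0 := by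
    have h := congrArg (fun t => (H A i).map t) h1
    refine h.symm.trans ?_
    refine ((H A i).map_comp _ _).trans ?_
    rw [h0, comp_zero]
    rfl
  have h3 := HSg_naturality i (g₀ ≫ ModuleCat.ofHom φ.1)
  rw [h2, zero_comp] at h3
  have h4 : g₀ ≫ ModuleCat.ofHom φ.1 = 0 := by
    rw [← cancel_epi (HSg i (ModuleCat.of A A)).hom, ← h3, comp_zero]
  apply hφz
  have h5 := congrArg (fun t => t.hom (1 : A)) h4
  change φ.1 ((1 : A) • z) = 0 at h5
  rwa [one_smul] at h5


/-- S6989 -/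
theorem exists_hom_to_torsion_nonzero [IsNoetherianRing A] (K : Dual.D A)
    (hb : ∃ b : ℤ, ∀ j : ℤ, b < j → Subsingleton (Dual.HD A K j))
    (hfin : ∀ j : ℤ, Module.Finite A (Dual.HD A K j)) (m : Ideal A) (i : ℤ)
    (hi : m • (⊤ : Submodule A (Dual.HD A K i)) ≠ ⊤) :
    ∃ (E : Type u) (_ : AddCommGroup E) (_ : Module A E) (_ : Module.Finite A E) (n : ℕ)
      (_ : m ^ n • (⊤ : Submodule A E) = ⊥)
      (f : K ⟶ (shiftFunctor (Dual.D A) (-i)).obj (Dual.inD A E)),
      (DerivedCategory.homologyFunctor (ModuleCat.{u} A) i).map f ≠ 0 := by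
  have hK : DRing.IsPseudoCoherent' A K :=
    (isPseudoCoherent'_iff_forall K).1
      (fun n => (isPseudoCoherent_iff_of_noetherian n K).2 ⟨hb, fun j _ => hfin j⟩)
  obtain ⟨F, c₀, hFc, hFff, ⟨e₀⟩⟩ := hK
  haveI := (hFff i).1
  haveI := (hFff i).2
  set Z : Submodule A (F.X i) := LinearMap.ker (F.d i (i + 1)).hom with hZ
  set B : Submodule A (F.X i) := LinearMap.range (F.d (i - 1) i).hom with hB
  have hBZ : B ≤ Z := by
    rintro _ ⟨x, rfl⟩
    change (F.d i (i + 1)).hom ((F.d (i - 1) i).hom x) = 0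
    have := F.d_comp_d (i - 1) i (i + 1)
    exact congrArg (fun t => t.hom x) this
  obtain ⟨c, hc⟩ := Ideal.exists_pow_inf_eq_pow_smul m Z
  set N : Submodule A (F.X i) := B ⊔ m ^ (c + 1) • ⊤ with hN
  -- the key claim
  have hkey : ∃ z ∈ Z, z ∉ N := by
    by_contra hcon
    push_neg at hcon
    apply hi
    rw [eq_top_iff]
    intro x _
    -- transport to the chain-level model
    let ε₁ := HtoDLinearEquiv' F (i - 1) i (i + 1) (by omega) rfl
    let ε₂ : (H A i).obj (DRing.toD F) ≃ₗ[A] (H A i).obj K :=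
      ((H A i).mapIso e₀).toLinearEquiv
    obtain ⟨y, rfl⟩ : ∃ y, ε₂ y = x := ε₂.surjective x
    refine map_mem_smul_top m ε₂.toLinearMap ?_
    obtain ⟨w, rfl⟩ : ∃ w, ε₁.symm w = y := ε₁.symm.surjective y
    refine map_mem_smul_top m ε₁.symm.toLinearMap ?_
    obtain ⟨z, rfl⟩ := Submodule.mkQ_surjective _ w
    -- z ∈ Z, so z ∈ N = B + m^(c+1) F
    have hzN : (z : F.X i) ∈ N := hcon z z.2
    obtain ⟨b, hb', y, hy, hzy⟩ := Submodule.mem_sup.1 hzN
    have hyZ : y ∈ Z := by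
      have : y = z - b := by rw [← hzy]; abel
      rw [this]
      exact Z.sub_mem z.2 (hBZ hb')
    have hy2 : y ∈ m ^ (c + 1) • (⊤ : Submodule A (F.X i)) ⊓ Z := ⟨hy, hyZ⟩
    rw [hc (c + 1) (by omega)] at hy2
    have hy3 : y ∈ m • Z := by
      have h1 : c + 1 - c = 1 := by omega
      rw [h1, pow_one] at hy2
      exact Submodule.smul_mono le_rfl inf_le_right hy2
    have hy4 : (⟨y, hyZ⟩ : Z) ∈ m • (⊤ : Submodule A Z) :=
      (Submodule.mem_smul_top_iff m Z ⟨y, hyZ⟩).2 hy3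
    obtain ⟨b₀, rfl⟩ := hb'
    have hz' : (Submodule.mkQ (LinearMap.range (toCyc F (i - 1) i (i + 1)))) z =
        (Submodule.mkQ (LinearMap.range (toCyc F (i - 1) i (i + 1)))) ⟨y, hyZ⟩ := by
      rw [← sub_eq_zero, ← map_sub, Submodule.mkQ_apply, Submodule.Quotient.mk_eq_zero]
      refine ⟨b₀, ?_⟩
      apply Subtype.ext
      rw [toCyc_coe]
      change _ = (z : F.X i) - y
      rw [← hzy]; abel
    rw [hz']
    exact map_mem_smul_top m _ hy4
  obtain ⟨z, hzZ, hzN⟩ := hkey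
  -- the module E
  let φ₀ : F.X i →ₗ[A] (F.X i ⧸ N) := N.mkQ
  have hφ₀ : φ₀ ∈ Zc F i (ModuleCat.of A (F.X i ⧸ N)) := by
    rw [mem_Zc]
    ext x
    change N.mkQ ((F.d (i - 1) i).hom x) = 0
    rw [Submodule.mkQ_apply, Submodule.Quotient.mk_eq_zero]
    exact le_sup_left (a := B) ⟨x, rfl⟩
  let φ : Zc F i (ModuleCat.of A (F.X i ⧸ N)) := ⟨φ₀, hφ₀⟩
  have hφz : φ.1 z ≠ 0 := by
    change N.mkQ z ≠ 0
    rw [Submodule.mkQ_apply, Ne, Submodule.Quotient.mk_eq_zero]
    exact hzN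
  have hne := H_clsSg_ne_zero F i (ModuleCat.of A (F.X i ⧸ N)) φ z hzZ hφz
  have hEtors : m ^ (c + 1) • (⊤ : Submodule A (F.X i ⧸ N)) = ⊥ := by
    rw [eq_bot_iff]
    refine Submodule.smul_le.2 (fun r hr x _ => ?_)
    obtain ⟨y, rfl⟩ := Submodule.mkQ_surjective N x
    rw [Submodule.mem_bot, ← map_smul, Submodule.mkQ_apply, Submodule.Quotient.mk_eq_zero]
    exact le_sup_right (a := B) (Submodule.smul_mem_smul hr Submodule.mem_top)
  refine ⟨F.X i ⧸ N, inferInstance, inferInstance, inferInstance, c + 1, hEtors,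
    theta F i e₀ (-i) (by omega) (ModuleCat.of A (F.X i ⧸ N)) φ, ?_⟩
  intro h0
  apply hne
  rw [theta_apply] at h0
  have h1 := ((H A i).map_comp e₀.inv _).symm.trans h0
  have h2 : (H A i).map (clsSg F i (ModuleCat.of A (F.X i ⧸ N)) φ ≫
      (SgShiftIso (-i) i 0 (by omega) (ModuleCat.of A (F.X i ⧸ N))).inv) = 0 := by
    haveI : IsIso ((H A i).map e₀.inv) := inferInstance
    rw [← cancel_epi ((H A i).map e₀.inv), h1, comp_zero]
  have h3 := ((H A i).map_comp (clsSg F i (ModuleCat.of A (F.X i ⧸ N)) φ)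
    (SgShiftIso (-i) i 0 (by omega) (ModuleCat.of A (F.X i ⧸ N))).inv).symm.trans h2
  haveI : IsIso ((H A i).map (SgShiftIso (-i) i 0 (by omega) (ModuleCat.of A (F.X i ⧸ N))).inv) :=
    inferInstance
  rw [← cancel_mono ((H A i).map (SgShiftIso (-i) i 0 (by omega) (ModuleCat.of A (F.X i ⧸ N))).inv),
    h3, zero_comp]

end Groth.Agent.Lib.Helper18.DR
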