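import Mathlib

/-!
# Filtered colimits of modules and maps out of finite free modules (helper18)
-/

set_option autoImplicit false
universe u
open CategoryTheory CategoryTheory.Limits

namespace Groth.Agent.Lib.Helper18.DR

variable {R : Type u} [CommRing R] {J : Type u} [SmallCategory J] [IsFiltered J]
  {F : J ⥤ ModuleCat.{u} R} {c : Cocone F} (hc : IsColimit c)

include hc

lemma filt_exists_rep (x : c.pt) : ∃ (j : J) (y : F.obj j), c.ι.app j y = x :=
  Concrete.isColimit_exists_rep F hc x

lemma filt_exists_map_eq_zero (j : J) (y : F.obj j) (h : c.ι.app j y = 0) :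
    ∃ (j' : J) (f : j ⟶ j'), F.map f y = 0 := by
  obtain ⟨k, f, g, hfg⟩ := Concrete.isColimit_exists_of_rep_eq F hc y (0 : F.obj j)
    (by rw [h, map_zero])
  exact ⟨k, f, by rw [hfg, map_zero]⟩

omit hc in
lemma filt_ι_map {j j' : J} (f : j ⟶ j') (y : F.obj j) : c.ι.app j' (F.map f y) = c.ι.app j y := by
  rw [← c.w f]
  rfl

lemma filt_exists_rep_finset {ι : Type*} (s : Finset ι) (x : ι → c.pt) :
    ∃ (j : J) (y : ι → F.obj j), ∀ i ∈ s, c.ι.app j (y i) = x i := by
  classical
  induction s using Finset.induction_on with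
  | empty => exact ⟨IsFiltered.nonempty.some, fun _ => 0, by simp⟩
  | insert a s ha ih =>
    obtain ⟨j, y, hy⟩ := ih
    obtain ⟨j₁, y₁, hy₁⟩ := filt_exists_rep hc (x a)
    refine ⟨IsFiltered.max j j₁, fun i => if i = a then F.map (IsFiltered.rightToMax j j₁) y₁
      else F.map (IsFiltered.leftToMax j j₁) (y i), ?_⟩
    intro i hi
    beta_reduce
    by_cases hia : i = a
    · subst hia
      rw [if_pos rfl, filt_ι_map, hy₁]
    · rw [if_neg hia, filt_ι_map]
      exact hy i ((Finset.mem_insert.1 hi).resolve_left hia)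

lemma filt_exists_map_eq_zero_finset {ι : Type*} (s : Finset ι) (j : J) (y : ι → F.obj j)
    (h : ∀ i ∈ s, c.ι.app j (y i) = 0) :
    ∃ (j' : J) (f : j ⟶ j'), ∀ i ∈ s, F.map f (y i) = 0 := by
  classical
  induction s using Finset.induction_on with
  | empty => exact ⟨j, 𝟙 j, by simp⟩
  | insert a s ha ih =>
    obtain ⟨j₁, f₁, h₁⟩ := ih (fun i hi => h i (Finset.mem_insert_of_mem hi))
    obtain ⟨j₂, f₂, h₂⟩ := filt_exists_map_eq_zero hc j₁ (F.map f₁ (y a)) (by
      rw [filt_ι_map]
      exact h a (Finset.mem_insert_self a s))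
    refine ⟨j₂, f₁ ≫ f₂, fun i hi => ?_⟩
    have hcomp : F.map (f₁ ≫ f₂) (y i) = F.map f₂ (F.map f₁ (y i)) := by
      rw [F.map_comp]
      rfl
    rw [hcomp]
    rcases Finset.mem_insert.1 hi with rfl | hi
    · exact h₂
    · rw [h₁ i hi, map_zero]

/-- every map from a finite free module to a filtered colimit factors through a stage -/
theorem filt_exists_lift (P : ModuleCat.{u} R) [Module.Finite R P] [Module.Free R P]
    (φ : P ⟶ c.pt) : ∃ (j : J) (ψ : P ⟶ F.obj j), ψ ≫ c.ι.app j = φ := by
  let b := Module.Free.chooseBasis R P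
  obtain ⟨j, y, hy⟩ := filt_exists_rep_finset hc Finset.univ (fun i => φ (b i))
  refine ⟨j, ModuleCat.ofHom (b.constr R y), ?_⟩
  ext : 1
  apply b.ext
  intro i
  rw [ModuleCat.hom_comp, LinearMap.comp_apply, ModuleCat.hom_ofHom, Module.Basis.constr_basis]
  exact hy i (Finset.mem_univ i)

/-- a map from a finite free module to a stage vanishing in the colimit vanishes at a later stage -/
theorem filt_exists_eq_zero (P : ModuleCat.{u} R) [Module.Finite R P] [Module.Free R P]
    (j : J) (ψ : P ⟶ F.obj j) (h : ψ ≫ c.ι.app j = 0) :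
    ∃ (j' : J) (f : j ⟶ j'), ψ ≫ F.map f = 0 := by
  let b := Module.Free.chooseBasis R P
  obtain ⟨j', f, hf⟩ := filt_exists_map_eq_zero_finset hc Finset.univ j (fun i => ψ (b i))
    (fun i _ => by
      have := congrArg (fun g => g.hom (b i)) h
      simpa using this)
  refine ⟨j', f, ?_⟩
  ext : 1
  apply b.ext
  intro i
  rw [ModuleCat.hom_comp, LinearMap.comp_apply]
  exact hf i (Finset.mem_univ i)

end Groth.Agent.Lib.Helper18.DR
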