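import Mathlib
import Groth.Agent.Lib.Helper18.DRFilt
import Groth.Agent.Lib.Helper18.DRPC
import Groth.Agent.Lib.Helper18.DRInj
import Groth.Agent.Lib.Helper18.DRPerf
import Groth.Agent.Lib.Helper18.DRHomSg

/-!
# `Hom(K, -)` for `m`-pseudo-coherent `K` and filtered colimits of modules (helper18)
-/

set_option autoImplicit false
set_option linter.style.haveILetI false
universe u
open CategoryTheory CategoryTheory.Limits CategoryTheory.Pretriangulated DerivedCategory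

attribute [local instance] HasDerivedCategory.standard

namespace Groth.Agent.Lib.Helper18.DR

variable {R : Type u} [CommRing R]

lemma toSgMap_comp (P : DRing.Cx R) (n : ℤ) (M M' : ModuleCat.{u} R) (φ : P.X n ⟶ M)
    (hφ : P.d (n - 1) n ≫ φ = 0) (g : M ⟶ M') :
    toSgMap P n M φ hφ ≫ (CochainComplex.singleFunctor (ModuleCat.{u} R) n).map g =
      toSgMap P n M' (φ ≫ g) (by rw [reassoc_of% hφ, zero_comp]) := by
  apply HomologicalComplex.to_single_hom_ext
  rw [HomologicalComplex.comp_f, toSgMap_f, toSgMap_f]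
  change (φ ≫ _) ≫ ((HomologicalComplex.single _ _ n).map g).f n = _
  rw [HomologicalComplex.single_map_f_self]
  simp

lemma Q_toSgMap_comp (P : DRing.Cx R) (n : ℤ) (M M' : ModuleCat.{u} R) (φ : P.X n ⟶ M)
    (hφ : P.d (n - 1) n ≫ φ = 0) (g : M ⟶ M') :
    DerivedCategory.Q.map (toSgMap P n M φ hφ) ≫ (singleFunctor (ModuleCat.{u} R) n).map g =
      DerivedCategory.Q.map (toSgMap P n M' (φ ≫ g) (by rw [reassoc_of% hφ, zero_comp])) := by
  rw [← toSgMap_comp, Functor.map_comp]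
  rfl

/-- the coprojection, with the expected type -/
abbrev cι {J : Type u} [SmallCategory J] {F : J ⥤ ModuleCat.{u} R} (c : Cocone F) (j : J) :
    F.obj j ⟶ c.pt := c.ι.app j

section

variable {J : Type u} [SmallCategory J] [IsFiltered J]
  {F : J ⥤ ModuleCat.{u} R} {c : Cocone F} (hc : IsColimit c)

include hc

/-- finite free complexes: factorization -/
theorem filt_exists_factor_E (E : DRing.Cx R) [E.IsKProjective] (hE : DRing.TermwiseFiniteFree E)
    (n : ℤ) (ξ : DRing.toD E ⟶ Sg n c.pt) :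
    ∃ (j : J) (ξ' : DRing.toD E ⟶ Sg n (F.obj j)),
      ξ' ≫ (singleFunctor (ModuleCat.{u} R) n).map (cι c j) = ξ := by
  obtain ⟨φ, hφ, rfl⟩ := exists_hom_toSg E n c.pt ξ
  haveI := (hE n).1
  haveI := (hE n).2
  haveI := (hE (n - 1)).1
  haveI := (hE (n - 1)).2
  obtain ⟨j, ψ, hψ⟩ := filt_exists_lift hc (E.X n) φ
  obtain ⟨j', f, hf⟩ := filt_exists_eq_zero hc (E.X (n - 1)) j (E.d (n - 1) n ≫ ψ) (by
    rw [Category.assoc, hψ, hφ])
  have hψ' : E.d (n - 1) n ≫ ψ ≫ F.map f = 0 := by rw [← Category.assoc]; exact hf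
  refine ⟨j', DerivedCategory.Q.map (toSgMap E n (F.obj j') (ψ ≫ F.map f) hψ'), ?_⟩
  refine (Q_toSgMap_comp E n _ _ _ hψ' (cι c j')).trans ?_
  congr 2
  rw [Category.assoc]
  change ψ ≫ F.map f ≫ c.ι.app j' = φ
  rw [c.w f, hψ]

/-- finite free complexes: vanishing -/
theorem filt_exists_eq_zero_E (E : DRing.Cx R) [E.IsKProjective]
    (hE : DRing.TermwiseFiniteFree E) (n : ℤ) (j : J) (ξ : DRing.toD E ⟶ Sg n (F.obj j))
    (h : ξ ≫ (singleFunctor (ModuleCat.{u} R) n).map (cι c j) = 0) :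
    ∃ (j' : J) (f : j ⟶ j'), ξ ≫ (singleFunctor (ModuleCat.{u} R) n).map (F.map f) = 0 := by
  obtain ⟨φ, hφ, rfl⟩ := exists_hom_toSg E n (F.obj j) ξ
  haveI := (hE n).1
  haveI := (hE n).2
  haveI := (hE (n + 1)).1
  haveI := (hE (n + 1)).2
  have h' := (Q_toSgMap_comp E n _ _ φ hφ (cι c j)).symm.trans h
  obtain ⟨g, hg⟩ := (Q_map_toSgMap_eq_zero_iff E n c.pt _ _).1 h'
  change E.d n (n + 1) ≫ g = φ ≫ c.ι.app j at hg
  obtain ⟨j₁, g₁, hg₁⟩ := filt_exists_lift hc (E.X (n + 1)) g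
  let j₂ := IsFiltered.max j j₁
  let a : j ⟶ j₂ := IsFiltered.leftToMax j j₁
  let b : j₁ ⟶ j₂ := IsFiltered.rightToMax j j₁
  obtain ⟨j₃, f, hf⟩ := filt_exists_eq_zero hc (E.X n) j₂
    (φ ≫ F.map a - E.d n (n + 1) ≫ g₁ ≫ F.map b) (by
      rw [Preadditive.sub_comp, Category.assoc, Category.assoc, Category.assoc, c.w a, c.w b, hg₁,
        hg, sub_self])
  refine ⟨j₃, a ≫ f, ?_⟩
  refine (Q_toSgMap_comp E n _ _ φ hφ (F.map (a ≫ f))).trans ?_
  refine (Q_map_toSgMap_eq_zero_iff E n _ _ _).2 ?_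
  refine ⟨g₁ ≫ F.map b ≫ F.map f, ?_⟩
  rw [Preadditive.sub_comp, sub_eq_zero] at hf
  rw [F.map_comp, ← Category.assoc φ, hf]
  simp

end

/-- `Hom(-, N[-n])` is injective along an `m`-connected map for `n ≥ m` -/
lemma hom_eq_zero_of_isConn {A K : Dual.D R} (α : A ⟶ K) (m : ℤ) (hα : IsConn m α) (n : ℤ)
    (hn : m ≤ n) (N : ModuleCat.{u} R) (x : K ⟶ Sg n N) (h : α ≫ x = 0) : x = 0 := by
  obtain ⟨C, β, γ, hT⟩ := distinguished_cocone_triangle α
  haveI : C.IsLE (m - 1) := (isConn_iff_isLE_cone hT m).mp hα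
  haveI : C.IsLE (n - 1) := TStructure.t.isLE_of_le C (m - 1) (n - 1) (by omega)
  obtain ⟨z, hz⟩ := Triangle.yoneda_exact₂ _ hT x h
  have hz0 : z = 0 := hom_to_Sg_eq_zero_of_isLE n N C z
  rw [hz, hz0]
  exact comp_zero

/-- `Hom(-, N[-n])` is surjective along an `m`-connected map for `n > m` -/
lemma exists_hom_of_isConn {A K : Dual.D R} (α : A ⟶ K) (m : ℤ) (hα : IsConn m α) (n : ℤ)
    (hn : m < n) (N : ModuleCat.{u} R) (z : A ⟶ Sg n N) : ∃ x : K ⟶ Sg n N, α ≫ x = z := by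
  obtain ⟨C, β, γ, hT⟩ := distinguished_cocone_triangle α
  haveI : C.IsLE (m - 1) := (isConn_iff_isLE_cone hT m).mp hα
  haveI : (C⟦(-1 : ℤ)⟧).IsLE m := TStructure.t.isLE_shift C (m - 1) (-1) m (by omega)
  haveI : (C⟦(-1 : ℤ)⟧).IsLE (n - 1) := TStructure.t.isLE_of_le _ m (n - 1) (by omega)
  have hT' := inv_rot_of_distTriang _ hT
  obtain ⟨x, hx⟩ := Triangle.yoneda_exact₂ _ hT' z
    (hom_to_Sg_eq_zero_of_isLE n N (C⟦(-1 : ℤ)⟧) _)
  exact ⟨x, hx.symm⟩

section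

variable {J : Type u} [SmallCategory J] [IsFiltered J]
  {F : J ⥤ ModuleCat.{u} R} {c : Cocone F} (hc : IsColimit c)

include hc

theorem filt_exists_factor_K (m : ℤ) (K : Dual.D R) (hK : DRing.IsPseudoCoherent R m K) (n : ℤ)
    (hn : m < n) (x : K ⟶ Sg n c.pt) :
    ∃ (j : J) (y : K ⟶ Sg n (F.obj j)),
      y ≫ (singleFunctor (ModuleCat.{u} R) n).map (cι c j) = x := by
  obtain ⟨E, a, b, α, hE, hfree, hα⟩ := (isPseudoCoherent_iff m K).1 hK
  haveI : E.IsKProjective := isKProjective_of_finiteFree E b (VanishesOutside.above hE) hfree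
  obtain ⟨j, ξ', hξ'⟩ := filt_exists_factor_E hc E hfree n (α ≫ x)
  obtain ⟨y, hy⟩ := exists_hom_of_isConn α m hα n hn (F.obj j) ξ'
  refine ⟨j, y, ?_⟩
  have : α ≫ (y ≫ (singleFunctor (ModuleCat.{u} R) n).map (cι c j) - x) = 0 := by
    rw [Preadditive.comp_sub, ← Category.assoc, hy, hξ', sub_self]
  exact sub_eq_zero.1 (hom_eq_zero_of_isConn α m hα n hn.le c.pt _ this)

theorem filt_exists_eq_zero_K (m : ℤ) (K : Dual.D R) (hK : DRing.IsPseudoCoherent R m K) (n : ℤ)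
    (hn : m ≤ n) (j : J) (y : K ⟶ Sg n (F.obj j))
    (h : y ≫ (singleFunctor (ModuleCat.{u} R) n).map (cι c j) = 0) :
    ∃ (j' : J) (f : j ⟶ j'), y ≫ (singleFunctor (ModuleCat.{u} R) n).map (F.map f) = 0 := by
  obtain ⟨E, a, b, α, hE, hfree, hα⟩ := (isPseudoCoherent_iff m K).1 hK
  haveI : E.IsKProjective := isKProjective_of_finiteFree E b (VanishesOutside.above hE) hfree
  obtain ⟨j', f, hf⟩ := filt_exists_eq_zero_E hc E hfree n j (α ≫ y) (by
    rw [Category.assoc, h, comp_zero])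
  exact ⟨j', f, hom_eq_zero_of_isConn α m hα n hn (F.obj j') _ (by rw [← Category.assoc]; exact hf)⟩

/-- Stacks 0G8T -/
theorem filt_hom_pseudoCoherent (m : ℤ) (K : Dual.D R) (hK : DRing.IsPseudoCoherent R m K) :
    (∀ n : ℤ, n < -m → ∀ x : K ⟶ (shiftFunctor (Dual.D R) n).obj (Dual.inD R c.pt),
      ∃ (j : J) (y : K ⟶ (shiftFunctor (Dual.D R) n).obj (Dual.inD R (F.obj j))),
        y ≫ (shiftFunctor (Dual.D R) n).map
          ((DerivedCategory.singleFunctor (ModuleCat.{u} R) 0).map (c.ι.app j)) = x) ∧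
    (∀ n : ℤ, n ≤ -m → ∀ (j : J) (y : K ⟶ (shiftFunctor (Dual.D R) n).obj (Dual.inD R (F.obj j))),
      y ≫ (shiftFunctor (Dual.D R) n).map
          ((DerivedCategory.singleFunctor (ModuleCat.{u} R) 0).map (c.ι.app j)) = 0 →
      ∃ (j' : J) (f : j ⟶ j'), y ≫ (shiftFunctor (Dual.D R) n).map
          ((DerivedCategory.singleFunctor (ModuleCat.{u} R) 0).map (F.map f)) = 0) := by
  have hnat : ∀ (n : ℤ) {M M' : ModuleCat.{u} R} (g : M ⟶ M'),
      (shiftFunctor (Dual.D R) n).map ((singleFunctor (ModuleCat.{u} R) 0).map g) ≫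
        (SgShiftIso n (-n) 0 (by omega) M').hom =
      (SgShiftIso n (-n) 0 (by omega) M).hom ≫ (singleFunctor (ModuleCat.{u} R) (-n)).map g :=
    fun n _ _ g => ((singleFunctors (ModuleCat.{u} R)).shiftIso n (-n) 0 (by omega)).hom.naturality g
  constructor
  · intro n hn x
    obtain ⟨j, y, hy⟩ := filt_exists_factor_K hc m K hK (-n) (by omega)
      (x ≫ (SgShiftIso n (-n) 0 (by omega) c.pt).hom)
    refine ⟨j, y ≫ (SgShiftIso n (-n) 0 (by omega) (F.obj j)).inv, ?_⟩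
    rw [← cancel_mono (SgShiftIso n (-n) 0 (by omega) c.pt).hom, Category.assoc, Category.assoc]
    erw [hnat n (c.ι.app j)]
    rw [Iso.inv_hom_id_assoc]
    exact hy
  · intro n hn j y h
    obtain ⟨j', f, hf⟩ := filt_exists_eq_zero_K hc m K hK (-n) (by omega) j
      (y ≫ (SgShiftIso n (-n) 0 (by omega) (F.obj j)).hom) (by
        rw [Category.assoc, ← hnat n (c.ι.app j)]
        erw [reassoc_of% h]
        rw [zero_comp])
    refine ⟨j', f, ?_⟩
    rw [← cancel_mono (SgShiftIso n (-n) 0 (by omega) (F.obj j')).hom, zero_comp, Category.assoc]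
    erw [hnat n (F.map f)]
    rw [← Category.assoc]
    exact hf

end

end Groth.Agent.Lib.Helper18.DR
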