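import Mathlib
import Groth.Agent.Lib.Helper18.DRTorA
import Groth.Agent.Lib.Helper18.DRHomSg

/-!
# Comparing `Hom` in the homotopy category and in the derived category for complexes in degrees
`≤ 0` with projective top term mapping to complexes in degrees `≥ -1` (helper18)
-/

set_option autoImplicit false
set_option linter.style.haveILetI false
universe u
open CategoryTheory CategoryTheory.Limits CategoryTheory.Pretriangulated DerivedCategory ZeroObject
open CochainComplex.HomComplex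

attribute [local instance] HasDerivedCategory.standard

namespace Groth.Agent.Lib.Helper18.DR

section linalg

variable {R : Type u} [CommRing R]

lemma exists_factor_of_surjective {X Y Z : Type u} [AddCommGroup X] [Module R X] [AddCommGroup Y]
    [Module R Y] [AddCommGroup Z] [Module R Z] (p : X →ₗ[R] Y) (hp : Function.Surjective p)
    (f : X →ₗ[R] Z) (hf : LinearMap.ker p ≤ LinearMap.ker f) : ∃ g : Y →ₗ[R] Z, g ∘ₗ p = f := by
  refine ⟨(LinearMap.ker p).liftQ f hf ∘ₗ (p.quotKerEquivOfSurjective hp).symm.toLinearMap, ?_⟩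
  apply LinearMap.ext
  intro x
  have h1 : (p.quotKerEquivOfSurjective hp).symm (p x) = Submodule.Quotient.mk x := by
    rw [LinearEquiv.symm_apply_eq]
    rfl
  simp only [LinearMap.comp_apply, LinearEquiv.coe_coe, h1, Submodule.liftQ_apply]

lemma exists_homotopy_components {D₃ D₂ D₁ D₀ L₂ L₁ L₀ : Type u}
    [AddCommGroup D₃] [Module R D₃] [AddCommGroup D₂] [Module R D₂] [AddCommGroup D₁] [Module R D₁]
    [AddCommGroup D₀] [Module R D₀] [AddCommGroup L₂] [Module R L₂] [AddCommGroup L₁] [Module R L₁]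
    [AddCommGroup L₀] [Module R L₀]
    (δ₃ : D₃ →ₗ[R] D₂) (δ₂ : D₂ →ₗ[R] D₁) (δ₁ : D₁ →ₗ[R] D₀)
    (h₂ : Function.Exact δ₃ δ₂) (h₁ : Function.Exact δ₂ δ₁) (h₀ : Function.Surjective δ₁)
    [Module.Projective R D₀]
    (l₂ : L₂ →ₗ[R] L₁) (l₁ : L₁ →ₗ[R] L₀) (hl : l₁ ∘ₗ l₂ = 0)
    (f₂ : D₂ →ₗ[R] L₂) (f₁ : D₁ →ₗ[R] L₁) (f₀ : D₀ →ₗ[R] L₀)
    (c₃ : f₂ ∘ₗ δ₃ = 0) (c₂ : f₁ ∘ₗ δ₂ = l₂ ∘ₗ f₂) (c₁ : f₀ ∘ₗ δ₁ = l₁ ∘ₗ f₁) :
    ∃ (k₁ : D₁ →ₗ[R] L₂) (k₀ : D₀ →ₗ[R] L₁),
      f₂ = k₁ ∘ₗ δ₂ ∧ f₁ = l₂ ∘ₗ k₁ + k₀ ∘ₗ δ₁ ∧ f₀ = l₁ ∘ₗ k₀ := by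
  obtain ⟨s, hs⟩ := Module.projective_lifting_property δ₁ LinearMap.id h₀
  have hs' : ∀ y, δ₁ (s y) = y := fun y => LinearMap.congr_fun hs y
  let π : D₁ →ₗ[R] D₁ := LinearMap.id - s ∘ₗ δ₁
  have hπ : ∀ y, π y ∈ LinearMap.range δ₂ := by
    intro y
    rw [← LinearMap.exact_iff.mp h₁]
    change δ₁ (y - s (δ₁ y)) = 0
    rw [map_sub, hs', sub_self]
  have hπδ : ∀ x, π (δ₂ x) = δ₂ x := by
    intro x
    change δ₂ x - s (δ₁ (δ₂ x)) = δ₂ x
    rw [h₁.apply_apply_eq_zero, map_zero, sub_zero]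
  have hδ₂' : Function.Surjective δ₂.rangeRestrict := δ₂.surjective_rangeRestrict
  have hker : LinearMap.ker δ₂.rangeRestrict ≤ LinearMap.ker f₂ := by
    intro x hx
    have hx' : δ₂ x = 0 := congrArg Subtype.val (LinearMap.mem_ker.mp hx)
    obtain ⟨w, rfl⟩ := (h₂ x).mp hx'
    exact LinearMap.congr_fun c₃ w
  obtain ⟨g, hg⟩ := exists_factor_of_surjective δ₂.rangeRestrict hδ₂' f₂ hker
  let πZ : D₁ →ₗ[R] LinearMap.range δ₂ := π.codRestrict _ hπ
  have hk₁ : ∀ x, (g ∘ₗ πZ) (δ₂ x) = f₂ x := by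
    intro x
    have h1 : πZ (δ₂ x) = δ₂.rangeRestrict x := Subtype.ext (hπδ x)
    change g (πZ (δ₂ x)) = f₂ x
    rw [h1]
    exact LinearMap.congr_fun hg x
  have hker₀ : LinearMap.ker δ₁ ≤ LinearMap.ker (f₁ - l₂ ∘ₗ (g ∘ₗ πZ)) := by
    intro y hy
    obtain ⟨x, rfl⟩ := (h₁ y).mp (LinearMap.mem_ker.mp hy)
    rw [LinearMap.mem_ker]
    change f₁ (δ₂ x) - l₂ ((g ∘ₗ πZ) (δ₂ x)) = 0
    rw [hk₁, show f₁ (δ₂ x) = l₂ (f₂ x) from LinearMap.congr_fun c₂ x, sub_self]
  obtain ⟨k₀, hk₀⟩ := exists_factor_of_surjective δ₁ h₀ (f₁ - l₂ ∘ₗ (g ∘ₗ πZ)) hker₀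
  have hk₀' : ∀ y, k₀ (δ₁ y) = f₁ y - l₂ ((g ∘ₗ πZ) y) := fun y => LinearMap.congr_fun hk₀ y
  refine ⟨g ∘ₗ πZ, k₀, ?_, ?_, ?_⟩
  · apply LinearMap.ext
    intro x
    exact (hk₁ x).symm
  · apply LinearMap.ext
    intro y
    change f₁ y = l₂ ((g ∘ₗ πZ) y) + k₀ (δ₁ y)
    rw [hk₀']
    abel
  · apply LinearMap.ext
    intro z
    obtain ⟨y, rfl⟩ := h₀ z
    change f₀ (δ₁ y) = l₁ (k₀ (δ₁ y))
    rw [hk₀', map_sub, show l₁ (l₂ ((g ∘ₗ πZ) y)) = 0 from LinearMap.congr_fun hl _, sub_zero]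
    exact LinearMap.congr_fun c₁ y

end linalg

variable {R : Type u} [CommRing R]

/-- an acyclic complex in degrees `≤ 0` with projective top term has no nonzero homotopy classes
of maps to a complex in degrees `≥ -2` -/
theorem nonempty_homotopy_zero_of_acyclic (D L : DRing.Cx R)
    (hex : ∀ i, IsZero ((H R i).obj (DRing.toD D)))
    (hD : ∀ i : ℤ, 0 < i → IsZero (D.X i)) (hD0 : Module.Projective R (D.X 0))
    (hL : ∀ i : ℤ, i ≤ -3 → IsZero (L.X i)) (f : D ⟶ L) : Nonempty (Homotopy f 0) := by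
  have h₂ := (isZero_H_toD_iff D (-3) (-2) (-1) (by norm_num) (by norm_num)).mp (hex (-2))
  have h₁ := (isZero_H_toD_iff D (-2) (-1) 0 (by norm_num) (by norm_num)).mp (hex (-1))
  have h₀' := (isZero_H_toD_iff D (-1) 0 1 (by norm_num) (by norm_num)).mp (hex 0)
  have h₀ : Function.Surjective (D.d (-1) 0).hom := by
    intro y
    haveI : Subsingleton (D.X 1) := ModuleCat.subsingleton_of_isZero (hD 1 (by norm_num))
    exact (h₀' y).mp (Subsingleton.elim _ _)
  have hf3 : f.f (-3) = 0 := (hL (-3) le_rfl).eq_of_tgt _ _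
  have c₃ : (f.f (-2)).hom ∘ₗ (D.d (-3) (-2)).hom = 0 := by
    have := f.comm (-3) (-2)
    rw [hf3, zero_comp] at this
    rw [← ModuleCat.hom_comp, ← this]
    rfl
  have c₂ : (f.f (-1)).hom ∘ₗ (D.d (-2) (-1)).hom =
      (L.d (-2) (-1)).hom ∘ₗ (f.f (-2)).hom := by
    rw [← ModuleCat.hom_comp, ← ModuleCat.hom_comp, f.comm (-2) (-1)]
  have c₁ : (f.f 0).hom ∘ₗ (D.d (-1) 0).hom = (L.d (-1) 0).hom ∘ₗ (f.f (-1)).hom := by
    rw [← ModuleCat.hom_comp, ← ModuleCat.hom_comp, f.comm (-1) 0]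
  have hl : (L.d (-1) 0).hom ∘ₗ (L.d (-2) (-1)).hom = 0 := by
    rw [← ModuleCat.hom_comp, L.d_comp_d]
    rfl
  obtain ⟨k₁, k₀, e₂, e₁, e₀⟩ := exists_homotopy_components (D.d (-3) (-2)).hom
    (D.d (-2) (-1)).hom (D.d (-1) 0).hom h₂ h₁ h₀ (L.d (-2) (-1)).hom (L.d (-1) 0).hom hl
    (f.f (-2)).hom (f.f (-1)).hom (f.f 0).hom c₃ c₂ c₁
  let k₀' : D.X 0 ⟶ L.X (-1) := ModuleCat.ofHom k₀
  let k₁' : D.X (-1) ⟶ L.X (-2) := ModuleCat.ofHom k₁
  have E₀ : f.f 0 = k₀' ≫ L.d (-1) 0 := ModuleCat.hom_ext e₀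
  have E₁ : f.f (-1) = k₁' ≫ L.d (-2) (-1) + D.d (-1) 0 ≫ k₀' := ModuleCat.hom_ext e₁
  have E₂ : f.f (-2) = D.d (-2) (-1) ≫ k₁' := ModuleCat.hom_ext e₂
  refine ⟨(Cochain.equivHomotopy f 0).symm
    ⟨Cochain.single k₀' (-1) + Cochain.single k₁' (-1), ?_⟩⟩
  rw [Cochain.ofHom_zero, add_zero, δ_add,
    Cochain.δ_single k₀' (-1) 0 (by norm_num) (-1) 0 (by norm_num) (by norm_num),
    Cochain.δ_single k₁' (-1) 0 (by norm_num) (-2) (-1) (by norm_num) (by norm_num)]
  refine Cochain.ext _ _ (fun p q hpq => ?_)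
  obtain rfl : p = q := by omega
  simp only [Cochain.add_v, Cochain.units_smul_v, Cochain.ofHom_v, Int.negOnePow_zero, one_smul]
  by_cases hp0 : p = 0
  · subst hp0
    rw [Cochain.single_v, Cochain.single_v_eq_zero _ _ _ _ _ (by norm_num),
      Cochain.single_v_eq_zero _ _ _ _ _ (by norm_num),
      Cochain.single_v_eq_zero _ _ _ _ _ (by norm_num)]
    rw [E₀]
    abel
  · by_cases hp1 : p = -1
    · subst hp1
      rw [Cochain.single_v_eq_zero _ _ _ _ _ (by norm_num), Cochain.single_v, Cochain.single_v,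
        Cochain.single_v_eq_zero _ _ _ _ _ (by norm_num)]
      rw [E₁]
      abel
    · by_cases hp2 : p = -2
      · subst hp2
        rw [Cochain.single_v_eq_zero _ _ _ _ _ (by norm_num),
          Cochain.single_v_eq_zero _ _ _ _ _ (by norm_num),
          Cochain.single_v_eq_zero _ _ _ _ _ (by norm_num), Cochain.single_v]
        rw [E₂]
        abel
      · rw [Cochain.single_v_eq_zero _ _ _ _ _ hp0, Cochain.single_v_eq_zero _ _ _ _ _ hp1,
          Cochain.single_v_eq_zero _ _ _ _ _ hp1, Cochain.single_v_eq_zero _ _ _ _ _ hp2]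
        by_cases hp : 0 < p
        · exact (hD p hp).eq_of_src _ _
        · exact (hL p (by omega)).eq_of_tgt _ _

/-- S7105 -/
theorem Qh_map_bijective_of_projective_top (M K : DRing.Cx R)
    (hM : ∀ i : ℤ, 0 < i → IsZero (M.X i)) (hM0 : Module.Projective R (M.X 0))
    (hK : ∀ i : ℤ, i ≤ -2 → IsZero (K.X i)) :
    Function.Bijective (fun φ : (HomotopyCategory.quotient (ModuleCat.{u} R)
        (ComplexShape.up ℤ)).obj M ⟶
        (HomotopyCategory.quotient (ModuleCat.{u} R) (ComplexShape.up ℤ)).obj K =>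
          DerivedCategory.Qh.map φ) := by
  haveI : M.IsStrictlyLE 0 := isStrictlyLE_of_vanishesAbove M 0 hM
  obtain ⟨P, s, hPb, hPproj, hs⟩ : ∃ (P : DRing.Cx R) (s : P ⟶ M), DRing.VanishesAbove P 0 ∧
      (∀ i, Module.Projective R (P.X i)) ∧ IsIso (DerivedCategory.Q.map s) :=
    ⟨resE M 0, resα M 0, vanishesAbove_resE M 0,
      fun i => by haveI := free_resE M 0 i; exact Module.Projective.of_free, inferInstance⟩
  haveI : P.IsKProjective := isKProjective_of_vanishesAbove P 0 hPb hPproj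
  have hsiso : IsIso (DerivedCategory.Qh.map ((HomotopyCategory.quotient _ _).map s)) := by
    have hn := DerivedCategory.quotientCompQhIso_hom_naturality (C := ModuleCat.{u} R) s
    have : DerivedCategory.Qh.map ((HomotopyCategory.quotient _ _).map s) =
        (DerivedCategory.quotientCompQhIso _).hom.app P ≫ DerivedCategory.Q.map s ≫
          (DerivedCategory.quotientCompQhIso _).inv.app M := by
      rw [← Category.assoc, ← hn, Category.assoc, Iso.hom_inv_id_app]
      exact (Category.comp_id _).symm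
    rw [this]
    infer_instance
  -- the cone
  have hCz : IsZero (DRing.toD (CochainComplex.mappingCone s)) :=
    (Triangle.isZero₃_iff_isIso₁ _ (DerivedCategory.mappingCone_triangle_distinguished s)).mpr hs
  have hCex : ∀ i, IsZero ((H R i).obj (DRing.toD (CochainComplex.mappingCone s))) :=
    fun i => (H R i).map_isZero hCz
  have hCD : ∀ i : ℤ, 0 < i → IsZero ((CochainComplex.mappingCone s).X i) :=
    vanishesAbove_cone s (VanishesAbove.mono hPb (by omega)) hM
  have hC0 : Module.Projective R ((CochainComplex.mappingCone s).X 0) :=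
    (projProp R).iso (HomologicalComplex.homotopyCofiber.XIsoBiprod s 0 1 rfl).symm
      ((projProp R).biprod (hPproj 1) hM0)
  have hT := HomotopyCategory.mappingCone_triangleh_distinguished s
  have hzero : ∀ (L : DRing.Cx R), (∀ i : ℤ, i ≤ -3 → IsZero (L.X i)) →
      ∀ c : (HomotopyCategory.quotient (ModuleCat.{u} R) (ComplexShape.up ℤ)).obj
        (CochainComplex.mappingCone s) ⟶ (HomotopyCategory.quotient _ _).obj L, c = 0 := by
    intro L hL c
    obtain ⟨c₀, rfl⟩ := (HomotopyCategory.quotient _ _).map_surjective c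
    obtain ⟨h⟩ := nonempty_homotopy_zero_of_acyclic _ L hCex hCD hC0 hL c₀
    rw [HomotopyCategory.eq_of_homotopy _ _ h, Functor.map_zero]
  constructor
  · intro φ₁ φ₂ h
    have h0 : DerivedCategory.Qh.map (φ₁ - φ₂) = 0 := by
      rw [Functor.map_sub]
      exact sub_eq_zero.mpr h
    have h1 : (HomotopyCategory.quotient _ _).map s ≫ (φ₁ - φ₂) = 0 := by
      apply (CochainComplex.IsKProjective.Qh_map_bijective P _).injective
      rw [Functor.map_comp, h0, comp_zero, Functor.map_zero]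
    obtain ⟨c, hc⟩ := Triangle.yoneda_exact₂ _ hT (φ₁ - φ₂) h1
    have hc0 : c = 0 := hzero K (fun i hi => hK i (by omega)) c
    have hc1 : φ₁ - φ₂ = 0 := by
      rw [hc, hc0]
      exact comp_zero
    exact sub_eq_zero.mp hc1
  · intro ψ
    obtain ⟨γ, hγ⟩ := (CochainComplex.IsKProjective.Qh_map_bijective P
      ((HomotopyCategory.quotient _ _).obj K)).surjective
        (DerivedCategory.Qh.map ((HomotopyCategory.quotient _ _).map s) ≫ ψ)
    have h4 : (CochainComplex.mappingCone.triangleh s).rotate.mor₂ ≫ γ⟦(1 : ℤ)⟧' = 0 := by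
      rw [← cancel_mono (((HomotopyCategory.quotient (ModuleCat.{u} R)
        (ComplexShape.up ℤ)).commShiftIso (1 : ℤ)).app K).inv, zero_comp]
      exact hzero (K⟦(1 : ℤ)⟧) (fun i hi => hK (i + 1) (by omega)) _
    obtain ⟨g₁, hg₁⟩ := Triangle.yoneda_exact₃ _ (rot_of_distTriang _ hT) (γ⟦(1 : ℤ)⟧') h4
    obtain ⟨f', hf'⟩ : ∃ f' : (HomotopyCategory.quotient (ModuleCat.{u} R)
        (ComplexShape.up ℤ)).obj M ⟶ (HomotopyCategory.quotient _ _).obj K,
        f'⟦(1 : ℤ)⟧' = g₁ :=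
      (shiftFunctor (HomotopyCategory (ModuleCat.{u} R) (ComplexShape.up ℤ))
        (1 : ℤ)).map_surjective g₁
    have h5 : γ = (HomotopyCategory.quotient _ _).map s ≫ (-f') := by
      apply (shiftFunctor (HomotopyCategory (ModuleCat.{u} R) (ComplexShape.up ℤ))
        (1 : ℤ)).map_injective
      rw [Functor.map_comp, Functor.map_neg, hf', Preadditive.comp_neg, ← Preadditive.neg_comp]
      exact hg₁
    refine ⟨-f', ?_⟩
    change DerivedCategory.Qh.map (-f') = ψ
    rw [← cancel_epi (DerivedCategory.Qh.map ((HomotopyCategory.quotient _ _).map s)),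
      ← Functor.map_comp, ← h5, hγ]

end Groth.Agent.Lib.Helper18.DR

namespace Groth.Agent.Lib.Helper18.DR

variable {R : Type u} [CommRing R]

lemma Qh_map_quotient_map_eq_zero {K L : DRing.Cx R} (f : K ⟶ L)
    (h : DerivedCategory.Q.map f = 0) :
    DerivedCategory.Qh.map ((HomotopyCategory.quotient _ _).map f) = 0 := by
  have hn := DerivedCategory.quotientCompQhIso_hom_naturality (C := ModuleCat.{u} R) f
  rw [h, comp_zero] at hn
  exact (cancel_mono ((DerivedCategory.quotientCompQhIso _).hom.app L)).mp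
    (by rw [hn, zero_comp])

/-- S7106 -/
theorem ext_one_map_zero_iff_exists_homotopy (M K : DRing.Cx R)
    (hM : ∀ i : ℤ, 0 < i → IsZero (M.X i)) (hM0 : Module.Projective R (M.X 0))
    (hK : ∀ i : ℤ, i ≠ -1 → i ≠ 0 → IsZero (K.X i)) (hK0 : Module.Projective R (K.X 0))
    (a : M ⟶ K) :
    (∀ (N : Type u) [AddCommGroup N] [Module R N]
        (ξ : DRing.toD K ⟶ (Dual.inD R N)⟦(1 : ℤ)⟧), DerivedCategory.Q.map a ≫ ξ = 0) ↔
      ∃ h : M.X 0 ⟶ K.X (-1), a.f (-1) + M.d (-1) 0 ≫ h = 0 := by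
  constructor
  · intro H
    -- the projection of `K` onto its degree `-1` term
    let π : K ⟶ (HomologicalComplex.single (ModuleCat.{u} R) (ComplexShape.up ℤ) (-1)).obj (K.X (-1)) :=
      HomologicalComplex.mkHomToSingle (𝟙 (K.X (-1))) (fun i hi => by
        have hi' : i = -2 := by
          simp only [ComplexShape.up_Rel] at hi
          omega
        subst hi'
        exact (hK (-2) (by norm_num) (by norm_num)).eq_of_src _ _)
    have hπ : π.f (-1) = 𝟙 (K.X (-1)) ≫
        (HomologicalComplex.singleObjXSelf (ComplexShape.up ℤ) (-1) (K.X (-1))).inv :=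
      HomologicalComplex.mkHomToSingle_f _ _
    have h1 := H (K.X (-1)) (DerivedCategory.Q.map π ≫
      (SgShiftIso 1 (-1) 0 (by norm_num) (K.X (-1))).inv)
    have h2 : DerivedCategory.Q.map (a ≫ π) = 0 := by
      rw [Functor.map_comp]
      rw [← Category.assoc] at h1
      exact (cancel_mono (SgShiftIso 1 (-1) 0 (by norm_num) (K.X (-1))).inv).mp
        (h1.trans zero_comp.symm)
    have hS : ∀ i : ℤ, i ≤ -2 → IsZero (((HomologicalComplex.single (ModuleCat.{u} R)
        (ComplexShape.up ℤ) (-1)).obj (K.X (-1))).X i) := fun i hi =>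
      HomologicalComplex.isZero_single_obj_X (ComplexShape.up ℤ) (-1) _ i (by omega)
    have h3 : (HomotopyCategory.quotient _ _).map (a ≫ π) = 0 :=
      (Qh_map_bijective_of_projective_top M _ hM hM0 hS).injective
        (by
          change DerivedCategory.Qh.map _ = DerivedCategory.Qh.map 0
          rw [Qh_map_quotient_map_eq_zero _ h2, Functor.map_zero])
    have ho : Homotopy (a ≫ π) 0 :=
      HomotopyCategory.homotopyOfEq _ _ (by rw [h3, Functor.map_zero])
    have hc := ho.comm (-1)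
    rw [dNext_eq ho.hom (show (ComplexShape.up ℤ).Rel (-1) 0 by simp),
      prevD_eq ho.hom (show (ComplexShape.up ℤ).Rel (-2) (-1) by simp),
      HomologicalComplex.zero_f, add_zero,
      (hS (-2) le_rfl).eq_of_tgt (ho.hom (-1) (-2)) 0, zero_comp, add_zero,
      HomologicalComplex.comp_f, hπ, Category.id_comp] at hc
    refine ⟨-(ho.hom 0 (-1) ≫
      (HomologicalComplex.singleObjXSelf (ComplexShape.up ℤ) (-1) (K.X (-1))).hom), ?_⟩
    have hc' : a.f (-1) = M.d (-1) 0 ≫ ho.hom 0 (-1) ≫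
        (HomologicalComplex.singleObjXSelf (ComplexShape.up ℤ) (-1) (K.X (-1))).hom := by
      rw [← Category.assoc, ← hc, Category.assoc, Iso.inv_hom_id, Category.comp_id]
    rw [Preadditive.comp_neg, ← hc', add_neg_cancel]
  · rintro ⟨h, hh⟩ N _ _ ξ
    have hh' : a.f (-1) = -(M.d (-1) 0 ≫ h) := eq_neg_of_add_eq_zero_left hh
    -- the degree `0` part of `K`
    let ι : (HomologicalComplex.single (ModuleCat.{u} R) (ComplexShape.up ℤ) 0).obj (K.X 0) ⟶ K :=
      HomologicalComplex.mkHomFromSingle (𝟙 (K.X 0)) (fun k hk => by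
        have hk' : k = 1 := by
          simp only [ComplexShape.up_Rel] at hk
          omega
        subst hk'
        exact (hK 1 (by norm_num) (by norm_num)).eq_of_tgt _ _)
    have hι : ι.f 0 = (HomologicalComplex.singleObjXSelf (ComplexShape.up ℤ) 0 (K.X 0)).hom ≫
        𝟙 (K.X 0) := HomologicalComplex.mkHomFromSingle_f _ _
    let a'' : M ⟶ (HomologicalComplex.single (ModuleCat.{u} R) (ComplexShape.up ℤ) 0).obj (K.X 0) :=
      HomologicalComplex.mkHomToSingle (a.f 0 + h ≫ K.d (-1) 0) (fun i hi => by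
        have hi' : i = -1 := by
          simp only [ComplexShape.up_Rel] at hi
          omega
        subst hi'
        rw [Preadditive.comp_add, ← a.comm (-1) 0, hh', Preadditive.neg_comp, Category.assoc,
          neg_add_cancel])
    have ha'' : a''.f 0 = (a.f 0 + h ≫ K.d (-1) 0) ≫
        (HomologicalComplex.singleObjXSelf (ComplexShape.up ℤ) 0 (K.X 0)).inv :=
      HomologicalComplex.mkHomToSingle_f _ _
    have hS : ∀ i : ℤ, i ≠ 0 → IsZero (((HomologicalComplex.single (ModuleCat.{u} R)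
        (ComplexShape.up ℤ) 0).obj (K.X 0)).X i) := fun i hi =>
      HomologicalComplex.isZero_single_obj_X (ComplexShape.up ℤ) 0 _ i hi
    have ho : Homotopy a (a'' ≫ ι) := by
      refine (Cochain.equivHomotopy a (a'' ≫ ι)).symm ⟨Cochain.single (-h) (-1), ?_⟩
      rw [Cochain.δ_single (-h) (-1) 0 (by norm_num) (-1) 0 (by norm_num) (by norm_num)]
      refine Cochain.ext _ _ (fun p q hpq => ?_)
      obtain rfl : p = q := by omega
      simp only [Cochain.add_v, Cochain.units_smul_v, Cochain.ofHom_v, Int.negOnePow_zero,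
        one_smul, HomologicalComplex.comp_f]
      by_cases hp0 : p = 0
      · subst hp0
        rw [Cochain.single_v, Cochain.single_v_eq_zero _ _ _ _ _ (by norm_num), ha'', hι,
          Category.assoc, Iso.inv_hom_id_assoc, Category.comp_id, Preadditive.neg_comp]
        abel
      · by_cases hp1 : p = -1
        · subst hp1
          rw [Cochain.single_v_eq_zero _ _ _ _ _ (by norm_num), Cochain.single_v,
            (hS (-1) (by norm_num)).eq_of_tgt (a''.f (-1)) 0, zero_comp, hh',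
            Preadditive.comp_neg]
          abel
        · exact (hK p hp1 hp0).eq_of_tgt _ _
    rw [Q_map_eq_of_homotopy ho, Functor.map_comp, Category.assoc]
    haveI : Projective (K.X 0) := (IsProjective.iff_projective (R := R) (P := K.X 0)).mp hK0
    haveI : ((Dual.inD R N)⟦(1 : ℤ)⟧).IsLE (0 - 1) :=
      TStructure.t.isLE_shift _ 0 1 (0 - 1) (by norm_num)
    have hz : DerivedCategory.Q.map ι ≫ ξ = 0 :=
      hom_Sg_eq_zero_of_isLE 0 (K.X 0) _ (DerivedCategory.Q.map ι ≫ ξ)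
    rw [hz, comp_zero]

end Groth.Agent.Lib.Helper18.DR
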