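import Mathlib
import Groth.Agent.Lib.Helper18.DRNoeth

/-!
# Near projectivity and annihilation of `Ext¹` (helper18)
-/

set_option autoImplicit false
set_option linter.style.haveILetI false
universe u
open CategoryTheory CategoryTheory.Limits CategoryTheory.Pretriangulated DerivedCategory

attribute [local instance] HasDerivedCategory.standard

namespace Groth.Agent.Lib.Helper18.DR

variable {R : Type u} [CommRing R]

theorem nearProj_iff (I : Ideal R) (M : Type u) [AddCommGroup M] [Module R M] :
    (∀ a ∈ I, ∃ (P : Type u) (_ : AddCommGroup P) (_ : Module R P) (_ : Module.Projective R P)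
        (f : M →ₗ[R] P) (g : P →ₗ[R] M), g ∘ₗ f = a • LinearMap.id) ↔
      ∀ (N : Type u) [AddCommGroup N] [Module R N], ∀ a ∈ I,
        ∀ x : DRing.ExtD R (Dual.inD R M) (Dual.inD R N) 1, a • x = 0 := by
  constructor
  · intro h N _ _ a ha x
    obtain ⟨P, _, _, _, f, g, hfg⟩ := h a ha
    haveI : Projective (ModuleCat.of R P) :=
      (IsProjective.iff_projective (R := R) (P := P)).mp inferInstance
    have h1 : a • x = (a • 𝟙 (Dual.inD R M)) ≫ x := by
      rw [Linear.smul_comp, Category.id_comp]
    have h2 : a • 𝟙 (Dual.inD R M) =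
        (singleFunctor (ModuleCat.{u} R) 0).map (ModuleCat.ofHom f) ≫
          (singleFunctor (ModuleCat.{u} R) 0).map (ModuleCat.ofHom g) := by
      rw [← Functor.map_comp, ← ModuleCat.ofHom_comp, hfg]
      have : ModuleCat.ofHom (a • (LinearMap.id : M →ₗ[R] M)) = a • 𝟙 (ModuleCat.of R M) := rfl
      rw [this, Functor.map_smul, CategoryTheory.Functor.map_id]
    have h3 : (singleFunctor (ModuleCat.{u} R) 0).map (ModuleCat.ofHom g) ≫ x = 0 := by
      haveI : ((Dual.inD R N)⟦(1 : ℤ)⟧).IsLE (0 - 1) :=
        TStructure.t.isLE_shift _ 0 1 (0 - 1) (by omega)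
      exact hom_Sg_eq_zero_of_isLE 0 (ModuleCat.of R P) _ _
    rw [h1, h2, Category.assoc, h3, Limits.comp_zero]
  · intro h a ha
    let π : (M →₀ R) →ₗ[R] M := Finsupp.linearCombination R id
    have hπ : Function.Surjective π := Finsupp.linearCombination_id_surjective R M
    have hT := (kerSC_shortExact π hπ).singleTriangle_distinguished
    have h0 := h (LinearMap.ker π) a ha (kerSC_shortExact π hπ).singleδ
    have h1 : (a • 𝟙 (Dual.inD R M)) ≫ (kerSC_shortExact π hπ).singleδ = 0 := by
      rw [Linear.smul_comp, Category.id_comp]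
      exact h0
    obtain ⟨s', hs'⟩ : ∃ s' : Dual.inD R M ⟶ Sg 0 (ModuleCat.of R (M →₀ R)),
        a • 𝟙 (Dual.inD R M) = s' ≫ (singleFunctor (ModuleCat.{u} R) 0).map (ModuleCat.ofHom π) :=
      Triangle.coyoneda_exact₃ _ hT (a • 𝟙 (Dual.inD R M)) h1
    obtain ⟨s, rfl⟩ := (singleFunctor (ModuleCat.{u} R) 0).map_surjective s'
    have h2 : a • 𝟙 (ModuleCat.of R M) = s ≫ ModuleCat.ofHom π := by
      apply (singleFunctor (ModuleCat.{u} R) 0).map_injective
      rw [Functor.map_smul, CategoryTheory.Functor.map_id, Functor.map_comp]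
      exact hs'
    refine ⟨(M →₀ R), inferInstance, inferInstance, inferInstance, s.hom, π, ?_⟩
    have h3 := congrArg ModuleCat.Hom.hom h2
    exact h3.symm

end Groth.Agent.Lib.Helper18.DR
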