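import Mathlib
import Groth.Agent.Lib.Helper18.DRRel4
import Groth.Agent.S6935

/-!
# Relative pseudo-coherence: modules, Noetherian base (helper18)
-/

set_option autoImplicit false
set_option linter.style.haveILetI false
universe u
open CategoryTheory CategoryTheory.Limits CategoryTheory.Pretriangulated DerivedCategory
open MvPolynomial

attribute [local instance] HasDerivedCategory.standard

namespace Groth.Agent.Lib.Helper18.DR

lemma finite_resM_of_finite {P A : Type u} [CommRing P] [CommRing A] (φ : P →+* A)
    (hφ : Function.Surjective φ) (M : ModuleCat.{u} A) (h : Module.Finite A M) :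
    Module.Finite P (resM φ M) := by
  obtain ⟨S, hS⟩ := h.fg_top
  refine ⟨⟨S, ?_⟩⟩
  rw [eq_top_iff]
  intro x _
  have hx : (x : M) ∈ Submodule.span A (S : Set M) := by rw [hS]; trivial
  induction hx using Submodule.span_induction with
  | mem y hy => exact Submodule.subset_span hy
  | zero => exact Submodule.zero_mem _
  | add y z _ _ hy hz => exact Submodule.add_mem _ (hy trivial) (hz trivial)
  | smul a y _ hy =>
    obtain ⟨p, rfl⟩ := hφ a
    exact Submodule.smul_mem
      (Submodule.span P (show Set (resM φ M) from (S : Set M))) p (hy trivial)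

lemma finite_resM_iff {P A : Type u} [CommRing P] [CommRing A] (φ : P →+* A)
    (hφ : Function.Surjective φ) (M : ModuleCat.{u} A) :
    Module.Finite P (resM φ M) ↔ Module.Finite A M :=
  ⟨finite_of_finite_resM φ M, finite_resM_of_finite φ hφ M⟩

variable {R A : Type u} [CommRing R] [CommRing A] [Algebra R A]

/-- S7021 -/
theorem relPCModule_zero_neg_one {n : ℕ} (α : MvPolynomial (Fin n) R →ₐ[R] A)
    (hα : Function.Surjective α) (M : Type u) [AddCommGroup M] [Module A M] :
    (DerCA.IsRelPseudoCoherentModule R A 0 M ↔ Module.Finite A M) ∧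
      (DerCA.IsRelPseudoCoherentModule R A (-1) M ↔
        @Module.FinitePresentation (MvPolynomial (Fin n) R) M _ _
          (Module.compHom M α.toRingHom)) := by
  have h := Groth.Agent.S6935.result (MvPolynomial (Fin n) R)
    (resM (α : MvPolynomial (Fin n) R →+* A) (ModuleCat.of A M))
  constructor
  · rw [relPCModule_iff_via α hα 0 (ModuleCat.of A M), h.1]
    exact finite_resM_iff _ hα (ModuleCat.of A M)
  · rw [relPCModule_iff_via α hα (-1) (ModuleCat.of A M), h.2]
    exact Iff.rfl

/-- S7026 -/
theorem relPC_iff_of_noetherian [IsNoetherianRing R] [Algebra.FiniteType R A] (m : ℤ)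
    (K : Dual.D A) (M : Type u) [AddCommGroup M] [Module A M] :
    (DerCA.IsRelPseudoCoherent R A m K ↔
      (∃ b : ℤ, ∀ i : ℤ, b < i → Subsingleton (Dual.HD A K i)) ∧
        ∀ i : ℤ, m ≤ i → Module.Finite A (Dual.HD A K i)) ∧
    (DerCA.IsRelPseudoCoherentAll R A K ↔
      (∃ b : ℤ, ∀ i : ℤ, b < i → Subsingleton (Dual.HD A K i)) ∧
        ∀ i : ℤ, Module.Finite A (Dual.HD A K i)) ∧
    (DerCA.IsRelPseudoCoherentModuleAll R A M ↔ Module.Finite A M) := by
  obtain ⟨n, α, hα⟩ := exists_presentation (R := R) (A := A)
  have hsub : ∀ (L : Dual.D A) (i : ℤ),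
      Subsingleton (Dual.HD (MvPolynomial (Fin n) R)
        ((DRing.restrictD (α : MvPolynomial (Fin n) R →+* A)).obj L) i) ↔
      Subsingleton (Dual.HD A L i) := by
    intro L i
    have e := (homologyRestrictIso (α : MvPolynomial (Fin n) R →+* A) L i).toLinearEquiv
    constructor
    · intro h
      have : Subsingleton (resM (α : MvPolynomial (Fin n) R →+* A) ((H A i).obj L)) :=
        e.symm.subsingleton
      exact this
    · intro h
      haveI : Subsingleton (resM (α : MvPolynomial (Fin n) R →+* A) ((H A i).obj L)) := h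
      exact e.subsingleton
  have hfin : ∀ (L : Dual.D A) (i : ℤ),
      Module.Finite (MvPolynomial (Fin n) R) (Dual.HD (MvPolynomial (Fin n) R)
        ((DRing.restrictD (α : MvPolynomial (Fin n) R →+* A)).obj L) i) ↔
      Module.Finite A (Dual.HD A L i) := by
    intro L i
    have e := (homologyRestrictIso (α : MvPolynomial (Fin n) R →+* A) L i).toLinearEquiv
    rw [← finite_resM_iff (α : MvPolynomial (Fin n) R →+* A) hα ((H A i).obj L)]
    exact ⟨fun h => Module.Finite.equiv e, fun h => Module.Finite.equiv e.symm⟩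
  have key : ∀ (m' : ℤ) (L : Dual.D A), DerCA.IsRelPseudoCoherent R A m' L ↔
      (∃ b : ℤ, ∀ i : ℤ, b < i → Subsingleton (Dual.HD A L i)) ∧
        ∀ i : ℤ, m' ≤ i → Module.Finite A (Dual.HD A L i) := by
    intro m' L
    rw [relPC_iff_via α hα, isPseudoCoherent_iff_of_noetherian]
    simp only [hsub, hfin]
  refine ⟨key m K, ?_, ?_⟩
  · constructor
    · intro h
      refine ⟨((key 0 K).1 (h 0)).1, fun i => ((key i K).1 (h i)).2 i le_rfl⟩
    · rintro ⟨hb, hf⟩ m'
      exact (key m' K).2 ⟨hb, fun i _ => hf i⟩
  · constructor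
    · intro h
      have h0 := ((key 0 (Dual.inD A M)).1 (h 0)).2 0 le_rfl
      exact Module.Finite.equiv (HSg 0 (ModuleCat.of A M)).toLinearEquiv
    · intro h m'
      refine (key m' (Dual.inD A M)).2 ⟨⟨0, fun i hi => ?_⟩, fun i _ => ?_⟩
      · exact ModuleCat.subsingleton_of_isZero (isZero_of_isLE (Sg 0 (ModuleCat.of A M)) 0 i hi)
      · by_cases hi : i = 0
        · subst hi
          exact Module.Finite.equiv (HSg 0 (ModuleCat.of A M)).toLinearEquiv.symm
        · haveI : Subsingleton (Dual.HD A (Dual.inD A M) i) := by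
            rcases lt_or_gt_of_ne hi with h' | h'
            · exact ModuleCat.subsingleton_of_isZero
                (isZero_of_isGE (Sg 0 (ModuleCat.of A M)) 0 i h')
            · exact ModuleCat.subsingleton_of_isZero
                (isZero_of_isLE (Sg 0 (ModuleCat.of A M)) 0 i h')
          infer_instance

end Groth.Agent.Lib.Helper18.DR
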