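import Mathlib
import Groth.Prelude.Def_MoreMor
import Groth.Agent.Lib.Helper18.DRRel4

/-!
# Pseudo-coherent ring maps: relative = absolute pseudo-coherence (helper18)
-/

set_option autoImplicit false
set_option linter.style.haveILetI false
universe u
open CategoryTheory CategoryTheory.Limits CategoryTheory.Pretriangulated DerivedCategory
open MvPolynomial

attribute [local instance] HasDerivedCategory.standard

namespace Groth.Agent.Lib.Helper18.DR

/-- S7071 -/
theorem relPC_iff_of_pseudoCoherentHom (R A : Type u) [CommRing R] [CommRing A] [Algebra R A]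
    (hRA : MoreMor.IsPseudoCoherentHom R A) (m : ℤ) (K : Dual.D A) :
    DerCA.IsRelPseudoCoherent R A m K ↔ DRing.IsPseudoCoherent A m K := by
  obtain ⟨n, φ, hφ, hpc⟩ := hRA
  rw [relPC_iff_via φ hφ]
  letI := φ.toRingHom.toAlgebra
  exact ((isPseudoCoherent_restrictD_iff_of_algebra hpc K m).1).symm

end Groth.Agent.Lib.Helper18.DR
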