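import Mathlib
import Groth.Agent.Lib.Helper18.DRRel4
import Groth.Agent.Lib.Helper18.DRExt2

/-!
# Polynomial extension of pseudo-coherent ring maps; transitivity of relative pseudo-coherence (helper18)
-/

set_option autoImplicit false
set_option linter.style.haveILetI false
universe u
open CategoryTheory CategoryTheory.Limits CategoryTheory.Pretriangulated DerivedCategory
open MvPolynomial TensorProduct

attribute [local instance] HasDerivedCategory.standard

namespace Groth.Agent.Lib.Helper18.DR

section

variable {P A : Type u} [CommRing P] [CommRing A] [Algebra P A] (σ : Type)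

/-- `P[y] ⊗_P A ≃ A[y]` as additive groups -/
noncomputable def mvTensorAddEquiv : (MvPolynomial σ P) ⊗[P] A ≃+ MvPolynomial σ A :=
  (TensorProduct.comm P (MvPolynomial σ P) A).toAddEquiv.trans
    (MvPolynomial.algebraTensorAlgEquiv P A).toAddEquiv

lemma mvTensorAddEquiv_tmul (q : MvPolynomial σ P) (a : A) :
    mvTensorAddEquiv σ (q ⊗ₜ[P] a) = a • MvPolynomial.map (algebraMap P A) q := by
  change MvPolynomial.algebraTensorAlgEquiv P A (a ⊗ₜ q) = _
  exact MvPolynomial.algebraTensorAlgEquiv_tmul P A a q

lemma mvTensorAddEquiv_smul (q' : MvPolynomial σ P) (x : (MvPolynomial σ P) ⊗[P] A) :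
    mvTensorAddEquiv σ (q' • x) = MvPolynomial.map (algebraMap P A) q' * mvTensorAddEquiv σ x := by
  induction x using TensorProduct.induction_on with
  | zero => simp
  | tmul q a =>
    rw [TensorProduct.smul_tmul', smul_eq_mul, mvTensorAddEquiv_tmul, mvTensorAddEquiv_tmul,
      map_mul, mul_smul_comm]
  | add x y hx hy => rw [smul_add, map_add, map_add, hx, hy, mul_add]

/-- `P[y] ⊗_P A ≃ A[y]` as `P[y]`-modules -/
noncomputable def mvTensorEquiv : (MvPolynomial σ P) ⊗[P] A ≃ₗ[MvPolynomial σ P]
    resM (MvPolynomial.map (algebraMap P A) : MvPolynomial σ P →+* MvPolynomial σ A)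
      (ModuleCat.of (MvPolynomial σ A) (MvPolynomial σ A)) :=
  { toFun := fun x => mvTensorAddEquiv σ x
    invFun := fun x => (mvTensorAddEquiv σ).symm x
    map_add' := fun x y => map_add (mvTensorAddEquiv σ) x y
    map_smul' := fun q x => mvTensorAddEquiv_smul σ q x
    left_inv := fun x => (mvTensorAddEquiv σ).symm_apply_apply x
    right_inv := fun x => (mvTensorAddEquiv σ).apply_symm_apply x }

/-- polynomial extension of a pseudo-coherent ring map, algebra form -/
theorem PCHom.mvPolynomial_map_of_algebra (h : PCHom (algebraMap P A)) :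
    PCHom (MvPolynomial.map (algebraMap P A) : MvPolynomial σ P →+* MvPolynomial σ A) := by
  intro m
  let e : resM (algebraMap P A) (ModuleCat.of A A) ≃ₗ[P] A :=
    { toFun := fun b => b
      invFun := fun b => b
      map_add' := fun _ _ => rfl
      map_smul' := fun a b => (Algebra.smul_def a (show A from b)).symm
      left_inv := fun _ => rfl
      right_inv := fun _ => rfl }
  have h1 : DRing.IsPseudoCoherentModule P m A :=
    isPseudoCoherent_of_iso ((singleFunctor (ModuleCat.{u} P) 0).mapIso e.toModuleIso) (h m)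
  have h2 : DRing.IsPseudoCoherentModule (MvPolynomial σ P) m ((MvPolynomial σ P) ⊗[P] A) :=
    (isPseudoCoherentModule_baseChange_of_flat m A).1 h1
  exact isPseudoCoherent_of_iso
    ((singleFunctor (ModuleCat.{u} (MvPolynomial σ P)) 0).mapIso (mvTensorEquiv σ).toModuleIso) h2

end

/-- polynomial extension of a pseudo-coherent ring map -/
theorem PCHom.mvPolynomial_map {P A : Type u} [CommRing P] [CommRing A] (α : P →+* A)
    (h : PCHom α) (σ : Type) :
    PCHom (MvPolynomial.map α : MvPolynomial σ P →+* MvPolynomial σ A) := by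
  letI : Algebra P A := α.toAlgebra
  exact PCHom.mvPolynomial_map_of_algebra σ h

section inter

variable {R A B : Type u} [CommRing R] [CommRing A] [CommRing B] [Algebra R A] [Algebra A B]
  [Algebra R B] [IsScalarTower R A B]

/-- the presentation `R[z_1..z_{k+n}] ≃ R[x][y]` -/
noncomputable def mvSumEquiv (k n : ℕ) :
    MvPolynomial (Fin (k + n)) R ≃ₐ[R] MvPolynomial (Fin k) (MvPolynomial (Fin n) R) :=
  (MvPolynomial.renameEquiv R finSumFinEquiv.symm).trans
    (MvPolynomial.sumAlgEquiv R (Fin k) (Fin n))

/-- S6985 -/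
theorem relPC_iff_of_intermediate [Algebra.FiniteType R A] [Algebra.FiniteType A B]
    (hA : DerCA.IsRelPseudoCoherentModuleAll R A A) (K : Dual.D B) (m : ℤ) :
    (DerCA.IsRelPseudoCoherent A B m K ↔ DerCA.IsRelPseudoCoherent R B m K) ∧
      (DerCA.IsRelPseudoCoherentAll A B K ↔ DerCA.IsRelPseudoCoherentAll R B K) := by
  obtain ⟨n, α, hα⟩ := exists_presentation (R := R) (A := A)
  obtain ⟨k, β, hβ⟩ := exists_presentation (R := A) (A := B)
  have hPα : PCHom (α : MvPolynomial (Fin n) R →+* A) := fun m' =>
    (relPCModule_iff_via α hα m' (ModuleCat.of A A)).1 (hA m')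
  have hPα' := PCHom.mvPolynomial_map _ hPα (Fin k)
  let e := mvSumEquiv (R := R) k n
  let γ : MvPolynomial (Fin (k + n)) R →ₐ[R] B :=
    ((β.restrictScalars R).comp (MvPolynomial.mapAlgHom α)).comp e.toAlgHom
  have hγ : Function.Surjective γ := by
    refine (hβ.comp ?_).comp e.surjective
    exact MvPolynomial.map_surjective _ hα
  have key : ∀ m' : ℤ, DerCA.IsRelPseudoCoherent A B m' K ↔ DerCA.IsRelPseudoCoherent R B m' K := by
    intro m'
    rw [relPC_iff_via β hβ, relPC_iff_via γ hγ]
    rw [hPα'.isPseudoCoherent_iff (β : MvPolynomial (Fin k) A →+* B) K m']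
    rw [(PCHom.of_ringEquiv e.toRingEquiv).isPseudoCoherent_iff _ K m']
    rfl
  exact ⟨key m, forall_congr' key⟩

end inter

end Groth.Agent.Lib.Helper18.DR
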