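import Mathlib
import Groth.Agent.Lib.Helper18.DRRel7

/-!
# Relative pseudo-coherence and finite ring maps (helper18)
-/

set_option autoImplicit false
set_option linter.style.haveILetI false
universe u
open CategoryTheory CategoryTheory.Limits CategoryTheory.Pretriangulated DerivedCategory
open MvPolynomial TensorProduct

attribute [local instance] HasDerivedCategory.standard

namespace Groth.Agent.Lib.Helper18.DR

section

variable {P Q : Type u} [CommRing P] [CommRing Q]

/-- a finite free algebra is pseudo-coherent -/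
theorem PCHom.of_finite_free [Algebra P Q] [Module.Finite P Q] [Module.Free P Q] :
    PCHom (algebraMap P Q) := by
  intro m
  let e : Q ≃ₗ[P] resM (algebraMap P Q) (ModuleCat.of Q Q) :=
    { toFun := fun b => b
      invFun := fun b => b
      map_add' := fun _ _ => rfl
      map_smul' := fun a b => (Algebra.smul_def a b).trans rfl
      left_inv := fun _ => rfl
      right_inv := fun _ => rfl }
  haveI : Module.Finite P (ModuleCat.of P Q) := inferInstanceAs (Module.Finite P Q)
  haveI : Module.Free P (ModuleCat.of P Q) := inferInstanceAs (Module.Free P Q)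
  exact isPseudoCoherent_of_iso ((singleFunctor (ModuleCat.{u} P) 0).mapIso e.toModuleIso)
    (isPseudoCoherent_Sg 0 (ModuleCat.of P Q) m)

/-- any extension to a polynomial ring of a pseudo-coherent ring map is pseudo-coherent -/
theorem PCHom.of_extends (ι : P →+* Q) (hι : PCHom ι) (k : ℕ)
    (γ : MvPolynomial (Fin k) P →+* Q) (hγ : γ.comp MvPolynomial.C = ι) : PCHom γ := by
  let π : MvPolynomial (Fin k) Q →+* Q :=
    MvPolynomial.eval₂Hom (RingHom.id Q) (fun j => γ (X j))
  have hπ : π.comp MvPolynomial.C = RingHom.id Q := by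
    ext s
    simp [π]
  have h : γ = π.comp (MvPolynomial.map ι) := by
    apply MvPolynomial.ringHom_ext
    · intro s
      have := RingHom.congr_fun hγ s
      simp only [RingHom.comp_apply] at this
      simp [π, this]
    · intro j
      simp [π]
  rw [h]
  exact PCHom.comp (PCHom.mvPolynomial_map ι hι (Fin k)) (PCHom.of_eval k π hπ)

end

section adjoin

variable {P B : Type u} [CommRing P] [CommRing B] (φ : P →+* B)

/-- finitely many integral elements lie in the image of a pseudo-coherent extension -/
theorem exists_pcHom_of_integral (s : Finset B) :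
    (∀ b ∈ s, φ.IsIntegralElem b) →
    ∃ (Q : Type u) (_ : CommRing Q) (ι : P →+* Q) (ψ : Q →+* B),
      PCHom ι ∧ ψ.comp ι = φ ∧ ∀ b ∈ s, b ∈ ψ.range := by
  classical
  induction s using Finset.induction_on with
  | empty =>
    intro _
    exact ⟨P, inferInstance, RingHom.id P, φ, PCHom.of_ringEquiv (RingEquiv.refl P), rfl,
      fun b hb => absurd hb (Finset.notMem_empty b)⟩
  | insert b s hb ih =>
    intro hint
    obtain ⟨Q, _, ι, ψ, hι, hcomp, hs⟩ := ih (fun b' hb' => hint b' (Finset.mem_insert_of_mem hb'))
    obtain ⟨p, hp, hpb⟩ := hint b (Finset.mem_insert_self b s)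
    let q : Polynomial Q := p.map ι
    have hq : q.Monic := hp.map ι
    have hqb : q.eval₂ ψ b = 0 := by
      rw [Polynomial.eval₂_map, hcomp]
      exact hpb
    haveI := hq.free_adjoinRoot
    haveI := hq.finite_adjoinRoot
    refine ⟨AdjoinRoot q, inferInstance, (AdjoinRoot.of q).comp ι, AdjoinRoot.lift ψ b hqb,
      ?_, ?_, ?_⟩
    · refine PCHom.comp hι ?_
      rw [← AdjoinRoot.algebraMap_eq]
      exact PCHom.of_finite_free
    · ext x
      simp only [RingHom.comp_apply, AdjoinRoot.lift_of]
      exact RingHom.congr_fun hcomp x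
    · intro b' hb'
      rcases Finset.mem_insert.1 hb' with rfl | hb'
      · exact ⟨AdjoinRoot.root q, AdjoinRoot.lift_root hqb⟩
      · obtain ⟨t, ht⟩ := hs b' hb'
        exact ⟨AdjoinRoot.of q t, by rw [AdjoinRoot.lift_of]; exact ht⟩

end adjoin

section finite

variable {R A B : Type u} [CommRing R] [CommRing A] [CommRing B] [Algebra R A] [Algebra A B]
  [Algebra R B] [IsScalarTower R A B]

lemma isIntegralElem_comp_of_surjective {P : Type u} [CommRing P] (α : P →+* A)
    (hα : Function.Surjective α) [Algebra.IsIntegral A B] (b : B) :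
    ((algebraMap A B).comp α).IsIntegralElem b := by
  obtain ⟨p, hp, hpb⟩ := Algebra.IsIntegral.isIntegral (R := A) b
  obtain ⟨q, hq, -, hqm⟩ := Polynomial.lifts_and_natDegree_eq_and_monic
    ((Polynomial.mem_lifts p).2 (Polynomial.map_surjective α hα p)) hp
  refine ⟨q, hqm, ?_⟩
  rw [← Polynomial.eval₂_map, hq]
  exact hpb

/-- S6984 -/
theorem relPC_iff_restrict_of_finite [Algebra.FiniteType R A] [Module.Finite A B]
    (K : Dual.D B) (m : ℤ) :
    (DerCA.IsRelPseudoCoherent R B m K ↔
      DerCA.IsRelPseudoCoherent R A m ((DRing.restrictD (algebraMap A B)).obj K)) ∧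
      (DerCA.IsRelPseudoCoherentAll R B K ↔
        DerCA.IsRelPseudoCoherentAll R A ((DRing.restrictD (algebraMap A B)).obj K)) := by
  classical
  obtain ⟨n, α, hα⟩ := exists_presentation (R := R) (A := A)
  let φ : MvPolynomial (Fin n) R →+* B := (algebraMap A B).comp (α : MvPolynomial (Fin n) R →+* A)
  obtain ⟨s, hs⟩ := Module.Finite.fg_top (R := A) (M := B)
  haveI : Algebra.IsIntegral A B := Algebra.IsIntegral.of_finite A B
  obtain ⟨Q, _, ι, ψ, hι, hcomp, hsQ⟩ := exists_pcHom_of_integral φ s
    (fun b _ => isIntegralElem_comp_of_surjective (α : MvPolynomial (Fin n) R →+* A) hα b)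
  obtain ⟨k, hk⟩ : ∃ k, k = s.card := ⟨_, rfl⟩
  let es : Fin k ≃ s := (s.equivFinOfCardEq hk.symm).symm
  choose t ht using fun j : Fin k => hsQ (es j) (es j).2
  let γ' : MvPolynomial (Fin k) (MvPolynomial (Fin n) R) →+* Q := MvPolynomial.eval₂Hom ι t
  have hγ'C : γ'.comp MvPolynomial.C = ι := by
    refine RingHom.ext fun x => ?_
    simp [γ']
  have hγ' : PCHom γ' := PCHom.of_extends ι hι k γ' hγ'C
  let e := mvSumEquiv (R := R) k n
  have hsurj : Function.Surjective (ψ.comp γ') := by
    intro x
    have hx : x ∈ Submodule.span A (s : Set B) := by rw [hs]; trivial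
    induction hx using Submodule.span_induction with
    | mem y hy =>
      refine ⟨MvPolynomial.X (es.symm ⟨y, hy⟩), ?_⟩
      simp only [RingHom.comp_apply, γ', MvPolynomial.eval₂Hom_X']
      rw [ht, Equiv.apply_symm_apply]
    | zero => exact ⟨0, map_zero _⟩
    | add y z _ _ hy hz =>
      obtain ⟨y', hy'⟩ := hy
      obtain ⟨z', hz'⟩ := hz
      exact ⟨y' + z', by rw [map_add, hy', hz']⟩
    | smul a y _ hy =>
      obtain ⟨y', hy'⟩ := hy
      obtain ⟨a', ha'⟩ := hα a
      refine ⟨MvPolynomial.C a' * y', ?_⟩
      rw [map_mul, hy', Algebra.smul_def]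
      congr 1
      have h1 := RingHom.congr_fun hγ'C a'
      have h2 := RingHom.congr_fun hcomp a'
      simp only [RingHom.comp_apply] at h1 h2 ⊢
      rw [h1, h2]
      change algebraMap A B (α a') = _
      rw [ha']
  let γ : MvPolynomial (Fin (k + n)) R →ₐ[R] B :=
    { toRingHom := (ψ.comp γ').comp (e.toRingEquiv : _ →+* _)
      commutes' := by
        intro r
        change ψ (γ' (e (algebraMap R _ r))) = _
        rw [e.commutes r]
        have h1 := RingHom.congr_fun hγ'C (algebraMap R _ r)
        have h2 := RingHom.congr_fun hcomp (algebraMap R _ r)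
        simp only [RingHom.comp_apply] at h1 h2
        change ψ (γ' (MvPolynomial.C (algebraMap R _ r))) = _
        rw [h1, h2]
        change algebraMap A B (α (algebraMap R _ r)) = _
        rw [α.commutes r, ← IsScalarTower.algebraMap_apply] }
  have hγ : Function.Surjective γ := hsurj.comp e.surjective
  have key : ∀ m' : ℤ, DerCA.IsRelPseudoCoherent R B m' K ↔
      DerCA.IsRelPseudoCoherent R A m' ((DRing.restrictD (algebraMap A B)).obj K) := by
    intro m'
    rw [relPC_iff_via γ hγ, relPC_iff_via α hα]
    have h1 := (PCHom.of_ringEquiv e.toRingEquiv).isPseudoCoherent_iff (ψ.comp γ') K m'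
    have h2 := hγ'.isPseudoCoherent_iff ψ K m'
    have h3 := hι.isPseudoCoherent_iff ψ K m'
    rw [hcomp] at h3
    refine h1.symm.trans (h2.symm.trans (h3.trans ?_))
    exact ⟨fun h => isPseudoCoherent_of_iso (restrictDCompIso _ _ K) h,
      fun h => isPseudoCoherent_of_iso (restrictDCompIso _ _ K).symm h⟩
  exact ⟨key m, forall_congr' key⟩

end finite

end Groth.Agent.Lib.Helper18.DR
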