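import Mathlib
import Groth.Agent.Lib.Helper18.DRSplit

/-!
# Splitting off a projective part: the two statements (helper18)
-/

set_option autoImplicit false
set_option linter.style.haveILetI false
universe u
open CategoryTheory CategoryTheory.Limits CategoryTheory.Pretriangulated DerivedCategory

attribute [local instance] HasDerivedCategory.standard

namespace Groth.Agent.Lib.Helper18.DR

variable {R : Type u} [CommRing R]

theorem split_gap (K : Dual.D R) (a : ℤ)
    (hKb : ∃ b : ℤ, ∀ i : ℤ, b < i → Subsingleton (Dual.HD R K i))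
    (h : ∀ (M : Type u) [AddCommGroup M] [Module R M],
      Subsingleton (K ⟶ (shiftFunctor (Dual.D R) (-a)).obj (Dual.inD R M)))
    [HasBinaryBiproduct (((tS R).truncLT a).obj K) (((tS R).truncGE (a + 1)).obj K)] :
    (∃ e : K ≅ ((tS R).truncLT a).obj K ⊞ ((tS R).truncGE (a + 1)).obj K,
      ((tS R).truncLTι a).app K ≫ e.hom = biprod.inl ∧
        e.hom ≫ biprod.snd = ((tS R).truncGEπ (a + 1)).app K) ∧
      ∃ (P : DRing.Cx R) (b : ℤ), DRing.VanishesOutside P (a + 1) b ∧
        (∀ i : ℤ, Module.Projective R (P.X i)) ∧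
        Nonempty (DRing.toD P ≅ ((tS R).truncGE (a + 1)).obj K) := by
  have h0 : ∀ (N : ModuleCat.{u} R) (y : ((tS R).truncGE (a + 1)).obj K ⟶ Sg a N), y = 0 := by
    intro N y
    apply hom_truncGE_eq_zero
    exact ((subsingleton_ext_iff K N (-a) a (by omega)).1 (h N)).elim _ _
  obtain ⟨hδ, hP⟩ := exists_split_proj K a hKb h0
  have hH : IsZero ((H R a).obj K) := by
    haveI := subsingleton_H_of_ext K a (fun N _ _ => h N)
    exact ModuleCat.isZero_of_subsingleton _
  exact ⟨exists_split_iso_gap K a hδ hH, hP⟩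

theorem split_inj (K : Dual.D R) (a : ℤ)
    (hKb : ∃ b : ℤ, ∀ i : ℤ, b < i → Subsingleton (Dual.HD R K i))
    (h : ∀ (M M' : Type u) [AddCommGroup M] [Module R M] [AddCommGroup M'] [Module R M']
      (g : M →ₗ[R] M'), Function.Injective g →
      Function.Injective (fun x : K ⟶ (shiftFunctor (Dual.D R) (-a)).obj (Dual.inD R M) =>
        x ≫ (shiftFunctor (Dual.D R) (-a)).map
          ((DerivedCategory.singleFunctor (ModuleCat.{u} R) 0).map (ModuleCat.ofHom g))))
    [HasBinaryBiproduct (((tS R).truncLT (a + 1)).obj K) (((tS R).truncGE (a + 1)).obj K)] :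
    (∃ e : K ≅ ((tS R).truncLT (a + 1)).obj K ⊞ ((tS R).truncGE (a + 1)).obj K,
      ((tS R).truncLTι (a + 1)).app K ≫ e.hom = biprod.inl ∧
        e.hom ≫ biprod.snd = ((tS R).truncGEπ (a + 1)).app K) ∧
      ∃ (P : DRing.Cx R) (b : ℤ), DRing.VanishesOutside P (a + 1) b ∧
        (∀ i : ℤ, Module.Projective R (P.X i)) ∧
        Nonempty (DRing.toD P ≅ ((tS R).truncGE (a + 1)).obj K) := by
  have h0 : ∀ (N : ModuleCat.{u} R) (y : ((tS R).truncGE (a + 1)).obj K ⟶ Sg a N), y = 0 := by
    intro N y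
    apply hom_truncGE_eq_zero
    generalize hx : ((tS R).truncGEπ (a + 1)).app K ≫ y = x
    have hHx : (H R a).map x = 0 := by
      rw [← hx, Functor.map_comp]
      have hz : IsZero ((H R a).obj (((tS R).truncGE (a + 1)).obj K)) :=
        isZero_of_isGE _ (a + 1) a (by omega)
      rw [hz.eq_of_tgt ((H R a).map (((tS R).truncGEπ (a + 1)).app K)) 0, zero_comp]
    obtain ⟨I, ι, hI, hι⟩ : ∃ (I : ModuleCat.{u} R) (ι : N ⟶ I), Injective I ∧ Mono ι :=
      ⟨Injective.under N, Injective.ι N, inferInstance, inferInstance⟩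
    have h1 : x ≫ (singleFunctor (ModuleCat.{u} R) a).map ι = 0 := by
      apply hom_to_Sg_eq_zero a I K
      rw [Functor.map_comp, hHx, zero_comp]
    have hinj := h N I ι.hom ((ModuleCat.mono_iff_injective ι).1 hι)
    have hnat := ((singleFunctors (ModuleCat.{u} R)).shiftIso (-a) a 0 (by omega)).inv.naturality ι
    have h2 : (x ≫ (SgShiftIso (-a) a 0 (by omega) N).inv) ≫
        (shiftFunctor (Dual.D R) (-a)).map ((DerivedCategory.singleFunctor (ModuleCat.{u} R) 0).map
          (ModuleCat.ofHom ι.hom)) = 0 := by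
      rw [Category.assoc]
      have h3 : (SgShiftIso (-a) a 0 (by omega) N).inv ≫
        (shiftFunctor (Dual.D R) (-a)).map ((DerivedCategory.singleFunctor (ModuleCat.{u} R) 0).map
          (ModuleCat.ofHom ι.hom)) =
          (singleFunctor (ModuleCat.{u} R) a).map ι ≫
            (SgShiftIso (-a) a 0 (by omega) I).inv := hnat.symm
      rw [h3, reassoc_of% h1, zero_comp]
    have h4 : x ≫ (SgShiftIso (-a) a 0 (by omega) N).inv = 0 := by
      apply hinj
      simp only
      rw [zero_comp]
      exact h2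
    rw [← cancel_mono (SgShiftIso (-a) a 0 (by omega) N).inv, zero_comp]
    exact h4
  obtain ⟨hδ, hP⟩ := exists_split_proj K a hKb h0
  exact ⟨exists_split_iso K a hδ, hP⟩

end Groth.Agent.Lib.Helper18.DR
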