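import Mathlib
import Groth.Agent.Lib.Helper18.DRTwo
import Groth.Agent.Lib.Helper18.DRInj
import Groth.Agent.Lib.Helper18.DRPerf

/-!
# `Ext¹(K, -)` of a two-term complex killed by a power of an ideal (helper18)
-/

set_option autoImplicit false
set_option linter.style.haveILetI false
universe u
open CategoryTheory CategoryTheory.Limits CategoryTheory.Pretriangulated DerivedCategory

attribute [local instance] HasDerivedCategory.standard

namespace Groth.Agent.Lib.Helper18.DR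

variable {R : Type u} [CommRing R]

/-- `a • φ = φ ≫ (a • 𝟙)[-n]` for `φ : X ⟶ M[-n]` -/
lemma smul_hom_Sg (n : ℤ) (M : ModuleCat.{u} R) (X : Dual.D R) (a : R) (φ : X ⟶ Sg n M) :
    a • φ = φ ≫ (singleFunctor (ModuleCat.{u} R) n).map (a • 𝟙 M) := by
  rw [Functor.map_smul, CategoryTheory.Functor.map_id, Linear.comp_smul, Category.comp_id]

/-- a morphism `X ⟶ N[-n]` from `X ∈ D^{≤ n}` is killed by `a` as soon as `a` kills `H^n(X)` -/
lemma smul_hom_Sg_eq_zero (n : ℤ) (N : ModuleCat.{u} R) (X : Dual.D R) [X.IsLE n] (a : R)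
    (ha : ∀ x : (H R n).obj X, a • x = 0) (g : X ⟶ Sg n N) : a • g = 0 := by
  apply hom_eq_zero_of_H_eq_zero n
  rw [smul_hom_Sg, Functor.map_comp]
  rw [← cancel_mono (HSg n N).hom, Category.assoc, HSg_naturality, zero_comp]
  ext x
  simp only [ModuleCat.hom_comp, ModuleCat.hom_smul, ModuleCat.hom_id, LinearMap.comp_apply,
    LinearMap.smul_apply, LinearMap.id_apply, ModuleCat.hom_zero, LinearMap.zero_apply]
  rw [← map_smul, ← map_smul, ha, map_zero, map_zero]

/-- S12094 -/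
theorem twoTerm_ext_one_killed_iff (I : Ideal R) (K : Dual.D R)
    (hK : ∀ i : ℤ, i ≠ -1 → i ≠ 0 → Subsingleton (Dual.HD R K i)) :
    (∃ c : ℕ, ∀ (N : Type u) [AddCommGroup N] [Module R N] (a : R), a ∈ I ^ c →
        ∀ ξ : K ⟶ (Dual.inD R N)⟦(1 : ℤ)⟧, a • ξ = 0) ↔
      ∃ c : ℕ, (∀ a : R, a ∈ I ^ c → ∀ x : Dual.HD R K (-1), a • x = 0) ∧
        ∀ (N : Type u) [AddCommGroup N] [Module R N] (a : R), a ∈ I ^ c →
          ∀ ξ : Dual.inD R (Dual.HD R K 0) ⟶ (Dual.inD R N)⟦(1 : ℤ)⟧, a • ξ = 0 := by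
  haveI : K.IsLE 0 := by
    rw [DerivedCategory.isLE_iff]
    intro i hi
    exact isZero_H_of_subsingleton K i (hK i (by omega) (by omega))
  haveI : K.IsGE (-1) := by
    rw [DerivedCategory.isGE_iff]
    intro i hi
    exact isZero_H_of_subsingleton K i (hK i (by omega) (by omega))
  obtain ⟨A, B, hA, hB, f, p₀, δ, hT⟩ := TStructure.t.exists_triangle K (-1) 0 (by omega)
  haveI : A.IsLE (-1) := ⟨hA⟩
  haveI : B.IsGE 0 := ⟨hB⟩
  haveI : B.IsLE 0 := isLE_obj₃ hT 0 (by change A.IsLE (0 - 1); exact ⟨hA⟩)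
    (by change K.IsLE 0; infer_instance)
  obtain ⟨N₀, ⟨eB⟩⟩ := exists_iso_singleFunctor_obj_of_isGE_of_isLE B 0
  haveI hp₀ : IsIso ((H R 0).map p₀) :=
    isIso_H_mor₂_of_isZero hT 0 (isZero_of_isLE A (-1) 0 (by omega))
      (isZero_of_isLE A (-1) (0 + 1) (by omega))
  have hf : Mono ((H R (-1)).map f) :=
    mono_H_mor₁_of_isZero hT (-2) (-1) (by omega) (isZero_of_isGE B 0 (-2) (by omega))
  let e : (H R 0).obj K ≅ N₀ := asIso ((H R 0).map p₀) ≪≫ (H R 0).mapIso eB ≪≫ HSg 0 N₀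
  let θ : B ⟶ Dual.inD R (Dual.HD R K 0) :=
    eB.hom ≫ (singleFunctor (ModuleCat.{u} R) 0).map e.inv
  haveI : IsIso θ := by dsimp only [θ]; infer_instance
  let π : K ⟶ Dual.inD R (Dual.HD R K 0) := p₀ ≫ θ
  have hπ : π = p₀ ≫ θ := rfl
  constructor
  · rintro ⟨c, hc⟩
    refine ⟨c, ?_, ?_⟩
    · intro a ha x
      let J : ModuleCat.{u} R := Injective.under ((H R (-1)).obj K)
      let ι : (H R (-1)).obj K ⟶ J := Injective.ι _
      obtain ⟨φ, hφ⟩ := exists_hom_to_Sg (-1) J K ι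
      have h1 : a • (φ ≫ (SgShiftIso 1 (-1) 0 (by omega) J).inv) = 0 :=
        @hc J J.isAddCommGroup J.isModule a ha (φ ≫ (SgShiftIso 1 (-1) 0 (by omega) J).inv)
      rw [← Linear.smul_comp] at h1
      have h2 : a • φ = 0 := by
        rw [← cancel_mono (SgShiftIso 1 (-1) 0 (by omega) J).inv, h1, zero_comp]
      have h3 : (H R (-1)).map (a • φ) = 0 := by rw [h2, Functor.map_zero]
      rw [smul_hom_Sg, Functor.map_comp] at h3
      have h4 : ι ≫ (a • 𝟙 J) = 0 := by
        rw [← hφ, Category.assoc, ← HSg_naturality, ← Category.assoc, h3, zero_comp]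
      have h5 : a • ι.hom x = 0 := by
        have := congrArg (fun t => t.hom x) h4
        simp only [ModuleCat.hom_comp, ModuleCat.hom_smul, ModuleCat.hom_id, LinearMap.comp_apply,
          LinearMap.smul_apply, LinearMap.id_apply, ModuleCat.hom_zero, LinearMap.zero_apply] at this
        exact this
      have hinj : Function.Injective ι.hom := (ModuleCat.mono_iff_injective ι).1 inferInstance
      apply hinj
      rw [map_smul, map_zero]
      exact h5
    · intro N _ _ a ha ξ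
      have h1 : a • (π ≫ ξ) = 0 := hc N a ha (π ≫ ξ)
      rw [← Linear.comp_smul] at h1
      have h2 : p₀ ≫ (θ ≫ (a • ξ)) = 0 := by
        rw [← Category.assoc]; exact h1
      obtain ⟨χ, hχ⟩ := Triangle.yoneda_exact₃ _ hT (θ ≫ (a • ξ)) h2
      have hχ0 : χ = 0 := by
        haveI : (A⟦(1 : ℤ)⟧).IsLE (-1 - 1) := TStructure.t.isLE_shift A (-1) 1 (-1 - 1) (by omega)
        have h3 : (χ : A⟦(1 : ℤ)⟧ ⟶ _) ≫ (SgShiftIso 1 (-1) 0 (by omega) (ModuleCat.of R N)).hom = 0 :=
          hom_to_Sg_eq_zero_of_isLE (-1) (ModuleCat.of R N) (A⟦(1 : ℤ)⟧) _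
        rw [← cancel_mono (SgShiftIso 1 (-1) 0 (by omega) (ModuleCat.of R N)).hom, h3, zero_comp]
      rw [hχ0, comp_zero] at hχ
      rw [← cancel_epi θ]
      exact hχ.trans comp_zero.symm
  · rintro ⟨c, hca, hcb⟩
    refine ⟨c + c, ?_⟩
    intro N _ _ a ha ξ
    have ha' : a ∈ I ^ c • I ^ c := by
      rw [smul_eq_mul, ← pow_add]; exact ha
    refine Submodule.smul_induction_on (p := fun a => a • ξ = 0) ha' ?_ ?_
    · intro a₁ ha₁ a₂ ha₂
      rw [smul_eq_mul, mul_smul]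
      have h0 : f ≫ (a₂ • ξ) = 0 := by
        rw [Linear.comp_smul]
        have h1 : a₂ • ((f ≫ ξ) ≫ (SgShiftIso 1 (-1) 0 (by omega) (ModuleCat.of R N)).hom) = 0 := by
          apply smul_hom_Sg_eq_zero (-1) (ModuleCat.of R N) A a₂
          intro x
          have hinj : Function.Injective ((H R (-1)).map f).hom :=
            (ModuleCat.mono_iff_injective _).1 hf
          apply hinj
          rw [map_smul, map_zero]
          exact hca a₂ ha₂ _
        rw [← Linear.smul_comp] at h1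
        rw [← cancel_mono (SgShiftIso 1 (-1) 0 (by omega) (ModuleCat.of R N)).hom, h1, zero_comp]
      obtain ⟨η₀, hη₀⟩ := Triangle.yoneda_exact₂ _ hT (a₂ • ξ) h0
      have h2 : a₂ • ξ = π ≫ (inv θ ≫ η₀) := by
        rw [hη₀, hπ, Category.assoc, IsIso.hom_inv_id_assoc]
        rfl
      rw [h2, ← Linear.comp_smul, hcb N a₁ ha₁ (inv θ ≫ η₀), comp_zero]
    · intro x y hx hy
      rw [add_smul, hx, hy, add_zero]

end Groth.Agent.Lib.Helper18.DR
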