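import Mathlib
import Groth.Prelude.Def_DualSch
import Groth.Prelude.Def_Dual3
import Groth.Agent.Lib.Helper4.GorScheme
import Groth.Agent.Lib.Helper22.CMLocalize

/-!
# Dualizing complexes on schemes: affine charts and stalks (helper18)
-/

set_option autoImplicit false
set_option linter.style.haveILetI false
universe u
open CategoryTheory CategoryTheory.Limits AlgebraicGeometry

attribute [local instance] HasDerivedCategory.standard

namespace Groth.Agent.Lib.Helper18.DSch

variable {X : Scheme.{u}}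

/-- the point of `X` given by a prime of the sections over an affine open lies in that open -/
lemma fromSpec_mem (U : X.affineOpens) (y : PrimeSpectrum Γ(X, U.1)) :
    U.2.fromSpec y ∈ U.1 := by
  have h := U.2.range_fromSpec
  have h2 : U.2.fromSpec y ∈ Set.range U.2.fromSpec := Set.mem_range_self y
  rw [h] at h2
  exact h2

/-- the stalk at a point of an affine open is the localization of the ring of sections -/
noncomputable def stalkEquiv (U : X.affineOpens) (y : PrimeSpectrum Γ(X, U.1)) :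
    Localization.AtPrime y.asIdeal ≃+* X.presheaf.stalk (U.2.fromSpec y) := by
  letI : Algebra Γ(X, U.1) (X.presheaf.stalk (U.2.fromSpec y)) :=
    TopCat.Presheaf.algebra_section_stalk X.presheaf ⟨U.2.fromSpec y, fromSpec_mem U y⟩
  haveI : IsLocalization.AtPrime (X.presheaf.stalk (U.2.fromSpec y)) y.asIdeal :=
    U.2.isLocalization_stalk' y (fromSpec_mem U y)
  exact (IsLocalization.algEquiv y.asIdeal.primeCompl (Localization.AtPrime y.asIdeal)
    (X.presheaf.stalk (U.2.fromSpec y))).toRingEquiv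

lemma gor_stalk_iff (U : X.affineOpens) (y : PrimeSpectrum Γ(X, U.1)) :
    LocCoh.IsGorensteinLocalRing (X.presheaf.stalk (U.2.fromSpec y)) ↔
      LocCoh.IsGorensteinLocalRing (Localization.AtPrime y.asIdeal) :=
  (Groth.Agent.Lib.Helper4.GorFlat.gor_ringEquiv_iff (stalkEquiv U y)).symm

lemma cm_stalk_iff (U : X.affineOpens) (y : PrimeSpectrum Γ(X, U.1)) :
    LocCoh.IsCohenMacaulayLocalRing (X.presheaf.stalk (U.2.fromSpec y)) ↔
      LocCoh.IsCohenMacaulayLocalRing (Localization.AtPrime y.asIdeal) :=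
  ⟨fun h => Groth.Agent.Lib.Helper22.CMLocalize.isCohenMacaulayLocalRing_of_ringEquiv
      (stalkEquiv U y).symm,
    fun h => Groth.Agent.Lib.Helper22.CMLocalize.isCohenMacaulayLocalRing_of_ringEquiv
      (stalkEquiv U y)⟩

/-- every point of an affine open comes from a prime -/
lemma exists_prime_of_mem (U : X.affineOpens) (x : X) (hx : x ∈ U.1) :
    ∃ y : PrimeSpectrum Γ(X, U.1), U.2.fromSpec y = x :=
  ⟨U.2.primeIdealOf ⟨x, hx⟩, U.2.fromSpec_primeIdealOf ⟨x, hx⟩⟩

/-- openness is local on affine charts -/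
theorem isOpen_of_affine_charts (S : Set X)
    (h : ∀ U : X.affineOpens,
      IsOpen {y : PrimeSpectrum Γ(X, U.1) | U.2.fromSpec y ∈ S}) : IsOpen S := by
  rw [isOpen_iff_forall_mem_open]
  intro x hx
  obtain ⟨_, ⟨U, hU, rfl⟩, hxU, -⟩ :=
    X.isBasis_affineOpens.exists_subset_of_mem_open (Set.mem_univ x) isOpen_univ
  let U' : X.affineOpens := ⟨U, hU⟩
  refine ⟨U'.2.fromSpec.base '' {y : PrimeSpectrum Γ(X, U) | U'.2.fromSpec y ∈ S}, ?_, ?_, ?_⟩
  · rintro _ ⟨y, hy, rfl⟩
    exact hy
  · exact U'.2.fromSpec.isOpenEmbedding.isOpenMap _ (h U')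
  · obtain ⟨y, hy⟩ := exists_prime_of_mem U' x hxU
    refine ⟨y, ?_, hy⟩
    show U'.2.fromSpec y ∈ S
    rw [hy]
    exact hx

section chart

variable [∀ (U : Scheme.{u}) (j : U ⟶ X) [IsOpenImmersion j],
    PreservesFiniteLimits (Scheme.Modules.restrictFunctor j)]
  [∀ (R : CommRingCat.{u}), PreservesFiniteLimits (tilde.functor R)]

/-- affine chart of a dualizing complex -/
theorem exists_chart (K : DCoh.D X) (hK : Dual2.IsDualizingSch X K) (U : X.affineOpens) :
    ∃ ω : Dual.D Γ(X, U.1), Dual.IsDualizing Γ(X, U.1) ω ∧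
      Nonempty ((DCoh.restrictD U.2.fromSpec).obj K ≅
        (DCoh.tildeD (CommRingCat.of Γ(X, U.1))).obj ω) :=
  hK Γ(X, U.1) U.2.fromSpec

end chart

end Groth.Agent.Lib.Helper18.DSch
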