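import Mathlib
import Groth.Agent.Lib.Helper18.DSchA
import Groth.Agent.Lib.Helper3.ModBasic
import Groth.Agent.Lib.Helper2.TExact.WeakSerre
import Groth.Agent.Lib.Helper17.DevBasic

/-!
# Stalks of the cohomology sheaves of a complex on an affine chart (helper18)
-/

set_option autoImplicit false
set_option linter.style.haveILetI false
universe u
open CategoryTheory CategoryTheory.Limits AlgebraicGeometry AlgebraicGeometry.Scheme.Modules

attribute [local instance] HasDerivedCategory.standard

namespace Groth.Agent.Lib.Helper18.DSch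

open Groth.Agent.Lib.Helper2.TExactIso

section tilde

variable (R : CommRingCat.{u})

/-- the support of `M~` -/
lemma mem_support_tilde_iff (M : ModuleCat.{u} R) (y : PrimeSpectrum R) :
    y ∈ CohB1.support ((tilde.functor R).obj M) ↔
      Nontrivial (LocalizedModule y.asIdeal.primeCompl M) := by
  change ¬ Subsingleton ((tilde M).presheaf.stalk y) ↔ _
  rw [not_subsingleton_iff_nontrivial]
  let e := IsLocalizedModule.iso y.asIdeal.primeCompl (tilde.toStalk M y).hom
  exact ⟨fun h => e.toEquiv.nontrivial, fun h => e.symm.toEquiv.nontrivial⟩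

instance preservesFiniteColimits_tilde : PreservesFiniteColimits (tilde.functor R) := by
  haveI : PreservesColimitsOfSize.{0, 0} (tilde.functor R) :=
    (tilde.adjunction (R := R)).leftAdjoint_preservesColimits
  exact PreservesColimitsOfSize.preservesFiniteColimits _

end tilde

section chart

variable {X : Scheme.{u}}
  [∀ (U : Scheme.{u}) (j : U ⟶ X) [IsOpenImmersion j],
    PreservesFiniteLimits (Scheme.Modules.restrictFunctor j)]
  [∀ (R : CommRingCat.{u}), PreservesFiniteLimits (tilde.functor R)]

/-- stalks of the cohomology sheaves on an affine chart -/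
theorem nontrivial_stalk_HD_iff (K : DCoh.D X) (U : X.affineOpens) (ω : Dual.D Γ(X, U.1))
    (e : (DCoh.restrictD U.2.fromSpec).obj K ≅
      (DCoh.tildeD (CommRingCat.of Γ(X, U.1))).obj ω) (i : ℤ) (y : PrimeSpectrum Γ(X, U.1)) :
    Nontrivial ((DCoh.HD K i).presheaf.stalk (U.2.fromSpec y)) ↔
      Nontrivial (LocalizedModule y.asIdeal.primeCompl (Dual.HD Γ(X, U.1) ω i)) := by
  rw [← not_subsingleton_iff_nontrivial,
    ← Groth.Agent.Lib.Helper3.ModBasic.subsingleton_stalk_restrict_iff U.2.fromSpec
      (DCoh.HD K i) y]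
  change y ∈ CohB1.support ((restrictFunctor U.2.fromSpec).obj (DCoh.HD K i)) ↔ _
  rw [Groth.Agent.Lib.Helper17.DevBasic.support_eq_of_iso
    ((mapDerivedCategoryHomologyIso (restrictFunctor U.2.fromSpec) K i).symm ≪≫
      (DerivedCategory.homologyFunctor _ i).mapIso e ≪≫
      mapDerivedCategoryHomologyIso (tilde.functor (CommRingCat.of Γ(X, U.1))) ω i)]
  exact mem_support_tilde_iff (CommRingCat.of Γ(X, U.1)) _ y

end chart

end Groth.Agent.Lib.Helper18.DSch
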