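import Mathlib
import Groth.Agent.Lib.Helper18.HomLoc7
import Groth.Agent.Lib.Helper18.DRInjAmp2

/-!
# Dualizing complexes: local to global, concrete forms (helper18)
-/

set_option autoImplicit false
set_option linter.style.haveILetI false
universe u
open CategoryTheory CategoryTheory.Limits CategoryTheory.Pretriangulated DerivedCategory

attribute [local instance] HasDerivedCategory.standard

namespace Groth.Agent.Lib.Helper18.DR

namespace HomLoc

/-- S7867 -/
theorem isDualizing_of_maximal (A : Type u) [CommRing A] [IsNoetherianRing A] (K : Dual.D A)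
    (hfin : ∀ i : ℤ, Module.Finite A (Dual.HD A K i))
    (hinj : ∃ a b : ℤ, ∀ (M : Type u) [AddCommGroup M] [Module A M] (i : ℤ),
      (i < a ∨ b < i) → Subsingleton (Dual.inD A M ⟶ K⟦i⟧))
    [∀ m : Ideal A, [m.IsMaximal] →
      DRing.HasLBaseChange (algebraMap A (Localization.AtPrime m))]
    (hloc : ∀ (m : Ideal A) [m.IsMaximal],
      Dual.IsDualizing (Localization.AtPrime m)
        ((DRing.LBaseChange (algebraMap A (Localization.AtPrime m))).obj K)) :
    Dual.IsDualizing A K := by
  obtain ⟨a, b, hab⟩ := hinj
  have hfid : FidIn K a b := hab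
  haveI : ∀ k : {m : Ideal A // m.IsMaximal}, k.1.IsMaximal := fun k => k.2
  exact isDualizing_of_covers hfid hfin
    (fun k : {m : Ideal A // m.IsMaximal} => k.1.primeCompl) covers_maximal
    (fun k => Localization.AtPrime k.1)
    (fun k => (DRing.LBaseChange (algebraMap A (Localization.AtPrime k.1))).obj K)
    (fun k => isLocOf_LBC _ _ K) (fun k => hloc k.1)

/-- S11360 -/
theorem isDualizing_of_prime (A : Type u) [CommRing A] [IsNoetherianRing A] (R : Dual.D A)
    (hfin : ∀ i : ℤ, Module.Finite A (Dual.HD A R i)) (hfid : DRing.HasFiniteInjDim A R)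
    [∀ p : PrimeSpectrum A,
      DRing.HasLBaseChange (algebraMap A (Localization.AtPrime p.asIdeal))]
    (h : ∀ p : PrimeSpectrum A, Dual.IsDualizing (Localization.AtPrime p.asIdeal)
      ((DRing.LBaseChange (algebraMap A (Localization.AtPrime p.asIdeal))).obj R)) :
    Dual.IsDualizing A R := by
  obtain ⟨a, b, hab⟩ := hfid
  have hfid' : FidIn R a b := ((injAmp_tfae R a b).out 0 1).1 hab
  exact isDualizing_of_covers hfid' hfin
    (fun p : PrimeSpectrum A => p.asIdeal.primeCompl) covers_prime
    (fun p => Localization.AtPrime p.asIdeal)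
    (fun p => (DRing.LBaseChange (algebraMap A (Localization.AtPrime p.asIdeal))).obj R)
    (fun p => isLocOf_LBC _ _ R) h

end HomLoc

end Groth.Agent.Lib.Helper18.DR
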