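import Mathlib
import Groth.Agent.Lib.Helper18.DSchB
import Groth.Agent.Lib.Helper18.GorLocA
import Groth.Agent.Lib.Helper18.HomLoc8

/-!
# A Gorenstein ring with a dualizing complex: `A[0]` is dualizing (helper18)
-/

set_option autoImplicit false
set_option linter.style.haveILetI false
universe u
open CategoryTheory CategoryTheory.Limits CategoryTheory.Pretriangulated DerivedCategory
open TensorProduct

attribute [local instance] HasDerivedCategory.standard

namespace Groth.Agent.Lib.Helper18.DR

namespace DSchD

open HomLoc HomBC MaxCrit Uniq Norm Dim ExtDim CMLoc FdG GorLoc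

section shift

variable {A : Type u} [CommRing A]

lemma fidIn_shift {ω : Dual.D A} {a b : ℤ} (h : FidIn ω a b) (n : ℤ) :
    FidIn (ω⟦n⟧) (a - n) (b - n) := by
  intro M _ _ i hi
  haveI := h M (n + i) (by omega)
  exact ((shiftFunctorAdd' (Dual.D A) n i (n + i) rfl).app ω).symm.homToEquiv.subsingleton

end shift

section main

variable {A : Type u} [CommRing A] [IsNoetherianRing A]

/-- the localization of `A[0]` at `p` is `A_p[0]` -/
noncomputable def locAtSelfIso (p : PrimeSpectrum A) :
    locAt (Dual.inD A A) p ≅
      Dual.inD (Localization.AtPrime p.asIdeal) (Localization.AtPrime p.asIdeal) :=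
  extDInDIso (A := A) (B := Localization.AtPrime p.asIdeal) A ≪≫
    (singleFunctor (ModuleCat.{u} (Localization.AtPrime p.asIdeal)) 0).mapIso
      (TensorProduct.AlgebraTensorModule.rid A (Localization.AtPrime p.asIdeal)
        (Localization.AtPrime p.asIdeal)).toModuleIso

/-- over a Gorenstein local ring with a dualizing complex of injective amplitude `[a, b]`, the
ring itself has injective amplitude in `[a - b, b - a]` -/
lemma fidIn_self_of_gorenstein {B : Type u} [CommRing B] [IsLocalRing B] [IsNoetherianRing B]
    (Ω : Dual.D B) (hΩ : Dual.IsDualizing B Ω) {a b : ℤ} (hab : FidIn Ω a b)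
    (hG : LocCoh.IsGorensteinLocalRing B) : FidIn (Dual.inD B B) (a - b) (b - a) := by
  have hB := (Groth.Agent.S11179.result B).1 hG
  obtain ⟨n, ⟨e⟩⟩ := exists_shift_iso Ω (Dual.inD B B) hΩ hB
  haveI := hab.isGE
  haveI := hab.isLE
  have h1 := fidIn_of_iso e.symm (fidIn_shift hab n)
  -- `n ∈ [a, b]`
  have hnz : ¬ IsZero ((H B n).obj Ω) := by
    intro hz
    have h2 : IsZero ((H B 0).obj (Ω⟦n⟧)) :=
      hz.of_iso ((HShiftIso B n 0 n (by omega)).app Ω)
    have h3 : IsZero ((H B 0).obj (Dual.inD B B)) := h2.of_iso ((H B 0).mapIso e)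
    have h4 : IsZero (ModuleCat.of B B) := h3.of_iso (HSg 0 (ModuleCat.of B B)).symm
    haveI := ModuleCat.subsingleton_of_isZero h4
    exact not_subsingleton B ‹_›
  have hna : a ≤ n := by
    by_contra h
    exact hnz (isZero_of_isGE Ω a n (by omega))
  have hnb : n ≤ b := by
    by_contra h
    exact hnz (isZero_of_isLE Ω b n (by omega))
  exact h1.mono (by omega) (by omega)

/-- **a Gorenstein Noetherian ring with a dualizing complex: `A[0]` is dualizing** -/
theorem isDualizing_self_of_gorenstein (ω : Dual.D A) (hω : Dual.IsDualizing A ω)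
    (hG : ∀ p : PrimeSpectrum A,
      LocCoh.IsGorensteinLocalRing (Localization.AtPrime p.asIdeal)) :
    Dual.IsDualizing A (Dual.inD A A) := by
  obtain ⟨a, b, hab⟩ := hω.finite_injective_dimension
  have hfid : FidIn ω a b := hab
  have hloc : ∀ p : PrimeSpectrum A, IsLocOf p.asIdeal.primeCompl
      (Localization.AtPrime p.asIdeal) (Dual.inD A A) (locAt (Dual.inD A A) p) :=
    fun p => isLocOf_locAt (Dual.inD A A) p
  have hdual : ∀ p : PrimeSpectrum A, Dual.IsDualizing (Localization.AtPrime p.asIdeal)
      (locAt (Dual.inD A A) p) := fun p =>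
    isDualizing_of_iso (locAtSelfIso p).symm
      ((Groth.Agent.S11179.result (Localization.AtPrime p.asIdeal)).1 (hG p))
  have hfidp : ∀ p : PrimeSpectrum A, FidIn (locAt (Dual.inD A A) p) (a - b) (b - a) := by
    intro p
    obtain ⟨η, hη, -⟩ := isLocOf_locAt ω p
    have h1 : FidIn (locAt ω p) a b := fidIn_of_sloc p.asIdeal.primeCompl hη hfid
    exact fidIn_of_iso (locAtSelfIso p).symm
      (fidIn_self_of_gorenstein (locAt ω p) (isDualizing_locAt ω hω p) h1 (hG p))
  have hfidA : FidIn (Dual.inD A A) (a - b) (b - a) :=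
    fidIn_of_covers (fun p : PrimeSpectrum A => p.asIdeal.primeCompl) covers_prime
      (fun p => Localization.AtPrime p.asIdeal) (fun p => locAt (Dual.inD A A) p) hloc hfidp
  have hfin : ∀ i : ℤ, Module.Finite A (Dual.HD A (Dual.inD A A) i) := by
    intro i
    by_cases hi : i = 0
    · subst hi
      exact Module.Finite.equiv (HSg 0 (ModuleCat.of A A)).toLinearEquiv.symm
    · have hz : IsZero ((H A i).obj (Dual.inD A A)) := by
        rcases lt_or_gt_of_ne hi with h | h
        · exact isZero_of_isGE _ 0 _ h
        · exact isZero_of_isLE _ 0 _ h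
      haveI := ModuleCat.subsingleton_of_isZero hz
      infer_instance
  exact isDualizing_of_covers hfidA hfin
    (fun p : PrimeSpectrum A => p.asIdeal.primeCompl) covers_prime
    (fun p => Localization.AtPrime p.asIdeal) (fun p => locAt (Dual.inD A A) p) hloc hdual

end main

end DSchD

end Groth.Agent.Lib.Helper18.DR
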