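import Mathlib
import Groth.Agent.Lib.Helper18.DSchC

/-!
# Charts along arbitrary open immersions `Spec A ⟶ X`, and the structure sheaf (helper18)
-/

set_option autoImplicit false
set_option linter.style.haveILetI false
universe u
open CategoryTheory CategoryTheory.Limits AlgebraicGeometry AlgebraicGeometry.Scheme.Modules

attribute [local instance] HasDerivedCategory.standard

namespace Groth.Agent.Lib.Helper18.DSch

variable {X : Scheme.{u}}

section stalk

variable {A : Type u} [CommRing A] (j : Spec (CommRingCat.of A) ⟶ X) [IsOpenImmersion j]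

/-- the stalk of `X` at the image of a prime under an open immersion `Spec A ⟶ X` -/
noncomputable def stalkEquivOfOpenImmersion (p : PrimeSpectrum A) :
    Localization.AtPrime p.asIdeal ≃+* X.presheaf.stalk (j p) := by
  letI k : Algebra A ((Spec (CommRingCat.of A)).presheaf.stalk p) :=
    StructureSheaf.stalkAlgebra A p
  haveI : IsLocalization.AtPrime ((Spec (CommRingCat.of A)).presheaf.stalk p) p.asIdeal :=
    StructureSheaf.IsLocalization.to_stalk A p
  exact (IsLocalization.algEquiv p.asIdeal.primeCompl (Localization.AtPrime p.asIdeal)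
    ((Spec (CommRingCat.of A)).presheaf.stalk p)).toRingEquiv.trans
      (asIso (Scheme.Hom.stalkMap j p)).commRingCatIsoToRingEquiv.symm

include j in
lemma gor_localization_of_isGorenstein (hX : Dual3.IsGorenstein X) (p : PrimeSpectrum A) :
    LocCoh.IsGorensteinLocalRing (Localization.AtPrime p.asIdeal) :=
  Groth.Agent.Lib.Helper4.GorFlat.gor_of_ringEquiv (stalkEquivOfOpenImmersion j p).symm
    (hX.2 (j p))

end stalk

section unit

variable [∀ (U : Scheme.{u}) (j : U ⟶ X) [IsOpenImmersion j],
    PreservesFiniteLimits (Scheme.Modules.restrictFunctor j)]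
  [∀ (R : CommRingCat.{u}), PreservesFiniteLimits (tilde.functor R)]

/-- `(R[0])~ ≅ O_{Spec R}[0]` -/
noncomputable def tildeDUnitIso (R : CommRingCat.{u}) :
    (DCoh.tildeD R).obj ((DerivedCategory.singleFunctor (ModuleCat.{u} R) 0).obj
      (ModuleCat.of R R)) ≅
      DCoh.inD (Spec (CommRingCat.of R)) (Coh.structureModule (Spec (CommRingCat.of R))) :=
  ((tilde.functor R).mapDerivedCategorySingleFunctor 0).app (ModuleCat.of R R) ≪≫
    (DerivedCategory.singleFunctor _ 0).mapIso (tildeSelf (R := R))

/-- the restriction of `O_X[0]` along an open immersion is `O_U[0]` -/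
noncomputable def restrictDUnitIso' {U : Scheme.{u}} (j : U ⟶ X) [IsOpenImmersion j] :
    (DCoh.restrictD j).obj (DCoh.inD X (Coh.structureModule X)) ≅
      DCoh.inD U (Coh.structureModule U) :=
  ((restrictFunctor j).mapDerivedCategorySingleFunctor 0).app (Coh.structureModule X) ≪≫
    (DerivedCategory.singleFunctor _ 0).mapIso (restrictUnitIso j)

variable {A : Type u} [CommRing A] (j : Spec (CommRingCat.of A) ⟶ X) [IsOpenImmersion j]

/-- the restriction of `O_X[0]` to an affine chart is `(A[0])~` -/
noncomputable def restrictDUnitIso :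
    (DCoh.restrictD j).obj (DCoh.inD X (Coh.structureModule X)) ≅
      (DCoh.tildeD (CommRingCat.of A)).obj (Dual.inD A A) :=
  restrictDUnitIso' j ≪≫ (tildeDUnitIso (CommRingCat.of A)).symm

end unit

end Groth.Agent.Lib.Helper18.DSch
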