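import Mathlib
import Groth.Agent.Lib.Helper18.DSchB
import Groth.Agent.Lib.Helper28.Reflexive
import Groth.Agent.Lib.Helper4.Sk
import Groth.Agent.S0369
import Groth.Agent.S0366
import Groth.Agent.S0371

/-!
# The lowest cohomology module of a dualizing complex over a local ring: `(S_2)` and
torsion-freeness (helper18)
-/

set_option autoImplicit false
set_option linter.style.haveILetI false
universe u
open CategoryTheory CategoryTheory.Limits CategoryTheory.Pretriangulated DerivedCategory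

attribute [local instance] HasDerivedCategory.standard

namespace Groth.Agent.Lib.Helper18.DR

namespace DSchF

open HomLoc HomBC MaxCrit Uniq Norm Dim ExtDim CMLoc FdG DSchB

section loc

variable {B : Type u} [CommRing B] [IsLocalRing B] [IsNoetherianRing B]

lemma exists_nat_dim (Ω : Dual.D B) (hΩ : Dual.IsDualizing B Ω) :
    ∃ d : ℕ, ringKrullDim B = d := by
  have h1 := Groth.Agent.S0371.result B Ω hΩ
  have h0 : (0 : WithBot ℕ∞) ≤ ringKrullDim B := ringKrullDim_nonneg_of_nontrivial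
  obtain ⟨x, hx⟩ := WithBot.ne_bot_iff_exists.mp (ne_bot_of_le_ne_bot (by simp) h0)
  rw [← hx] at h1
  have hx' : x ≠ ⊤ := by
    rintro rfl
    exact (lt_irrefl _ h1)
  obtain ⟨d, hd⟩ := ENat.ne_top_iff_exists.mp hx'
  exact ⟨d, by rw [← hx, ← hd]; rfl⟩

/-- the lowest cohomology module is, up to isomorphism, `H^{-d}` of the normalized complex -/
theorem exists_normalized_lowest (Ω : Dual.D B) (hΩ : Dual.IsDualizing B Ω) (n : ℤ)
    (hlt : ∀ i : ℤ, i < n → IsZero ((H B i).obj Ω)) (hn : Nontrivial ((H B n).obj Ω)) :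
    ∃ (Ω' : Dual.D B) (d : ℕ), Dual.IsDualizing B Ω' ∧ Dual.IsNormalized B Ω' ∧
      ringKrullDim B = d ∧
      Nonempty ((H B n).obj Ω ≃ₗ[B] Dual.HD B Ω' (-(d : ℤ))) := by
  obtain ⟨m, hm⟩ := exists_isNormalized_shift Ω hΩ
  have hΩ' := InvTwist.isDualizing_shift Ω hΩ m
  obtain ⟨d, hd⟩ := exists_nat_dim Ω hΩ
  have hsd : Module.supportDim B B = (d : WithBot ℕ∞) := by
    rw [Module.supportDim_self_eq_ringKrullDim, hd]
  -- `H^{-d}(Ω[m]) ≠ 0`
  have h1 : Nontrivial (Dual.inD B B ⟶ (Ω⟦m⟧)⟦-(d : ℤ)⟧) :=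
    Groth.Agent.S19859.result B (Ω⟦m⟧) hΩ' hm B d hsd
  have h1' : Nontrivial ((H B (-(d : ℤ))).obj (Ω⟦m⟧)) :=
    (hEquiv (Ω⟦m⟧) (-(d : ℤ))).toEquiv.nontrivial
  -- `H^i(Ω[m]) = 0` for `i < -d`
  have h2 : ∀ i : ℤ, Nontrivial ((H B i).obj (Ω⟦m⟧)) → -(d : ℤ) ≤ i := by
    intro i hi
    have : Nontrivial (Dual.inD B B ⟶ (Ω⟦m⟧)⟦i⟧) :=
      (hEquiv (Ω⟦m⟧) i).symm.toEquiv.nontrivial
    exact ((Groth.Agent.S0366.result B (Ω⟦m⟧) hΩ' hm B d hsd i).1 this).1
  -- compare degrees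
  have e1 : ∀ i : ℤ, (H B i).obj (Ω⟦m⟧) ≅ (H B (m + i)).obj Ω := fun i =>
    (HShiftIso B m i (m + i) rfl).app Ω
  have hge : n ≤ m + -(d : ℤ) := by
    by_contra hcon
    have hz := hlt (m + -(d : ℤ)) (by omega)
    haveI := ModuleCat.subsingleton_of_isZero (hz.of_iso (e1 (-(d : ℤ))))
    exact not_subsingleton _ ‹_›
  have hle : m + -(d : ℤ) ≤ n := by
    have h3 : Nontrivial ((H B (n - m)).obj (Ω⟦m⟧)) := by
      have e2 : (H B (n - m)).obj (Ω⟦m⟧) ≅ (H B n).obj Ω :=
        (HShiftIso B m (n - m) n (by omega)).app Ω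
      exact e2.toLinearEquiv.toEquiv.nontrivial
    have := h2 _ h3
    omega
  have heq : m + -(d : ℤ) = n := le_antisymm hle hge
  refine ⟨Ω⟦m⟧, d, hΩ', hm, hd, ⟨?_⟩⟩
  exact ((HShiftIso B m (-(d : ℤ)) n heq).app Ω).toLinearEquiv.symm

/-- **`(S_2)` for the lowest cohomology module of a dualizing complex** -/
theorem hasSk_two_lowest (Ω : Dual.D B) (hΩ : Dual.IsDualizing B Ω) (n : ℤ)
    (hlt : ∀ i : ℤ, i < n → IsZero ((H B i).obj Ω)) :
    LocCoh.HasSk 2 B ((H B n).obj Ω) := by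
  by_cases hn : Nontrivial ((H B n).obj Ω)
  · obtain ⟨Ω', d, hΩ', hnorm, hd, ⟨e⟩⟩ := exists_normalized_lowest Ω hΩ n hlt hn
    exact Groth.Agent.Lib.Helper28.hasSk_congr 2 e.symm
      (Groth.Agent.S0369.result B Ω' hΩ' hnorm d hd).2
  · rw [not_nontrivial_iff_subsingleton] at hn
    intro p _
    haveI : Subsingleton (LocalizedModule p.primeCompl ((H B n).obj Ω)) :=
      LocalizedModule.instSubsingleton _
    rw [Module.supportDim_eq_bot_of_subsingleton]
    simp

/-- **torsion-freeness of the lowest cohomology module over a domain** -/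
theorem isTorsionFree_lowest [IsDomain B] (Ω : Dual.D B) (hΩ : Dual.IsDualizing B Ω) (n : ℤ)
    (hlt : ∀ i : ℤ, i < n → IsZero ((H B i).obj Ω)) :
    Module.IsTorsionFree B ((H B n).obj Ω) := by
  by_cases hn : Nontrivial ((H B n).obj Ω)
  · obtain ⟨Ω', d, hΩ', hnorm, hd, ⟨e⟩⟩ := exists_normalized_lowest Ω hΩ n hlt hn
    obtain ⟨hsupp, hS2⟩ := Groth.Agent.S0369.result B Ω' hΩ' hnorm d hd
    haveI : Module.Finite B (Dual.HD B Ω' (-(d : ℤ))) := hΩ'.finite_cohomology _
    -- the annihilator is zero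
    have hann : Module.annihilator B (Dual.HD B Ω' (-(d : ℤ))) = ⊥ := by
      have hmem : (⟨⊥, Ideal.isPrime_bot⟩ : PrimeSpectrum B) ∈
          Module.support B (Dual.HD B Ω' (-(d : ℤ))) := by
        rw [hsupp]
        refine ⟨⊥, ?_, le_rfl, ?_⟩
        · rw [IsDomain.minimalPrimes_eq_singleton_bot]
          rfl
        · rw [← hd]
          exact ringKrullDim_eq_of_ringEquiv (RingEquiv.quotientBot B)
      rw [Module.mem_support_iff_of_finite] at hmem
      exact le_bot_iff.mp hmem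
    have hS1 : LocCoh.HasSk 1 B (Dual.HD B Ω' (-(d : ℤ))) := by
      intro p _
      refine le_trans (min_le_min_right _ ?_) (hS2 p)
      exact_mod_cast (by norm_num : (1 : ℕ) ≤ 2)
    have hass := (Groth.Agent.Lib.Helper4.noEmbedded_iff_hasS1
      (R := B) (M := Dual.HD B Ω' (-(d : ℤ)))).2 hS1
    have key : ∀ (r : B) (z : Dual.HD B Ω' (-(d : ℤ))), r ≠ 0 → r • z = 0 → z = 0 := by
      intro r z hr hrz
      by_contra hz
      obtain ⟨P, hP, hle⟩ := exists_le_isAssociatedPrime_of_isNoetherianRing B z hz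
      have hPmin := hass P hP
      rw [hann] at hPmin
      have hPbot : P = ⊥ := by
        exact le_bot_iff.mp (hPmin.2 ⟨Ideal.isPrime_bot, le_rfl⟩ bot_le)
      have hrP : r ∈ P := hle (by
        rw [Submodule.mem_colon_singleton]
        exact hrz)
      rw [hPbot] at hrP
      exact hr hrP
    refine ⟨fun r hr => ?_⟩
    have hr0 : r ≠ 0 := hr.ne_zero
    intro x y hxy
    have h1 : r • (e x - e y) = 0 := by
      rw [smul_sub, ← map_smul, ← map_smul]
      have : r • x = r • y := hxy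
      rw [this, sub_self]
    have h2 := key r _ hr0 h1
    exact e.injective (sub_eq_zero.mp h2)
  · rw [not_nontrivial_iff_subsingleton] at hn
    exact ⟨fun r _ x y _ => Subsingleton.elim _ _⟩

end loc

end DSchF

end Groth.Agent.Lib.Helper18.DR
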