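import Mathlib
import Groth.Agent.Lib.Helper18.DSchF

/-!
# The lowest cohomology module of a dualizing complex, localized at a prime (helper18)

Abstract bridge: a module `N` over a localization `B` of `A` at a prime which is the localization
of the lowest cohomology module of a dualizing complex of `A`.
-/

set_option autoImplicit false
set_option linter.style.haveILetI false
universe u
open CategoryTheory CategoryTheory.Limits CategoryTheory.Pretriangulated DerivedCategory
open TensorProduct

attribute [local instance] HasDerivedCategory.standard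

namespace Groth.Agent.Lib.Helper18.DR

namespace DSchG

open HomLoc HomBC MaxCrit Uniq Norm Dim ExtDim CMLoc FdG DSchB DSchF

theorem lowest_localized {A : Type u} [CommRing A] [IsNoetherianRing A] (ω : Dual.D A)
    (p : PrimeSpectrum A) (B : Type u) [CommRing B] [IsLocalRing B] [Algebra A B]
    [IsLocalization.AtPrime B p.asIdeal]
    (N : Type u) [AddCommGroup N] [Module A N] [Module B N] [IsScalarTower A B N] (n : ℤ)
    (g : (H A n).obj ω →ₗ[A] N) [IsLocalizedModule p.asIdeal.primeCompl g]
    (hω : Dual.IsDualizing A ω)
    (hlt : ∀ i : ℤ, i < n → IsZero ((H A i).obj ω)) :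
    LocCoh.HasSk 2 B N ∧ (IsDomain B → Module.IsTorsionFree B N) := by
  haveI : IsNoetherianRing B := IsLocalization.isNoetherianRing p.asIdeal.primeCompl B inferInstance
  haveI : Module.Flat A B := IsLocalization.flat B p.asIdeal.primeCompl
  let Ω : Dual.D B := (extD A B).obj ω
  have hΩ : Dual.IsDualizing B Ω :=
    isDualizing_of_isLocOf _ (isLocOf_extD p.asIdeal.primeCompl B ω) hω
  have hltB : ∀ i : ℤ, i < n → IsZero ((H B i).obj Ω) := fun i hi =>
    ((extM (A := A) (B := B)).map_isZero (hlt i hi)).of_iso
      (homologyMapDIso (extM (A := A) (B := B)) ω i)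
  let E : (H B n).obj Ω ≃ₗ[B] N :=
    ((homologyMapDIso (extM (A := A) (B := B)) ω n).toLinearEquiv.trans
      (extMEquiv (B := B) ((H A n).obj ω))).trans
      (IsLocalizedModule.isBaseChange p.asIdeal.primeCompl B g).equiv
  refine ⟨Groth.Agent.Lib.Helper28.hasSk_congr 2 E (hasSk_two_lowest Ω hΩ n hltB), fun hdom => ?_⟩
  haveI := hdom
  haveI := isTorsionFree_lowest Ω hΩ n hltB
  exact Function.Injective.moduleIsTorsionFree E.symm E.symm.injective (fun r m => map_smul _ r m)

end DSchG

end Groth.Agent.Lib.Helper18.DR
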