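import Mathlib
import Groth.Agent.Lib.Helper18.DSchC
import Groth.Agent.Lib.Helper3.QcohStalk
import Groth.Agent.Lib.Helper3.StalkLin

/-!
# Stalks of modules on an affine chart as localizations, with their module structures (helper18)

The first section (semilinearity of the stalk of a restriction) follows helper13's `StalkFBC2`.
-/

set_option autoImplicit false
set_option linter.style.haveILetI false
universe u
open CategoryTheory CategoryTheory.Limits AlgebraicGeometry AlgebraicGeometry.Scheme.Modules
  TopologicalSpace Opposite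

attribute [local instance] HasDerivedCategory.standard

noncomputable section

namespace Groth.Agent.Lib.Helper18.DSch

open Groth.Agent.Lib.Helper3

section Restrict

variable {U Y : Scheme.{u}} (j : U ⟶ Y) [IsOpenImmersion j] (M : Y.Modules) (x : U)

/-- the stalk of the restriction -/
def rStalk : ((restrictFunctor j).obj M).presheaf.stalk x ≃+ M.presheaf.stalk (j x) :=
  ((restrictStalkNatIso j x).app M).addCommGroupIsoToAddEquiv

theorem mem_image (W : U.Opens) (hx : x ∈ W) : j x ∈ j ''ᵁ W := ⟨x, hx, rfl⟩

theorem rStalk_germ (W : U.Opens) (hx : x ∈ W) (t : Γ((restrictFunctor j).obj M, W)) :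
    rStalk j M x (((restrictFunctor j).obj M).presheaf.germ W x hx t) =
      M.presheaf.germ (j ''ᵁ W) (j x) (mem_image j x W hx) (show Γ(M, j ''ᵁ W) from t) := by
  have h := germ_restrictStalkNatIso_hom_app j x M hx
  exact congr($h t)

/-- the inverse of the stalk map of an open immersion -/
def ρj : U.presheaf.stalk x ≃+* Y.presheaf.stalk (j x) :=
  (asIso (j.stalkMap x)).symm.commRingCatIsoToRingEquiv

theorem ρj_stalkMap (d : Y.presheaf.stalk (j x)) : ρj j x (j.stalkMap x d) = d := by
  change ((asIso (j.stalkMap x)).hom ≫ (asIso (j.stalkMap x)).inv) d = d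
  rw [Iso.hom_inv_id]
  rfl

theorem ρj_germ (W : U.Opens) (hx : x ∈ W) (r : Γ(U, W)) :
    ρj j x (U.presheaf.germ W x hx r) =
      Y.presheaf.germ (j ''ᵁ W) (j x) (mem_image j x W hx) ((j.appIso W).inv.hom r) := by
  have h : j.stalkMap x
      (Y.presheaf.germ (j ''ᵁ W) (j x) (mem_image j x W hx) ((j.appIso W).inv.hom r)) =
      U.presheaf.germ W x hx r := by
    rw [Scheme.Hom.germ_stalkMap_apply]
    erw [Scheme.Hom.appIso_inv_app_apply]
    exact TopCat.Presheaf.germ_res_apply U.presheaf (eqToHom (j.preimage_image_eq W)) x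
      (show x ∈ j ⁻¹ᵁ j ''ᵁ W from mem_image j x W hx) r
  rw [← h, ρj_stalkMap]

/-- the stalk of the restriction is semilinear for the inverse of the stalk map. -/
theorem rStalk_smul (c : U.presheaf.stalk x) (m : ((restrictFunctor j).obj M).presheaf.stalk x) :
    rStalk j M x (c • m) = ρj j x c • rStalk j M x m := by
  obtain ⟨W, hx, r, s, rfl, rfl⟩ := QS.exists_germ_pair ((restrictFunctor j).obj M) x c m
  rw [← QS.germ_smul, rStalk_germ, rStalk_germ, ρj_germ]
  exact QS.germ_smul (U := j ''ᵁ W) M (j x) (mem_image j x W hx) ((j.appIso W).inv.hom r) s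

end Restrict

section Iso

variable {X : Scheme.{u}}

lemma stalkMap_id_apply (F : X.Modules) (x : X) (m : F.presheaf.stalk x) :
    QS.stalkMap (𝟙 F) x m = m := by
  obtain ⟨W, hx, s, rfl⟩ := TopCat.Presheaf.exists_germ_eq F.presheaf m
  rw [QS.stalkMap_germ]
  rfl

/-- an isomorphism of modules induces an additive equivalence of stalks -/
def stalkEquivOfIso {F G : X.Modules} (φ : F ≅ G) (x : X) :
    F.presheaf.stalk x ≃+ G.presheaf.stalk x where
  toFun := QS.stalkMap φ.hom x
  invFun := QS.stalkMap φ.inv x
  left_inv m := by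
    rw [← QS.stalkMap_comp_apply, Iso.hom_inv_id, stalkMap_id_apply]
  right_inv m := by
    rw [← QS.stalkMap_comp_apply, Iso.inv_hom_id, stalkMap_id_apply]
  map_add' a b := map_add _ a b

end Iso

section Main

variable {X : Scheme.{u}} {A : CommRingCat.{u}} (j : Spec (CommRingCat.of A) ⟶ X)
  [IsOpenImmersion j] (y : PrimeSpectrum.Top A)

/-- the ring map `A → O_{X, j y}` -/
def toStalkX : A →+* X.presheaf.stalk (j y) :=
  (ρj j y).toRingHom.comp (StructureSheaf.toStalk A y).hom

lemma isLocalization_toStalkX :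
    letI := (toStalkX j y).toAlgebra
    IsLocalization.AtPrime (X.presheaf.stalk (j y)) y.asIdeal := by
  letI := (toStalkX j y).toAlgebra
  letI k : Algebra A ((Spec (CommRingCat.of A)).presheaf.stalk y) :=
    (StructureSheaf.toStalk A y).hom.toAlgebra
  haveI : IsLocalization.AtPrime ((Spec (CommRingCat.of A)).presheaf.stalk y) y.asIdeal :=
    StructureSheaf.IsLocalization.to_stalk A y
  let e : (Spec (CommRingCat.of A)).presheaf.stalk y ≃ₐ[A] X.presheaf.stalk (j y) :=
    { (ρj j y) with commutes' := fun a => rfl }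
  exact IsLocalization.isLocalization_of_algEquiv y.asIdeal.primeCompl e

variable (F : X.Modules) (Hm : ModuleCat.{u} A)
  (φ : (restrictFunctor j).obj F ≅ (tilde.functor A).obj Hm)

/-- the stalk of `M~` maps isomorphically to the stalk of `F` -/
def stalkAddEquiv : (tilde Hm).presheaf.stalk y ≃+
    F.presheaf.stalk (j y) :=
  (stalkEquivOfIso φ.symm y).trans (rStalk j F y)

lemma stalkAddEquiv_apply (t : (tilde Hm).presheaf.stalk y) :
    stalkAddEquiv j y F Hm φ t = rStalk j F y (QS.stalkMap φ.inv y t) := rfl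

lemma stalkAddEquiv_smul (a : A) (t : (tilde Hm).presheaf.stalk y) :
    stalkAddEquiv j y F Hm φ (a • t) = toStalkX j y a • stalkAddEquiv j y F Hm φ t := by
  rw [stalkAddEquiv_apply, stalkAddEquiv_apply]
  let c : (Spec (CommRingCat.of A)).presheaf.stalk y := (StructureSheaf.toStalk A y).hom a
  have h1 : a • t = c • t := rfl
  calc rStalk j F y (QS.stalkMap φ.inv y (a • t))
      = rStalk j F y (QS.stalkMap φ.inv y (c • t)) := by rw [h1]
    _ = rStalk j F y (c • QS.stalkMap φ.inv y t) :=
        congrArg _ (QS.stalkMap_smul φ.inv y c t)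
    _ = ρj j y c • rStalk j F y (QS.stalkMap φ.inv y t) := rStalk_smul j F y c _
    _ = toStalkX j y a • rStalk j F y (QS.stalkMap φ.inv y t) := rfl

end Main

end Groth.Agent.Lib.Helper18.DSch
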