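import Mathlib
import Groth.Agent.Lib.Helper18.DSchH
import Groth.Agent.Lib.Helper18.DSchG

/-!
# The lowest cohomology sheaf of a dualizing complex on a scheme: `(S_2)` and torsion-freeness of
its stalks (helper18)
-/

set_option autoImplicit false
set_option linter.style.haveILetI false
universe u
open CategoryTheory CategoryTheory.Limits AlgebraicGeometry AlgebraicGeometry.Scheme.Modules
  TopologicalSpace Opposite

attribute [local instance] HasDerivedCategory.standard

noncomputable section

namespace Groth.Agent.Lib.Helper18.DSch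

open Groth.Agent.Lib.Helper3 Groth.Agent.Lib.Helper18.DR Groth.Agent.Lib.Helper2.TExactIso

section Loc

variable {X : Scheme.{u}} {A : CommRingCat.{u}} (j : Spec (CommRingCat.of A) ⟶ X)
  [IsOpenImmersion j] (y : PrimeSpectrum.Top A) (F : X.Modules) (Hm : ModuleCat.{u} A)
  (φ : (restrictFunctor j).obj F ≅ (tilde.functor A).obj Hm)

include φ in
/-- `F_{j y}` is the localization of `Hm` at `y` -/
theorem exists_isLocalizedModule :
    letI : Module A (F.presheaf.stalk (j y)) := Module.compHom _ (toStalkX j y)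
    ∃ g : Hm →ₗ[A] F.presheaf.stalk (j y), IsLocalizedModule y.asIdeal.primeCompl g := by
  letI : Module A (F.presheaf.stalk (j y)) := Module.compHom _ (toStalkX j y)
  let e : (tilde Hm).presheaf.stalk y ≃ₗ[A] F.presheaf.stalk (j y) :=
    { stalkAddEquiv j y F Hm φ with
      map_smul' := fun a t => stalkAddEquiv_smul j y F Hm φ a t }
  exact ⟨e.toLinearMap ∘ₗ (tilde.toStalk Hm y).hom,
    IsLocalizedModule.of_linearEquiv y.asIdeal.primeCompl (tilde.toStalk Hm y).hom e⟩

end Loc

section Main

variable {X : Scheme.{u}}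
  [∀ (U : Scheme.{u}) (j : U ⟶ X) [IsOpenImmersion j],
    PreservesFiniteLimits (Scheme.Modules.restrictFunctor j)]
  [∀ (R : CommRingCat.{u}), PreservesFiniteLimits (tilde.functor R)]

/-- restriction of the cohomology sheaves to a chart -/
def restrictHDIso (K : DCoh.D X) {A : CommRingCat.{u}} (j : Spec (CommRingCat.of A) ⟶ X)
    [IsOpenImmersion j] (ω : DerivedCategory (ModuleCat.{u} A))
    (e : (DCoh.restrictD j).obj K ≅ (DCoh.tildeD A).obj ω) (i : ℤ) :
    (restrictFunctor j).obj (DCoh.HD K i) ≅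
      (tilde.functor A).obj ((DerivedCategory.homologyFunctor (ModuleCat.{u} A) i).obj ω) :=
  (mapDerivedCategoryHomologyIso (restrictFunctor j) K i).symm ≪≫
    (DerivedCategory.homologyFunctor _ i).mapIso e ≪≫
    mapDerivedCategoryHomologyIso (tilde.functor A) ω i

lemma isZero_of_isZero_tilde (R : CommRingCat.{u}) (M : ModuleCat.{u} R)
    (h : IsZero ((tilde.functor R).obj M)) : IsZero M := by
  rw [IsZero.iff_id_eq_zero]
  apply (tilde.functor R).map_injective
  exact h.eq_of_src _ _

theorem lowest_stalk [IsLocallyNoetherian X] (K : DCoh.D X) (hK : Dual2.IsDualizingSch X K)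
    (n : ℤ) (hlt : ∀ i : ℤ, i < n → IsZero (DCoh.HD K i)) (x : X) :
    LocCoh.HasSk 2 (X.presheaf.stalk x) ((DCoh.HD K n).presheaf.stalk x) ∧
      (IsDomain (X.presheaf.stalk x) →
        Module.IsTorsionFree (X.presheaf.stalk x) ((DCoh.HD K n).presheaf.stalk x)) := by
  obtain ⟨_, ⟨U, hU, rfl⟩, hxU, -⟩ :=
    X.isBasis_affineOpens.exists_subset_of_mem_open (Set.mem_univ x) isOpen_univ
  let U' : X.affineOpens := ⟨U, hU⟩
  obtain ⟨y, rfl⟩ := exists_prime_of_mem U' x hxU
  obtain ⟨ω, hω, ⟨e⟩⟩ := exists_chart K hK U'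
  haveI : IsNoetherianRing Γ(X, U) := IsLocallyNoetherian.component_noetherian U'
  let A : CommRingCat.{u} := CommRingCat.of Γ(X, U)
  let j : Spec (CommRingCat.of A) ⟶ X := U'.2.fromSpec
  haveI : IsOpenImmersion j := inferInstanceAs (IsOpenImmersion U'.2.fromSpec)
  let φ : ∀ i : ℤ, (restrictFunctor j).obj (DCoh.HD K i) ≅
      (tilde.functor A).obj ((H Γ(X, U) i).obj ω) := fun i => restrictHDIso K (A := A) j ω e i
  have hltA : ∀ i : ℤ, i < n → IsZero ((H Γ(X, U) i).obj ω) := fun i hi =>
    isZero_of_isZero_tilde A _ (((restrictFunctor j).map_isZero (hlt i hi)).of_iso (φ i).symm)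
  letI algB : Algebra Γ(X, U) (X.presheaf.stalk (j y)) := (toStalkX j y).toAlgebra
  haveI hloc : IsLocalization.AtPrime (X.presheaf.stalk (j y)) y.asIdeal :=
    isLocalization_toStalkX j y
  letI modA : Module Γ(X, U) ((DCoh.HD K n).presheaf.stalk (j y)) :=
    Module.compHom _ (toStalkX j y)
  haveI : IsScalarTower Γ(X, U) (X.presheaf.stalk (j y))
      ((DCoh.HD K n).presheaf.stalk (j y)) :=
    IsScalarTower.of_algebraMap_smul (fun r m => rfl)
  obtain ⟨g, hg⟩ := exists_isLocalizedModule j y (DCoh.HD K n) ((H Γ(X, U) n).obj ω) (φ n)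
  exact DSchG.lowest_localized ω y (X.presheaf.stalk (j y))
    ((DCoh.HD K n).presheaf.stalk (j y)) n g hω hltA

end Main

end Groth.Agent.Lib.Helper18.DSch
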