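import Mathlib
import Groth.Agent.Lib.Helper18.DSchI
import Groth.Agent.Lib.Helper4.Reflexive2
import Groth.Agent.Lib.Helper4.SerreNormal

/-!
# `(S_2)` + torsion-free over a normal Noetherian domain implies reflexive; finiteness of the
stalks of the lowest cohomology sheaf of a dualizing complex (helper18)
-/

set_option autoImplicit false
set_option linter.style.haveILetI false
universe u
open CategoryTheory CategoryTheory.Limits AlgebraicGeometry AlgebraicGeometry.Scheme.Modules
  TopologicalSpace Opposite

attribute [local instance] HasDerivedCategory.standard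

namespace Groth.Agent.Lib.Helper18.DR

namespace DSchJ

open IsLocalRing

/-- a normal Noetherian local domain of dimension at most one is a principal ideal ring -/
theorem isPrincipalIdealRing_of_normal_of_dim_le_one (B : Type u) [CommRing B] [IsDomain B]
    [IsNoetherianRing B] [IsLocalRing B] [IsIntegrallyClosed B] (h : ringKrullDim B ≤ 1) :
    IsPrincipalIdealRing B := by
  have hprimes : ∀ P : Ideal B, P ≠ ⊥ → P.IsPrime → P = maximalIdeal B := by
    intro P hP0 hPp
    by_contra hne
    have hlt : P < maximalIdeal B := lt_of_le_of_ne (le_maximalIdeal hPp.ne_top) hne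
    have hbot : (⊥ : Ideal B) < P := bot_lt_iff_ne_bot.mpr hP0
    haveI : (⊥ : Ideal B).IsPrime := Ideal.isPrime_bot
    have h1 : (⊥ : Ideal B).height < P.height := Ideal.height_strict_mono_of_isPrime hbot
    have h2 : P.height < (maximalIdeal B).height := Ideal.height_strict_mono_of_isPrime hlt
    have h3 : (maximalIdeal B).height ≤ 1 := by
      have := IsLocalRing.maximalIdeal_height_eq_ringKrullDim (R := B)
      rw [← this] at h
      exact_mod_cast h
    have h4 : P.height < 1 := lt_of_lt_of_le h2 h3
    have h5 : P.height = 0 := Order.lt_one_iff.mp h4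
    rw [h5] at h1
    exact not_lt_zero h1
  have h30 : (IsIntegrallyClosed B ∧
      ∀ P : Ideal B, P ≠ ⊥ → P.IsPrime → P = maximalIdeal B) → IsPrincipalIdealRing B :=
    ((tfae_of_isNoetherianRing_of_isLocalRing_of_isDomain B).out 3 0).mp
  exact h30 ⟨inferInstance, hprimes⟩

/-- a nonzero finite torsion-free module over a domain has full support dimension -/
theorem supportDim_eq_of_torsionFree (B : Type u) [CommRing B] [IsDomain B]
    (N : Type u) [AddCommGroup N] [Module B N] [Module.Finite B N] [Module.IsTorsionFree B N]
    [Nontrivial N] : Module.supportDim B N = ringKrullDim B := by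
  have hann : Module.annihilator B N = ⊥ := by
    rw [eq_bot_iff]
    intro r hr
    rw [Ideal.mem_bot]
    by_contra hr0
    obtain ⟨x, hx⟩ := exists_ne (0 : N)
    have h1 : r • x = 0 := Module.mem_annihilator.mp hr x
    rcases (Module.isTorsionFree_iff_smul_eq_zero.mp inferInstance) r x h1 with h | h
    · exact hr0 h
    · exact hx h
  rw [Module.supportDim_eq_ringKrullDim_quotient_annihilator, hann]
  exact ringKrullDim_eq_of_ringEquiv (RingEquiv.quotientBot B)

/-- **`(S_2)` and torsion-free over a normal Noetherian domain implies reflexive** -/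
theorem isReflexive_of_S2_torsionFree (B : Type u) [CommRing B] [IsDomain B] [IsNoetherianRing B]
    [IsIntegrallyClosed B] (N : Type u) [AddCommGroup N] [Module B N] [Module.Finite B N]
    [Module.IsTorsionFree B N] (hS2 : LocCoh.HasSk 2 B N) : Module.IsReflexive B N := by
  rw [Groth.Agent.Lib.Helper4.isReflexive_iff_forall_localization_or_depth]
  intro p hp
  haveI : IsIntegrallyClosed (Localization.AtPrime p) :=
    isIntegrallyClosed_of_isLocalization (Localization.AtPrime p) p.primeCompl
      p.primeCompl_le_nonZeroDivisors
  by_cases hsub : Subsingleton (LocalizedModule p.primeCompl N)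
  · exact Or.inl inferInstance
  rw [not_subsingleton_iff_nontrivial] at hsub
  have hdim : Module.supportDim (Localization.AtPrime p) (LocalizedModule p.primeCompl N) =
      ringKrullDim (Localization.AtPrime p) := supportDim_eq_of_torsionFree _ _
  by_cases hht : ringKrullDim (Localization.AtPrime p) ≤ 1
  · haveI := isPrincipalIdealRing_of_normal_of_dim_le_one (Localization.AtPrime p) hht
    exact Or.inl inferInstance
  · right
    have h2 : (2 : WithBot ℕ∞) ≤ ringKrullDim (Localization.AtPrime p) := by
      rw [not_le] at hht
      have h0 : (0 : WithBot ℕ∞) ≤ ringKrullDim (Localization.AtPrime p) :=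
        ringKrullDim_nonneg_of_nontrivial
      obtain ⟨x, hx⟩ := WithBot.ne_bot_iff_exists.mp (ne_bot_of_le_ne_bot (by simp) h0)
      rw [← hx] at hht ⊢
      have h1 : (1 : ℕ∞) < x := by exact_mod_cast hht
      have h3 : (2 : ℕ∞) ≤ x := by
        have := Order.add_one_le_of_lt h1
        rwa [one_add_one_eq_two] at this
      have h2' : (2 : WithBot ℕ∞) = ((2 : ℕ∞) : WithBot ℕ∞) := rfl
      rw [h2', WithBot.coe_le_coe]
      exact h3
    have h3 := hS2 p
    have hk : ((2 : ℕ) : WithBot ℕ∞) = (2 : WithBot ℕ∞) := rfl
    rw [hdim, hk, min_eq_left h2] at h3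
    have h2' : (2 : WithBot ℕ∞) = ((2 : ℕ∞) : WithBot ℕ∞) := rfl
    rw [h2', WithBot.coe_le_coe] at h3
    exact h3

end DSchJ

end Groth.Agent.Lib.Helper18.DR
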