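import Mathlib
import Groth.Agent.Lib.Helper18.DSchJ
import Groth.Prelude.Def_Pi1

/-!
# Reflexivity of the stalks of the lowest cohomology sheaf of a dualizing complex on a normal
scheme (helper18)
-/

set_option autoImplicit false
set_option linter.style.haveILetI false
universe u
open CategoryTheory CategoryTheory.Limits AlgebraicGeometry AlgebraicGeometry.Scheme.Modules
  TopologicalSpace Opposite CategoryTheory.Pretriangulated DerivedCategory
open TensorProduct

attribute [local instance] HasDerivedCategory.standard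

noncomputable section

namespace Groth.Agent.Lib.Helper18.DR

namespace DSchJ

open HomLoc HomBC MaxCrit Uniq Norm Dim ExtDim CMLoc FdG DSchB DSchF

theorem lowest_localized_finite {A : Type u} [CommRing A] [IsNoetherianRing A] (ω : Dual.D A)
    (p : PrimeSpectrum A) (B : Type u) [CommRing B] [IsLocalRing B] [Algebra A B]
    [IsLocalization.AtPrime B p.asIdeal]
    (N : Type u) [AddCommGroup N] [Module A N] [Module B N] [IsScalarTower A B N] (n : ℤ)
    (g : (H A n).obj ω →ₗ[A] N) [IsLocalizedModule p.asIdeal.primeCompl g]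
    (hω : Dual.IsDualizing A ω) : Module.Finite B N := by
  haveI : IsNoetherianRing B := IsLocalization.isNoetherianRing p.asIdeal.primeCompl B inferInstance
  haveI : Module.Flat A B := IsLocalization.flat B p.asIdeal.primeCompl
  let Ω : Dual.D B := (extD A B).obj ω
  have hΩ : Dual.IsDualizing B Ω :=
    isDualizing_of_isLocOf _ (isLocOf_extD p.asIdeal.primeCompl B ω) hω
  let E : (H B n).obj Ω ≃ₗ[B] N :=
    ((homologyMapDIso (extM (A := A) (B := B)) ω n).toLinearEquiv.trans
      (extMEquiv (B := B) ((H A n).obj ω))).trans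
      (IsLocalizedModule.isBaseChange p.asIdeal.primeCompl B g).equiv
  haveI : Module.Finite B ((H B n).obj Ω) := hΩ.finite_cohomology n
  exact Module.Finite.equiv E

end DSchJ

end Groth.Agent.Lib.Helper18.DR

namespace Groth.Agent.Lib.Helper18.DSch

open Groth.Agent.Lib.Helper3 Groth.Agent.Lib.Helper18.DR Groth.Agent.Lib.Helper2.TExactIso

variable {X : Scheme.{u}}
  [∀ (U : Scheme.{u}) (j : U ⟶ X) [IsOpenImmersion j],
    PreservesFiniteLimits (Scheme.Modules.restrictFunctor j)]
  [∀ (R : CommRingCat.{u}), PreservesFiniteLimits (tilde.functor R)]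

theorem finite_stalk_HD [IsLocallyNoetherian X] (K : DCoh.D X) (hK : Dual2.IsDualizingSch X K)
    (n : ℤ) (x : X) :
    Module.Finite (X.presheaf.stalk x) ((DCoh.HD K n).presheaf.stalk x) := by
  obtain ⟨_, ⟨U, hU, rfl⟩, hxU, -⟩ :=
    X.isBasis_affineOpens.exists_subset_of_mem_open (Set.mem_univ x) isOpen_univ
  let U' : X.affineOpens := ⟨U, hU⟩
  obtain ⟨y, rfl⟩ := exists_prime_of_mem U' x hxU
  obtain ⟨ω, hω, ⟨e⟩⟩ := exists_chart K hK U'
  haveI : IsNoetherianRing Γ(X, U) := IsLocallyNoetherian.component_noetherian U'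
  let A : CommRingCat.{u} := CommRingCat.of Γ(X, U)
  let j : Spec (CommRingCat.of A) ⟶ X := U'.2.fromSpec
  haveI : IsOpenImmersion j := inferInstanceAs (IsOpenImmersion U'.2.fromSpec)
  let φ : ∀ i : ℤ, (restrictFunctor j).obj (DCoh.HD K i) ≅
      (tilde.functor A).obj ((H Γ(X, U) i).obj ω) := fun i => restrictHDIso K (A := A) j ω e i
  letI algB : Algebra Γ(X, U) (X.presheaf.stalk (j y)) := (toStalkX j y).toAlgebra
  haveI hloc : IsLocalization.AtPrime (X.presheaf.stalk (j y)) y.asIdeal :=
    isLocalization_toStalkX j y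
  letI modA : Module Γ(X, U) ((DCoh.HD K n).presheaf.stalk (j y)) :=
    Module.compHom _ (toStalkX j y)
  haveI : IsScalarTower Γ(X, U) (X.presheaf.stalk (j y))
      ((DCoh.HD K n).presheaf.stalk (j y)) :=
    IsScalarTower.of_algebraMap_smul (fun r m => rfl)
  obtain ⟨g, hg⟩ := exists_isLocalizedModule j y (DCoh.HD K n) ((H Γ(X, U) n).obj ω) (φ n)
  exact DSchJ.lowest_localized_finite ω y (X.presheaf.stalk (j y))
    ((DCoh.HD K n).presheaf.stalk (j y)) n g hω

/-- **reflexivity of the dualizing sheaf on a normal scheme** -/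
theorem isReflexive_lowest_stalk [IsLocallyNoetherian X] (hX : Pi1.IsNormalScheme X)
    (K : DCoh.D X) (hK : Dual2.IsDualizingSch X K)
    (n : ℤ) (hlt : ∀ i : ℤ, i < n → IsZero (DCoh.HD K i)) (x : X) :
    Module.IsReflexive (X.presheaf.stalk x) ((DCoh.HD K n).presheaf.stalk x) := by
  haveI := (hX x).1
  haveI := (hX x).2
  haveI := finite_stalk_HD K hK n x
  obtain ⟨h1, h2⟩ := lowest_stalk K hK n hlt x
  haveI := h2 inferInstance
  exact DSchJ.isReflexive_of_S2_torsionFree _ _ h1

end Groth.Agent.Lib.Helper18.DSch
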