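import Mathlib
import Groth.Agent.Lib.Helper18.DSchK
import Groth.Agent.Lib.Helper18.ShrA
import Groth.Agent.Lib.Helper12.TildePullback

/-!
# Compatibility of the derived tilde functor with restriction to an affine open (helper18)
-/

set_option autoImplicit false
set_option linter.style.haveILetI false
universe u
open CategoryTheory CategoryTheory.Limits AlgebraicGeometry AlgebraicGeometry.Scheme.Modules
  TopologicalSpace Opposite

attribute [local instance] HasDerivedCategory.standard

noncomputable section

namespace Groth.Agent.Lib.Helper18.DSch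

open Groth.Agent.Lib.Helper18.DR Groth.Agent.Lib.Helper18.DR.Shr

section restrict

variable {X Y Z : Scheme.{u}}
  [∀ (U V : Scheme.{u}) (j : U ⟶ V) [IsOpenImmersion j],
    PreservesFiniteLimits (Scheme.Modules.restrictFunctor j)]

/-- restriction along a composition of open immersions -/
def restrictDComp (f : X ⟶ Y) (g : Y ⟶ Z) [IsOpenImmersion f] [IsOpenImmersion g] :
    DCoh.restrictD (f ≫ g) ≅ DCoh.restrictD g ⋙ DCoh.restrictD f :=
  mapDCompIso (restrictFunctorComp f g)

/-- restriction along equal open immersions -/
def restrictDCongr {f g : X ⟶ Y} [IsOpenImmersion f] [IsOpenImmersion g] (h : f = g) :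
    DCoh.restrictD f ≅ DCoh.restrictD g :=
  mapDCongr (restrictFunctorCongr h)

end restrict

section tilde

theorem additive_tilde (R : CommRingCat.{u}) : (tilde.functor R).Additive := inferInstance

instance additive_tilde_of (A : Type u) [CommRing A] :
    (tilde.functor (CommRingCat.of A)).Additive := additive_tilde _

theorem preservesFiniteColimits_tilde' (R : CommRingCat.{u}) :
    PreservesFiniteColimits (tilde.functor R) := inferInstance

instance preservesFiniteColimits_tilde_of (A : Type u) [CommRing A] :
    PreservesFiniteColimits (tilde.functor (CommRingCat.of A)) := preservesFiniteColimits_tilde' _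

variable [∀ (U V : Scheme.{u}) (j : U ⟶ V) [IsOpenImmersion j],
    PreservesFiniteLimits (Scheme.Modules.restrictFunctor j)]
  [∀ (R : CommRingCat.{u}), PreservesFiniteLimits (tilde.functor R)]

variable (A C : Type u) [CommRing A] [CommRing C] [Algebra A C] [Module.Flat A C]
  [IsOpenImmersion (Spec.map (CommRingCat.ofHom (algebraMap A C)))]

/-- the abelian level isomorphism `(M~)|_{Spec C} ≅ (C ⊗ M)~` -/
def tildeRestrictIsoAb :
    tilde.functor (CommRingCat.of A) ⋙
        restrictFunctor (Spec.map (CommRingCat.ofHom (algebraMap A C))) ≅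
      extM (A := A) (B := C) ⋙ tilde.functor (CommRingCat.of C) :=
  Functor.isoWhiskerLeft _ (restrictFunctorIsoPullback _) ≪≫
    Groth.Agent.Lib.Helper12.TildePullback.tildePullbackIso
      (CommRingCat.ofHom (algebraMap A C))

/-- `(ω~)|_{Spec C} ≅ (ω ⊗ C)~` on derived categories -/
def tildeRestrictIso :
    DCoh.tildeD (CommRingCat.of A) ⋙
        DCoh.restrictD (Spec.map (CommRingCat.ofHom (algebraMap A C))) ≅
      extD A C ⋙ DCoh.tildeD (CommRingCat.of C) :=
  (mapDCompIso (F := tilde.functor (CommRingCat.of A))
      (G := restrictFunctor (Spec.map (CommRingCat.ofHom (algebraMap A C))))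
      (H := tilde.functor (CommRingCat.of A) ⋙
        restrictFunctor (Spec.map (CommRingCat.ofHom (algebraMap A C)))) (Iso.refl _)).symm ≪≫
    mapDCompIso (tildeRestrictIsoAb A C)

end tilde

end Groth.Agent.Lib.Helper18.DSch
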