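import Mathlib
import Groth.Agent.Lib.Helper18.HomLoc9
import Groth.Agent.Lib.Helper18.BCHom6

/-!
# Dualizing complexes: local to global on a finite cover by general principal localizations
(helper18)
-/

set_option autoImplicit false
set_option linter.style.haveILetI false
universe u
open CategoryTheory CategoryTheory.Limits CategoryTheory.Pretriangulated DerivedCategory

attribute [local instance] HasDerivedCategory.standard

namespace Groth.Agent.Lib.Helper18.DR

namespace HomLoc

variable {A : Type u} [CommRing A] [IsNoetherianRing A]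

theorem isDualizing_of_finset_cover (t : Finset A) (ht : Ideal.span (t : Set A) = ⊤)
    (ω : Dual.D A) (B : t → Type u) [∀ g, CommRing (B g)] [∀ g, Algebra A (B g)]
    [∀ g : t, IsLocalization.Away g.1 (B g)] (ωB : ∀ g, Dual.D (B g))
    (hloc : ∀ g : t, IsLocOf (Submonoid.powers g.1) (B g) ω (ωB g))
    (hdual : ∀ g, Dual.IsDualizing (B g) (ωB g)) : Dual.IsDualizing A ω := by
  have hcov : Covers (fun g : t => Submonoid.powers g.1) := by
    apply covers_powers (fun g : t => g.1)
    rw [Subtype.range_coe_subtype]
    exact ht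
  haveI : ∀ g : t, IsNoetherianRing (B g) := fun g => (hdual g).isNoetherianRing
  choose ak bk hk using fun g => (hdual g).finite_injective_dimension
  obtain ⟨b, hb⟩ := (Set.finite_range bk).bddAbove
  obtain ⟨a, ha⟩ := (Set.finite_range ak).bddBelow
  have hB : ∀ g, FidIn (ωB g) a b := fun g =>
    FidIn.mono (hk g) (ha ⟨g, rfl⟩) (hb ⟨g, rfl⟩)
  have hfid : FidIn ω a b :=
    fidIn_of_covers (fun g : t => Submonoid.powers g.1) hcov B ωB hloc hB
  have hfin : ∀ j : ℤ, Module.Finite A (Dual.HD A ω j) := by
    intro j
    choose η hη _ using hloc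
    let Mp : t → Type u := fun g =>
      ((ModuleCat.restrictScalars.{u} (algebraMap A (B g))).obj ((H (B g) j).obj (ωB g)))
    letI iB : ∀ g, Module (B g) (Mp g) := fun g =>
      inferInstanceAs (Module (B g) ((H (B g) j).obj (ωB g)))
    haveI : ∀ g, IsScalarTower A (B g) (Mp g) := fun g =>
      ⟨fun a b v => by
        rw [Algebra.smul_def, mul_smul]
        rfl⟩
    haveI : ∀ g : t, IsLocalizedModule.Away g.1 (Hη (η g) j).hom := fun g =>
      isLocalizedModule_Hη (Submonoid.powers g.1) (hη g) j
    refine Module.Finite.of_localizationSpan_finite' t ht (Mₚ := Mp) (Rₚ := B)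
      (fun g => (Hη (η g) j).hom) (fun g => ?_)
    exact (hdual g).finite_cohomology j
  exact isDualizing_of_covers hfid hfin (fun g : t => Submonoid.powers g.1) hcov B ωB hloc hdual

end HomLoc

end Groth.Agent.Lib.Helper18.DR
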