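import Mathlib
import Groth.Agent.Lib.Helper18.DSchL
import Groth.Agent.Lib.Helper18.DSchM
import Groth.Agent.Lib.Helper18.DimA
import Groth.Agent.Lib.Helper2.Aff.TildeEquiv
import Groth.Agent.Lib.Helper3.QCOpen

/-!
# Charts of a complex on a scheme: transport along principal localizations (helper18)
-/

set_option autoImplicit false
set_option linter.style.haveILetI false
universe u
open CategoryTheory CategoryTheory.Limits AlgebraicGeometry AlgebraicGeometry.Scheme.Modules
  TopologicalSpace Opposite

attribute [local instance] HasDerivedCategory.standard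

noncomputable section

namespace Groth.Agent.Lib.Helper18.DSch

open Groth.Agent.Lib.Helper18.DR Groth.Agent.Lib.Helper18.DR.Shr Groth.Agent.Lib.Helper18.DR.HomLoc
  Groth.Agent.Lib.Helper2.TExactIso

variable {X : Scheme.{u}}
  [∀ (U V : Scheme.{u}) (j : U ⟶ V) [IsOpenImmersion j],
    PreservesFiniteLimits (Scheme.Modules.restrictFunctor j)]
  [∀ (R : CommRingCat.{u}), PreservesFiniteLimits (tilde.functor R)]

/-- restriction of a chart to an affine open of the chart -/
def chartRestrictIso (K : DCoh.D X) (A C : Type u) [CommRing A] [CommRing C] [Algebra A C]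
    [Module.Flat A C] [IsOpenImmersion (Spec.map (CommRingCat.ofHom (algebraMap A C)))]
    (j : Spec (CommRingCat.of A) ⟶ X) [IsOpenImmersion j] (ω : Dual.D A)
    (e : (DCoh.restrictD j).obj K ≅ (DCoh.tildeD (CommRingCat.of A)).obj ω)
    (j' : Spec (CommRingCat.of C) ⟶ X) [IsOpenImmersion j']
    (hj' : Spec.map (CommRingCat.ofHom (algebraMap A C)) ≫ j = j') :
    (DCoh.restrictD j').obj K ≅ (DCoh.tildeD (CommRingCat.of C)).obj ((extD A C).obj ω) :=
  (restrictDCongr hj'.symm).app K ≪≫ (restrictDComp _ j).app K ≪≫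
    (DCoh.restrictD _).mapIso e ≪≫ (tildeRestrictIso A C).app ω

/-- a dualizing chart restricts to a dualizing chart on a principal open of the chart -/
theorem chart_of_away (K : DCoh.D X) {A C : Type u} [CommRing A] [CommRing C] [Algebra A C]
    (f : A) [IsLocalization.Away f C]
    (j : Spec (CommRingCat.of A) ⟶ X) [IsOpenImmersion j]
    (j' : Spec (CommRingCat.of C) ⟶ X) [IsOpenImmersion j']
    (hj' : Spec.map (CommRingCat.ofHom (algebraMap A C)) ≫ j = j')
    (h : ∃ ω : Dual.D A, Dual.IsDualizing A ω ∧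
      Nonempty ((DCoh.restrictD j).obj K ≅ (DCoh.tildeD (CommRingCat.of A)).obj ω)) :
    ∃ ω' : Dual.D C, Dual.IsDualizing C ω' ∧
      Nonempty ((DCoh.restrictD j').obj K ≅ (DCoh.tildeD (CommRingCat.of C)).obj ω') := by
  obtain ⟨ω, hω, ⟨e⟩⟩ := h
  haveI := hω.isNoetherianRing
  haveI : Module.Flat A C := IsLocalization.flat C (Submonoid.powers f)
  haveI : IsOpenImmersion (Spec.map (CommRingCat.ofHom (algebraMap A C))) :=
    IsOpenImmersion.of_isLocalization f
  exact ⟨(extD A C).obj ω,
    isDualizing_of_isLocOf _ (Dim.isLocOf_extD (Submonoid.powers f) C ω) hω,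
    ⟨chartRestrictIso K A C j ω e j' hj'⟩⟩

/-- a dualizing chart can be transported to any chart with the same range -/
theorem chart_transport (K : DCoh.D X) {A C : Type u} [CommRing A] [CommRing C]
    (j : Spec (CommRingCat.of A) ⟶ X) [IsOpenImmersion j]
    (j' : Spec (CommRingCat.of C) ⟶ X) [IsOpenImmersion j']
    (hr : Set.range j.base = Set.range j'.base)
    (h : ∃ ω : Dual.D A, Dual.IsDualizing A ω ∧
      Nonempty ((DCoh.restrictD j).obj K ≅ (DCoh.tildeD (CommRingCat.of A)).obj ω)) :
    ∃ ω' : Dual.D C, Dual.IsDualizing C ω' ∧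
      Nonempty ((DCoh.restrictD j').obj K ≅ (DCoh.tildeD (CommRingCat.of C)).obj ω') := by
  let g : Spec (CommRingCat.of C) ⟶ Spec (CommRingCat.of A) :=
    IsOpenImmersion.lift j j' hr.symm.le
  have hg : g ≫ j = j' := IsOpenImmersion.lift_fac _ _ _
  haveI : IsIso g := (IsOpenImmersion.isoOfRangeEq j' j hr.symm).isIso_hom
  let φ : CommRingCat.of A ⟶ CommRingCat.of C := Spec.preimage g
  have hφ : Spec.map φ = g := Spec.map_preimage g
  haveI : IsIso (Spec.map φ) := by rw [hφ]; infer_instance
  haveI : IsIso (Scheme.Spec.map φ.op) := ‹IsIso (Spec.map φ)›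
  haveI : IsIso φ.op := isIso_of_reflects_iso φ.op Scheme.Spec
  haveI : IsIso φ := isIso_of_op φ
  letI : Algebra A C := φ.hom.toAlgebra
  have hbij : Function.Bijective (algebraMap A C) :=
    ConcreteCategory.bijective_of_isIso φ
  haveI : IsLocalization.Away (1 : A) C :=
    IsLocalization.away_of_isUnit_of_bijective C isUnit_one hbij
  exact chart_of_away K (1 : A) j j' (by rw [← hg, ← hφ]; rfl) h

end Groth.Agent.Lib.Helper18.DSch
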