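import Mathlib
import Groth.Agent.Lib.Helper18.DSchN

/-!
# Dualizing complexes on schemes are affine-local (helper18)
-/

set_option autoImplicit false
set_option linter.style.haveILetI false
universe u
open CategoryTheory CategoryTheory.Limits AlgebraicGeometry AlgebraicGeometry.Scheme.Modules
  TopologicalSpace Opposite

attribute [local instance] HasDerivedCategory.standard

noncomputable section

namespace Groth.Agent.Lib.Helper18.DSch

open Groth.Agent.Lib.Helper18.DR Groth.Agent.Lib.Helper18.DR.Shr Groth.Agent.Lib.Helper18.DR.HomLoc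
  Groth.Agent.Lib.Helper2.TExactIso Groth.Agent.Lib.Helper3

variable {X : Scheme.{u}}
  [∀ (U V : Scheme.{u}) (j : U ⟶ V) [IsOpenImmersion j],
    PreservesFiniteLimits (Scheme.Modules.restrictFunctor j)]
  [∀ (R : CommRingCat.{u}), PreservesFiniteLimits (tilde.functor R)]

omit [∀ (U V : Scheme.{u}) (j : U ⟶ V) [IsOpenImmersion j],
    PreservesFiniteLimits (Scheme.Modules.restrictFunctor j)]
  [∀ (R : CommRingCat.{u}), PreservesFiniteLimits (tilde.functor R)] in
theorem isQC_tilde (R : CommRingCat.{u}) (M : ModuleCat.{u} R) :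
    ((tilde.functor R).obj M).IsQuasicoherent := inferInstance

/-- a complex with tilde charts on an open cover has quasi-coherent cohomology sheaves -/
theorem isQCohD_of_charts (K : DCoh.D X) (ι : Type u) (A : ι → Type u) [∀ i, CommRing (A i)]
    (j : ∀ i, Spec (CommRingCat.of (A i)) ⟶ X) [∀ i, IsOpenImmersion (j i)]
    (hcov : ∀ x : X, ∃ i, x ∈ Set.range (j i))
    (hK : ∀ i, ∃ ω : Dual.D (A i),
      Nonempty ((DCoh.restrictD (j i)).obj K ≅ (DCoh.tildeD (CommRingCat.of (A i))).obj ω)) :
    DCoh.IsQCohD K := by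
  intro n
  apply QCOpen.isQuasicoherent_of_open_cover
  intro x
  obtain ⟨i, hi⟩ := hcov x
  refine ⟨(j i).opensRange, hi, ?_⟩
  obtain ⟨ω, ⟨e⟩⟩ := hK i
  -- the chart restriction is quasi-coherent
  have h1 : ((DCoh.HD K n).restrict (j i)).IsQuasicoherent := by
    have e1 : (restrictFunctor (j i)).obj (DCoh.HD K n) ≅
        (tilde.functor (CommRingCat.of (A i))).obj ((H (A i) n).obj ω) :=
      restrictHDIso K (A := CommRingCat.of (A i)) (j i) ω e n
    exact Groth.Agent.Lib.Helper2.Aff.isQCoh_of_iso e1.symm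
      (isQC_tilde (CommRingCat.of (A i)) _)
  -- transport to the open subscheme
  let l : ((j i).opensRange : Scheme.{u}) ⟶ Spec (CommRingCat.of (A i)) :=
    IsOpenImmersion.lift (j i) (j i).opensRange.ι (by simp)
  have hl : l ≫ j i = (j i).opensRange.ι := IsOpenImmersion.lift_fac _ _ _
  haveI : IsOpenImmersion l := IsOpenImmersion.of_comp l (j i)
  have e2 := QCTilde.restrictFacIso (j i) l (j i).opensRange.ι hl (DCoh.HD K n)
  have h2 : (((DCoh.HD K n).restrict (j i)).restrict l).IsQuasicoherent :=
    Scheme.Modules.isQuasicoherent_restrictFunctor l _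
  exact Groth.Agent.Lib.Helper2.Aff.isQCoh_of_iso e2 h2

end Groth.Agent.Lib.Helper18.DSch
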