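import Mathlib
import Groth.Agent.Lib.Helper18.DSchO

/-!
# Dualizing complexes on schemes are affine-local, II (helper18)
-/

set_option autoImplicit false
set_option linter.style.haveILetI false
universe u
open CategoryTheory CategoryTheory.Limits AlgebraicGeometry AlgebraicGeometry.Scheme.Modules
  TopologicalSpace Opposite

attribute [local instance] HasDerivedCategory.standard

noncomputable section

namespace Groth.Agent.Lib.Helper18.DSch

open Groth.Agent.Lib.Helper18.DR Groth.Agent.Lib.Helper18.DR.Shr Groth.Agent.Lib.Helper18.DR.HomLoc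
  Groth.Agent.Lib.Helper2.TExactIso Groth.Agent.Lib.Helper3

variable {X : Scheme.{u}}
  [∀ (U V : Scheme.{u}) (j : U ⟶ V) [IsOpenImmersion j],
    PreservesFiniteLimits (Scheme.Modules.restrictFunctor j)]
  [∀ (R : CommRingCat.{u}), PreservesFiniteLimits (tilde.functor R)]

omit [∀ (U V : Scheme.{u}) (j : U ⟶ V) [IsOpenImmersion j],
    PreservesFiniteLimits (Scheme.Modules.restrictFunctor j)]
  [∀ (R : CommRingCat.{u}), PreservesFiniteLimits (tilde.functor R)] in
/-- the canonical chart of an affine open -/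
def chartMap (U : X.affineOpens) : Spec (CommRingCat.of Γ(X, U.1)) ⟶ X := U.2.fromSpec

instance (U : X.affineOpens) : IsOpenImmersion (chartMap U) :=
  inferInstanceAs (IsOpenImmersion U.2.fromSpec)

/-- the chart property of an affine open -/
def ChartP (K : DCoh.D X) (U : X.affineOpens) : Prop :=
  ∃ ω : Dual.D Γ(X, U.1), Dual.IsDualizing Γ(X, U.1) ω ∧
    Nonempty ((DCoh.restrictD (chartMap U)).obj K ≅
      (DCoh.tildeD (CommRingCat.of Γ(X, U.1))).obj ω)

/-- the chart property passes to principal opens -/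
theorem chartP_basicOpen (K : DCoh.D X) (U : X.affineOpens) (f : Γ(X, U.1))
    (h : ChartP K U) : ChartP K (X.affineBasicOpen f) := by
  letI alg : Algebra Γ(X, U.1) Γ(X, X.basicOpen f) :=
    (X.presheaf.map (homOfLE (X.basicOpen_le f)).op).hom.toAlgebra
  haveI : IsLocalization.Away f Γ(X, X.basicOpen f) :=
    U.2.isLocalization_of_eq_basicOpen f (homOfLE (X.basicOpen_le f)) rfl
  have hj' : Spec.map (CommRingCat.ofHom (algebraMap Γ(X, U.1) Γ(X, X.basicOpen f))) ≫
      chartMap U = chartMap (X.affineBasicOpen f) :=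
    U.2.map_fromSpec (X.affineBasicOpen f).2 (homOfLE (X.basicOpen_le f)).op
  have hW : IsOpenImmersion (chartMap (X.affineBasicOpen f)) := inferInstance
  have hU : IsOpenImmersion (chartMap U) := inferInstance
  exact @chart_of_away X _ _ K Γ(X, U.1) Γ(X, (X.affineBasicOpen f).1) _ _ alg f ‹_›
    (chartMap U) hU (chartMap (X.affineBasicOpen f)) hW hj' h

/-- restriction to an open preserves quasi-coherence of the cohomology sheaves -/
theorem isQCohD_restrictD {U : Scheme.{u}} (j : U ⟶ X) [IsOpenImmersion j] (K : DCoh.D X)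
    (hq : DCoh.IsQCohD K) : DCoh.IsQCohD ((DCoh.restrictD j).obj K) := by
  intro n
  have e := mapDerivedCategoryHomologyIso (restrictFunctor j) K n
  haveI : (DCoh.HD K n).IsQuasicoherent := hq n
  exact Groth.Agent.Lib.Helper2.Aff.isQCoh_of_iso e.symm
    (Scheme.Modules.isQuasicoherent_restrictFunctor j (DCoh.HD K n))

/-- the chart property glues along a finite principal cover -/
theorem chartP_of_cover [IsLocallyNoetherian X] (K : DCoh.D X) (hq : DCoh.IsQCohD K)
    (U : X.affineOpens) (s : Finset Γ(X, U.1)) (hs : Ideal.span (s : Set Γ(X, U.1)) = ⊤)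
    (h : ∀ f : s, ChartP K (X.affineBasicOpen f.1)) : ChartP K U := by
  haveI : IsNoetherianRing Γ(X, U.1) := IsLocallyNoetherian.component_noetherian U
  have hqU := isQCohD_restrictD (chartMap U) K hq
  obtain ⟨ωU, ⟨eU⟩⟩ :=
    ((Groth.Agent.Lib.Helper2.Aff.tildeD_fullyFaithful_essImage
      (CommRingCat.of Γ(X, U.1))).2.2 _).1 hqU
  let C : s → Type u := fun f => Γ(X, X.basicOpen f.1)
  letI alg : ∀ f : s, Algebra Γ(X, U.1) (C f) := fun f =>
    (X.presheaf.map (homOfLE (X.basicOpen_le f.1)).op).hom.toAlgebra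
  haveI loc : ∀ f : s, IsLocalization.Away f.1 (C f) := fun f =>
    U.2.isLocalization_of_eq_basicOpen f.1 (homOfLE (X.basicOpen_le f.1)) rfl
  haveI flat : ∀ f : s, Module.Flat Γ(X, U.1) (C f) := fun f =>
    IsLocalization.flat (C f) (Submonoid.powers f.1)
  let ΩB : ∀ f : s, Dual.D (C f) := fun f => (extD Γ(X, U.1) (C f)).obj ωU
  have hloc : ∀ f : s, IsLocOf (Submonoid.powers f.1) (C f) ωU (ΩB f) := fun f =>
    Dim.isLocOf_extD (Submonoid.powers f.1) (C f) ωU
  have hdual : ∀ f : s, Dual.IsDualizing (C f) (ΩB f) := by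
    intro f
    obtain ⟨ωf, hωf, ⟨ef⟩⟩ := h f
    have hj' : Spec.map (CommRingCat.ofHom (algebraMap Γ(X, U.1) (C f))) ≫
        chartMap U = chartMap (X.affineBasicOpen f.1) :=
      U.2.map_fromSpec (X.affineBasicOpen f.1).2 (homOfLE (X.basicOpen_le f.1)).op
    haveI : IsOpenImmersion (Spec.map (CommRingCat.ofHom (algebraMap Γ(X, U.1) (C f)))) :=
      IsOpenImmersion.of_isLocalization f.1
    have hW : IsOpenImmersion (chartMap (X.affineBasicOpen f.1)) := inferInstance
    have hU : IsOpenImmersion (chartMap U) := inferInstance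
    have iso1 := @chartRestrictIso X _ _ K Γ(X, U.1) Γ(X, (X.affineBasicOpen f.1).1) _ _
      (alg f) (flat f) ‹_› (chartMap U) hU ωU eU.symm (chartMap (X.affineBasicOpen f.1)) hW hj'
    have iso2 := iso1.symm ≪≫ ef
    obtain ⟨hfull, hfaith, -⟩ := Groth.Agent.Lib.Helper2.Aff.tildeD_fullyFaithful_essImage
      (CommRingCat.of Γ(X, (X.affineBasicOpen f.1).1))
    haveI := hfull
    haveI := hfaith
    have iso3 := (DCoh.tildeD (CommRingCat.of Γ(X, (X.affineBasicOpen f.1).1))).preimageIso iso2
    exact HomBC.isDualizing_of_iso iso3.symm hωf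
  exact ⟨ωU, isDualizing_of_finset_cover s hs ωU C ΩB hloc hdual, ⟨eU.symm⟩⟩

end Groth.Agent.Lib.Helper18.DSch
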