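import Mathlib
import Groth.Agent.Lib.Helper18.DSchP

/-!
# Dualizing complexes on schemes are affine-local, III: the main statement (helper18)
-/

set_option autoImplicit false
set_option linter.style.haveILetI false
universe u
open CategoryTheory CategoryTheory.Limits AlgebraicGeometry AlgebraicGeometry.Scheme.Modules
  TopologicalSpace Opposite

attribute [local instance] HasDerivedCategory.standard

noncomputable section

namespace Groth.Agent.Lib.Helper18.DSch

variable {X : Scheme.{u}}
  [∀ (U V : Scheme.{u}) (j : U ⟶ V) [IsOpenImmersion j],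
    PreservesFiniteLimits (Scheme.Modules.restrictFunctor j)]
  [∀ (R : CommRingCat.{u}), PreservesFiniteLimits (tilde.functor R)]

omit [∀ (U V : Scheme.{u}) (j : U ⟶ V) [IsOpenImmersion j],
    PreservesFiniteLimits (Scheme.Modules.restrictFunctor j)]
  [∀ (R : CommRingCat.{u}), PreservesFiniteLimits (tilde.functor R)] in
lemma range_chartMap (U : X.affineOpens) : Set.range (chartMap U) = (U.1 : Set X) :=
  U.2.range_fromSpec

/-- **S3662**: a complex which is the tilde of a dualizing complex on the members of an affine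
open cover is a dualizing complex -/
theorem isDualizingSch_of_charts [IsLocallyNoetherian X] (K : DCoh.D X) (ι : Type u)
    (A : ι → Type u) [∀ i, CommRing (A i)] (j : ∀ i, Spec (CommRingCat.of (A i)) ⟶ X)
    [∀ i, IsOpenImmersion (j i)] (hcov : ∀ x : X, ∃ i, x ∈ Set.range (j i))
    (hK : ∀ i, ∃ ω : Dual.D (A i), Dual.IsDualizing (A i) ω ∧
      Nonempty ((DCoh.restrictD (j i)).obj K ≅ (DCoh.tildeD (CommRingCat.of (A i))).obj ω)) :
    Dual2.IsDualizingSch X K := by
  intro B _ jB _
  have hq : DCoh.IsQCohD K :=
    isQCohD_of_charts K ι A j hcov (fun i => (hK i).imp (fun ω h => h.2))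
  let Ui : ι → X.affineOpens := fun i => ⟨(j i).opensRange, isAffineOpen_opensRange (j i)⟩
  have hUi : ∀ i, ChartP K (Ui i) := fun i =>
    chart_transport K (j i) (chartMap (Ui i)) (by rw [range_chartMap]; rfl) (hK i)
  have hsup : (⨆ i, (Ui i : X.Opens)) = ⊤ := by
    rw [eq_top_iff]
    intro x _
    obtain ⟨i, hi⟩ := hcov x
    exact Opens.mem_iSup.mpr ⟨i, hi⟩
  let V : X.affineOpens := ⟨jB.opensRange, isAffineOpen_opensRange jB⟩
  have hV : ChartP K V :=
    of_affine_open_cover (P := ChartP K) Ui hsup V (chartP_basicOpen K)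
      (chartP_of_cover K hq) hUi
  exact chart_transport K (chartMap V) jB (by rw [range_chartMap]; rfl) hV

end Groth.Agent.Lib.Helper18.DSch
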