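import Mathlib
import Groth.Agent.Lib.Helper18.DSchD
import Groth.Agent.Lib.Helper18.GfC

/-!
# Ring-level input for "Gorenstein iff the dualizing complex is invertible" (helper18)
-/

set_option autoImplicit false
set_option linter.style.haveILetI false
universe u
open CategoryTheory CategoryTheory.Limits CategoryTheory.Pretriangulated DerivedCategory
open TensorProduct

attribute [local instance] HasDerivedCategory.standard

namespace Groth.Agent.Lib.Helper18.DR

namespace DSchR

open HomLoc HomBC MaxCrit Uniq Norm Dim ExtDim CMLoc FdG GorLoc Gf DSchD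

variable {A : Type u} [CommRing A] [IsNoetherianRing A]

/-- at a Gorenstein point, a dualizing complex is a shift of the ring on a principal open
neighbourhood -/
theorem exists_away_iso_of_gorenstein_at (ω : Dual.D A) (hω : Dual.IsDualizing A ω)
    (y : PrimeSpectrum A)
    (hG : LocCoh.IsGorensteinLocalRing (Localization.AtPrime y.asIdeal)) :
    ∃ f : A, f ∉ y.asIdeal ∧ ∃ n : ℤ,
      Nonempty ((extD A (Localization.Away f)).obj ω ≅
        (Dual.inD (Localization.Away f) (Localization.Away f))⟦n⟧) := by
  have hB := (Groth.Agent.S11179.result (Localization.AtPrime y.asIdeal)).1 hG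
  obtain ⟨n, ⟨e⟩⟩ := exists_shift_iso (Dual.inD (Localization.AtPrime y.asIdeal)
    (Localization.AtPrime y.asIdeal)) (locAt ω y) hB (isDualizing_locAt ω hω y)
  have hz : ∀ i : ℤ, i ≠ -n →
      IsZero ((H (Localization.AtPrime y.asIdeal) i).obj (locAt ω y)) := by
    intro i hi
    have h1 : IsZero ((H (Localization.AtPrime y.asIdeal) (n + i)).obj
        (Dual.inD (Localization.AtPrime y.asIdeal) (Localization.AtPrime y.asIdeal))) := by
      rcases lt_or_gt_of_ne (show n + i ≠ 0 by omega) with h | h
      · exact isZero_of_isGE _ 0 _ h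
      · exact isZero_of_isLE _ 0 _ h
    exact (h1.of_iso ((HShiftIso (Localization.AtPrime y.asIdeal) n i (n + i) rfl).app _)).of_iso
      ((H (Localization.AtPrime y.asIdeal) i).mapIso e)
  have hf : Nonempty ((H (Localization.AtPrime y.asIdeal) (-n)).obj (locAt ω y) ≅
      ModuleCat.of (Localization.AtPrime y.asIdeal) (Localization.AtPrime y.asIdeal)) :=
    ⟨(H (Localization.AtPrime y.asIdeal) (-n)).mapIso e ≪≫
      (HShiftIso (Localization.AtPrime y.asIdeal) n (-n) 0 (by omega)).app _ ≪≫
      HSg 0 (ModuleCat.of (Localization.AtPrime y.asIdeal) (Localization.AtPrime y.asIdeal))⟩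
  obtain ⟨a, b, hab⟩ := hω.finite_injective_dimension
  have hfid : FidIn ω a b := hab
  haveI := hfid.isGE
  haveI := hfid.isLE
  obtain ⟨f, hfy, hiso⟩ := exists_away_iso_shift ω a b hω.finite_cohomology y (-n) hz hf
  exact ⟨f, hfy, - -n, hiso⟩

/-- if a shift of `A[0]` is dualizing then all local rings of `A` are Gorenstein -/
theorem gorenstein_of_isDualizing_shift_self (n : ℤ)
    (h : Dual.IsDualizing A ((Dual.inD A A)⟦n⟧)) (y : PrimeSpectrum A) :
    LocCoh.IsGorensteinLocalRing (Localization.AtPrime y.asIdeal) := by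
  have h0 : Dual.IsDualizing A (Dual.inD A A) :=
    isDualizing_of_iso ((shiftFunctorCompIsoId (Dual.D A) n (-n) (by omega)).app _)
      (InvTwist.isDualizing_shift _ h (-n))
  have h1 := isDualizing_locAt _ h0 y
  exact (Groth.Agent.S11179.result (Localization.AtPrime y.asIdeal)).2
    (isDualizing_of_iso (locAtSelfIso y) h1)

end DSchR

end Groth.Agent.Lib.Helper18.DR
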