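import Mathlib
import Groth.Agent.Lib.Helper18.DSchQ
import Groth.Agent.Lib.Helper18.DSchR
import Groth.Agent.Lib.Helper18.DSchE

/-!
# A locally Noetherian scheme with a dualizing complex `K` is Gorenstein iff `K` is invertible
(helper18)
-/

set_option autoImplicit false
set_option linter.style.haveILetI false
universe u
open CategoryTheory CategoryTheory.Limits AlgebraicGeometry AlgebraicGeometry.Scheme.Modules
  TopologicalSpace Opposite

attribute [local instance] HasDerivedCategory.standard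

noncomputable section

namespace Groth.Agent.Lib.Helper18.DSch

open Groth.Agent.Lib.Helper18.DR Groth.Agent.Lib.Helper18.DR.Shr Groth.Agent.Lib.Helper18.DR.HomLoc
  Groth.Agent.Lib.Helper2.TExactIso Groth.Agent.Lib.Helper3

variable {X : Scheme.{u}}
  [∀ (U V : Scheme.{u}) (j : U ⟶ V) [IsOpenImmersion j],
    PreservesFiniteLimits (Scheme.Modules.restrictFunctor j)]
  [∀ (R : CommRingCat.{u}), PreservesFiniteLimits (tilde.functor R)]

/-- restriction of a shift of the structure sheaf -/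
def restrictDShiftUnitIso {U Y : Scheme.{u}} (l : U ⟶ Y) [IsOpenImmersion l] (n : ℤ) :
    (DCoh.restrictD l).obj ((DCoh.inD Y (Coh.structureModule Y))⟦n⟧) ≅
      (DCoh.inD U (Coh.structureModule U))⟦n⟧ :=
  ((DCoh.restrictD l).commShiftIso n).app _ ≪≫
    (shiftFunctor (DCoh.D U) n).mapIso (restrictDUnitIso' l)

/-- the tilde of a shift of the ring -/
def tildeDShiftUnitIso (R : CommRingCat.{u}) (n : ℤ) :
    (DCoh.tildeD R).obj (((DerivedCategory.singleFunctor (ModuleCat.{u} R) 0).obj
      (ModuleCat.of R R))⟦n⟧) ≅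
      (DCoh.inD (Spec (CommRingCat.of R)) (Coh.structureModule (Spec (CommRingCat.of R))))⟦n⟧ :=
  ((DCoh.tildeD R).commShiftIso n).app _ ≪≫
    (shiftFunctor (DCoh.D (Spec (CommRingCat.of R))) n).mapIso (tildeDUnitIso R)

/-- a Gorenstein scheme has invertible dualizing complexes -/
theorem isInvertibleD_of_isGorenstein (K : DCoh.D X) (hK : Dual2.IsDualizingSch X K)
    (hX : Dual3.IsGorenstein X) : Dual3.IsInvertibleD K := by
  intro x
  obtain ⟨_, ⟨W, hW, rfl⟩, hxW, -⟩ :=
    X.isBasis_affineOpens.exists_subset_of_mem_open (Set.mem_univ x) isOpen_univ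
  let W' : X.affineOpens := ⟨W, hW⟩
  obtain ⟨y, rfl⟩ := exists_prime_of_mem W' x hxW
  obtain ⟨ω, hω, ⟨e⟩⟩ := hK Γ(X, W) (chartMap W')
  haveI := hω.isNoetherianRing
  have hG : LocCoh.IsGorensteinLocalRing (Localization.AtPrime y.asIdeal) :=
    (gor_stalk_iff W' y).1 (hX.2 _)
  obtain ⟨f, hfy, n, ⟨iso⟩⟩ := DSchR.exists_away_iso_of_gorenstein_at ω hω y hG
  haveI : Module.Flat Γ(X, W) (Localization.Away f) :=
    IsLocalization.flat _ (Submonoid.powers f)
  haveI : IsOpenImmersion
      (Spec.map (CommRingCat.ofHom (algebraMap Γ(X, W) (Localization.Away f)))) :=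
    IsOpenImmersion.of_isLocalization f
  let j' : Spec (CommRingCat.of (Localization.Away f)) ⟶ X :=
    Spec.map (CommRingCat.ofHom (algebraMap Γ(X, W) (Localization.Away f))) ≫ chartMap W'
  have isoK : (DCoh.restrictD j').obj K ≅
      (DCoh.inD (Spec (CommRingCat.of (Localization.Away f)))
        (Coh.structureModule (Spec (CommRingCat.of (Localization.Away f)))))⟦n⟧ :=
    chartRestrictIso K Γ(X, W) (Localization.Away f) (chartMap W') ω e j' rfl ≪≫
      (DCoh.tildeD (CommRingCat.of (Localization.Away f))).mapIso iso ≪≫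
      tildeDShiftUnitIso (CommRingCat.of (Localization.Away f)) n
  let U : X.Opens := j'.opensRange
  let l : (U : Scheme.{u}) ⟶ Spec (CommRingCat.of (Localization.Away f)) :=
    IsOpenImmersion.lift j' U.ι (by simp [U])
  have hl : l ≫ j' = U.ι := IsOpenImmersion.lift_fac _ _ _
  haveI : IsOpenImmersion l := IsOpenImmersion.of_comp l j'
  refine ⟨U, n, ?_, ⟨?_⟩⟩
  · -- the point lies in `U`
    have hy : y ∈ Set.range (PrimeSpectrum.comap (algebraMap Γ(X, W) (Localization.Away f))) := by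
      rw [PrimeSpectrum.localization_away_comap_range (Localization.Away f) f]
      exact hfy
    obtain ⟨y', hy'⟩ := hy
    exact ⟨y', by
      change (chartMap W') ((Spec.map (CommRingCat.ofHom
        (algebraMap Γ(X, W) (Localization.Away f)))) y') = _
      congr 1⟩
  · exact (restrictDCongr hl.symm).app K ≪≫ (restrictDComp l j').app K ≪≫
      (DCoh.restrictD l).mapIso isoK ≪≫ restrictDShiftUnitIso l n

/-- a locally Noetherian scheme with an invertible dualizing complex is Gorenstein -/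
theorem isGorenstein_of_isInvertibleD [IsLocallyNoetherian X] (K : DCoh.D X)
    (hK : Dual2.IsDualizingSch X K) (hInv : Dual3.IsInvertibleD K) : Dual3.IsGorenstein X := by
  refine ⟨inferInstance, fun x => ?_⟩
  obtain ⟨U, n, hxU, ⟨e⟩⟩ := hInv x
  obtain ⟨W, hW, hxW, hWU⟩ := Opens.isBasis_iff_nbhd.mp X.isBasis_affineOpens hxU
  let W' : X.affineOpens := ⟨W, hW⟩
  obtain ⟨y, rfl⟩ := exists_prime_of_mem W' x hxW
  obtain ⟨ω, hω, ⟨eW⟩⟩ := hK Γ(X, W) (chartMap W')
  haveI := hω.isNoetherianRing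
  let l : Spec (CommRingCat.of Γ(X, W)) ⟶ (U : Scheme.{u}) :=
    IsOpenImmersion.lift U.ι (chartMap W') (by
      rw [range_chartMap, Scheme.Opens.range_ι]
      exact hWU)
  have hl : l ≫ U.ι = chartMap W' := IsOpenImmersion.lift_fac _ _ _
  haveI : IsOpenImmersion l := IsOpenImmersion.of_comp l U.ι
  have iso1 : (DCoh.restrictD (chartMap W')).obj K ≅
      (DCoh.tildeD (CommRingCat.of Γ(X, W))).obj ((Dual.inD Γ(X, W) Γ(X, W))⟦n⟧) :=
    (restrictDCongr hl.symm).app K ≪≫ (restrictDComp l U.ι).app K ≪≫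
      (DCoh.restrictD l).mapIso e ≪≫ restrictDShiftUnitIso l n ≪≫
      (tildeDShiftUnitIso (CommRingCat.of Γ(X, W)) n).symm
  have iso2 := eW.symm ≪≫ iso1
  obtain ⟨hfull, hfaith, -⟩ := Groth.Agent.Lib.Helper2.Aff.tildeD_fullyFaithful_essImage
    (CommRingCat.of Γ(X, W))
  haveI := hfull
  haveI := hfaith
  have iso3 := (DCoh.tildeD (CommRingCat.of Γ(X, W))).preimageIso iso2
  have hd : Dual.IsDualizing Γ(X, W) ((Dual.inD Γ(X, W) Γ(X, W))⟦n⟧) :=
    HomBC.isDualizing_of_iso iso3 hω
  exact (gor_stalk_iff W' y).2 (DSchR.gorenstein_of_isDualizing_shift_self n hd y)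

end Groth.Agent.Lib.Helper18.DSch
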