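import Mathlib
import Groth.Agent.Lib.Helper18.DSchQ
import Groth.Agent.Lib.Helper18.FlatGorD
import Groth.Agent.Lib.Helper2.Stk.TildeBC
import Groth.Agent.Lib.Helper2.Stk.LpullOpen
import Groth.Agent.Lib.Helper22.CIMorSynt
import Groth.Agent.Lib.Helper18.OmLBC

/-!
# Derived pullback of a dualizing complex along a flat Gorenstein morphism of finite type
(helper18)
-/

set_option autoImplicit false
set_option linter.style.haveILetI false
universe u
open CategoryTheory CategoryTheory.Limits AlgebraicGeometry AlgebraicGeometry.Scheme.Modules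
  TopologicalSpace Opposite

attribute [local instance] HasDerivedCategory.standard

noncomputable section

namespace Groth.Agent.Lib.Helper18.DR

namespace FlatGor

open HomLoc HomBC Bid MaxCrit Norm Uniq Dim TensorProduct

/-- flat base change of a dualizing complex along a flat map of finite type with Gorenstein fibre
local rings -/
theorem isDualizing_extD_of_finiteType {A B : Type u} [CommRing A] [CommRing B] [Algebra A B]
    [Module.Flat A B] [Algebra.FiniteType A B] (ω : Dual.D A) (hω : Dual.IsDualizing A ω)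
    (hfib : ∀ q : PrimeSpectrum B, LocCoh.IsGorensteinLocalRing (EGA4.FibLocRing A B q.asIdeal)) :
    Dual.IsDualizing B ((extD A B).obj ω) := by
  haveI := hω.isNoetherianRing
  haveI : IsNoetherianRing B := Algebra.FiniteType.isNoetherianRing A B
  obtain ⟨ωB, hωB⟩ := exists_isDualizing_of_finiteType ω hω B inferInstance
  exact isDualizing_extD_of_gorenstein_fibres (ringKrullDim_lt_top_of_dualizing ωB hωB) ω hω hfib

end FlatGor

end Groth.Agent.Lib.Helper18.DR

namespace Groth.Agent.Lib.Helper18.DSch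

open Groth.Agent.Lib.Helper18.DR Groth.Agent.Lib.Helper18.DR.Shr Groth.Agent.Lib.Helper18.DR.HomLoc
  Groth.Agent.Lib.Helper2.TExactIso Groth.Agent.Lib.Helper3 Groth.Agent.Lib.Helper2.Stk

variable {X Y : Scheme.{u}}
  [∀ (U V : Scheme.{u}) (j : U ⟶ V) [IsOpenImmersion j],
    PreservesFiniteLimits (Scheme.Modules.restrictFunctor j)]
  [∀ (R : CommRingCat.{u}), PreservesFiniteLimits (tilde.functor R)]

/-- the chart of `Lf^* K` over an affine open of `X` mapping into an affine open of `Y` -/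
theorem nonempty_chart_Lpull (f : X ⟶ Y) [DCoh.HasLpull f] (K : DCoh.D Y)
    (U : X.affineOpens) (V : Y.affineOpens) (e : U.1 ≤ f ⁻¹ᵁ V.1) (ω : Dual.D Γ(Y, V.1))
    (eV : (DCoh.restrictD (chartMap V)).obj K ≅
      (DCoh.tildeD (CommRingCat.of Γ(Y, V.1))).obj ω) :
    letI := (f.appLE V.1 U.1 e).hom.toAlgebra
    ∀ [Module.Flat Γ(Y, V.1) Γ(X, U.1)],
    Nonempty ((DCoh.restrictD (chartMap U)).obj ((DCoh.Lpull f).obj K) ≅
      (DCoh.tildeD (CommRingCat.of Γ(X, U.1))).obj ((extD Γ(Y, V.1) Γ(X, U.1)).obj ω)) := by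
  letI alg := (f.appLE V.1 U.1 e).hom.toAlgebra
  intro hflat
  let φ : Γ(Y, V.1) →+* Γ(X, U.1) := algebraMap Γ(Y, V.1) Γ(X, U.1)
  have hsq : Spec.map (CommRingCat.ofHom φ) ≫ chartMap V = chartMap U ≫ f :=
    IsAffineOpen.SpecMap_appLE_fromSpec f V.2 U.2 e
  haveI : DCoh.HasLpull (chartMap U) := hasLpull _
  haveI : DCoh.HasLpull (chartMap V) := hasLpull _
  haveI : DCoh.HasLpull (chartMap U ≫ f) := hasLpull _
  haveI : DCoh.HasLpull (Spec.map (CommRingCat.ofHom φ)) := hasLpull _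
  haveI : DCoh.HasLpull (Spec.map (CommRingCat.ofHom φ) ≫ chartMap V) := hasLpull _
  haveI : DRing.HasLBaseChange φ := Om.hasLBaseChange φ
  obtain ⟨s1⟩ := nonempty_Lpull_openImmersion_iso (chartMap U) ((DCoh.Lpull f).obj K)
  have s2 := (LpullComp (chartMap U) f).app K
  obtain ⟨s3⟩ := nonempty_Lpull_congr hsq.symm K
  have s4 := (LpullComp (Spec.map (CommRingCat.ofHom φ)) (chartMap V)).symm.app K
  obtain ⟨s5⟩ := nonempty_Lpull_openImmersion_iso (chartMap V) K
  have s7 := (tildeLBaseChangeIso φ).symm.app ω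
  obtain ⟨s8⟩ := HomBC.nonempty_LBaseChange_iso_extD (A := Γ(Y, V.1)) (B := Γ(X, U.1)) ω
  exact ⟨s1.symm ≪≫ s2 ≪≫ s3 ≪≫ s4 ≪≫
    (DCoh.Lpull (Spec.map (CommRingCat.ofHom φ))).mapIso (s5 ≪≫ eV) ≪≫ s7 ≪≫
    (DCoh.tildeD (CommRingCat.of Γ(X, U.1))).mapIso s8⟩

/-- **S11144**: `Lf^*` of a dualizing complex along a flat Gorenstein morphism locally of finite
type is a dualizing complex -/
theorem isDualizingSch_Lpull [IsLocallyNoetherian X] (f : X ⟶ Y) [Flat f]
    [LocallyOfFiniteType f] (hf : Dual3.IsGorensteinMor f) [DCoh.HasLpull f] (K : DCoh.D Y)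
    (hK : Dual2.IsDualizingSch Y K) : Dual2.IsDualizingSch X ((DCoh.Lpull f).obj K) := by
  let ι : Type u := {p : X.affineOpens × Y.affineOpens // p.1.1 ≤ f ⁻¹ᵁ p.2.1}
  refine isDualizingSch_of_charts ((DCoh.Lpull f).obj K) ι (fun i => Γ(X, i.1.1.1))
    (fun i => chartMap i.1.1) ?_ ?_
  · intro x
    obtain ⟨_, ⟨V, hV, rfl⟩, hxV, -⟩ :=
      Y.isBasis_affineOpens.exists_subset_of_mem_open (Set.mem_univ (f x)) isOpen_univ
    have hxV' : x ∈ f ⁻¹ᵁ V := hxV
    obtain ⟨U, hU, hxU, hUV⟩ := Opens.isBasis_iff_nbhd.mp X.isBasis_affineOpens hxV'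
    refine ⟨⟨(⟨U, hU⟩, ⟨V, hV⟩), hUV⟩, ?_⟩
    rw [range_chartMap]
    exact hxU
  · rintro ⟨⟨U, V⟩, e⟩
    obtain ⟨ω, hω, ⟨eV⟩⟩ := hK Γ(Y, V.1) (chartMap V)
    letI alg : Algebra Γ(Y, V.1) Γ(X, U.1) := (f.appLE V.1 U.1 e).hom.toAlgebra
    haveI hflat : Module.Flat Γ(Y, V.1) Γ(X, U.1) :=
      HasRingHomProperty.appLE @Flat f ‹Flat f› V U e
    haveI hft : Algebra.FiniteType Γ(Y, V.1) Γ(X, U.1) :=
      HasRingHomProperty.appLE @LocallyOfFiniteType f ‹LocallyOfFiniteType f› V U e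
    have hfib : ∀ q : PrimeSpectrum Γ(X, U.1),
        LocCoh.IsGorensteinLocalRing (EGA4.FibLocRing Γ(Y, V.1) Γ(X, U.1) q.asIdeal) := by
      intro q
      obtain ⟨x, rfl⟩ := Groth.Agent.Lib.Helper22.CIMorSynt.exists_primeIdealOf_eq U.2 q
      obtain ⟨eq⟩ := Groth.Agent.Lib.Helper22.CIMorSynt.nonempty_fiberStalk_equiv f x.1 U.2 V.2 e x.2
      exact Groth.Agent.Lib.Helper4.GorFlat.gor_of_ringEquiv eq (hf x.1).2
    exact ⟨(extD Γ(Y, V.1) Γ(X, U.1)).obj ω, FlatGor.isDualizing_extD_of_finiteType ω hω hfib,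
      nonempty_chart_Lpull f K U V e ω eV⟩

end Groth.Agent.Lib.Helper18.DSch
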