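import Mathlib
import Groth.Agent.Lib.Helper18.DSchT
import Groth.Agent.Lib.Helper18.BCHom6

/-!
# Faithfully flat descent of dualizing complexes along a surjective flat morphism of finite type
(helper18)
-/

set_option autoImplicit false
set_option linter.style.haveILetI false
universe u
open CategoryTheory CategoryTheory.Limits AlgebraicGeometry AlgebraicGeometry.Scheme.Modules
  TopologicalSpace Opposite

attribute [local instance] HasDerivedCategory.standard

noncomputable section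

namespace Groth.Agent.Lib.Helper18.DSch

open Groth.Agent.Lib.Helper18.DR Groth.Agent.Lib.Helper18.DR.Shr Groth.Agent.Lib.Helper18.DR.HomLoc
  Groth.Agent.Lib.Helper2.TExactIso Groth.Agent.Lib.Helper3 Groth.Agent.Lib.Helper2.Stk

variable {X Y : Scheme.{u}}

/-- the ring map of a pair of affine opens `U → W` which is surjective on points is surjective on
prime spectra -/
theorem comap_appLE_surjective (f : X ⟶ Y) (U : X.affineOpens) (W : Y.affineOpens)
    (e : U.1 ≤ f ⁻¹ᵁ W.1) (hs : ∀ w ∈ W.1, ∃ u ∈ U.1, f u = w) :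
    Function.Surjective (PrimeSpectrum.comap (f.appLE W.1 U.1 e).hom) := by
  intro p
  obtain ⟨w, rfl⟩ := Groth.Agent.Lib.Helper22.CIMorSynt.exists_primeIdealOf_eq W.2 p
  obtain ⟨u, hu, huw⟩ := hs w.1 w.2
  refine ⟨U.2.primeIdealOf ⟨u, hu⟩, ?_⟩
  rw [IsAffineOpen.comap_primeIdealOf_appLE W.1 W.2 U.1 U.2 e hu]
  congr 1
  exact Subtype.ext huw

/-- a flat surjective morphism locally of finite type to a locally Noetherian scheme: the affine
opens of `Y` which are images of affine opens of `X` (mapping into them) cover `Y` -/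
theorem exists_affine_pair_of_flat_surjective [IsLocallyNoetherian Y] (f : X ⟶ Y) [Flat f]
    [Surjective f] [LocallyOfFiniteType f] (y : Y) :
    ∃ (W : Y.affineOpens) (U : X.affineOpens) (e : U.1 ≤ f ⁻¹ᵁ W.1),
      y ∈ W.1 ∧ ∀ w ∈ W.1, ∃ u ∈ U.1, f u = w := by
  haveI : LocallyOfFinitePresentation f :=
    LocallyOfFinitePresentation.iff_locallyOfFiniteType.mpr inferInstance
  obtain ⟨x, rfl⟩ := f.surjective y
  obtain ⟨_, ⟨V, hV, rfl⟩, hxV, -⟩ :=
    Y.isBasis_affineOpens.exists_subset_of_mem_open (Set.mem_univ (f x)) isOpen_univ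
  have hxV' : x ∈ f ⁻¹ᵁ V := hxV
  obtain ⟨U₀, hU₀, hxU₀, hU₀V⟩ := Opens.isBasis_iff_nbhd.mp X.isBasis_affineOpens hxV'
  let O : Y.Opens := ⟨f '' (U₀ : Set X), f.isOpenMap _ U₀.isOpen⟩
  have hyO : f x ∈ O := ⟨x, hxU₀, rfl⟩
  obtain ⟨g, hgO, hyg⟩ := hV.exists_basicOpen_le (V := O) ⟨f x, hyO⟩ hxV
  refine ⟨Y.affineBasicOpen (U := ⟨V, hV⟩) g, X.affineBasicOpen (U := ⟨U₀, hU₀⟩)
    (f.appLE V U₀ hU₀V g), ?_, hyg, ?_⟩
  · change X.basicOpen (f.appLE V U₀ hU₀V g) ≤ f ⁻¹ᵁ (Y.basicOpen g)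
    rw [Scheme.basicOpen_appLE]
    exact inf_le_right
  · intro w hw
    obtain ⟨u, hu, rfl⟩ := hgO hw
    refine ⟨u, ?_, rfl⟩
    change u ∈ X.basicOpen (f.appLE V U₀ hU₀V g)
    rw [Scheme.basicOpen_appLE]
    exact ⟨hu, hw⟩

variable
  [∀ (U V : Scheme.{u}) (j : U ⟶ V) [IsOpenImmersion j],
    PreservesFiniteLimits (Scheme.Modules.restrictFunctor j)]
  [∀ (R : CommRingCat.{u}), PreservesFiniteLimits (tilde.functor R)]

/-- **S3628, descent direction**: if `Lf^* K` is dualizing for a flat surjective morphism locally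
of finite type and `K` has quasi-coherent cohomology, then `K` is dualizing. -/
theorem isDualizingSch_of_Lpull [IsLocallyNoetherian X] [IsLocallyNoetherian Y] (f : X ⟶ Y)
    [Flat f] [Surjective f] [LocallyOfFiniteType f] [DCoh.HasLpull f] (K : DCoh.D Y)
    (hq : DCoh.IsQCohD K) (hL : Dual2.IsDualizingSch X ((DCoh.Lpull f).obj K)) :
    Dual2.IsDualizingSch Y K := by
  let ι : Type u := {W : Y.affineOpens // ∃ (U : X.affineOpens) (e : U.1 ≤ f ⁻¹ᵁ W.1),
    ∀ w ∈ W.1, ∃ u ∈ U.1, f u = w}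
  refine isDualizingSch_of_charts K ι (fun i => Γ(Y, i.1.1)) (fun i => chartMap i.1) ?_ ?_
  · intro y
    obtain ⟨W, U, e, hy, hs⟩ := exists_affine_pair_of_flat_surjective f y
    refine ⟨⟨W, U, e, hs⟩, ?_⟩
    rw [range_chartMap]
    exact hy
  · rintro ⟨W, U, e, hs⟩
    -- the chart of K over W
    have hqW := isQCohD_restrictD (chartMap W) K hq
    obtain ⟨hfull, hfaith, hess⟩ :=
      Groth.Agent.Lib.Helper2.Aff.tildeD_fullyFaithful_essImage (CommRingCat.of Γ(Y, W.1))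
    obtain ⟨ω, ⟨eW⟩⟩ := (hess _).mp hqW
    refine ⟨ω, ?_, ⟨eW.symm⟩⟩
    letI alg : Algebra Γ(Y, W.1) Γ(X, U.1) := (f.appLE W.1 U.1 e).hom.toAlgebra
    haveI hflat : Module.Flat Γ(Y, W.1) Γ(X, U.1) :=
      HasRingHomProperty.appLE @Flat f ‹Flat f› W U e
    haveI hff : Module.FaithfullyFlat Γ(Y, W.1) Γ(X, U.1) :=
      Module.FaithfullyFlat.of_comap_surjective (comap_appLE_surjective f U W e hs)
    haveI : IsNoetherianRing Γ(Y, W.1) := IsLocallyNoetherian.component_noetherian W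
    obtain ⟨c⟩ := nonempty_chart_Lpull f K U W e ω eW.symm
    obtain ⟨ω', hω', ⟨e'⟩⟩ := hL Γ(X, U.1) (chartMap U)
    obtain ⟨hfull', hfaith', -⟩ :=
      Groth.Agent.Lib.Helper2.Aff.tildeD_fullyFaithful_essImage (CommRingCat.of Γ(X, U.1))
    have eω : (extD Γ(Y, W.1) Γ(X, U.1)).obj ω ≅ ω' :=
      (DCoh.tildeD (CommRingCat.of Γ(X, U.1))).preimageIso (c.symm ≪≫ e')
    have hext : Dual.IsDualizing Γ(X, U.1) ((extD Γ(Y, W.1) Γ(X, U.1)).obj ω) :=
      HomBC.isDualizing_of_iso eω.symm hω'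
    exact HomBC.isDualizing_of_extD ω hext

end Groth.Agent.Lib.Helper18.DSch
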