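import Mathlib
import Groth.Agent.Lib.Helper18.DSchU
import Groth.Agent.Lib.Helper18.FlatGorD
import Groth.Agent.Lib.Helper4.GorLCI

/-!
# Dualizing complexes and flat local complete intersection morphisms (helper18)
-/

set_option autoImplicit false
set_option linter.style.haveILetI false
universe u
open CategoryTheory CategoryTheory.Limits AlgebraicGeometry AlgebraicGeometry.Scheme.Modules
  TopologicalSpace Opposite

attribute [local instance] HasDerivedCategory.standard

noncomputable section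

namespace Groth.Agent.Lib.Helper18.DSch

open Groth.Agent.Lib.Helper18.DR Groth.Agent.Lib.Helper18.DR.Shr Groth.Agent.Lib.Helper18.DR.HomLoc
  Groth.Agent.Lib.Helper2.TExactIso Groth.Agent.Lib.Helper3 Groth.Agent.Lib.Helper2.Stk

variable {X Y : Scheme.{u}}

/-- an lci morphism (affine-local ring-map form) is locally of finite type -/
theorem locallyOfFiniteType_of_isLCIMor (f : X ⟶ Y) (hf : Dual3.IsLCIMor f) :
    LocallyOfFiniteType f := by
  rw [HasRingHomProperty.iff_exists_appLE (P := @LocallyOfFiniteType)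
    (RingHom.finiteType_stableUnderComposition.stableUnderCompositionWithLocalizationAway
      RingHom.finiteType_holdsForLocalizationAway).left]
  intro x
  obtain ⟨U, V, e, hx, hl⟩ := hf x
  exact ⟨V, U, hx, e, hl.1⟩

variable
  [∀ (U V : Scheme.{u}) (j : U ⟶ V) [IsOpenImmersion j],
    PreservesFiniteLimits (Scheme.Modules.restrictFunctor j)]
  [∀ (R : CommRingCat.{u}), PreservesFiniteLimits (tilde.functor R)]

/-- `Lf^*` of a dualizing complex along a flat lci morphism is a dualizing complex -/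
theorem isDualizingSch_Lpull_of_lci [IsLocallyNoetherian X] (f : X ⟶ Y) [Flat f]
    (hf : Dual3.IsLCIMor f) [DCoh.HasLpull f] (K : DCoh.D Y)
    (hK : Dual2.IsDualizingSch Y K) : Dual2.IsDualizingSch X ((DCoh.Lpull f).obj K) := by
  let ι : Type u := {p : X.affineOpens × Y.affineOpens // ∃ e : p.1.1 ≤ f ⁻¹ᵁ p.2.1,
    letI := (f.appLE p.2.1 p.1.1 e).hom.toAlgebra
    LCI.IsLCI Γ(Y, p.2.1) Γ(X, p.1.1)}
  refine isDualizingSch_of_charts ((DCoh.Lpull f).obj K) ι (fun i => Γ(X, i.1.1.1))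
    (fun i => chartMap i.1.1) ?_ ?_
  · intro x
    obtain ⟨U, V, e, hx, hl⟩ := hf x
    refine ⟨⟨(U, V), e, hl⟩, ?_⟩
    rw [range_chartMap]
    exact hx
  · rintro ⟨⟨U, V⟩, e, hl⟩
    obtain ⟨ω, hω, ⟨eV⟩⟩ := hK Γ(Y, V.1) (chartMap V)
    letI alg : Algebra Γ(Y, V.1) Γ(X, U.1) := (f.appLE V.1 U.1 e).hom.toAlgebra
    haveI hflat : Module.Flat Γ(Y, V.1) Γ(X, U.1) :=
      HasRingHomProperty.appLE @Flat f ‹Flat f› V U e
    obtain ⟨hft, n, φ, hφ, hker⟩ := hl
    haveI := hft
    haveI := hω.isNoetherianRing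
    haveI : IsNoetherianRing Γ(X, U.1) := IsLocallyNoetherian.component_noetherian U
    have hG : ∀ p : PrimeSpectrum Γ(Y, V.1),
        LocCoh.IsGorensteinRing (TensorProduct Γ(Y, V.1) Γ(X, U.1) p.asIdeal.ResidueField) :=
      fun p => Groth.Agent.Lib.Helper4.GorLCI.gorRing_tensor_of_flat_lci Γ(Y, V.1) n Γ(X, U.1) φ
        p.asIdeal.ResidueField hφ hker
    have hfib : ∀ q : PrimeSpectrum Γ(X, U.1),
        LocCoh.IsGorensteinLocalRing (EGA4.FibLocRing Γ(Y, V.1) Γ(X, U.1) q.asIdeal) :=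
      fun q => FlatGor.gor_fibLocRing_of_tensor_residueField hG q
    exact ⟨(extD Γ(Y, V.1) Γ(X, U.1)).obj ω, FlatGor.isDualizing_extD_of_finiteType ω hω hfib,
      nonempty_chart_Lpull f K U V e ω eV⟩

end Groth.Agent.Lib.Helper18.DSch
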