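import Mathlib
import Groth.Agent.Lib.Helper18.DSchQ
import Groth.Agent.Lib.Helper2.Stk.Tilde
import Groth.Agent.Lib.Helper2.Stk.Pull
import Groth.Agent.Lib.Helper2.Stk.Exact
import Groth.Agent.Lib.Lead.StalkInj

/-!
# The complex of stalks of an object of `D(O_X)` on an affine chart (helper18)
-/

set_option autoImplicit false
set_option linter.style.haveILetI false
universe u
open CategoryTheory CategoryTheory.Limits AlgebraicGeometry AlgebraicGeometry.Scheme.Modules
  TopologicalSpace Opposite

attribute [local instance] HasDerivedCategory.standard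

noncomputable section

namespace Groth.Agent.Lib.Helper18.DSch

open Groth.Agent.Lib.Helper2.Stk Groth.Agent.Lib.Helper18.DR Groth.Agent.Lib.Helper18.DR.Shr

section id

variable {X : Scheme.{u}}

/-- the stalk functor over the identity is the stalk functor -/
def stalkOverIdIso (x : X) : DerSch.stalkOver (𝟙 X) x ≅ Φ x :=
  Functor.isoWhiskerLeft (Φ x) (ModuleCat.restrictScalarsId' _
    (by rw [Scheme.Hom.stalkMap_id]; rfl)) ≪≫ Functor.rightUnitor _

end id

section chart

variable {X : Scheme.{u}} {A : Type u} [CommRing A]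
  (j : Spec (CommRingCat.of A) ⟶ X) [IsOpenImmersion j]
  (p : (Spec (CommRingCat.of A) : Scheme.{u}))

/-- the local ring of the chart at `p` -/
abbrev Bp : Type u := (Spec (CommRingCat.of A)).presheaf.stalk p

/-- the local ring of `X` at the image of `p` -/
abbrev Bx : Type u := X.presheaf.stalk (j.base p)

instance algBp : Algebra A (Bp p) := (ρst (CommRingCat.of A) p).toAlgebra

instance algBxBp : Algebra (Bx j p) (Bp p) := (φst j p).toAlgebra

lemma bijective_algebraMap_Bx : Function.Bijective (algebraMap (Bx j p) (Bp p)) := by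
  have : IsIso (j.stalkMap p) := inferInstance
  exact (ConcreteCategory.isIso_iff_bijective (j.stalkMap p)).1 this

instance flat_Bx_Bp : Module.Flat (Bx j p) (Bp p) := by
  haveI : IsLocalization (⊥ : Submonoid (Bx j p)) (Bp p) :=
    IsLocalization.of_le_isUnit_of_bijective (by
      rintro _ ⟨y, hy, rfl⟩
      have hy' : y = 1 := Submonoid.mem_bot.1 hy
      subst hy'
      rw [map_one]
      exact isUnit_one) (bijective_algebraMap_Bx j p)
  exact IsLocalization.flat (Bp p) (⊥ : Submonoid (Bx j p))

end chart

section chart2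

variable {X : Scheme.{u}} {A : Type u} [CommRing A]
  (j : Spec (CommRingCat.of A) ⟶ X) [IsOpenImmersion j]
  (p : (Spec (CommRingCat.of A) : Scheme.{u}))

lemma ρst_eq : ρst (CommRingCat.of A) p = (StructureSheaf.toStalk A p).hom := by
  rfl

instance isLocalization_Bp : IsLocalization.AtPrime (Bp p) (PrimeSpectrum.asIdeal p) := by
  have h := StructureSheaf.IsLocalization.to_stalk A p
  exact h

instance flat_A_Bp : Module.Flat A (Bp p) :=
  IsLocalization.flat (Bp p) (PrimeSpectrum.asIdeal p).primeCompl

variable [∀ (U V : Scheme.{u}) (j : U ⟶ V) [IsOpenImmersion j],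
    PreservesFiniteLimits (Scheme.Modules.restrictFunctor j)]
  [∀ (R : CommRingCat.{u}), PreservesFiniteLimits (tilde.functor R)]

/-- module level: the stalk of a restriction -/
def restrictStalkIso :
    restrictFunctor j ⋙ Φ p ≅ Φ (j.base p) ⋙ extM (A := Bx j p) (B := Bp p) :=
  Functor.isoWhiskerRight (restrictFunctorIsoPullback j) (Φ p) ≪≫ pullStalkIso j p

/-- module level: the stalk of a tilde -/
def tildeStalkIso' : tilde.functor (CommRingCat.of A) ⋙ Φ p ≅ extM (A := A) (B := Bp p) :=
  tildeStalkIso (CommRingCat.of A) p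

/-- the localization of a chart complex is the base change of the complex of stalks -/
def stalkChartIso (K : DCoh.D X) (M : Dual.D A)
    (e : (DCoh.restrictD j).obj K ≅ (DCoh.tildeD (CommRingCat.of A)).obj M) :
    (extD A (Bp p)).obj M ≅
      (extD (Bx j p) (Bp p)).obj ((Φ (j.base p)).mapDerivedCategory.obj K) :=
  (mapDCompIso (tildeStalkIso' p).symm).app M ≪≫
    (Φ p).mapDerivedCategory.mapIso e.symm ≪≫
    ((mapDCompIso (F := restrictFunctor j) (G := Φ p) (H := restrictFunctor j ⋙ Φ p)
      (Iso.refl _)).symm.app K) ≪≫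
    (mapDCompIso (restrictStalkIso j p)).app K

end chart2

section transport

open Groth.Agent.Lib.Helper18.DR.HomLoc

variable {B B' : Type u} [CommRing B] [CommRing B'] [Algebra B B']

/-- a dualizing complex transported along an isomorphism of rings -/
theorem isDualizing_extD_of_bijective [IsNoetherianRing B] [Module.Flat B B']
    (h : Function.Bijective (algebraMap B B')) (ω : Dual.D B) (hω : Dual.IsDualizing B ω)
    {a b : ℤ} (hfid : FidIn ω a b) :
    Dual.IsDualizing B' ((extD B B').obj ω) ∧ FidIn ((extD B B').obj ω) a b := by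
  haveI : IsLocalization (⊥ : Submonoid B) B' :=
    IsLocalization.of_le_isUnit_of_bijective (by
      rintro _ ⟨y, hy, rfl⟩
      have hy' : y = 1 := Submonoid.mem_bot.1 hy
      subst hy'
      rw [map_one]
      exact isUnit_one) h
  have hloc := Groth.Agent.Lib.Helper18.DR.Dim.isLocOf_extD (⊥ : Submonoid B) B' ω
  refine ⟨isDualizing_of_isLocOf _ hloc hω, ?_⟩
  obtain ⟨η, hη, -⟩ := hloc
  exact fidIn_of_sloc (⊥ : Submonoid B) hη hfid

end transport

section stalkcx

open Groth.Agent.Lib.Helper18.DR.HomLoc

variable {X : Scheme.{u}}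

/-- the complex of stalks over the identity -/
def stalkCxIso (I : CochainComplex X.Modules ℤ) (x : X) :
    (DerSch.stalkCxOver (𝟙 X) x).obj I ≅
      ((Φ x).mapHomologicalComplex (ComplexShape.up ℤ)).obj I :=
  letI i1 : (DerSch.stalkOver (𝟙 X) x).PreservesZeroMorphisms := inferInstance
  letI i2 : (Φ x).PreservesZeroMorphisms := inferInstance
  (@NatIso.mapHomologicalComplex ℤ X.Modules
    (ModuleCat.{u} (X.presheaf.stalk ((𝟙 X : X ⟶ X).base x))) _ _ _ _
    (DerSch.stalkOver (𝟙 X) x) (Φ x) i1 i2 (stalkOverIdIso x) (ComplexShape.up ℤ)).app I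

/-- the complex of stalks over the identity, in the derived category -/
def stalkCxOverIso (I : CochainComplex X.Modules ℤ) (x : X) :
    DRing.toD ((DerSch.stalkCxOver (𝟙 X) x).obj I) ≅
      (Φ x).mapDerivedCategory.obj (DCoh.toD X I) :=
  DerivedCategory.Q.mapIso (stalkCxIso I x) ≪≫
    ((Φ x).mapDerivedCategoryFactors.app I).symm

/-- the stalks of a bounded complex of injectives have uniformly bounded injective amplitude -/
theorem fidIn_stalk [IsLocallyNoetherian X] (I : CochainComplex X.Modules ℤ)
    (hIinj : ∀ i : ℤ, Injective (I.X i)) {a b : ℤ}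
    (hI : ∀ i : ℤ, (i < a ∨ b < i) → IsZero (I.X i)) (x : X) :
    FidIn ((Φ x).mapDerivedCategory.obj (DCoh.toD X I)) a b := by
  have h1 : DRing.HasInjAmplitudeIn (X.presheaf.stalk x) a b
      ((Φ x).mapDerivedCategory.obj (DCoh.toD X I)) := by
    refine ⟨((Φ x).mapHomologicalComplex (ComplexShape.up ℤ)).obj I, ?_, ?_,
      ⟨((Φ x).mapDerivedCategoryFactors.app I).symm⟩⟩
    · intro i hi
      haveI : (Φ x).PreservesZeroMorphisms := Functor.preservesZeroMorphisms_of_additive _
      exact (Φ x).map_isZero (hI i hi)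
    · intro i
      exact Groth.Agent.Lib.Lead.StalkInj.stalk_injective (I.X i) (hIinj i) x
  exact ((injAmp_tfae _ a b).out 0 1).1 h1

end stalkcx

end Groth.Agent.Lib.Helper18.DSch
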