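import Mathlib
import Groth.Agent.Lib.Helper18.DSchW
import Groth.Agent.Lib.Helper1.AffFormal
import Groth.Agent.Lib.Helper3.QCProps

/-!
# A complex with dualizing stalks and finite injective dimension is dualizing (helper18)
-/

set_option autoImplicit false
set_option linter.style.haveILetI false
universe u
open CategoryTheory CategoryTheory.Limits AlgebraicGeometry AlgebraicGeometry.Scheme.Modules
  TopologicalSpace Opposite

attribute [local instance] HasDerivedCategory.standard

noncomputable section

namespace Groth.Agent.Lib.Helper18.DSch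

open Groth.Agent.Lib.Helper2.Stk Groth.Agent.Lib.Helper18.DR Groth.Agent.Lib.Helper18.DR.Shr
  Groth.Agent.Lib.Helper18.DR.HomLoc Groth.Agent.Lib.Helper3

section fin

variable {X : Scheme.{u}}
  [∀ (U V : Scheme.{u}) (j : U ⟶ V) [IsOpenImmersion j],
    PreservesFiniteLimits (Scheme.Modules.restrictFunctor j)]
  [∀ (R : CommRingCat.{u}), PreservesFiniteLimits (tilde.functor R)]

/-- the cohomology modules of a chart complex of a complex with coherent cohomology are finite -/
theorem finite_HD_of_chart (K : DCoh.D X) {A : Type u} [CommRing A]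
    (j : Spec (CommRingCat.of A) ⟶ X) [IsOpenImmersion j] (M : Dual.D A)
    (e : (DCoh.restrictD j).obj K ≅ (DCoh.tildeD (CommRingCat.of A)).obj M) (i : ℤ)
    (hcoh : Coh.IsCoh (DCoh.HD K i)) : Module.Finite A (Dual.HD A M i) := by
  haveI : (DCoh.HD K i).IsQuasicoherent := hcoh.1
  haveI : (DCoh.HD K i).IsFiniteType := hcoh.2
  haveI : ((DCoh.HD K i).restrict j).IsFiniteType := QCProps.isFiniteType_restrict j (DCoh.HD K i)
  haveI : ((DCoh.HD K i).restrict j).IsQuasicoherent :=
    Scheme.Modules.isQuasicoherent_restrictFunctor j _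
  have h1 := QCTilde.finite_of_isFiniteType ((DCoh.HD K i).restrict j)
  let φ : (DCoh.HD K i).restrict j ≅ (tilde.functor (CommRingCat.of A)).obj ((H A i).obj M) :=
    restrictHDIso K (A := CommRingCat.of A) j M e i
  let ψ1 := (moduleSpecΓFunctor (R := CommRingCat.of A)).mapIso φ
  let ψ2 := (tilde.toTildeΓNatIso (R := CommRingCat.of A)).app ((H A i).obj M)
  have h2 : Module.Finite A
      ↑((moduleSpecΓFunctor (R := CommRingCat.of A)).obj ((DCoh.HD K i).restrict j)) := h1
  exact Module.Finite.equiv (ψ1 ≪≫ ψ2.symm).toLinearEquiv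

end fin

section main

variable {X : Scheme.{u}}
  [∀ (U V : Scheme.{u}) (j : U ⟶ V) [IsOpenImmersion j],
    PreservesFiniteLimits (Scheme.Modules.restrictFunctor j)]
  [∀ (R : CommRingCat.{u}), PreservesFiniteLimits (tilde.functor R)]

/-- a chart complex of a bounded complex of injectives with coherent cohomology and dualizing
stalks is a dualizing complex -/
theorem isDualizing_chart [IsLocallyNoetherian X] (I : CochainComplex X.Modules ℤ)
    (hIinj : ∀ i : ℤ, Injective (I.X i)) {a b : ℤ}
    (hI : ∀ i : ℤ, (i < a ∨ b < i) → IsZero (I.X i))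
    (hcoh : ∀ i : ℤ, Coh.IsCoh (DCoh.HD (DCoh.toD X I) i))
    (hst : ∀ x : X, Dual.IsDualizing (X.presheaf.stalk x)
      ((Φ x).mapDerivedCategory.obj (DCoh.toD X I)))
    {A : Type u} [CommRing A] [IsNoetherianRing A]
    (j : Spec (CommRingCat.of A) ⟶ X) [IsOpenImmersion j] (M : Dual.D A)
    (e : (DCoh.restrictD j).obj (DCoh.toD X I) ≅ (DCoh.tildeD (CommRingCat.of A)).obj M) :
    Dual.IsDualizing A M := by
  have hfin : ∀ i : ℤ, Module.Finite A (Dual.HD A M i) := fun i =>
    finite_HD_of_chart (DCoh.toD X I) j M e i (hcoh i)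
  have key : ∀ p : (Spec (CommRingCat.of A) : Scheme.{u}),
      Dual.IsDualizing (Bp p) ((extD A (Bp p)).obj M) ∧ FidIn ((extD A (Bp p)).obj M) a b := by
    intro p
    haveI : IsNoetherianRing (Bx j p) := (hst (j.base p)).isNoetherianRing
    obtain ⟨h1, h2⟩ := isDualizing_extD_of_bijective (bijective_algebraMap_Bx j p) _
      (hst (j.base p)) (fidIn_stalk I hIinj hI (j.base p))
    have iso := stalkChartIso j p (DCoh.toD X I) M e
    exact ⟨HomBC.isDualizing_of_iso iso.symm h1, HomBC.fidIn_of_iso iso.symm h2⟩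
  have hfid : FidIn M a b :=
    fidIn_of_covers (fun p : PrimeSpectrum A => p.asIdeal.primeCompl) covers_prime
      (fun p => Bp (A := A) p) (fun p => (extD A (Bp (A := A) p)).obj M)
      (fun p => Dim.isLocOf_extD _ _ M) (fun p => (key p).2)
  exact isDualizing_of_covers hfid hfin (fun p : PrimeSpectrum A => p.asIdeal.primeCompl)
    covers_prime (fun p => Bp (A := A) p) (fun p => (extD A (Bp (A := A) p)).obj M)
    (fun p => Dim.isLocOf_extD _ _ M) (fun p => (key p).1)

end main

end Groth.Agent.Lib.Helper18.DSch
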