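import Mathlib
import Groth.Agent.Lib.Helper18.FlatGorC
import Groth.Agent.Lib.Helper4.GorRing

/-!
# Flat base change of dualizing complexes, VIII: the converse — fibres are Gorenstein (helper18)
-/

set_option autoImplicit false
set_option linter.style.haveILetI false
universe u
open CategoryTheory CategoryTheory.Limits CategoryTheory.Pretriangulated DerivedCategory

attribute [local instance] HasDerivedCategory.standard

namespace Groth.Agent.Lib.Helper18.DR

namespace FlatGor

open HomLoc HomBC Bid MaxCrit Norm Uniq Dim TensorProduct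

section local_

variable {A B : Type u} [CommRing A] [CommRing B] [Algebra A B] [Module.Flat A B]
  [IsNoetherianRing A] [IsNoetherianRing B] [IsLocalRing A] [IsLocalRing B]

/-- the derived coextension of `ω ⊗_A B` to the closed fibre `F` is `F` placed in one degree -/
theorem exists_coext_extD_iso (ω : Dual.D A) (hω : Dual.IsDualizing A ω) :
    ∃ n : ℤ, Nonempty ((Shr.coextD (algebraMap B
      (B ⧸ (IsLocalRing.maximalIdeal A).map (algebraMap A B)))).obj ((extD A B).obj ω) ≅
      Sg n (ModuleCat.of (B ⧸ (IsLocalRing.maximalIdeal A).map (algebraMap A B))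
        (B ⧸ (IsLocalRing.maximalIdeal A).map (algebraMap A B)))) := by
  obtain ⟨a, b, hab⟩ := hω.finite_injective_dimension
  have hfid : FidIn ω a b := hab
  haveI := hfid.isGE
  let m := IsLocalRing.maximalIdeal A
  letI : Field (A ⧸ m) := Ideal.Quotient.field m
  haveI := isPushout_quot (A := A) (B := B) m
  haveI : Module.Flat (A ⧸ m) (B ⧸ m.map (algebraMap A B)) :=
    Fbc.flat_of_isPushout A (A ⧸ m) B (B ⧸ m.map (algebraMap A B))
  let Rk := Shr.coextD (algebraMap A (A ⧸ m))
  let adjk := Shr.coextAdj (algebraMap A (A ⧸ m))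
  let RF := Shr.coextD (algebraMap B (B ⧸ m.map (algebraMap A B)))
  let adjF := Shr.coextAdj (algebraMap B (B ⧸ m.map (algebraMap A B)))
  obtain ⟨fbc⟩ := Fbc.nonempty_fbc_iso_of_isPushout (P := A) (A := A ⧸ m) (P' := B)
    (A' := B ⧸ m.map (algebraMap A B)) Ideal.Quotient.mk_surjective Rk adjk RF adjF ω a
  have hW : Dual.IsDualizing (A ⧸ m) (Rk.obj ω) := Bid.isDualizing_rightAdjoint Rk adjk ω hω
  obtain ⟨n, hn0, ⟨en⟩⟩ := exists_degree_of_field (Rk.obj ω) hW
  haveI : (Rk.obj ω).IsGE n := (DerivedCategory.isGE_iff _ _).2 (fun i hi => hn0 i (by omega))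
  haveI : (Rk.obj ω).IsLE n := (DerivedCategory.isLE_iff _ _).2 (fun i hi => hn0 i (by omega))
  obtain ⟨V, ⟨e⟩⟩ := DerivedCategory.exists_iso_singleFunctor_obj_of_isGE_of_isLE (Rk.obj ω) n
  let eV : V ≅ ModuleCat.of (A ⧸ m) (A ⧸ m) :=
    (HSg n V).symm ≪≫ (H (A ⧸ m) n).mapIso e.symm ≪≫ en.toModuleIso
  let e' : Rk.obj ω ≅ Sg n (ModuleCat.of (A ⧸ m) (A ⧸ m)) :=
    e ≪≫ (singleFunctor (ModuleCat.{u} (A ⧸ m)) n).mapIso eV
  exact ⟨n, ⟨fbc.symm ≪≫ (extD (A ⧸ m) (B ⧸ m.map (algebraMap A B))).mapIso e' ≪≫
      Fbc.extSgIso (A := A ⧸ m) (A' := B ⧸ m.map (algebraMap A B)) n⟩⟩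

/-- **converse of (KL)**: if `ω` and `ω ⊗_A B` are dualizing for a flat local homomorphism, the
closed fibre is Gorenstein -/
theorem gorenstein_closedFibre_of_isDualizing_extD (ω : Dual.D A) (hω : Dual.IsDualizing A ω)
    (hI : (IsLocalRing.maximalIdeal A).map (algebraMap A B) ≠ ⊤)
    (h : Dual.IsDualizing B ((extD A B).obj ω)) :
    LocCoh.IsGorensteinLocalRing (B ⧸ (IsLocalRing.maximalIdeal A).map (algebraMap A B)) := by
  haveI := isLocalRing_quot _ hI
  obtain ⟨n, ⟨c⟩⟩ := exists_coext_extD_iso (B := B) ω hω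
  have h1 := Bid.isDualizing_rightAdjoint
    (Shr.coextD (algebraMap B (B ⧸ (IsLocalRing.maximalIdeal A).map (algebraMap A B))))
    (Shr.coextAdj (algebraMap B (B ⧸ (IsLocalRing.maximalIdeal A).map (algebraMap A B)))) _ h
  have h2 := isDualizing_of_iso c h1
  have h3 := isDualizing_of_iso (SgShiftIso n 0 n (by omega) _)
    (InvTwist.isDualizing_shift _ h2 n)
  exact (Groth.Agent.S11179.result _).2 h3

end local_

section glob

variable {A B : Type u} [CommRing A] [CommRing B] [Algebra A B] [Module.Flat A B]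
  [IsNoetherianRing A] [IsNoetherianRing B]

/-- if `ω` and `ω ⊗_A B` are dualizing (`B` flat over `A`), all fibre local rings are Gorenstein -/
theorem gor_fibLocRing_of_isDualizing_extD (ω : Dual.D A) (hω : Dual.IsDualizing A ω)
    (h : Dual.IsDualizing B ((extD A B).obj ω)) (q : PrimeSpectrum B) :
    LocCoh.IsGorensteinLocalRing (EGA4.FibLocRing A B q.asIdeal) := by
  let p : Ideal A := q.asIdeal.under A
  haveI hpp : p.IsPrime := inferInstance
  haveI : q.asIdeal.LiesOver p := ⟨rfl⟩
  letI := Localization.AtPrime.algebraOfLiesOver p q.asIdeal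
  haveI : Module.Flat A (Localization.AtPrime q.asIdeal) :=
    Module.Flat.trans A B (Localization.AtPrime q.asIdeal)
  let i1 := (extDCompIso A B (Localization.AtPrime q.asIdeal)).app ω
  let i2 := (extDCompIso A (Localization.AtPrime p) (Localization.AtPrime q.asIdeal)).app ω
  have hp : Dual.IsDualizing (Localization.AtPrime p)
      ((extD A (Localization.AtPrime p)).obj ω) := isDualizing_locAt ω hω ⟨p, hpp⟩
  have hq : Dual.IsDualizing (Localization.AtPrime q.asIdeal)
      (locAt ((extD A B).obj ω) q) := isDualizing_locAt _ h q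
  have hq' := isDualizing_of_iso (i1.symm ≪≫ i2) hq
  have hI : (IsLocalRing.maximalIdeal (Localization.AtPrime p)).map
      (algebraMap (Localization.AtPrime p) (Localization.AtPrime q.asIdeal)) =
      p.map (algebraMap A (Localization.AtPrime q.asIdeal)) := by
    rw [← Localization.AtPrime.map_eq_maximalIdeal, Ideal.map_map, ← IsScalarTower.algebraMap_eq]
  have hne : (IsLocalRing.maximalIdeal (Localization.AtPrime p)).map
      (algebraMap (Localization.AtPrime p) (Localization.AtPrime q.asIdeal)) ≠ ⊤ := by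
    rw [hI]
    intro htop
    have hle : p.map (algebraMap A (Localization.AtPrime q.asIdeal)) ≤
        IsLocalRing.maximalIdeal (Localization.AtPrime q.asIdeal) := by
      rw [Ideal.map_le_iff_le_comap]
      intro x hx
      rw [Ideal.mem_comap, IsScalarTower.algebraMap_apply A B (Localization.AtPrime q.asIdeal),
        IsLocalization.AtPrime.to_map_mem_maximal_iff (Localization.AtPrime q.asIdeal) q.asIdeal]
      exact hx
    rw [htop] at hle
    exact (IsLocalRing.maximalIdeal.isMaximal _).ne_top (top_le_iff.1 hle)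
  have hF := gorenstein_closedFibre_of_isDualizing_extD (A := Localization.AtPrime p)
    (B := Localization.AtPrime q.asIdeal) _ hp hne hq'
  rw [hI] at hF
  exact hF

end glob

end FlatGor

end Groth.Agent.Lib.Helper18.DR
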