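import Mathlib
import Groth.Agent.Lib.Helper18.FlatGorH

/-!
# The degree of a dualizing complex at a closed point, and its behaviour under a flat local
homomorphism with Gorenstein closed fibre (helper18)

Part A: transfer of `Hom(κ, K[i])` to a quotient, and the degree of the coextension to the
residue field.
-/

set_option autoImplicit false
set_option linter.style.haveILetI false
set_option linter.unusedSectionVars false
universe u
open CategoryTheory CategoryTheory.Limits CategoryTheory.Pretriangulated DerivedCategory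

attribute [local instance] HasDerivedCategory.standard

namespace Groth.Agent.Lib.Helper18.DR

namespace Deg

open HomLoc HomBC Bid MaxCrit Norm Uniq Dim TensorProduct FlatGor

section quot

variable {B : Type u} [CommRing B] [IsLocalRing B] [IsNoetherianRing B]

/-- `Hom_B(κ_B, K[i]) ≃ Hom_{B/I}(κ_{B/I}, R(K)[i])` for the derived coextension `R` to a quotient
of the local ring `B` -/
theorem nonempty_hom_equiv_coext_quot (K : Dual.D B) (I : Ideal B) (hI : I ≠ ⊤) (i : ℤ) :
    haveI := isLocalRing_quot I hI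
    Nonempty ((Dual.inD B (IsLocalRing.ResidueField B) ⟶ K⟦i⟧) ≃
      (Dual.inD (B ⧸ I) (IsLocalRing.ResidueField (B ⧸ I)) ⟶
        ((Shr.coextD (algebraMap B (B ⧸ I))).obj K)⟦i⟧)) := by
  haveI := isLocalRing_quot I hI
  let R := Shr.coextD (algebraMap B (B ⧸ I))
  let adj := Shr.coextAdj (algebraMap B (B ⧸ I))
  let e₁ := residueQuotEquiv I hI
  let e₂ := (DerivedCategory.singleFunctor (ModuleCat.{u} B) 0).mapIso e₁.toModuleIso
  exact ⟨(Iso.homFromEquiv e₂).trans
    (homAdjEquiv R adj K ((B ⧸ I) ⧸ IsLocalRing.maximalIdeal (B ⧸ I)) i)⟩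

end quot

section residue

variable {A : Type u} [CommRing A] [IsNoetherianRing A] [IsLocalRing A]

/-- the degree of a dualizing complex at the closed point is unique -/
theorem subsingleton_of_ne_degree (ω : Dual.D A) (hω : Dual.IsDualizing A ω) (d : ℤ)
    (hd : Nontrivial (Dual.inD A (IsLocalRing.ResidueField A) ⟶ ω⟦d⟧)) (i : ℤ) (hi : i ≠ d) :
    Subsingleton (Dual.inD A (IsLocalRing.ResidueField A) ⟶ ω⟦i⟧) := by
  obtain ⟨n, hn, -⟩ := exists_degree_residueField ω hω (IsLocalRing.maximalIdeal A)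
  have hdn : d = n := by
    by_contra hne
    haveI : Subsingleton (Dual.inD A (IsLocalRing.ResidueField A) ⟶ ω⟦d⟧) := hn d hne
    exact not_subsingleton _ ‹_›
  subst hdn
  exact hn i hi

/-- the derived coextension of a dualizing complex to the residue field is the residue field placed
in the degree of the complex -/
theorem nonempty_coext_residue_iso (ω : Dual.D A) (hω : Dual.IsDualizing A ω) (d : ℤ)
    (hd : Nontrivial (Dual.inD A (IsLocalRing.ResidueField A) ⟶ ω⟦d⟧)) :
    Nonempty ((Shr.coextD (algebraMap A (A ⧸ IsLocalRing.maximalIdeal A))).obj ω ≅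
      Sg d (ModuleCat.of (A ⧸ IsLocalRing.maximalIdeal A) (A ⧸ IsLocalRing.maximalIdeal A))) := by
  let m := IsLocalRing.maximalIdeal A
  letI : Field (A ⧸ m) := Ideal.Quotient.field m
  let R := Shr.coextD (algebraMap A (A ⧸ m))
  let adj := Shr.coextAdj (algebraMap A (A ⧸ m))
  have hW : Dual.IsDualizing (A ⧸ m) (R.obj ω) := Bid.isDualizing_rightAdjoint R adj ω hω
  obtain ⟨n, hn0, ⟨en⟩⟩ := exists_degree_of_field (R.obj ω) hW
  let N : ModuleCat.{u} A := (ModuleCat.restrictScalars.{u} (algebraMap A (A ⧸ m))).obj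
    (ModuleCat.of (A ⧸ m) (A ⧸ m))
  let e₁ : (A ⧸ m) ≃ₗ[A] N :=
    { toFun := fun x => x
      invFun := fun x => x
      left_inv := fun _ => rfl
      right_inv := fun _ => rfl
      map_add' := fun _ _ => rfl
      map_smul' := fun a x => (algebraMap_smul (A ⧸ m) a (show A ⧸ m from x)).symm }
  let e₂ : Dual.inD A (A ⧸ m) ≅ Dual.inD A N :=
    (DerivedCategory.singleFunctor (ModuleCat.{u} A) 0).mapIso e₁.toModuleIso
  let Φ : ∀ i : ℤ, (Dual.inD A (A ⧸ m) ⟶ ω⟦i⟧) → (H (A ⧸ m) i).obj (R.obj ω) := fun i x =>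
    ((HShiftIso (A ⧸ m) i 0 i (by omega)).app (R.obj ω)).hom.hom
      (homSgEquivH 0 ((R.obj ω)⟦i⟧) (homAdjEquiv R adj ω (A ⧸ m) i (e₂.inv ≫ x)))
  have hΦ : ∀ i, Function.Bijective (Φ i) := by
    intro i
    refine (ConcreteCategory.bijective_of_isIso
      ((HShiftIso (A ⧸ m) i 0 i (by omega)).app (R.obj ω)).hom).comp
      ((homSgEquivH 0 ((R.obj ω)⟦i⟧)).bijective.comp
        ((homAdjEquiv R adj ω (A ⧸ m) i).bijective.comp ?_))
    exact (Iso.homFromEquiv e₂.symm).bijective
  have hdn : d = n := by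
    by_contra hne
    haveI : Subsingleton ((H (A ⧸ m) d).obj (R.obj ω)) :=
      ModuleCat.subsingleton_of_isZero (hn0 d hne)
    haveI hs : Subsingleton (Dual.inD A (A ⧸ m) ⟶ ω⟦d⟧) := (hΦ d).1.subsingleton
    haveI hd' : Nontrivial (Dual.inD A (A ⧸ m) ⟶ ω⟦d⟧) := hd
    exact not_subsingleton _ hs
  subst hdn
  haveI : (R.obj ω).IsGE d := (DerivedCategory.isGE_iff _ _).2 (fun i hi => hn0 i (by omega))
  haveI : (R.obj ω).IsLE d := (DerivedCategory.isLE_iff _ _).2 (fun i hi => hn0 i (by omega))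
  obtain ⟨V, ⟨e⟩⟩ := DerivedCategory.exists_iso_singleFunctor_obj_of_isGE_of_isLE (R.obj ω) d
  let eV : V ≅ ModuleCat.of (A ⧸ m) (A ⧸ m) :=
    (HSg d V).symm ≪≫ (H (A ⧸ m) d).mapIso e.symm ≪≫ en.toModuleIso
  exact ⟨e ≪≫ (singleFunctor (ModuleCat.{u} (A ⧸ m)) d).mapIso eV⟩

end residue

section local_

variable {A B : Type u} [CommRing A] [CommRing B] [Algebra A B] [Module.Flat A B]
  [IsNoetherianRing A] [IsNoetherianRing B] [IsLocalRing A] [IsLocalRing B]

/-- the derived coextension of `ω ⊗_A B` to the closed fibre `F` is `F` placed in the degree of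
`ω` -/
theorem nonempty_coext_extD_iso (ω : Dual.D A) (hω : Dual.IsDualizing A ω) (d : ℤ)
    (hd : Nontrivial (Dual.inD A (IsLocalRing.ResidueField A) ⟶ ω⟦d⟧)) :
    Nonempty ((Shr.coextD (algebraMap B
      (B ⧸ (IsLocalRing.maximalIdeal A).map (algebraMap A B)))).obj ((extD A B).obj ω) ≅
      Sg d (ModuleCat.of (B ⧸ (IsLocalRing.maximalIdeal A).map (algebraMap A B))
        (B ⧸ (IsLocalRing.maximalIdeal A).map (algebraMap A B)))) := by
  obtain ⟨a, b, hab⟩ := hω.finite_injective_dimension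
  have hfid : FidIn ω a b := hab
  haveI := hfid.isGE
  let m := IsLocalRing.maximalIdeal A
  letI : Field (A ⧸ m) := Ideal.Quotient.field m
  haveI := isPushout_quot (A := A) (B := B) m
  haveI : Module.Flat (A ⧸ m) (B ⧸ m.map (algebraMap A B)) :=
    Fbc.flat_of_isPushout A (A ⧸ m) B (B ⧸ m.map (algebraMap A B))
  let Rk := Shr.coextD (algebraMap A (A ⧸ m))
  let adjk := Shr.coextAdj (algebraMap A (A ⧸ m))
  let RF := Shr.coextD (algebraMap B (B ⧸ m.map (algebraMap A B)))
  let adjF := Shr.coextAdj (algebraMap B (B ⧸ m.map (algebraMap A B)))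
  obtain ⟨fbc⟩ := Fbc.nonempty_fbc_iso_of_isPushout (P := A) (A := A ⧸ m) (P' := B)
    (A' := B ⧸ m.map (algebraMap A B)) Ideal.Quotient.mk_surjective Rk adjk RF adjF ω a
  obtain ⟨e'⟩ := nonempty_coext_residue_iso ω hω d hd
  exact ⟨fbc.symm ≪≫ (extD (A ⧸ m) (B ⧸ m.map (algebraMap A B))).mapIso e' ≪≫
      Fbc.extSgIso (A := A ⧸ m) (A' := B ⧸ m.map (algebraMap A B)) d⟩

end local_

end Deg

end Groth.Agent.Lib.Helper18.DR
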