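import Mathlib
import Groth.Agent.Lib.Helper18.HomCxA
import Groth.Agent.Lib.Helper18.DRTorC
import Groth.Agent.Lib.Helper18.LTCxC
import Groth.Agent.Lib.Helper18.Ampl

/-!
# Top-degree Künneth formula for bounded above complexes (helper18)

For complexes `F`, `F'` whose terms vanish above `a`, `b`:
`H^{a+b}(F ⊗ F') ≅ H^a(F) ⊗ H^b(F')`.
-/

set_option autoImplicit false
set_option linter.style.haveILetI false
universe u
open CategoryTheory CategoryTheory.Limits MonoidalCategory HomologicalComplex DerivedCategory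

attribute [local instance] HasDerivedCategory.standard

namespace Groth.Agent.Lib.Helper18.DR

namespace TopK

variable {R : Type u} [CommRing R] (F F' : DRing.Cx R)

/-- the inclusion of a summand -/
noncomputable abbrev ι (p q m : ℤ) (h : p + q = m) : (F.X p) ⊗ (F'.X q) ⟶ (F ⊗ F').X m :=
  ιMapBifunctor F F' (curriedTensor (ModuleCat.{u} R)) (ComplexShape.up ℤ) p q m h

/-- the differential on a summand -/
lemma ι_d (p p' q q' m m' : ℤ) (h : p + q = m) (hp : p + 1 = p') (hq : q + 1 = q')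
    (hm : m + 1 = m') :
    ι F F' p q m h ≫ (F ⊗ F').d m m' =
      (F.d p p' ▷ F'.X q) ≫ ι F F' p' q m' (by omega) +
        p.negOnePow • ((F.X p ◁ F'.d q q') ≫ ι F F' p q' m' (by omega)) := by
  subst hp hq
  exact HomCx.ι_d F F' p q m h m' hm

/-- the projection onto the `(a, b)` summand -/
noncomputable def ρ (a b n : ℤ) (h : a + b = n) : (F ⊗ F').X n ⟶ (F.X a) ⊗ (F'.X b) :=
  mapBifunctorDesc (K₁ := F) (K₂ := F') (F := curriedTensor (ModuleCat.{u} R))
    (c := ComplexShape.up ℤ) (fun p q hpq =>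
    if hp : p = a then
      (F.XIsoOfEq hp).hom ⊗ₘ (F'.XIsoOfEq (show q = b by
        have : p + q = n := hpq
        omega)).hom
    else 0)

lemma ι_ρ_self (a b n : ℤ) (h : a + b = n) : ι F F' a b n h ≫ ρ F F' a b n h = 𝟙 _ := by
  dsimp [ι, ρ]
  rw [ι_mapBifunctorDesc, dif_pos rfl]
  simp

lemma ι_ρ_eq (a b n : ℤ) (h : a + b = n) (p q : ℤ) (hpq : p + q = n) (hp : p = a) :
    ι F F' p q n hpq ≫ ρ F F' a b n h =
      (F.XIsoOfEq hp).hom ⊗ₘ (F'.XIsoOfEq (show q = b by omega)).hom := by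
  dsimp [ι, ρ]
  rw [ι_mapBifunctorDesc, dif_pos hp]

lemma ι_ρ_ne (a b n : ℤ) (h : a + b = n) (p q : ℤ) (hpq : p + q = n) (hp : p ≠ a) :
    ι F F' p q n hpq ≫ ρ F F' a b n h = 0 := by
  dsimp [ι, ρ]
  rw [ι_mapBifunctorDesc, dif_neg hp]

lemma ρ_ι (a b n : ℤ) (h : a + b = n) (hF : DRing.VanishesAbove F a)
    (hF' : DRing.VanishesAbove F' b) : ρ F F' a b n h ≫ ι F F' a b n h = 𝟙 _ := by
  refine mapBifunctor.hom_ext (fun p q hpq => ?_)
  have hpq' : p + q = n := hpq
  by_cases hp : p = a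
  · subst hp
    obtain rfl : q = b := by omega
    have := ι_ρ_self F F' p q n h
    dsimp [ι] at this
    rw [← Category.assoc]
    erw [this, Category.id_comp]
  · have hz : IsZero ((F.X p) ⊗ (F'.X q)) := by
      by_cases h1 : a < p
      · exact (tensorRight (F'.X q)).map_isZero (hF p h1)
      · exact (tensorLeft (F.X p)).map_isZero (hF' q (by omega))
    exact hz.eq_of_src _ _

/-- the projection to the top cokernel -/
noncomputable def πTop (a : ℤ) : F.X a ⟶ ModuleCat.of R (cok F (a - 1) a) :=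
  ModuleCat.ofHom (Submodule.mkQ _)

lemma d_πTop (i a : ℤ) : F.d i a ≫ πTop F a = 0 := by
  by_cases hi : i + 1 = a
  · obtain rfl : i = a - 1 := by omega
    ext x
    change Submodule.Quotient.mk ((F.d (a - 1) a).hom x) = 0
    rw [Submodule.Quotient.mk_eq_zero]
    exact ⟨x, rfl⟩
  · rw [F.shape _ _ hi, zero_comp]

lemma πTop_surjective (a : ℤ) : Function.Surjective (πTop F a).hom :=
  Submodule.mkQ_surjective _

/-- the map `(F ⊗ F')^n → coker ⊗ coker` -/
noncomputable def qT (a b n : ℤ) (h : a + b = n) :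
    (F ⊗ F').X n ⟶ (ModuleCat.of R (cok F (a - 1) a)) ⊗ (ModuleCat.of R (cok F' (b - 1) b)) :=
  ρ F F' a b n h ≫ (πTop F a ⊗ₘ πTop F' b)

lemma d_qT (a b n : ℤ) (h : a + b = n) (m : ℤ) : (F ⊗ F').d m n ≫ qT F F' a b n h = 0 := by
  by_cases hm : m + 1 = n
  · refine mapBifunctor.hom_ext (fun p q hpq => ?_)
    have hpq' : p + q = m := hpq
    have := ι_d F F' p (p + 1) q (q + 1) m n hpq' rfl rfl hm
    dsimp [ι] at this
    rw [reassoc_of% this, comp_zero, Preadditive.add_comp]
    have h1 : (F.d p (p + 1) ▷ F'.X q) ≫ ι F F' (p + 1) q n (by omega) ≫ qT F F' a b n h = 0 := by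
      by_cases hp : p + 1 = a
      · dsimp only [qT]
        rw [← Category.assoc (ι F F' (p + 1) q n (by omega)), ι_ρ_eq F F' a b n h (p + 1) q
          (by omega) hp, MonoidalCategory.tensorHom_comp_tensorHom,
          MonoidalCategory.whiskerRight_comp_tensorHom, ← Category.assoc, d_comp_XIsoOfEq_hom,
          d_πTop, MonoidalPreadditive.zero_tensor]
      · dsimp only [qT]
        rw [← Category.assoc (ι F F' (p + 1) q n (by omega)), ι_ρ_ne F F' a b n h (p + 1) q
          (by omega) hp, zero_comp, comp_zero]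
    have h2 : (F.X p ◁ F'.d q (q + 1)) ≫ ι F F' p (q + 1) n (by omega) ≫ qT F F' a b n h = 0 := by
      by_cases hp : p = a
      · dsimp only [qT]
        rw [← Category.assoc (ι F F' p (q + 1) n (by omega)), ι_ρ_eq F F' a b n h p (q + 1)
          (by omega) hp, MonoidalCategory.tensorHom_comp_tensorHom,
          MonoidalCategory.whiskerLeft_comp_tensorHom, ← Category.assoc (F'.d q (q + 1)),
          d_comp_XIsoOfEq_hom, d_πTop, MonoidalPreadditive.tensor_zero]
      · dsimp only [qT]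
        rw [← Category.assoc (ι F F' p (q + 1) n (by omega)), ι_ρ_ne F F' a b n h p (q + 1)
          (by omega) hp, zero_comp, comp_zero]
    dsimp [ι] at h1 h2
    rw [Category.assoc, h1, Linear.units_smul_comp, Category.assoc, h2, smul_zero, add_zero]
  · rw [(F ⊗ F').shape _ _ hm, zero_comp]

lemma units_smul_mem {M : Type*} [AddCommGroup M] [Module R M] (N : Submodule R M) (ε : ℤˣ)
    {x : M} (hx : x ∈ N) : ε • x ∈ N := by
  rcases Int.units_eq_one_or ε with h | h
  · rw [h, one_smul]; exact hx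
  · rw [h, Units.neg_smul, one_smul]; exact N.neg_mem hx

lemma ι_rTensor (a b n : ℤ) (h : a + b = n) (hF' : DRing.VanishesAbove F' b) (i : ℤ)
    (hi : i + 1 = a) (m : ℤ) (hm : m + 1 = n) (v : ((F.X i) ⊗ (F'.X b) : ModuleCat.{u} R)) :
    (ι F F' a b n h).hom ((F.d i a ▷ F'.X b).hom v) =
      ((F ⊗ F').d m n).hom ((ι F F' i b m (by omega)).hom v) := by
  have h1 := ι_d F F' i a b (b + 1) m n (by omega) hi rfl hm
  have h2 : F'.d b (b + 1) = 0 := (hF' (b + 1) (by omega)).eq_of_tgt _ _
  rw [h2, MonoidalPreadditive.whiskerLeft_zero, zero_comp, smul_zero, add_zero] at h1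
  have := congrArg (fun f => f.hom v) h1
  exact this.symm

lemma ι_lTensor (a b n : ℤ) (h : a + b = n) (hF : DRing.VanishesAbove F a) (j : ℤ)
    (hj : j + 1 = b) (m : ℤ) (hm : m + 1 = n) (w : ((F.X a) ⊗ (F'.X j) : ModuleCat.{u} R)) :
    (ι F F' a b n h).hom ((F.X a ◁ F'.d j b).hom w) =
      a.negOnePow • ((F ⊗ F').d m n).hom ((ι F F' a j m (by omega)).hom w) := by
  have h1 := ι_d F F' a (a + 1) j b m n (by omega) rfl hj hm
  have h2 : F.d a (a + 1) = 0 := (hF (a + 1) (by omega)).eq_of_tgt _ _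
  rw [h2, MonoidalPreadditive.zero_whiskerRight, zero_comp, zero_add] at h1
  have h3 : ((F ⊗ F').d m n).hom ((ι F F' a j m (by omega)).hom w) =
      a.negOnePow • (ι F F' a b n h).hom ((F.X a ◁ F'.d j b).hom w) := by
    have := congrArg (fun f => f.hom w) h1
    exact this
  rw [h3, smul_smul, Int.units_mul_self, one_smul]

/-- **top Künneth at the level of cokernels** -/
theorem nonempty_cok_tensor_equiv (a b n : ℤ) (h : a + b = n) (hF : DRing.VanishesAbove F a)
    (hF' : DRing.VanishesAbove F' b) :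
    Nonempty (cok (F ⊗ F') (n - 1) n ≃ₗ[R]
      TensorProduct R (cok F (a - 1) a) (cok F' (b - 1) b)) := by
  let qL : (F ⊗ F').X n →ₗ[R] TensorProduct R (cok F (a - 1) a) (cok F' (b - 1) b) :=
    (qT F F' a b n h).hom
  have h1 : ι F F' a b n h ≫ qT F F' a b n h = πTop F a ⊗ₘ πTop F' b := by
    dsimp only [qT]
    rw [← Category.assoc, ι_ρ_self, Category.id_comp]
  have hsurj : Function.Surjective qL := by
    intro t
    obtain ⟨z, hz⟩ := TensorProduct.map_surjective (πTop_surjective F a) (πTop_surjective F' b) t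
    refine ⟨(ι F F' a b n h).hom z, ?_⟩
    change (ι F F' a b n h ≫ qT F F' a b n h).hom z = t
    rw [h1]
    exact hz
  have hker : LinearMap.range ((F ⊗ F').d (n - 1) n).hom = LinearMap.ker qL := by
    apply le_antisymm
    · rintro _ ⟨w, rfl⟩
      rw [LinearMap.mem_ker]
      change ((F ⊗ F').d (n - 1) n ≫ qT F F' a b n h).hom w = 0
      rw [d_qT]
      rfl
    · intro g hg
      rw [LinearMap.mem_ker] at hg
      have hgz : g = (ι F F' a b n h).hom ((ρ F F' a b n h).hom g) := by
        change g = (ρ F F' a b n h ≫ ι F F' a b n h).hom g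
        rw [ρ_ι F F' a b n h hF hF']
        rfl
      have hz0 : TensorProduct.map (πTop F a).hom (πTop F' b).hom ((ρ F F' a b n h).hom g) = 0 :=
        hg
      have hk := TensorProduct.map_ker (f := (F.d (a - 1) a).hom) (g := (πTop F a).hom)
        (f' := (F'.d (b - 1) b).hom) (g' := (πTop F' b).hom)
        (LinearMap.exact_map_mkQ_range _) (πTop_surjective F a)
        (LinearMap.exact_map_mkQ_range _) (πTop_surjective F' b)
      have hz1 : (ρ F F' a b n h).hom g ∈ LinearMap.ker
          (TensorProduct.map (πTop F a).hom (πTop F' b).hom) := hz0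
      rw [hk] at hz1
      obtain ⟨y, ⟨w, rfl⟩, y', ⟨v, rfl⟩, hyy'⟩ := Submodule.mem_sup.1 hz1
      rw [hgz, ← hyy', map_add]
      refine Submodule.add_mem _ ?_ ?_
      · have := ι_lTensor F F' a b n h hF (b - 1) (by omega) (n - 1) (by omega) w
        change (ι F F' a b n h).hom ((F.X a ◁ F'.d (b - 1) b).hom w) ∈ _
        rw [this]
        exact units_smul_mem _ _ ⟨_, rfl⟩
      · have := ι_rTensor F F' a b n h hF' (a - 1) (by omega) (n - 1) (by omega) v
        change (ι F F' a b n h).hom ((F.d (a - 1) a ▷ F'.X b).hom v) ∈ _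
        rw [this]
        exact ⟨_, rfl⟩
  exact ⟨(Submodule.quotEquivOfEq _ _ hker).trans (qL.quotKerEquivOfSurjective hsurj)⟩

/-- `H^j` of a complex vanishing in degree `j + 1` is the cokernel of `d^{j-1}` -/
noncomputable def cokEquivH (E : DRing.Cx R) (j : ℤ) (hE : IsZero (E.X (j + 1))) :
    cok E (j - 1) j ≃ₗ[R] (H R j).obj (DRing.toD E) := by
  haveI : Subsingleton (E.X (j + 1)) := ModuleCat.subsingleton_of_isZero hE
  have hk : LinearMap.ker (E.d j (j + 1)).hom = ⊤ := by
    rw [LinearMap.ker_eq_top]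
    exact LinearMap.ext fun x => Subsingleton.elim _ _
  let f : E.X j ≃ₗ[R] LinearMap.ker (E.d j (j + 1)).hom :=
    (LinearEquiv.ofTop _ hk).symm
  have hf : (LinearMap.range (E.d (j - 1) j).hom).map f.toLinearMap =
      LinearMap.range (toCyc E (j - 1) j (j + 1)) := by
    rw [← LinearMap.range_comp]
    congr 1
  exact (Submodule.Quotient.equiv _ _ f hf).trans
    (HtoDLinearEquiv' E (j - 1) j (j + 1) (by omega) rfl).symm

/-- **top Künneth** for complexes vanishing above `a`, `b` -/
theorem nonempty_H_tensor_equiv (a b n : ℤ) (h : a + b = n) (hF : DRing.VanishesAbove F a)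
    (hF' : DRing.VanishesAbove F' b) :
    Nonempty ((H R n).obj (DRing.toD (F ⊗ F')) ≃ₗ[R]
      TensorProduct R ((H R a).obj (DRing.toD F)) ((H R b).obj (DRing.toD F'))) := by
  obtain ⟨e⟩ := nonempty_cok_tensor_equiv F F' a b n h hF hF'
  have e1 := cokEquivH (F ⊗ F') n
    (Ampl.vanishesAbove_tensor F F' a b hF hF' (n + 1) (by omega))
  have e2 := cokEquivH F a (hF (a + 1) (by omega))
  have e3 := cokEquivH F' b (hF' (b + 1) (by omega))
  exact ⟨e1.symm.trans (e.trans (TensorProduct.congr e2 e3))⟩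

end TopK

end Groth.Agent.Lib.Helper18.DR
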