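import Mathlib
import Groth.Agent.Lib.Helper18.InvCxA
import Groth.Agent.Lib.Helper18.DRTop

/-!
# Invertible objects of `D(A)` over a local ring: derived-level lemmas (helper18)
-/

set_option autoImplicit false
set_option linter.style.haveILetI false
universe u
open CategoryTheory CategoryTheory.Limits CategoryTheory.Pretriangulated MonoidalCategory
  HomologicalComplex DerivedCategory

attribute [local instance] HasDerivedCategory.standard

namespace Groth.Agent.Lib.Helper18.DR

namespace InvCx

variable {R : Type u} [CommRing R]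

/-- **top Künneth in `D(R)`** -/
theorem topKunneth (E : DRing.Cx R) [DRing.HasLTensorCx R E] (K : Dual.D R) (a b : ℤ)
    [K.IsLE a] [(DRing.toD E).IsLE b] :
    ((DRing.LTensorCx R E).obj K).IsLE (a + b) ∧
    Nonempty ((H R (a + b)).obj ((DRing.LTensorCx R E).obj K) ≃ₗ[R]
      TensorProduct R ((H R a).obj K) ((H R b).obj (DRing.toD E))) := by
  obtain ⟨F, hF, hFf, ⟨e⟩⟩ := exists_free_resolution K a
  obtain ⟨F', hF', hFf', ⟨e'⟩⟩ := exists_free_resolution (DRing.toD E) b
  haveI : F.IsKProjective := isKProjective_of_vanishesAbove F a hF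
    (fun i => haveI := hFf i; inferInstance)
  haveI : F'.IsKProjective := isKProjective_of_vanishesAbove F' b hF'
    (fun i => haveI := hFf' i; inferInstance)
  obtain ⟨i⟩ := LTCx.nonempty_LTensorCx_iso E K F F' e e'
  haveI := isStrictlyLE_of_vanishesAbove (F ⊗ F') (a + b)
    (Ampl.vanishesAbove_tensor F F' a b hF hF')
  haveI h1 : (DerivedCategory.Q.obj (F ⊗ F')).IsLE (a + b) := inferInstance
  refine ⟨TStructure.t.isLE_of_iso i.symm (a + b), ?_⟩
  obtain ⟨k⟩ := TopK.nonempty_H_tensor_equiv F F' a b (a + b) rfl hF hF'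
  exact ⟨(((H R (a + b)).mapIso i).toLinearEquiv.trans k).trans
    (TensorProduct.congr ((H R a).mapIso e).toLinearEquiv ((H R b).mapIso e').toLinearEquiv)⟩

section Nak

variable [IsLocalRing R]

/-- a nonzero finite module over a local ring surjects onto the residue field -/
lemma exists_surjective_residueField (M : Type u) [AddCommGroup M] [Module R M]
    [Module.Finite R M] [Nontrivial M] :
    ∃ f : M →ₗ[R] IsLocalRing.ResidueField R, Function.Surjective f := by
  have hV : Nontrivial (TensorProduct R (IsLocalRing.ResidueField R) M) := by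
    rw [← not_subsingleton_iff_nontrivial, IsLocalRing.subsingleton_tensorProduct]
    exact not_subsingleton M
  obtain ⟨v, hv⟩ := exists_ne (0 : TensorProduct R (IsLocalRing.ResidueField R) M)
  obtain ⟨φ, hφ⟩ : ∃ φ : Module.Dual (IsLocalRing.ResidueField R)
      (TensorProduct R (IsLocalRing.ResidueField R) M), φ v ≠ 0 := by
    by_contra hcon
    push_neg at hcon
    exact hv ((Module.forall_dual_apply_eq_zero_iff (IsLocalRing.ResidueField R) v).1 hcon)
  obtain ⟨m, hm⟩ : ∃ m : M, φ ((1 : IsLocalRing.ResidueField R) ⊗ₜ[R] m) ≠ 0 := by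
    by_contra hcon
    push_neg at hcon
    apply hφ
    have : ∀ w : TensorProduct R (IsLocalRing.ResidueField R) M, φ w = 0 := by
      intro w
      induction w using TensorProduct.induction_on with
      | zero => simp
      | tmul c m =>
        have : c ⊗ₜ[R] m = c • ((1 : IsLocalRing.ResidueField R) ⊗ₜ[R] m) := by
          rw [TensorProduct.smul_tmul', smul_eq_mul, mul_one]
        rw [this, map_smul, hcon, smul_zero]
      | add x y hx hy => rw [map_add, hx, hy, add_zero]
    exact this v
  refine ⟨(φ.restrictScalars R).comp (TensorProduct.mk R (IsLocalRing.ResidueField R) M 1), ?_⟩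
  intro c
  obtain ⟨r, hr⟩ := IsLocalRing.residue_surjective
    (c / φ ((1 : IsLocalRing.ResidueField R) ⊗ₜ[R] m))
  refine ⟨r • m, ?_⟩
  rw [map_smul, Algebra.smul_def]
  change IsLocalRing.residue R r * φ ((1 : IsLocalRing.ResidueField R) ⊗ₜ[R] m) = c
  rw [hr, div_mul_cancel₀ _ hm]

/-- the tensor product of nonzero finite modules over a local ring is nonzero -/
lemma nontrivial_tensor (M N : Type u) [AddCommGroup M] [Module R M] [AddCommGroup N]
    [Module R N] [Module.Finite R M] [Module.Finite R N] [Nontrivial M] [Nontrivial N] :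
    Nontrivial (TensorProduct R M N) := by
  obtain ⟨f, hf⟩ := exists_surjective_residueField (R := R) M
  obtain ⟨g, hg⟩ := exists_surjective_residueField (R := R) N
  have h1 : Function.Surjective (LinearMap.mul' R (IsLocalRing.ResidueField R)) := fun x =>
    ⟨x ⊗ₜ 1, by simp⟩
  exact (h1.comp (TensorProduct.map_surjective hf hg)).nontrivial

end Nak

/-- the top cohomological degree of a nonzero bounded above object -/
lemma exists_top (X : Dual.D R) (b : ℤ) [X.IsLE b] (hX : ¬ IsZero X) :
    ∃ a, a ≤ b ∧ X.IsLE a ∧ ¬ IsZero ((H R a).obj X) := by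
  have h1 : ∃ i, ¬ IsZero ((H R i).obj X) := by
    by_contra hcon
    push_neg at hcon
    exact hX (isZero_of_forall_isZero_H X hcon)
  have h2 : ∃ b', ∀ z, ¬ IsZero ((H R z).obj X) → z ≤ b' := by
    refine ⟨b, fun z hz => ?_⟩
    by_contra hcon
    exact hz (isZero_of_isLE X b z (by omega))
  obtain ⟨a, ha, ha'⟩ := Int.exists_greatest_of_bdd h2 h1
  obtain ⟨b', hb'⟩ := h2
  refine ⟨a, ?_, ?_, ha⟩
  · by_contra hcon
    exact ha (isZero_of_isLE X b a (by omega))
  · rw [DerivedCategory.isLE_iff]
    intro i hi
    by_contra hcon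
    have := ha' i hcon
    omega

end InvCx

end Groth.Agent.Lib.Helper18.DR
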