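import Mathlib
import Groth.Agent.Lib.Helper18.InvCxB

/-!
# Invertible objects of `D(A)` over a local ring: splitting and shifts (helper18)
-/

set_option autoImplicit false
set_option linter.style.haveILetI false
universe u
open CategoryTheory CategoryTheory.Limits CategoryTheory.Pretriangulated MonoidalCategory
  HomologicalComplex DerivedCategory

attribute [local instance] HasDerivedCategory.standard

namespace Groth.Agent.Lib.Helper18.DR

namespace InvCx

variable {R : Type u} [CommRing R]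

/-- splitting off a projective top cohomology module -/
theorem exists_split_top (X : Dual.D R) (a : ℤ) [X.IsLE a]
    (hproj : Module.Projective R ((H R a).obj X)) :
    ∃ (C : Dual.D R) (N : ModuleCat.{u} R) (i : C ⟶ X) (r : X ⟶ C) (p : X ⟶ Sg a N),
      i ≫ r = 𝟙 C ∧ C.IsLE (a - 1) ∧ Nonempty (N ≅ (H R a).obj X) ∧ (IsZero C → IsIso p) := by
  obtain ⟨N, p, hp⟩ := exists_hom_Sg_top X a
  let eN : N ≅ (H R a).obj X := (HSg a N).symm ≪≫ (asIso ((H R a).map p)).symm
  haveI : Module.Projective R N := Module.Projective.of_equiv eN.toLinearEquiv.symm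
  obtain ⟨C, i, δ, hT⟩ := distinguished_cocone_triangle₁ p
  have hC : C.IsLE (a - 1) := by
    rw [DerivedCategory.isLE_iff]
    intro j hj
    have hepi : Epi ((H R (j - 1)).map p) := by
      by_cases hja : j - 1 = a
      · obtain rfl : a = j - 1 := hja.symm
        infer_instance
      · have : IsZero ((H R (j - 1)).obj (Sg a N)) := by
          rcases lt_or_gt_of_ne hja with h | h
          · exact isZero_of_isGE (Sg a N) a (j - 1) h
          · exact isZero_of_isLE (Sg a N) a (j - 1) h
        exact ⟨fun g h _ => this.eq_of_src g h⟩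
    have hmono : Mono ((H R j).map p) := by
      by_cases hja : j = a
      · subst hja; infer_instance
      · have : IsZero ((H R j).obj X) := isZero_of_isLE X a j (by omega)
        exact ⟨fun g h _ => this.eq_of_tgt g h⟩
    have h1 : HomologySequence.δ (Triangle.mk i p δ) (j - 1) j (by omega) = 0 :=
      (HomologySequence.epi_homologyMap_mor₂_iff _ hT (j - 1) j (by omega)).1 hepi
    have h2 : Mono ((H R j).map i) :=
      (HomologySequence.mono_homologyMap_mor₁_iff _ hT (j - 1) j (by omega)).2 h1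
    have h3 : (H R j).map i = 0 := (HomologySequence.mono_homologyMap_mor₂_iff _ hT j).1 hmono
    rw [IsZero.iff_id_eq_zero, ← cancel_mono ((H R j).map i), h3, comp_zero, comp_zero]
  haveI := hC
  haveI : (C⟦(1 : ℤ)⟧).IsLE (a - 1) := by
    haveI : (C⟦(1 : ℤ)⟧).IsLE (a - 1 - 1) :=
      TStructure.t.isLE_shift C (a - 1) 1 (a - 1 - 1) (by omega)
    exact TStructure.t.isLE_of_le _ (a - 1 - 1) (a - 1) (by omega)
  have hδ : δ = 0 := hom_Sg_eq_zero_of_isLE a N (C⟦(1 : ℤ)⟧) δ
  haveI hmono : Mono i := Triangle.mono₁ _ hT hδ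
  haveI := isSplitMono_of_mono i
  exact ⟨C, N, i, retraction i, p, IsSplitMono.id i, hC, ⟨eN⟩,
    fun hz => (Triangle.isZero₁_iff_isIso₂ _ hT).1 hz⟩

/-- the complex `R` placed in degree `a` -/
noncomputable abbrev S (R : Type u) [CommRing R] (a : ℤ) : DRing.Cx R :=
  (CochainComplex.singleFunctor (ModuleCat.{u} R) a).obj (ModuleCat.of R R)

/-- `R[-a] ⊗ E ≅ E⟦-a⟧` at the chain level -/
noncomputable def tensorSIso (E : DRing.Cx R) (a : ℤ) : S R a ⊗ E ≅ E⟦-a⟧ :=
  whiskerRightIso (((CochainComplex.singleFunctors (ModuleCat.{u} R)).shiftIso (-a) a 0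
      (by omega)).symm.app (ModuleCat.of R R)) E ≪≫
    CochainComplex.mapBifunctorShift₁Iso (S R 0) E (curriedTensor (ModuleCat.{u} R)) (-a) ≪≫
    (shiftFunctor (DRing.Cx R) (-a)).mapIso (λ_ E)

/-- `R[-a] ⊗^L E ≅ E[-a]` -/
noncomputable def LTensorCxSgIso (E : DRing.Cx R) [DRing.HasLTensorCx R E] (a : ℤ) :
    (DRing.LTensorCx R E).obj (Sg a (ModuleCat.of R R)) ≅ (DRing.toD E)⟦-a⟧ :=
  (DRing.LTensorCx R E).mapIso ((singleFunctorIsoCompQ (ModuleCat.{u} R) a).app _) ≪≫
    LTCx.LTensorCxIso E (S R a) ≪≫ DerivedCategory.Q.mapIso (tensorSIso E a) ≪≫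
    (DerivedCategory.Q.commShiftIso (-a)).app E

end InvCx

end Groth.Agent.Lib.Helper18.DR
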