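import Mathlib
import Groth.Agent.Lib.Helper18.InvCxC

/-!
# Invertible objects of `D(A)` over a local ring: the main theorem (helper18)
-/

set_option autoImplicit false
set_option linter.style.haveILetI false
universe u
open CategoryTheory CategoryTheory.Limits CategoryTheory.Pretriangulated MonoidalCategory
  HomologicalComplex DerivedCategory

attribute [local instance] HasDerivedCategory.standard

namespace Groth.Agent.Lib.Helper18.DR

namespace InvCx

variable {A : Type u} [CommRing A]

lemma not_isZero_H_unit [Nontrivial A] : ¬ IsZero ((H A 0).obj (Sg 0 (ModuleCat.of A A))) := by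
  intro hz
  have : IsZero (ModuleCat.of A A) := hz.of_iso (HSg 0 (ModuleCat.of A A)).symm
  haveI : Subsingleton A := ModuleCat.subsingleton_of_isZero this
  exact not_subsingleton A inferInstance

lemma isZero_H_unit (n : ℤ) (hn : n ≠ 0) : IsZero ((H A n).obj (Sg 0 (ModuleCat.of A A))) := by
  rcases lt_or_gt_of_ne hn with h | h
  · exact isZero_of_isGE (Sg 0 (ModuleCat.of A A)) 0 n h
  · exact isZero_of_isLE (Sg 0 (ModuleCat.of A A)) 0 n h

/-- S11182: invertible objects of `D(A)`, `A` local, are shifts of `A` -/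
theorem exists_iso_shift [IsLocalRing A] (L : Dual.D A) (E : DRing.Cx A)
    [DRing.HasLTensorCx A E]
    (hLfin : ∀ i : ℤ, Module.Finite A ((H A i).obj L))
    (hLbdd : ∃ b : ℤ, ∀ i : ℤ, b < i → IsZero ((H A i).obj L))
    (hEfin : ∀ i : ℤ, Module.Finite A ((H A i).obj (DRing.toD E)))
    (hEbdd : ∃ b : ℤ, ∀ i : ℤ, b < i → IsZero ((H A i).obj (DRing.toD E)))
    (e : (DRing.LTensorCx A E).obj L ≅ Sg 0 (ModuleCat.of A A)) :
    ∃ n : ℤ, Nonempty (L ≅ (Sg 0 (ModuleCat.of A A))⟦n⟧) ∧
      Nonempty (DRing.toD E ≅ (Sg 0 (ModuleCat.of A A))⟦(-n)⟧) := by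
  obtain ⟨bL, hbL⟩ := hLbdd
  obtain ⟨bE, hbE⟩ := hEbdd
  haveI : L.IsLE bL := (DerivedCategory.isLE_iff L bL).2 hbL
  haveI : (DRing.toD E).IsLE bE := (DerivedCategory.isLE_iff _ bE).2 hbE
  have hL0 : ¬ IsZero L := by
    intro hz
    haveI : L.IsLE (-bE - 1) :=
      (DerivedCategory.isLE_iff L _).2 (fun i _ => (H A i).map_isZero hz)
    obtain ⟨h1, -⟩ := topKunneth E L (-bE - 1) bE
    have : IsZero ((H A 0).obj ((DRing.LTensorCx A E).obj L)) :=
      isZero_of_isLE _ (-bE - 1 + bE) 0 (by omega)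
    exact not_isZero_H_unit (this.of_iso ((H A 0).mapIso e.symm))
  have hE0 : ¬ IsZero (DRing.toD E) := by
    intro hz
    haveI : (DRing.toD E).IsLE (-bL - 1) :=
      (DerivedCategory.isLE_iff _ _).2 (fun i _ => (H A i).map_isZero hz)
    obtain ⟨h1, -⟩ := topKunneth E L bL (-bL - 1)
    have : IsZero ((H A 0).obj ((DRing.LTensorCx A E).obj L)) :=
      isZero_of_isLE _ (bL + (-bL - 1)) 0 (by omega)
    exact not_isZero_H_unit (this.of_iso ((H A 0).mapIso e.symm))
  obtain ⟨a, -, haLE, haH⟩ := exists_top L bL hL0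
  obtain ⟨b, -, hbLE, hbH⟩ := exists_top (DRing.toD E) bE hE0
  haveI := haLE
  haveI := hbLE
  obtain ⟨hLE, ⟨k⟩⟩ := topKunneth E L a b
  haveI : Module.Finite A ((H A a).obj L) := hLfin a
  haveI : Module.Finite A ((H A b).obj (DRing.toD E)) := hEfin b
  haveI : Nontrivial ((H A a).obj L) := not_subsingleton_iff_nontrivial.1
    (fun hs => haH (ModuleCat.isZero_of_subsingleton _))
  haveI : Nontrivial ((H A b).obj (DRing.toD E)) := not_subsingleton_iff_nontrivial.1
    (fun hs => hbH (ModuleCat.isZero_of_subsingleton _))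
  haveI := nontrivial_tensor (R := A) ((H A a).obj L) ((H A b).obj (DRing.toD E))
  have hab : a + b = 0 := by
    by_contra hne
    have : IsZero ((H A (a + b)).obj ((DRing.LTensorCx A E).obj L)) :=
      (isZero_H_unit (a + b) hne).of_iso ((H A (a + b)).mapIso e)
    haveI := ModuleCat.subsingleton_of_isZero this
    exact not_subsingleton (TensorProduct A ((H A a).obj L) ((H A b).obj (DRing.toD E)))
      k.symm.toEquiv.subsingleton
  have kA : TensorProduct A ((H A a).obj L) ((H A b).obj (DRing.toD E)) ≃ₗ[A] A :=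
    k.symm.trans ((eqToIso (by rw [hab]) ≪≫ (H A 0).mapIso e ≪≫
      HSg 0 (ModuleCat.of A A)).toLinearEquiv)
  haveI : Module.Invertible A ((H A a).obj L) := Module.Invertible.left kA
  have hproj : Module.Projective A ((H A a).obj L) := inferInstance
  haveI : Module.Free A ((H A a).obj L) := inferInstance
  obtain ⟨eM⟩ := Module.Invertible.free_iff_linearEquiv.1
    (inferInstance : Module.Free A ((H A a).obj L))
  obtain ⟨C, N', i, r, p, hir, hC, ⟨eN⟩, hiso⟩ := exists_split_top L a hproj
  have hCz : IsZero C := by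
    by_contra hCz
    haveI := hC
    obtain ⟨a', ha'le, ha'LE, ha'H⟩ := exists_top C (a - 1) hCz
    haveI := ha'LE
    obtain ⟨-, ⟨k'⟩⟩ := topKunneth E C a' b
    have hsurj : Function.Surjective ((H A a').map r).hom := by
      intro x
      refine ⟨((H A a').map i).hom x, ?_⟩
      change ((H A a').map i ≫ (H A a').map r).hom x = x
      rw [← Functor.map_comp, hir, CategoryTheory.Functor.map_id]
      rfl
    haveI : Module.Finite A ((H A a').obj L) := hLfin a'
    haveI : Module.Finite A ((H A a').obj C) := Module.Finite.of_surjective _ hsurj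
    haveI : Nontrivial ((H A a').obj C) := not_subsingleton_iff_nontrivial.1
      (fun hs => ha'H (ModuleCat.isZero_of_subsingleton _))
    haveI := nontrivial_tensor (R := A) ((H A a').obj C) ((H A b).obj (DRing.toD E))
    have hz : IsZero ((H A (a' + b)).obj ((DRing.LTensorCx A E).obj L)) :=
      (isZero_H_unit (a' + b) (by omega)).of_iso ((H A (a' + b)).mapIso e)
    have hz' : IsZero ((H A (a' + b)).obj ((DRing.LTensorCx A E).obj C)) := by
      rw [IsZero.iff_id_eq_zero]
      have : 𝟙 ((H A (a' + b)).obj ((DRing.LTensorCx A E).obj C)) =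
          (H A (a' + b)).map ((DRing.LTensorCx A E).map i) ≫
            (H A (a' + b)).map ((DRing.LTensorCx A E).map r) := by
        rw [← Functor.map_comp, ← Functor.map_comp, hir, CategoryTheory.Functor.map_id, CategoryTheory.Functor.map_id]
      rw [this, hz.eq_of_tgt ((H A (a' + b)).map ((DRing.LTensorCx A E).map i)) 0, zero_comp]
    haveI := ModuleCat.subsingleton_of_isZero hz'
    exact not_subsingleton (TensorProduct A ((H A a').obj C) ((H A b).obj (DRing.toD E)))
      k'.symm.toEquiv.subsingleton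
  haveI := hiso hCz
  let eL : L ≅ Sg a (ModuleCat.of A A) :=
    asIso p ≪≫ (singleFunctor (ModuleCat.{u} A) a).mapIso (eN ≪≫ eM.toModuleIso)
  let eE : (DRing.toD E)⟦-a⟧ ≅ Sg 0 (ModuleCat.of A A) :=
    (LTensorCxSgIso E a).symm ≪≫ (DRing.LTensorCx A E).mapIso eL.symm ≪≫ e
  refine ⟨-a, ⟨eL ≪≫ (SgShiftIso (-a) a 0 (by omega) (ModuleCat.of A A)).symm⟩, ?_⟩
  rw [neg_neg]
  exact ⟨(shiftNegShift (DRing.toD E) a).symm ≪≫ (shiftFunctor (Dual.D A) a).mapIso eE⟩

end InvCx

end Groth.Agent.Lib.Helper18.DR
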