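import Mathlib
import Groth.Agent.Lib.Helper18.DegA
import Groth.Agent.Lib.Helper18.InvCxD
import Groth.Agent.S0365
import Groth.Agent.S0341

/-!
# The degree of a dualizing complex under a flat local homomorphism with Gorenstein closed fibre
(helper18)
-/

set_option autoImplicit false
set_option linter.style.haveILetI false
set_option linter.unusedSectionVars false
universe u
open CategoryTheory CategoryTheory.Limits CategoryTheory.Pretriangulated DerivedCategory

attribute [local instance] HasDerivedCategory.standard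

namespace Groth.Agent.Lib.Helper18.DR

namespace Deg

open HomLoc HomBC Bid MaxCrit Norm Uniq Dim TensorProduct FlatGor

section gor

variable (F : Type u) [CommRing F]

/-- for a Gorenstein local ring `F` of dimension `c`, `Ext^c(κ, F) ≠ 0` -/
theorem nontrivial_hom_self_of_gorenstein (hF : LocCoh.IsGorensteinLocalRing F) (c : ℕ)
    (hc : ringKrullDim F = (c : WithBot ℕ∞)) :
    haveI := hF
    Nontrivial (Dual.inD F (IsLocalRing.ResidueField F) ⟶
      (Sg 0 (ModuleCat.of F F))⟦(c : ℤ)⟧) := by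
  haveI := hF
  let ωF : Dual.D F := Sg 0 (ModuleCat.of F F)
  have hωF : Dual.IsDualizing F ωF := (Groth.Agent.S11179.result F).1 hF
  obtain ⟨n, hn, ⟨en⟩⟩ := exists_degree_residueField ωF hωF (IsLocalRing.maximalIdeal F)
  have hω' : Dual.IsDualizing F (ωF⟦n⟧) := InvTwist.isDualizing_shift ωF hωF n
  have hnorm : Dual.IsNormalized F (ωF⟦n⟧) := by
    intro i hi
    haveI h : Subsingleton (Dual.inD F (IsLocalRing.ResidueField F) ⟶ ωF⟦n + i⟧) :=
      hn (n + i) (by omega)
    exact ((shiftFunctorAdd' (Dual.D F) n i (n + i) rfl).app ωF).symm.homToEquiv.subsingleton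
  haveI hCM : LocCoh.IsCohenMacaulayLocalRing F := Groth.Agent.S0341.result F
  have hdepth : LocCoh.depth F F = (c : ℕ∞) := by
    have h1 := hCM.supportDim_eq_depth
    rw [Module.supportDim_self_eq_ringKrullDim, hc] at h1
    have h2 : ((c : ℕ∞) : WithBot ℕ∞) = ((LocCoh.depth F F : ℕ∞) : WithBot ℕ∞) := h1
    exact (WithBot.coe_injective h2).symm
  have h3 := ((Groth.Agent.S0365.result F (ωF⟦n⟧) hω' hnorm c).1 hdepth).2
  have hnc : n = (c : ℤ) := by
    by_contra hne
    have hz : IsZero ((H F (n - c)).obj ωF) := InvCx.isZero_H_unit (n - c) (by omega)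
    have hz' : IsZero ((H F (-(c : ℤ))).obj (ωF⟦n⟧)) :=
      hz.of_iso ((HShiftIso F n (-(c : ℤ)) (n - c) (by omega)).app ωF)
    haveI : Subsingleton (Dual.HD F (ωF⟦n⟧) (-(c : ℤ))) := ModuleCat.subsingleton_of_isZero hz'
    exact not_subsingleton _ ‹_›
  rw [← hnc]
  letI : Field (F ⧸ IsLocalRing.maximalIdeal F) := Ideal.Quotient.field _
  exact en.toEquiv.nontrivial

end gor

section main

variable {A B : Type u} [CommRing A] [CommRing B] [Algebra A B] [Module.Flat A B]
  [IsNoetherianRing A] [IsNoetherianRing B] [IsLocalRing A] [IsLocalRing B]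

/-- **degree formula**: for a flat local homomorphism `A → B` whose closed fibre `F` is Gorenstein of
dimension `c`, the degree of `ω ⊗_A B` at the closed point is the degree of `ω` plus `c` -/
theorem nontrivial_hom_extD_of_gorenstein_closedFibre (ω : Dual.D A) (hω : Dual.IsDualizing A ω)
    (d : ℤ) (hd : Nontrivial (Dual.inD A (IsLocalRing.ResidueField A) ⟶ ω⟦d⟧))
    (hF : LocCoh.IsGorensteinLocalRing
      (B ⧸ (IsLocalRing.maximalIdeal A).map (algebraMap A B))) (c : ℕ)
    (hc : ringKrullDim (B ⧸ (IsLocalRing.maximalIdeal A).map (algebraMap A B)) =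
      (c : WithBot ℕ∞)) :
    Nontrivial (Dual.inD B (IsLocalRing.ResidueField B) ⟶
      ((extD A B).obj ω)⟦d + (c : ℤ)⟧) := by
  let m := IsLocalRing.maximalIdeal A
  have hI : m.map (algebraMap A B) ≠ ⊤ := by
    haveI := hF
    exact Ideal.Quotient.nontrivial_iff.1 inferInstance
  haveI := isLocalRing_quot (m.map (algebraMap A B)) hI
  obtain ⟨eq⟩ := nonempty_hom_equiv_coext_quot ((extD A B).obj ω) (m.map (algebraMap A B)) hI
    (d + (c : ℤ))
  obtain ⟨e⟩ := nonempty_coext_extD_iso (B := B) ω hω d hd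
  let Fm : ModuleCat.{u} (B ⧸ m.map (algebraMap A B)) :=
    ModuleCat.of (B ⧸ m.map (algebraMap A B)) (B ⧸ m.map (algebraMap A B))
  let e2 : ((Shr.coextD (algebraMap B (B ⧸ m.map (algebraMap A B)))).obj
      ((extD A B).obj ω))⟦d + (c : ℤ)⟧ ≅ (Sg 0 Fm)⟦(c : ℤ)⟧ :=
    (shiftFunctor _ (d + (c : ℤ))).mapIso e ≪≫
      SgShiftIso (d + (c : ℤ)) (-(c : ℤ)) d (by omega) Fm ≪≫
      (SgShiftIso (c : ℤ) (-(c : ℤ)) 0 (by omega) Fm).symm
  have h5 := nontrivial_hom_self_of_gorenstein (B ⧸ m.map (algebraMap A B)) hF c hc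
  have h6 : Nontrivial (Dual.inD (B ⧸ m.map (algebraMap A B))
      (IsLocalRing.ResidueField (B ⧸ m.map (algebraMap A B))) ⟶
      ((Shr.coextD (algebraMap B (B ⧸ m.map (algebraMap A B)))).obj
        ((extD A B).obj ω))⟦d + (c : ℤ)⟧) :=
    (e2.homToEquiv (Z := Dual.inD (B ⧸ m.map (algebraMap A B))
      (IsLocalRing.ResidueField (B ⧸ m.map (algebraMap A B))))).nontrivial_congr.2 h5
  exact eq.nontrivial_congr.2 h6

end main

end Deg

end Groth.Agent.Lib.Helper18.DR
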