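import Mathlib
import Groth.Agent.Lib.Helper22.SmoothRelDim
import Groth.Agent.Lib.Helper20.RD1
import Groth.Agent.Lib.Helper12.QFPresc1
import Groth.Prelude.Def_FlatCA
import Groth.Agent.Lib.Helper24.ShrinkB

/-!
# Fibre dimension of a smooth ring map of relative dimension `n`, ring level (helper18)
-/

set_option autoImplicit false
set_option linter.style.haveILetI false
set_option linter.unusedSectionVars false
universe u
open CategoryTheory CategoryTheory.Limits AlgebraicGeometry TensorProduct

namespace Groth.Agent.Lib.Helper18.DR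

namespace Deg

open Groth.Agent.Lib.Helper12 Groth.Agent.Lib.Helper22.SmoothRelDim

/-- `ht + coht = n` at every prime of a finite type algebra over a field which is locally standard
smooth of relative dimension `n` -/
theorem height_add_coheight_of_locally (k F : Type u) [Field k] [CommRing F] [Algebra k F]
    [Algebra.FiniteType k F] (n : ℕ)
    (h : RingHom.Locally (RingHom.IsStandardSmoothOfRelativeDimension n) (algebraMap k F))
    (𝔮 : PrimeSpectrum F) : Order.height 𝔮 + Order.coheight 𝔮 = (n : ℕ∞) := by
  obtain ⟨s, hs, hP⟩ := h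
  obtain ⟨t, hts, htq⟩ : ∃ t ∈ s, t ∉ 𝔮.asIdeal := by
    by_contra hcon
    push_neg at hcon
    have h1 : Ideal.span s ≤ 𝔮.asIdeal := Ideal.span_le.2 hcon
    rw [hs] at h1
    exact 𝔮.2.ne_top (top_le_iff.1 h1)
  let Ft := Localization.Away t
  haveI hss : Algebra.IsStandardSmoothOfRelativeDimension n k Ft := by
    have h0 := hP t hts
    rw [← IsScalarTower.algebraMap_eq k F Ft] at h0
    exact (RingHom.isStandardSmoothOfRelativeDimension_algebraMap n).1 h0
  haveI : Algebra.FiniteType k Ft := by
    haveI : Algebra.IsStandardSmooth k Ft :=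
      Algebra.IsStandardSmoothOfRelativeDimension.isStandardSmooth n
    haveI : Algebra.FinitePresentation k Ft := inferInstance
    infer_instance
  have hemb := PrimeSpectrum.localization_away_isOpenEmbedding Ft t
  have hrange := PrimeSpectrum.localization_away_comap_range Ft t
  have hmem : 𝔮 ∈ Set.range (PrimeSpectrum.comap (algebraMap F Ft)) := by
    rw [hrange]
    exact htq
  obtain ⟨𝔮', h𝔮'⟩ := hmem
  have h1 := SchemeDimFT.localDim_eq_of_isOpenEmbedding _ hemb 𝔮'
  rw [h𝔮', DimFT2.localDim_primeSpectrum k Ft 𝔮', DimFT2.localDim_primeSpectrum k F 𝔮,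
    height_add_coheight_of_isStandardSmooth k n Ft 𝔮'] at h1
  exact (WithBot.coe_injective h1).symm

section smooth

open Groth.Agent.Lib.Helper20.RD Groth.Agent.Lib.Helper14.CMMod

variable (A B : Type u) [CommRing A] [CommRing B] [Algebra A B]

/-- the fibre ring of a smooth map of relative dimension `n` is locally standard smooth of relative
dimension `n` over the residue field -/
theorem locally_fiber_of_smoothRelDim (n : ℕ) (hs : FlatCA.SmoothRelDim n A B) (p : Ideal A)
    [p.IsPrime] :
    RingHom.Locally (RingHom.IsStandardSmoothOfRelativeDimension n)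
      (algebraMap p.ResidueField (p.Fiber B)) := by
  have hpo := CommRingCat.isPushout_tensorProduct A p.ResidueField B
  have hpb := isPullback_SpecMap_of_isPushout _ _ _ _ hpo
  haveI := smoothOfRelativeDimension_isStableUnderBaseChange n
  have h1 : SmoothOfRelativeDimension n (Spec.map (CommRingCat.ofHom
      (Algebra.TensorProduct.includeLeftRingHom :
        p.ResidueField →+* p.ResidueField ⊗[A] B))) :=
    MorphismProperty.of_isPullback (P := @SmoothOfRelativeDimension n) hpb.flip hs
  have h2 := (HasRingHomProperty.Spec_iff (P := @SmoothOfRelativeDimension n)).mp h1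
  have h3 : (Algebra.TensorProduct.includeLeftRingHom :
      p.ResidueField →+* p.ResidueField ⊗[A] B) = algebraMap p.ResidueField (p.Fiber B) := by
    ext x
    simp [Algebra.TensorProduct.algebraMap_apply]
  rw [← h3]
  exact h2

end smooth

section formula

open Groth.Agent.Lib.Helper20.RD Groth.Agent.Lib.Helper14.CMMod

variable (A B : Type u) [CommRing A] [CommRing B] [Algebra A B]

set_option maxHeartbeats 1000000 in
/-- **the dimension formula on the fibres of a smooth map of relative dimension `n`** -/
theorem fibLocRing_dim_add_trdeg_of_smooth (n : ℕ) (hs : FlatCA.SmoothRelDim n A B)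
    (P : Ideal B) [P.IsPrime] (p : Ideal A) [p.IsPrime] [P.LiesOver p] :
    ringKrullDim (EGA4.FibLocRing A B P) +
      ((Cardinal.toENat (Algebra.trdeg (A ⧸ p) (B ⧸ P)) : ℕ∞) : WithBot ℕ∞) =
      ((n : ℕ∞) : WithBot ℕ∞) := by
  have hr : P.comap (algebraMap A B) = p := (Ideal.LiesOver.over (p := p) (P := P)).symm
  obtain ⟨𝔮, h𝔮, h𝔮P⟩ := exists_fiber_prime A B p P hr
  haveI := h𝔮
  have htr := trdeg_fiber_prime A B p 𝔮 P h𝔮P _
    (isScalarTower_residueField_aux p.ResidueField (p.Fiber B) 𝔮)
  subst h𝔮P
  obtain ⟨e⟩ := nonempty_localization_fiber_equiv A B p 𝔮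
  rw [← ringKrullDim_eq_of_ringEquiv e]
  haveI : Algebra.FinitePresentation A B :=
    Groth.Agent.Lib.Helper24.Shrink.fp_of_smoothRelDim' n hs
  haveI : Algebra.FiniteType A B := inferInstance
  haveI : Algebra.FiniteType p.ResidueField (p.Fiber B) :=
    inferInstanceAs (Algebra.FiniteType p.ResidueField (p.ResidueField ⊗[A] B))
  have h1 := height_add_coheight_of_locally p.ResidueField (p.Fiber B) n
    (locally_fiber_of_smoothRelDim A B n hs p) ⟨𝔮, inferInstance⟩
  obtain ⟨m, hn1, -, hn3⟩ := DimFT2.exists_trdeg_residueField p.ResidueField (p.Fiber B) 𝔮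
  have h2 := PrimeSpectrum.height_eq_orderHeight (⟨𝔮, inferInstance⟩ : PrimeSpectrum _)
  change 𝔮.height = _ at h2
  have hn1' := htr.trans hn1
  rw [IsLocalization.AtPrime.ringKrullDim_eq_height 𝔮 (Localization.AtPrime 𝔮),
    h2, hn1', Cardinal.toENat_nat]
  rw [hn3] at h1
  exact_mod_cast congrArg (fun x : ℕ∞ => (x : WithBot ℕ∞)) h1

end formula

end Deg

end Groth.Agent.Lib.Helper18.DR
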