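import Mathlib
import Groth.Agent.Lib.Helper18.FlatGorD
import Groth.Agent.Lib.Helper4.GorLCI
import Groth.Agent.Lib.Helper1.KRegIdeal11

/-!
# Flat base change of dualizing complexes, V: flat lci and smooth maps (helper18)
-/

set_option autoImplicit false
set_option linter.style.haveILetI false
universe u
open CategoryTheory CategoryTheory.Limits CategoryTheory.Pretriangulated DerivedCategory

attribute [local instance] HasDerivedCategory.standard

namespace Groth.Agent.Lib.Helper18.DR

namespace FlatGor

open HomLoc HomBC Bid MaxCrit Norm Uniq Dim TensorProduct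

section lci

variable {A B : Type u} [CommRing A] [CommRing B] [Algebra A B] [IsNoetherianRing A]
  [IsNoetherianRing B] [Module.Flat A B]

/-- base change of a dualizing complex along a flat lci map is dualizing -/
theorem isDualizing_extD_of_isLCI (hl : LCI.IsLCI A B) (ω : Dual.D A)
    (hω : Dual.IsDualizing A ω) : Dual.IsDualizing B ((extD A B).obj ω) := by
  obtain ⟨hft, n, f, hf, hK⟩ := hl
  have hG : ∀ p : PrimeSpectrum A, LocCoh.IsGorensteinRing (B ⊗[A] p.asIdeal.ResidueField) :=
    fun p => Groth.Agent.Lib.Helper4.GorLCI.gorRing_tensor_of_flat_lci A n B f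
      p.asIdeal.ResidueField hf hK
  obtain ⟨ωB, hωB⟩ := exists_isDualizing_of_finiteType ω hω B hft
  exact isDualizing_extD_of_gorenstein_fibres (ringKrullDim_lt_top_of_dualizing ωB hωB) ω hω
    (fun q => gor_fibLocRing_of_tensor_residueField hG q)

end lci

section smooth

variable {A B : Type u} [CommRing A] [CommRing B] [Algebra A B] [IsNoetherianRing A]
  [Algebra.Smooth A B]

/-- **S11177**, in terms of flat base change -/
theorem isDualizing_extD_of_smooth (ω : Dual.D A) (hω : Dual.IsDualizing A ω) :
    Dual.IsDualizing B ((extD A B).obj ω) := by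
  haveI : Algebra.FiniteType A B := inferInstance
  haveI : IsNoetherianRing B := Algebra.FiniteType.isNoetherianRing A B
  exact isDualizing_extD_of_isLCI (Groth.Agent.Lib.Helper1.KRegIdeal.isLCI_of_smooth A B) ω hω

end smooth

end FlatGor

end Groth.Agent.Lib.Helper18.DR
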