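import Mathlib
import Groth.Agent.Lib.Helper18.DegB
import Groth.Agent.Lib.Helper18.DegC
import Groth.Agent.Lib.Helper18.FlatGorE

/-!
# The degree formula for the base change of a dualizing complex along a smooth map (helper18)
-/

set_option autoImplicit false
set_option linter.style.haveILetI false
set_option linter.unusedSectionVars false
universe u
open CategoryTheory CategoryTheory.Limits CategoryTheory.Pretriangulated DerivedCategory

attribute [local instance] HasDerivedCategory.standard

namespace Groth.Agent.Lib.Helper18.DR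

namespace Deg

open HomLoc HomBC Bid MaxCrit Norm Uniq Dim TensorProduct FlatGor

section trdeg

variable {A B : Type u} [CommRing A] [CommRing B] [Algebra A B]

/-- the transcendence degree of the residue field extension (with the algebra structure given by
`Ideal.ResidueField.mapₐ`) is that of the quotient domains -/
theorem trdeg_quot_eq_trdeg_mapₐ (p : Ideal A) [p.IsPrime] (q : Ideal B) [q.IsPrime]
    [hq : q.LiesOver p] :
    Algebra.trdeg (A ⧸ p) (B ⧸ q) =
      @Algebra.trdeg p.ResidueField q.ResidueField _ _
        (Ideal.ResidueField.mapₐ p q (Algebra.ofId A B) hq.over).toRingHom.toAlgebra := by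
  letI : Algebra p.ResidueField q.ResidueField :=
    (Ideal.ResidueField.mapₐ p q (Algebra.ofId A B) hq.over).toRingHom.toAlgebra
  refine Groth.Agent.Lib.Helper12.SchemeDimIneq.trdeg_quotient_eq_of_fractions
    (algebraMap A p.ResidueField) (algebraMap B q.ResidueField) ?_ p q
    (Ideal.ker_algebraMap_residueField p) (Ideal.ker_algebraMap_residueField q) ?_ ?_
  · intro a
    exact (Ideal.ResidueField.map_algebraMap p q (algebraMap A B) hq.over a).symm
  · intro z
    obtain ⟨r, a, ha, h⟩ := Groth.Agent.Lib.Helper12.RelNoether.exists_fraction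
      (⟨p, inferInstance⟩ : PrimeSpectrum A) z
    refine ⟨r, a, ?_, h⟩
    rwa [Ne, Ideal.algebraMap_residueField_eq_zero]
  · intro z
    obtain ⟨r, a, ha, h⟩ := Groth.Agent.Lib.Helper12.RelNoether.exists_fraction
      (⟨q, inferInstance⟩ : PrimeSpectrum B) z
    refine ⟨r, a, ?_, h⟩
    rwa [Ne, Ideal.algebraMap_residueField_eq_zero]

end trdeg

section main

open AlgebraicGeometry

variable (A B : Type u) [CommRing A] [CommRing B] [Algebra A B] [IsNoetherianRing A]

set_option maxHeartbeats 1000000 in
/-- **S11186**: the degree formula for `ω ⊗_A B` along a smooth map of relative dimension `n` -/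
theorem degree_formula_smooth (n : ℕ) (hs : FlatCA.SmoothRelDim n A B) (ω : Dual.D A)
    (hω : Dual.IsDualizing A ω) (p : Ideal A) [p.IsPrime] (q : Ideal B) [q.IsPrime]
    [hq : q.LiesOver p]
    [DRing.HasLBaseChange (algebraMap A (Localization.AtPrime p))]
    [DRing.HasLBaseChange (algebraMap A (Localization.AtPrime q))] (d : ℤ)
    (hd : Nontrivial (Dual.inD (Localization.AtPrime p) p.ResidueField ⟶
      ((DRing.LBaseChange (algebraMap A (Localization.AtPrime p))).obj ω)⟦d⟧))
    (t : ℕ)
    (ht : @Algebra.trdeg p.ResidueField q.ResidueField _ _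
      (Ideal.ResidueField.mapₐ p q (Algebra.ofId A B) hq.over).toRingHom.toAlgebra =
        (t : Cardinal.{u})) :
    Nontrivial (Dual.inD (Localization.AtPrime q) q.ResidueField ⟶
      ((DRing.LBaseChange (algebraMap A (Localization.AtPrime q))).obj ω)⟦(d - (t : ℤ) + (n : ℤ))⟧) := by
  haveI : Module.Flat A B := Groth.Agent.Lib.Helper24.Shrink.flat_of_smoothRelDim n hs
  haveI : Algebra.FinitePresentation A B :=
    Groth.Agent.Lib.Helper24.Shrink.fp_of_smoothRelDim' n hs
  haveI : Algebra.FiniteType A B := inferInstance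
  haveI : IsNoetherianRing B := Algebra.FiniteType.isNoetherianRing A B
  haveI hsm : Algebra.Smooth A B := by
    have h1 : AlgebraicGeometry.Smooth (Spec.map (CommRingCat.ofHom (algebraMap A B))) :=
      SmoothOfRelativeDimension.smooth n _
    have h3 := (HasRingHomProperty.Spec_iff (P := @AlgebraicGeometry.Smooth)).mp h1
    exact RingHom.smooth_algebraMap.1 h3
  letI := Localization.AtPrime.algebraOfLiesOver p q
  haveI : Module.Flat A (Localization.AtPrime q) := Module.Flat.trans A B (Localization.AtPrime q)
  obtain ⟨e1⟩ := nonempty_LBaseChange_iso_extD (A := A) (B := Localization.AtPrime p) ω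
  obtain ⟨e2⟩ := nonempty_LBaseChange_iso_extD (A := A) (B := Localization.AtPrime q) ω
  let i2 := (extDCompIso A (Localization.AtPrime p) (Localization.AtPrime q)).app ω
  have hp : Dual.IsDualizing (Localization.AtPrime p)
      ((extD A (Localization.AtPrime p)).obj ω) := isDualizing_locAt ω hω ⟨p, inferInstance⟩
  have hd' : Nontrivial (Dual.inD (Localization.AtPrime p)
      (IsLocalRing.ResidueField (Localization.AtPrime p)) ⟶
      ((extD A (Localization.AtPrime p)).obj ω)⟦d⟧) :=
    (((shiftFunctor _ d).mapIso e1).homToEquiv).symm.nontrivial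
  have hI : (IsLocalRing.maximalIdeal (Localization.AtPrime p)).map
      (algebraMap (Localization.AtPrime p) (Localization.AtPrime q)) =
      p.map (algebraMap A (Localization.AtPrime q)) := by
    rw [← Localization.AtPrime.map_eq_maximalIdeal, Ideal.map_map, ← IsScalarTower.algebraMap_eq]
  have hpq : q.comap (algebraMap A B) = p := hq.over.symm
  have hG : ∀ p : PrimeSpectrum A, LocCoh.IsGorensteinRing (B ⊗[A] p.asIdeal.ResidueField) := by
    obtain ⟨hft, m, f, hf, hK⟩ := Groth.Agent.Lib.Helper1.KRegIdeal.isLCI_of_smooth A B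
    exact fun p => Groth.Agent.Lib.Helper4.GorLCI.gorRing_tensor_of_flat_lci A m B f
      p.asIdeal.ResidueField hf hK
  have hfib : LocCoh.IsGorensteinLocalRing (EGA4.FibLocRing A B q) :=
    gor_fibLocRing_of_tensor_residueField hG ⟨q, inferInstance⟩
  have hFE : EGA4.FibLocRing A B q = (Localization.AtPrime q ⧸
      (IsLocalRing.maximalIdeal (Localization.AtPrime p)).map
        (algebraMap (Localization.AtPrime p) (Localization.AtPrime q))) := by
    rw [hI]
    change (Localization.AtPrime q ⧸ (q.comap (algebraMap A B)).map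
      (algebraMap A (Localization.AtPrime q))) = _
    rw [hpq]
  have hF : LocCoh.IsGorensteinLocalRing (Localization.AtPrime q ⧸
      (IsLocalRing.maximalIdeal (Localization.AtPrime p)).map
        (algebraMap (Localization.AtPrime p) (Localization.AtPrime q))) := by
    rw [hI, ← hpq]
    exact hfib
  -- dimension count
  have hdim := fibLocRing_dim_add_trdeg_of_smooth A B n hs q p
  rw [trdeg_quot_eq_trdeg_mapₐ p q, ht, Cardinal.toENat_nat] at hdim
  haveI : Nontrivial (EGA4.FibLocRing A B q) := by
    haveI := hfib
    infer_instance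
  obtain ⟨c, hc, hcn⟩ : ∃ c : ℕ, ringKrullDim (EGA4.FibLocRing A B q) = (c : WithBot ℕ∞) ∧
      c + t = n := by
    have hne : ringKrullDim (EGA4.FibLocRing A B q) ≠ ⊥ := ringKrullDim_ne_bot
    obtain ⟨x, hx⟩ := WithBot.ne_bot_iff_exists.1 hne
    rw [← hx] at hdim
    have h2 : x + (t : ℕ∞) = (n : ℕ∞) := by exact_mod_cast hdim
    have hxt : x ≠ ⊤ := by
      rintro rfl
      simp at h2
    obtain ⟨c, rfl⟩ := ENat.ne_top_iff_exists.1 hxt
    refine ⟨c, hx.symm, ?_⟩
    exact_mod_cast h2
  have hc' : ringKrullDim (Localization.AtPrime q ⧸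
      (IsLocalRing.maximalIdeal (Localization.AtPrime p)).map
        (algebraMap (Localization.AtPrime p) (Localization.AtPrime q))) = (c : WithBot ℕ∞) := by
    rw [hI, ← hpq]
    exact hc
  have h := nontrivial_hom_extD_of_gorenstein_closedFibre (A := Localization.AtPrime p)
    (B := Localization.AtPrime q) _ hp d hd' hF c hc'
  have hdc : d + (c : ℤ) = d - (t : ℤ) + (n : ℤ) := by
    have : (c : ℤ) + (t : ℤ) = (n : ℤ) := by exact_mod_cast hcn
    omega
  rw [hdc] at h
  haveI h' : Nontrivial (Dual.inD (Localization.AtPrime q) q.ResidueField ⟶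
      ((extD A (Localization.AtPrime p) ⋙
        extD (Localization.AtPrime p) (Localization.AtPrime q)).obj ω)⟦d - (t : ℤ) + (n : ℤ)⟧) := h
  exact (((shiftFunctor _ (d - (t : ℤ) + (n : ℤ))).mapIso (e2 ≪≫ i2)).homToEquiv).nontrivial

end main

end Deg

end Groth.Agent.Lib.Helper18.DR
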