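import Mathlib
import Groth.Agent.Lib.Helper18.DegB
import Groth.Agent.Lib.Helper18.FlatGorH

/-!
# Transfer of the dimension function of a dualizing complex along a flat map (helper18)
-/

set_option autoImplicit false
set_option linter.style.haveILetI false
set_option linter.unusedSectionVars false
universe u
open CategoryTheory CategoryTheory.Limits CategoryTheory.Pretriangulated DerivedCategory

attribute [local instance] HasDerivedCategory.standard

namespace Groth.Agent.Lib.Helper18.DR

namespace Deg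

open HomLoc HomBC Bid MaxCrit Norm Uniq Dim TensorProduct FlatGor

section transfer

variable {A : Type u} [CommRing A] [IsNoetherianRing A]

/-- `Ext_A(A/p, ω)_p ≠ 0` iff `Ext_{A_p}(κ(p), ω_p) ≠ 0`, with the residue field as source -/
lemma nontrivial_localizedModule_iff' (ω : Dual.D A) (n₀ : ℤ) [ω.IsGE n₀] (p : PrimeSpectrum A)
    (i : ℤ) :
    Nontrivial (LocalizedModule p.asIdeal.primeCompl
      (Dual.inD A (A ⧸ p.asIdeal) ⟶ ω⟦i⟧)) ↔
    Nontrivial (Dual.inD (Localization.AtPrime p.asIdeal)
      (IsLocalRing.ResidueField (Localization.AtPrime p.asIdeal)) ⟶ (locAt ω p)⟦i⟧) := by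
  rw [nontrivial_localizedModule_iff ω n₀ p i]
  exact (Iso.homFromEquiv (kapIso (A := Localization.AtPrime p.asIdeal))).nontrivial_congr

variable {B : Type u} [CommRing B] [Algebra A B] [Module.Flat A B] [IsNoetherianRing B]

set_option maxHeartbeats 1000000 in
/-- the dimension function of `ω ⊗_A B` at `q` is that of `ω` at `q ∩ A` minus the dimension of the
fibre local ring at `q` -/
theorem dimFun_extD (ω : Dual.D A) (hω : Dual.IsDualizing A ω)
    (h : Dual.IsDualizing B ((extD A B).obj ω))
    (δ : PrimeSpectrum A → ℤ)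
    (hδ : ∀ (p : PrimeSpectrum A) (i : ℤ), Nontrivial (LocalizedModule p.asIdeal.primeCompl
      (Dual.inD A (A ⧸ p.asIdeal) ⟶ ω⟦i⟧)) ↔ i = -δ p)
    (δ' : PrimeSpectrum B → ℤ)
    (hδ' : ∀ (q : PrimeSpectrum B) (i : ℤ), Nontrivial (LocalizedModule q.asIdeal.primeCompl
      (Dual.inD B (B ⧸ q.asIdeal) ⟶ ((extD A B).obj ω)⟦i⟧)) ↔ i = -δ' q)
    (q : PrimeSpectrum B) (c : ℕ)
    (hc : ringKrullDim (EGA4.FibLocRing A B q.asIdeal) = (c : WithBot ℕ∞)) :
    δ' q = δ (PrimeSpectrum.comap (algebraMap A B) q) - (c : ℤ) := by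
  obtain ⟨a, b, hab⟩ := hω.finite_injective_dimension
  have hfid : FidIn ω a b := hab
  haveI := hfid.isGE
  haveI : ((extD A B).obj ω).IsGE a := isGE_mapD (extM (A := A) (B := B)) ω a
  let p : Ideal A := q.asIdeal.under A
  haveI hpp : p.IsPrime := inferInstance
  haveI : q.asIdeal.LiesOver p := ⟨rfl⟩
  letI := Localization.AtPrime.algebraOfLiesOver p q.asIdeal
  haveI : Module.Flat A (Localization.AtPrime q.asIdeal) :=
    Module.Flat.trans A B (Localization.AtPrime q.asIdeal)
  let i1 := (extDCompIso A B (Localization.AtPrime q.asIdeal)).app ω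
  let i2 := (extDCompIso A (Localization.AtPrime p) (Localization.AtPrime q.asIdeal)).app ω
  have hp : Dual.IsDualizing (Localization.AtPrime p)
      ((extD A (Localization.AtPrime p)).obj ω) := isDualizing_locAt ω hω ⟨p, hpp⟩
  have hI : (IsLocalRing.maximalIdeal (Localization.AtPrime p)).map
      (algebraMap (Localization.AtPrime p) (Localization.AtPrime q.asIdeal)) =
      p.map (algebraMap A (Localization.AtPrime q.asIdeal)) := by
    rw [← Localization.AtPrime.map_eq_maximalIdeal, Ideal.map_map, ← IsScalarTower.algebraMap_eq]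
  have hfib := gor_fibLocRing_of_isDualizing_extD ω hω h q
  have hF : LocCoh.IsGorensteinLocalRing (Localization.AtPrime q.asIdeal ⧸
      (IsLocalRing.maximalIdeal (Localization.AtPrime p)).map
        (algebraMap (Localization.AtPrime p) (Localization.AtPrime q.asIdeal))) := by
    rw [hI]
    exact hfib
  have hc' : ringKrullDim (Localization.AtPrime q.asIdeal ⧸
      (IsLocalRing.maximalIdeal (Localization.AtPrime p)).map
        (algebraMap (Localization.AtPrime p) (Localization.AtPrime q.asIdeal))) =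
      (c : WithBot ℕ∞) := by
    rw [hI]
    exact hc
  have hd : Nontrivial (Dual.inD (Localization.AtPrime p)
      (IsLocalRing.ResidueField (Localization.AtPrime p)) ⟶
      ((extD A (Localization.AtPrime p)).obj ω)⟦-δ ⟨p, hpp⟩⟧) :=
    (nontrivial_localizedModule_iff' ω a ⟨p, hpp⟩ _).1 ((hδ ⟨p, hpp⟩ _).2 rfl)
  have h1 := nontrivial_hom_extD_of_gorenstein_closedFibre (A := Localization.AtPrime p)
    (B := Localization.AtPrime q.asIdeal) _ hp _ hd hF c hc'
  haveI h1' : Nontrivial (Dual.inD (Localization.AtPrime q.asIdeal)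
      (IsLocalRing.ResidueField (Localization.AtPrime q.asIdeal)) ⟶
      ((extD A (Localization.AtPrime p) ⋙
        extD (Localization.AtPrime p) (Localization.AtPrime q.asIdeal)).obj ω)⟦-δ ⟨p, hpp⟩ +
          (c : ℤ)⟧) := h1
  have h2 : Nontrivial (Dual.inD (Localization.AtPrime q.asIdeal)
      (IsLocalRing.ResidueField (Localization.AtPrime q.asIdeal)) ⟶
      (locAt ((extD A B).obj ω) q)⟦-δ ⟨p, hpp⟩ + (c : ℤ)⟧) :=
    (((shiftFunctor _ (-δ ⟨p, hpp⟩ + (c : ℤ))).mapIso (i1.symm ≪≫ i2)).homToEquiv).nontrivial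
  have h3 := (hδ' q _).1 ((nontrivial_localizedModule_iff' ((extD A B).obj ω) a q _).2 h2)
  have h4 : (PrimeSpectrum.comap (algebraMap A B) q) = ⟨p, hpp⟩ := rfl
  rw [h4]
  omega

end transfer

end Deg

end Groth.Agent.Lib.Helper18.DR
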