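import Mathlib
import Groth.Agent.Lib.Helper18.DegE
import Groth.Agent.Lib.Helper4.FlatRing
import Groth.Agent.S0341

/-!
# Depth of a localized base change along a flat map with Gorenstein fibres (helper18)
-/

set_option autoImplicit false
set_option linter.style.haveILetI false
set_option linter.unusedSectionVars false
universe u
open CategoryTheory CategoryTheory.Limits

namespace Groth.Agent.Lib.Helper18.DR

namespace Deg

open TensorProduct

section moduleIso

variable {A B : Type u} [CommRing A] [CommRing B] [Algebra A B] (M : Type u) [AddCommGroup M]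
  [Module A M] (M' : Type u) [AddCommGroup M'] [Module B M'] (e : B ⊗[A] M ≃ₗ[B] M')
  (q : Ideal B) [q.IsPrime] (p : Ideal A) [p.IsPrime] [q.LiesOver p]
  [Algebra (Localization.AtPrime p) (Localization.AtPrime q)]
  [Localization.AtPrime.IsLiesOverAlgebra p q]

/-- `(B ⊗_A M)_q ≅ B_q ⊗_{A_p} M_p` -/
noncomputable def localizedModuleEquivTensor :
    LocalizedModule q.primeCompl M' ≃ₗ[Localization.AtPrime q]
      (Localization.AtPrime q ⊗[Localization.AtPrime p] LocalizedModule p.primeCompl M) :=
  let e1 : LocalizedModule q.primeCompl M' ≃ₗ[Localization.AtPrime q]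
      Localization.AtPrime q ⊗[B] M' := LocalizedModule.equivTensorProduct q.primeCompl M'
  let e2 : Localization.AtPrime q ⊗[B] M' ≃ₗ[Localization.AtPrime q]
      Localization.AtPrime q ⊗[B] (B ⊗[A] M) :=
    TensorProduct.AlgebraTensorModule.congr (LinearEquiv.refl _ _) e.symm
  let e3 : Localization.AtPrime q ⊗[B] (B ⊗[A] M) ≃ₗ[Localization.AtPrime q]
      Localization.AtPrime q ⊗[A] M :=
    TensorProduct.AlgebraTensorModule.cancelBaseChange A B (Localization.AtPrime q)
      (Localization.AtPrime q) M
  let e4 : Localization.AtPrime q ⊗[Localization.AtPrime p] LocalizedModule p.primeCompl M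
      ≃ₗ[Localization.AtPrime q]
      Localization.AtPrime q ⊗[Localization.AtPrime p] (Localization.AtPrime p ⊗[A] M) :=
    TensorProduct.AlgebraTensorModule.congr (LinearEquiv.refl _ _)
      (LocalizedModule.equivTensorProduct p.primeCompl M)
  let e5 : Localization.AtPrime q ⊗[Localization.AtPrime p] (Localization.AtPrime p ⊗[A] M)
      ≃ₗ[Localization.AtPrime q] Localization.AtPrime q ⊗[A] M :=
    TensorProduct.AlgebraTensorModule.cancelBaseChange A (Localization.AtPrime p)
      (Localization.AtPrime q) (Localization.AtPrime q) M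
  e1 ≪≫ₗ e2 ≪≫ₗ e3 ≪≫ₗ e5.symm ≪≫ₗ e4.symm

end moduleIso

section depth

variable {A B : Type u} [CommRing A] [CommRing B] [Algebra A B] [Module.Flat A B]
  [IsNoetherianRing A] [IsNoetherianRing B]

set_option maxHeartbeats 1000000 in
/-- depth of `(B ⊗_A M)_q` over `B_q` is the depth of `M_p` over `A_p` plus the dimension of the
(Gorenstein) fibre local ring -/
theorem depth_localized_baseChange (M : Type u) [AddCommGroup M] [Module A M] [Module.Finite A M]
    (M' : Type u) [AddCommGroup M'] [Module B M'] (e : B ⊗[A] M ≃ₗ[B] M')
    (q : Ideal B) [q.IsPrime] (c : ℕ)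
    (hG : LocCoh.IsGorensteinLocalRing (EGA4.FibLocRing A B q))
    (hc : ringKrullDim (EGA4.FibLocRing A B q) = (c : WithBot ℕ∞)) :
    LocCoh.depth (Localization.AtPrime q) (LocalizedModule q.primeCompl M') =
      LocCoh.depth (Localization.AtPrime (q.comap (algebraMap A B)))
        (LocalizedModule (q.comap (algebraMap A B)).primeCompl M) + (c : ℕ∞) := by
  let p : Ideal A := q.under A
  haveI hpp : p.IsPrime := inferInstance
  haveI : q.LiesOver p := ⟨rfl⟩
  letI := Localization.AtPrime.algebraOfLiesOver p q
  haveI : IsLocalHom (algebraMap (Localization.AtPrime p) (Localization.AtPrime q)) := by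
    rw [Localization.AtPrime.IsLiesOverAlgebra.algebraMap_eq (p := p) (P := q)]
    infer_instance
  have hI : (IsLocalRing.maximalIdeal (Localization.AtPrime p)).map
      (algebraMap (Localization.AtPrime p) (Localization.AtPrime q)) =
      p.map (algebraMap A (Localization.AtPrime q)) := by
    rw [← Localization.AtPrime.map_eq_maximalIdeal, Ideal.map_map, ← IsScalarTower.algebraMap_eq]
  have hF : LocCoh.IsGorensteinLocalRing (Localization.AtPrime q ⧸
      (IsLocalRing.maximalIdeal (Localization.AtPrime p)).map
        (algebraMap (Localization.AtPrime p) (Localization.AtPrime q))) := by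
    rw [hI]
    exact hG
  have hc' : ringKrullDim (Localization.AtPrime q ⧸
      (IsLocalRing.maximalIdeal (Localization.AtPrime p)).map
        (algebraMap (Localization.AtPrime p) (Localization.AtPrime q))) =
      (c : WithBot ℕ∞) := by
    rw [hI]
    exact hc
  haveI : IsLocalRing (Localization.AtPrime q ⧸
      (IsLocalRing.maximalIdeal (Localization.AtPrime p)).map
        (algebraMap (Localization.AtPrime p) (Localization.AtPrime q))) := hF.toIsLocalRing
  have h1 := Groth.Agent.Lib.Helper4.depth_tensor_eq (R := Localization.AtPrime p)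
    (S := Localization.AtPrime q) (LocalizedModule p.primeCompl M) (Localization.AtPrime q)
  have h2 := Groth.Agent.Lib.Helper4.FlatRing.depth_quotient_ring
    ((IsLocalRing.maximalIdeal (Localization.AtPrime p)).map
        (algebraMap (Localization.AtPrime p) (Localization.AtPrime q)))
  have h3 := (@Groth.Agent.S0341.result _ _ hF).supportDim_eq_depth
  rw [Module.supportDim_self_eq_ringKrullDim, hc'] at h3
  have h4 : LocCoh.depth (Localization.AtPrime q ⧸
      (IsLocalRing.maximalIdeal (Localization.AtPrime p)).map
        (algebraMap (Localization.AtPrime p) (Localization.AtPrime q)))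
      (Localization.AtPrime q ⧸
      (IsLocalRing.maximalIdeal (Localization.AtPrime p)).map
        (algebraMap (Localization.AtPrime p) (Localization.AtPrime q))) = (c : ℕ∞) := by
    have : ((c : ℕ∞) : WithBot ℕ∞) = ((LocCoh.depth _ _ : ℕ∞) : WithBot ℕ∞) := h3
    exact (WithBot.coe_injective this).symm
  have h5 := Groth.Agent.Lib.Helper4.idealDepth_congr
    (IsLocalRing.maximalIdeal (Localization.AtPrime q))
    (localizedModuleEquivTensor M M' e q p)
  change LocCoh.idealDepth _ _ = _
  rw [h5]
  change LocCoh.depth (Localization.AtPrime q) _ = _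
  rw [h1, h2, h4]

end depth

end Deg

end Groth.Agent.Lib.Helper18.DR
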