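import Mathlib
import Groth.Agent.Lib.Helper18.MaxCrit4

/-!
# Flat base change of dualizing complexes: applications (helper18)
-/

set_option autoImplicit false
set_option linter.style.haveILetI false
universe u
open CategoryTheory CategoryTheory.Limits CategoryTheory.Pretriangulated DerivedCategory
open TensorProduct

attribute [local instance] HasDerivedCategory.standard

namespace Groth.Agent.Lib.Helper18.DR

namespace MaxCrit

open HomLoc HomBC

section ideal

variable {A B : Type u} [CommRing A] [CommRing B] [Algebra A B]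

/-- if `A → B/IB` is surjective and `IB` lies in the radical, every maximal ideal of `B` is
extended from `A` -/
lemma exists_map_eq_of_surj (I : Ideal A)
    (hs : ∀ y : B, ∃ a : A, y - algebraMap A B a ∈ I.map (algebraMap A B))
    (hJ : I.map (algebraMap A B) ≤ (⊥ : Ideal B).jacobson) (m' : Ideal B) (hm' : m'.IsMaximal) :
    ∃ m : Ideal A, m.map (algebraMap A B) = m' := by
  have hIm' : I.map (algebraMap A B) ≤ m' := hJ.trans (sInf_le ⟨bot_le, hm'⟩)
  refine ⟨m'.comap (algebraMap A B), le_antisymm Ideal.map_comap_le ?_⟩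
  intro y hy
  obtain ⟨a, ha⟩ := hs y
  have ha' : algebraMap A B a ∈ m' := by
    have := m'.sub_mem hy (hIm' ha)
    simpa using this
  have h1 : algebraMap A B a ∈ (m'.comap (algebraMap A B)).map (algebraMap A B) :=
    Ideal.mem_map_of_mem _ ha'
  have h2 : I.map (algebraMap A B) ≤ (m'.comap (algebraMap A B)).map (algebraMap A B) :=
    Ideal.map_mono (Ideal.map_le_iff_le_comap.1 hIm')
  have h3 : y = (y - algebraMap A B a) + algebraMap A B a := by ring
  rw [h3]
  exact Ideal.add_mem _ (h2 ha) h1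

end ideal

section quot

variable {A B : Type u} [CommRing A] [CommRing B] [Algebra A B] [Module.Flat A B]
  [IsNoetherianRing A]

/-- vanishing of `Ext^i(A/m, ω)` passes to `Ext^i(B/mB, ω_B)` -/
lemma subsingleton_hom_quot_extD (ω : Dual.D A) (a : ℤ) [ω.IsGE a] (m : Ideal A) (i : ℤ)
    (hs : Subsingleton (Sg 0 (ModuleCat.of A (A ⧸ m)) ⟶ ω⟦i⟧)) :
    Subsingleton (Sg 0 (ModuleCat.of B (B ⧸ m.map (algebraMap A B))) ⟶
      ((extD A B).obj ω)⟦i⟧) := by
  let M : ModuleCat.{u} A := ModuleCat.of A (A ⧸ m)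
  haveI : (ω⟦i⟧).IsGE (a - i) := TStructure.t.isGE_shift ω a i (a - i) (by omega)
  have hbc : BCProp (B := B) (ω⟦i⟧) (Sg 0 M) :=
    bcProp_of_isPseudoCoherent' (a - i) _ (isPseudoCoherent'_Sg_of_finite M 0)
  have hs' := subsingleton_hom_extD_of_bcProp hbc hs
  let σ : (extD A B).obj (Sg 0 M) ≅ Sg 0 (ModuleCat.of B (B ⧸ m.map (algebraMap A B))) :=
    mapDSgIso (extM (A := A) (B := B)) 0 M ≪≫
      (singleFunctor (ModuleCat.{u} B) 0).mapIso (extMQuotIso m)
  let c := ((extD A B).commShiftIso i).app ω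
  exact ⟨fun x y => by
    rw [← cancel_epi σ.hom, ← cancel_mono c.inv]
    exact hs'.elim _ _⟩

end quot

section lbc

variable {A B : Type u} [CommRing A] [CommRing B] [Algebra A B] [Module.Flat A B]
  [IsNoetherianRing A] [IsNoetherianRing B] [DRing.HasLBaseChange (algebraMap A B)]

theorem isDualizing_LBaseChange_of_maximal_map (ω : Dual.D A) (hω : Dual.IsDualizing A ω)
    (hmax : ∀ m' : Ideal B, m'.IsMaximal → ∃ m : Ideal A, m.map (algebraMap A B) = m') :
    Dual.IsDualizing B ((DRing.LBaseChange (algebraMap A B)).obj ω) := by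
  obtain ⟨e⟩ := nonempty_LBaseChange_iso_extD (A := A) (B := B) ω
  exact isDualizing_of_iso e.symm (isDualizing_extD_of_maximal_map ω hω hmax)

end lbc

end MaxCrit

end Groth.Agent.Lib.Helper18.DR
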