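import Mathlib
import Groth.Agent.Lib.Helper18.FlatGorH
import Groth.Agent.Lib.Helper18.MaxCrit5
import Groth.Agent.S0543

/-!
# Formal fibres of a local ring with a dualizing complex are Gorenstein (helper18)
-/

set_option autoImplicit false
set_option linter.style.haveILetI false
universe u
open CategoryTheory CategoryTheory.Limits CategoryTheory.Pretriangulated DerivedCategory

attribute [local instance] HasDerivedCategory.standard

namespace Groth.Agent.Lib.Helper18.DR

namespace FlatGor

open HomLoc HomBC Bid MaxCrit Norm Uniq Dim TensorProduct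

section completion

variable {A : Type u} [CommRing A] [IsNoetherianRing A]

/-- the completion of a dualizing complex is dualizing (S1779 in terms of flat base change) -/
theorem isDualizing_extD_adicCompletion (I : Ideal A) (ω : Dual.D A) (hω : Dual.IsDualizing A ω) :
    haveI : IsNoetherianRing (AdicCompletion I A) := Groth.Agent.S0543.result A I
    Dual.IsDualizing (AdicCompletion I A) ((extD A (AdicCompletion I A)).obj ω) := by
  haveI : IsNoetherianRing (AdicCompletion I A) := Groth.Agent.S0543.result A I
  have fg : I.FG := IsNoetherian.noetherian I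
  haveI : IsAdicComplete (I.map (algebraMap A (AdicCompletion I A))) (AdicCompletion I A) :=
    AdicCompletion.isAdicComplete_self I fg
  refine MaxCrit.isDualizing_extD_of_maximal_map ω hω
    (MaxCrit.exists_map_eq_of_surj I (fun y => ?_) (IsAdicComplete.le_jacobson_bot _))
  obtain ⟨a, ha⟩ := Ideal.Quotient.mk_surjective (AdicCompletion.evalOneₐ I y)
  refine ⟨a, ?_⟩
  rw [← AdicCompletion.ker_evalOneₐ_eq_map I fg, RingHom.mem_ker]
  change AdicCompletion.evalOneₐ I (y - algebraMap A (AdicCompletion I A) a) = 0
  rw [map_sub, sub_eq_zero, AlgHom.commutes, ← ha]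
  rfl

/-- **S1723** -/
theorem isGorensteinRing_formalFibre [IsLocalRing A] (ω : Dual.D A) (hω : Dual.IsDualizing A ω)
    (p : PrimeSpectrum A) : LocCoh.IsGorensteinRing (EGA4.formalFibre A p.asIdeal) := by
  haveI : IsNoetherianRing (AdicCompletion (IsLocalRing.maximalIdeal A) A) :=
    Groth.Agent.S0543.result A _
  have h := isDualizing_extD_adicCompletion (IsLocalRing.maximalIdeal A) ω hω
  change LocCoh.IsGorensteinRing (p.asIdeal.Fiber (AdicCompletion (IsLocalRing.maximalIdeal A) A))
  rw [Groth.Agent.Lib.Helper4.GorFibre.isGorensteinRing_fiber_iff A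
    (AdicCompletion (IsLocalRing.maximalIdeal A) A) p.asIdeal]
  intro r hr _
  exact gor_fibLocRing_of_isDualizing_extD ω hω h ⟨r, hr⟩

end completion

end FlatGor

end Groth.Agent.Lib.Helper18.DR
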