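import Mathlib
import Groth.Agent.Lib.Helper18.DegF
import Groth.Agent.Lib.Helper18.FlatGorI
import Groth.Agent.Lib.Helper20.FaltDim
import Groth.Agent.S0543

/-!
# Depth and intervals of primes under `I`-adic completion (S1714) (helper18)
-/

set_option autoImplicit false
set_option linter.style.haveILetI false
set_option linter.unusedSectionVars false
universe u
open CategoryTheory CategoryTheory.Limits CategoryTheory.Pretriangulated DerivedCategory

attribute [local instance] HasDerivedCategory.standard

namespace Groth.Agent.Lib.Helper18.DR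

namespace Deg

open HomLoc HomBC Bid MaxCrit Norm Uniq Dim TensorProduct FlatGor

section completion

variable {A : Type u} [CommRing A] [IsNoetherianRing A] (I : Ideal A)

lemma exists_sub_mem_map (y : AdicCompletion I A) :
    ∃ a : A, y - algebraMap A (AdicCompletion I A) a ∈ I.map (algebraMap A (AdicCompletion I A)) := by
  have fg : I.FG := IsNoetherian.noetherian I
  obtain ⟨a, ha⟩ := Ideal.Quotient.mk_surjective (AdicCompletion.evalOneₐ I y)
  refine ⟨a, ?_⟩
  rw [← AdicCompletion.ker_evalOneₐ_eq_map I fg, RingHom.mem_ker]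
  change AdicCompletion.evalOneₐ I (y - algebraMap A (AdicCompletion I A) a) = 0
  rw [map_sub, sub_eq_zero, AlgHom.commutes, ← ha]
  rfl

/-- a prime of the completion containing `I` is extended from its contraction -/
lemma map_comap_eq_of_le (q' : Ideal (AdicCompletion I A)) [q'.IsPrime]
    (hq : I.map (algebraMap A (AdicCompletion I A)) ≤ q') :
    (q'.comap (algebraMap A (AdicCompletion I A))).map (algebraMap A (AdicCompletion I A)) = q' := by
  apply le_antisymm Ideal.map_comap_le
  intro x hx
  obtain ⟨a, ha⟩ := exists_sub_mem_map I x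
  have haq : algebraMap A (AdicCompletion I A) a ∈ q' := by
    have := q'.sub_mem hx (hq ha)
    simpa using this
  have hIq : I ≤ q'.comap (algebraMap A (AdicCompletion I A)) := Ideal.map_le_iff_le_comap.1 hq
  have h1 : algebraMap A (AdicCompletion I A) a ∈
      (q'.comap (algebraMap A (AdicCompletion I A))).map (algebraMap A (AdicCompletion I A)) :=
    Ideal.mem_map_of_mem _ haq
  have h2 : x - algebraMap A (AdicCompletion I A) a ∈
      (q'.comap (algebraMap A (AdicCompletion I A))).map (algebraMap A (AdicCompletion I A)) :=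
    Ideal.map_mono hIq ha
  have := Ideal.add_mem _ h2 h1
  simpa using this

/-- the fibre local ring of the completion at a prime containing `I` is a field -/
lemma ringKrullDim_fibLocRing_eq_zero (q' : Ideal (AdicCompletion I A)) [q'.IsPrime]
    (hq : I.map (algebraMap A (AdicCompletion I A)) ≤ q') :
    ringKrullDim (EGA4.FibLocRing A (AdicCompletion I A) q') = 0 := by
  have h1 : (q'.comap (algebraMap A (AdicCompletion I A))).map
      (algebraMap A (Localization.AtPrime q')) =
      IsLocalRing.maximalIdeal (Localization.AtPrime q') := by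
    rw [IsScalarTower.algebraMap_eq A (AdicCompletion I A) (Localization.AtPrime q'),
      ← Ideal.map_map, map_comap_eq_of_le I q' hq, Localization.AtPrime.map_eq_maximalIdeal]
  change ringKrullDim (Localization.AtPrime q' ⧸ _) = 0
  rw [h1]
  letI : Field (Localization.AtPrime q' ⧸ IsLocalRing.maximalIdeal (Localization.AtPrime q')) :=
    Ideal.Quotient.field _
  exact ringKrullDim_eq_zero_of_field _

end completion

section main

open Groth.Agent.Lib.Helper20.FaltLoc

set_option maxHeartbeats 1000000 in
/-- **S1714** -/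
theorem depth_completion_formula (A : Type u) [CommRing A] [IsNoetherianRing A]
    (hA : ∃ ω : Dual.D A, Dual.IsDualizing A ω) (I : Ideal A) (M : Type u) [AddCommGroup M]
    [Module A M] [Module.Finite A M] (p' q' : PrimeSpectrum (AdicCompletion I A)) (hpq : p' ≤ q')
    (hq : Ideal.map (algebraMap A (AdicCompletion I A)) I ≤ q'.asIdeal) :
    LocCoh.depth (Localization.AtPrime (p'.asIdeal.comap (algebraMap A (AdicCompletion I A))))
      (LocalizedModule (p'.asIdeal.comap (algebraMap A (AdicCompletion I A))).primeCompl M) ≤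
      LocCoh.depth (Localization.AtPrime p'.asIdeal)
        (LocalizedModule p'.asIdeal.primeCompl (AdicCompletion I M)) ∧
    ((LocCoh.depth (Localization.AtPrime p'.asIdeal)
      (LocalizedModule p'.asIdeal.primeCompl (AdicCompletion I M)) : ℕ∞) : WithBot ℕ∞) +
        Order.krullDim (Set.Icc p' q') =
      ((LocCoh.depth (Localization.AtPrime (p'.asIdeal.comap (algebraMap A (AdicCompletion I A))))
        (LocalizedModule (p'.asIdeal.comap (algebraMap A (AdicCompletion I A))).primeCompl M) : ℕ∞) :
          WithBot ℕ∞) +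
        Order.krullDim (Set.Icc ((PrimeSpectrum.comap (algebraMap A (AdicCompletion I A))) p')
          ((PrimeSpectrum.comap (algebraMap A (AdicCompletion I A))) q')) := by
  obtain ⟨ω, hω⟩ := hA
  haveI : IsNoetherianRing (AdicCompletion I A) := Groth.Agent.S0543.result A I
  have hω' := isDualizing_extD_adicCompletion I ω hω
  obtain ⟨δ, hδ, hδc⟩ := exists_dimension_function ω hω
  obtain ⟨δ', hδ', hδc'⟩ := exists_dimension_function _ hω'
  have hGp := gor_fibLocRing_of_isDualizing_extD ω hω hω' p'
  obtain ⟨c, hc⟩ : ∃ c : ℕ, ringKrullDim (EGA4.FibLocRing A (AdicCompletion I A) p'.asIdeal) =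
      (c : WithBot ℕ∞) := by
    haveI := hGp
    have hne : ringKrullDim (EGA4.FibLocRing A (AdicCompletion I A) p'.asIdeal) ≠ ⊥ :=
      ringKrullDim_ne_bot
    have hnt : ringKrullDim (EGA4.FibLocRing A (AdicCompletion I A) p'.asIdeal) ≠ ⊤ :=
      ringKrullDim_ne_top
    obtain ⟨x, hx⟩ := WithBot.ne_bot_iff_exists.1 hne
    have hxt : x ≠ ⊤ := by
      rintro rfl
      exact hnt hx.symm
    obtain ⟨c, rfl⟩ := ENat.ne_top_iff_exists.1 hxt
    exact ⟨c, hx.symm⟩
  have e1 := dimFun_extD ω hω hω' δ hδ δ' hδ' p' c hc
  have e2 := dimFun_extD ω hω hω' δ hδ δ' hδ' q' 0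
    (by simpa using ringKrullDim_fibLocRing_eq_zero I q'.asIdeal hq)
  have hdepth := depth_localized_baseChange M (AdicCompletion I M)
    (AdicCompletion.ofTensorProductEquivOfFiniteNoetherian I M) p'.asIdeal c hGp hc
  obtain ⟨h0', hk'⟩ := krullDim_Icc_eq δ' hδc' p' q' hpq
  obtain ⟨h0, hk⟩ := krullDim_Icc_eq δ hδc (PrimeSpectrum.comap (algebraMap A (AdicCompletion I A)) p')
    (PrimeSpectrum.comap (algebraMap A (AdicCompletion I A)) q')
    (Ideal.comap_mono (f := algebraMap A (AdicCompletion I A)) hpq)
  rw [hk', hk, hdepth]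
  refine ⟨le_self_add, ?_⟩
  have hnat : (δ (PrimeSpectrum.comap (algebraMap A (AdicCompletion I A)) p') -
      δ (PrimeSpectrum.comap (algebraMap A (AdicCompletion I A)) q')).toNat =
      c + (δ' p' - δ' q').toNat := by
    push_cast at e2
    omega
  rw [hnat]
  push_cast
  rw [add_assoc]

end main

end Deg

end Groth.Agent.Lib.Helper18.DR
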