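import Mathlib
import Groth.Agent.Lib.Helper18.DegG

/-!
# Depth and intervals of primes under a flat map with dualizing base change (helper18)
-/

set_option autoImplicit false
set_option linter.style.haveILetI false
set_option linter.unusedSectionVars false
universe u
open CategoryTheory CategoryTheory.Limits CategoryTheory.Pretriangulated DerivedCategory

attribute [local instance] HasDerivedCategory.standard

namespace Groth.Agent.Lib.Helper18.DR

namespace Deg

open HomLoc HomBC Bid MaxCrit Norm Uniq Dim TensorProduct FlatGor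

section general

open Groth.Agent.Lib.Helper20.FaltLoc

variable {A B : Type u} [CommRing A] [CommRing B] [Algebra A B] [Module.Flat A B]
  [IsNoetherianRing A] [IsNoetherianRing B]

set_option maxHeartbeats 1000000 in
/-- general form of S1714: `A → B` flat with `ω` and `ω ⊗_A B` dualizing, `p' ⊆ q'` primes of `B`
such that the fibre local ring at `q'` has dimension zero -/
theorem depth_formula_of_flat (ω : Dual.D A) (hω : Dual.IsDualizing A ω)
    (hω' : Dual.IsDualizing B ((extD A B).obj ω))
    (M : Type u) [AddCommGroup M] [Module A M] [Module.Finite A M]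
    (M' : Type u) [AddCommGroup M'] [Module B M'] (e : B ⊗[A] M ≃ₗ[B] M')
    (p' q' : PrimeSpectrum B) (hpq : p' ≤ q')
    (hq0 : ringKrullDim (EGA4.FibLocRing A B q'.asIdeal) = 0) :
    LocCoh.depth (Localization.AtPrime (p'.asIdeal.comap (algebraMap A B)))
      (LocalizedModule (p'.asIdeal.comap (algebraMap A B)).primeCompl M) ≤
      LocCoh.depth (Localization.AtPrime p'.asIdeal) (LocalizedModule p'.asIdeal.primeCompl M') ∧
    ((LocCoh.depth (Localization.AtPrime p'.asIdeal)
      (LocalizedModule p'.asIdeal.primeCompl M') : ℕ∞) : WithBot ℕ∞) +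
        Order.krullDim (Set.Icc p' q') =
      ((LocCoh.depth (Localization.AtPrime (p'.asIdeal.comap (algebraMap A B)))
        (LocalizedModule (p'.asIdeal.comap (algebraMap A B)).primeCompl M) : ℕ∞) : WithBot ℕ∞) +
        Order.krullDim (Set.Icc ((PrimeSpectrum.comap (algebraMap A B)) p')
          ((PrimeSpectrum.comap (algebraMap A B)) q')) := by
  obtain ⟨δ, hδ, hδc⟩ := exists_dimension_function ω hω
  obtain ⟨δ', hδ', hδc'⟩ := exists_dimension_function _ hω'
  have hGp := gor_fibLocRing_of_isDualizing_extD ω hω hω' p'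
  obtain ⟨c, hc⟩ : ∃ c : ℕ, ringKrullDim (EGA4.FibLocRing A B p'.asIdeal) =
      (c : WithBot ℕ∞) := by
    haveI := hGp
    have hne : ringKrullDim (EGA4.FibLocRing A B p'.asIdeal) ≠ ⊥ := ringKrullDim_ne_bot
    have hnt : ringKrullDim (EGA4.FibLocRing A B p'.asIdeal) ≠ ⊤ := ringKrullDim_ne_top
    obtain ⟨x, hx⟩ := WithBot.ne_bot_iff_exists.1 hne
    have hxt : x ≠ ⊤ := by
      rintro rfl
      exact hnt hx.symm
    obtain ⟨c, rfl⟩ := ENat.ne_top_iff_exists.1 hxt
    exact ⟨c, hx.symm⟩
  have e1 := dimFun_extD ω hω hω' δ hδ δ' hδ' p' c hc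
  have e2 := dimFun_extD ω hω hω' δ hδ δ' hδ' q' 0 (by simpa using hq0)
  have hdepth := depth_localized_baseChange M M' e p'.asIdeal c hGp hc
  obtain ⟨h0', hk'⟩ := krullDim_Icc_eq δ' hδc' p' q' hpq
  obtain ⟨h0, hk⟩ := krullDim_Icc_eq δ hδc (PrimeSpectrum.comap (algebraMap A B) p')
    (PrimeSpectrum.comap (algebraMap A B) q')
    (Ideal.comap_mono (f := algebraMap A B) hpq)
  rw [hk', hk, hdepth]
  refine ⟨le_self_add, ?_⟩
  have hnat : (δ (PrimeSpectrum.comap (algebraMap A B) p') -
      δ (PrimeSpectrum.comap (algebraMap A B) q')).toNat =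
      c + (δ' p' - δ' q').toNat := by
    push_cast at e2
    omega
  rw [hnat]
  push_cast
  rw [add_assoc]

end general

end Deg

end Groth.Agent.Lib.Helper18.DR
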