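import Mathlib
import Groth.Agent.Lib.Helper18.DegH
import Groth.Agent.Lib.Helper20.DimBetween
import Groth.Agent.S0328
import Groth.Agent.S0379
import Groth.Agent.S0543

/-!
# Depth on completions of localizations (S8797) (helper18)
-/

set_option autoImplicit false
set_option linter.style.haveILetI false
set_option linter.unusedSectionVars false
universe u
open CategoryTheory CategoryTheory.Limits CategoryTheory.Pretriangulated DerivedCategory

attribute [local instance] HasDerivedCategory.standard

namespace Groth.Agent.Lib.Helper18.DR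

namespace Deg

open HomLoc HomBC Bid MaxCrit Norm Uniq Dim TensorProduct FlatGor

section localComp

variable {R : Type u} [CommRing R] [IsNoetherianRing R] [IsLocalRing R] (J : Ideal R)

/-- every prime of the `J`-adic completion of a local ring lies in the extended maximal ideal -/
lemma le_map_maximalIdeal (hJ : J ≤ IsLocalRing.maximalIdeal R) (p' : Ideal (AdicCompletion J R))
    [p'.IsPrime] :
    p' ≤ (IsLocalRing.maximalIdeal R).map (algebraMap R (AdicCompletion J R)) := by
  have fg : J.FG := IsNoetherian.noetherian J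
  haveI : IsAdicComplete (J.map (algebraMap R (AdicCompletion J R))) (AdicCompletion J R) :=
    AdicCompletion.isAdicComplete_self J fg
  obtain ⟨m', hm', hpm⟩ := Ideal.exists_le_maximal p' (Ideal.IsPrime.ne_top inferInstance)
  haveI := hm'
  have hJm : J.map (algebraMap R (AdicCompletion J R)) ≤ m' :=
    (IsAdicComplete.le_jacobson_bot _).trans (sInf_le ⟨bot_le, hm'⟩)
  have h1 := map_comap_eq_of_le J m' hJm
  have h2 : m'.comap (algebraMap R (AdicCompletion J R)) ≤ IsLocalRing.maximalIdeal R :=
    IsLocalRing.le_maximalIdeal (Ideal.IsPrime.ne_top inferInstance)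
  refine hpm.trans ?_
  rw [← h1]
  exact Ideal.map_mono h2

lemma comap_map_maximalIdeal (hJ : J ≤ IsLocalRing.maximalIdeal R) :
    ((IsLocalRing.maximalIdeal R).map (algebraMap R (AdicCompletion J R))).comap
      (algebraMap R (AdicCompletion J R)) = IsLocalRing.maximalIdeal R := by
  haveI := AdicCompletion.isMaximal_map_of_le J (IsLocalRing.maximalIdeal R) hJ
    (IsNoetherian.noetherian J)
  refine le_antisymm (IsLocalRing.le_maximalIdeal ?_) Ideal.le_comap_map
  exact Ideal.IsPrime.ne_top inferInstance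

end localComp

section cdBound

open Groth.Agent.Lib.Helper20.FaltLoc

variable {B : Type u} [CommRing B] [IsNoetherianRing B]

lemma cdLE_mono {K : Ideal B} {a b : ℕ} (h : LocCoh.CdLE B K a) (hab : a ≤ b) :
    LocCoh.CdLE B K b := fun M _ _ i hi => h M i (lt_of_le_of_lt hab hi)

set_option maxHeartbeats 1000000 in
/-- if `cd(B, K) ≤ d` and `m'` is the only prime between `p'` and `m'` containing `K`, then
`dim [p', m'] ≤ d` -/
theorem krullDim_Icc_le_of_cdLE (K : Ideal B) (d : ℕ) (hcd : LocCoh.CdLE B K d)
    (p' m' : PrimeSpectrum B) (hpm : p' ≤ m') (hKm : K ≤ m'.asIdeal)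
    (hmax : ∀ r : PrimeSpectrum B, p' ≤ r → r ≤ m' → K ≤ r.asIdeal → r = m') :
    Order.krullDim (Set.Icc p' m') ≤ (d : WithBot ℕ∞) := by
  rw [← dimBetween_eq_krullDim_Icc p' m' hpm]
  change ringKrullDim (Localization.AtPrime m'.asIdeal ⧸
    p'.asIdeal.map (algebraMap B (Localization.AtPrime m'.asIdeal))) ≤ _
  have hdisj : Disjoint (m'.asIdeal.primeCompl : Set B) (p'.asIdeal : Set B) := by
    rw [Set.disjoint_left]
    intro x hxS hxp
    exact hxS (hpm hxp)
  haveI hP : (p'.asIdeal.map (algebraMap B (Localization.AtPrime m'.asIdeal))).IsPrime :=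
    IsLocalization.isPrime_of_isPrime_disjoint m'.asIdeal.primeCompl _ _ p'.isPrime hdisj
  have hcd2 := (Groth.Agent.S0379.result B (Localization.AtPrime m'.asIdeal) K d).1 hcd
  have hK2 : K.map (algebraMap B (Localization.AtPrime m'.asIdeal)) ≤
      IsLocalRing.maximalIdeal (Localization.AtPrime m'.asIdeal) := by
    rw [← Localization.AtPrime.map_eq_maximalIdeal]
    exact Ideal.map_mono hKm
  have hK2ne : K.map (algebraMap B (Localization.AtPrime m'.asIdeal)) ≠ ⊤ := by
    intro h
    rw [h] at hK2
    exact (IsLocalRing.maximalIdeal.isMaximal _).ne_top (top_le_iff.1 hK2)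
  have hrad : (p'.asIdeal.map (algebraMap B (Localization.AtPrime m'.asIdeal)) ⊔
      K.map (algebraMap B (Localization.AtPrime m'.asIdeal))).radical =
      IsLocalRing.maximalIdeal (Localization.AtPrime m'.asIdeal) := by
    rw [Ideal.radical_eq_sInf]
    apply le_antisymm
    · exact sInf_le ⟨sup_le (IsLocalRing.le_maximalIdeal hP.ne_top) hK2, inferInstance⟩
    · refine le_sInf ?_
      rintro P ⟨hle, hPp⟩
      haveI := hPp
      let r : PrimeSpectrum B := ⟨P.comap (algebraMap B (Localization.AtPrime m'.asIdeal)),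
        inferInstance⟩
      have h1 : p' ≤ r := Ideal.map_le_iff_le_comap.1 (le_sup_left.trans hle)
      have h2 : K ≤ r.asIdeal := Ideal.map_le_iff_le_comap.1 (le_sup_right.trans hle)
      have h3 : r ≤ m' := by
        have := Ideal.comap_mono (f := algebraMap B (Localization.AtPrime m'.asIdeal))
          (IsLocalRing.le_maximalIdeal hPp.ne_top)
        have h0 : (IsLocalRing.maximalIdeal (Localization.AtPrime m'.asIdeal)).comap
            (algebraMap B (Localization.AtPrime m'.asIdeal)) = m'.asIdeal :=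
          IsLocalization.AtPrime.comap_maximalIdeal (Localization.AtPrime m'.asIdeal) m'.asIdeal
        rw [h0] at this
        exact this
      have h4 := hmax r h1 h3 h2
      have h5 : P = (P.comap (algebraMap B (Localization.AtPrime m'.asIdeal))).map
          (algebraMap B (Localization.AtPrime m'.asIdeal)) :=
        (IsLocalization.map_comap m'.asIdeal.primeCompl _ P).symm
      have h6 : P.comap (algebraMap B (Localization.AtPrime m'.asIdeal)) = m'.asIdeal :=
        congrArg PrimeSpectrum.asIdeal h4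
      rw [h5, h6, Localization.AtPrime.map_eq_maximalIdeal]
  haveI : Nontrivial (Localization.AtPrime m'.asIdeal ⧸
      p'.asIdeal.map (algebraMap B (Localization.AtPrime m'.asIdeal))) :=
    Ideal.Quotient.nontrivial_iff.2 hP.ne_top
  haveI : IsLocalRing (Localization.AtPrime m'.asIdeal ⧸
      p'.asIdeal.map (algebraMap B (Localization.AtPrime m'.asIdeal))) :=
    IsLocalRing.of_surjective' (Ideal.Quotient.mk _) Ideal.Quotient.mk_surjective
  have hne : ringKrullDim (Localization.AtPrime m'.asIdeal ⧸
      p'.asIdeal.map (algebraMap B (Localization.AtPrime m'.asIdeal))) ≠ ⊥ := ringKrullDim_ne_bot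
  have hnt : ringKrullDim (Localization.AtPrime m'.asIdeal ⧸
      p'.asIdeal.map (algebraMap B (Localization.AtPrime m'.asIdeal))) ≠ ⊤ := ringKrullDim_ne_top
  obtain ⟨x, hx⟩ := WithBot.ne_bot_iff_exists.1 hne
  have hxt : x ≠ ⊤ := by
    rintro rfl
    exact hnt hx.symm
  obtain ⟨D, rfl⟩ := ENat.ne_top_iff_exists.1 hxt
  rw [← hx]
  by_contra hlt
  have hdD : d < D := by
    by_contra h
    apply hlt
    have : D ≤ d := not_lt.1 h
    exact_mod_cast this
  have h := Groth.Agent.S0328.result (Localization.AtPrime m'.asIdeal)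
    (K.map (algebraMap B (Localization.AtPrime m'.asIdeal))) hK2ne
    (p'.asIdeal.map (algebraMap B (Localization.AtPrime m'.asIdeal))) hrad D hx.symm (by omega)
  exact h (cdLE_mono hcd2 (by omega))

end cdBound

section main

open Groth.Agent.Lib.Helper20.FaltLoc

variable (A : Type u) [CommRing A] [IsNoetherianRing A] (I : Ideal A) (q : PrimeSpectrum A)

local notation "Rq" => Localization.AtPrime q.asIdeal
local notation "Jq" => Ideal.map (algebraMap A (Localization.AtPrime q.asIdeal)) I
local notation "Bq" => AdicCompletion (Ideal.map (algebraMap A (Localization.AtPrime q.asIdeal)) I)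
  (Localization.AtPrime q.asIdeal)

set_option maxHeartbeats 2000000 in
/-- **S8797**, for one prime `q ⊇ I` -/
theorem depth_gt_completion_localization (hdc : ∃ ω : Dual.D A, Dual.IsDualizing A ω) (d : ℕ)
    (hcd : LocCoh.CdLE A I d) (M : Type u) [AddCommGroup M] [Module A M] [Module.Finite A M]
    (s : ℕ) (hIq : I ≤ q.asIdeal)
    (hc : ∀ p : PrimeSpectrum A, p ≤ q → ¬ I ≤ p.asIdeal →
      (s : ℕ∞) < LocCoh.depth (Localization.AtPrime p.asIdeal)
        (LocalizedModule p.asIdeal.primeCompl M) ∨
      (((d + s : ℕ) : ℕ∞) : WithBot ℕ∞) < ((LocCoh.depth (Localization.AtPrime p.asIdeal)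
        (LocalizedModule p.asIdeal.primeCompl M) : ℕ∞) : WithBot ℕ∞) +
          Formal2.dimBetween A p.asIdeal q.asIdeal)
    (p' : PrimeSpectrum Bq) (hp' : ¬ I.map (algebraMap A Bq) ≤ p'.asIdeal)
    (hmax : ∀ q' : PrimeSpectrum Bq, p' ≤ q' → I.map (algebraMap A Bq) ≤ q'.asIdeal →
      q'.asIdeal.IsMaximal) :
    (s : ℕ∞) < LocCoh.depth (Localization.AtPrime p'.asIdeal)
      (LocalizedModule p'.asIdeal.primeCompl
        (AdicCompletion Jq (LocalizedModule q.asIdeal.primeCompl M))) := by
  obtain ⟨ω, hω⟩ := hdc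
  haveI hN' : IsNoetherianRing Bq := Groth.Agent.S0543.result _ _
  haveI hfl1 : Module.Flat A Rq := IsLocalization.flat Rq q.asIdeal.primeCompl
  haveI hst : IsScalarTower A Rq Bq := IsScalarTower.of_algebraMap_eq (fun a => rfl)
  haveI hfl : Module.Flat A Bq := Module.Flat.trans A Rq _
  -- the base change of `ω` is dualizing
  have h1 : Dual.IsDualizing Rq ((extD A Rq).obj ω) := isDualizing_locAt ω hω q
  have h2 := isDualizing_extD_adicCompletion Jq _ h1
  have hω' : Dual.IsDualizing Bq ((extD A Bq).obj ω) :=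
    isDualizing_of_iso ((extDCompIso A Rq Bq).app ω).symm h2
  -- the module isomorphism
  let ea := AdicCompletion.ofTensorProductEquivOfFiniteNoetherian Jq
    (LocalizedModule q.asIdeal.primeCompl M)
  let eb : LocalizedModule q.asIdeal.primeCompl M ≃ₗ[Rq] Rq ⊗[A] M :=
    LocalizedModule.equivTensorProduct q.asIdeal.primeCompl M
  let ec := TensorProduct.AlgebraTensorModule.cancelBaseChange A Rq Bq Bq M
  let e : Bq ⊗[A] M ≃ₗ[Bq] AdicCompletion Jq (LocalizedModule q.asIdeal.primeCompl M) :=
    ec.symm ≪≫ₗ (TensorProduct.AlgebraTensorModule.congr (LinearEquiv.refl _ _) eb.symm) ≪≫ₗ ea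
  -- the maximal ideal
  have hJm : Jq ≤ IsLocalRing.maximalIdeal Rq := by
    rw [← Localization.AtPrime.map_eq_maximalIdeal]
    exact Ideal.map_mono hIq
  haveI hM' : ((IsLocalRing.maximalIdeal Rq).map (algebraMap Rq Bq)).IsMaximal :=
    AdicCompletion.isMaximal_map_of_le Jq _ hJm (IsNoetherian.noetherian _)
  let m' : PrimeSpectrum Bq := ⟨(IsLocalRing.maximalIdeal Rq).map (algebraMap Rq Bq), hM'.isPrime⟩
  have hpm : p' ≤ m' := le_map_maximalIdeal Jq hJm p'.asIdeal
  have hm'comap : m'.asIdeal.comap (algebraMap A Bq) = q.asIdeal := by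
    rw [IsScalarTower.algebraMap_eq A Rq Bq, ← Ideal.comap_comap]
    change Ideal.comap _ (Ideal.comap (algebraMap Rq Bq)
      ((IsLocalRing.maximalIdeal Rq).map (algebraMap Rq Bq))) = _
    rw [comap_map_maximalIdeal Jq hJm]
    exact IsLocalization.AtPrime.comap_maximalIdeal Rq q.asIdeal
  have hq0 : ringKrullDim (EGA4.FibLocRing A Bq m'.asIdeal) = 0 := by
    have h1 : (m'.asIdeal.comap (algebraMap A Bq)).map
        (algebraMap A (Localization.AtPrime m'.asIdeal)) =
        IsLocalRing.maximalIdeal (Localization.AtPrime m'.asIdeal) := by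
      rw [hm'comap, IsScalarTower.algebraMap_eq A Bq (Localization.AtPrime m'.asIdeal),
        ← Ideal.map_map, IsScalarTower.algebraMap_eq A Rq Bq, ← Ideal.map_map,
        Localization.AtPrime.map_eq_maximalIdeal]
      exact Localization.AtPrime.map_eq_maximalIdeal
    change ringKrullDim (Localization.AtPrime m'.asIdeal ⧸ _) = 0
    rw [h1]
    letI : Field (Localization.AtPrime m'.asIdeal ⧸
        IsLocalRing.maximalIdeal (Localization.AtPrime m'.asIdeal)) := Ideal.Quotient.field _
    exact ringKrullDim_eq_zero_of_field _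
  obtain ⟨hle, heq⟩ := depth_formula_of_flat ω hω hω' M _ e p' m' hpm hq0
  let p₀ : PrimeSpectrum A := PrimeSpectrum.comap (algebraMap A Bq) p'
  have hp₀q : p₀ ≤ q := by
    have := Ideal.comap_mono (f := algebraMap A Bq) hpm
    rw [hm'comap] at this
    exact this
  have hIp₀ : ¬ I ≤ p₀.asIdeal := fun h => hp' (Ideal.map_le_iff_le_comap.2 h)
  have hcomapm : PrimeSpectrum.comap (algebraMap A Bq) m' = q := PrimeSpectrum.ext hm'comap
  rw [hcomapm] at heq
  have hIm : I.map (algebraMap A Bq) ≤ m'.asIdeal := by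
    rw [Ideal.map_le_iff_le_comap, hm'comap]
    exact hIq
  have hbound := krullDim_Icc_le_of_cdLE (I.map (algebraMap A Bq)) d
    ((Groth.Agent.S0379.result A Bq I d).1 hcd) p' m' hpm hIm (fun r h1 h2 h3 =>
      PrimeSpectrum.ext ((hmax r h1 h3).eq_of_le m'.isPrime.ne_top h2))
  rcases hc p₀ hp₀q hIp₀ with h | h
  · exact lt_of_lt_of_le h hle
  · rw [dimBetween_eq_krullDim_Icc p₀ q hp₀q] at h
    replace h := lt_of_lt_of_eq h heq.symm
    by_contra hns
    have hx' := not_lt.1 hns
    have h3 : ((LocCoh.depth (Localization.AtPrime p'.asIdeal)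
        (LocalizedModule p'.asIdeal.primeCompl
          (AdicCompletion Jq (LocalizedModule q.asIdeal.primeCompl M))) : ℕ∞) : WithBot ℕ∞) +
        Order.krullDim (Set.Icc p' m') ≤ ((s : ℕ∞) : WithBot ℕ∞) + (d : WithBot ℕ∞) :=
      add_le_add (by exact_mod_cast hx') hbound
    have h4 := lt_of_lt_of_le h h3
    push_cast at h4
    rw [add_comm] at h4
    exact lt_irrefl _ h4

end main

end Deg

end Groth.Agent.Lib.Helper18.DR
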