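import Mathlib

/-!
# Adic completions only depend on the quotients by powers (helper18)

For a ring map `α : R → S` and an ideal `J` of `R` with `R/J^n → S/J^n S` bijective for all `n`, the
induced map of completions is an isomorphism.
-/

set_option autoImplicit false
set_option linter.style.haveILetI false
set_option linter.unusedSectionVars false
universe u

namespace Groth.Agent.Lib.Helper18.DR

namespace Deg

open AdicCompletion

section general

variable {R : Type u} [CommRing R] (I : Ideal R)

lemma factorPow_evalₐ {m n : ℕ} (hle : m ≤ n) (x : AdicCompletion I R) :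
    Ideal.Quotient.factorPow I hle (evalₐ I n x) = evalₐ I m x := by
  obtain ⟨a, rfl⟩ := AdicCompletion.mk_surjective I R x
  rw [evalₐ_mk, evalₐ_mk]
  simp only [Ideal.Quotient.factor_mk]
  exact AdicCompletion.Ideal.mk_eq_mk I hle a

end general

section compIso

variable {R S : Type u} [CommRing R] [CommRing S] (α : R →+* S) (J : Ideal R)

/-- `S = α(R) + J^n S` as soon as `S = α(R) + J S` -/
lemma exists_sub_mem_map_pow (hsurj : ∀ s : S, ∃ r : R, s - α r ∈ J.map α) (n : ℕ) (s : S) :
    ∃ r : R, s - α r ∈ (J.map α) ^ n := by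
  induction n generalizing s with
  | zero => exact ⟨0, by simp⟩
  | succ n ih =>
    obtain ⟨r, hr⟩ := ih s
    have key : ∀ x ∈ (J.map α) ^ n, ∃ r' : R, x - α r' ∈ (J.map α) ^ (n + 1) := by
      intro x hx
      rw [← Ideal.map_pow] at hx
      refine Submodule.span_induction
        (p := fun x _ => ∃ r' : R, x - α r' ∈ (J.map α) ^ (n + 1)) ?_ ?_ ?_ ?_ hx
      · rintro _ ⟨j, hj, rfl⟩
        exact ⟨j, by simp⟩
      · exact ⟨0, by simp⟩
      · rintro x y _ _ ⟨a, ha⟩ ⟨b, hb⟩
        refine ⟨a + b, ?_⟩
        have := Ideal.add_mem _ ha hb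
        rw [map_add]
        convert this using 1
        ring
      · rintro s x hx ⟨a, ha⟩
        obtain ⟨r', hr'⟩ := hsurj s
        refine ⟨r' * a, ?_⟩
        have hx' : x ∈ (J.map α) ^ n := by
          rw [← Ideal.map_pow]
          exact hx
        have h1 : α r' * (x - α a) ∈ (J.map α) ^ (n + 1) := Ideal.mul_mem_left _ _ ha
        have h2 : (s - α r') * x ∈ (J.map α) ^ (n + 1) := by
          rw [pow_succ']
          exact Ideal.mul_mem_mul hr' hx'
        have := Ideal.add_mem _ h1 h2
        rw [smul_eq_mul, map_mul]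
        convert this using 1
        ring
    obtain ⟨r', hr'⟩ := key _ hr
    refine ⟨r + r', ?_⟩
    rw [map_add]
    convert hr' using 1
    ring

/-- the maps `R/J^n → S/J^n S` -/
noncomputable def quotPowMap (n : ℕ) : R ⧸ J ^ n →+* S ⧸ (J.map α) ^ n :=
  Ideal.quotientMap ((J.map α) ^ n) α (by rw [← Ideal.map_pow]; exact Ideal.le_comap_map)

@[simp]
lemma quotPowMap_mk (n : ℕ) (r : R) :
    quotPowMap α J n (Ideal.Quotient.mk _ r) = Ideal.Quotient.mk _ (α r) := rfl

lemma quotPowMap_bijective (hinj : ∀ n, ((J.map α) ^ n).comap α ≤ J ^ n)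
    (hsurj : ∀ s : S, ∃ r : R, s - α r ∈ J.map α) (n : ℕ) :
    Function.Bijective (quotPowMap α J n) := by
  refine ⟨Ideal.quotientMap_injective' (hinj n), fun y => ?_⟩
  obtain ⟨s, rfl⟩ := Ideal.Quotient.mk_surjective y
  obtain ⟨r, hr⟩ := exists_sub_mem_map_pow α J hsurj n s
  refine ⟨Ideal.Quotient.mk _ r, ?_⟩
  rw [quotPowMap_mk]
  exact (Ideal.Quotient.eq.2 hr).symm

lemma compHom_compat {m n : ℕ} (hle : m ≤ n) :
    (Ideal.Quotient.factorPow (J.map α) hle).comp
      ((quotPowMap α J n).comp (evalₐ J n : AdicCompletion J R →+* R ⧸ J ^ n)) =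
    (quotPowMap α J m).comp (evalₐ J m : AdicCompletion J R →+* R ⧸ J ^ m) := by
  ext x
  have h := factorPow_evalₐ J hle x
  change Ideal.Quotient.factorPow (J.map α) hle (quotPowMap α J n (evalₐ J n x)) =
    quotPowMap α J m (evalₐ J m x)
  rw [← h]
  obtain ⟨r, hr⟩ := Ideal.Quotient.mk_surjective (evalₐ J n x)
  rw [← hr]
  rfl

/-- the induced map of completions -/
noncomputable def compHom : AdicCompletion J R →+* AdicCompletion (J.map α) S :=
  AdicCompletion.liftRingHom (J.map α)
    (fun n => (quotPowMap α J n).comp (evalₐ J n : AdicCompletion J R →+* R ⧸ J ^ n))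
    (fun {m n} hle => compHom_compat α J hle)

@[simp]
lemma evalₐ_compHom (n : ℕ) (x : AdicCompletion J R) :
    evalₐ (J.map α) n (compHom α J x) = quotPowMap α J n (evalₐ J n x) :=
  AdicCompletion.evalₐ_liftRingHom (J.map α)
    (fun n => (quotPowMap α J n).comp (evalₐ J n : AdicCompletion J R →+* R ⧸ J ^ n))
    (fun {m n} hle => compHom_compat α J hle) n x

lemma compHom_algebraMap (r : R) :
    compHom α J (algebraMap R (AdicCompletion J R) r) =
      algebraMap S (AdicCompletion (J.map α) S) (α r) := by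
  refine AdicCompletion.ext_evalₐ (fun n => ?_)
  rw [evalₐ_compHom]
  have h1 : evalₐ J n (algebraMap R (AdicCompletion J R) r) = Ideal.Quotient.mk _ r :=
    AdicCompletion.evalₐ_of J n r
  have h2 : evalₐ (J.map α) n (algebraMap S (AdicCompletion (J.map α) S) (α r)) =
      Ideal.Quotient.mk _ (α r) := AdicCompletion.evalₐ_of (J.map α) n (α r)
  rw [h1, h2, quotPowMap_mk]

lemma compHom_bijective (hinj : ∀ n, ((J.map α) ^ n).comap α ≤ J ^ n)
    (hsurj : ∀ s : S, ∃ r : R, s - α r ∈ J.map α) :
    Function.Bijective (compHom α J) := by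
  let e : ∀ n, R ⧸ J ^ n ≃+* S ⧸ (J.map α) ^ n := fun n =>
    RingEquiv.ofBijective (quotPowMap α J n) (quotPowMap_bijective α J hinj hsurj n)
  let ψ : AdicCompletion (J.map α) S →+* AdicCompletion J R :=
    AdicCompletion.liftRingHom J
      (fun n => ((e n).symm : S ⧸ (J.map α) ^ n →+* R ⧸ J ^ n).comp
        (evalₐ (J.map α) n : AdicCompletion (J.map α) S →+* S ⧸ (J.map α) ^ n))
      (fun {m n} hle => by
        ext x
        have h := factorPow_evalₐ (J.map α) hle x
        obtain ⟨y, hy⟩ := (e n).surjective (evalₐ (J.map α) n x)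
        change Ideal.Quotient.factorPow J hle ((e n).symm (evalₐ (J.map α) n x)) =
          (e m).symm (evalₐ (J.map α) m x)
        rw [← h, ← hy, RingEquiv.symm_apply_apply]
        apply (e m).injective
        rw [RingEquiv.apply_symm_apply]
        obtain ⟨r, rfl⟩ := Ideal.Quotient.mk_surjective y
        rfl)
  have hψ : ∀ n y, evalₐ J n (ψ y) = (e n).symm (evalₐ (J.map α) n y) := by
    intro n y
    exact AdicCompletion.evalₐ_liftRingHom J _ _ n y
  have h1 : ∀ x, ψ (compHom α J x) = x := by
    intro x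
    refine AdicCompletion.ext_evalₐ (fun n => ?_)
    rw [hψ, evalₐ_compHom]
    exact (e n).symm_apply_apply _
  have h2 : ∀ y, compHom α J (ψ y) = y := by
    intro y
    refine AdicCompletion.ext_evalₐ (fun n => ?_)
    rw [evalₐ_compHom, hψ]
    exact (e n).apply_symm_apply _
  exact ⟨Function.LeftInverse.injective h1, Function.RightInverse.surjective h2⟩

end compIso

end Deg

end Groth.Agent.Lib.Helper18.DR
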