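import Mathlib
import Groth.Agent.Lib.Helper18.DegI
import Groth.Agent.S0543

/-!
# Depth through fibre dimensions; completions of localizations as flat algebras (helper18)
-/

set_option autoImplicit false
set_option linter.style.haveILetI false
set_option linter.unusedSectionVars false
universe u
open CategoryTheory CategoryTheory.Limits CategoryTheory.Pretriangulated DerivedCategory

attribute [local instance] HasDerivedCategory.standard

namespace Groth.Agent.Lib.Helper18.DR

namespace Deg

open HomLoc HomBC Bid MaxCrit Norm Uniq Dim TensorProduct FlatGor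

section lemmaD

variable {A B : Type u} [CommRing A] [CommRing B] [Algebra A B] [Module.Flat A B]
  [IsNoetherianRing A] [IsNoetherianRing B]

/-- depth of `(B ⊗_A M)_q` is depth of `M_p` plus the dimension of the fibre local ring -/
theorem exists_fibre_dim_depth (ω : Dual.D A) (hω : Dual.IsDualizing A ω)
    (hω' : Dual.IsDualizing B ((extD A B).obj ω))
    (M : Type u) [AddCommGroup M] [Module A M] [Module.Finite A M]
    (M' : Type u) [AddCommGroup M'] [Module B M'] (e : B ⊗[A] M ≃ₗ[B] M')
    (q : Ideal B) [q.IsPrime] :
    ∃ c : ℕ, ringKrullDim (EGA4.FibLocRing A B q) = (c : WithBot ℕ∞) ∧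
      LocCoh.depth (Localization.AtPrime q) (LocalizedModule q.primeCompl M') =
        LocCoh.depth (Localization.AtPrime (q.comap (algebraMap A B)))
          (LocalizedModule (q.comap (algebraMap A B)).primeCompl M) + (c : ℕ∞) := by
  have hGp := gor_fibLocRing_of_isDualizing_extD ω hω hω' ⟨q, inferInstance⟩
  obtain ⟨c, hc⟩ : ∃ c : ℕ, ringKrullDim (EGA4.FibLocRing A B q) = (c : WithBot ℕ∞) := by
    haveI := hGp
    have hne : ringKrullDim (EGA4.FibLocRing A B q) ≠ ⊥ := ringKrullDim_ne_bot
    have hnt : ringKrullDim (EGA4.FibLocRing A B q) ≠ ⊤ := ringKrullDim_ne_top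
    obtain ⟨x, hx⟩ := WithBot.ne_bot_iff_exists.1 hne
    have hxt : x ≠ ⊤ := by
      rintro rfl
      exact hnt hx.symm
    obtain ⟨c, rfl⟩ := ENat.ne_top_iff_exists.1 hxt
    exact ⟨c, hx.symm⟩
  exact ⟨c, hc, depth_localized_baseChange M M' e q c hGp hc⟩

end lemmaD

section lemmaE

variable {A B B' : Type u} [CommRing A] [CommRing B] [CommRing B'] [Algebra A B] [Algebra A B']

lemma comap_eq_of_algEquiv (φ : B ≃ₐ[A] B') (P : Ideal B) (P' : Ideal B')
    (hPP' : P = P'.comap (φ : B →+* B')) :
    P.comap (algebraMap A B) = P'.comap (algebraMap A B') := by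
  ext a
  rw [Ideal.mem_comap, Ideal.mem_comap, hPP', Ideal.mem_comap]
  simp

/-- an algebra isomorphism induces isomorphisms of fibre local rings -/
theorem nonempty_fibLocRing_equiv (φ : B ≃ₐ[A] B') (P : Ideal B) [P.IsPrime] (P' : Ideal B')
    [P'.IsPrime] (hPP' : P = P'.comap (φ : B →+* B')) :
    Nonempty (EGA4.FibLocRing A B P ≃+* EGA4.FibLocRing A B' P') := by
  let ψ := Localization.localAlgEquiv P P' φ hPP'
  have hcomap := comap_eq_of_algEquiv φ P P' hPP'
  refine ⟨Ideal.quotientEquiv _ _ ψ.toRingEquiv ?_⟩
  rw [hcomap, Ideal.map_map]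
  congr 1
  ext a
  exact (ψ.commutes a).symm

end lemmaE

section locComp

variable (A : Type u) [CommRing A] [IsNoetherianRing A] (q : Ideal A) [q.IsPrime]
  (J : Ideal (Localization.AtPrime q))

lemma isScalarTower_locComp :
    IsScalarTower A (Localization.AtPrime q) (AdicCompletion J (Localization.AtPrime q)) :=
  IsScalarTower.of_algebraMap_eq (fun _ => rfl)

lemma flat_locComp : Module.Flat A (AdicCompletion J (Localization.AtPrime q)) := by
  haveI : Module.Flat A (Localization.AtPrime q) :=
    IsLocalization.flat (Localization.AtPrime q) q.primeCompl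
  haveI := isScalarTower_locComp A q J
  exact Module.Flat.trans A (Localization.AtPrime q) _

/-- the base change of a dualizing complex to the completion of a localization is dualizing -/
theorem isDualizing_extD_locComp (ω : Dual.D A) (hω : Dual.IsDualizing A ω) :
    haveI := flat_locComp A q J
    haveI : IsNoetherianRing (AdicCompletion J (Localization.AtPrime q)) :=
      Groth.Agent.S0543.result _ _
    Dual.IsDualizing (AdicCompletion J (Localization.AtPrime q))
      ((extD A (AdicCompletion J (Localization.AtPrime q))).obj ω) := by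
  haveI := flat_locComp A q J
  haveI : IsNoetherianRing (AdicCompletion J (Localization.AtPrime q)) :=
    Groth.Agent.S0543.result _ _
  haveI := isScalarTower_locComp A q J
  haveI : Module.Flat A (Localization.AtPrime q) :=
    IsLocalization.flat (Localization.AtPrime q) q.primeCompl
  have h1 : Dual.IsDualizing (Localization.AtPrime q)
      ((extD A (Localization.AtPrime q)).obj ω) := isDualizing_locAt ω hω ⟨q, inferInstance⟩
  have h2 := isDualizing_extD_adicCompletion J _ h1
  exact isDualizing_of_iso ((extDCompIso A (Localization.AtPrime q)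
    (AdicCompletion J (Localization.AtPrime q))).app ω).symm h2

/-- the completion of the localization of a finite module as a base change -/
noncomputable def locCompEquiv (M : Type u) [AddCommGroup M] [Module A M] [Module.Finite A M] :
    AdicCompletion J (Localization.AtPrime q) ⊗[A] M
      ≃ₗ[AdicCompletion J (Localization.AtPrime q)]
      AdicCompletion J (LocalizedModule q.primeCompl M) :=
  haveI := isScalarTower_locComp A q J
  let ea := AdicCompletion.ofTensorProductEquivOfFiniteNoetherian J
    (LocalizedModule q.primeCompl M)
  let eb : LocalizedModule q.primeCompl M ≃ₗ[Localization.AtPrime q]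
      Localization.AtPrime q ⊗[A] M := LocalizedModule.equivTensorProduct q.primeCompl M
  let ec := TensorProduct.AlgebraTensorModule.cancelBaseChange A (Localization.AtPrime q)
    (AdicCompletion J (Localization.AtPrime q)) (AdicCompletion J (Localization.AtPrime q)) M
  ec.symm ≪≫ₗ (TensorProduct.AlgebraTensorModule.congr (LinearEquiv.refl _ _) eb.symm) ≪≫ₗ ea

end locComp

end Deg

end Groth.Agent.Lib.Helper18.DR
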