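import Mathlib
import Groth.Agent.Lib.Helper18.DegJ
import Groth.Agent.Lib.Helper18.DegK

/-!
# The completion of a localization of a completion (helper18)

For a prime `q ⊇ I A'` of `A' = A^∧` over `q₀ = q ∩ A`: `(A_{q₀})^∧ ≅ (A'_q)^∧` (`I`-adic completions).
-/

set_option autoImplicit false
set_option linter.style.haveILetI false
set_option linter.unusedSectionVars false
universe u

namespace Groth.Agent.Lib.Helper18.DR

namespace Deg

section general

variable {R S : Type u} [CommRing R] [CommRing S] (α : R →+* S) (J : Ideal R)

theorem exists_ringEquiv_completion (K : Ideal S) (hK : K = J.map α)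
    (hinj : ∀ n, ((J.map α) ^ n).comap α ≤ J ^ n)
    (hsurj : ∀ s : S, ∃ r : R, s - α r ∈ J.map α) :
    ∃ φ : AdicCompletion J R ≃+* AdicCompletion K S,
      ∀ r : R, φ (algebraMap R (AdicCompletion J R) r) =
        algebraMap S (AdicCompletion K S) (α r) := by
  subst hK
  exact ⟨RingEquiv.ofBijective (compHom α J) (compHom_bijective α J hinj hsurj),
    compHom_algebraMap α J⟩

end general

section locComp

variable (A : Type u) [CommRing A] [IsNoetherianRing A] (I : Ideal A)
  (q : Ideal (AdicCompletion I A)) [q.IsPrime]

set_option maxHeartbeats 1000000 in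
/-- `(A_{q₀})^∧ ≅ (A'_q)^∧` as `A`-algebras -/
theorem nonempty_algEquiv_locComp (hq : I.map (algebraMap A (AdicCompletion I A)) ≤ q) :
    Nonempty (AdicCompletion
        (I.map (algebraMap A (Localization.AtPrime (q.comap (algebraMap A (AdicCompletion I A))))))
        (Localization.AtPrime (q.comap (algebraMap A (AdicCompletion I A)))) ≃ₐ[A]
      AdicCompletion ((I.map (algebraMap A (AdicCompletion I A))).map
        (algebraMap (AdicCompletion I A) (Localization.AtPrime q))) (Localization.AtPrime q)) := by
  let p : Ideal A := q.under A
  haveI hpp : p.IsPrime := inferInstance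
  haveI : q.LiesOver p := ⟨rfl⟩
  letI := Localization.AtPrime.algebraOfLiesOver p q
  haveI : IsLocalHom (algebraMap (Localization.AtPrime p) (Localization.AtPrime q)) := by
    rw [Localization.AtPrime.IsLiesOverAlgebra.algebraMap_eq (p := p) (P := q)]
    infer_instance
  haveI : Module.FaithfullyFlat (Localization.AtPrime p) (Localization.AtPrime q) :=
    Module.FaithfullyFlat.of_flat_of_isLocalHom
  have hK : (I.map (algebraMap A (AdicCompletion I A))).map
      (algebraMap (AdicCompletion I A) (Localization.AtPrime q)) =
      (I.map (algebraMap A (Localization.AtPrime p))).map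
        (algebraMap (Localization.AtPrime p) (Localization.AtPrime q)) := by
    rw [Ideal.map_map, Ideal.map_map, ← IsScalarTower.algebraMap_eq,
      ← IsScalarTower.algebraMap_eq]
  have hinj : ∀ n, (((I.map (algebraMap A (Localization.AtPrime p))).map
      (algebraMap (Localization.AtPrime p) (Localization.AtPrime q))) ^ n).comap
      (algebraMap (Localization.AtPrime p) (Localization.AtPrime q)) ≤
      (I.map (algebraMap A (Localization.AtPrime p))) ^ n := by
    intro n
    rw [← Ideal.map_pow, Ideal.comap_map_eq_self_of_faithfullyFlat]
  have hsurj : ∀ s : Localization.AtPrime q, ∃ r : Localization.AtPrime p,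
      s - algebraMap (Localization.AtPrime p) (Localization.AtPrime q) r ∈
        (I.map (algebraMap A (Localization.AtPrime p))).map
          (algebraMap (Localization.AtPrime p) (Localization.AtPrime q)) := by
    intro s
    rw [← hK]
    obtain ⟨a', t, rfl⟩ := IsLocalization.exists_mk'_eq q.primeCompl s
    obtain ⟨a, ha⟩ := exists_sub_mem_map I a'
    obtain ⟨u, hu⟩ := exists_sub_mem_map I (t : AdicCompletion I A)
    have hu' : u ∈ p.primeCompl := by
      intro hup
      have h1 : algebraMap A (AdicCompletion I A) u ∈ q := hup
      have h2 := q.add_mem (hq hu) h1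
      rw [sub_add_cancel] at h2
      exact t.2 h2
    refine ⟨IsLocalization.mk' _ a ⟨u, hu'⟩, ?_⟩
    have hα : algebraMap (Localization.AtPrime p) (Localization.AtPrime q)
        (IsLocalization.mk' _ a ⟨u, hu'⟩) =
        IsLocalization.mk' (Localization.AtPrime q) (algebraMap A (AdicCompletion I A) a)
          (⟨algebraMap A (AdicCompletion I A) u, hu'⟩ : q.primeCompl) := by
      rw [Localization.AtPrime.IsLiesOverAlgebra.algebraMap_eq (p := p) (P := q)]
      exact Localization.localRingHom_mk' _ _ _ _ _ _
    rw [hα]
    have hunit : IsUnit (algebraMap (AdicCompletion I A) (Localization.AtPrime q)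
        ((t : AdicCompletion I A) * algebraMap A (AdicCompletion I A) u)) := by
      rw [map_mul]
      exact (IsLocalization.map_units _ t).mul
        (IsLocalization.map_units (Localization.AtPrime q)
          (⟨algebraMap A (AdicCompletion I A) u, hu'⟩ : q.primeCompl))
    rw [← Ideal.mul_unit_mem_iff_mem _ hunit]
    have hcalc : (IsLocalization.mk' (Localization.AtPrime q) a' t -
        IsLocalization.mk' (Localization.AtPrime q) (algebraMap A (AdicCompletion I A) a)
          (⟨algebraMap A (AdicCompletion I A) u, hu'⟩ : q.primeCompl)) *
        algebraMap (AdicCompletion I A) (Localization.AtPrime q)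
          ((t : AdicCompletion I A) * algebraMap A (AdicCompletion I A) u) =
        algebraMap (AdicCompletion I A) (Localization.AtPrime q)
          ((a' - algebraMap A (AdicCompletion I A) a) * algebraMap A (AdicCompletion I A) u -
            algebraMap A (AdicCompletion I A) a *
              ((t : AdicCompletion I A) - algebraMap A (AdicCompletion I A) u)) := by
      have e1 := IsLocalization.mk'_spec (Localization.AtPrime q) a' t
      have e2 := IsLocalization.mk'_spec (Localization.AtPrime q)
        (algebraMap A (AdicCompletion I A) a)
        (⟨algebraMap A (AdicCompletion I A) u, hu'⟩ : q.primeCompl)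
      simp only at e2
      rw [map_mul, map_sub, map_mul, map_mul, map_sub, map_sub, ← e1, ← e2]
      ring
    rw [hcalc]
    refine Ideal.mem_map_of_mem _ ?_
    exact Ideal.sub_mem _ (Ideal.mul_mem_right _ _ ha) (Ideal.mul_mem_left _ _ hu)
  obtain ⟨φ, hφ⟩ := exists_ringEquiv_completion
    (algebraMap (Localization.AtPrime p) (Localization.AtPrime q))
    (I.map (algebraMap A (Localization.AtPrime p))) _ hK hinj hsurj
  refine ⟨AlgEquiv.ofRingEquiv (f := φ) (fun a => ?_)⟩
  have h1 : algebraMap A (AdicCompletion (I.map (algebraMap A (Localization.AtPrime p)))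
      (Localization.AtPrime p)) a =
      algebraMap (Localization.AtPrime p) _ (algebraMap A (Localization.AtPrime p) a) := rfl
  have h2 : algebraMap A (AdicCompletion ((I.map (algebraMap A (AdicCompletion I A))).map
        (algebraMap (AdicCompletion I A) (Localization.AtPrime q))) (Localization.AtPrime q)) a =
      algebraMap (Localization.AtPrime q) _ (algebraMap A (Localization.AtPrime q) a) := rfl
  rw [h1, h2, hφ]
  congr 1
  exact (IsScalarTower.algebraMap_apply A (Localization.AtPrime p) (Localization.AtPrime q) a).symm

end locComp

end Deg

end Groth.Agent.Lib.Helper18.DR
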