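import Mathlib
import Groth.Agent.Lib.Helper18.DegL

/-!
# Transfer of the depth condition (6) to the completion (helper18)
-/

set_option autoImplicit false
set_option linter.style.haveILetI false
set_option linter.unusedSectionVars false
universe u
open CategoryTheory CategoryTheory.Limits CategoryTheory.Pretriangulated DerivedCategory

attribute [local instance] HasDerivedCategory.standard

namespace Groth.Agent.Lib.Helper18.DR

namespace Deg

open HomLoc HomBC Bid MaxCrit Norm Uniq Dim TensorProduct FlatGor

section lemmaF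

variable {A : Type u} [CommRing A] [IsNoetherianRing A]

lemma depth_congr_ideal (M : Type u) [AddCommGroup M] [Module A M] (P₁ P₂ : Ideal A)
    [P₁.IsPrime] [P₂.IsPrime] (h : P₁ = P₂) :
    LocCoh.depth (Localization.AtPrime P₁) (LocalizedModule P₁.primeCompl M) =
      LocCoh.depth (Localization.AtPrime P₂) (LocalizedModule P₂.primeCompl M) := by
  subst h
  rfl

variable {B B' : Type u} [CommRing B] [CommRing B'] [Algebra A B] [Algebra A B']
  [Module.Flat A B] [Module.Flat A B'] [IsNoetherianRing B] [IsNoetherianRing B']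

/-- depth of localized base changes is invariant under an isomorphism of flat algebras -/
theorem depth_eq_of_algEquiv (ω : Dual.D A) (hω : Dual.IsDualizing A ω)
    (hωB : Dual.IsDualizing B ((extD A B).obj ω))
    (hωB' : Dual.IsDualizing B' ((extD A B').obj ω))
    (M : Type u) [AddCommGroup M] [Module A M] [Module.Finite A M]
    (N : Type u) [AddCommGroup N] [Module B N] (e : B ⊗[A] M ≃ₗ[B] N)
    (N' : Type u) [AddCommGroup N'] [Module B' N'] (e' : B' ⊗[A] M ≃ₗ[B'] N')
    (φ : B ≃ₐ[A] B') (P : Ideal B) [P.IsPrime] (P' : Ideal B') [P'.IsPrime]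
    (hPP' : P = P'.comap (φ : B →+* B')) :
    LocCoh.depth (Localization.AtPrime P) (LocalizedModule P.primeCompl N) =
      LocCoh.depth (Localization.AtPrime P') (LocalizedModule P'.primeCompl N') := by
  obtain ⟨c, hc, hd⟩ := exists_fibre_dim_depth ω hω hωB M N e P
  obtain ⟨c', hc', hd'⟩ := exists_fibre_dim_depth ω hω hωB' M N' e' P'
  obtain ⟨ψ⟩ := nonempty_fibLocRing_equiv φ P P' hPP'
  have h1 : (c : WithBot ℕ∞) = (c' : WithBot ℕ∞) := by
    rw [← hc, ← hc', ringKrullDim_eq_of_ringEquiv ψ]
  have h2 : c = c' := by exact_mod_cast h1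
  have hcomap := comap_eq_of_algEquiv φ P P' hPP'
  rw [hd, hd', depth_congr_ideal M _ _ hcomap, h2]

end lemmaF

section transfer

variable (A : Type u) [CommRing A] [IsNoetherianRing A] (I : Ideal A)
  (q : PrimeSpectrum (AdicCompletion I A))

local notation "A'" => AdicCompletion I A
local notation "I'" => Ideal.map (algebraMap A (AdicCompletion I A)) I
local notation "q₀" => Ideal.comap (algebraMap A (AdicCompletion I A)) q.asIdeal
local notation "C₀" => AdicCompletion (Ideal.map (algebraMap A (Localization.AtPrime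
  (Ideal.comap (algebraMap A (AdicCompletion I A)) q.asIdeal))) I) (Localization.AtPrime
  (Ideal.comap (algebraMap A (AdicCompletion I A)) q.asIdeal))
local notation "C'" => AdicCompletion (Ideal.map (algebraMap (AdicCompletion I A)
  (Localization.AtPrime q.asIdeal)) (Ideal.map (algebraMap A (AdicCompletion I A)) I))
  (Localization.AtPrime q.asIdeal)

set_option maxHeartbeats 2000000 in
/-- condition (6) at `q₀ = q ∩ A` for `A` implies condition (6) at `q` for the completion `A'` -/
theorem depth_gt_transfer (ω : Dual.D A) (hω : Dual.IsDualizing A ω)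
    (M : Type u) [AddCommGroup M] [Module A M] [Module.Finite A M] (s : ℕ)
    (hq : I' ≤ q.asIdeal)
    (h6 : ∀ p' : PrimeSpectrum C₀, ¬ I.map (algebraMap A C₀) ≤ p'.asIdeal →
      (∀ q' : PrimeSpectrum C₀, p' ≤ q' → I.map (algebraMap A C₀) ≤ q'.asIdeal →
        q'.asIdeal.IsMaximal) →
      (s : ℕ∞) < LocCoh.depth (Localization.AtPrime p'.asIdeal)
        (LocalizedModule p'.asIdeal.primeCompl
          (AdicCompletion (I.map (algebraMap A (Localization.AtPrime q₀)))
            (LocalizedModule (Ideal.primeCompl q₀) M))))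
    (p' : PrimeSpectrum C') (hp' : ¬ Ideal.map (algebraMap A' C') I' ≤ p'.asIdeal)
    (hmax : ∀ q' : PrimeSpectrum C', p' ≤ q' → Ideal.map (algebraMap A' C') I' ≤ q'.asIdeal →
      q'.asIdeal.IsMaximal) :
    (s : ℕ∞) < LocCoh.depth (Localization.AtPrime p'.asIdeal)
      (LocalizedModule p'.asIdeal.primeCompl
        (AdicCompletion (Ideal.map (algebraMap A' (Localization.AtPrime q.asIdeal)) I')
          (LocalizedModule q.asIdeal.primeCompl (AdicCompletion I M)))) := by
  haveI hNA' : IsNoetherianRing A' := Groth.Agent.S0543.result A I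
  -- data for `C₀`
  haveI hNC₀ : IsNoetherianRing C₀ := Groth.Agent.S0543.result _ _
  haveI hflC₀ : Module.Flat A C₀ := flat_locComp A q₀ _
  have hωC₀ := isDualizing_extD_locComp A q₀ (I.map (algebraMap A (Localization.AtPrime q₀))) ω hω
  let e₀ := locCompEquiv A q₀ (I.map (algebraMap A (Localization.AtPrime q₀))) M
  -- data for `C'` over `A'`
  haveI hNC' : IsNoetherianRing C' := Groth.Agent.S0543.result _ _
  haveI hflC'A' : Module.Flat A' C' := flat_locComp A' q.asIdeal _
  have hω₁ := isDualizing_extD_adicCompletion I ω hω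
  have hωC'₁ := isDualizing_extD_locComp A' q.asIdeal
    (Ideal.map (algebraMap A' (Localization.AtPrime q.asIdeal)) I') _ hω₁
  haveI : Module.Finite A' (AdicCompletion I M) :=
    Module.Finite.equiv (AdicCompletion.ofTensorProductEquivOfFiniteNoetherian I M)
  let e₁ := locCompEquiv A' q.asIdeal (Ideal.map (algebraMap A' (Localization.AtPrime q.asIdeal)) I')
    (AdicCompletion I M)
  -- over `A`
  haveI hst : IsScalarTower A A' C' := IsScalarTower.of_algebraMap_eq (fun _ => rfl)
  haveI hflC' : Module.Flat A C' := Module.Flat.trans A A' C'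
  have hωC' : Dual.IsDualizing C' ((extD A C').obj ω) :=
    isDualizing_of_iso ((extDCompIso A A' C').app ω).symm hωC'₁
  let e' : C' ⊗[A] M ≃ₗ[C'] AdicCompletion (Ideal.map (algebraMap A' (Localization.AtPrime q.asIdeal)) I')
      (LocalizedModule q.asIdeal.primeCompl (AdicCompletion I M)) :=
    (TensorProduct.AlgebraTensorModule.cancelBaseChange A A' C' C' M).symm ≪≫ₗ
      (TensorProduct.AlgebraTensorModule.congr (LinearEquiv.refl _ _)
        (AdicCompletion.ofTensorProductEquivOfFiniteNoetherian I M)) ≪≫ₗ e₁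
  obtain ⟨φ⟩ := nonempty_algEquiv_locComp A I q.asIdeal hq
  let p'' : PrimeSpectrum C₀ := ⟨p'.asIdeal.comap (φ : C₀ →+* C'), inferInstance⟩
  have hdepth := depth_eq_of_algEquiv ω hω hωC₀ hωC' M _ e₀ _ e' φ p''.asIdeal p'.asIdeal rfl
  rw [← hdepth]
  have hI' : Ideal.map (algebraMap A' C') I' = I.map (algebraMap A C') := by
    have h1 := Ideal.map_map (I := I) (algebraMap A A') (algebraMap A' C')
    have h2 : (algebraMap A' C').comp (algebraMap A A') = algebraMap A C' :=
      (IsScalarTower.algebraMap_eq A A' C').symm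
    rw [h2] at h1
    exact h1
  apply h6 p''
  · intro h
    apply hp'
    rw [hI', Ideal.map_le_iff_le_comap]
    intro i hi
    have h1 : algebraMap A C₀ i ∈ p''.asIdeal := h (Ideal.mem_map_of_mem _ hi)
    have h2 : φ (algebraMap A C₀ i) ∈ p'.asIdeal := h1
    rw [AlgEquiv.commutes] at h2
    exact h2
  · intro q'' hpq'' hIq''
    let q' : PrimeSpectrum C' := ⟨q''.asIdeal.comap (φ.symm : C' →+* C₀), inferInstance⟩
    have h1 : p' ≤ q' := by
      intro x hx
      change φ.symm x ∈ q''.asIdeal
      apply hpq''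
      change φ (φ.symm x) ∈ p'.asIdeal
      rw [AlgEquiv.apply_symm_apply]
      exact hx
    have h2 : Ideal.map (algebraMap A' C') I' ≤ q'.asIdeal := by
      rw [hI', Ideal.map_le_iff_le_comap]
      intro i hi
      change φ.symm (algebraMap A C' i) ∈ q''.asIdeal
      rw [AlgEquiv.commutes]
      exact hIq'' (Ideal.mem_map_of_mem _ hi)
    haveI h3 := hmax q' h1 h2
    have h4 : q''.asIdeal = q'.asIdeal.comap (φ : C₀ →+* C') := by
      ext x
      change x ∈ q''.asIdeal ↔ φ.symm (φ x) ∈ q''.asIdeal
      rw [AlgEquiv.symm_apply_apply]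
    rw [h4]
    exact Ideal.comap_isMaximal_of_surjective (φ : C₀ →+* C') φ.surjective

end transfer

end Deg

end Groth.Agent.Lib.Helper18.DR
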