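import Mathlib
import Groth.Agent.Lib.Helper18.EmbI
import Groth.Agent.Lib.Helper18.HullW
import Groth.Agent.Lib.Helper19.ArtFunHull
import Groth.Agent.Lib.Helper20.EmbDeltaEq

/-!
# The local Hilbert functor is prorepresentable when `Hom(I₀, O/I₀)` is finite-dimensional (helper18)
-/

set_option autoImplicit false
set_option linter.style.haveILetI false
set_option linter.unusedSectionVars false
universe u

open CategoryTheory CategoryTheory.Limits AlgebraicGeometry

namespace Groth.Agent.Lib.Helper18.EmbJ

open ArtFun ArtFun.Art Groth.Agent.Lib.Helper18.EmbA Groth.Agent.Lib.Helper18.EmbB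
open Groth.Agent.Lib.Helper18.EmbC Groth.Agent.Lib.Helper18.EmbG Groth.Agent.Lib.Helper18.EmbH
open Groth.Agent.Lib.Helper18.EmbI
open Groth.Agent.Lib.Helper28.Pinch Groth.Agent.Lib.Helper3 Groth.Agent.Lib.Helper19

variable {k : Type u} [Field k] {X : Scheme.{u}} {x : X ⟶ specPt k} {I₀ : X.IdealSheafData}

/-- the classifying map is injective -/
theorem Phi_injective : Function.Injective (Phi (x := x) (I₀ := I₀)) := by
  intro I I' h
  apply Groth.Agent.Lib.Helper20.EmbDeltaEq.eq_of_delta_eq
  intro U hU g hg
  obtain ⟨s, hs⟩ := IdealMod.exists_val_eq I₀ g hg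
  have h1 : (Phi I).app U s = (Phi I').app U s := by rw [h]
  have h2 := Phi_app I ⟨U, hU⟩ s
  have h3 := Phi_app I' ⟨U, hU⟩ s
  have h4 : DU I ⟨U, hU⟩ s = DU I' ⟨U, hU⟩ s := h2.symm.trans (h1.trans h3)
  rw [DU_apply, DU_apply] at h4
  have h5 : delta I hU (IdealMod.val I₀ s) (IdealMod.app_val I₀ s) =
      delta I' hU (IdealMod.val I₀ s) (IdealMod.app_val I₀ s) := h4
  rw [delta_congr I hU hs.symm hg (IdealMod.app_val I₀ s),
    delta_congr I' hU hs.symm hg (IdealMod.app_val I₀ s)]
  exact h5

variable (x I₀)

/-- Schlessinger: `H_0`, `(S1)`, `H_ε`, `H` and a finite-dimensional `Hom(I₀, O/I₀)` give a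
prorepresenting complete local ring for the local Hilbert functor -/
theorem isProrepresentable
    (hfin : letI : X.Over (Spec (CommRingCat.of k)) := ⟨x⟩
      Module.Finite k (ClSub.idealMod I₀ ⟶ ClSub.quotMod I₀)) :
    IsProrepresentable (localHilb X x I₀) := by
  letI : X.Over (Spec (CommRingCat.of k)) := ⟨x⟩
  obtain ⟨h0, h2, -, h4⟩ := HullW.main x I₀
  letI T : TangentStr (localHilb X x I₀) := ArtFunTangent.tangentStr h0 h2
  have h1 : S1 (localHilb X x I₀) := fun B A A' A'' p' p'' f' f'' h hf =>
    HullW.surj_cmp x I₀ h hf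
  have h3 : Hfin (localHilb X x I₀) := by
    let L : TangentSpace (localHilb X x I₀) →ₗ[k] (ClSub.idealMod I₀ ⟶ ClSub.quotMod I₀) :=
      { toFun := fun I => Phi I
        map_add' := by
          intro a b
          obtain ⟨z, hz1, hz2⟩ := ArtFunTangent.surj_pair (M := k) h0 h2 a b
          have e : a + b = (localHilb X x I₀).map plus z := by
            rw [← T.add_eq z]
            exact congrArg₂ (· + ·) hz1.symm hz2.symm
          rw [e]
          have e2 : Phi (push z plus) = Phi (push z pr₁) + Phi (push z pr₂) := Phi_plus z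
          have ha : Phi (push z pr₁) = Phi a := congrArg Phi hz1
          have hb : Phi (push z pr₂) = Phi b := congrArg Phi hz2
          exact e2.trans (congrArg₂ (· + ·) ha hb)
        map_smul' := by
          intro c a
          have e : c • a = (localHilb X x I₀).map (scale c) a := T.smul_eq c a
          rw [e]
          exact Phi_scale a c }
    have hinj : Function.Injective L := fun a b hab => Phi_injective hab
    haveI := hfin
    exact Module.Finite.of_injective L hinj
  exact ArtFunHull.isProrepresentable_of_surjective (fun a => ⟨a, rfl⟩) h0 h1 h2 h3 h4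

end Groth.Agent.Lib.Helper18.EmbJ
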