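import Mathlib
import Groth.Agent.Lib.Helper18.EmbJ
import Groth.Agent.Lib.Helper18.EmbD

/-!
# The tangent space of the local Hilbert functor and `Hom(I₀, O/I₀)` (helper18)

Consequences of the surjectivity of the classifying map.
-/

set_option autoImplicit false
set_option linter.style.haveILetI false
set_option linter.unusedSectionVars false
universe u

open CategoryTheory CategoryTheory.Limits AlgebraicGeometry

namespace Groth.Agent.Lib.Helper18.EmbL

open ArtFun ArtFun.Art Groth.Agent.Lib.Helper18.EmbG Groth.Agent.Lib.Helper18.EmbI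
open Groth.Agent.Lib.Helper18.EmbJ Groth.Agent.Lib.Helper19

variable {k : Type u} [Field k] {X : Scheme.{u}} (x : X ⟶ specPt k) (I₀ : X.IdealSheafData)

/-- the classifying map as a `k`-linear map, for any tangent structure -/
noncomputable def PhiL [T : TangentStr (localHilb X x I₀)] :
    letI : X.Over (Spec (CommRingCat.of k)) := ⟨x⟩
    TangentSpace (localHilb X x I₀) →ₗ[k] (ClSub.idealMod I₀ ⟶ ClSub.quotMod I₀) :=
  letI : X.Over (Spec (CommRingCat.of k)) := ⟨x⟩
  { toFun := fun I => Phi I
    map_add' := by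
      intro a b
      obtain ⟨h0, h2, -, -⟩ := HullW.main x I₀
      obtain ⟨z, hz1, hz2⟩ := ArtFunTangent.surj_pair (M := k) h0 h2 a b
      have e : a + b = (localHilb X x I₀).map plus z := by
        rw [← T.add_eq z]
        exact congrArg₂ (· + ·) hz1.symm hz2.symm
      rw [e]
      have e2 : Phi (push z plus) = Phi (push z pr₁) + Phi (push z pr₂) := Phi_plus z
      have ha : Phi (push z pr₁) = Phi a := congrArg Phi hz1
      have hb : Phi (push z pr₂) = Phi b := congrArg Phi hz2
      exact e2.trans (congrArg₂ (· + ·) ha hb)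
    map_smul' := by
      intro c a
      have e : c • a = (localHilb X x I₀).map (scale c) a := T.smul_eq c a
      rw [e]
      exact Phi_scale a c }

lemma PhiL_apply [T : TangentStr (localHilb X x I₀)] (a : TangentSpace (localHilb X x I₀)) :
    PhiL x I₀ a = Phi a := rfl

/-- if the classifying map is surjective, the tangent space is `Hom(I₀, O/I₀)` -/
theorem nonempty_linearEquiv (hsurj : Function.Surjective (Phi (x := x) (I₀ := I₀)))
    [T : TangentStr (localHilb X x I₀)] :
    letI : X.Over (Spec (CommRingCat.of k)) := ⟨x⟩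
    Nonempty (TangentSpace (localHilb X x I₀) ≃ₗ[k] (ClSub.idealMod I₀ ⟶ ClSub.quotMod I₀)) := by
  letI : X.Over (Spec (CommRingCat.of k)) := ⟨x⟩
  exact ⟨LinearEquiv.ofBijective (PhiL x I₀)
    ⟨fun a b hab => Phi_injective hab, fun φ => hsurj φ⟩⟩

/-- rigidity: all values are subsingletons iff `Hom(I₀, O/I₀) = 0` -/
theorem forall_subsingleton_iff (hsurj : Function.Surjective (Phi (x := x) (I₀ := I₀))) :
    (∀ A : Art k k, Subsingleton ((localHilb X x I₀).obj A)) ↔
      Subsingleton (ClSub.idealMod I₀ ⟶ ClSub.quotMod I₀) := by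
  constructor
  · intro h
    haveI := h (dual k k)
    refine ⟨fun φ ψ => ?_⟩
    obtain ⟨a, rfl⟩ := hsurj φ
    obtain ⟨b, rfl⟩ := hsurj ψ
    rw [Subsingleton.elim a b]
  · intro h A
    obtain ⟨h0, -, -, -⟩ := HullW.main x I₀
    haveI := h0.2
    have hinj := EmbD.main X x I₀ h (toBase A) A.res_surjective
    exact ⟨fun a b => hinj (Subsingleton.elim _ _)⟩

end Groth.Agent.Lib.Helper18.EmbL
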