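import Mathlib
import Groth.Agent.Lib.Helper18.EmbK

/-!
# The ideals `J W` are compatible with basic opens (helper18)
-/

set_option autoImplicit false
set_option linter.style.haveILetI false
set_option linter.unusedSectionVars false
universe u

open CategoryTheory CategoryTheory.Limits AlgebraicGeometry

namespace Groth.Agent.Lib.Helper18.EmbR1

open ArtFun ArtFun.Art Groth.Agent.Lib.Helper18.EmbA Groth.Agent.Lib.Helper18.EmbB
open Groth.Agent.Lib.Helper18.EmbC Groth.Agent.Lib.Helper18.EmbK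
open Groth.Agent.Lib.Helper20.DualSect
open Groth.Agent.Lib.Helper28.Pinch Groth.Agent.Lib.Helper3 Groth.Agent.Lib.Helper3.QCSec

variable {k : Type u} [Field k] {X : Scheme.{u}} {x : X ⟶ specPt k} (I₀ : X.IdealSheafData)
  (φ : ClSub.idealMod I₀ ⟶ ClSub.quotMod I₀)

section Res

variable {W W' : (XA x (dual k k)).Opens} (hle : W' ≤ W)

include hle in
lemma trU_mono : trU W' ≤ trU W := (XAincl x (dual k k)).preimage_mono hle

lemma PW_res : PW W ≫ (XA x (dual k k)).presheaf.map (homOfLE hle).op =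
    X.presheaf.map (homOfLE (trU_mono hle)).op ≫ PW W' := by
  unfold PW
  rw [Scheme.Hom.appLE_map, Scheme.Hom.map_appLE]

lemma PW_res_apply (f : Γ(X, trU W)) :
    (XA x (dual k k)).presheaf.map (homOfLE hle).op ((PW W).hom f) =
      (PW W').hom (rres X (trU_mono hle) f) :=
  ConcreteCategory.congr_hom (PW_res hle) f

lemma aW_res : aW W ≫ (XA x (dual k k)).presheaf.map (homOfLE hle).op = aW (x := x) W' := by
  unfold aW
  rw [Category.assoc, Scheme.Hom.appLE_map]

lemma epsW_res : (XA x (dual k k)).presheaf.map (homOfLE hle).op (epsW W) = epsW (x := x) W' :=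
  ConcreteCategory.congr_hom (aW_res hle) (epsD (k := k))

lemma app_rres {U U' : X.Opens} (h : U' ≤ U) (g : Γ(X, U)) :
    (I₀.subschemeι.app U').hom (rres X h g) = (rhoY (I₀ := I₀) h).hom ((I₀.subschemeι.app U).hom g) :=
  ConcreteCategory.congr_hom (I₀.subschemeι.naturality (homOfLE h).op) g

lemma fromQ_res {U U' : X.Opens} (h : U' ≤ U) (c : Γ(ClSub.quotMod I₀, U)) :
    fromQ U' (res (ClSub.quotMod I₀) h c) = (rhoY (I₀ := I₀) h).hom (fromQ U c) := rfl

include hle in
/-- the easy inclusion -/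
lemma map_le {hW : IsAffineOpen W} {hW' : IsAffineOpen W'} :
    (J I₀ φ hW).map ((XA x (dual k k)).presheaf.map (homOfLE hle).op).hom ≤ J I₀ φ hW' := by
  rw [Ideal.map_le_iff_le_comap]
  rintro _ ⟨s, g, rfl, hc⟩
  refine ⟨res (ClSub.idealMod I₀) (trU_mono hle) s, rres X (trU_mono hle) g, ?_, ?_⟩
  · rw [map_add, map_mul]
    have e1 := PW_res_apply hle (IdealMod.val I₀ s)
    have e2 := PW_res_apply hle g
    have e3 := epsW_res (x := x) hle
    rw [IdealMod.val_res]
    exact congrArg₂ (· + ·) e1 (congrArg₂ (· * ·) e3 e2)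
  · rw [QCExact.app_res', fromQ_res, app_rres, ← map_add, hc, map_zero]

end Res

section Basic

variable (W : (XA x (dual k k)).affineOpens) (w : Γ(XA x (dual k k), W.1))

/-- the trace of `w` on `X` -/
noncomputable def aa : Γ(X, trU W.1) := ((XAincl x (dual k k)).app W.1).hom w

lemma trU_basicOpen : trU ((XA x (dual k k)).basicOpen w) = X.basicOpen (aa W w) :=
  Scheme.preimage_basicOpen (XAincl x (dual k k)) w

/-- the hard inclusion -/
lemma le_map {W' : (XA x (dual k k)).Opens} (hW' : IsAffineOpen W') (hle : W' ≤ W.1)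
    (hbo : W' = (XA x (dual k k)).basicOpen w) :
    J I₀ φ hW' ≤
      (J I₀ φ W.2).map ((XA x (dual k k)).presheaf.map (homOfLE hle).op).hom := by
  rintro _ ⟨s', g', rfl, hc'⟩
  have hUle : trU W' ≤ trU W.1 := trU_mono hle
  have hU' : trU W' = X.basicOpen (aa W w) := by rw [hbo]; exact trU_basicOpen W w
  have hUaff : IsAffineOpen (trU W.1) := isAffineOpen_trU W.2
  have hU'aff : IsAffineOpen (trU W') := isAffineOpen_trU hW'
  letI : Algebra Γ(X, trU W.1) Γ(X, trU W') :=
    (X.presheaf.map (homOfLE hUle).op).hom.toAlgebra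
  haveI hloc : IsLocalization.Away (aa W w) Γ(X, trU W') :=
    hUaff.isLocalization_of_eq_basicOpen (aa W w) (homOfLE hUle) hU'
  have halg : ∀ r : Γ(X, trU W.1),
      algebraMap Γ(X, trU W.1) Γ(X, trU W') r = rres X hUle r :=
    fun r => rfl
  -- `val s'` lies in the extended ideal
  have h1 : IdealMod.val I₀ s' ∈ (I₀.ideal ⟨trU W.1, hUaff⟩).map
      (algebraMap Γ(X, trU W.1) Γ(X, trU W')) := by
    have hmap := I₀.map_ideal (U := ⟨trU W', hU'aff⟩)
      (V := ⟨trU W.1, hUaff⟩) hUle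
    have hmem : IdealMod.val I₀ s' ∈ I₀.ideal ⟨trU W', hU'aff⟩ := by
      rw [← Scheme.IdealSheafData.ker_subschemeι_app]
      exact IdealMod.app_val I₀ s'
    rw [← hmap] at hmem
    exact hmem
  obtain ⟨⟨⟨f, hf⟩, ⟨_, n, rfl⟩⟩, hfn⟩ :=
    (IsLocalization.mem_map_algebraMap_iff (Submonoid.powers (aa W w)) _).1 h1
  obtain ⟨⟨g₁, ⟨_, m, rfl⟩⟩, hgm⟩ := IsLocalization.surj (Submonoid.powers (aa W w)) g'
  simp only [halg, map_pow] at hfn hgm
  have hf' : (I₀.subschemeι.app (trU W.1)).hom f = 0 := by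
    have : f ∈ RingHom.ker (I₀.subschemeι.app (⟨trU W.1, hUaff⟩ : X.affineOpens).1).hom := by
      rw [Scheme.IdealSheafData.ker_subschemeι_app]; exact hf
    exact this
  obtain ⟨s, hs⟩ := IdealMod.exists_val_eq I₀ f hf'
  set ra : Γ(X, trU W') := rres X hUle (aa W w) with hra
  have hs₁ : res (ClSub.idealMod I₀) hUle ((aa W w) ^ m • s) = ra ^ (n + m) • s' := by
    apply IdealMod.val_injective I₀
    rw [IdealMod.val_res, IdealMod.val_smul, IdealMod.val_smul, hs]
    have e : rres X hUle (aa W w ^ m * f) = ra ^ m * rres X hUle f := by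
      rw [hra]
      exact (map_mul _ _ _).trans (congrArg (· * _) (map_pow _ _ _))
    rw [e, ← hfn]
    ring
  have hg₂ : rres X hUle ((aa W w) ^ n * g₁) = ra ^ (n + m) * g' := by
    have e : rres X hUle (aa W w ^ n * g₁) = ra ^ n * rres X hUle g₁ := by
      rw [hra]
      exact (map_mul _ _ _).trans (congrArg (· * _) (map_pow _ _ _))
    rw [e, ← hgm]
    ring
  -- the defect
  have hδ0 : (rhoY (I₀ := I₀) hUle).hom ((I₀.subschemeι.app (trU W.1)).hom ((aa W w) ^ n * g₁) +
      fromQ (trU W.1) (φ.app (trU W.1) ((aa W w) ^ m • s))) = 0 := by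
    rw [map_add, ← app_rres, ← fromQ_res, ← QCExact.app_res', hs₁, hg₂,
      Scheme.Modules.Hom.app_smul, fromQ_smul, map_mul, ← mul_add, hc', mul_zero]
  -- localization on `Y₀`
  have hVaff : IsAffineOpen (VV (I₀ := I₀) (trU W.1)) := hUaff.preimage I₀.subschemeι
  have hV' : VV (I₀ := I₀) (trU W') =
      I₀.subscheme.basicOpen ((I₀.subschemeι.app (trU W.1)).hom (aa W w)) := by
    change I₀.subschemeι ⁻¹ᵁ (trU W') = _
    rw [hU']
    exact Scheme.preimage_basicOpen I₀.subschemeι (aa W w)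
  letI : Algebra Γ(I₀.subscheme, VV (I₀ := I₀) (trU W.1)) Γ(I₀.subscheme, VV (I₀ := I₀) (trU W')) :=
    (rhoY (I₀ := I₀) hUle).hom.toAlgebra
  haveI hlocY : IsLocalization.Away ((I₀.subschemeι.app (trU W.1)).hom (aa W w))
      Γ(I₀.subscheme, VV (I₀ := I₀) (trU W')) :=
    hVaff.isLocalization_of_eq_basicOpen _ (homOfLE (I₀.subschemeι.preimage_mono hUle)) hV'
  obtain ⟨⟨_, M, rfl⟩, hM⟩ := IsLocalization.exists_of_eq
    (M := Submonoid.powers ((I₀.subschemeι.app (trU W.1)).hom (aa W w)))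
    (S := Γ(I₀.subscheme, VV (I₀ := I₀) (trU W')))
    (x := (I₀.subschemeι.app (trU W.1)).hom ((aa W w) ^ n * g₁) +
      fromQ (trU W.1) (φ.app (trU W.1) ((aa W w) ^ m • s))) (y := 0)
    (by rw [map_zero]; exact hδ0)
  rw [mul_zero] at hM
  -- the element over `W`
  have hmem : (PW W.1).hom (IdealMod.val I₀ ((aa W w) ^ M • ((aa W w) ^ m • s))) +
      epsW W.1 * (PW W.1).hom ((aa W w) ^ M * ((aa W w) ^ n * g₁)) ∈ J I₀ φ W.2 := by
    refine ⟨(aa W w) ^ M • ((aa W w) ^ m • s), (aa W w) ^ M * ((aa W w) ^ n * g₁), rfl, ?_⟩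
    rw [Scheme.Modules.Hom.app_smul, fromQ_smul, map_mul, ← mul_add, map_pow]
    exact hM
  have hρ : ((XA x (dual k k)).presheaf.map (homOfLE hle).op).hom
      ((PW W.1).hom (IdealMod.val I₀ ((aa W w) ^ M • ((aa W w) ^ m • s))) +
        epsW W.1 * (PW W.1).hom ((aa W w) ^ M * ((aa W w) ^ n * g₁))) =
      (PW W').hom (ra ^ (M + (n + m))) *
        ((PW W').hom (IdealMod.val I₀ s') + epsW W' * (PW W').hom g') := by
    rw [map_add, map_mul]
    have e1 := PW_res_apply hle (IdealMod.val I₀ ((aa W w) ^ M • ((aa W w) ^ m • s)))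
    have e2 := PW_res_apply hle ((aa W w) ^ M * ((aa W w) ^ n * g₁))
    have e3 := epsW_res (x := x) hle
    have e4 : rres X (trU_mono hle) (IdealMod.val I₀ ((aa W w) ^ M • ((aa W w) ^ m • s))) =
        ra ^ (M + (n + m)) * IdealMod.val I₀ s' := by
      rw [IdealMod.val_smul]
      have e : rres X hUle (aa W w ^ M * IdealMod.val I₀ ((aa W w) ^ m • s)) =
          ra ^ M * rres X hUle (IdealMod.val I₀ ((aa W w) ^ m • s)) := by
        rw [hra]
        exact (map_mul _ _ _).trans (congrArg (· * _) (map_pow _ _ _))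
      rw [e, ← IdealMod.val_res, hs₁, IdealMod.val_smul]
      ring
    have e5 : rres X (trU_mono hle) ((aa W w) ^ M * ((aa W w) ^ n * g₁)) =
        ra ^ (M + (n + m)) * g' := by
      have e : rres X hUle (aa W w ^ M * ((aa W w) ^ n * g₁)) =
          ra ^ M * rres X hUle ((aa W w) ^ n * g₁) := by
        rw [hra]
        exact (map_mul _ _ _).trans (congrArg (· * _) (map_pow _ _ _))
      rw [e, hg₂]
      ring
    rw [e4] at e1
    rw [e5] at e2
    have e6 : ((XA x (dual k k)).presheaf.map (homOfLE hle).op).hom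
        ((PW W.1).hom (IdealMod.val I₀ ((aa W w) ^ M • ((aa W w) ^ m • s)))) =
        (PW W').hom (ra ^ (M + (n + m)) * IdealMod.val I₀ s') := e1
    have e7 : ((XA x (dual k k)).presheaf.map (homOfLE hle).op).hom
        ((PW W.1).hom ((aa W w) ^ M * ((aa W w) ^ n * g₁))) =
        (PW W').hom (ra ^ (M + (n + m)) * g') := e2
    have e8 : ((XA x (dual k k)).presheaf.map (homOfLE hle).op).hom (epsW W.1) = epsW W' := e3
    rw [e6, e7, e8, map_mul, map_mul]
    ring
  -- `ra` is a unit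
  have hu : IsUnit ((PW W').hom (ra ^ (M + (n + m)))) := by
    apply IsUnit.map
    apply IsUnit.pow
    exact IsLocalization.Away.algebraMap_isUnit (aa W w)
  obtain ⟨u, hu'⟩ := hu
  have hfin : (PW W').hom (IdealMod.val I₀ s') + epsW W' * (PW W').hom g' =
      ↑u⁻¹ * ((XA x (dual k k)).presheaf.map (homOfLE hle).op).hom
      ((PW W.1).hom (IdealMod.val I₀ ((aa W w) ^ M • ((aa W w) ^ m • s))) +
        epsW W.1 * (PW W.1).hom ((aa W w) ^ M * ((aa W w) ^ n * g₁))) := by
    rw [hρ, ← hu', ← mul_assoc, Units.inv_mul, one_mul]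
  rw [hfin]
  exact Ideal.mul_mem_left _ _ (Ideal.mem_map_of_mem _ hmem)

/-- **R1**: the ideals `J W` are compatible with passing to basic opens. -/
theorem J_map_basicOpen :
    (J I₀ φ W.2).map ((XA x (dual k k)).presheaf.map
        (homOfLE ((XA x (dual k k)).basicOpen_le w)).op).hom =
      J I₀ φ ((XA x (dual k k)).affineBasicOpen w).2 :=
  le_antisymm (map_le I₀ φ ((XA x (dual k k)).basicOpen_le w))
    (le_map I₀ φ W w ((XA x (dual k k)).affineBasicOpen w).2
      ((XA x (dual k k)).basicOpen_le w) rfl)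

/-- the ideal sheaf of the first-order deformation attached to `φ` -/
noncomputable def Iphi (x : X ⟶ specPt k) (I₀ : X.IdealSheafData)
    (φ : ClSub.idealMod I₀ ⟶ ClSub.quotMod I₀) : (XA x (dual k k)).IdealSheafData where
  ideal W := J I₀ φ W.2
  map_ideal_basicOpen W w := J_map_basicOpen I₀ φ W w

lemma Iphi_ideal (W : (XA x (dual k k)).affineOpens) : (Iphi x I₀ φ).ideal W = J I₀ φ W.2 := rfl

end Basic

end Groth.Agent.Lib.Helper18.EmbR1
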