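import Mathlib
import Groth.Agent.Lib.Helper18.EmbK
import Groth.Agent.Lib.Helper17.EmbR4
import Groth.Agent.Lib.Helper13.EmbR3F1
import Groth.Agent.Lib.Helper11.EmbR3F2
import Groth.Agent.Lib.Helper26.DualNumFlat

/-!
# Flatness of the first-order deformation attached to a homomorphism (helper18; hedge for R3)
-/

set_option autoImplicit false
set_option linter.style.haveILetI false
set_option linter.unusedSectionVars false
universe u

open CategoryTheory CategoryTheory.Limits AlgebraicGeometry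

namespace Groth.Agent.Lib.Helper18.EmbR3

open ArtFun ArtFun.Art Groth.Agent.Lib.Helper18.EmbA Groth.Agent.Lib.Helper18.EmbB
open Groth.Agent.Lib.Helper18.EmbC Groth.Agent.Lib.Helper18.EmbK
open Groth.Agent.Lib.Helper20.DualSect Groth.Agent.Lib.Helper17.EmbR4
open Groth.Agent.Lib.Helper28.Pinch Groth.Agent.Lib.Helper3

variable {k : Type u} [Field k] {X : Scheme.{u}} {x : X ⟶ specPt k} (I₀ : X.IdealSheafData)
  (φ : ClSub.idealMod I₀ ⟶ ClSub.quotMod I₀)

lemma flat_x (x : X ⟶ specPt k) : Flat x := by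
  haveI : Subsingleton (specPt k) := inferInstanceAs (Subsingleton (PrimeSpectrum k))
  haveI : IsIntegral (specPt k) := inferInstanceAs (IsIntegral (Spec (CommRingCat.of k)))
  infer_instance

lemma flat_aW {W : (XA x (dual k k)).Opens} (hW : IsAffineOpen W) : (aW (x := x) W).hom.Flat := by
  haveI := flat_x x
  haveI : Flat (XApr x (dual k k)) := inferInstanceAs (Flat (pullback.snd x (specOver (dual k k))))
  exact HullR.flat_alg (XApr x (dual k k)) hW

/-- `ε PW h = 0` forces `h = 0` -/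
lemma eq_zero_of_epsW_mul {W : (XA x (dual k k)).Opens} (hW : IsAffineOpen W) (h : Γ(X, trU W))
    (hh : epsW W * (PW W).hom h = 0) : h = 0 := by
  have h1 := Groth.Agent.Lib.Helper26.DualNumFlat.mem_span_eps_of_eps_mul_eq_zero
    (k := k) (aW (x := x) W).hom (flat_aW hW) ((PW W).hom h) hh
  obtain ⟨b, hb⟩ := Ideal.mem_span_singleton'.1 h1
  have h2 := congrArg ((XAincl x (dual k k)).app W).hom hb
  rw [map_mul, PW_app_apply] at h2
  have h4 : ((XAincl x (dual k k)).app W).hom b * ((XAincl x (dual k k)).app W).hom (epsW W) = h :=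
    h2
  rw [epsW_app, mul_zero] at h4
  exact h4.symm

/-- the key property of `J` for flatness -/
lemma J_key {W : (XA x (dual k k)).Opens} (hW : IsAffineOpen W) (b : Γ(XA x (dual k k), W))
    (hb : epsW W * b ∈ J I₀ φ hW) :
    ∃ j ∈ J I₀ φ hW, ∃ c : Γ(XA x (dual k k), W), b = j + epsW W * c := by
  obtain ⟨f, g, rfl⟩ := exists_decompW hW b
  obtain ⟨s, g₀, he, hc⟩ := hb
  -- apply `XAincl^♯`
  have e1 : epsW W * ((PW W).hom f + epsW W * (PW W).hom g) = epsW W * (PW W).hom f := by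
    rw [mul_add, ← mul_assoc, epsW_mul_self, zero_mul, add_zero]
  rw [e1] at he
  have h2 := congrArg ((XAincl x (dual k k)).app W).hom he
  rw [map_mul, map_add, map_mul, PW_app_apply, PW_app_apply, PW_app_apply, epsW_app, zero_mul,
    zero_mul, add_zero] at h2
  -- `val s = 0`
  have hs0 : s = 0 := by
    apply IdealMod.val_injective I₀
    rw [← h2]
    have h := IdealMod.val_add I₀ (0 : Γ(ClSub.idealMod I₀, trU W)) 0
    rw [add_zero] at h
    exact (left_eq_add.mp h).symm
  subst hs0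
  rw [← h2, map_zero, zero_add] at he
  have h3 : epsW W * (PW W).hom (f - g₀) = 0 := by
    rw [map_sub, mul_sub, he, sub_self]
  have h4 : f = g₀ := sub_eq_zero.mp (eq_zero_of_epsW_mul hW _ h3)
  rw [map_zero, fromQ_zero, add_zero] at hc
  -- `ι₀ f = 0`
  have hf0 : (I₀.subschemeι.app (trU W)).hom f = 0 := by rw [h4]; exact hc
  obtain ⟨s₁, hs₁⟩ := IdealMod.exists_val_eq I₀ f hf0
  -- choose `g₂` with `ι₀ g₂ = -φ s₁`
  have hsurj : Function.Surjective (I₀.subschemeι.app (trU W)).hom :=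
    I₀.subschemeι_app_surjective ⟨trU W, isAffineOpen_trU hW⟩
  obtain ⟨g₂, hg₂⟩ := hsurj (-(fromQ (trU W) (φ.app (trU W) s₁)))
  refine ⟨(PW W).hom (IdealMod.val I₀ s₁) + epsW W * (PW W).hom g₂,
    ⟨s₁, g₂, rfl, by rw [hg₂, neg_add_cancel]⟩, (PW W).hom g - (PW W).hom g₂, ?_⟩
  rw [hs₁]
  ring

/-- **R3** -/
theorem flatOver_of_ideal_eq (I : (XA x (dual k k)).IdealSheafData)
    (hI : ∀ W : (XA x (dual k k)).affineOpens, I.ideal W = J I₀ φ W.2) :
    FlatOver X x (dual k k) I := by
  unfold FlatOver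
  apply Groth.Agent.Lib.Helper11.EmbR3F2.flat_subschemeι_comp
  intro W
  rw [hI W]
  exact Groth.Agent.Lib.Helper13.EmbR3F1.flat_quotient_dualNumber (k := k) (aW (x := x) W.1).hom
    (J I₀ φ W.2) (fun b hb => J_key I₀ φ W.2 b hb)

end Groth.Agent.Lib.Helper18.EmbR3
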