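import Mathlib
import Groth.Agent.Lib.Helper18.EmbL
import Groth.Agent.Lib.Helper18.EmbR1
import Groth.Agent.Lib.Helper18.EmbR3
import Groth.Agent.Lib.Helper17.EmbR4
import Groth.Agent.Lib.Helper20.EmbPhiEq

/-!
# The classifying map `t_F → Hom(I₀, O/I₀)` of the local Hilbert functor is bijective (helper18)
-/

set_option autoImplicit false
set_option linter.style.haveILetI false
universe u

open CategoryTheory CategoryTheory.Limits AlgebraicGeometry

namespace Groth.Agent.Lib.Helper18.EmbM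

open ArtFun ArtFun.Art Groth.Agent.Lib.Helper18.EmbK

variable {k : Type u} [Field k] {X : Scheme.{u}} (x : X ⟶ specPt k) (I₀ : X.IdealSheafData)

/-- every homomorphism `I₀ ⟶ O/I₀` is the classifying morphism of a first-order embedded
deformation -/
theorem Phi_surjective : Function.Surjective (EmbI.Phi (x := x) (I₀ := I₀)) := fun φ =>
  ⟨⟨EmbR1.Iphi x I₀ φ, EmbR3.flatOver_of_ideal_eq I₀ φ _ (fun _ => rfl),
    Groth.Agent.Lib.Helper17.EmbR4.comap_of_ideal_eq I₀ φ _ (fun _ => rfl)⟩,
    Groth.Agent.Lib.Helper20.EmbPhiEq.Phi_of_ideal_eq I₀ φ _ (fun _ => rfl)⟩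

/-- the tangent space of the local Hilbert functor is `Hom(I₀, O/I₀)` -/
theorem nonempty_linearEquiv [T : TangentStr (localHilb X x I₀)] :
    letI : X.Over (Spec (CommRingCat.of k)) := ⟨x⟩
    Nonempty (TangentSpace (localHilb X x I₀) ≃ₗ[k] (ClSub.idealMod I₀ ⟶ ClSub.quotMod I₀)) :=
  EmbL.nonempty_linearEquiv x I₀ (Phi_surjective x I₀)

/-- rigidity: all values are subsingletons iff `Hom(I₀, O/I₀) = 0` -/
theorem forall_subsingleton_iff :
    (∀ A : Art k k, Subsingleton ((localHilb X x I₀).obj A)) ↔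
      Subsingleton (ClSub.idealMod I₀ ⟶ ClSub.quotMod I₀) :=
  EmbL.forall_subsingleton_iff x I₀ (Phi_surjective x I₀)

end Groth.Agent.Lib.Helper18.EmbM
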