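import Mathlib
import Groth.Agent.Lib.Helper18.EmbM
import Groth.Agent.Lib.Helper19.ArtFunLength
import Groth.Agent.Lib.Helper29.HomHHC2
import Groth.Agent.Lib.Helper20.SemismallDouble
import Groth.Agent.Lib.Helper13.TszPi

/-!
# Fibres of the local Hilbert functor along semismall extensions (helper18)
-/

set_option autoImplicit false
set_option linter.style.haveILetI false
universe u
open CategoryTheory CategoryTheory.Limits AlgebraicGeometry TensorProduct
open ArtFun ArtFun.Art Groth.Agent.Lib.Helper18 Groth.Agent.Lib.Helper19.ArtFunTangent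

namespace Groth.Agent.Lib.Helper18.EmbN

section General

variable {k : Type u} [Field k] (F : Art k k ⥤ Type u) (h0 : H0 F)
  (hbij : ∀ ⦃B A A' A'' : Art k k⦄ (p' : B ⟶ A') (p'' : B ⟶ A'') (f' : A' ⟶ A) (f'' : A'' ⟶ A)
    (h : IsFibreProd p' p'' f' f''), Function.Surjective f'' → Function.Bijective (cmp F h))

include h0 hbij in
/-- the fibre of `F(C') → F(C)` over a point, if nonempty, is `F(k[V])` when the double of `C' → C`
is `C' ×_k k[V]` -/
theorem nonempty_fibre_equiv {C' C G T : Art k k} (p : C' ⟶ C) (hp : Function.Surjective p)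
    (π₁ π₂ : G ⟶ C') (hG : IsFibreProd π₁ π₂ p p) (δ : G ⟶ T)
    (hδ : IsFibreProd π₁ δ (toBase C') (toBase T)) (I : F.obj C)
    (hne : ∃ I' : F.obj C', F.map p I' = I) :
    Nonempty ({I' : F.obj C' // F.map p I' = I} ≃ F.obj T) := by
  obtain ⟨I'₀, hI'₀⟩ := hne
  have b1 := hbij π₁ π₂ p p hG hp
  have b2 := hbij π₁ δ (toBase C') (toBase T) hδ T.res_surjective
  haveI := h0.2
  -- the element of the double attached to a point of the fibre
  have hw : ∀ I'' : {I' : F.obj C' // F.map p I' = I},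
      ∃ w : F.obj G, F.map π₁ w = I'₀ ∧ F.map π₂ w = I''.1 := by
    intro I''
    obtain ⟨w, hw⟩ := b1.2 ⟨(I'₀, I''.1), hI'₀.trans I''.2.symm⟩
    exact ⟨w, congrArg (fun z => z.1.1) hw, congrArg (fun z => z.1.2) hw⟩
  choose w hw1 hw2 using hw
  refine ⟨Equiv.ofBijective (fun I'' => F.map δ (w I'')) ⟨?_, ?_⟩⟩
  · intro a b hab
    have hab' : F.map δ (w a) = F.map δ (w b) := hab
    have e : w a = w b := by
      apply b2.1
      apply FibProd.ext
      · exact (hw1 a).trans (hw1 b).symm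
      · exact hab'
    apply Subtype.ext
    rw [← hw2 a, ← hw2 b, e]
  · intro v
    obtain ⟨w', hw'⟩ := b2.2 ⟨(I'₀, v), Subsingleton.elim _ _⟩
    have h1 : F.map π₁ w' = I'₀ := congrArg (fun z => z.1.1) hw'
    have h2 : F.map δ w' = v := congrArg (fun z => z.1.2) hw'
    have h3 : F.map p (F.map π₂ w') = I := by
      have e1 : F.map p (F.map π₂ w') = F.map p (F.map π₁ w') := by
        rw [Groth.Agent.Lib.Helper19.ArtFunTangent.map_map, Groth.Agent.Lib.Helper19.ArtFunTangent.map_map, hG.w]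
      rw [e1, h1, hI'₀]
    refine ⟨⟨F.map π₂ w', h3⟩, ?_⟩
    have e : w ⟨F.map π₂ w', h3⟩ = w' := by
      apply b1.1
      apply FibProd.ext
      · exact (hw1 _).trans h1.symm
      · exact hw2 _
    change F.map δ (w ⟨F.map π₂ w', h3⟩) = v
    rw [e, h2]

end General

section LocalHilb

variable {k : Type u} [Field k] {X : Scheme.{u}} (x : X ⟶ specPt k) (I₀ : X.IdealSheafData)

theorem fibre_localHilb {C' C : Art k k} (p : C' ⟶ C) (hp : IsSemismallExt p)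
    (I : (localHilb X x I₀).obj C) (hne : ∃ I' : (localHilb X x I₀).obj C',
      (localHilb X x I₀).map p I' = I) :
    ∃ r : ℕ, Nonempty ({I' : (localHilb X x I₀).obj C' // (localHilb X x I₀).map p I' = I} ≃
        (Fin r → (localHilb X x I₀).obj (dual k k))) ∧
      Nonempty (↥(RingHom.ker p.toAlgHom) ≃ₗ[k] (Fin r → k)) := by
  obtain ⟨h0, h2, -, -⟩ := HullW.main x I₀
  obtain ⟨G, π₁, π₂, hG⟩ := Groth.Agent.Lib.Helper19.ArtFunLength.exists_isFibreProd p p hp.1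
  obtain ⟨r, δ, hδ, hJ⟩ := Groth.Agent.Lib.Helper20.SemismallDouble.exists_delta_semismall p hp π₁ π₂ hG
  obtain ⟨e1⟩ := nonempty_fibre_equiv (localHilb X x I₀) h0
    (fun B A A' A'' p' p'' f' f'' h hf => ⟨HullW.inj_cmp x I₀ h hf, HullW.surj_cmp x I₀ h hf⟩)
    p hp.1 π₁ π₂ hG δ hδ I hne
  obtain ⟨e2⟩ := Groth.Agent.Lib.Helper13.TszPi.nonempty_equiv_tsz_pi (localHilb X x I₀) h0 h2 r
  exact ⟨r, ⟨e1.trans e2⟩, hJ⟩

end LocalHilb

theorem fibre_equiv_HH_tensor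
    {k : Type u} [Field k] (X₀ : Scheme.{u}) [X₀.Over (Spec (CommRingCat.of k))]
    (I₀ : X₀.IdealSheafData) [I₀.subscheme.Over (Spec (CommRingCat.of k))]
    (hY : I₀.subscheme ↘ Spec (CommRingCat.of k) = I₀.subschemeι ≫ (X₀ ↘ Spec (CommRingCat.of k)))
    [DCoh.HasSheafHom (Omega.conormal I₀.subschemeι)]
    {C' C : ArtFun.Art k k} (p : C' ⟶ C) (hp : ArtFun.Art.IsSemismallExt p)
    (I : (ArtFun.localHilb X₀ (X₀ ↘ Spec (CommRingCat.of k)) I₀).obj C)
    (hne : ∃ I' : (ArtFun.localHilb X₀ (X₀ ↘ Spec (CommRingCat.of k)) I₀).obj C',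
      (ArtFun.localHilb X₀ (X₀ ↘ Spec (CommRingCat.of k)) I₀).map p I' = I) :
    Nonempty ({I' : (ArtFun.localHilb X₀ (X₀ ↘ Spec (CommRingCat.of k)) I₀).obj C' //
        (ArtFun.localHilb X₀ (X₀ ↘ Spec (CommRingCat.of k)) I₀).map p I' = I} ≃
      (Coh.HH I₀.subscheme ((DCoh.sheafHom (Omega.conormal I₀.subschemeι)).obj (Coh.structureModule I₀.subscheme)) 0 ⊗[k]
        ↥(RingHom.ker p.toAlgHom))) := by
  obtain ⟨r, ⟨e1⟩, ⟨eJ⟩⟩ := fibre_localHilb (X₀ ↘ Spec (CommRingCat.of k)) I₀ p hp I hne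
  obtain ⟨e2⟩ := Groth.Agent.Lib.Helper29.HomHHC2.nonempty_linearEquiv_hom_HH X₀ I₀ hY
  let eT : (localHilb X₀ (X₀ ↘ Spec (CommRingCat.of k)) I₀).obj (dual k k) ≃
      (ClSub.idealMod I₀ ⟶ ClSub.quotMod I₀) :=
    Equiv.ofBijective EmbI.Phi ⟨EmbJ.Phi_injective, EmbM.Phi_surjective _ I₀⟩
  let HHt := Coh.HH I₀.subscheme ((DCoh.sheafHom (Omega.conormal I₀.subschemeι)).obj
    (Coh.structureModule I₀.subscheme)) 0
  let e3 : (Fin r → (localHilb X₀ (X₀ ↘ Spec (CommRingCat.of k)) I₀).obj (dual k k)) ≃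
      (Fin r → HHt) := Equiv.piCongrRight (fun _ => eT.trans e2.toEquiv)
  let e4 : (HHt ⊗[k] (Fin r → k)) ≃ₗ[k] (Fin r → HHt) := TensorProduct.piScalarRight k k HHt (Fin r)
  let e5 : (HHt ⊗[k] ↥(RingHom.ker p.toAlgHom)) ≃ₗ[k] (HHt ⊗[k] (Fin r → k)) :=
    TensorProduct.congr (LinearEquiv.refl k HHt) eJ
  exact ⟨e1.trans (e3.trans (e4.symm.toEquiv.trans e5.symm.toEquiv))⟩

end Groth.Agent.Lib.Helper18.EmbN
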