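import Mathlib
import Groth.Prelude.Def_ArtFun6
import Groth.Prelude.Def_ArtFun2
import Groth.Prelude.Def_FGA

/-!
# From pointed morphisms to the Hilbert scheme to the local Hilbert functor (helper18, D12-Y)
-/

set_option autoImplicit false
set_option linter.style.haveILetI false
set_option linter.unusedSectionVars false
universe u
open CategoryTheory CategoryTheory.Limits AlgebraicGeometry
open ArtFun ArtFun.Art

namespace Groth.Agent.Lib.Helper18.HilbY

variable {k : Type u} [Field k] {Y : Scheme.{u}} (y : Y ⟶ Spec (CommRingCat.of k))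

section XT

variable {S : Scheme.{u}} {X : Scheme.{u}} (f : X ⟶ S)

lemma XTmap_fst {T T' : Over S} (a : T' ⟶ T) :
    PicF.XTmap f a ≫ pullback.fst f T.hom = pullback.fst f T'.hom := by
  simp only [PicF.XTmap, pullback.lift_fst, Category.comp_id]

lemma XTmap_snd {T T' : Over S} (a : T' ⟶ T) :
    PicF.XTmap f a ≫ pullback.snd f T.hom = pullback.snd f T'.hom ≫ a.left := by
  simp only [PicF.XTmap, pullback.lift_snd]

lemma isPullback_XTmap {T T' : Over S} (g : T' ⟶ T) :
    IsPullback (PicF.XTmap f g) (PicF.XTproj f T') (PicF.XTproj f T) g.left := by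
  refine IsPullback.of_right ?_ (XTmap_snd f g) (IsPullback.of_hasPullback f T.hom)
  rw [XTmap_fst, Over.w g]
  exact IsPullback.of_hasPullback f T'.hom

lemma hilbPull_eq_comap {T T' : Over S} (g : T' ⟶ T) (I : (PicF.XT f T).IdealSheafData) :
    FGA.hilbPull f g I = I.comap (PicF.XTmap f g) := by
  rw [FGA.hilbPull, Scheme.IdealSheafData.comap, ← pullbackSymmetry_hom_comp_fst,
    Scheme.Hom.ker_comp_of_isIso]

lemma flat_comap {T T' : Over S} (g : T' ⟶ T) (I : (PicF.XT f T).IdealSheafData)
    (hI : Flat (I.subschemeι ≫ PicF.XTproj f T)) :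
    Flat ((I.comap (PicF.XTmap f g)).subschemeι ≫ PicF.XTproj f T') := by
  have sq : IsPullback (pullback.snd (PicF.XTmap f g) I.subschemeι)
      (pullback.fst (PicF.XTmap f g) I.subschemeι ≫ PicF.XTproj f T')
      (I.subschemeι ≫ PicF.XTproj f T) g.left :=
    IsPullback.paste_vert (IsPullback.of_hasPullback (PicF.XTmap f g) I.subschemeι).flip
      (isPullback_XTmap f g)
  have hflat : Flat (pullback.fst (PicF.XTmap f g) I.subschemeι ≫ PicF.XTproj f T') :=
    MorphismProperty.of_isPullback (P := @Flat) sq hI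
  rw [← Scheme.IdealSheafData.comapIso_hom_fst, Category.assoc]
  exact (MorphismProperty.cancel_left_of_respectsIso @Flat (I.comapIso (PicF.XTmap f g)).hom _).2
    hflat

lemma isProper_comap {T T' : Over S} (g : T' ⟶ T) (I : (PicF.XT f T).IdealSheafData)
    (hI : IsProper (I.subschemeι ≫ PicF.XTproj f T)) :
    IsProper ((I.comap (PicF.XTmap f g)).subschemeι ≫ PicF.XTproj f T') := by
  have sq : IsPullback (pullback.snd (PicF.XTmap f g) I.subschemeι)
      (pullback.fst (PicF.XTmap f g) I.subschemeι ≫ PicF.XTproj f T')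
      (I.subschemeι ≫ PicF.XTproj f T) g.left :=
    IsPullback.paste_vert (IsPullback.of_hasPullback (PicF.XTmap f g) I.subschemeι).flip
      (isPullback_XTmap f g)
  have hp : IsProper (pullback.fst (PicF.XTmap f g) I.subschemeι ≫ PicF.XTproj f T') :=
    MorphismProperty.of_isPullback (P := @IsProper) sq hI
  rw [← Scheme.IdealSheafData.comapIso_hom_fst, Category.assoc]
  exact (MorphismProperty.cancel_left_of_respectsIso @IsProper
    (I.comapIso (PicF.XTmap f g)).hom _).2 hp

end XT

lemma specRes_specOver (A : Art k k) : specRes A ≫ specOver A = 𝟙 (specPt k) := by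
  change specRes A ≫ specMap (ofBase A) = _
  rw [specRes_comp]
  change Spec.map (CommRingCat.ofHom (RingHom.id k)) = _
  rw [CommRingCat.ofHom_id, Spec.map_id]

/-- `Spec A` as an object over `Spec k` -/
noncomputable abbrev TA (A : Art k k) : Over (Spec (CommRingCat.of k)) := Over.mk (specOver A)

/-- the closed point of `Spec A` as a morphism over `Spec k` -/
noncomputable def ptA (A : Art k k) : Over.mk (𝟙 (Spec (CommRingCat.of k))) ⟶ TA A :=
  Over.homMk (specRes A) (specRes_specOver A)

/-- `Y ≅ Y ×_k Spec k` -/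
noncomputable def eY : Y ⟶ PicF.XT y (Over.mk (𝟙 (Spec (CommRingCat.of k)))) :=
  pullback.lift (𝟙 Y) y (by simp)

lemma eY_fst : eY y ≫ pullback.fst y (Over.mk (𝟙 (Spec (CommRingCat.of k)))).hom = 𝟙 Y :=
  pullback.lift_fst _ _ _

lemma fst_eY : pullback.fst y (Over.mk (𝟙 (Spec (CommRingCat.of k)))).hom ≫ eY y = 𝟙 _ := by
  apply pullback.hom_ext
  · rw [Category.assoc, eY_fst, Category.comp_id, Category.id_comp]
  · rw [Category.assoc, Category.id_comp]
    unfold eY
    rw [pullback.lift_snd]
    have := pullback.condition (f := y) (g := (Over.mk (𝟙 (Spec (CommRingCat.of k)))).hom)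
    rw [this]
    exact Category.comp_id _

lemma XAincl_eq (A : Art k k) : XAincl y A = eY y ≫ PicF.XTmap y (ptA A) := by
  apply pullback.hom_ext
  · rw [XAincl_fst, Category.assoc]
    have h2 : PicF.XTmap y (ptA A) ≫ pullback.fst y (specOver A) =
        pullback.fst y (Over.mk (𝟙 (Spec (CommRingCat.of k)))).hom := XTmap_fst y (ptA A)
    rw [h2, eY_fst]
  · have h1 : XAincl y A ≫ pullback.snd y (specOver A) = y ≫ specRes A := XAincl_snd y A
    rw [h1, Category.assoc]
    have h2 : PicF.XTmap y (ptA A) ≫ pullback.snd y (specOver A) =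
        pullback.snd y (Over.mk (𝟙 (Spec (CommRingCat.of k)))).hom ≫ specRes A :=
      XTmap_snd y (ptA A)
    rw [h2]
    unfold eY
    rw [pullback.lift_snd_assoc]

section Family

variable (H : Over (Spec (CommRingCat.of k))) (Z : FGA.HilbSet y H) (I₀ : Y.IdealSheafData)
  (h : Over.mk (𝟙 (Spec (CommRingCat.of k))) ⟶ H)
  (hh : FGA.hilbPull y h Z.1 =
    I₀.comap (pullback.fst y (Over.mk (𝟙 (Spec (CommRingCat.of k)))).hom))

include hh in
/-- the fibre condition -/
lemma comap_XAincl {A : Art k k} (g : TA A ⟶ H) (hg : specRes A ≫ g.left = h.left) :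
    (Z.1.comap (PicF.XTmap y g)).comap (XAincl y A) = I₀ := by
  rw [← Scheme.IdealSheafData.comap_comp]
  have e : XAincl y A ≫ PicF.XTmap y g = eY y ≫ PicF.XTmap y h := by
    apply pullback.hom_ext
    · rw [Category.assoc, Category.assoc, XTmap_fst, XTmap_fst]
      have h1 : XAincl y A ≫ pullback.fst y (specOver A) = 𝟙 Y := XAincl_fst y A
      exact h1.trans (eY_fst y).symm
    · rw [Category.assoc, Category.assoc, XTmap_snd, XTmap_snd]
      have h1 : XAincl y A ≫ pullback.snd y (specOver A) = y ≫ specRes A := XAincl_snd y A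
      rw [← Category.assoc, ← Category.assoc]
      have h2 : XAincl y A ≫ pullback.snd y (TA A).hom = y ≫ specRes A := h1
      rw [h2, Category.assoc, hg]
      unfold eY
      rw [pullback.lift_snd]
  rw [e, Scheme.IdealSheafData.comap_comp, ← hilbPull_eq_comap, hh,
    ← Scheme.IdealSheafData.comap_comp, eY_fst, Scheme.IdealSheafData.comap_id]

/-- the element of the local Hilbert functor attached to a pointed morphism -/
noncomputable def elt {A : Art k k} (g : TA A ⟶ H) (hg : specRes A ≫ g.left = h.left) :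
    (localHilb Y y I₀).obj A :=
  ⟨Z.1.comap (PicF.XTmap y g), flat_comap y g Z.1 Z.2.2, comap_XAincl y H Z I₀ h hh g hg⟩

end Family

section Main

variable (H : Over (Spec (CommRingCat.of k))) (Z : FGA.HilbSet y H) (I₀ : Y.IdealSheafData)
  (h : Over.mk (𝟙 (Spec (CommRingCat.of k))) ⟶ H)
  (hh : FGA.hilbPull y h Z.1 =
    I₀.comap (pullback.fst y (Over.mk (𝟙 (Spec (CommRingCat.of k)))).hom))

lemma XTmap_ptA (A : Art k k) (K : (PicF.XT y (TA A)).IdealSheafData)
    (hK : K.comap (XAincl y A) = I₀) :
    K.comap (PicF.XTmap y (ptA A)) =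
      I₀.comap (pullback.fst y (Over.mk (𝟙 (Spec (CommRingCat.of k)))).hom) := by
  rw [XAincl_eq, Scheme.IdealSheafData.comap_comp] at hK
  rw [← hK, ← Scheme.IdealSheafData.comap_comp, fst_eY, Scheme.IdealSheafData.comap_id]

include hh in
/-- **D12-Y** -/
theorem exists_family_of_interface [IsProper y] (hH : FGA.HilbRepresentedBy y H Z)
    {O : Type u} [CommRing O] [Algebra k O] (resO : O →ₐ[k] k)
    (gOf : ∀ A : Art k k, HomSet O resO A → (TA A ⟶ H))
    (gOf_res : ∀ (A : Art k k) (φ : HomSet O resO A), specRes A ≫ (gOf A φ).left = h.left)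
    (gOf_map : ∀ {A B : Art k k} (f : A ⟶ B) (φ : HomSet O resO A),
      (gOf B (HomSet.map f φ)).left = specMap f ≫ (gOf A φ).left)
    (gOf_eu : ∀ (A : Art k k) (g : TA A ⟶ H), specRes A ≫ g.left = h.left →
      ∃! φ : HomSet O resO A, gOf A φ = g) :
    ∃ ξ : Family O resO (localHilb Y y I₀), Function.Bijective (ξ.app (dual k k)) := by
  haveI : IsLocallyNoetherian H.left := hH.1
  let ξ : Family O resO (localHilb Y y I₀) :=
    { app := fun A φ => elt y H Z I₀ h hh (gOf A φ) (gOf_res A φ)
      natural := by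
        intro A B f φ
        apply Subtype.ext
        change Z.1.comap (PicF.XTmap y (gOf B (HomSet.map f φ))) =
          (Z.1.comap (PicF.XTmap y (gOf A φ))).comap (XAmap y f)
        rw [← Scheme.IdealSheafData.comap_comp]
        congr 1
        apply pullback.hom_ext
        · rw [XTmap_fst, Category.assoc, XTmap_fst]
          exact (XAmap_fst y f).symm
        · rw [XTmap_snd, Category.assoc, XTmap_snd, gOf_map f φ]
          have h1 : XAmap y f ≫ pullback.snd y (specOver A) =
              pullback.snd y (specOver B) ≫ specMap f := XAmap_snd y f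
          rw [← Category.assoc, ← Category.assoc]
          exact congrArg (· ≫ (gOf A φ).left) h1.symm }
  refine ⟨ξ, ?_, ?_⟩
  · -- injective
    intro φ₁ φ₂ h12
    have e : Z.1.comap (PicF.XTmap y (gOf (dual k k) φ₁)) =
        Z.1.comap (PicF.XTmap y (gOf (dual k k) φ₂)) := congrArg Subtype.val h12
    haveI : IsLocallyNoetherian (TA (dual k k)).left :=
      inferInstanceAs (IsLocallyNoetherian (Spec (CommRingCat.of (dual k k))))
    obtain ⟨g, -, huniq⟩ := hH.2 (TA (dual k k))
      ⟨Z.1.comap (PicF.XTmap y (gOf (dual k k) φ₁)),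
        isProper_comap y _ Z.1 Z.2.1, flat_comap y _ Z.1 Z.2.2⟩
    have e1 : gOf (dual k k) φ₁ = g := huniq _ (hilbPull_eq_comap y _ _)
    have e2 : gOf (dual k k) φ₂ = g := huniq _ ((hilbPull_eq_comap y _ _).trans e.symm)
    obtain ⟨φ, -, hφ⟩ := gOf_eu (dual k k) g (by rw [← e1]; exact gOf_res _ φ₁)
    exact (hφ φ₁ e1).trans (hφ φ₂ e2).symm
  · -- surjective
    intro I
    haveI : IsLocallyNoetherian (TA (dual k k)).left :=
      inferInstanceAs (IsLocallyNoetherian (Spec (CommRingCat.of (dual k k))))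
    have hprop : IsProper (I.1.subschemeι ≫ PicF.XTproj y (TA (dual k k))) := by
      haveI : IsProper (PicF.XTproj y (TA (dual k k))) :=
        inferInstanceAs (IsProper (pullback.snd y (TA (dual k k)).hom))
      infer_instance
    obtain ⟨g, hg1, -⟩ := hH.2 (TA (dual k k)) ⟨I.1, hprop, I.2.1⟩
    rw [hilbPull_eq_comap] at hg1
    -- `g` is pointed
    have hpt : specRes (dual k k) ≫ g.left = h.left := by
      haveI : IsLocallyNoetherian (Over.mk (𝟙 (Spec (CommRingCat.of k)))).left :=
        inferInstanceAs (IsLocallyNoetherian (Spec (CommRingCat.of k)))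
      obtain ⟨g₀, -, huniq⟩ := hH.2 (Over.mk (𝟙 (Spec (CommRingCat.of k))))
        ⟨Z.1.comap (PicF.XTmap y h), isProper_comap y _ Z.1 Z.2.1, flat_comap y _ Z.1 Z.2.2⟩
      have e1 : h = g₀ := huniq _ (hilbPull_eq_comap y _ _)
      have e2 : ptA (dual k k) ≫ g = g₀ := by
        apply huniq
        rw [hilbPull_eq_comap]
        have hc : PicF.XTmap y (ptA (dual k k) ≫ g) =
            PicF.XTmap y (ptA (dual k k)) ≫ PicF.XTmap y g := by
          apply pullback.hom_ext
          · rw [XTmap_fst, Category.assoc, XTmap_fst, XTmap_fst]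
          · rw [XTmap_snd, Category.assoc, XTmap_snd, ← Category.assoc, XTmap_snd,
              Category.assoc]
            rfl
        have goal : Z.1.comap (PicF.XTmap y (ptA (dual k k) ≫ g)) =
            Z.1.comap (PicF.XTmap y h) := by
          rw [hc, Scheme.IdealSheafData.comap_comp, hg1,
            XTmap_ptA y I₀ (dual k k) I.1 I.2.2, ← hh, hilbPull_eq_comap]
        exact goal
      have e3 : ptA (dual k k) ≫ g = h := e2.trans e1.symm
      exact congrArg (fun t => t.left) e3
    obtain ⟨φ, hφ, -⟩ := gOf_eu (dual k k) g hpt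
    refine ⟨φ, ?_⟩
    apply Subtype.ext
    change Z.1.comap (PicF.XTmap y (gOf (dual k k) φ)) = I.1
    rw [hφ, hg1]

end Main

end Groth.Agent.Lib.Helper18.HilbY
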