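import Mathlib
import Groth.Agent.Lib.Helper18.HilbY
import Groth.Agent.Lib.Helper17.HilbTanX

set_option autoImplicit false
set_option linter.style.haveILetI false
universe u
open CategoryTheory CategoryTheory.Limits AlgebraicGeometry
open ArtFun ArtFun.Art Groth.Agent.Lib.Helper18

namespace Groth.Agent.Lib.Helper18.HilbD12

/-- D12 -/
theorem exists_family_bijective
    {k : Type u} [Field k] (Y : Scheme.{u}) (y : Y ⟶ Spec (CommRingCat.of k)) [IsProper y]
    (H : Over (Spec (CommRingCat.of k))) (Z : FGA.HilbSet y H) (hH : FGA.HilbRepresentedBy y H Z)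
    (I₀ : Y.IdealSheafData)
    (h : Over.mk (𝟙 (Spec (CommRingCat.of k))) ⟶ H)
    (hh : FGA.hilbPull y h Z.1 =
      I₀.comap (pullback.fst y (Over.mk (𝟙 (Spec (CommRingCat.of k)))).hom)) :
    ∃ (_ : Algebra k (H.left.presheaf.stalk (h.left.base (IsLocalRing.closedPoint k))))
      (resO : H.left.presheaf.stalk (h.left.base (IsLocalRing.closedPoint k)) →ₐ[k] k)
      (ξ : ArtFun.Family _ resO (ArtFun.localHilb Y y I₀)),
      Function.Surjective resO ∧ Function.Bijective (ξ.app (ArtFun.Art.dual k k)) := by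
  letI := Groth.Agent.Lib.Helper17.HilbTanX.algO H h
  obtain ⟨ξ, hξ⟩ := HilbY.exists_family_of_interface y H Z I₀ h hh hH
    (Groth.Agent.Lib.Helper17.HilbTanX.resO H h)
    (fun A φ => Groth.Agent.Lib.Helper17.HilbTanX.gOf A φ)
    (fun A φ => Groth.Agent.Lib.Helper17.HilbTanX.gOf_res A φ)
    (fun f φ => Groth.Agent.Lib.Helper17.HilbTanX.gOf_map f φ)
    (fun A g hg => Groth.Agent.Lib.Helper17.HilbTanX.gOf_exists_unique A g hg)
  exact ⟨Groth.Agent.Lib.Helper17.HilbTanX.algO H h, Groth.Agent.Lib.Helper17.HilbTanX.resO H h, ξ,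
    Groth.Agent.Lib.Helper17.HilbTanX.resO_surjective H h, hξ⟩

end Groth.Agent.Lib.Helper18.HilbD12
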