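import Mathlib
import Groth.Agent.Lib.Helper18.EmbM
import Groth.Agent.Lib.Helper8.ProperAtDvr
import Groth.Agent.Lib.Helper18.HilbD12
import Groth.Agent.Lib.Helper4.TanHR
import Groth.Agent.Lib.Helper13.HRH0Heps
import Groth.Agent.Lib.Helper29.HomHHD5

/-!
# The Zariski tangent space of the Hilbert scheme at `[X]` has dimension `h⁰(X, N)` (helper18)
-/

set_option autoImplicit false
set_option linter.style.haveILetI false
universe u
open CategoryTheory CategoryTheory.Limits AlgebraicGeometry
open ArtFun ArtFun.Art Groth.Agent.Lib.Helper18 Groth.Agent.Lib.Helper19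

namespace Groth.Agent.Lib.Helper18.EmbP

section Lin

variable {k : Type u} [Field k] {O : Type u} [CommRing O] [Algebra k O] {resO : O →ₐ[k] k}
  {F : Art k k ⥤ Type u}

/-- a natural family is linear on tangent spaces -/
theorem family_linear [TR : TangentStr (hR O resO)] [TF : TangentStr F]
    (h0R : H0 (hR O resO)) (h2R : Heps (hR O resO)) (ξ : Family O resO F) :
    IsLinearMap k (TangentSpace.ofFamily ξ) := by
  constructor
  · intro a b
    obtain ⟨z, hz1, hz2⟩ := ArtFunTangent.surj_pair (M := k) h0R h2R a b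
    have e : a + b = (hR O resO).map plus z := by
      rw [← TR.add_eq z]
      exact congrArg₂ (· + ·) hz1.symm hz2.symm
    have n0 : ξ.app (dual k k) ((hR O resO).map plus z) =
        F.map plus (ξ.app (dual2 k k) z) := ξ.natural plus z
    have n1 : ξ.app (dual k k) a = F.map pr₁ (ξ.app (dual2 k k) z) := by
      rw [← hz1]; exact ξ.natural pr₁ z
    have n2 : ξ.app (dual k k) b = F.map pr₂ (ξ.app (dual2 k k) z) := by
      rw [← hz2]; exact ξ.natural pr₂ z
    have goal : ξ.app (dual k k) ((hR O resO).map plus z) =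
        TF.addCommGroup.add (ξ.app (dual k k) a) (ξ.app (dual k k) b) := by
      rw [n0, n1, n2]
      exact (TF.add_eq _).symm
    change ξ.app (dual k k) (a + b) = _
    rw [e]
    exact goal
  · intro c a
    have e : c • a = (hR O resO).map (scale c) a := TR.smul_eq c a
    have n0 : ξ.app (dual k k) ((hR O resO).map (scale c) a) =
        F.map (scale c) (ξ.app (dual k k) a) := ξ.natural (scale c) a
    change ξ.app (dual k k) (c • a) = _
    rw [e, n0]
    exact (TF.smul_eq c _).symm

end Lin

theorem finrank_cotangentSpace_eq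
    {k : Type u} [Field k] [IsAlgClosed k] (Y : Scheme.{u}) (y : Y ⟶ Spec (CommRingCat.of k))
    [LocallyOfFiniteType y] [IsSeparated y] [QuasiCompact y]
    (hprojY : ∃ (m : ℕ) (c : Y ⟶ CohB1.ProjSpaceOver m (Spec (CommRingCat.of k))),
      IsClosedImmersion c ∧ c ≫ CohB1.ProjSpaceOver.toBase m (Spec (CommRingCat.of k)) = y)
    (H : Over (Spec (CommRingCat.of k))) (Z : FGA.HilbSet y H) (hH : FGA.HilbRepresentedBy y H Z)
    (X : Scheme.{u}) [X.Over (Spec (CommRingCat.of k))] (i : X ⟶ Y) [IsClosedImmersion i] (hi : i ≫ y = X ↘ (Spec (CommRingCat.of k)))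
    [DCoh.HasSheafHom (Omega.conormal i)]
    (h : Over.mk (𝟙 (Spec (CommRingCat.of k))) ⟶ H)
    (hh : FGA.hilbPull y h Z.1 = i.ker.comap (pullback.fst y (Over.mk (𝟙 (Spec (CommRingCat.of k)))).hom)) :
    Module.finrank (IsLocalRing.ResidueField (H.left.presheaf.stalk (h.left.base (IsLocalRing.closedPoint k))))
        (IsLocalRing.CotangentSpace (H.left.presheaf.stalk (h.left.base (IsLocalRing.closedPoint k)))) =
      Module.finrank k (Coh.HH X ((DCoh.sheafHom (Omega.conormal i)).obj (Coh.structureModule X)) 0) := by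
  haveI : IsProper y := by
    obtain ⟨m, c, hc, rfl⟩ := hprojY
    haveI := hc
    haveI : IsProper (CohB1.ProjSpaceOver.toBase m (Spec (CommRingCat.of k))) :=
      Groth.Agent.Lib.Helper8.ProperAtDvr.isProper_toBase m _
    infer_instance
  haveI : IsLocallyNoetherian H.left := hH.1
  obtain ⟨alg, resO, ξ, hres, hbij⟩ :=
    Groth.Agent.Lib.Helper18.HilbD12.exists_family_bijective Y y H Z hH i.ker h hh
  letI := alg
  obtain ⟨h0R, h2R⟩ := Groth.Agent.Lib.Helper13.HRH0Heps.h0_heps_hR
    (H.left.presheaf.stalk (h.left.base (IsLocalRing.closedPoint k))) resO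
  obtain ⟨h0, h2, -, -⟩ := HullW.main y i.ker
  letI TR : TangentStr (hR _ resO) := ArtFunTangent.tangentStr h0R h2R
  letI TF : TangentStr (localHilb Y y i.ker) := ArtFunTangent.tangentStr h0 h2
  have hlin := family_linear h0R h2R ξ
  let L : TangentSpace (hR _ resO) ≃ₗ[k] TangentSpace (localHilb Y y i.ker) :=
    LinearEquiv.ofBijective (IsLinearMap.mk' _ hlin) hbij
  letI : Y.Over (Spec (CommRingCat.of k)) := ⟨y⟩
  obtain ⟨e1⟩ := EmbM.nonempty_linearEquiv y i.ker
  obtain ⟨e2⟩ := Groth.Agent.Lib.Helper29.HomHHD5.nonempty_linearEquiv_hom_HH_of_closedImmersion Y y X i hi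
  rw [← Groth.Agent.Lib.Helper4.TanHR.finrank_tangentSpace_hR _ resO hres, L.finrank_eq, e1.finrank_eq,
    e2.finrank_eq]

end Groth.Agent.Lib.Helper18.EmbP
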