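import Mathlib
import Groth.Agent.Lib.Helper18.HomLoc7

/-!
# Modules which are locally free of rank one, in elementwise form (helper18)
-/

set_option autoImplicit false
set_option linter.style.haveILetI false
universe u v
open CategoryTheory

namespace Groth.Agent.Lib.Helper18.DR

namespace Uq

open HomLoc

variable {A : Type u} [CommRing A]

/-- elementwise form of "`Q_p` is free of rank one over `A_p`" -/
def LocRankOne (Q : Type v) [AddCommGroup Q] [Module A Q] (p : Ideal A) : Prop :=
  ∃ q₀ : Q, (∀ q : Q, ∃ s : A, s ∉ p ∧ ∃ a : A, s • q = a • q₀) ∧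
    (∀ a : A, a • q₀ = 0 → ∃ s : A, s ∉ p ∧ s * a = 0)

/-- elementwise form of "`Q_p = 0`" -/
def LocZero (Q : Type v) [AddCommGroup Q] [Module A Q] (p : Ideal A) : Prop :=
  ∀ q : Q, ∃ s : A, s ∉ p ∧ s • q = 0

lemma LocRankOne.of_equiv {Q : Type v} {Q' : Type*} [AddCommGroup Q] [Module A Q]
    [AddCommGroup Q'] [Module A Q'] (e : Q ≃ₗ[A] Q') {p : Ideal A} (h : LocRankOne Q p) :
    LocRankOne Q' p := by
  obtain ⟨q₀, h1, h2⟩ := h
  refine ⟨e q₀, fun q => ?_, fun a ha => ?_⟩
  · obtain ⟨s, hs, a, hsa⟩ := h1 (e.symm q)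
    refine ⟨s, hs, a, ?_⟩
    have := congrArg e hsa
    rwa [map_smul, map_smul, LinearEquiv.apply_symm_apply] at this
  · refine h2 a ?_
    rw [← map_smul] at ha
    exact e.map_eq_zero_iff.1 ha

lemma LocZero.of_equiv {Q : Type v} {Q' : Type*} [AddCommGroup Q] [Module A Q]
    [AddCommGroup Q'] [Module A Q'] (e : Q ≃ₗ[A] Q') {p : Ideal A} (h : LocZero Q p) :
    LocZero Q' p := by
  intro q
  obtain ⟨s, hs, hsq⟩ := h (e.symm q)
  refine ⟨s, hs, ?_⟩
  have := congrArg e hsq
  rwa [map_smul, LinearEquiv.apply_symm_apply, map_zero] at this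

/-- a prime in the support of a module with `LocRankOne` -/
lemma LocRankOne.not_locZero {Q : Type v} [AddCommGroup Q] [Module A Q] {p : Ideal A}
    [p.IsPrime] (h : LocRankOne Q p) : ¬ LocZero Q p := by
  obtain ⟨q₀, -, h2⟩ := h
  intro hz
  obtain ⟨s, hs, hsq⟩ := hz q₀
  obtain ⟨t, ht, hts⟩ := h2 s hsq
  have : t * s ∈ p := by rw [hts]; exact p.zero_mem
  rcases Ideal.IsPrime.mem_or_mem inferInstance this with h | h
  · exact ht h
  · exact hs h

/-- uniform killing on a finite module -/
lemma exists_smul_eq_zero_of_forall {Q : Type v} {N : Type*} [AddCommGroup Q] [Module A Q]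
    [AddCommGroup N] [Module A N] [Module.Finite A Q] (p : Ideal A) [p.IsPrime]
    (ψ : Q →ₗ[A] N) (h : ∀ q : Q, ∃ t : A, t ∉ p ∧ t • ψ q = 0) :
    ∃ t : A, t ∉ p ∧ t • ψ = 0 := by
  classical
  obtain ⟨s, hs⟩ := (Module.finite_def.1 (inferInstance : Module.Finite A Q))
  have key : ∀ s' : Finset Q, ∃ t : A, t ∉ p ∧ ∀ q ∈ s', t • ψ q = 0 := by
    intro s'
    induction s' using Finset.induction_on with
    | empty => exact ⟨1, fun h1 => (inferInstance : p.IsPrime).ne_top
        ((Ideal.eq_top_iff_one p).2 h1), fun q hq => by simp at hq⟩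
    | insert x s'' hx ih =>
      obtain ⟨t, ht, htq⟩ := ih
      obtain ⟨t', ht', ht'x⟩ := h x
      refine ⟨t * t', fun hmem => ?_, fun q hq => ?_⟩
      · rcases Ideal.IsPrime.mem_or_mem inferInstance hmem with h | h
        · exact ht h
        · exact ht' h
      · rcases Finset.mem_insert.1 hq with rfl | hq
        · rw [mul_smul, ht'x, smul_zero]
        · rw [mul_comm, mul_smul, htq q hq, smul_zero]
  obtain ⟨t, ht, htq⟩ := key s
  refine ⟨t, ht, ?_⟩
  apply LinearMap.ext_on_range (v := fun x : s => (x : Q))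
  · rw [Subtype.range_coe_subtype]
    simpa using hs
  · intro x
    simp only [LinearMap.smul_apply, LinearMap.zero_apply]
    exact htq x.1 x.2

section inv

variable {Q : Type u} [AddCommGroup Q] [Module A Q] [Module.Finite A Q]

/-- endomorphisms are locally scalars -/
lemma LocRankOne.exists_smul_end_eq {p : Ideal A} [p.IsPrime] (h : LocRankOne Q p)
    (φ : Q →ₗ[A] Q) : ∃ s : A, s ∉ p ∧ ∃ a : A, s • φ = a • LinearMap.id := by
  obtain ⟨q₀, h1, h2⟩ := h
  obtain ⟨s₁, hs₁, a, hsa⟩ := h1 (φ q₀)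
  obtain ⟨t, ht, htψ⟩ := exists_smul_eq_zero_of_forall p (s₁ • φ - a • LinearMap.id) (fun q => by
    obtain ⟨t, ht, c, htc⟩ := h1 q
    refine ⟨t, ht, ?_⟩
    simp only [LinearMap.sub_apply, LinearMap.smul_apply, LinearMap.id_apply]
    rw [smul_sub, smul_comm t s₁, ← map_smul, htc, map_smul, smul_comm t a, htc, smul_comm s₁ c,
      hsa, smul_comm a c, sub_self])
  refine ⟨t * s₁, fun hmem => ?_, t * a, ?_⟩
  · rcases Ideal.IsPrime.mem_or_mem inferInstance hmem with h | h
    · exact ht h
    · exact hs₁ h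
  · rw [smul_sub, sub_eq_zero] at htψ
    rw [mul_smul, mul_smul, htψ]

theorem lsmul_bijective (h : ∀ p : PrimeSpectrum A, LocRankOne Q p.asIdeal) :
    Function.Bijective (LinearMap.lsmul A Q) := by
  constructor
  · rw [injective_iff_map_eq_zero]
    intro a ha
    refine (covers_prime (A := A)).eq_zero (M := A) a (fun p => ?_)
    obtain ⟨q₀, -, h2⟩ := h p
    obtain ⟨s, hs, hsa⟩ := h2 a (by
      have := LinearMap.congr_fun ha q₀
      simpa using this)
    exact ⟨s, hs, hsa⟩
  · intro φ
    refine (covers_prime (A := A)).mem_range (LinearMap.lsmul A Q) φ (fun p => ?_)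
    obtain ⟨s, hs, a, hsa⟩ := (h p).exists_smul_end_eq φ
    refine ⟨s, hs, a, ?_⟩
    rw [hsa]
    ext q
    simp

theorem projective_of_locRankOne [IsNoetherianRing A]
    (h : ∀ p : PrimeSpectrum A, LocRankOne Q p.asIdeal) : Module.Projective A Q := by
  haveI : Module.FinitePresentation A Q := Module.finitePresentation_of_finite A Q
  refine Module.projective_of_localization_maximal (fun I hI => ?_)
  haveI : I.IsPrime := hI.isPrime
  obtain ⟨q₀, h1, h2⟩ := h ⟨I, hI.isPrime⟩
  let f : Localization.AtPrime I →ₗ[Localization.AtPrime I] LocalizedModule I.primeCompl Q :=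
    LinearMap.toSpanSingleton _ _ (LocalizedModule.mk q₀ 1)
  have hf : Function.Bijective f := by
    constructor
    · rw [injective_iff_map_eq_zero]
      intro x hx
      induction x using Localization.induction_on with
      | H y =>
        obtain ⟨a, t⟩ := y
        change Localization.mk a t •
          (LocalizedModule.mk q₀ 1 : LocalizedModule I.primeCompl Q) = 0 at hx
        rw [LocalizedModule.mk_smul_mk, ← LocalizedModule.zero_mk (1 : I.primeCompl),
          LocalizedModule.mk_eq] at hx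
        obtain ⟨c, hc⟩ := hx
        rw [smul_zero, smul_zero, one_smul] at hc
        obtain ⟨s, hs, hsa⟩ := h2 ((c : A) * a) (by
          rw [mul_smul]
          exact hc)
        rw [Localization.mk_eq_mk', IsLocalization.mk'_eq_zero_iff]
        exact ⟨⟨s * c, I.primeCompl.mul_mem hs c.2⟩, by
          change s * c * a = 0
          rw [mul_assoc]
          exact hsa⟩
    · intro y
      induction y using LocalizedModule.induction_on with
      | h q t =>
        obtain ⟨s, hs, a, hsa⟩ := h1 q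
        refine ⟨Localization.mk a (⟨s, hs⟩ * t), ?_⟩
        change Localization.mk a (⟨s, hs⟩ * t) •
          (LocalizedModule.mk q₀ 1 : LocalizedModule I.primeCompl Q) = _
        rw [LocalizedModule.mk_smul_mk, mul_one, ← hsa]
        exact LocalizedModule.mk_cancel_common_left ⟨s, hs⟩ t q
  exact Module.Projective.of_equiv (LinearEquiv.ofBijective f hf)

theorem invertible_of_locRankOne [IsNoetherianRing A]
    (h : ∀ p : PrimeSpectrum A, LocRankOne Q p.asIdeal) : Module.Invertible A Q := by
  haveI := projective_of_locRankOne h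
  let e1 : TensorProduct A (Module.Dual A Q) Q ≃ₗ[A] (Q →ₗ[A] Q) := dualTensorHomEquiv A Q Q
  let e2 : A ≃ₗ[A] (Q →ₗ[A] Q) :=
    LinearEquiv.ofBijective (LinearMap.lsmul A Q) (lsmul_bijective h)
  exact Module.Invertible.right (e1.trans e2.symm)

end inv

section conn

lemma locZero_iff_notMem_support (Q : Type v) [AddCommGroup Q] [Module A Q]
    (p : PrimeSpectrum A) : LocZero Q p.asIdeal ↔ p ∉ Module.support A Q :=
  Module.notMem_support_iff'.symm

lemma isClosed_support_of_finite (Q : Type v) [AddCommGroup Q] [Module A Q] [Module.Finite A Q] :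
    IsClosed (Module.support A Q) := by
  rw [Module.support_eq_zeroLocus]
  exact PrimeSpectrum.isClosed_zeroLocus _

theorem exists_degree_of_connected [ConnectedSpace (PrimeSpectrum A)]
    (Qs : ℤ → Type v) [∀ i, AddCommGroup (Qs i)] [∀ i, Module A (Qs i)]
    [∀ i, Module.Finite A (Qs i)] (lo hi : ℤ)
    (hz : ∀ i : ℤ, (i < lo ∨ hi < i) → Subsingleton (Qs i))
    (hloc : ∀ p : PrimeSpectrum A, ∃ n : ℤ, LocRankOne (Qs n) p.asIdeal ∧
      ∀ i : ℤ, i ≠ n → LocZero (Qs i) p.asIdeal) :
    ∃ i₀ : ℤ, (∀ i : ℤ, i ≠ i₀ → Subsingleton (Qs i)) ∧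
      ∀ p : PrimeSpectrum A, LocRankOne (Qs i₀) p.asIdeal := by
  choose n hn1 hn2 using hloc
  have hsupp : ∀ (p : PrimeSpectrum A) (i : ℤ), p ∈ Module.support A (Qs i) ↔ i = n p := by
    intro p i
    constructor
    · intro hp
      by_contra hne
      exact ((locZero_iff_notMem_support (Qs i) p).1 (hn2 p i hne)) hp
    · rintro rfl
      by_contra hp
      exact (hn1 p).not_locZero ((locZero_iff_notMem_support _ p).2 hp)
  obtain ⟨p₀⟩ : Nonempty (PrimeSpectrum A) := inferInstance
  have hrange : ∀ p : PrimeSpectrum A, lo ≤ n p ∧ n p ≤ hi := by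
    intro p
    by_contra hcon
    haveI := hz (n p) (by omega)
    have hp : p ∈ Module.support A (Qs (n p)) := (hsupp p (n p)).2 rfl
    rw [Module.support_eq_empty] at hp
    exact hp
  let Z : Set (PrimeSpectrum A) := Module.support A (Qs (n p₀))
  have hZc : IsClosed Z := isClosed_support_of_finite _
  have hcompl : Zᶜ = ⋃ i ∈ (Finset.Icc lo hi).filter (fun i => i ≠ n p₀),
      Module.support A (Qs i) := by
    ext p
    simp only [Set.mem_compl_iff, Set.mem_iUnion, Finset.mem_filter, Finset.mem_Icc, exists_prop]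
    constructor
    · intro hp
      have hne : n p ≠ n p₀ := fun h => hp ((hsupp p (n p₀)).2 h.symm)
      exact ⟨n p, ⟨hrange p, hne⟩, (hsupp p (n p)).2 rfl⟩
    · rintro ⟨i, ⟨-, hne⟩, hp⟩ hpZ
      have h1 := (hsupp p i).1 hp
      have h2 := (hsupp p (n p₀)).1 hpZ
      exact hne (h1.trans h2.symm)
  have hZo : IsOpen Z := by
    rw [← isClosed_compl_iff, hcompl]
    exact isClosed_biUnion_finset (fun i _ => isClosed_support_of_finite _)
  have hZu : Z = Set.univ := IsClopen.eq_univ ⟨hZc, hZo⟩ ⟨p₀, (hsupp p₀ (n p₀)).2 rfl⟩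
  have hconst : ∀ p, n p = n p₀ := by
    intro p
    have hp : p ∈ Z := by rw [hZu]; exact Set.mem_univ p
    exact ((hsupp p (n p₀)).1 hp).symm
  refine ⟨n p₀, fun i hi => ?_, fun p => ?_⟩
  · refine ⟨fun x y => ?_⟩
    have key : ∀ q : Qs i, q = 0 := fun q =>
      (covers_prime (A := A)).eq_zero q (fun p => by
        obtain ⟨s, hs, hsq⟩ := hn2 p i (by rw [hconst p]; exact hi) q
        exact ⟨s, hs, hsq⟩)
    rw [key x, key y]
  · have := hn1 p
    rwa [hconst p] at this

end conn

end Uq

end Groth.Agent.Lib.Helper18.DR
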