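import Mathlib
import Groth.Agent.Lib.Helper18.GfD
import Groth.Agent.Lib.Helper18.UqA
import Groth.Agent.Lib.Helper18.DuM
import Groth.Agent.Lib.Helper18.OmLBC

/-!
# `H^{-d}(ω_{A/R})` is invertible iff the fibres are Gorenstein, when `ω_{A/R}` is concentrated in
one degree (helper18)
-/

set_option autoImplicit false
set_option linter.style.haveILetI false
universe u
open CategoryTheory CategoryTheory.Limits CategoryTheory.Pretriangulated DerivedCategory
open scoped TensorProduct

attribute [local instance] HasDerivedCategory.standard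

namespace Groth.Agent.Lib.Helper18.DR

namespace ExtBr

open HomLoc HomBC Gf GorLoc Dim

section loc

variable {A : Type u} [CommRing A]

/-- a module which is free of rank one after inverting `f ∉ q` has `LocRankOne` at `q` -/
theorem locRankOne_of_away (E : Type u) [AddCommGroup E] [Module A E] (q : Ideal A) [q.IsPrime]
    (f : A) (hf : f ∉ q)
    (l : LocalizedModule (Submonoid.powers f) E ≃ₗ[Localization (Submonoid.powers f)]
      Localization (Submonoid.powers f)) : Uq.LocRankOne E q := by
  have hpow : ∀ c : Submonoid.powers f, (c : A) ∉ q := by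
    rintro ⟨c, k, rfl⟩ h
    exact hf (Ideal.IsPrime.mem_of_pow_mem inferInstance k h)
  have hmk : ∀ u : LocalizedModule (Submonoid.powers f) E, ∃ m s, u = LocalizedModule.mk m s :=
    fun u => LocalizedModule.induction_on (fun m s => ⟨m, s, rfl⟩) u
  have hmk' : ∀ b : Localization (Submonoid.powers f), ∃ a t, b = Localization.mk a t :=
    fun b => Localization.induction_on b (fun ⟨a, t⟩ => ⟨a, t, rfl⟩)
  obtain ⟨e₀, s, hu⟩ := hmk (l.symm 1)
  refine ⟨e₀, fun x => ?_, fun a ha => ?_⟩
  · obtain ⟨a, t, hb⟩ := hmk' (l (LocalizedModule.mk x 1))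
    have h1 : LocalizedModule.mk x 1 = LocalizedModule.mk (a • e₀) (t * s) := by
      rw [← LocalizedModule.mk_smul_mk, ← hu, ← map_smul, smul_eq_mul, mul_one, ← hb,
        LinearEquiv.symm_apply_apply]
    obtain ⟨c, hc⟩ := LocalizedModule.mk_eq.1 h1
    refine ⟨(c : A) * ((t : A) * (s : A)), ?_, (c : A) * a, ?_⟩
    · exact hpow (c * (t * s))
    · rw [one_smul] at hc
      simp only [Submonoid.smul_def, Submonoid.coe_mul] at hc
      rw [mul_smul, hc, mul_smul]
  · have h1 : l.symm (algebraMap A (Localization (Submonoid.powers f)) a) = 0 := by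
      have h2 : algebraMap A (Localization (Submonoid.powers f)) a =
          algebraMap A (Localization (Submonoid.powers f)) a • (1 : Localization (Submonoid.powers f)) := by
        rw [smul_eq_mul, mul_one]
      rw [h2, map_smul, hu, algebraMap_smul, LocalizedModule.smul'_mk, ha, LocalizedModule.zero_mk]
    have h3 : algebraMap A (Localization (Submonoid.powers f)) a = 0 := by
      have := congrArg l h1
      rwa [LinearEquiv.apply_symm_apply, map_zero] at this
    obtain ⟨m, hm⟩ := (IsLocalization.map_eq_zero_iff (Submonoid.powers f) _ a).1 h3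
    exact ⟨m, hpow m, hm⟩

end loc

section main

variable (R A : Type u) [CommRing R] [CommRing A] [IsNoetherianRing R] [IsNoetherianRing A]
  [Algebra R A] [Module.Flat R A] (n : ℕ) (ψ : MvPolynomial (Fin n) R →ₐ[R] A)
  (hψ : Function.Surjective ψ)
  [DRing.HasLBaseChange (algebraMap R (MvPolynomial (Fin n) R))]
  (Rψ : Dual.D (MvPolynomial (Fin n) R) ⥤ Dual.D A) (adj : DRing.restrictD ψ.toRingHom ⊣ Rψ)

include hψ adj in
/-- if `ω_{A/R}` is concentrated in degree `-d`, with invertible cohomology there, then the fibres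
are Gorenstein -/
theorem gorenstein_of_invertible (d : ℤ)
    (hvan : ∀ i : ℤ, i ≠ -d → IsZero ((H A i).obj (Dual2.shriekVia n Rψ (Dual.inD R R))))
    (hinv : Module.Invertible A ((H A (-d)).obj (Dual2.shriekVia n Rψ (Dual.inD R R))))
    (p : PrimeSpectrum R) : LocCoh.IsGorensteinRing (A ⊗[R] p.asIdeal.ResidueField) := by
  set ω := Dual2.shriekVia n Rψ (Dual.inD R R) with hω
  haveI hL : ∀ f : A, DRing.HasLBaseChange (algebraMap A (Localization.Away f)) :=
    fun f => Om.hasLBaseChange _
  obtain ⟨⟨a, b, hab⟩, hfin⟩ := Du.bounded_finite_shriekVia_self R A n ψ hψ Rψ adj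
  haveI : ω.IsGE a := (DerivedCategory.isGE_iff _ _).2 (fun i hi =>
    haveI := hab i (Or.inl hi)
    ModuleCat.isZero_of_subsingleton _)
  haveI : ω.IsLE b := (DerivedCategory.isLE_iff _ _).2 (fun i hi =>
    haveI := hab i (Or.inr hi)
    ModuleCat.isZero_of_subsingleton _)
  have hInv : ∀ q : PrimeSpectrum A, ∃ (f : A) (_ : f ∉ q.asIdeal) (m : ℤ),
      Nonempty ((DRing.LBaseChange (algebraMap A (Localization.Away f))).obj ω ≅
      (Dual.inD (Localization.Away f) (Localization.Away f))⟦m⟧) := by
    intro q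
    have hz : ∀ i : ℤ, i ≠ -d →
        IsZero ((H (Localization.AtPrime q.asIdeal) i).obj (locAt ω q)) := by
      intro i hi
      haveI : Subsingleton ((H A i).obj ω) := ModuleCat.subsingleton_of_isZero (hvan i hi)
      exact IsZero.of_iso (ModuleCat.isZero_of_subsingleton _) (HLocIso ω q i)
    have hf : Nonempty ((H (Localization.AtPrime q.asIdeal) (-d)).obj (locAt ω q) ≅
        ModuleCat.of (Localization.AtPrime q.asIdeal) (Localization.AtPrime q.asIdeal)) := by
      haveI := hinv
      haveI : Module.Invertible (Localization.AtPrime q.asIdeal)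
          (LocalizedModule q.asIdeal.primeCompl ((H A (-d)).obj ω)) :=
        inferInstanceAs (Module.Invertible (Localization q.asIdeal.primeCompl)
          (LocalizedModule q.asIdeal.primeCompl ((H A (-d)).obj ω)))
      haveI : Module.Free (Localization.AtPrime q.asIdeal)
          (LocalizedModule q.asIdeal.primeCompl ((H A (-d)).obj ω)) := inferInstance
      obtain ⟨l⟩ := (Module.Invertible.free_iff_linearEquiv
        (R := Localization.AtPrime q.asIdeal)
        (M := LocalizedModule q.asIdeal.primeCompl ((H A (-d)).obj ω))).1 inferInstance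
      exact ⟨HLocIso ω q (-d) ≪≫ l.toModuleIso⟩
    obtain ⟨f, hfq, ⟨e⟩⟩ := exists_away_iso_shift ω a b hfin q (-d) hz hf
    obtain ⟨e'⟩ := HomBC.nonempty_LBaseChange_iso_extD (A := A) (B := Localization.Away f) ω
    exact ⟨f, hfq, - -d, ⟨e' ≪≫ e⟩⟩
  exact Groth.Agent.Lib.Helper4.GorRing.gorRing_of_ringEquiv
    (Algebra.TensorProduct.comm R p.asIdeal.ResidueField A).toRingEquiv
    (gorenstein_fibre_of_invertible R A n ψ hψ Rψ adj p.asIdeal.ResidueField hInv)

include hψ adj in
/-- if `ω_{A/R}` is concentrated in degree `-d` and the fibres are Gorenstein, then the cohomology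
module in degree `-d` is invertible -/
theorem invertible_of_gorenstein (d : ℤ)
    (hvan : ∀ i : ℤ, i ≠ -d → IsZero ((H A i).obj (Dual2.shriekVia n Rψ (Dual.inD R R))))
    (hG : ∀ p : PrimeSpectrum R, LocCoh.IsGorensteinRing (A ⊗[R] p.asIdeal.ResidueField)) :
    Module.Invertible A ((H A (-d)).obj (Dual2.shriekVia n Rψ (Dual.inD R R))) := by
  set ω := Dual2.shriekVia n Rψ (Dual.inD R R) with hω
  obtain ⟨-, hfin⟩ := Du.bounded_finite_shriekVia_self R A n ψ hψ Rψ adj
  haveI : Module.Finite A ((H A (-d)).obj ω) := hfin (-d)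
  refine Uq.invertible_of_locRankOne (fun q => ?_)
  haveI : (q.asIdeal.comap (algebraMap R A)).IsPrime := inferInstance
  have hG' : LocCoh.IsGorensteinRing
      ((q.asIdeal.comap (algebraMap R A)).ResidueField ⊗[R] A) :=
    Groth.Agent.Lib.Helper4.GorRing.gorRing_of_ringEquiv
      (Algebra.TensorProduct.comm R A (q.asIdeal.comap (algebraMap R A)).ResidueField).toRingEquiv
      (hG ⟨q.asIdeal.comap (algebraMap R A), inferInstance⟩)
  obtain ⟨f, hfq, m, ⟨e⟩⟩ := exists_away_iso_of_gorenstein_fibre R A n ψ hψ Rψ adj q hG'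
  set B := Localization.Away f with hB
  -- cohomology of the localization
  let c : ∀ i : ℤ, (H B i).obj ((extD A B).obj ω) ≅
      ModuleCat.of B (LocalizedModule (Submonoid.powers f) ((H A i).obj ω)) := fun i =>
    homologyMapDIso (extM (A := A) (B := B)) ω i ≪≫ extMLocSIso (Submonoid.powers f) _
  -- cohomology of the shifted unit
  let c' : ∀ i j : ℤ, m + i = j → ((H B i).obj ((extD A B).obj ω) ≅
      (H B j).obj (Dual.inD B B)) := fun i j hij =>
    (H B i).mapIso e ≪≫ (HShiftIso B m i j hij).app (Dual.inD B B)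
  haveI hnt : Nontrivial B := by
    rw [← not_subsingleton_iff_nontrivial,
      IsLocalization.subsingleton_iff (M := Submonoid.powers f) (S := B)]
    rintro ⟨k, hk⟩
    have h0 : f ^ k ∈ q.asIdeal := by
      simp only at hk
      rw [hk]
      exact q.asIdeal.zero_mem
    exact hfq (Ideal.IsPrime.mem_of_pow_mem inferInstance k h0)
  have hmd : m = d := by
    by_contra hne
    have h1 : IsZero ((H A (-m)).obj ω) := hvan (-m) (by omega)
    haveI : Subsingleton ((H A (-m)).obj ω) := ModuleCat.subsingleton_of_isZero h1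
    have h2 : IsZero (ModuleCat.of B (LocalizedModule (Submonoid.powers f) ((H A (-m)).obj ω))) :=
      ModuleCat.isZero_of_subsingleton _
    have h3 : IsZero (ModuleCat.of B B) :=
      h2.of_iso ((HSg 0 (ModuleCat.of B B)).symm ≪≫ (c' (-m) 0 (by omega)).symm ≪≫ c (-m))
    haveI : Subsingleton B := ModuleCat.subsingleton_of_isZero h3
    exact not_subsingleton B inferInstance
  subst hmd
  let l : LocalizedModule (Submonoid.powers f) ((H A (-m)).obj ω) ≃ₗ[B] B :=
    ((c (-m)).symm ≪≫ c' (-m) 0 (by omega) ≪≫ HSg 0 (ModuleCat.of B B)).toLinearEquiv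
  exact locRankOne_of_away _ q.asIdeal f hfq l

end main

end ExtBr

end Groth.Agent.Lib.Helper18.DR
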