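import Mathlib
import Groth.Agent.Lib.Helper18.DRRes
import Groth.Agent.Lib.Helper7.TorNat5

/-!
# Ext-vanishing vs Tor-vanishing of induced maps (helper18, for S1741)
-/

set_option autoImplicit false
set_option linter.style.haveILetI false
universe u
open CategoryTheory CategoryTheory.Limits TensorProduct

namespace Groth.Agent.Lib.Helper18.DR

section A
variable {A : Type u} [CommRing A] {ι : Type*} {c : ComplexShape ι}

/-- elementwise criterion for the vanishing of a map on homology -/
lemma homologyMap_eq_zero_iff_forall {K L : HomologicalComplex (ModuleCat.{u} A) c} (φ : K ⟶ L)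
    (i j k : ι) (hij : c.prev j = i) (hjk : c.next j = k) :
    HomologicalComplex.homologyMap φ j = 0 ↔
      ∀ x : K.X j, (K.d j k).hom x = 0 → ∃ v : L.X i, (L.d i j).hom v = (φ.f j).hom x := by
  have hexL : (ShortComplex.mk (L.toCycles i j) (L.homologyπ j)
      (L.toCycles_comp_homologyπ i j)).Exact :=
    ShortComplex.exact_of_g_is_cokernel _ (L.homologyIsCokernel i j hij)
  constructor
  · intro h x hx
    let kk : ModuleCat.of A A ⟶ K.X j := ModuleCat.ofHom (LinearMap.toSpanSingleton A (K.X j) x)
    have hk : kk ≫ K.d j k = 0 := by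
      apply ModuleCat.hom_ext
      apply LinearMap.ext_ring
      simp [kk, hx]
    let zt : K.cycles j := (K.liftCycles kk k hjk hk).hom (1 : A)
    have hzt : (K.iCycles j).hom zt = x := by
      have h0 : (K.liftCycles kk k hjk hk ≫ K.iCycles j).hom (1 : A) = kk.hom (1 : A) := by
        rw [K.liftCycles_i]
      rw [ModuleCat.hom_comp, LinearMap.comp_apply] at h0
      have h00 : kk.hom (1 : A) = x := by simp [kk]
      exact h0.trans h00
    have h1 : (L.homologyπ j).hom ((HomologicalComplex.cyclesMap φ j).hom zt) = 0 := by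
      have := congrArg (fun f => f.hom zt) (HomologicalComplex.homologyπ_naturality φ j)
      simp only [ModuleCat.hom_comp, LinearMap.comp_apply] at this
      rw [← this, h]
      simp
    obtain ⟨v, hv⟩ := (ShortComplex.moduleCat_exact_iff _).1 hexL _ h1
    have hv' : (L.toCycles i j).hom v = (HomologicalComplex.cyclesMap φ j).hom zt := hv
    refine ⟨v, ?_⟩
    have e2 := congrArg (fun f => f.hom v) (L.toCycles_i i j)
    have e1 := congrArg (fun f => f.hom zt) (HomologicalComplex.cyclesMap_i φ j)
    simp only [ModuleCat.hom_comp, LinearMap.comp_apply] at e1 e2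
    rw [← e2, hv', e1, hzt]
  · intro h
    rw [← cancel_epi (K.homologyπ j), HomologicalComplex.homologyπ_naturality, comp_zero]
    apply ModuleCat.hom_ext
    apply LinearMap.ext
    intro x
    have hx0 : (K.d j k).hom ((K.iCycles j).hom x) = 0 := by
      have h0 := congrArg (fun f => f.hom x) (K.iCycles_d j k)
      simpa only [ModuleCat.hom_comp, LinearMap.comp_apply, ModuleCat.hom_zero,
        LinearMap.zero_apply] using h0
    obtain ⟨v, hv⟩ := h _ hx0
    have hinj : Function.Injective (L.iCycles j).hom :=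
      (ModuleCat.mono_iff_injective _).1 inferInstance
    have h1 : (HomologicalComplex.cyclesMap φ j).hom x = (L.toCycles i j).hom v := by
      apply hinj
      have e1 := congrArg (fun f => f.hom x) (HomologicalComplex.cyclesMap_i φ j)
      have e2 := congrArg (fun f => f.hom v) (L.toCycles_i i j)
      simp only [ModuleCat.hom_comp, LinearMap.comp_apply] at e1 e2
      rw [e1, e2, hv]
    have h2 := congrArg (fun f => f.hom v) (L.toCycles_comp_homologyπ i j)
    simp only [ModuleCat.hom_comp, LinearMap.comp_apply, ModuleCat.hom_zero,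
      LinearMap.zero_apply] at h2
    rw [ModuleCat.hom_comp, LinearMap.comp_apply, h1, h2, ModuleCat.hom_zero,
      LinearMap.zero_apply]

end A



section B
variable {A : Type u} [CommRing A]
open Groth.Agent.Lib.Helper7

lemma eq_zero_iff_of_iso_square {C : Type*} [Category C] [HasZeroMorphisms C] {X X' Z Z' : C}
    (t : X ≅ Z) (t' : X' ≅ Z') (a : X ⟶ X') (c : Z ⟶ Z')
    (h : a ≫ t'.hom = t.hom ≫ c) : a = 0 ↔ c = 0 := by
  constructor
  · intro ha
    rw [ha, zero_comp] at h
    rw [← cancel_epi t.hom, ← h, comp_zero]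
  · intro hc
    rw [hc, comp_zero] at h
    rw [← cancel_mono t'.hom, h, zero_comp]

/-- the Tor map in the first variable vanishes iff the map on homology of the tensored
resolutions vanishes -/
lemma tor_map_app_eq_zero_iff {M M' : ModuleCat.{u} A} (α : M ⟶ M') (P : ProjectiveResolution M)
    (P' : ProjectiveResolution M') (a : P.complex ⟶ P'.complex)
    (comm : a.f 0 ≫ P'.π.f 0 = P.π.f 0 ≫ α) (n : ℕ) (N : ModuleCat.{u} A) :
    ((Tor (ModuleCat.{u} A) n).map α).app N = 0 ↔
      HomologicalComplex.homologyMap (tensorMapC a N) n = 0 := by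
  rw [eq_zero_iff_of_iso_square _ _ _ _ (torFlipIso_natural_left n α N)]
  exact eq_zero_iff_of_iso_square _ _ _ _ (torIsoT_naturality₂ α P P' a comm n N)

end B



section C
variable {R : Type u} [CommRing R]

/-- a free resolution of a module, with finite terms when the module is finite and the ring
Noetherian -/
noncomputable def freeRes (M : ModuleCat.{u} R) : ProjectiveResolution M where
  complex := res ((ChainComplex.single₀ (ModuleCat.{u} R)).obj M)
  projective n := by
    haveI := free_res ((ChainComplex.single₀ (ModuleCat.{u} R)).obj M) n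
    exact ModuleCat.projective_of_free (Module.Free.chooseBasis R _)
  π := resMap _

lemma free_freeRes (M : ModuleCat.{u} R) (j : ℕ) : Module.Free R ((freeRes M).complex.X j) :=
  free_res _ j

lemma subsingleton_single_succ (M : ModuleCat.{u} R) (j : ℕ) :
    Subsingleton (((ChainComplex.single₀ (ModuleCat.{u} R)).obj M).X (j + 1)) :=
  ModuleCat.subsingleton_of_isZero
    (HomologicalComplex.isZero_single_obj_X (ComplexShape.down ℕ) 0 M (j + 1) (by simp))

lemma finite_freeRes [IsNoetherianRing R] (M : ModuleCat.{u} R) [Module.Finite R M] (j : ℕ) :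
    Module.Finite R ((freeRes M).complex.X j) := by
  set L := (ChainComplex.single₀ (ModuleCat.{u} R)).obj M with hL
  have hfin0 : Module.Finite R (L.X 0) :=
    Module.Finite.equiv
      (HomologicalComplex.singleObjXSelf (ComplexShape.down ℕ) 0 M).symm.toLinearEquiv
  induction j with
  | zero =>
    apply finite_res_of_finite_coker L 0
    rw [res_d]
    -- the map `X_0 / range d → L.X 0`
    let f : (st L 0).X →ₗ[R] L.X 0 := (st L 0).a
    have hle : LinearMap.range (nextD L (st L 0)) ≤ LinearMap.ker f := by
      rintro _ ⟨x, rfl⟩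
      rw [LinearMap.mem_ker]
      have := (stepCover L (st L 0)).comm x
      change f (nextD L (st L 0) x) = _ at this
      rw [this]
      haveI := subsingleton_single_succ M 0
      rw [Subsingleton.elim ((stepCover L (st L 0)).a' x) 0, map_zero]
    let g := (LinearMap.range (nextD L (st L 0))).liftQ f hle
    have hg : Function.Injective g := by
      rw [injective_iff_map_eq_zero]
      intro x hx
      obtain ⟨x₂, rfl⟩ := Submodule.Quotient.mk_surjective _ x
      have hx₂ : f x₂ = 0 := hx
      obtain ⟨x₁, hx₁⟩ := res_hinj0 L x₂ 0 (by rw [map_zero]; exact hx₂.symm)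
      exact (Submodule.Quotient.mk_eq_zero _).mpr ⟨x₁, hx₁⟩
    haveI : IsNoetherian R (L.X 0) := isNoetherian_of_isNoetherianRing_of_finite R _
    exact Module.Finite.of_injective g hg
  | succ j ih =>
    apply finite_res_of_finite_coker L (j + 1)
    rw [res_d]
    let f : (st L (j + 1)).X →ₗ[R] (st L j).X := nextD L (st L j)
    have hle : LinearMap.range (nextD L (st L (j + 1))) ≤ LinearMap.ker f := by
      rintro _ ⟨x, rfl⟩
      rw [LinearMap.mem_ker]
      exact (stepCover L (st L (j + 1))).hd x
    let g := (LinearMap.range (nextD L (st L (j + 1)))).liftQ f hle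
    have hg : Function.Injective g := by
      rw [injective_iff_map_eq_zero]
      intro x hx
      obtain ⟨x₂, rfl⟩ := Submodule.Quotient.mk_surjective _ x
      have hx₂ : f x₂ = 0 := hx
      haveI := subsingleton_single_succ M j
      obtain ⟨x₁, hx₁⟩ := res_hinj L j x₂ hx₂ 0 (Subsingleton.elim _ _)
      exact (Submodule.Quotient.mk_eq_zero _).mpr ⟨x₁, hx₁⟩
    haveI : Module.Finite R (st L j).X := ih
    haveI : IsNoetherian R (st L j).X := isNoetherian_of_isNoetherianRing_of_finite R _
    exact Module.Finite.of_injective g hg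

end C



section E
variable {R : Type u} [CommRing R]
variable {X1 X0 Y2 Y1 : Type u} [AddCommGroup X1] [Module R X1] [AddCommGroup X0] [Module R X0]
  [AddCommGroup Y2] [Module R Y2] [AddCommGroup Y1] [Module R Y1]

/-- Ext-vanishing of the tautological class implies Tor-vanishing -/
lemma exists_boundary_of_factor (d : X1 →ₗ[R] X0) (a : X1 →ₗ[R] Y1) (d' : Y2 →ₗ[R] Y1)
    (g : X0 →ₗ[R] Y1 ⧸ LinearMap.range d')
    (hg : g ∘ₗ d = (LinearMap.range d').mkQ ∘ₗ a)
    (N : Type u) [AddCommGroup N] [Module R N] (z : X1 ⊗[R] N) (hz : d.rTensor N z = 0) :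
    ∃ w : Y2 ⊗[R] N, d'.rTensor N w = a.rTensor N z := by
  have hex : Function.Exact (d'.rTensor N) ((LinearMap.range d').mkQ.rTensor N) :=
    rTensor_exact N (LinearMap.exact_map_mkQ_range d') (Submodule.mkQ_surjective _)
  have h1 : (LinearMap.range d').mkQ.rTensor N (a.rTensor N z) = 0 := by
    rw [← LinearMap.comp_apply, ← LinearMap.rTensor_comp, ← hg, LinearMap.rTensor_comp,
      LinearMap.comp_apply, hz, map_zero]
  exact (hex _).1 h1

variable [Module.Free R X1] [Module.Finite R X1] [Module.Free R X0] [Module.Finite R X0]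

omit [Module.Free R X1] [Module.Finite R X1] [Module.Free R X0] [Module.Finite R X0] in
/-- naturality of `dualTensorHom` -/
lemma dualTensorHom_rTensor_dualMap (d : X1 →ₗ[R] X0) (N : Type u) [AddCommGroup N] [Module R N]
    (s : Module.Dual R X0 ⊗[R] N) :
    dualTensorHom R X1 N (d.dualMap.rTensor N s) = (dualTensorHom R X0 N s) ∘ₗ d := by
  induction s using TensorProduct.induction_on with
  | zero => simp
  | tmul l n =>
    ext x
    simp [dualTensorHom_apply]
  | add s t hs ht =>
    rw [map_add, map_add, hs, ht, map_add, LinearMap.add_comp]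

/-- Tor-vanishing against the transpose module implies Ext-vanishing -/
lemma exists_factor_of_boundary (d : X1 →ₗ[R] X0) (a : X1 →ₗ[R] Y1) (d' : Y2 →ₗ[R] Y1)
    (N : Type u) [AddCommGroup N] [Module R N] (c : Y1 →ₗ[R] N) (hc : c ∘ₗ d' = 0)
    (H : ∀ z : X1 ⊗[R] (Module.Dual R X1 ⧸ LinearMap.range d.dualMap),
      d.rTensor _ z = 0 → ∃ w : Y2 ⊗[R] (Module.Dual R X1 ⧸ LinearMap.range d.dualMap),
        d'.rTensor _ w = a.rTensor _ z) :
    ∃ g : X0 →ₗ[R] N, g ∘ₗ d = c ∘ₗ a := by
  classical
  set C := Module.Dual R X1 ⧸ LinearMap.range d.dualMap with hC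
  set q : Module.Dual R X1 →ₗ[R] C := (LinearMap.range d.dualMap).mkQ with hq
  let b1 := Module.Free.chooseBasis R X1
  let b0 := Module.Free.chooseBasis R X0
  have hqd : ∀ l : Module.Dual R X0, q (d.dualMap l) = 0 := fun l =>
    (Submodule.Quotient.mk_eq_zero _).mpr ⟨l, rfl⟩
  let z : X1 ⊗[R] C := ∑ i, b1 i ⊗ₜ[R] q (b1.coord i)
  have hz : d.rTensor C z = 0 := by
    simp only [z, map_sum, LinearMap.rTensor_tmul]
    have h1 : ∀ i, d (b1 i) ⊗ₜ[R] q (b1.coord i) =
        ∑ j, b0 j ⊗ₜ[R] q ((b0.coord j (d (b1 i))) • b1.coord i) := by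
      intro i
      conv_lhs => rw [← b0.sum_repr (d (b1 i))]
      rw [TensorProduct.sum_tmul]
      refine Finset.sum_congr rfl (fun j _ => ?_)
      rw [map_smul, TensorProduct.smul_tmul]
      rfl
    simp_rw [h1]
    rw [Finset.sum_comm]
    refine Finset.sum_eq_zero (fun j _ => ?_)
    rw [← TensorProduct.tmul_sum, ← map_sum]
    have h2 : ∑ i, (b0.coord j (d (b1 i))) • b1.coord i = d.dualMap (b0.coord j) := by
      have := b1.sum_dual_apply_smul_coord (d.dualMap (b0.coord j))
      rw [← this]
      rfl
    rw [h2, hqd, TensorProduct.tmul_zero]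
  obtain ⟨w, hw⟩ := H z hz
  set f : X1 →ₗ[R] N := c ∘ₗ a with hf
  have h3 : f.rTensor C z = 0 := by
    rw [hf, LinearMap.rTensor_comp, LinearMap.comp_apply, ← hw, ← LinearMap.comp_apply,
      ← LinearMap.rTensor_comp, hc, LinearMap.rTensor_zero, LinearMap.zero_apply]
  let t : Module.Dual R X1 ⊗[R] N := ∑ i, b1.coord i ⊗ₜ[R] f (b1 i)
  have ht : dualTensorHom R X1 N t = f := by
    apply b1.ext
    intro k
    simp only [t, map_sum, LinearMap.sum_apply, dualTensorHom_apply]
    rw [Finset.sum_eq_single k]
    · simp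
    · intro j _ hj
      have : (b1.coord j) (b1 k) = 0 := by
        rw [Module.Basis.coord_apply, Module.Basis.repr_self, Finsupp.single_apply, if_neg (Ne.symm hj)]
      rw [this, zero_smul]
    · intro h
      exact absurd (Finset.mem_univ k) h
  have h4 : q.rTensor N t = 0 := by
    have : q.rTensor N t = (TensorProduct.comm R N C) (f.rTensor C z) := by
      simp only [t, z, map_sum, LinearMap.rTensor_tmul, TensorProduct.comm_tmul]
    rw [this, h3, map_zero]
  have hex : Function.Exact (d.dualMap.rTensor N) (q.rTensor N) :=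
    rTensor_exact N (LinearMap.exact_map_mkQ_range d.dualMap) (Submodule.mkQ_surjective _)
  obtain ⟨s, hs⟩ := (hex t).1 h4
  refine ⟨dualTensorHom R X0 N s, ?_⟩
  rw [← dualTensorHom_rTensor_dualMap, hs, ht]

end E

end Groth.Agent.Lib.Helper18.DR
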