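import Mathlib
import Groth.Prelude.Def_DRing2
import Groth.Agent.Lib.Helper18.ExtTorA

set_option autoImplicit false
set_option linter.style.haveILetI false
universe u
open CategoryTheory CategoryTheory.Limits TensorProduct

attribute [local instance] HasDerivedCategory.standard

namespace Groth.Agent.Lib.Helper18.DR

section Main
variable {R : Type u} [CommRing R]
open Abelian Groth.Agent.Lib.Helper7

/-- the Ext condition in terms of `Abelian.Ext` -/
lemma ext_cond_iff {M M' : ModuleCat.{u} R} (αc : M ⟶ M') (e : ℕ) :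
    (∀ (N : Type u) [AddCommGroup N] [Module R N]
      (φ : (DerivedCategory.singleFunctor (ModuleCat.{u} R) 0).obj M' ⟶
        (Dual.inD R N)⟦((e : ℤ) + 1)⟧),
      (DerivedCategory.singleFunctor (ModuleCat.{u} R) 0).map αc ≫ φ = 0) ↔
    (∀ (N : Type u) [AddCommGroup N] [Module R N] (x : Ext M' (ModuleCat.of R N) (e + 1)),
      (Ext.mk₀ αc).comp x (zero_add _) = 0) := by
  constructor
  · intro h N _ _ x
    apply Ext.ext
    rw [← Ext.singleFunctor_map_comp_hom, Ext.zero_hom]
    exact h N x.hom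
  · intro h N _ _ φ
    obtain ⟨x, rfl⟩ : ∃ x : Ext M' (ModuleCat.of R N) (e + 1), x.hom = φ :=
      ⟨Ext.homEquiv.symm φ, Ext.homEquiv.apply_symm_apply φ⟩
    rw [Ext.singleFunctor_map_comp_hom, h N x, Ext.zero_hom]

/-- the Ext condition in terms of cocycles on projective resolutions -/
lemma ext_cond_iff_cocycle {M M' : ModuleCat.{u} R} (αc : M ⟶ M') (P : ProjectiveResolution M)
    (P' : ProjectiveResolution M') (a : ProjectiveResolution.Hom P P' αc) (e : ℕ) :
    (∀ (N : Type u) [AddCommGroup N] [Module R N] (x : Ext M' (ModuleCat.of R N) (e + 1)),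
      (Ext.mk₀ αc).comp x (zero_add _) = 0) ↔
    (∀ (N : Type u) [AddCommGroup N] [Module R N] (c : P'.complex.X (e + 1) ⟶ ModuleCat.of R N),
      P'.complex.d (e + 2) (e + 1) ≫ c = 0 →
        ∃ g : P.complex.X e ⟶ ModuleCat.of R N, P.complex.d (e + 1) e ≫ g = a.hom.f (e + 1) ≫ c) := by
  constructor
  · intro h N _ _ c hc
    have h1 := h N (P'.extMk c (e + 2) rfl hc)
    rw [ProjectiveResolution.mk₀_comp_extMk c (e + 2) rfl hc a,
      ProjectiveResolution.extMk_eq_zero_iff _ _ _ _ _ e rfl] at h1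
    exact h1
  · intro h N _ _ x
    obtain ⟨c, hc, rfl⟩ := P'.extMk_surjective x (e + 2) rfl
    rw [ProjectiveResolution.mk₀_comp_extMk c (e + 2) rfl hc a,
      ProjectiveResolution.extMk_eq_zero_iff _ _ _ _ _ e rfl]
    exact h N c hc

/-- the Tor condition in terms of cycles and boundaries of the tensored resolutions -/
lemma tor_cond_iff {M M' : ModuleCat.{u} R} (αc : M ⟶ M') (P : ProjectiveResolution M)
    (P' : ProjectiveResolution M') (a : ProjectiveResolution.Hom P P' αc) (e : ℕ)
    (N : Type u) [AddCommGroup N] [Module R N] :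
    ((Tor (ModuleCat.{u} R) (e + 1)).map αc).app (ModuleCat.of R N) = 0 ↔
      ∀ z : P.complex.X (e + 1) ⊗[R] N, (P.complex.d (e + 1) e).hom.rTensor N z = 0 →
        ∃ w : P'.complex.X (e + 2) ⊗[R] N,
          (P'.complex.d (e + 2) (e + 1)).hom.rTensor N w = (a.hom.f (e + 1)).hom.rTensor N z := by
  have comm : a.hom.f 0 ≫ P'.π.f 0 = P.π.f 0 ≫ αc := by
    have := a.hom_f_zero_comp_π_f_zero
    rwa [ChainComplex.single₀_map_f_zero] at this
  rw [tor_map_app_eq_zero_iff αc P P' a.hom comm (e + 1) (ModuleCat.of R N),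
    homologyMap_eq_zero_iff_forall (tensorMapC a.hom (ModuleCat.of R N)) (e + 2) (e + 1) e
      (by simp) (by simp)]
  rfl

/-- S1741 -/
theorem ext_map_zero_iff_tor_map_zero (R : Type u) [CommRing R] [IsNoetherianRing R]
    (M M' : Type u) [AddCommGroup M] [Module R M] [Module.Finite R M] [AddCommGroup M']
    [Module R M'] (α : M →ₗ[R] M') (e : ℕ) :
    (∀ (N : Type u) [AddCommGroup N] [Module R N]
      (φ : Dual.inD R M' ⟶ (Dual.inD R N)⟦((e : ℤ) + 1)⟧),
      (DerivedCategory.singleFunctor (ModuleCat.{u} R) 0).map (ModuleCat.ofHom α) ≫ φ = 0) ↔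
    (∀ (N : Type u) [AddCommGroup N] [Module R N],
      ((CategoryTheory.Tor (ModuleCat.{u} R) (e + 1)).map (ModuleCat.ofHom α)).app
        (ModuleCat.of R N) = 0) := by
  let P := freeRes (ModuleCat.of R M)
  let P' := freeRes (ModuleCat.of R M')
  let a : ProjectiveResolution.Hom P P' (ModuleCat.ofHom α) :=
    ⟨ProjectiveResolution.lift (ModuleCat.ofHom α) P P', by
      rw [ChainComplex.single₀_map_f_zero]
      exact ProjectiveResolution.lift_commutes_zero _ _ _⟩
  have hE := (ext_cond_iff (ModuleCat.ofHom α) e).trans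
    (ext_cond_iff_cocycle (ModuleCat.ofHom α) P P' a e)
  refine hE.trans ?_
  have hT := fun (N : Type u) [AddCommGroup N] [Module R N] =>
    tor_cond_iff (ModuleCat.ofHom α) P P' a e N
  constructor
  · intro h N _ _
    rw [hT N]
    intro z hz
    set d' := (P'.complex.d (e + 2) (e + 1)).hom with hd'
    obtain ⟨g, hg⟩ := h (P'.complex.X (e + 1) ⧸ LinearMap.range d')
      (ModuleCat.ofHom (LinearMap.range d').mkQ) (by
        ext x
        exact (Submodule.Quotient.mk_eq_zero _).mpr ⟨x, rfl⟩)
    refine exists_boundary_of_factor (P.complex.d (e + 1) e).hom (a.hom.f (e + 1)).hom d' g.hom ?_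
      N z hz
    exact congrArg ModuleCat.Hom.hom hg
  · intro h N _ _ c hc
    haveI : Module.Free R (P.complex.X (e + 1)) := free_freeRes _ _
    haveI : Module.Free R (P.complex.X e) := free_freeRes _ _
    haveI : Module.Finite R (P.complex.X (e + 1)) := finite_freeRes (ModuleCat.of R M) _
    haveI : Module.Finite R (P.complex.X e) := finite_freeRes (ModuleCat.of R M) _
    obtain ⟨g, hg⟩ := exists_factor_of_boundary (P.complex.d (e + 1) e).hom (a.hom.f (e + 1)).hom
      (P'.complex.d (e + 2) (e + 1)).hom N c.hom (by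
        have := congrArg ModuleCat.Hom.hom hc
        simpa only [ModuleCat.hom_comp, ModuleCat.hom_zero] using this)
      (fun z hz => (hT _).1 (h _) z hz)
    refine ⟨ModuleCat.ofHom g, ?_⟩
    apply ModuleCat.hom_ext
    exact hg

end Main

end Groth.Agent.Lib.Helper18.DR
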