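import Mathlib
import Groth.Prelude.Def_Fitting
import Groth.Prelude.Def_BlowUp2
import Groth.Prelude.Def_FlatCA
import Groth.Agent.Lib.Helper18.FittLib5

/-!
# Fitting ideals VII: principal Fitting ideals, strict transforms on the affine blowup (helper18)
-/

namespace Groth.Agent.Lib.Helper18.FittLib

open Matrix TensorProduct

universe u v w

section
variable {R : Type u} [CommRing R] {M : Type v} [AddCommGroup M] [Module R M]

/-- The Cramer-rule core of "principal Fitting ideal ⟹ few generators modulo `f`-torsion". -/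
lemma exists_span_add_ker {n : ℕ} (x : Fin n → M)
    (hx : Submodule.span R (Set.range x) = ⊤) (k : ℕ) (f : R)
    (hle : ∀ d ∈ Fitt.ideal R M k, ∃ c', c' * f = d)
    (z : Fin (n - k) → Fin n → R) (e : Fin (n - k) → Fin n) (hz : ∀ j, ∑ i, z j i • x i = 0)
    (c : R) (hdet : (Matrix.of fun a b => z b (e a)).det = c * f) :
    ∃ m : Fin k → M, ∀ y : M, ∃ y' ∈ Submodule.span R (Set.range m), f • (c • y - y') = 0 := by
  classical
  have hfit := fitt_eq_minorIdeal x hx k
  by_cases he : Function.Injective e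
  swap
  · simp only [Function.Injective, not_forall] at he
    obtain ⟨a, a', hee, hne'⟩ := he
    have h0 : (Matrix.of fun a b => z b (e a)).det = 0 :=
      Matrix.det_zero_of_row_eq hne' (funext fun b => by simp [hee])
    rw [h0] at hdet
    refine ⟨fun _ => 0, fun y => ⟨0, zero_mem _, ?_⟩⟩
    rw [sub_zero, smul_smul, mul_comm, ← hdet, zero_smul]
  set A : Matrix (Fin (n - k)) (Fin (n - k)) R := Matrix.of fun b a => z b (e a) with hA
  have hAdet : A.det = c * f := by
    rw [← hdet, ← Matrix.det_transpose]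
    rfl
  set T : Finset (Fin n) := (Finset.image e Finset.univ)ᶜ with hT
  have hTcard : T.card ≤ k := by
    rw [hT, Finset.card_compl, Finset.card_image_of_injective _ he, Finset.card_univ,
      Fintype.card_fin, Fintype.card_fin]
    omega
  let m : Fin k → M := fun j => if h : (j : ℕ) < T.card then x (T.equivFin.symm ⟨j, h⟩) else 0
  have hmT : ∀ i ∈ T, x i ∈ Submodule.span R (Set.range m) := by
    intro i hi
    have hj : ((T.equivFin ⟨i, hi⟩ : Fin T.card) : ℕ) < k :=
      lt_of_lt_of_le (T.equivFin ⟨i, hi⟩).2 hTcard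
    refine Submodule.subset_span ⟨⟨(T.equivFin ⟨i, hi⟩ : Fin T.card), hj⟩, ?_⟩
    simp only [m, Fin.is_lt, dif_pos, Fin.eta, Equiv.symm_apply_apply]
  refine ⟨m, ?_⟩
  set N := Submodule.span R (Set.range m) with hN
  have hstep : ∀ a₀ : Fin (n - k), ∃ y' ∈ N, f • (c • x (e a₀) - y') = 0 := by
    intro a₀
    set w : Fin n → R := fun i => ∑ b, A.adjugate a₀ b * z b i with hw
    have hw1 : ∑ i, w i • x i = 0 := by
      calc ∑ i, w i • x i = ∑ i, ∑ b, (A.adjugate a₀ b * z b i) • x i := by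
            simp only [hw, Finset.sum_smul]
        _ = ∑ b, ∑ i, (A.adjugate a₀ b * z b i) • x i := Finset.sum_comm
        _ = ∑ b, A.adjugate a₀ b • ∑ i, z b i • x i := by
            simp only [Finset.smul_sum, mul_smul]
        _ = 0 := by
            refine Finset.sum_eq_zero fun b _ => ?_
            rw [hz b, smul_zero]
    have hw2 : ∀ a, w (e a) = if a₀ = a then A.det else 0 := by
      intro a
      have h1 : w (e a) = (A.adjugate * A) a₀ a := by
        rw [Matrix.mul_apply]
        rfl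
      rw [h1, Matrix.adjugate_mul, Matrix.smul_apply, Matrix.one_apply, smul_eq_mul, mul_ite,
        mul_one, mul_zero]
    have hw3 : ∀ i, ∃ c', c' * f = w i := by
      intro i
      apply hle
      rw [hfit]
      have h1 : w i = (A.updateCol a₀ (fun b => z b i)).det := by
        rw [← Matrix.cramer_apply, Matrix.cramer_eq_adjugate_mulVec]
        rfl
      rw [h1, ← Matrix.det_transpose]
      refine Ideal.subset_span ⟨z, Function.update e a₀ i, hz, ?_⟩
      congr 1
      ext a b
      simp only [Matrix.transpose_apply, Matrix.updateCol_apply, Matrix.of_apply, hA,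
        Function.update_apply]
      split_ifs <;> rfl
    choose c' hc' using hw3
    have hsplit : ∑ i, w i • x i
        = A.det • x (e a₀) + f • ∑ i ∈ T, c' i • x i := by
      rw [← Finset.sum_add_sum_compl (Finset.image e Finset.univ) (fun i => w i • x i),
        Finset.sum_image (fun a _ b _ h => he h)]
      congr 1
      · simp only [hw2, ite_smul, zero_smul, Finset.sum_ite_eq, Finset.mem_univ, if_true]
      · rw [Finset.smul_sum]
        refine Finset.sum_congr rfl fun i _ => ?_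
        rw [← hc' i, mul_comm, mul_smul]
    rw [hw1, hAdet] at hsplit
    refine ⟨- ∑ i ∈ T, c' i • x i, N.neg_mem (Submodule.sum_mem _ fun i hi =>
      N.smul_mem _ (hmT i hi)), ?_⟩
    rw [sub_neg_eq_add, smul_add, smul_smul, mul_comm f c]
    exact hsplit.symm
  have hall : ∀ i, ∃ y' ∈ N, f • (c • x i - y') = 0 := by
    intro i
    by_cases hi : i ∈ T
    · exact ⟨c • x i, N.smul_mem _ (hmT i hi), by rw [sub_self, smul_zero]⟩
    · rw [hT, Finset.mem_compl, not_not, Finset.mem_image] at hi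
      obtain ⟨a₀, _, rfl⟩ := hi
      exact hstep a₀
  intro y
  have hy : y ∈ Submodule.span R (Set.range x) := by rw [hx]; trivial
  induction hy using Submodule.span_induction with
  | mem y hy => obtain ⟨l, rfl⟩ := hy; exact hall l
  | zero => exact ⟨0, zero_mem _, by simp⟩
  | add u v _ _ hu hv =>
    obtain ⟨u', hu', hu0⟩ := hu
    obtain ⟨v', hv', hv0⟩ := hv
    refine ⟨u' + v', add_mem hu' hv', ?_⟩
    have : c • (u + v) - (u' + v') = (c • u - u') + (c • v - v') := by
      rw [smul_add]; abel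
    rw [this, smul_add, hu0, hv0, add_zero]
  | smul r u _ hu =>
    obtain ⟨u', hu', hu0⟩ := hu
    refine ⟨r • u', N.smul_mem _ hu', ?_⟩
    have : c • (r • u) - r • u' = r • (c • u - u') := by
      rw [smul_sub, smul_comm]
    rw [this, smul_comm, hu0, smul_zero]

end

section Blowup
variable {R : Type u} [CommRing R]

lemma blowup_map_le (I : Ideal R) (a : R) (R₁ : Type u) [CommRing R₁] [Algebra R R₁]
    (e : R₁ ≃ₐ[R] ↥(BlowUp.affineAlgebra R I a)) :
    I.map (algebraMap R R₁) ≤ Ideal.span {algebraMap R R₁ a} := by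
  rw [Ideal.map_le_iff_le_comap]
  intro x hx
  rw [Ideal.mem_comap, Ideal.mem_span_singleton']
  let q : ↥(BlowUp.affineAlgebra R I a) :=
    ⟨IsLocalization.mk' (Localization.Away a) x ⟨a, Submonoid.mem_powers a⟩,
      Algebra.subset_adjoin ⟨x, hx, rfl⟩⟩
  have hq : a • q = algebraMap R _ x := by
    apply Subtype.ext
    show a • IsLocalization.mk' (Localization.Away a) x ⟨a, _⟩
      = algebraMap R (Localization.Away a) x
    rw [Algebra.smul_def, IsLocalization.mk'_spec'_mk]
  refine ⟨e.symm q, ?_⟩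
  have := congrArg e.symm hq
  rw [map_smul, AlgEquiv.commutes] at this
  rw [← this, Algebra.smul_def, mul_comm]

lemma blowup_nzd (I : Ideal R) (a : R) (R₁ : Type u) [CommRing R₁] [Algebra R R₁]
    (e : R₁ ≃ₐ[R] ↥(BlowUp.affineAlgebra R I a)) :
    ∀ r : R₁, algebraMap R R₁ a * r = 0 → r = 0 := by
  intro r hr
  have h1 := congrArg e hr
  rw [map_mul, map_zero, AlgEquiv.commutes] at h1
  have h2 : algebraMap R (Localization.Away a) a * ((e r : ↥(BlowUp.affineAlgebra R I a)) :
      Localization.Away a) = 0 := by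
    have := congrArg Subtype.val h1
    simpa using this
  have hu : IsUnit (algebraMap R (Localization.Away a) a) :=
    IsLocalization.Away.algebraMap_isUnit a
  have h3 : ((e r : ↥(BlowUp.affineAlgebra R I a)) : Localization.Away a) = 0 :=
    (hu.mul_right_eq_zero).1 h2
  have h4 : e r = 0 := Subtype.ext (by simpa using h3)
  exact e.injective (by rw [h4, map_zero])

lemma blowup_nzd_pow (I : Ideal R) (a : R) (R₁ : Type u) [CommRing R₁] [Algebra R R₁]
    (e : R₁ ≃ₐ[R] ↥(BlowUp.affineAlgebra R I a)) (N : ℕ) :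
    ∀ r : R₁, algebraMap R R₁ a ^ N * r = 0 → r = 0 := by
  induction N with
  | zero => intro r hr; simpa using hr
  | succ N ih =>
    intro r hr
    apply ih
    apply blowup_nzd I a R₁ e
    rw [← mul_assoc, ← pow_succ']
    exact hr

end Blowup

section Strict
variable {R : Type u} [CommRing R] {M : Type u} [AddCommGroup M] [Module R M]

lemma ker_le_powTorsion {R₁ : Type u} [CommRing R₁] (a₁ : R₁) {M₁ : Type u} [AddCommGroup M₁]
    [Module R₁ M₁] (y : M₁) (hy : a₁ • y = 0) : y ∈ FlatCA.powTorsion R₁ a₁ M₁ := by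
  refine (le_iSup (fun n => Submodule.torsionBy R₁ M₁ (a₁ ^ n)) 1) ?_
  rw [Submodule.mem_torsionBy_iff, pow_one]; exact hy

lemma mem_powTorsion_iff {R₁ : Type u} [CommRing R₁] (a₁ : R₁) {M₁ : Type u} [AddCommGroup M₁]
    [Module R₁ M₁] (y : M₁) : y ∈ FlatCA.powTorsion R₁ a₁ M₁ ↔ ∃ N : ℕ, a₁ ^ N • y = 0 := by
  unfold FlatCA.powTorsion
  rw [Submodule.mem_iSup_of_directed]
  · simp only [Submodule.mem_torsionBy_iff]
  · refine Monotone.directed_le ?_
    intro i j hij y hy
    rw [Submodule.mem_torsionBy_iff] at hy ⊢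
    obtain ⟨d, rfl⟩ := Nat.exists_eq_add_of_le hij
    rw [pow_add, mul_comm, mul_smul, hy, smul_zero]

/-- S6914 in library form. -/
theorem fitt_strictTransform_eq_top [Module.Finite R M] (k : ℕ) (a : R)
    (ha : a ∈ Fitt.ideal R M k) (R₁ : Type u) [CommRing R₁] [Algebra R R₁]
    (e : R₁ ≃ₐ[R] ↥(BlowUp.affineAlgebra R (Fitt.ideal R M k) a)) :
    Fitt.ideal R₁ ((R₁ ⊗[R] M) ⧸ FlatCA.powTorsion R₁ (algebraMap R R₁ a) (R₁ ⊗[R] M)) k = ⊤ := by
  classical
  set a₁ := algebraMap R R₁ a with ha₁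
  set T := FlatCA.powTorsion R₁ a₁ (R₁ ⊗[R] M) with hT
  have hmap : (Fitt.ideal R M k).map (algebraMap R R₁) ≤ Ideal.span {a₁} :=
    blowup_map_le _ a R₁ e
  have hle : ∀ d ∈ Fitt.ideal R₁ (R₁ ⊗[R] M) k, ∃ c, c * a₁ = d := by
    intro d hd
    rw [fitt_baseChange R₁ k] at hd
    exact Ideal.mem_span_singleton'.1 (hmap hd)
  have hmem : a₁ ∈ Fitt.ideal R₁ (R₁ ⊗[R] M) k := by
    rw [fitt_baseChange R₁ k]; exact Ideal.mem_map_of_mem _ ha
  obtain ⟨n, x, hx⟩ := Module.Finite.exists_fin (R := R₁) (M := R₁ ⊗[R] M)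
  have hfit := fitt_eq_minorIdeal x hx k
  let G : Set R₁ := {c | ∃ (z : Fin (n - k) → Fin n → R₁) (e' : Fin (n - k) → Fin n),
    (∀ j, ∑ i, z j i • x i = 0) ∧ (Matrix.of fun a b => z b (e' a)).det = c * a₁}
  have hρ : ∀ v ∈ minorIdeal {z : Fin n → R₁ | ∑ i, z i • x i = 0} (n - k),
      ∃ ρ ∈ Ideal.span G, v = ρ * a₁ := by
    intro v hv
    induction hv using Submodule.span_induction with
    | mem v hv =>
      obtain ⟨z, e', hz, rfl⟩ := hv
      obtain ⟨c, hc⟩ := hle _ (by rw [hfit]; exact Ideal.subset_span ⟨z, e', hz, rfl⟩)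
      exact ⟨c, Ideal.subset_span ⟨z, e', hz, hc.symm⟩, hc.symm⟩
    | zero => exact ⟨0, zero_mem _, by simp⟩
    | add u v _ _ hu hv =>
      obtain ⟨ρ, hρ, rfl⟩ := hu
      obtain ⟨ρ', hρ', rfl⟩ := hv
      exact ⟨ρ + ρ', add_mem hρ hρ', by ring⟩
    | smul r v _ hv =>
      obtain ⟨ρ, hρ, rfl⟩ := hv
      exact ⟨r * ρ, Ideal.mul_mem_left _ _ hρ, by rw [smul_eq_mul]; ring⟩
  obtain ⟨ρ, hρG, hρa⟩ := hρ a₁ (by rw [← hfit]; exact hmem)
  by_contra hne
  obtain ⟨p₁, hp₁, hle₁⟩ := Ideal.exists_le_maximal _ hne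
  haveI := hp₁.isPrime
  refine (not_fitt_le_prime_iff (R := R₁) (M := (R₁ ⊗[R] M) ⧸ T) k p₁).2 ?_ hle₁
  by_cases hGp : Ideal.span G ≤ p₁
  · refine ⟨1 - ρ, ?_, fun _ => 0, ?_⟩
    · intro h
      have h1 : (1 : R₁) ∈ p₁ := by
        have := p₁.add_mem h (hGp hρG); simpa using this
      exact hp₁.ne_top ((Ideal.eq_top_iff_one _).2 h1)
    · intro q
      obtain ⟨y, rfl⟩ := Submodule.mkQ_surjective T q
      have hyT : (1 - ρ) • y ∈ T := by
        apply ker_le_powTorsion
        rw [smul_smul]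
        have : a₁ * (1 - ρ) = 0 := by
          rw [mul_sub, mul_one, mul_comm, ← hρa, sub_self]
        rw [this, zero_smul]
      rw [← map_smul, Submodule.mkQ_apply, (Submodule.Quotient.mk_eq_zero T).2 hyT]
      exact zero_mem _
  · have hex : ∃ c ∈ G, c ∉ p₁ := by
      by_contra hcon
      push_neg at hcon
      exact hGp (Ideal.span_le.2 hcon)
    obtain ⟨c, ⟨z, e', hz, hdet⟩, hc⟩ := hex
    obtain ⟨m, hm⟩ := exists_span_add_ker x hx k a₁ hle z e' hz c hdet
    refine ⟨c, hc, fun j => T.mkQ (m j), ?_⟩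
    intro q
    obtain ⟨y, rfl⟩ := Submodule.mkQ_surjective T q
    obtain ⟨y', hy', hker⟩ := hm y
    have h1 : c • y - y' ∈ T := ker_le_powTorsion a₁ _ hker
    have h2 : c • T.mkQ y = T.mkQ y' := by
      rw [← map_smul, ← sub_eq_zero, ← map_sub, Submodule.mkQ_apply,
        Submodule.Quotient.mk_eq_zero]
      exact h1
    rw [h2]
    have h3 : T.mkQ y' ∈ Submodule.map T.mkQ (Submodule.span R₁ (Set.range m)) :=
      Submodule.mem_map_of_mem hy'
    rw [Submodule.map_span, ← Set.range_comp] at h3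
    exact h3

end Strict

end Groth.Agent.Lib.Helper18.FittLib
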