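import Mathlib
import Groth.Agent.Lib.Helper18.FlatGorB
import Groth.Agent.Lib.Helper4.GorFlat

/-!
# Flat base change of dualizing complexes, VI: flat local maps with `m_A B = m_B` (helper18)
-/

set_option autoImplicit false
set_option linter.style.haveILetI false
universe u
open CategoryTheory CategoryTheory.Limits CategoryTheory.Pretriangulated DerivedCategory

attribute [local instance] HasDerivedCategory.standard

namespace Groth.Agent.Lib.Helper18.DR

namespace FlatGor

open HomLoc HomBC Bid MaxCrit Norm Uniq TensorProduct

section unram

variable {A B : Type u} [CommRing A] [CommRing B] [Algebra A B] [Module.Flat A B]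
  [IsNoetherianRing A] [IsNoetherianRing B] [IsLocalRing A] [IsLocalRing B]

/-- flat local homomorphisms with `m_A B = m_B` preserve dualizing complexes -/
theorem isDualizing_extD_of_map_maximalIdeal_eq
    (hmap : (IsLocalRing.maximalIdeal A).map (algebraMap A B) = IsLocalRing.maximalIdeal B)
    (ω : Dual.D A) (hω : Dual.IsDualizing A ω) : Dual.IsDualizing B ((extD A B).obj ω) := by
  refine isDualizing_extD_of_gorenstein_closedFibre ω hω ?_
  rw [hmap]
  letI : Field (B ⧸ IsLocalRing.maximalIdeal B) := Ideal.Quotient.field _
  exact Groth.Agent.Lib.Helper4.GorFlat.gor_field (B ⧸ IsLocalRing.maximalIdeal B)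

end unram

end FlatGor

end Groth.Agent.Lib.Helper18.DR
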