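import Mathlib

/-!
# Pointwise description of binary products and pullbacks in a functor category `C ⥤ Type v`
-/

universe v u₁ v₁

open CategoryTheory CategoryTheory.Limits

namespace Groth.Agent.Lib.Helper18

variable {C : Type u₁} [Category.{v₁} C]

/-- The value at `A` of the product of two type-valued functors is the product of the values. -/
theorem prod_obj_bijective (F G : C ⥤ Type v) (A : C) :
    Function.Bijective (fun z : (F ⨯ G).obj A =>
      ((prod.fst : F ⨯ G ⟶ F).app A z, (prod.snd : F ⨯ G ⟶ G).app A z)) := by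
  have t : IsLimit (((evaluation C (Type v)).obj A).mapCone (BinaryFan.mk (prod.fst : F ⨯ G ⟶ F) prod.snd)) :=
    isLimitOfPreserves ((evaluation C (Type v)).obj A) (prodIsProd F G)
  have key := (Types.isLimit_iff _).mp ⟨t⟩
  constructor
  · intro z1 z2 h
    have h1 : (prod.fst : F ⨯ G ⟶ F).app A z1 = (prod.fst : F ⨯ G ⟶ F).app A z2 := congrArg Prod.fst h
    have h2 : (prod.snd : F ⨯ G ⟶ G).app A z1 = (prod.snd : F ⨯ G ⟶ G).app A z2 := congrArg Prod.snd h
    obtain ⟨x, -, hx⟩ := key _ (Types.sectionOfCone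
      (((evaluation C (Type v)).obj A).mapCone (BinaryFan.mk (prod.fst : F ⨯ G ⟶ F) prod.snd)) z2).2
    rw [hx z1, hx z2]
    · intro j; rfl
    · rintro ⟨j | j⟩
      · exact h1
      · exact h2
  · rintro ⟨a, b⟩
    let s : ∀ j : Discrete WalkingPair, (pair F G ⋙ (evaluation C (Type v)).obj A).obj j :=
      fun j => match j with
        | ⟨WalkingPair.left⟩ => a
        | ⟨WalkingPair.right⟩ => b
    have hs : s ∈ (pair F G ⋙ (evaluation C (Type v)).obj A).sections := by
      rintro ⟨j⟩ ⟨j'⟩ ⟨⟨h⟩⟩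
      cases h
      cases j <;> rfl
    obtain ⟨x, hx, -⟩ := key s hs
    exact ⟨x, Prod.ext (hx ⟨WalkingPair.left⟩) (hx ⟨WalkingPair.right⟩)⟩

/-- The value at `A` of a pullback of type-valued functors is a pullback of types. -/
theorem isPullback_pullback_app {F G H : C ⥤ Type v} (η : F ⟶ G) (θ : H ⟶ G) (A : C) :
    IsPullback ((pullback.fst η θ).app A) ((pullback.snd η θ).app A) (η.app A) (θ.app A) :=
  (IsPullback.of_hasPullback η θ).map ((evaluation C (Type v)).obj A)

theorem pullback_app_ext {F G H : C ⥤ Type v} (η : F ⟶ G) (θ : H ⟶ G) (A : C)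
    {z₁ z₂ : (pullback η θ).obj A}
    (h₁ : (pullback.fst η θ).app A z₁ = (pullback.fst η θ).app A z₂)
    (h₂ : (pullback.snd η θ).app A z₁ = (pullback.snd η θ).app A z₂) : z₁ = z₂ :=
  Types.ext_of_isPullback (isPullback_pullback_app η θ A) h₁ h₂

theorem pullback_app_exists {F G H : C ⥤ Type v} (η : F ⟶ G) (θ : H ⟶ G) (A : C)
    (a : F.obj A) (c : H.obj A) (h : η.app A a = θ.app A c) :
    ∃ z : (pullback η θ).obj A, (pullback.fst η θ).app A z = a ∧ (pullback.snd η θ).app A z = c :=
  Types.exists_of_isPullback (isPullback_pullback_app η θ A) a c h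

end Groth.Agent.Lib.Helper18
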