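import Mathlib

/-!
# Two-out-of-three for a natural transformation between exact functors, without any compatibility
with the shifts (helper18)
-/

set_option autoImplicit false
set_option linter.style.haveILetI false
open CategoryTheory CategoryTheory.Limits CategoryTheory.Pretriangulated

namespace Groth.Agent.Lib.Helper18.DR.Gen

variable {C D : Type*} [Category C] [Category D] [HasZeroObject C] [HasShift C ℤ] [Preadditive C]
  [∀ n : ℤ, (shiftFunctor C n).Additive] [Pretriangulated C] [Preadditive D]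

/-- weak exactness of a functor on distinguished triangles -/
def WeakTri (F : C ⥤ D) : Prop :=
  ∀ T ∈ distTriang C, ∀ (W : D) (y : W ⟶ F.obj T.obj₂), y ≫ F.map T.mor₂ = 0 →
    ∃ x : W ⟶ F.obj T.obj₁, y = x ≫ F.map T.mor₁

lemma weakTri_of_isTriangulated [HasZeroObject D] [HasShift D ℤ]
    [∀ n : ℤ, (shiftFunctor D n).Additive] [Pretriangulated D] (F : C ⥤ D) [F.CommShift ℤ]
    [F.IsTriangulated] : WeakTri F :=
  fun T hT _ y hy => Triangle.coyoneda_exact₂ _ (F.map_distinguished T hT) y hy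

variable {F₁ F₂ : C ⥤ D} [F₁.PreservesZeroMorphisms] [F₂.PreservesZeroMorphisms]
  (h₁ : WeakTri F₁) (h₂ : WeakTri F₂) (τ : F₁ ⟶ F₂)

include h₁ h₂ in
theorem isIso_app_obj₂ (T : Triangle C) (hT : T ∈ distTriang C)
    [IsIso (τ.app T.obj₁)] [IsIso (τ.app T.obj₃)]
    [IsIso (τ.app ((shiftFunctor C (1 : ℤ)).obj T.obj₁))]
    [IsIso (τ.app ((shiftFunctor C (-1 : ℤ)).obj T.obj₃))] : IsIso (τ.app T.obj₂) := by
  have hrot := rot_of_distTriang _ hT
  have hinv := inv_rot_of_distTriang _ hT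
  let k : (shiftFunctor C (-1 : ℤ)).obj T.obj₃ ⟶ T.obj₁ := T.invRotate.mor₁
  have hk : k ≫ T.mor₁ = 0 := comp_distTriang_mor_zero₁₂ _ hinv
  refine isIso_of_yoneda_map_bijective _ (fun W => ⟨?_, ?_⟩)
  · -- injectivity
    intro a b hab
    rw [← sub_eq_zero]
    have hy : (a - b) ≫ τ.app T.obj₂ = 0 := by
      rw [Preadditive.sub_comp, sub_eq_zero]; exact hab
    generalize a - b = y₁ at hy
    have h1 : y₁ ≫ F₁.map T.mor₂ = 0 := by
      rw [← cancel_mono (τ.app T.obj₃), Category.assoc, τ.naturality, reassoc_of% hy, zero_comp,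
        zero_comp]
    obtain ⟨x₁, rfl⟩ := h₁ T hT W y₁ h1
    have h2 : (x₁ ≫ τ.app T.obj₁) ≫ F₂.map T.mor₁ = 0 := by
      rw [Category.assoc, ← τ.naturality, ← Category.assoc]; exact hy
    obtain ⟨w₂, hw₂⟩ : ∃ w₂ : W ⟶ F₂.obj ((shiftFunctor C (-1 : ℤ)).obj T.obj₃),
        x₁ ≫ τ.app T.obj₁ = w₂ ≫ F₂.map k := h₂ T.invRotate hinv W (x₁ ≫ τ.app T.obj₁) h2
    have h3 : x₁ = (w₂ ≫ inv (τ.app ((shiftFunctor C (-1 : ℤ)).obj T.obj₃))) ≫ F₁.map k := by
      rw [← cancel_mono (τ.app T.obj₁), Category.assoc, Category.assoc, τ.naturality,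
        IsIso.inv_hom_id_assoc]
      exact hw₂
    rw [h3, Category.assoc, ← F₁.map_comp, hk, F₁.map_zero, comp_zero]
  · -- surjectivity
    intro y₂
    have h1 : (y₂ ≫ F₂.map T.mor₂ ≫ inv (τ.app T.obj₃)) ≫ F₁.map T.mor₃ = 0 := by
      rw [← cancel_mono (τ.app ((shiftFunctor C (1 : ℤ)).obj T.obj₁)), Category.assoc,
        Category.assoc, Category.assoc, τ.naturality, IsIso.inv_hom_id_assoc, zero_comp,
        ← F₂.map_comp, comp_distTriang_mor_zero₂₃ _ hT, F₂.map_zero, comp_zero]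
    obtain ⟨y₁, hy₁⟩ : ∃ y₁ : W ⟶ F₁.obj T.obj₂,
        y₂ ≫ F₂.map T.mor₂ ≫ inv (τ.app T.obj₃) = y₁ ≫ F₁.map T.mor₂ :=
      h₁ T.rotate hrot W _ h1
    have h2 : (y₁ ≫ τ.app T.obj₂ - y₂) ≫ F₂.map T.mor₂ = 0 := by
      rw [Preadditive.sub_comp, Category.assoc, ← τ.naturality, sub_eq_zero,
        ← reassoc_of% hy₁, IsIso.inv_hom_id, Category.comp_id]
    obtain ⟨x₂, hx₂⟩ := h₂ T hT W _ h2
    refine ⟨y₁ - (x₂ ≫ inv (τ.app T.obj₁)) ≫ F₁.map T.mor₁, ?_⟩
    change (y₁ - (x₂ ≫ inv (τ.app T.obj₁)) ≫ F₁.map T.mor₁) ≫ τ.app T.obj₂ = y₂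
    rw [Preadditive.sub_comp, Category.assoc, Category.assoc, τ.naturality,
      IsIso.inv_hom_id_assoc, ← hx₂]
    abel

end Groth.Agent.Lib.Helper18.DR.Gen
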