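import Mathlib

/-!
# ℤ-graded rings whose homogeneous ideals are finitely generated

Generic lemmas for S13665 (Noetherian criteria for ℤ-graded rings).
-/

namespace Groth.Agent.Lib.Helper18.GradedNoeth

open DirectSum

variable {R A : Type*} [CommRing R] [CommRing A] [Algebra R A]
  (𝒜 : ℤ → Submodule R A) [GradedAlgebra 𝒜]

/-- A homogeneous element of the ideal generated by finitely many homogeneous elements is a
combination of them with homogeneous coefficients of the complementary degrees. -/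
theorem exists_homog_coeff {ι : Type*} [Fintype ι] (x : ι → A) (dg : ι → ℤ)
    (hx : ∀ i, x i ∈ 𝒜 (dg i)) {n : ℤ} {a : A} (ha : a ∈ 𝒜 n)
    (hspan : a ∈ Ideal.span (Set.range x)) :
    ∃ b : ι → A, (∀ i, b i ∈ 𝒜 (n - dg i)) ∧ a = ∑ i, b i * x i := by
  classical
  obtain ⟨c, hc⟩ := Ideal.mem_span_range_iff_exists_fun.mp hspan
  refine ⟨fun i => (decompose 𝒜 (c i) (n - dg i) : A), fun i => SetLike.coe_mem _, ?_⟩
  conv_lhs => rw [← decompose_of_mem_same 𝒜 ha]
  rw [← hc, decompose_sum, DFinsupp.finset_sum_apply, AddSubmonoidClass.coe_finset_sum]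
  apply Finset.sum_congr rfl
  intro i _
  have := coe_decompose_mul_add_of_right_mem 𝒜 (i := n - dg i) (j := dg i) (a := c i) (hx i)
  rwa [sub_add_cancel] at this

theorem exists_finset_span_of_homog (H : ∀ I : Ideal A, I.IsHomogeneous 𝒜 → I.FG) (S : Set A)
    (hS : ∀ a ∈ S, SetLike.IsHomogeneousElem 𝒜 a) :
    ∃ F : Finset A, (F : Set A) ⊆ S ∧ Ideal.span S = Ideal.span (F : Set A) := by
  have h1 : (Ideal.span S).IsHomogeneous 𝒜 := Ideal.homogeneous_span 𝒜 S hS
  exact (Submodule.fg_span_iff_fg_span_finset_subset S).mp (H _ h1)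

theorem range_val_finset (F : Finset A) : Set.range (Subtype.val : F → A) = (F : Set A) := by
  ext a; simp

/-- The half-line subalgebra `A_{ε ≥ 0}` is of finite type over `A_0`. -/
theorem adjoin_halfline_fg (H : ∀ I : Ideal A, I.IsHomogeneous 𝒜 → I.FG) (ε : ℤ)
    (hε : ε * ε = 1) :
    (Algebra.adjoin (𝒜 0) {a : A | ∃ n : ℤ, 0 ≤ ε * n ∧ a ∈ 𝒜 n}).FG := by
  classical
  obtain ⟨F, hFsub, hFspan⟩ := exists_finset_span_of_homog 𝒜 H
    {a : A | ∃ n : ℤ, 0 < ε * n ∧ a ∈ 𝒜 n} (by rintro a ⟨n, _, ha⟩; exact ⟨n, ha⟩)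
  have hdg : ∀ y : F, ∃ n : ℤ, 0 < ε * n ∧ (y : A) ∈ 𝒜 n := fun y => hFsub y.2
  choose dg hdgpos hdgmem using hdg
  obtain ⟨D, hD⟩ : ∃ D : ℕ, ∀ y : F, ε * dg y ≤ D := by
    refine ⟨(∑ y : F, (ε * dg y).toNat), fun y => ?_⟩
    have h1 : (ε * dg y).toNat ≤ ∑ y : F, (ε * dg y).toNat :=
      Finset.single_le_sum (f := fun y : F => (ε * dg y).toNat) (fun _ _ => Nat.zero_le _)
        (Finset.mem_univ y)
    have h2 : ε * dg y ≤ ((ε * dg y).toNat : ℤ) := Int.self_le_toNat _
    exact h2.trans (by exact_mod_cast h1)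
  have hpiece : ∀ n : ℤ, ∃ Fn : Finset A, (Fn : Set A) ⊆ 𝒜 n ∧
      Ideal.span (𝒜 n : Set A) = Ideal.span (Fn : Set A) :=
    fun n => exists_finset_span_of_homog 𝒜 H (𝒜 n : Set A) (fun a ha => ⟨n, ha⟩)
  choose Fp hFpsub hFpspan using hpiece
  let G : Finset A := F ∪ (Finset.range D).biUnion (fun k => Fp (ε * k))
  have hGF : ∀ y ∈ F, y ∈ G := fun y hy => Finset.mem_union_left _ hy
  have hGp : ∀ k < D, ∀ y ∈ Fp (ε * k), y ∈ G := fun k hk y hy =>
    Finset.mem_union_right _ (Finset.mem_biUnion.mpr ⟨k, Finset.mem_range.mpr hk, hy⟩)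
  have hGsub : (G : Set A) ⊆ {a : A | ∃ n : ℤ, 0 ≤ ε * n ∧ a ∈ 𝒜 n} := by
    intro a ha
    rcases Finset.mem_union.mp (Finset.mem_coe.mp ha) with ha | ha
    · obtain ⟨n, hn, ha⟩ := hFsub ha
      exact ⟨n, hn.le, ha⟩
    · obtain ⟨k, _, ha⟩ := Finset.mem_biUnion.mp ha
      refine ⟨ε * k, ?_, hFpsub _ ha⟩
      rw [← mul_assoc, hε, one_mul]
      positivity
  have claim : ∀ m : ℕ, ∀ N : ℤ, ε * N = m → ∀ a ∈ 𝒜 N,
      a ∈ Algebra.adjoin (𝒜 0) (G : Set A) := by
    intro m
    induction m using Nat.strong_induction_on with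
    | _ m ih =>
      intro N hN a ha
      have hNeq : N = ε * m := by rw [← hN, ← mul_assoc, hε, one_mul]
      by_cases hmD : m < D
      · have hspan : a ∈ Ideal.span (Set.range (Subtype.val : (Fp N) → A)) := by
          rw [range_val_finset, ← hFpspan]
          exact Ideal.subset_span ha
        obtain ⟨b, hb, hab⟩ := exists_homog_coeff 𝒜 (Subtype.val : (Fp N) → A) (fun _ => N)
          (fun y => hFpsub N y.2) ha hspan
        rw [hab]
        apply Subalgebra.sum_mem
        intro y _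
        apply Subalgebra.mul_mem
        · have h0 : b y ∈ 𝒜 0 := by simpa using hb y
          exact Subalgebra.algebraMap_mem _ (⟨b y, h0⟩ : 𝒜 0)
        · apply Algebra.subset_adjoin
          exact hGp m hmD y.1 (by rw [← hNeq]; exact y.2)
      · push_neg at hmD
        by_cases hm0 : m = 0
        · subst hm0
          have hN0 : N = 0 := by simpa using hNeq
          subst hN0
          exact Subalgebra.algebraMap_mem _ (⟨a, ha⟩ : 𝒜 0)
        · have hpos : 0 < ε * N := by
            rw [hN]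
            exact_mod_cast Nat.pos_of_ne_zero hm0
          have hspan : a ∈ Ideal.span (Set.range (Subtype.val : F → A)) := by
            rw [range_val_finset, ← hFspan]
            exact Ideal.subset_span ⟨N, hpos, ha⟩
          obtain ⟨b, hb, hab⟩ := exists_homog_coeff 𝒜 (Subtype.val : F → A) dg hdgmem ha hspan
          rw [hab]
          apply Subalgebra.sum_mem
          intro y _
          apply Subalgebra.mul_mem
          · have h1 := hdgpos y
            have h2 := hD y
            have h4 : ((ε * dg y).toNat : ℤ) = ε * dg y := Int.toNat_of_nonneg h1.le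
            have h5 : (ε * dg y).toNat ≤ m := by
              have : ((ε * dg y).toNat : ℤ) ≤ m := by rw [h4]; exact h2.trans (by exact_mod_cast hmD)
              exact_mod_cast this
            have h6 : 0 < (ε * dg y).toNat := by
              have : (0 : ℤ) < ((ε * dg y).toNat : ℤ) := by rw [h4]; exact h1
              exact_mod_cast this
            have h3 : ε * (N - dg y) = ((m - (ε * dg y).toNat : ℕ) : ℤ) := by
              rw [mul_sub, hN, Nat.cast_sub h5, h4]
            exact ih _ (by omega) (N - dg y) h3 (b y) (hb y)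
          · apply Algebra.subset_adjoin
            exact hGF y.1 y.2
  refine ⟨G, ?_⟩
  apply le_antisymm
  · exact Algebra.adjoin_mono hGsub
  · apply Algebra.adjoin_le
    rintro a ⟨n, hn, ha⟩
    exact claim (ε * n).toNat n (Int.toNat_of_nonneg hn).symm a ha

/-- The degree-zero subring is Noetherian. -/
theorem isNoetherianRing_zero (H : ∀ I : Ideal A, I.IsHomogeneous 𝒜 → I.FG) :
    IsNoetherianRing (𝒜 0) := by
  classical
  rw [isNoetherianRing_iff_ideal_fg]
  intro J
  obtain ⟨F, hFsub, hFspan⟩ := exists_finset_span_of_homog 𝒜 H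
    ((fun j : 𝒜 0 => (j : A)) '' (J : Set (𝒜 0))) (by rintro _ ⟨j, _, rfl⟩; exact ⟨0, j.2⟩)
  have hF0 : ∀ y : F, ∃ j : 𝒜 0, j ∈ J ∧ (j : A) = y := fun y => hFsub y.2
  choose jj hjJ hjy using hF0
  refine ⟨Finset.univ.image jj, ?_⟩
  apply le_antisymm
  · rw [Submodule.span_le]
    intro j hj
    obtain ⟨y, _, rfl⟩ := Finset.mem_image.mp (Finset.mem_coe.mp hj)
    exact hjJ y
  · intro a haJ
    have hspan : (a : A) ∈ Ideal.span (Set.range (Subtype.val : F → A)) := by
      rw [range_val_finset, ← hFspan]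
      exact Ideal.subset_span ⟨a, haJ, rfl⟩
    obtain ⟨b, hb, hab⟩ := exists_homog_coeff 𝒜 (Subtype.val : F → A) (fun _ => 0)
      (fun y => by rw [← hjy y]; exact (jj y).2) a.2 hspan
    have hb0 : ∀ y, b y ∈ 𝒜 0 := fun y => by simpa using hb y
    have : a = ∑ y : F, (⟨b y, hb0 y⟩ : 𝒜 0) • jj y := by
      apply Subtype.ext
      rw [hab, AddSubmonoidClass.coe_finset_sum]
      apply Finset.sum_congr rfl
      intro y _
      rw [← hjy y]
      rfl
    rw [this]
    apply Submodule.sum_mem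
    intro y _
    apply Submodule.smul_mem
    apply Submodule.subset_span
    exact Finset.mem_coe.mpr (Finset.mem_image.mpr ⟨y, Finset.mem_univ _, rfl⟩)

end Groth.Agent.Lib.Helper18.GradedNoeth
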