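import Mathlib
import Groth.Agent.Lib.Helper18.HullB

/-!
# Gluing affine deformations along a fibre product of Artinian rings (helper18)
-/

set_option autoImplicit false
set_option linter.style.haveILetI false
set_option linter.unusedSectionVars false
universe u

open CategoryTheory CategoryTheory.Limits AlgebraicGeometry

namespace Groth.Agent.Lib.Helper18.HullC

open ArtFun ArtFun.Art Groth.Agent.Lib.Helper18.DefLam Groth.Agent.Lib.Helper18.HullB
  Groth.Agent.Lib.Helper18.HullA

variable {Λ k : Type u} [CommRing Λ] [Field k] [Algebra Λ k] {B₀ : Type u}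
  [CommRing B₀] [Algebra k B₀]

set_option maxHeartbeats 1600000 in
theorem exists_glue {B A A' A'' : Art Λ k} {p' : B ⟶ A'} {p'' : B ⟶ A''} {f' : A' ⟶ A}
    {f'' : A'' ⟶ A} (h : IsFibreProd p' p'' f' f'')
    (D' : AData A' B₀) (D'' : AData A'' B₀) (D : AData A B₀)
    (β' : D'.R →+* D.R) (β'' : D''.R →+* D.R)
    (hβ' : ∀ a, β' (algebraMap A' D'.R a) = algebraMap A D.R (f' a))
    (hβ'' : ∀ a, β'' (algebraMap A'' D''.R a) = algebraMap A D.R (f'' a))
    (hπ' : D.π.comp β' = D'.π) (hπ'' : D.π.comp β'' = D''.π)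
    (hs : Function.Surjective β'') :
    ∃ (DN : AData B B₀), Nonempty (DefSch.Iso (DN.toDefSch.baseChange p') D'.toDefSch) ∧
      Nonempty (DefSch.Iso (DN.toDefSch.baseChange p'') D''.toDefSch) := by
  classical
  let N : Subring (D'.R × D''.R) :=
    RingHom.eqLocus (β'.comp (RingHom.fst D'.R D''.R)) (β''.comp (RingHom.snd D'.R D''.R))
  have hN : ∀ x : D'.R × D''.R, x ∈ N ↔ β' x.1 = β'' x.2 := fun x => Iff.rfl
  let toN : B →+* N :=
    RingHom.codRestrict (RingHom.prod ((algebraMap A' D'.R).comp p'.toAlgHom.toRingHom)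
      ((algebraMap A'' D''.R).comp p''.toAlgHom.toRingHom)) N (fun b => by
        rw [hN]
        change β' (algebraMap A' D'.R (p' b)) = β'' (algebraMap A'' D''.R (p'' b))
        rw [hβ', hβ'', h.w_apply])
  letI : Algebra B N := toN.toAlgebra
  let q' : N →+* D'.R := (RingHom.fst D'.R D''.R).comp N.subtype
  let q'' : N →+* D''.R := (RingHom.snd D'.R D''.R).comp N.subtype
  have hq' : ∀ b, q' (algebraMap B N b) = algebraMap A' D'.R (p'.toAlgHom.toRingHom b) :=
    fun b => rfl
  have hq'' : ∀ b, q'' (algebraMap B N b) = algebraMap A'' D''.R (p''.toAlgHom.toRingHom b) :=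
    fun b => rfl
  have hβ'r : ∀ a, β' (algebraMap A' D'.R a) = algebraMap A D.R (f'.toAlgHom.toRingHom a) := hβ'
  have hβ''r : ∀ a, β'' (algebraMap A'' D''.R a) = algebraMap A D.R (f''.toAlgHom.toRingHom a) :=
    hβ''
  -- bases
  let b₀ := Module.Basis.ofVectorSpace k B₀
  choose x' hx' using fun i => D'.h2 (b₀ i)
  have hx : ∀ i, D.π (β' (x' i)) = b₀ i := fun i => by
    rw [← hx' i, ← hπ']; rfl
  choose x'' hx'' using fun i => hs (β' (x' i))
  have hx''π : ∀ i, D''.π (x'' i) = b₀ i := fun i => by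
    rw [← hπ'']
    change D.π (β'' (x'' i)) = _
    rw [hx'', hx]
  obtain ⟨bs', hbs'⟩ := AData.exists_basis D' b₀ x' hx'
  obtain ⟨bs'', hbs''⟩ := AData.exists_basis D'' b₀ x'' hx''π
  obtain ⟨bs, hbs⟩ := AData.exists_basis D b₀ (fun i => β' (x' i)) hx
  let n : _ → N := fun i => ⟨(x' i, x'' i), (hN _).mpr (hx'' i).symm⟩
  have h1 : ∀ i, q' (n i) = bs' i := fun i => (hbs' i).symm
  have h2 : ∀ i, q'' (n i) = bs'' i := fun i => (hbs'' i).symm
  have h3 : ∀ i, β' (bs' i) = bs i := fun i => by rw [hbs', hbs]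
  have h4 : ∀ i, β'' (bs'' i) = bs i := fun i => by rw [hbs'', hbs, hx'']
  have hinj : ∀ b : B, p'.toAlgHom.toRingHom b = 0 → p''.toAlgHom.toRingHom b = 0 → b = 0 :=
    fun b e1 e2 => h.inj b 0 (e1.trans (map_zero p'.toAlgHom).symm)
      (e2.trans (map_zero p''.toAlgHom).symm)
  have hsurjFP : ∀ (a' : A') (a'' : A''), f'.toAlgHom.toRingHom a' = f''.toAlgHom.toRingHom a'' →
      ∃ b : B, p'.toAlgHom.toRingHom b = a' ∧ p''.toAlgHom.toRingHom b = a'' := h.surj
  have hli : LinearIndependent B n := by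
    rw [linearIndependent_iff]
    intro c hc
    exact coord_inj p'.toAlgHom.toRingHom p''.toAlgHom.toRingHom q' q'' hinj hq' hq'' n bs' bs''
      h1 h2 c (by rw [hc, map_zero]) (by rw [hc, map_zero])
  have hsp : ⊤ ≤ Submodule.span B (Set.range n) := by
    intro x _
    obtain ⟨c, hc1, hc2⟩ := coord_surj p'.toAlgHom.toRingHom p''.toAlgHom.toRingHom
      f'.toAlgHom.toRingHom f''.toAlgHom.toRingHom q' q'' β' β'' hinj hsurjFP hq' hq'' hβ'r hβ''r
      n bs' bs'' bs h1 h2 h3 h4 x.1.1 x.1.2 ((hN _).mp x.2)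
    have hxe : Finsupp.linearCombination B n c = x := Subtype.ext (Prod.ext hc1 hc2)
    rw [← hxe, ← Finsupp.range_linearCombination]
    exact LinearMap.mem_range_self _ _
  let bN : Module.Basis _ B N := Module.Basis.mk hli hsp
  have hbN : ∀ i, bN i = n i := fun i => Module.Basis.mk_apply hli hsp i
  haveI : Module.Free B N := Module.Free.of_basis bN
  haveI : Module.Flat B N := inferInstance
  let πN : N →+* B₀ := D'.π.comp q'
  have hπN'' : ∀ x : N, πN x = D''.π (q'' x) := by
    intro x
    change D'.π x.1.1 = D''.π x.1.2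
    rw [← hπ', ← hπ'']
    change D.π (β' x.1.1) = D.π (β'' x.1.2)
    rw [(hN _).mp x.2]
  have hA1 : ∀ b : B, πN (algebraMap B N b) = algebraMap k B₀ (B.res b) := by
    intro b
    change D'.π (algebraMap A' D'.R (p' b)) = _
    rw [D'.h1, res_app]
  have hA2 : Function.Surjective πN := by
    intro y
    obtain ⟨r', hr'⟩ := D'.h2 y
    obtain ⟨r'', hr''⟩ := hs (β' r')
    exact ⟨⟨(r', r''), (hN _).mpr hr''.symm⟩, hr'⟩
  have hA3 : RingHom.ker πN = (IsLocalRing.maximalIdeal B).map (algebraMap B N) := by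
    apply le_antisymm
    · intro x hx
      rw [RingHom.mem_ker] at hx
      have hxe : x = Finsupp.linearCombination B bN (bN.repr x) :=
        (bN.linearCombination_repr x).symm
      have h5 : πN (Finsupp.linearCombination B bN (bN.repr x)) =
          Finsupp.linearCombination k (fun i => πN (bN i))
            ((bN.repr x).mapRange B.res.toRingHom (map_zero _)) :=
        map_linearCombination B.res.toRingHom πN hA1 bN (bN.repr x)
      have h6 : (fun i => πN (bN i)) = b₀ := by
        funext i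
        rw [hbN]
        exact hx' i
      rw [← hxe, hx, h6] at h5
      have h7 : (bN.repr x).mapRange B.res.toRingHom (map_zero _) = 0 :=
        b₀.linearIndependent (h5.symm.trans (map_zero _).symm)
      have h8 : ∀ i, bN.repr x i ∈ IsLocalRing.maximalIdeal B := by
        intro i
        rw [mem_maximalIdeal_iff]
        have := DFunLike.congr_fun h7 i
        rwa [Finsupp.mapRange_apply, Finsupp.zero_apply] at this
      rw [hxe, Finsupp.linearCombination_apply, Finsupp.sum]
      refine Ideal.sum_mem _ fun i _ => ?_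
      rw [Algebra.smul_def]
      exact Ideal.mul_mem_right _ _ (Ideal.mem_map_of_mem _ (h8 i))
    · rw [Ideal.map_le_iff_le_comap]
      intro m hm
      rw [Ideal.mem_comap, RingHom.mem_ker, hA1, (mem_maximalIdeal_iff B m).mp hm, map_zero]
  let DN : AData B B₀ := ⟨N, πN, hA1, hA2, hA3⟩
  have hP' := isPushout_of_basis p'.toAlgHom.toRingHom q' hq' bN bs'
    (fun i => by rw [hbN]; exact h1 i)
  have hP'' := isPushout_of_basis p''.toAlgHom.toRingHom q'' hq'' bN bs''
    (fun i => by rw [hbN]; exact h2 i)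
  refine ⟨DN, bc_iso_of_isPushout p' DN D' q' hP' rfl,
    bc_iso_of_isPushout p'' DN D'' q'' hP'' ?_⟩
  ext x
  exact (hπN'' x).symm

end Groth.Agent.Lib.Helper18.HullC
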