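import Mathlib
import Groth.Prelude.Def_ArtFun5
import Groth.Agent.Lib.Helper18.HullC

/-!
# `H0`, `S1`, `Heps` for the deformation functor of an affine scheme (helper18)
-/

set_option autoImplicit false
set_option linter.style.haveILetI false
set_option linter.unusedSectionVars false
universe u

open CategoryTheory CategoryTheory.Limits AlgebraicGeometry

namespace Groth.Agent.Lib.Helper18.HullD

open ArtFun ArtFun.Art Groth.Agent.Lib.Helper18.DefLam Groth.Agent.Lib.Helper18.HullB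
  Groth.Agent.Lib.Helper18.HullA Groth.Agent.Lib.Helper18.HullC

variable {Λ k : Type u} [CommRing Λ] [Field k] [Algebra Λ k] {B₀ : Type u}
  [CommRing B₀] [Algebra k B₀]

variable (Λ k B₀) in
/-- the deformation functor of `Spec B₀`. -/
noncomputable abbrev FF : Art Λ k ⥤ Type (u + 1) :=
  defFunctor (Λ := Λ) (Spec (CommRingCat.of B₀)) (Spec.map (CommRingCat.ofHom (algebraMap k B₀)))

theorem cl_eq_iff {A : Art Λ k} {ξ ξ' : DefSch (Spec (CommRingCat.of B₀))
    (Spec.map (CommRingCat.ofHom (algebraMap k B₀))) A} :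
    (ξ.cl : (FF Λ k B₀).obj A) = ξ'.cl ↔ Nonempty (DefSch.Iso ξ ξ') :=
  ⟨fun h => Quotient.exact h, fun h => Quotient.sound h⟩

theorem exists_adata_cl {A : Art Λ k} (ξ : (FF Λ k B₀).obj A) :
    ∃ D : AData A B₀, ξ = D.toDefSch.cl := by
  obtain ⟨ξr, rfl⟩ : ∃ ξr : DefSch (Spec (CommRingCat.of B₀))
      (Spec.map (CommRingCat.ofHom (algebraMap k B₀))) A, (ξr.cl : (FF Λ k B₀).obj A) = ξ :=
    Quotient.exists_rep ξ
  obtain ⟨D, ⟨eD⟩⟩ := exists_adata ξr
  exact ⟨D, (cl_eq_iff.mpr ⟨eD⟩).symm⟩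

theorem cmp_surjective {B A A' A'' : Art Λ k} {p' : B ⟶ A'} {p'' : B ⟶ A''} {f' : A' ⟶ A}
    {f'' : A'' ⟶ A} (h : IsFibreProd p' p'' f' f'') (hf'' : Function.Surjective f'') :
    Function.Surjective (cmp (FF Λ k B₀) h) := by
  rintro ⟨⟨ξ', ξ''⟩, hx⟩
  obtain ⟨D', rfl⟩ := exists_adata_cl ξ'
  obtain ⟨D'', rfl⟩ := exists_adata_cl ξ''
  have hx' : ((D'.toDefSch.baseChange f').cl : (FF Λ k B₀).obj A) =
      (D''.toDefSch.baseChange f'').cl := hx
  obtain ⟨D, ⟨eD⟩⟩ := exists_adata (D''.toDefSch.baseChange f'')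
  obtain ⟨e1⟩ := cl_eq_iff.mp hx'
  obtain ⟨β'', hβ'', hπ'', hP''⟩ := exists_hom_of_bc_iso f'' D'' D ⟨eD.symm⟩
  obtain ⟨β', hβ', hπ', -⟩ := exists_hom_of_bc_iso f' D' D ⟨e1.trans eD.symm⟩
  have hs : Function.Surjective β'' :=
    (surj_ker_of_isPushout f''.toAlgHom.toRingHom hf'' _ _ β'' hP'').1
  obtain ⟨DN, i', i''⟩ := exists_glue h D' D'' D β' β'' hβ' hβ'' hπ' hπ'' hs
  refine ⟨DN.toDefSch.cl, ?_⟩
  apply Subtype.ext
  apply Prod.ext
  · exact cl_eq_iff.mpr i'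
  · exact cl_eq_iff.mpr i''

theorem s1 : S1 (FF Λ k B₀) := fun _ _ _ _ _ _ _ _ h hf'' => cmp_surjective h hf''

theorem h0 : H0 (FF Λ k B₀) := by
  constructor
  · have hflat : Flat (Spec.map (CommRingCat.ofHom (algebraMap k B₀))) :=
      Flat.SpecMap_iff.mpr ((RingHom.flat_algebraMap_iff (R := k) (S := B₀)).mpr inferInstance)
    exact ⟨(DefSch.self _ _ hflat).cl⟩
  · refine ⟨fun z₁ z₂ => ?_⟩
    obtain ⟨D₁, rfl⟩ := exists_adata_cl z₁
    obtain ⟨D₂, rfl⟩ := exists_adata_cl z₂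
    rw [cl_eq_iff, iso_iff]
    have hmax : ∀ a : (base Λ k), a ∈ IsLocalRing.maximalIdeal (base Λ k) → a = 0 := by
      intro a ha
      rw [mem_maximalIdeal_iff] at ha
      exact ha
    have hbij : ∀ D : AData (base Λ k) B₀, Function.Bijective D.π := by
      intro D
      refine ⟨?_, D.h2⟩
      rw [injective_iff_map_eq_zero]
      intro x hx
      have h1 : x ∈ (IsLocalRing.maximalIdeal (base Λ k)).map (algebraMap (base Λ k) D.R) := by
        rw [← D.h3]; exact hx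
      have h2 : (IsLocalRing.maximalIdeal (base Λ k)).map (algebraMap (base Λ k) D.R) = ⊥ := by
        rw [eq_bot_iff, Ideal.map_le_iff_le_comap]
        intro a ha
        rw [hmax a ha]
        exact Ideal.zero_mem _
      rw [h2] at h1
      exact h1
    let e₁ := RingEquiv.ofBijective D₁.π (hbij D₁)
    let e₂ := RingEquiv.ofBijective D₂.π (hbij D₂)
    have hθ : ∀ r, D₂.π ((e₁.trans e₂.symm) r) = D₁.π r := by
      intro r
      change e₂ (e₂.symm (e₁ r)) = _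
      rw [RingEquiv.apply_symm_apply]
      rfl
    refine ⟨e₁.trans e₂.symm, ?_, hθ⟩
    intro a
    apply (hbij D₂).1
    rw [hθ, D₁.h1, D₂.h1]

end Groth.Agent.Lib.Helper18.HullD
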