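import Mathlib
import Groth.Agent.Lib.Helper18.HullD

/-!
# `Heps` for the deformation functor of an affine scheme (helper18)
-/

set_option autoImplicit false
set_option linter.style.haveILetI false
set_option linter.unusedSectionVars false
universe u

open CategoryTheory CategoryTheory.Limits AlgebraicGeometry

namespace Groth.Agent.Lib.Helper18.HullE

open ArtFun ArtFun.Art Groth.Agent.Lib.Helper18.DefLam Groth.Agent.Lib.Helper18.HullB
  Groth.Agent.Lib.Helper18.HullA Groth.Agent.Lib.Helper18.HullC Groth.Agent.Lib.Helper18.HullD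

variable {Λ k : Type u} [CommRing Λ] [Field k] [Algebra Λ k] {B₀ : Type u}
  [CommRing B₀] [Algebra k B₀]

set_option maxHeartbeats 1600000 in
/-- a deformation over a fibre product over `k` is the fibre product of its restrictions. -/
theorem fp_bij {B A' A'' : Art Λ k} {p' : B ⟶ A'} {p'' : B ⟶ A''}
    (h : IsFibreProd p' p'' (toBase A') (toBase A''))
    (E : AData B B₀) (D' : AData A' B₀) (D'' : AData A'' B₀)
    (q' : E.R →+* D'.R) (q'' : E.R →+* D''.R)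
    (hq' : ∀ b, q' (algebraMap B E.R b) = algebraMap A' D'.R (p' b))
    (hq'' : ∀ b, q'' (algebraMap B E.R b) = algebraMap A'' D''.R (p'' b))
    (hπ' : D'.π.comp q' = E.π) (hπ'' : D''.π.comp q'' = E.π) :
    (∀ x, q' x = 0 → q'' x = 0 → x = 0) ∧
      (∀ r' r'', D'.π r' = D''.π r'' → ∃ x, q' x = r' ∧ q'' x = r'') := by
  classical
  let b₀ := Module.Basis.ofVectorSpace k B₀
  choose n hn using fun i => E.h2 (b₀ i)
  obtain ⟨bsE, hbsE⟩ := AData.exists_basis E b₀ n hn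
  have hn' : ∀ i, D'.π (q' (n i)) = b₀ i := fun i => by
    rw [← hn i, ← hπ']; rfl
  have hn'' : ∀ i, D''.π (q'' (n i)) = b₀ i := fun i => by
    rw [← hn i, ← hπ'']; rfl
  obtain ⟨bs', hbs'⟩ := AData.exists_basis D' b₀ (fun i => q' (n i)) hn'
  obtain ⟨bs'', hbs''⟩ := AData.exists_basis D'' b₀ (fun i => q'' (n i)) hn''
  have h1 : ∀ i, q' (bsE i) = bs' i := fun i => by rw [hbsE, hbs']
  have h2 : ∀ i, q'' (bsE i) = bs'' i := fun i => by rw [hbsE, hbs'']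
  have h3 : ∀ i, D'.π (bs' i) = b₀ i := fun i => by rw [hbs', hn']
  have h4 : ∀ i, D''.π (bs'' i) = b₀ i := fun i => by rw [hbs'', hn'']
  have hinj : ∀ b : B, p'.toAlgHom.toRingHom b = 0 → p''.toAlgHom.toRingHom b = 0 → b = 0 :=
    fun b e1 e2 => h.inj b 0 (e1.trans (map_zero p'.toAlgHom).symm)
      (e2.trans (map_zero p''.toAlgHom).symm)
  have hsurjFP : ∀ (a' : A') (a'' : A''), A'.res.toRingHom a' = A''.res.toRingHom a'' →
      ∃ b : B, p'.toAlgHom.toRingHom b = a' ∧ p''.toAlgHom.toRingHom b = a'' := h.surj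
  constructor
  · intro x hx' hx''
    have hxe : x = Finsupp.linearCombination B bsE (bsE.repr x) :=
      (bsE.linearCombination_repr x).symm
    have hc := coord_inj p'.toAlgHom.toRingHom p''.toAlgHom.toRingHom q' q'' hinj hq' hq''
      bsE bs' bs'' h1 h2 (bsE.repr x) (by rw [← hxe]; exact hx') (by rw [← hxe]; exact hx'')
    rw [hxe, hc, map_zero]
  · intro r' r'' hr
    obtain ⟨c, hc1, hc2⟩ := coord_surj p'.toAlgHom.toRingHom p''.toAlgHom.toRingHom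
      A'.res.toRingHom A''.res.toRingHom q' q'' D'.π D''.π hinj hsurjFP hq' hq'' D'.h1 D''.h1
      bsE bs' bs'' b₀ h1 h2 h3 h4 r' r'' hr
    exact ⟨_, hc1, hc2⟩

set_option maxHeartbeats 1600000 in
theorem cmp_injective {B A' A'' : Art Λ k} {p' : B ⟶ A'} {p'' : B ⟶ A''}
    (h : IsFibreProd p' p'' (toBase A') (toBase A'')) :
    Function.Injective (cmp (FF Λ k B₀) h) := by
  intro z₁ z₂ hz
  obtain ⟨E₁, rfl⟩ := exists_adata_cl z₁
  obtain ⟨E₂, rfl⟩ := exists_adata_cl z₂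
  have hz' : ((E₁.toDefSch.baseChange p').cl : (FF Λ k B₀).obj A') =
      (E₂.toDefSch.baseChange p').cl := congrArg (fun t => t.1.1) hz
  have hz'' : ((E₁.toDefSch.baseChange p'').cl : (FF Λ k B₀).obj A'') =
      (E₂.toDefSch.baseChange p'').cl := congrArg (fun t => t.1.2) hz
  obtain ⟨D', ⟨eD'⟩⟩ := exists_adata (E₁.toDefSch.baseChange p')
  obtain ⟨D'', ⟨eD''⟩⟩ := exists_adata (E₁.toDefSch.baseChange p'')
  obtain ⟨e'⟩ := cl_eq_iff.mp hz'
  obtain ⟨e''⟩ := cl_eq_iff.mp hz''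
  obtain ⟨q'₁, hq'₁, hπ'₁, -⟩ := exists_hom_of_bc_iso p' E₁ D' ⟨eD'.symm⟩
  obtain ⟨q''₁, hq''₁, hπ''₁, -⟩ := exists_hom_of_bc_iso p'' E₁ D'' ⟨eD''.symm⟩
  obtain ⟨q'₂, hq'₂, hπ'₂, -⟩ := exists_hom_of_bc_iso p' E₂ D' ⟨e'.symm.trans eD'.symm⟩
  obtain ⟨q''₂, hq''₂, hπ''₂, -⟩ := exists_hom_of_bc_iso p'' E₂ D'' ⟨e''.symm.trans eD''.symm⟩
  obtain ⟨inj₁, surj₁⟩ := fp_bij h E₁ D' D'' q'₁ q''₁ hq'₁ hq''₁ hπ'₁ hπ''₁
  obtain ⟨inj₂, surj₂⟩ := fp_bij h E₂ D' D'' q'₂ q''₂ hq'₂ hq''₂ hπ'₂ hπ''₂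
  let FP : Subring (D'.R × D''.R) :=
    RingHom.eqLocus (D'.π.comp (RingHom.fst D'.R D''.R)) (D''.π.comp (RingHom.snd D'.R D''.R))
  have hFP : ∀ x : D'.R × D''.R, x ∈ FP ↔ D'.π x.1 = D''.π x.2 := fun x => Iff.rfl
  have hmem₁ : ∀ x, (RingHom.prod q'₁ q''₁) x ∈ FP := fun x => by
    rw [hFP]
    change (D'.π.comp q'₁) x = (D''.π.comp q''₁) x
    rw [hπ'₁, hπ''₁]
  have hmem₂ : ∀ x, (RingHom.prod q'₂ q''₂) x ∈ FP := fun x => by
    rw [hFP]
    change (D'.π.comp q'₂) x = (D''.π.comp q''₂) x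
    rw [hπ'₂, hπ''₂]
  let g₁ : E₁.R →+* FP := RingHom.codRestrict (RingHom.prod q'₁ q''₁) FP hmem₁
  let g₂ : E₂.R →+* FP := RingHom.codRestrict (RingHom.prod q'₂ q''₂) FP hmem₂
  have hg₁ : Function.Bijective g₁ := by
    constructor
    · rw [injective_iff_map_eq_zero]
      intro x hx
      have h1 : q'₁ x = 0 := congrArg (fun t : FP => t.1.1) hx
      have h2 : q''₁ x = 0 := congrArg (fun t : FP => t.1.2) hx
      exact inj₁ x h1 h2
    · rintro ⟨⟨r', r''⟩, hr⟩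
      obtain ⟨x, hx1, hx2⟩ := surj₁ r' r'' ((hFP _).mp hr)
      exact ⟨x, Subtype.ext (Prod.ext hx1 hx2)⟩
  have hg₂ : Function.Bijective g₂ := by
    constructor
    · rw [injective_iff_map_eq_zero]
      intro x hx
      have h1 : q'₂ x = 0 := congrArg (fun t : FP => t.1.1) hx
      have h2 : q''₂ x = 0 := congrArg (fun t : FP => t.1.2) hx
      exact inj₂ x h1 h2
    · rintro ⟨⟨r', r''⟩, hr⟩
      obtain ⟨x, hx1, hx2⟩ := surj₂ r' r'' ((hFP _).mp hr)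
      exact ⟨x, Subtype.ext (Prod.ext hx1 hx2)⟩
  let e₁ := RingEquiv.ofBijective g₁ hg₁
  let e₂ := RingEquiv.ofBijective g₂ hg₂
  have key : ∀ r, g₂ ((e₁.trans e₂.symm) r) = g₁ r := by
    intro r
    change e₂ (e₂.symm (e₁ r)) = _
    rw [RingEquiv.apply_symm_apply]
    rfl
  rw [cl_eq_iff, iso_iff]
  refine ⟨e₁.trans e₂.symm, ?_, ?_⟩
  · intro a
    apply hg₂.1
    rw [key]
    apply Subtype.ext
    apply Prod.ext
    · change q'₁ _ = q'₂ _
      rw [hq'₁, hq'₂]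
    · change q''₁ _ = q''₂ _
      rw [hq''₁, hq''₂]
  · intro r
    have h1 : q'₂ ((e₁.trans e₂.symm) r) = q'₁ r := congrArg (fun t : FP => t.1.1) (key r)
    rw [← hπ'₂, ← hπ'₁]
    change D'.π (q'₂ _) = D'.π (q'₁ r)
    rw [h1]

theorem heps : Heps (FF Λ k B₀) := by
  intro B A' p' p'' h
  exact ⟨cmp_injective h, cmp_surjective h (dual Λ k).res_surjective⟩

end Groth.Agent.Lib.Helper18.HullE
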