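import Mathlib
import Groth.Prelude.Def_Exal
import Groth.Agent.Lib.Helper18.HullE
import Groth.Agent.Lib.Helper19.ArtFunTangent

/-!
# First order deformations of an affine scheme from algebra extensions (helper18)

An extension `X` of `B₀` by `B₀ ⊗[k] V` (as `k`-algebras) is a deformation of `Spec B₀` over
`k ⊕ V`.
-/

set_option autoImplicit false
set_option linter.style.haveILetI false
set_option linter.unusedSectionVars false
universe u

open CategoryTheory CategoryTheory.Limits AlgebraicGeometry TensorProduct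

namespace Groth.Agent.Lib.Helper18.HullF

open ArtFun ArtFun.Art Groth.Agent.Lib.Helper18.DefLam Groth.Agent.Lib.Helper18.HullB
  Groth.Agent.Lib.Helper18.HullA Groth.Agent.Lib.Helper19.ArtFunTangent

variable {Λ k : Type u} [CommRing Λ] [Field k] [Algebra Λ k] {B₀ : Type u}
  [CommRing B₀] [Algebra k B₀]

variable {V : Type u} [AddCommGroup V] [Module k V] [Module kᵐᵒᵖ V] [SMulCommClass k kᵐᵒᵖ V]
  [IsCentralScalar k V] [Module Λ V] [IsScalarTower Λ k V] [IsScalarTower Λ kᵐᵒᵖ V]
  [Module.Finite k V]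

variable (X : Exal.Ext k B₀ (B₀ ⊗[k] V))

lemma proj_incl (z : B₀ ⊗[k] V) : X.proj (X.incl z) = 0 :=
  (X.isExtension.exact _).mpr ⟨z, rfl⟩

lemma incl_mul_incl (z z' : B₀ ⊗[k] V) : X.incl z * X.incl z' = 0 := by
  rw [X.isExtension.mul_incl, proj_incl, zero_smul, map_zero]

lemma algebraMap_mul_incl (c : k) (z : B₀ ⊗[k] V) :
    algebraMap k X.E c * X.incl z = X.incl (c • z) := by
  rw [X.isExtension.mul_incl, AlgHom.commutes, algebraMap_smul]

/-- the structure map `k ⊕ V → X.E`. -/
noncomputable def toE : TrivSqZeroExt k V →+* X.E where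
  toFun x := algebraMap k X.E x.fst + X.incl ((1 : B₀) ⊗ₜ[k] x.snd)
  map_one' := by
    rw [TrivSqZeroExt.fst_one, TrivSqZeroExt.snd_one, tmul_zero, map_zero, add_zero, map_one]
  map_mul' x y := by
    rw [TrivSqZeroExt.fst_mul, TrivSqZeroExt.snd_mul, op_smul_eq_smul, tmul_add, map_add,
      map_mul]
    have e1 := algebraMap_mul_incl X x.fst ((1 : B₀) ⊗ₜ[k] y.snd)
    have e2 := algebraMap_mul_incl X y.fst ((1 : B₀) ⊗ₜ[k] x.snd)
    have e3 := incl_mul_incl X ((1 : B₀) ⊗ₜ[k] x.snd) ((1 : B₀) ⊗ₜ[k] y.snd)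
    rw [← tmul_smul] at e1 e2
    rw [← e1, ← e2]
    linear_combination (-1 : X.E) * e3
  map_zero' := by
    rw [TrivSqZeroExt.fst_zero, TrivSqZeroExt.snd_zero, tmul_zero, map_zero, map_zero, add_zero]
  map_add' x y := by
    rw [TrivSqZeroExt.fst_add, TrivSqZeroExt.snd_add, tmul_add, map_add, map_add]
    abel

lemma toE_apply (x : TrivSqZeroExt k V) :
    toE X x = algebraMap k X.E x.fst + X.incl ((1 : B₀) ⊗ₜ[k] x.snd) := rfl

lemma proj_toE (x : TrivSqZeroExt k V) : X.proj (toE X x) = algebraMap k B₀ x.fst := by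
  rw [toE_apply, map_add, proj_incl, add_zero, AlgHom.commutes]

lemma toE_mul (x : TrivSqZeroExt k V) (y : X.E) :
    toE X x * y = algebraMap k X.E x.fst * y + X.incl (X.proj y ⊗ₜ[k] x.snd) := by
  rw [toE_apply, add_mul, mul_comm (X.incl _) y, X.isExtension.mul_incl, smul_tmul', smul_eq_mul,
    mul_one]

variable {ι : Type u} (b : Module.Basis ι k B₀) (e : ι → X.E) (he : ∀ i, X.proj (e i) = b i)

include he in
lemma sum_toE_mul (s : Finset ι) (g : ι → TrivSqZeroExt k V) :
    ∑ i ∈ s, toE X (g i) * e i = ∑ i ∈ s, algebraMap k X.E (g i).fst * e i +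
      X.incl (∑ i ∈ s, b i ⊗ₜ[k] (g i).snd) := by
  rw [map_sum, ← Finset.sum_add_distrib]
  exact Finset.sum_congr rfl fun i _ => by rw [toE_mul, he]

include he in
lemma sum_eq_zero (s : Finset ι) (g : ι → TrivSqZeroExt k V)
    (h : ∑ i ∈ s, toE X (g i) * e i = 0) : ∀ i ∈ s, g i = 0 := by
  classical
  rw [sum_toE_mul X b e he] at h
  have h1 := congrArg X.proj h
  rw [map_add, proj_incl, add_zero, map_sum, map_zero] at h1
  have h2 : ∑ i ∈ s, (g i).fst • b i = 0 := by
    rw [← h1]
    exact Finset.sum_congr rfl fun i _ => by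
      rw [map_mul, AlgHom.commutes, he, Algebra.smul_def]
  have h3 := linearIndependent_iff'.mp b.linearIndependent s (fun i => (g i).fst) h2
  have h4 : ∑ i ∈ s, algebraMap k X.E (g i).fst * e i = 0 :=
    Finset.sum_eq_zero fun i hi => by rw [h3 i hi, map_zero, zero_mul]
  rw [h4, zero_add] at h
  have h5 : ∑ i ∈ s, b i ⊗ₜ[k] (g i).snd = 0 :=
    X.isExtension.incl_injective (h.trans (map_zero _).symm)
  intro j hj
  have h6 := congrArg (fun z => TensorProduct.equivFinsuppOfBasisLeft b z j) h5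
  simp only [map_sum, Finsupp.coe_finset_sum, Finset.sum_apply,
    TensorProduct.equivFinsuppOfBasisLeft_apply_tmul_apply, Module.Basis.repr_self,
    map_zero, Finsupp.coe_zero, Pi.zero_apply] at h6
  have h7 : ∑ i ∈ s, (Finsupp.single i (1 : k)) j • (g i).snd = (g j).snd := by
    rw [Finset.sum_eq_single j]
    · rw [Finsupp.single_eq_same, one_smul]
    · intro i _ hij
      rw [Finsupp.single_eq_of_ne (by exact fun h => hij h.symm), zero_smul]
    · intro hj'; exact absurd hj hj'
  rw [h7] at h6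
  exact TrivSqZeroExt.ext (h3 j hj) h6

include he in
lemma exists_sum (x : X.E) : ∃ (s : Finset ι) (g : ι → TrivSqZeroExt k V),
    x = ∑ i ∈ s, toE X (g i) * e i := by
  classical
  set a := b.repr (X.proj x) with ha
  have hx := b.linearCombination_repr (X.proj x)
  rw [Finsupp.linearCombination_apply, Finsupp.sum] at hx
  have h0 : X.proj (x - ∑ i ∈ a.support, algebraMap k X.E (a i) * e i) = 0 := by
    rw [map_sub, map_sum, sub_eq_zero]
    conv_lhs => rw [← hx]
    exact Finset.sum_congr rfl fun i _ => by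
      rw [map_mul, AlgHom.commutes, he, Algebra.smul_def]
  obtain ⟨c, hc⟩ := TensorProduct.eq_repr_basis_left b (X.kerLift _ h0)
  have h1 := X.incl_kerLift _ h0
  rw [← hc, Finsupp.sum] at h1
  refine ⟨a.support ∪ c.support, fun i => (a i, c i), ?_⟩
  rw [sum_toE_mul X b e he]
  have e1 : ∑ i ∈ a.support ∪ c.support, algebraMap k X.E (a i) * e i =
      ∑ i ∈ a.support, algebraMap k X.E (a i) * e i := by
    symm
    apply Finset.sum_subset Finset.subset_union_left
    intro i _ hi
    rw [Finsupp.notMem_support_iff.mp hi, map_zero, zero_mul]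
  have e2 : ∑ i ∈ a.support ∪ c.support, b i ⊗ₜ[k] c i = ∑ i ∈ c.support, b i ⊗ₜ[k] c i := by
    symm
    apply Finset.sum_subset Finset.subset_union_right
    intro i _ hi
    rw [Finsupp.notMem_support_iff.mp hi, tmul_zero]
  change x = ∑ i ∈ a.support ∪ c.support, algebraMap k X.E (a i) * e i +
    X.incl (∑ i ∈ a.support ∪ c.support, b i ⊗ₜ[k] c i)
  rw [e1, e2, h1]
  abel

/-- `X.E` is free over `k ⊕ V`. -/
theorem free_toE : @Module.Free (TrivSqZeroExt k V) X.E _ _ (toE X).toAlgebra.toModule := by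
  classical
  letI : Algebra (TrivSqZeroExt k V) X.E := (toE X).toAlgebra
  let b := Module.Basis.ofVectorSpace k B₀
  choose e he using fun i => X.isExtension.proj_surjective (b i)
  have hli : LinearIndependent (TrivSqZeroExt k V) e := by
    rw [linearIndependent_iff']
    intro s g h i hi
    exact sum_eq_zero X b e he s g h i hi
  have hsp : ⊤ ≤ Submodule.span (TrivSqZeroExt k V) (Set.range e) := by
    intro x _
    obtain ⟨s, g, rfl⟩ := exists_sum X b e he x
    exact Submodule.sum_mem _ fun i _ =>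
      Submodule.smul_mem _ (g i) (Submodule.subset_span ⟨i, rfl⟩)
  exact Module.Free.of_basis (Module.Basis.mk hli hsp)

variable (Λ) in
/-- the deformation over `k ⊕ V` attached to an extension of `B₀` by `B₀ ⊗ V`. -/
noncomputable def toAData : AData (tsz Λ k V) B₀ where
  R := X.E
  cr := inferInstance
  alg := (toE X).toAlgebra
  flat := by
    haveI := free_toE X
    exact @Module.Flat.of_free (TrivSqZeroExt k V) X.E _ _ (toE X).toAlgebra.toModule _
  π := X.proj.toRingHom
  h1 := fun a => proj_toE X a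
  h2 := X.isExtension.proj_surjective
  h3 := by
    classical
    letI : Algebra (TrivSqZeroExt k V) X.E := (toE X).toAlgebra
    apply le_antisymm
    · intro x hx
      have hx' : X.proj x = 0 := hx
      let b := Module.Basis.ofVectorSpace k B₀
      choose e he using fun i => X.isExtension.proj_surjective (b i)
      obtain ⟨c, hc⟩ := TensorProduct.eq_repr_basis_left b (X.kerLift _ hx')
      have h1 := X.incl_kerLift _ hx'
      rw [← hc, Finsupp.sum, map_sum] at h1
      rw [← h1]
      refine Ideal.sum_mem _ fun i _ => ?_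
      have h2 : X.incl (b i ⊗ₜ[k] c i) = toE X (TrivSqZeroExt.inr (c i)) * e i := by
        rw [toE_mul, TrivSqZeroExt.fst_inr, map_zero, zero_mul, zero_add, TrivSqZeroExt.snd_inr,
          he]
      rw [h2]
      refine Ideal.mul_mem_right _ _ (Ideal.mem_map_of_mem _ ?_)
      rw [mem_maximalIdeal_iff]
      rfl
    · rw [Ideal.map_le_iff_le_comap]
      intro a ha
      rw [mem_maximalIdeal_iff] at ha
      rw [Ideal.mem_comap, RingHom.mem_ker]
      change X.proj (toE X a) = 0
      rw [proj_toE]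
      have ha' : a.fst = 0 := ha
      rw [ha', map_zero]

section BC

variable {W : Type u} [AddCommGroup W] [Module k W] [Module kᵐᵒᵖ W] [SMulCommClass k kᵐᵒᵖ W]
  [IsCentralScalar k W] [Module Λ W] [IsScalarTower Λ k W] [IsScalarTower Λ kᵐᵒᵖ W]
  [Module.Finite k W]

/-- base change of the deformation attached to an extension along `k ⊕ V → k ⊕ W`. -/
theorem bc_iso (Y : Exal.Ext k B₀ (B₀ ⊗[k] W)) (l : V →ₗ[k] W) (ψ : X.E →+* Y.E)
    (hψk : ∀ c : k, ψ (algebraMap k X.E c) = algebraMap k Y.E c)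
    (hψp : ∀ x, Y.proj (ψ x) = X.proj x)
    (hψi : ∀ z, ψ (X.incl z) = Y.incl (l.lTensor B₀ z)) :
    Nonempty (DefSch.Iso ((toAData Λ X).toDefSch.baseChange (tszHom l))
      (toAData Λ Y).toDefSch) := by
  classical
  let ψ' : (toAData Λ X).R →+* (toAData Λ Y).R := ψ
  have hcomm : ∀ a, ψ' (algebraMap (tsz Λ k V) (toAData Λ X).R a) =
      algebraMap (tsz Λ k W) (toAData Λ Y).R ((tszHom l : tsz Λ k V ⟶ tsz Λ k W) a) := by
    intro a
    change ψ (toE X a) = toE Y (a.fst, l a.snd)
    rw [toE_apply, toE_apply, map_add, hψk, hψi, LinearMap.lTensor_tmul]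
    rfl
  let b := Module.Basis.ofVectorSpace k B₀
  have hsurj : Function.Surjective (toAData Λ X).π := X.isExtension.proj_surjective
  choose e he using fun i => hsurj (b i)
  obtain ⟨bX, hbX⟩ := AData.exists_basis (toAData Λ X) b e he
  obtain ⟨bY, hbY⟩ := AData.exists_basis (toAData Λ Y) b (fun i => ψ' (e i))
    (fun i => (hψp (e i)).trans (he i))
  have hP := isPushout_of_basis (tszHom l : tsz Λ k V ⟶ tsz Λ k W).toAlgHom.toRingHom ψ' hcomm
    bX bY (fun i => by rw [hbX, hbY])
  exact bc_iso_of_isPushout (tszHom l) (toAData Λ X) (toAData Λ Y) ψ' hP (RingHom.ext hψp)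

end BC

end Groth.Agent.Lib.Helper18.HullF
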