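import Mathlib
import Groth.Agent.Lib.Helper18.HullF

/-!
# Every first order deformation of an affine scheme comes from an algebra extension (helper18)
-/

set_option autoImplicit false
set_option linter.style.haveILetI false
set_option linter.unusedSectionVars false
universe u

open CategoryTheory CategoryTheory.Limits AlgebraicGeometry TensorProduct

namespace Groth.Agent.Lib.Helper18.HullG

open ArtFun ArtFun.Art Groth.Agent.Lib.Helper18.DefLam Groth.Agent.Lib.Helper18.HullB
  Groth.Agent.Lib.Helper18.HullA Groth.Agent.Lib.Helper19.ArtFunTangent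

variable {Λ k : Type u} [CommRing Λ] [Field k] [Algebra Λ k] {B₀ : Type u}
  [CommRing B₀] [Algebra k B₀]

variable (Λ k) in
/-- `ε`-multiples, typed in the object. -/
def dinr (c : k) : (tsz Λ k k) := (TrivSqZeroExt.inr c : TrivSqZeroExt k k)

variable (Λ k) in
/-- constants, typed in the object. -/
def dinl (c : k) : (tsz Λ k k) := (TrivSqZeroExt.inl c : TrivSqZeroExt k k)

/-- first component -/
def dfst (m : (tsz Λ k k)) : k := TrivSqZeroExt.fst (show TrivSqZeroExt k k from m)

/-- second component -/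
def dsnd (m : (tsz Λ k k)) : k := TrivSqZeroExt.snd (show TrivSqZeroExt k k from m)

lemma dinr_one_mul (m : (tsz Λ k k)) : dinr Λ k 1 * m = dinr Λ k (dfst m) := by
  apply TrivSqZeroExt.ext
  · change (0 : k) * _ = 0
    exact zero_mul _
  · change (0 : k) • TrivSqZeroExt.snd (show TrivSqZeroExt k k from m) +
      MulOpposite.op (TrivSqZeroExt.fst (show TrivSqZeroExt k k from m)) • (1 : k) = _
    rw [zero_smul, zero_add, op_smul_eq_smul, smul_eq_mul, mul_one]
    rfl

lemma dinr_zero : dinr Λ k 0 = 0 := TrivSqZeroExt.inr_zero k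

lemma res_eq (m : (tsz Λ k k)) : (tsz Λ k k).res m = dfst m := rfl

lemma mem_max_iff (m : (tsz Λ k k)) : m ∈ IsLocalRing.maximalIdeal (tsz Λ k k) ↔ dfst m = 0 :=
  mem_maximalIdeal_iff (tsz Λ k k) m

lemma eq_dinr_of_dfst (m : (tsz Λ k k)) (h : dfst m = 0) : m = dinr Λ k (dsnd m) := by
  apply TrivSqZeroExt.ext
  · exact h
  · rfl

lemma dinl_add_dinr (m : (tsz Λ k k)) : dinl Λ k (dfst m) + dinr Λ k (dsnd m) = m :=
  TrivSqZeroExt.inl_fst_add_inr_snd_eq (show TrivSqZeroExt k k from m)

lemma dfst_dinl (c : k) : dfst (dinl Λ k c) = c := rfl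

lemma dinr_one_mul_dinl (c : k) : dinr Λ k 1 * dinl Λ k c = dinr Λ k c := by
  rw [dinr_one_mul, dfst_dinl]

variable (D : AData (tsz Λ k k) B₀)

/-- the image of `ε`. -/
noncomputable def eps : D.R := algebraMap (tsz Λ k k) D.R (dinr Λ k 1)

lemma pi_surjInv (b : B₀) : D.π (Function.surjInv D.h2 b) = b := Function.surjInv_eq D.h2 b

lemma eps_mul_algebraMap (m : (tsz Λ k k)) :
    eps D * algebraMap (tsz Λ k k) D.R m = algebraMap (tsz Λ k k) D.R (dinr Λ k (dfst m)) := by
  unfold eps
  rw [← map_mul, dinr_one_mul]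

lemma eps_mul_of_ker (r : D.R) (hr : D.π r = 0) : eps D * r = 0 := by
  have h1 : r ∈ (IsLocalRing.maximalIdeal (tsz Λ k k)).map (algebraMap (tsz Λ k k) D.R) := by
    rw [← D.h3]; exact hr
  rw [Ideal.map] at h1
  refine Submodule.span_induction ?_ ?_ ?_ ?_ h1
  · rintro _ ⟨m, hm, rfl⟩
    rw [eps_mul_algebraMap, (mem_max_iff m).mp hm, dinr_zero, map_zero]
  · rw [mul_zero]
  · intro x y _ _ hx hy
    rw [mul_add, hx, hy, add_zero]
  · intro a x _ hx
    rw [smul_eq_mul, mul_left_comm, hx, mul_zero]

lemma exists_eps_mul (x : D.R) (hx : D.π x = 0) : ∃ r, x = eps D * r := by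
  have h1 : x ∈ (IsLocalRing.maximalIdeal (tsz Λ k k)).map (algebraMap (tsz Λ k k) D.R) := by
    rw [← D.h3]; exact hx
  rw [Ideal.map] at h1
  refine Submodule.span_induction ?_ ?_ ?_ ?_ h1
  · rintro _ ⟨m, hm, rfl⟩
    refine ⟨algebraMap (tsz Λ k k) D.R (dinl Λ k (dsnd m)), ?_⟩
    rw [eps_mul_algebraMap, dfst_dinl]
    exact congrArg _ (eq_dinr_of_dfst m ((mem_max_iff m).mp hm))
  · exact ⟨0, (mul_zero _).symm⟩
  · rintro x y _ _ ⟨r, rfl⟩ ⟨r', rfl⟩
    exact ⟨r + r', (mul_add _ _ _).symm⟩
  · rintro a x _ ⟨r, rfl⟩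
    exact ⟨a * r, by rw [smul_eq_mul]; ring⟩

lemma pi_eps : D.π (eps D) = 0 := by
  unfold eps
  rw [D.h1]
  exact map_zero _

/-- flatness: `ε r = 0` forces `r` to vanish on the closed fibre. -/
lemma pi_eq_zero_of_eps_mul (r : D.R) (hr : eps D * r = 0) : D.π r = 0 := by
  classical
  let b := Module.Basis.ofVectorSpace k B₀
  choose e he using fun i => D.h2 (b i)
  obtain ⟨bs, hbs⟩ := AData.exists_basis D b e he
  have h1 : eps D * r = (dinr Λ k 1) • r := by
    rw [Algebra.smul_def]; rfl
  have h2 : (dinr Λ k 1) • bs.repr r = 0 := by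
    have := bs.repr.map_smul (dinr Λ k 1) r
    rw [← h1, hr, map_zero] at this
    exact this.symm
  have h3 : ∀ i, dfst (bs.repr r i) = 0 := by
    intro i
    have h4 := DFunLike.congr_fun h2 i
    rw [Finsupp.smul_apply, smul_eq_mul, Finsupp.zero_apply, dinr_one_mul] at h4
    exact congrArg dsnd h4
  have hre : r = Finsupp.linearCombination (tsz Λ k k) bs (bs.repr r) :=
    (bs.linearCombination_repr r).symm
  have h6 := map_linearCombination (tsz Λ k k).res.toRingHom D.π D.h1 bs (bs.repr r)
  have h7 : (bs.repr r).mapRange (tsz Λ k k).res.toRingHom (map_zero _) = 0 := by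
    ext i
    rw [Finsupp.mapRange_apply]
    exact h3 i
  rw [h7, map_zero, ← hre] at h6
  exact h6

/-- `b ↦ ε · (lift of b)`. -/
noncomputable def incl₀ : B₀ →+ D.R :=
  AddMonoidHom.mk' (fun b => eps D * Function.surjInv D.h2 b) (by
    intro b b'
    have h0 : D.π (Function.surjInv D.h2 (b + b') - Function.surjInv D.h2 b -
        Function.surjInv D.h2 b') = 0 := by
      rw [map_sub, map_sub, pi_surjInv, pi_surjInv, pi_surjInv]
      abel
    have h1 := eps_mul_of_ker D _ h0
    linear_combination h1)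

lemma incl₀_pi (r : D.R) : incl₀ D (D.π r) = eps D * r := by
  have h0 : D.π (Function.surjInv D.h2 (D.π r) - r) = 0 := by
    rw [map_sub, pi_surjInv, sub_self]
  have h1 := eps_mul_of_ker D _ h0
  change eps D * Function.surjInv D.h2 (D.π r) = eps D * r
  linear_combination h1

/-- the `k`-algebra structure of a first order deformation. -/
@[reducible] noncomputable def algK : Algebra k D.R :=
  ((algebraMap (tsz Λ k k) D.R).comp
    (TrivSqZeroExt.inlHom k k : k →+* TrivSqZeroExt k k)).toAlgebra

/-- the projection as a `k`-algebra map. -/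
noncomputable def projK : @AlgHom k D.R B₀ _ _ _ (algK D) _ :=
  letI := algK D
  { D.π with
    commutes' := fun c => by
      change D.π (algebraMap (tsz Λ k k) D.R (dinl Λ k c)) = _
      rw [D.h1]
      rfl }

/-- the extension of `B₀` by `B₀ ⊗ k` underlying a first order deformation. -/
noncomputable def ofAData : Exal.Ext k B₀ (B₀ ⊗[k] k) :=
  letI := algK D
  { E := D.R
    proj := projK D
    incl := (incl₀ D).comp
      (TensorProduct.AlgebraTensorModule.rid k B₀ B₀).toLinearMap.toAddMonoidHom
    isExtension :=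
      { proj_surjective := D.h2
        incl_injective := by
          rw [injective_iff_map_eq_zero]
          intro z hz
          have h1 : eps D * Function.surjInv D.h2
              (TensorProduct.AlgebraTensorModule.rid k B₀ B₀ z) = 0 := hz
          have h2 := pi_eq_zero_of_eps_mul D _ h1
          rw [pi_surjInv] at h2
          exact (TensorProduct.AlgebraTensorModule.rid k B₀ B₀).injective
            (h2.trans (map_zero _).symm)
        exact := by
          intro x
          constructor
          · intro hx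
            obtain ⟨r, rfl⟩ := exists_eps_mul D x hx
            refine ⟨(TensorProduct.AlgebraTensorModule.rid k B₀ B₀).symm (D.π r), ?_⟩
            change incl₀ D ((TensorProduct.AlgebraTensorModule.rid k B₀ B₀)
              ((TensorProduct.AlgebraTensorModule.rid k B₀ B₀).symm (D.π r))) = _
            rw [LinearEquiv.apply_symm_apply, incl₀_pi]
          · rintro ⟨z, rfl⟩
            change D.π (eps D * _) = 0
            rw [map_mul, pi_eps, zero_mul]
        mul_incl := by
          intro x z
          change x * incl₀ D ((TensorProduct.AlgebraTensorModule.rid k B₀ B₀) z) =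
            incl₀ D ((TensorProduct.AlgebraTensorModule.rid k B₀ B₀) (D.π x • z))
          rw [map_smul, smul_eq_mul]
          obtain ⟨s, hs⟩ := D.h2 ((TensorProduct.AlgebraTensorModule.rid k B₀ B₀) z)
          rw [← hs, ← map_mul, incl₀_pi, incl₀_pi]
          ring } }

theorem toAData_ofAData :
    Nonempty (DefSch.Iso (HullF.toAData Λ (ofAData D)).toDefSch D.toDefSch) := by
  refine (iso_iff (HullF.toAData Λ (ofAData D)) D).mpr ⟨RingEquiv.refl D.R, ?_, fun r => rfl⟩
  intro a
  change HullF.toE (ofAData D) a = algebraMap (tsz Λ k k) D.R a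
  rw [HullF.toE_apply]
  have h1 : (ofAData D).incl ((1 : B₀) ⊗ₜ[k] TrivSqZeroExt.snd a) =
      algebraMap (tsz Λ k k) D.R (dinr Λ k (dsnd a)) := by
    change incl₀ D ((TensorProduct.AlgebraTensorModule.rid k B₀ B₀)
      ((1 : B₀) ⊗ₜ[k] dsnd a)) = _
    rw [TensorProduct.AlgebraTensorModule.rid_tmul]
    have h2 : (dsnd a) • (1 : B₀) = D.π (algebraMap (tsz Λ k k) D.R (dinl Λ k (dsnd a))) := by
      rw [D.h1, Algebra.smul_def, mul_one]
      rfl
    rw [h2, incl₀_pi, eps_mul_algebraMap, dfst_dinl]
  rw [h1]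
  change algebraMap (tsz Λ k k) D.R (dinl Λ k (dfst a)) + _ = _
  rw [← map_add, dinl_add_dinr]

end Groth.Agent.Lib.Helper18.HullG
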