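import Mathlib
import Groth.Prelude.Def_Exal

/-!
# Algebra extensions from a presentation (helper18)

`P → B₀` a surjection of `k`-algebras with kernel `I`, `M` a `B₀`-module.  A `P`-linear map
`g : I → M` gives an extension `Eg g` of `B₀` by `M`; every extension with a lift `P → E` is of
this form (`equiv_Eg`), and changing `g` by the restriction of a derivation does not change the
class (`equiv_add_der`).
-/

set_option autoImplicit false
set_option linter.style.haveILetI false
set_option linter.unusedSectionVars false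
universe u

namespace Groth.Agent.Lib.Helper18.HullH

variable {k B₀ P M : Type u} [Field k] [CommRing B₀] [Algebra k B₀] [CommRing P] [Algebra k P]
  [Algebra P B₀] [IsScalarTower k P B₀] [AddCommGroup M] [Module B₀ M] [Module k M]
  [IsScalarTower k B₀ M] [Module P M] [IsScalarTower P B₀ M] [IsScalarTower k P M]

section Gen

theorem proj_incl (X : Exal.Ext k B₀ M) (m : M) : X.proj (X.incl m) = 0 :=
  (X.isExtension.exact _).2 ⟨m, rfl⟩

theorem incl_mul_incl (X : Exal.Ext k B₀ M) (m m' : M) : X.incl m * X.incl m' = 0 := by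
  rw [X.isExtension.mul_incl, proj_incl, zero_smul, map_zero]

/-- lifts of `P → B₀` to the middle ring of an extension -/
def IsLift (X : Exal.Ext k B₀ M) (f : P →ₐ[k] X.E) : Prop :=
  ∀ r, X.proj (f r) = algebraMap P B₀ r

theorem incl_smul (X : Exal.Ext k B₀ M) (f : P →ₐ[k] X.E) (hf : IsLift X f) (r : P)
    (m : M) : X.incl (r • m) = f r * X.incl m := by
  rw [X.isExtension.mul_incl, hf, algebraMap_smul]

theorem mul_decomp (X : Exal.Ext k B₀ M) (f : P →ₐ[k] X.E) (hf : IsLift X f)
    (r r' : P) (m m' : M) :
    (f r + X.incl m) * (f r' + X.incl m') = f (r * r') + X.incl (r • m' + r' • m) := by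
  rw [map_add, incl_smul X f hf, incl_smul X f hf, map_mul]
  have h0 := incl_mul_incl X m m'
  linear_combination h0

theorem exists_decomp (hs : Function.Surjective (algebraMap P B₀)) (X : Exal.Ext k B₀ M)
    (f : P →ₐ[k] X.E) (hf : IsLift X f) (x : X.E) :
    ∃ (r : P) (m : M), x = f r + X.incl m := by
  obtain ⟨r, hr⟩ := hs (X.proj x)
  have h0 : X.proj (x - f r) = 0 := by rw [map_sub, hf, hr, sub_self]
  refine ⟨r, X.kerLift _ h0, ?_⟩
  rw [X.incl_kerLift]; ring

/-- a morphism of extensions is an equivalence -/
theorem equiv_of_hom (X Y : Exal.Ext k B₀ M) (θ : X.E →ₐ[k] Y.E)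
    (h1 : ∀ x, Y.proj (θ x) = X.proj x) (h2 : ∀ m, θ (X.incl m) = Y.incl m) :
    Nonempty (Exal.Ext.Equiv X Y) := by
  have hinj : Function.Injective θ := by
    rw [injective_iff_map_eq_zero]
    intro x hx
    have hp : X.proj x = 0 := by rw [← h1, hx, map_zero]
    obtain ⟨m, rfl⟩ := (X.isExtension.exact x).1 hp
    rw [h2] at hx
    have : m = 0 := Y.isExtension.incl_injective (by rw [hx, map_zero])
    rw [this, map_zero]
  have hsurj : Function.Surjective θ := by
    intro y
    obtain ⟨x, hx⟩ := X.isExtension.proj_surjective (Y.proj y)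
    have hp : Y.proj (y - θ x) = 0 := by rw [map_sub, h1, hx, sub_self]
    obtain ⟨m, hm⟩ := (Y.isExtension.exact _).1 hp
    refine ⟨x + X.incl m, ?_⟩
    rw [map_add, h2, hm]; ring
  exact ⟨{ toAlgEquiv := AlgEquiv.ofBijective θ ⟨hinj, hsurj⟩
           proj_apply := fun x => h1 x
           apply_incl := fun m => h2 m }⟩

/-- two extensions with lifts having the same restriction to the kernel are equivalent. -/
theorem equiv_of_lifts (hs : Function.Surjective (algebraMap P B₀)) (X Y : Exal.Ext k B₀ M)
    (f : P →ₐ[k] X.E) (hf : IsLift X f) (f' : P →ₐ[k] Y.E) (hf' : IsLift Y f')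
    (hg : ∀ (h : P) (m : M), f h = X.incl m → f' h = Y.incl m) :
    Nonempty (Exal.Ext.Equiv X Y) := by
  choose ρ μ hρμ using exists_decomp hs X f hf
  have key : ∀ (x : X.E) (r : P) (m : M), x = f r + X.incl m →
      f' (ρ x) + Y.incl (μ x) = f' r + Y.incl m := by
    intro x r m hx
    have h1 : f (ρ x - r) = X.incl (m - μ x) := by
      have h := hρμ x
      rw [map_sub, map_sub]
      linear_combination hx - h
    have h3 : f' (ρ x - r) = Y.incl (m - μ x) := hg _ _ h1
    rw [map_sub, map_sub] at h3
    linear_combination h3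
  let θ : X.E →ₐ[k] Y.E :=
    { toFun := fun x => f' (ρ x) + Y.incl (μ x)
      map_one' := by
        have := key 1 1 0 (by rw [map_one, map_zero, add_zero])
        rw [this, map_one, map_zero, add_zero]
      map_mul' := by
        intro x y
        have hx := hρμ x
        have hy := hρμ y
        have hxy : x * y = f (ρ x * ρ y) + X.incl (ρ x • μ y + ρ y • μ x) := by
          conv_lhs => rw [hx, hy]
          exact mul_decomp X f hf _ _ _ _
        rw [key _ _ _ hxy, mul_decomp Y f' hf']
      map_zero' := by
        have := key 0 0 0 (by rw [map_zero, map_zero, add_zero])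
        rw [this, map_zero, map_zero, add_zero]
      map_add' := by
        intro x y
        have hxy : x + y = f (ρ x + ρ y) + X.incl (μ x + μ y) := by
          conv_lhs => rw [hρμ x, hρμ y]
          rw [map_add, map_add]; ring
        rw [key _ _ _ hxy, map_add, map_add]; ring
      commutes' := by
        intro a
        have := key (algebraMap k X.E a) (algebraMap k P a) 0
          (by rw [AlgHom.commutes, map_zero, add_zero])
        rw [this, AlgHom.commutes, map_zero, add_zero] }
  refine equiv_of_hom X Y θ (fun x => ?_) (fun m => ?_)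
  · change Y.proj (f' (ρ x) + Y.incl (μ x)) = X.proj x
    rw [map_add, hf', proj_incl, add_zero]
    conv_rhs => rw [hρμ x]
    rw [map_add, hf, proj_incl, add_zero]
  · change f' (ρ (X.incl m)) + Y.incl (μ (X.incl m)) = Y.incl m
    rw [key (X.incl m) 0 m (by rw [map_zero, zero_add]), map_zero, zero_add]

end Gen

section Build

attribute [local instance] Exal.opModule Exal.isCentralScalar_opModule

/-- the canonical section of the trivial extension -/
noncomputable def sec0 (A C N : Type u) [CommRing A] [CommRing C] [Algebra A C] [AddCommGroup N]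
    [Module C N] : C →ₐ[A] (Exal.Ext.trivial A C N).E :=
  { (TrivSqZeroExt.inlHom C N : C →+* Exal.Ext.TrivCarrier A C N) with
    commutes' := fun _ => rfl }

theorem proj_sec0 (A C N : Type u) [CommRing A] [CommRing C] [Algebra A C] [AddCommGroup N]
    [Module C N] (c : C) : (Exal.Ext.trivial A C N).proj (sec0 A C N c) = c := rfl

variable (k P M) in
/-- the trivial extension of `P` by `M` -/
noncomputable abbrev ZZ : Exal.Ext k P M := Exal.Ext.trivial k P M

theorem ZZ_decomp (z : (ZZ k P M).E) :
    ∃ m : M, z = sec0 k P M ((ZZ k P M).proj z) + (ZZ k P M).incl m := by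
  have h0 : (ZZ k P M).proj (z - sec0 k P M ((ZZ k P M).proj z)) = 0 := by
    rw [map_sub, proj_sec0, sub_self]
  refine ⟨(ZZ k P M).kerLift _ h0, ?_⟩
  rw [(ZZ k P M).incl_kerLift]; ring

theorem zz_proj_incl (m : M) : (ZZ k P M).proj ((ZZ k P M).incl m) = 0 :=
  ((ZZ k P M).isExtension.exact _).2 ⟨m, rfl⟩

theorem zz_incl_mul_incl (m m' : M) : (ZZ k P M).incl m * (ZZ k P M).incl m' = 0 := by
  rw [(ZZ k P M).isExtension.mul_incl, zz_proj_incl, zero_smul, map_zero]

variable (g : RingHom.ker (algebraMap P B₀) →ₗ[P] M)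

/-- elements of the kernel -/
abbrev mkI (r : P) (h : algebraMap P B₀ r = 0) : RingHom.ker (algebraMap P B₀) :=
  ⟨r, RingHom.mem_ker.2 h⟩

/-- the ideal defining the extension attached to `g` -/
noncomputable def Jg : Ideal (ZZ k P M).E where
  carrier := {z | ∃ s : RingHom.ker (algebraMap P B₀),
    z = sec0 k P M (s : P) - (ZZ k P M).incl (g s)}
  zero_mem' := ⟨0, by
    rw [map_zero, map_zero]
    change (0 : (ZZ k P M).E) = sec0 k P M 0 - 0
    rw [map_zero, sub_zero]⟩
  add_mem' := by
    rintro _ _ ⟨s₁, rfl⟩ ⟨s₂, rfl⟩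
    refine ⟨s₁ + s₂, ?_⟩
    rw [map_add, map_add]
    change _ = sec0 k P M ((s₁ : P) + (s₂ : P)) - _
    rw [map_add]
    ring
  smul_mem' := by
    rintro z _ ⟨s, rfl⟩
    obtain ⟨m, hm⟩ := ZZ_decomp z
    refine ⟨(ZZ k P M).proj z • s, ?_⟩
    rw [map_smul]
    change _ = sec0 k P M ((ZZ k P M).proj z * (s : P)) - _
    rw [map_mul, smul_eq_mul]
    have h1 : sec0 k P M ((ZZ k P M).proj z) * (ZZ k P M).incl (g s) =
        (ZZ k P M).incl ((ZZ k P M).proj z • g s) := by
      rw [(ZZ k P M).isExtension.mul_incl, proj_sec0]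
    have h2 : sec0 k P M (s : P) * (ZZ k P M).incl m = 0 := by
      rw [(ZZ k P M).isExtension.mul_incl, proj_sec0]
      have : (s : P) • m = 0 := by
        rw [← algebraMap_smul B₀ (s : P) m, RingHom.mem_ker.1 s.2, zero_smul]
      rw [this, map_zero]
    have h3 := zz_incl_mul_incl (k := k) (P := P) m (g s)
    conv_lhs => rw [hm]
    linear_combination (-1 : (ZZ k P M).E) * h1 + h2 - h3

theorem mk_sec0_rel (s : RingHom.ker (algebraMap P B₀)) :
    Ideal.Quotient.mk (Jg g) (sec0 k P M (s : P)) =
      Ideal.Quotient.mk (Jg g) ((ZZ k P M).incl (g s)) := by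
  rw [Ideal.Quotient.eq]
  exact ⟨s, rfl⟩

/-- the augmentation of the extension attached to `g` -/
noncomputable def projG : ((ZZ k P M).E ⧸ Jg g) →ₐ[k] B₀ :=
  Ideal.Quotient.liftₐ (Jg g)
    ((IsScalarTower.toAlgHom k P B₀).comp (ZZ k P M).proj) (by
      rintro z ⟨s, rfl⟩
      rw [AlgHom.comp_apply, map_sub, proj_sec0, zz_proj_incl, sub_zero]
      exact RingHom.mem_ker.1 s.2)

theorem projG_mk (z : (ZZ k P M).E) :
    projG g (Ideal.Quotient.mk (Jg g) z) = algebraMap P B₀ ((ZZ k P M).proj z) := by
  unfold projG
  rw [Ideal.Quotient.liftₐ_apply, Ideal.Quotient.lift_mk]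
  rfl

variable (k) in
/-- the extension attached to `g` -/
noncomputable def Eg (hs : Function.Surjective (algebraMap P B₀)) : Exal.Ext k B₀ M where
  E := (ZZ k P M).E ⧸ Jg g
  proj := projG g
  incl := (Ideal.Quotient.mk (Jg g) : (ZZ k P M).E →+* _).toAddMonoidHom.comp (ZZ k P M).incl
  isExtension :=
    { proj_surjective := by
        intro b
        obtain ⟨r, rfl⟩ := hs b
        refine ⟨Ideal.Quotient.mk (Jg g) (sec0 k P M r), ?_⟩
        rw [projG_mk, proj_sec0]
      incl_injective := by
        rw [injective_iff_map_eq_zero]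
        intro m hm
        change Ideal.Quotient.mk (Jg g) ((ZZ k P M).incl m) = 0 at hm
        rw [Ideal.Quotient.eq_zero_iff_mem] at hm
        obtain ⟨s, hs'⟩ := hm
        have h1 := congrArg (ZZ k P M).proj hs'
        rw [map_sub, proj_sec0, zz_proj_incl, zz_proj_incl, sub_zero] at h1
        have hs0 : s = 0 := Subtype.ext h1.symm
        rw [hs0, map_zero, map_zero] at hs'
        change (ZZ k P M).incl m = sec0 k P M 0 - 0 at hs'
        rw [map_zero, sub_zero] at hs'
        exact (ZZ k P M).isExtension.incl_injective (by rw [hs', map_zero])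
      exact := by
        intro x
        obtain ⟨z, rfl⟩ := Ideal.Quotient.mk_surjective x
        constructor
        · intro hx
          rw [projG_mk] at hx
          obtain ⟨m, hm⟩ := ZZ_decomp z
          refine ⟨g (mkI ((ZZ k P M).proj z) hx) + m, ?_⟩
          change Ideal.Quotient.mk (Jg g) ((ZZ k P M).incl _) = _
          conv_rhs => rw [hm]
          rw [map_add, map_add, map_add,
            ← mk_sec0_rel g (mkI ((ZZ k P M).proj z) hx)]
        · rintro ⟨m, hm⟩
          change Ideal.Quotient.mk (Jg g) ((ZZ k P M).incl m) = _ at hm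
          rw [← hm, projG_mk, zz_proj_incl, map_zero]
      mul_incl := by
        intro x m
        obtain ⟨z, rfl⟩ := Ideal.Quotient.mk_surjective x
        change Ideal.Quotient.mk (Jg g) z * Ideal.Quotient.mk (Jg g) ((ZZ k P M).incl m) =
          Ideal.Quotient.mk (Jg g) ((ZZ k P M).incl (projG g (Ideal.Quotient.mk _ z) • m))
        rw [← map_mul, (ZZ k P M).isExtension.mul_incl, projG_mk, algebraMap_smul] }

variable (k) in
/-- the canonical lift into the extension attached to `g` -/
noncomputable def fg (hs : Function.Surjective (algebraMap P B₀)) : P →ₐ[k] (Eg k g hs).E :=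
  (Ideal.Quotient.mkₐ k (Jg g)).comp (sec0 k P M)

variable (k) in
theorem fg_isLift (hs : Function.Surjective (algebraMap P B₀)) :
    IsLift (Eg k g hs) (fg k g hs) := by
  intro r
  change projG g (Ideal.Quotient.mk (Jg g) (sec0 k P M r)) = _
  rw [projG_mk, proj_sec0]

variable (k) in
theorem fg_ker (hs : Function.Surjective (algebraMap P B₀))
    (s : RingHom.ker (algebraMap P B₀)) : fg k g hs (s : P) = (Eg k g hs).incl (g s) :=
  mk_sec0_rel g s

end Build

section Hom

variable {M' : Type u} [AddCommGroup M'] [Module B₀ M'] [Module k M']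
  [IsScalarTower k B₀ M'] [Module P M'] [IsScalarTower P B₀ M'] [IsScalarTower k P M']

/-- a morphism of extensions over a linear map of the kernels, from compatible lifts. -/
theorem hom_of_lifts (hs : Function.Surjective (algebraMap P B₀)) (X : Exal.Ext k B₀ M)
    (Y : Exal.Ext k B₀ M') (lam : M →ₗ[P] M')
    (f : P →ₐ[k] X.E) (hf : IsLift X f) (f' : P →ₐ[k] Y.E) (hf' : IsLift Y f')
    (hg : ∀ (h : P) (m : M), f h = X.incl m → f' h = Y.incl (lam m)) :
    ∃ θ : X.E →ₐ[k] Y.E, (∀ x, Y.proj (θ x) = X.proj x) ∧
      (∀ m, θ (X.incl m) = Y.incl (lam m)) := by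
  choose ρ μ hρμ using exists_decomp hs X f hf
  have key : ∀ (x : X.E) (r : P) (m : M), x = f r + X.incl m →
      f' (ρ x) + Y.incl (lam (μ x)) = f' r + Y.incl (lam m) := by
    intro x r m hx
    have h1 : f (ρ x - r) = X.incl (m - μ x) := by
      have h := hρμ x
      rw [map_sub, map_sub]
      linear_combination hx - h
    have h3 : f' (ρ x - r) = Y.incl (lam (m - μ x)) := hg _ _ h1
    rw [map_sub, map_sub, map_sub] at h3
    linear_combination h3
  let θ : X.E →ₐ[k] Y.E :=
    { toFun := fun x => f' (ρ x) + Y.incl (lam (μ x))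
      map_one' := by
        have := key 1 1 0 (by rw [map_one, map_zero, add_zero])
        rw [this, map_one, map_zero, map_zero, add_zero]
      map_mul' := by
        intro x y
        have hx := hρμ x
        have hy := hρμ y
        have hxy : x * y = f (ρ x * ρ y) + X.incl (ρ x • μ y + ρ y • μ x) := by
          conv_lhs => rw [hx, hy]
          exact mul_decomp X f hf _ _ _ _
        rw [key _ _ _ hxy, mul_decomp Y f' hf', map_add, map_smul, map_smul]
      map_zero' := by
        have := key 0 0 0 (by rw [map_zero, map_zero, add_zero])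
        rw [this, map_zero, map_zero, map_zero, add_zero]
      map_add' := by
        intro x y
        have hxy : x + y = f (ρ x + ρ y) + X.incl (μ x + μ y) := by
          conv_lhs => rw [hρμ x, hρμ y]
          rw [map_add, map_add]; ring
        rw [key _ _ _ hxy, map_add, map_add, map_add]; ring
      commutes' := by
        intro a
        have := key (algebraMap k X.E a) (algebraMap k P a) 0
          (by rw [AlgHom.commutes, map_zero, add_zero])
        rw [this, AlgHom.commutes, map_zero, map_zero, add_zero] }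
  refine ⟨θ, fun x => ?_, fun m => ?_⟩
  · change Y.proj (f' (ρ x) + Y.incl (lam (μ x))) = X.proj x
    rw [map_add, hf', proj_incl, add_zero]
    conv_rhs => rw [hρμ x]
    rw [map_add, hf, proj_incl, add_zero]
  · change f' (ρ (X.incl m)) + Y.incl (lam (μ (X.incl m))) = Y.incl (lam m)
    rw [key (X.incl m) 0 m (by rw [map_zero, zero_add]), map_zero, zero_add]

end Hom

section Classify

variable (hs : Function.Surjective (algebraMap P B₀))

/-- the restriction to the kernel of a lift. -/
noncomputable def gOf (Y : Exal.Ext k B₀ M) (f : P →ₐ[k] Y.E) (hf : IsLift Y f) :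
    RingHom.ker (algebraMap P B₀) →ₗ[P] M where
  toFun s := Y.kerLift (f (s : P)) ((hf (s : P)).trans (RingHom.mem_ker.1 s.2))
  map_add' s t := by
    apply Y.isExtension.incl_injective
    rw [map_add, Y.incl_kerLift, Y.incl_kerLift, Y.incl_kerLift]
    change f ((s : P) + (t : P)) = _
    rw [map_add]
  map_smul' r s := by
    apply Y.isExtension.incl_injective
    rw [RingHom.id_apply, incl_smul Y f hf, Y.incl_kerLift, Y.incl_kerLift]
    change f (r * (s : P)) = _
    rw [map_mul]

theorem incl_gOf (Y : Exal.Ext k B₀ M) (f : P →ₐ[k] Y.E) (hf : IsLift Y f)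
    (s : RingHom.ker (algebraMap P B₀)) : Y.incl (gOf Y f hf s) = f (s : P) :=
  Y.incl_kerLift (f (s : P)) ((hf (s : P)).trans (RingHom.mem_ker.1 s.2))

include hs in
/-- every extension with a lift is the extension attached to the restriction of the lift. -/
theorem equiv_Eg (Y : Exal.Ext k B₀ M) (f : P →ₐ[k] Y.E) (hf : IsLift Y f) :
    Nonempty (Exal.Ext.Equiv (Eg k (gOf Y f hf) hs) Y) := by
  refine equiv_of_lifts hs _ Y (fg k (gOf Y f hf) hs) (fg_isLift k _ hs) f hf ?_
  intro h m hm
  have h0 : algebraMap P B₀ h = 0 := by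
    have := congrArg (Eg k (gOf Y f hf) hs).proj hm
    rwa [fg_isLift k _ hs, proj_incl] at this
  have h1 := fg_ker k (gOf Y f hf) hs (mkI h h0)
  have h2 : m = gOf Y f hf (mkI h h0) :=
    (Eg k (gOf Y f hf) hs).isExtension.incl_injective (hm.symm.trans h1)
  rw [h2, incl_gOf]

/-- the restriction of a derivation to the kernel. -/
noncomputable def derRestrict (d : Derivation k P M) : RingHom.ker (algebraMap P B₀) →ₗ[P] M where
  toFun s := d (s : P)
  map_add' s t := by
    change d ((s : P) + (t : P)) = _
    rw [map_add]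
  map_smul' r s := by
    change d (r * (s : P)) = r • d (s : P)
    rw [Derivation.leibniz]
    have : (s : P) • d r = 0 := by
      rw [← algebraMap_smul B₀ (s : P) (d r), RingHom.mem_ker.1 s.2, zero_smul]
    rw [this, add_zero]

/-- twisting a lift by a derivation. -/
noncomputable def liftAddDer (X : Exal.Ext k B₀ M) (f : P →ₐ[k] X.E) (hf : IsLift X f)
    (d : Derivation k P M) : P →ₐ[k] X.E where
  toFun p := f p + X.incl (d p)
  map_one' := by rw [map_one, Derivation.map_one_eq_zero, map_zero, add_zero]
  map_mul' p q := by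
    rw [mul_decomp X f hf, Derivation.leibniz]
  map_zero' := by rw [map_zero, map_zero, map_zero, add_zero]
  map_add' p q := by
    rw [map_add, map_add, map_add]; ring
  commutes' c := by
    rw [Derivation.map_algebraMap, map_zero, add_zero, AlgHom.commutes]

theorem liftAddDer_isLift (X : Exal.Ext k B₀ M) (f : P →ₐ[k] X.E) (hf : IsLift X f)
    (d : Derivation k P M) : IsLift X (liftAddDer X f hf d) := by
  intro r
  change X.proj (f r + X.incl (d r)) = _
  rw [map_add, proj_incl, add_zero, hf]

include hs in
/-- changing `g` by the restriction of a derivation does not change the extension class. -/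
theorem equiv_add_der (g : RingHom.ker (algebraMap P B₀) →ₗ[P] M) (d : Derivation k P M) :
    Nonempty (Exal.Ext.Equiv (Eg k g hs) (Eg k (g + derRestrict d) hs)) := by
  refine equiv_of_lifts hs _ _ (liftAddDer _ (fg k g hs) (fg_isLift k g hs) d)
    (liftAddDer_isLift _ _ _ d) (fg k (g + derRestrict d) hs) (fg_isLift k _ hs) ?_
  intro h m hm
  have h0 : algebraMap P B₀ h = 0 := by
    have := congrArg (Eg k g hs).proj hm
    rwa [liftAddDer_isLift _ _ _ d, proj_incl] at this
  have h1 : liftAddDer _ (fg k g hs) (fg_isLift k g hs) d h =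
      (Eg k g hs).incl (g (mkI h h0) + d h) := by
    change fg k g hs h + (Eg k g hs).incl (d h) = _
    rw [map_add]
    congr 1
    exact fg_ker k g hs (mkI h h0)
  have h2 : m = g (mkI h h0) + d h :=
    (Eg k g hs).isExtension.incl_injective (hm.symm.trans h1)
  rw [h2]
  exact fg_ker k (g + derRestrict d) hs (mkI h h0)

end Classify

end Groth.Agent.Lib.Helper18.HullH
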