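import Mathlib
import Groth.Prelude.Def_Exal
import Groth.Agent.Lib.Helper18.HullH

/-!
# Local triviality of extensions over the smooth locus (helper18)

For an extension `X` of `B₀` by `M` with a lift `fl : P → X.E`, and `f : P` such that the
localization of `B₀` at `f` is formally smooth over `k`: after localizing `X.E` at `fl f` the
extension splits, and the difference of the two maps `P → X.E[1/f]` is a derivation `δ`.
-/

set_option autoImplicit false
set_option linter.style.haveILetI false
set_option linter.unusedSectionVars false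
universe u

namespace Groth.Agent.Lib.Helper18.HullI

open Groth.Agent.Lib.Helper18.HullH

section Loc

variable {k B₀ P M : Type u} [Field k] [CommRing B₀] [Algebra k B₀] [CommRing P] [Algebra k P]
  [Algebra P B₀] [IsScalarTower k P B₀] [AddCommGroup M] [Module B₀ M] [Module k M]
  [IsScalarTower k B₀ M] [Module P M] [IsScalarTower P B₀ M] [IsScalarTower k P M]

theorem exists_delta (X : Exal.Ext k B₀ M) (fl : P →ₐ[k] X.E) (hfl : IsLift X fl) (f : P)
    (L : Type u) [CommRing L] [Algebra B₀ L] [IsLocalization.Away (algebraMap P B₀ f) L]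
    [Algebra k L] [IsScalarTower k B₀ L] [Algebra.FormallySmooth k L] :
    ∃ δ : P → Localization.Away (fl f),
      (∀ c : k, δ (algebraMap k P c) = 0) ∧ (∀ p q, δ (p + q) = δ p + δ q) ∧
      (∀ p q, δ (p * q) = algebraMap X.E (Localization.Away (fl f)) (fl p) * δ q +
        algebraMap X.E (Localization.Away (fl f)) (fl q) * δ p) ∧
      (∀ p, algebraMap P B₀ p = 0 → δ p = algebraMap X.E (Localization.Away (fl f)) (fl p)) ∧
      (∀ p, ∃ (a : ℕ) (m : M), algebraMap X.E (Localization.Away (fl f)) (fl f) ^ a * δ p =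
        algebraMap X.E (Localization.Away (fl f)) (X.incl m)) := by
  classical
  let Ef := Localization.Away (fl f)
  let ι : X.E →+* Ef := algebraMap X.E Ef
  have hιu : IsUnit (ι (fl f)) := IsLocalization.Away.algebraMap_isUnit (fl f)
  have hunitL : IsUnit (algebraMap B₀ L (X.proj (fl f))) := by
    rw [hfl]; exact IsLocalization.Away.algebraMap_isUnit _
  let φ₀ : X.E →ₐ[k] L := (IsScalarTower.toAlgHom k B₀ L).comp X.proj
  have hφ₀ : ∀ y : Submonoid.powers (fl f), IsUnit (φ₀ y) := by
    rintro ⟨_, m, rfl⟩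
    change IsUnit (algebraMap B₀ L (X.proj ((fl f) ^ m)))
    rw [map_pow, map_pow]
    exact hunitL.pow m
  let projf : Ef →ₐ[k] L := IsLocalization.liftAlgHom (M := Submonoid.powers (fl f)) (f := φ₀) hφ₀
  have hprojf : ∀ e, projf (ι e) = algebraMap B₀ L (X.proj e) := fun e => by
    change IsLocalization.lift hφ₀ (algebraMap X.E Ef e) = _
    rw [IsLocalization.lift_eq]
    rfl
  -- kernel elements
  have K1 : ∀ z : Ef, projf z = 0 → ∃ (a : ℕ) (m : M), ι (fl f) ^ a * z = ι (X.incl m) := by
    intro z hz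
    obtain ⟨e, ⟨_, c, rfl⟩, rfl⟩ := IsLocalization.exists_mk'_eq (Submonoid.powers (fl f)) z
    have h1 : IsLocalization.mk' Ef e (⟨(fl f) ^ c, c, rfl⟩ : Submonoid.powers (fl f)) * ι ((fl f) ^ c) =
        ι e := IsLocalization.mk'_spec Ef e (⟨(fl f) ^ c, c, rfl⟩ : Submonoid.powers (fl f))
    have h2 : algebraMap B₀ L (X.proj e) = 0 := by
      rw [← hprojf, ← h1, map_mul, hz, zero_mul]
    obtain ⟨⟨_, c', rfl⟩, hc'⟩ :=
      (IsLocalization.map_eq_zero_iff (Submonoid.powers (algebraMap P B₀ f)) L _).1 h2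
    have h3 : X.proj ((fl f) ^ c' * e) = 0 := by
      rw [map_mul, map_pow, hfl]
      exact hc'
    obtain ⟨m, hm⟩ := (X.isExtension.exact _).1 h3
    refine ⟨c + c', m, ?_⟩
    rw [hm, map_mul, ← h1, map_pow, map_pow, pow_add]
    ring
  have K2 : ∀ z z' : Ef, projf z = 0 → projf z' = 0 → z * z' = 0 := by
    intro z z' hz hz'
    obtain ⟨a, m, h1⟩ := K1 z hz
    obtain ⟨a', m', h2⟩ := K1 z' hz'
    have h3 : ι (fl f) ^ (a + a') * (z * z') = 0 := by
      have : ι (fl f) ^ (a + a') * (z * z') = (ι (fl f) ^ a * z) * (ι (fl f) ^ a' * z') := by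
        rw [pow_add]; ring
      rw [this, h1, h2, ← map_mul, HullH.incl_mul_incl, map_zero]
    exact ((hιu.pow (a + a')).mul_right_eq_zero).1 h3
  have hsurj : Function.Surjective projf := by
    intro y
    obtain ⟨⟨b, ⟨_, c, rfl⟩⟩, hb⟩ := IsLocalization.surj (Submonoid.powers (algebraMap P B₀ f)) y
    obtain ⟨e, he⟩ := X.isExtension.proj_surjective b
    refine ⟨IsLocalization.mk' Ef e (⟨(fl f) ^ c, c, rfl⟩ : Submonoid.powers (fl f)), ?_⟩
    have h1 : IsLocalization.mk' Ef e (⟨(fl f) ^ c, c, rfl⟩ : Submonoid.powers (fl f)) * ι ((fl f) ^ c) =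
        ι e := IsLocalization.mk'_spec Ef e (⟨(fl f) ^ c, c, rfl⟩ : Submonoid.powers (fl f))
    have h2 := congrArg projf h1
    rw [map_mul, hprojf, hprojf, he, map_pow, map_pow] at h2
    change y * algebraMap B₀ L (algebraMap P B₀ f ^ c) = algebraMap B₀ L b at hb
    rw [map_pow] at hb
    rw [← hb, hfl] at h2
    have hu : IsUnit (algebraMap B₀ L (algebraMap P B₀ f) ^ c) :=
      (IsLocalization.Away.algebraMap_isUnit _).pow c
    exact hu.mul_left_injective h2
  have hnil : IsNilpotent (RingHom.ker (projf : Ef →+* L)) := by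
    refine ⟨2, ?_⟩
    rw [pow_two, Ideal.zero_eq_bot, eq_bot_iff, Ideal.mul_le]
    intro r hr s hs
    rw [Ideal.mem_bot]
    exact K2 r s hr hs
  let sec : L →ₐ[k] Ef :=
    Algebra.FormallySmooth.liftOfSurjective (AlgHom.id k L) projf hsurj hnil
  have hsec : ∀ y, projf (sec y) = y := fun y =>
    Algebra.FormallySmooth.liftOfSurjective_apply (AlgHom.id k L) projf hsurj hnil y
  let δ : P → Ef := fun p => ι (fl p) - sec (algebraMap B₀ L (algebraMap P B₀ p))
  have hδker : ∀ p, projf (δ p) = 0 := by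
    intro p
    change projf (ι (fl p) - sec (algebraMap B₀ L (algebraMap P B₀ p))) = 0
    rw [map_sub, hprojf, hsec, hfl, sub_self]
  refine ⟨δ, ?_, ?_, ?_, ?_, ?_⟩
  · intro c
    change ι (fl (algebraMap k P c)) - sec (algebraMap B₀ L (algebraMap P B₀ (algebraMap k P c)))
      = 0
    rw [AlgHom.commutes, ← IsScalarTower.algebraMap_apply k P B₀,
      ← IsScalarTower.algebraMap_apply k B₀ L, AlgHom.commutes,
      ← IsScalarTower.algebraMap_apply k X.E Ef, sub_self]
  · intro p q
    change ι (fl (p + q)) - sec (algebraMap B₀ L (algebraMap P B₀ (p + q))) =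
      (ι (fl p) - sec (algebraMap B₀ L (algebraMap P B₀ p))) +
      (ι (fl q) - sec (algebraMap B₀ L (algebraMap P B₀ q)))
    simp only [map_add]
    ring
  · intro p q
    have h0 := K2 _ _ (hδker p) (hδker q)
    change (ι (fl p) - sec (algebraMap B₀ L (algebraMap P B₀ p))) *
      (ι (fl q) - sec (algebraMap B₀ L (algebraMap P B₀ q))) = 0 at h0
    change ι (fl (p * q)) - sec (algebraMap B₀ L (algebraMap P B₀ (p * q))) =
      ι (fl p) * (ι (fl q) - sec (algebraMap B₀ L (algebraMap P B₀ q))) +
      ι (fl q) * (ι (fl p) - sec (algebraMap B₀ L (algebraMap P B₀ p)))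
    rw [map_mul, map_mul, map_mul, map_mul, map_mul]
    linear_combination (-1 : Ef) * h0
  · intro p hp
    change ι (fl p) - sec (algebraMap B₀ L (algebraMap P B₀ p)) = ι (fl p)
    rw [hp, map_zero, map_zero, sub_zero]
  · intro p
    exact K1 (δ p) (hδker p)

end Loc

section MvPoly

variable {k B₀ M : Type u} [Field k] [CommRing B₀] [Algebra k B₀] {n : ℕ}
  [Algebra (MvPolynomial (Fin n) k) B₀] [IsScalarTower k (MvPolynomial (Fin n) k) B₀]
  [AddCommGroup M] [Module B₀ M] [Module k M] [IsScalarTower k B₀ M]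
  [Module (MvPolynomial (Fin n) k) M] [IsScalarTower (MvPolynomial (Fin n) k) B₀ M]
  [IsScalarTower k (MvPolynomial (Fin n) k) M]

/-- over the locus where `B₀` is formally smooth, a power of `f` times any `g : I → M` is the
restriction of a derivation. -/
theorem exists_der_of_smooth (hs : Function.Surjective (algebraMap (MvPolynomial (Fin n) k) B₀))
    (f : MvPolynomial (Fin n) k) (L : Type u) [CommRing L] [Algebra B₀ L]
    [IsLocalization.Away (algebraMap (MvPolynomial (Fin n) k) B₀ f) L]
    [Algebra k L] [IsScalarTower k B₀ L] [Algebra.FormallySmooth k L]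
    (g : RingHom.ker (algebraMap (MvPolynomial (Fin n) k) B₀) →ₗ[MvPolynomial (Fin n) k] M) :
    ∃ (K : ℕ) (d : Derivation k (MvPolynomial (Fin n) k) M), derRestrict d = f ^ K • g := by
  classical
  let X := Eg k g hs
  let fl := fg k g hs
  have hfl : IsLift X fl := fg_isLift k g hs
  obtain ⟨δ, hδC, hδadd, hδmul, hδker, hδK⟩ := exists_delta X fl hfl f L
  let ι : X.E →+* Localization.Away (fl f) := algebraMap X.E _
  choose a m ham using fun i : Fin n => hδK (MvPolynomial.X i)
  let A : ℕ := ∑ i, a i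
  have haA : ∀ i, a i ≤ A := fun i =>
    Finset.single_le_sum (f := a) (fun _ _ => Nat.zero_le _) (Finset.mem_univ i)
  let m' : Fin n → M := fun i => f ^ (A - a i) • m i
  have hm' : ∀ i, ι (X.incl (m' i)) = ι (fl f) ^ A * δ (MvPolynomial.X i) := by
    intro i
    change ι (X.incl (f ^ (A - a i) • m i)) = _
    have h := ham i
    change ι (fl f) ^ a i * δ (MvPolynomial.X i) = ι (X.incl (m i)) at h
    rw [incl_smul X fl hfl, map_mul, map_pow, map_pow, ← h, ← mul_assoc, ← pow_add,
      Nat.sub_add_cancel (haA i)]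
  let d : Derivation k (MvPolynomial (Fin n) k) M := MvPolynomial.mkDerivation k m'
  have hdX : ∀ i, d (MvPolynomial.X i) = m' i := fun i => MvPolynomial.mkDerivation_X k m' i
  have hd : ∀ p, ι (X.incl (d p)) = ι (fl f) ^ A * δ p := by
    intro p
    induction p using MvPolynomial.induction_on with
    | C c =>
      rw [← MvPolynomial.algebraMap_eq, Derivation.map_algebraMap, map_zero, map_zero, hδC,
        mul_zero]
    | add p q hp hq =>
      rw [map_add, map_add, map_add, hp, hq, hδadd, mul_add]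
    | mul_X p i hp =>
      have e1 := hδmul p (MvPolynomial.X i)
      change δ (p * MvPolynomial.X i) = ι (fl p) * δ (MvPolynomial.X i) +
        ι (fl (MvPolynomial.X i)) * δ p at e1
      rw [Derivation.leibniz, map_add, map_add, incl_smul X fl hfl, incl_smul X fl hfl,
        map_mul, map_mul, hp, hdX, hm' i, e1]
      ring
  have hI : ∀ s : RingHom.ker (algebraMap (MvPolynomial (Fin n) k) B₀),
      ∃ c : ℕ, f ^ c • (d (s : MvPolynomial (Fin n) k) - f ^ A • g s) = 0 := by
    intro s
    have h1 : δ (s : MvPolynomial (Fin n) k) = ι (X.incl (g s)) := by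
      rw [hδker _ (RingHom.mem_ker.1 s.2)]
      exact congrArg ι (fg_ker k g hs s)
    have h2 : ι (X.incl (d (s : MvPolynomial (Fin n) k) - f ^ A • g s)) = 0 := by
      rw [map_sub, map_sub, hd, h1, incl_smul X fl hfl, map_mul, map_pow, map_pow, sub_self]
    obtain ⟨⟨_, c, rfl⟩, hc⟩ := (IsLocalization.map_eq_zero_iff (Submonoid.powers (fl f))
      (Localization.Away (fl f)) _).1 h2
    refine ⟨c, X.isExtension.incl_injective ?_⟩
    rw [map_zero, incl_smul X fl hfl, map_pow]
    exact hc
  obtain ⟨T, hT⟩ := Module.Finite.fg_top (R := MvPolynomial (Fin n) k)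
    (M := RingHom.ker (algebraMap (MvPolynomial (Fin n) k) B₀))
  choose c hc using hI
  let C : ℕ := ∑ t ∈ T, c t
  refine ⟨C + A, f ^ C • d, ?_⟩
  apply LinearMap.ext_on hT
  intro t ht
  have hcC : c t ≤ C := Finset.single_le_sum (f := c) (fun _ _ => Nat.zero_le _) ht
  change f ^ C • d (t : MvPolynomial (Fin n) k) = f ^ (C + A) • g t
  have h1 := hc t
  rw [smul_sub, sub_eq_zero] at h1
  calc f ^ C • d (t : MvPolynomial (Fin n) k)
      = f ^ (C - c t) • (f ^ c t • d (t : MvPolynomial (Fin n) k)) := by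
        rw [smul_smul, ← pow_add, Nat.sub_add_cancel hcC]
    _ = f ^ (C - c t) • (f ^ c t • f ^ A • g t) := by rw [h1]
    _ = f ^ (C + A) • g t := by
        rw [smul_smul, smul_smul, ← pow_add, ← pow_add, Nat.sub_add_cancel hcC]

end MvPoly

end Groth.Agent.Lib.Helper18.HullI
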