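import Mathlib

/-!
# Finitely generated modules with finite support over a finite type algebra (helper18)
-/

set_option autoImplicit false
set_option linter.style.haveILetI false
set_option linter.unusedSectionVars false
universe u

namespace Groth.Agent.Lib.Helper18.HullJ

/-- a finite type algebra over a field with finite spectrum is finite dimensional -/
theorem finite_of_finite_spectrum {k R : Type u} [Field k] [CommRing R] [Algebra k R]
    [Algebra.FiniteType k R] [Finite (PrimeSpectrum R)] : Module.Finite k R := by
  rw [Module.finite_iff_isArtinianRing, isArtinianRing_iff_isNoetherianRing_krullDimLE_zero]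
  have : IsJacobsonRing R := isJacobsonRing_of_finiteType (A := k)
  exact ⟨Algebra.FiniteType.isNoetherianRing k R,
    (PrimeSpectrum.discreteTopology_iff_finite_and_krullDimLE_zero.mp inferInstance).right⟩

/-- a finitely generated module with finite support over a finite type algebra over a field is
finite dimensional. -/
theorem finite_of_support_finite {k P T : Type u} [Field k] [CommRing P] [Algebra k P]
    [Algebra.FiniteType k P] [AddCommGroup T] [Module P T] [Module k T] [IsScalarTower k P T]
    [Module.Finite P T] (hsupp : (Module.support P T).Finite) : Module.Finite k T := by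
  classical
  let 𝔞 : Ideal P := Module.annihilator P T
  letI : Module (P ⧸ 𝔞) T := Module.quotientAnnihilator
  have hmk : ∀ (q : P) (t : T), (Ideal.Quotient.mk 𝔞 q) • t = q • t := fun _ _ => rfl
  haveI : IsScalarTower P (P ⧸ 𝔞) T := ⟨fun p r' t => by
    obtain ⟨q, rfl⟩ := Ideal.Quotient.mk_surjective r'
    change (Ideal.Quotient.mk 𝔞 (p * q)) • t = p • (Ideal.Quotient.mk 𝔞 q) • t
    rw [hmk, hmk, mul_smul]⟩
  haveI : IsScalarTower k (P ⧸ 𝔞) T := ⟨fun c r' t => by
    obtain ⟨q, rfl⟩ := Ideal.Quotient.mk_surjective r'
    change (Ideal.Quotient.mk 𝔞 (c • q)) • t = c • (Ideal.Quotient.mk 𝔞 q) • t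
    rw [hmk, hmk, smul_assoc]⟩
  haveI : Module.Finite (P ⧸ 𝔞) T := Module.Finite.of_restrictScalars_finite P (P ⧸ 𝔞) T
  haveI : Finite (PrimeSpectrum (P ⧸ 𝔞)) := by
    have hinj : Function.Injective (PrimeSpectrum.comap (Ideal.Quotient.mk 𝔞)) :=
      PrimeSpectrum.comap_injective_of_surjective _ Ideal.Quotient.mk_surjective
    have hr : (Set.range (PrimeSpectrum.comap (Ideal.Quotient.mk 𝔞))).Finite := by
      refine hsupp.subset ?_
      rw [range_comap_of_surjective _ _ Ideal.Quotient.mk_surjective,
        Ideal.mk_ker, Module.support_eq_zeroLocus]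
    exact (Set.finite_range_iff hinj).1 hr |> fun h => h
  haveI : Algebra.FiniteType k (P ⧸ 𝔞) :=
    Algebra.FiniteType.of_surjective (Ideal.Quotient.mkₐ k 𝔞) (Ideal.Quotient.mkₐ_surjective k 𝔞)
  haveI : Module.Finite k (P ⧸ 𝔞) := finite_of_finite_spectrum
  exact Module.Finite.trans (P ⧸ 𝔞) T

end Groth.Agent.Lib.Helper18.HullJ
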