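import Mathlib
import Groth.Prelude.Def_Exal
import Groth.Agent.Lib.Helper18.HullH
import Groth.Agent.Lib.Helper18.HullI
import Groth.Agent.Lib.Helper18.HullJ

/-!
# Finiteness of `T¹` for an affine scheme with finite non-smooth locus (helper18)
-/

set_option autoImplicit false
set_option linter.style.haveILetI false
set_option linter.unusedSectionVars false
universe u

namespace Groth.Agent.Lib.Helper18.HullK

open Groth.Agent.Lib.Helper18.HullH Groth.Agent.Lib.Helper18.HullI Groth.Agent.Lib.Helper18.HullJ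

variable {k B₀ M : Type u} [Field k] [CommRing B₀] [Algebra k B₀] {n : ℕ}
  [Algebra (MvPolynomial (Fin n) k) B₀] [IsScalarTower k (MvPolynomial (Fin n) k) B₀]
  [AddCommGroup M] [Module B₀ M] [Module k M] [IsScalarTower k B₀ M]
  [Module (MvPolynomial (Fin n) k) M] [IsScalarTower (MvPolynomial (Fin n) k) B₀ M]
  [IsScalarTower k (MvPolynomial (Fin n) k) M]

variable (k B₀ M n) in
/-- the submodule of restrictions of derivations -/
def derSub : Submodule (MvPolynomial (Fin n) k)
    (RingHom.ker (algebraMap (MvPolynomial (Fin n) k) B₀) →ₗ[MvPolynomial (Fin n) k] M) where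
  carrier := {g | ∃ d : Derivation k (MvPolynomial (Fin n) k) M, derRestrict d = g}
  zero_mem' := ⟨0, LinearMap.ext fun s => rfl⟩
  add_mem' := by
    rintro _ _ ⟨d, rfl⟩ ⟨d', rfl⟩
    exact ⟨d + d', LinearMap.ext fun s => rfl⟩
  smul_mem' := by
    rintro p _ ⟨d, rfl⟩
    exact ⟨p • d, LinearMap.ext fun s => rfl⟩

theorem exists_T1_gens (hs : Function.Surjective (algebraMap (MvPolynomial (Fin n) k) B₀))
    [Module.Finite (MvPolynomial (Fin n) k) M]
    (Z : Set (PrimeSpectrum B₀)) (hZ : Z.Finite)
    (hsm : ∀ q : PrimeSpectrum B₀, q ∉ Z →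
      ∃ b : B₀, b ∉ q.asIdeal ∧ Algebra.FormallySmooth k (Localization.Away b)) :
    ∃ (r : ℕ) (G : Fin r →
        (RingHom.ker (algebraMap (MvPolynomial (Fin n) k) B₀) →ₗ[MvPolynomial (Fin n) k] M)),
      ∀ g : RingHom.ker (algebraMap (MvPolynomial (Fin n) k) B₀) →ₗ[MvPolynomial (Fin n) k] M,
        ∃ (l : Fin r → k) (d : Derivation k (MvPolynomial (Fin n) k) M),
          g = ∑ j, l j • G j + derRestrict d := by
  classical
  let D := derSub k B₀ M n
  let T := (RingHom.ker (algebraMap (MvPolynomial (Fin n) k) B₀) →ₗ[MvPolynomial (Fin n) k] M) ⧸ D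
  have hsupp : (Module.support (MvPolynomial (Fin n) k) T).Finite := by
    refine (hZ.image (PrimeSpectrum.comap (algebraMap (MvPolynomial (Fin n) k) B₀))).subset ?_
    intro q hq
    by_contra hqZ
    refine absurd hq ?_
    rw [Module.notMem_support_iff']
    intro t
    obtain ⟨g, rfl⟩ := Submodule.Quotient.mk_surjective D t
    by_cases hIq : RingHom.ker (algebraMap (MvPolynomial (Fin n) k) B₀) ≤ q.asIdeal
    · have hq' : q ∈ Set.range (PrimeSpectrum.comap (algebraMap (MvPolynomial (Fin n) k) B₀)) := by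
        rw [range_comap_of_surjective _ _ hs]
        exact hIq
      obtain ⟨q', rfl⟩ := hq'
      have hq'Z : q' ∉ Z := fun h => hqZ ⟨q', h, rfl⟩
      obtain ⟨b, hb, hsmb⟩ := hsm q' hq'Z
      obtain ⟨f, rfl⟩ := hs b
      obtain ⟨K, d, hd⟩ := exists_der_of_smooth hs f
        (Localization.Away (algebraMap (MvPolynomial (Fin n) k) B₀ f)) g
      refine ⟨f ^ K, ?_, ?_⟩
      · intro hmem
        have hmem' : algebraMap (MvPolynomial (Fin n) k) B₀ f ^ K ∈ q'.asIdeal := by
          rw [← map_pow]; exact hmem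
        exact hb (Ideal.IsPrime.mem_of_pow_mem inferInstance K hmem')
      · rw [← Submodule.Quotient.mk_smul, Submodule.Quotient.mk_eq_zero]
        exact ⟨d, hd⟩
    · obtain ⟨h, hhI, hhq⟩ := SetLike.not_le_iff_exists.1 hIq
      refine ⟨h, hhq, ?_⟩
      rw [← Submodule.Quotient.mk_smul, Submodule.Quotient.mk_eq_zero]
      have : h • g = 0 := by
        apply LinearMap.ext
        intro s
        change h • g s = 0
        rw [← algebraMap_smul B₀ h (g s), RingHom.mem_ker.1 hhI, zero_smul]
      rw [this]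
      exact D.zero_mem
  haveI : Module.Finite k T := finite_of_support_finite hsupp
  obtain ⟨r, s, hs'⟩ := Module.Finite.exists_fin (R := k) (M := T)
  choose G hG using fun j => Submodule.Quotient.mk_surjective D (s j)
  refine ⟨r, G, fun g => ?_⟩
  have hmem : (Submodule.Quotient.mk g : T) ∈ Submodule.span k (Set.range s) := by
    rw [hs']; exact Submodule.mem_top
  obtain ⟨l, hl⟩ := (Submodule.mem_span_range_iff_exists_fun k).1 hmem
  have h0 : (Submodule.Quotient.mk (g - ∑ j, l j • G j) : T) = 0 := by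
    rw [Submodule.Quotient.mk_sub, ← hl, sub_eq_zero]
    change _ = D.mkQ _
    rw [map_sum]
    refine Finset.sum_congr rfl fun j _ => ?_
    rw [← hG j]
    rfl
  rw [Submodule.Quotient.mk_eq_zero] at h0
  obtain ⟨d, hd⟩ := h0
  refine ⟨l, d, ?_⟩
  rw [hd]; abel

end Groth.Agent.Lib.Helper18.HullK
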