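import Mathlib
import Groth.Prelude.Def_Exal
import Groth.Agent.Lib.Helper18.HullF
import Groth.Agent.Lib.Helper18.HullG
import Groth.Agent.Lib.Helper18.HullH
import Groth.Agent.Lib.Helper18.HullK
import Groth.Agent.Lib.Helper19.ArtFunSchlessinger

/-!
# Finite dimensionality of the tangent space of the deformation functor of an affine scheme
with finite non-smooth locus (helper18)
-/

set_option autoImplicit false
set_option linter.style.haveILetI false
set_option linter.unusedSectionVars false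
universe u

open CategoryTheory CategoryTheory.Limits AlgebraicGeometry TensorProduct

namespace Groth.Agent.Lib.Helper18.HullL

open ArtFun ArtFun.Art Groth.Agent.Lib.Helper18.DefLam Groth.Agent.Lib.Helper18.HullB
  Groth.Agent.Lib.Helper18.HullD Groth.Agent.Lib.Helper18.HullH
  Groth.Agent.Lib.Helper18.HullK Groth.Agent.Lib.Helper19.ArtFunTangent
  Groth.Agent.Lib.Helper19.ArtFunSchlessinger

variable {Λ k : Type u} [CommRing Λ] [Field k] [Algebra Λ k] {B₀ : Type u}
  [CommRing B₀] [Algebra k B₀]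

section Equiv

variable {V : Type u} [AddCommGroup V] [Module k V] [Module kᵐᵒᵖ V] [SMulCommClass k kᵐᵒᵖ V]
  [IsCentralScalar k V] [Module Λ V] [IsScalarTower Λ k V] [IsScalarTower Λ kᵐᵒᵖ V]
  [Module.Finite k V]

theorem iso_of_equiv (X Y : Exal.Ext k B₀ (B₀ ⊗[k] V)) (e : Exal.Ext.Equiv X Y) :
    Nonempty (DefSch.Iso (HullF.toAData Λ X).toDefSch (HullF.toAData Λ Y).toDefSch) := by
  refine (iso_iff (HullF.toAData Λ X) (HullF.toAData Λ Y)).mpr
    ⟨e.toAlgEquiv.toRingEquiv, ?_, fun r => e.proj_apply r⟩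
  intro a
  change e.toAlgEquiv (HullF.toE X a) = HullF.toE Y a
  rw [HullF.toE_apply, HullF.toE_apply, map_add, AlgEquiv.commutes, e.apply_incl]

theorem cl_eq_of_equiv (X Y : Exal.Ext k B₀ (B₀ ⊗[k] V)) (e : Nonempty (Exal.Ext.Equiv X Y)) :
    ((HullF.toAData Λ X).toDefSch.cl : (FF Λ k B₀).obj (tsz Λ k V)) =
      (HullF.toAData Λ Y).toDefSch.cl := by
  obtain ⟨e⟩ := e
  exact cl_eq_iff.mpr (iso_of_equiv X Y e)

end Equiv

section Maps

variable {n : ℕ} [Algebra (MvPolynomial (Fin n) k) B₀]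
  [IsScalarTower k (MvPolynomial (Fin n) k) B₀]

variable (B₀ n) in
/-- the `j`-th coordinate inclusion -/
noncomputable def inj (r : ℕ) (j : Fin r) :
    B₀ ⊗[k] k →ₗ[MvPolynomial (Fin n) k] B₀ ⊗[k] (Fin r → k) :=
  TensorProduct.AlgebraTensorModule.map (LinearMap.id : B₀ →ₗ[MvPolynomial (Fin n) k] B₀)
    (LinearMap.toSpanSingleton k (Fin r → k) (Pi.single j 1))

variable (B₀ n) in
/-- the map induced by a functional -/
noncomputable def lam {r : ℕ} (l : (Fin r → k) →ₗ[k] k) :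
    B₀ ⊗[k] (Fin r → k) →ₗ[MvPolynomial (Fin n) k] B₀ ⊗[k] k :=
  TensorProduct.AlgebraTensorModule.map (LinearMap.id : B₀ →ₗ[MvPolynomial (Fin n) k] B₀) l

theorem lam_eq {r : ℕ} (l : (Fin r → k) →ₗ[k] k) (z : B₀ ⊗[k] (Fin r → k)) :
    lam B₀ n l z = l.lTensor B₀ z := by
  induction z using TensorProduct.induction_on with
  | zero => rw [map_zero, map_zero]
  | tmul b v =>
    rw [LinearMap.lTensor_tmul]
    rfl
  | add x y hx hy => rw [map_add, map_add, hx, hy]

theorem lam_inj {r : ℕ} (l : (Fin r → k) →ₗ[k] k) (j : Fin r) (z : B₀ ⊗[k] k) :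
    lam B₀ n l (inj B₀ n r j z) = l (Pi.single j 1) • z := by
  induction z using TensorProduct.induction_on with
  | zero => rw [map_zero, map_zero, smul_zero]
  | tmul b c =>
    change b ⊗ₜ[k] l (c • Pi.single j 1) = _
    rw [map_smul, smul_eq_mul, mul_comm, ← smul_eq_mul, TensorProduct.tmul_smul]
  | add x y hx hy => rw [map_add, map_add, hx, hy, smul_add]

end Maps

section Family

variable {n : ℕ} [Algebra (MvPolynomial (Fin n) k) B₀]
  [IsScalarTower k (MvPolynomial (Fin n) k) B₀]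

theorem exists_family (hs : Function.Surjective (algebraMap (MvPolynomial (Fin n) k) B₀))
    {r : ℕ} (G : Fin r → (RingHom.ker (algebraMap (MvPolynomial (Fin n) k) B₀)
      →ₗ[MvPolynomial (Fin n) k] B₀ ⊗[k] k))
    (hG : ∀ g : RingHom.ker (algebraMap (MvPolynomial (Fin n) k) B₀)
        →ₗ[MvPolynomial (Fin n) k] B₀ ⊗[k] k,
      ∃ (l : Fin r → k) (d : Derivation k (MvPolynomial (Fin n) k) (B₀ ⊗[k] k)),
        g = ∑ j, l j • G j + derRestrict d)
    [T : TangentStr (FF Λ k B₀)] :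
    ∃ ξ : (FF Λ k B₀).obj (tsz Λ k (Fin r → k)), Function.Surjective (tanLin ξ) := by
  classical
  let gV : RingHom.ker (algebraMap (MvPolynomial (Fin n) k) B₀)
      →ₗ[MvPolynomial (Fin n) k] B₀ ⊗[k] (Fin r → k) := ∑ j, (inj B₀ n r j).comp (G j)
  let XV := Eg k gV hs
  refine ⟨(HullF.toAData Λ XV).toDefSch.cl, ?_⟩
  intro τ
  obtain ⟨D, hD⟩ := exists_adata_cl (Λ := Λ) (k := k) (B₀ := B₀) (A := tsz Λ k k) τ
  let Y := HullG.ofAData D
  choose y hy using fun i : Fin n =>
    Y.isExtension.proj_surjective (algebraMap (MvPolynomial (Fin n) k) B₀ (MvPolynomial.X i))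
  let fY : MvPolynomial (Fin n) k →ₐ[k] Y.E := MvPolynomial.aeval y
  have hfY : IsLift Y fY := by
    intro p
    have : (Y.proj.comp fY) = IsScalarTower.toAlgHom k (MvPolynomial (Fin n) k) B₀ := by
      apply MvPolynomial.algHom_ext
      intro i
      change Y.proj (MvPolynomial.aeval y (MvPolynomial.X i)) = _
      rw [MvPolynomial.aeval_X, hy]
      rfl
    exact DFunLike.congr_fun this p
  obtain ⟨l, d, hld⟩ := hG (gOf Y fY hfY)
  let lv : (Fin r → k) →ₗ[k] k := ∑ j, l j • (LinearMap.proj j : (Fin r → k) →ₗ[k] k)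
  have hlv : ∀ j, lv (Pi.single j 1) = l j := by
    intro j
    change (∑ i, l i • (LinearMap.proj i : (Fin r → k) →ₗ[k] k)) (Pi.single j 1) = l j
    rw [LinearMap.sum_apply, Finset.sum_eq_single j]
    · rw [LinearMap.smul_apply, LinearMap.proj_apply, Pi.single_eq_same, smul_eq_mul, mul_one]
    · intro i _ hij
      rw [LinearMap.smul_apply, LinearMap.proj_apply, Pi.single_eq_of_ne hij, smul_zero]
    · intro h; exact absurd (Finset.mem_univ j) h
  refine ⟨lv, ?_⟩
  rw [tanLin_apply]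
  let g1 : RingHom.ker (algebraMap (MvPolynomial (Fin n) k) B₀)
      →ₗ[MvPolynomial (Fin n) k] B₀ ⊗[k] k := ∑ j, l j • G j
  have hcomp : ∀ s, lam B₀ n lv (gV s) = g1 s := by
    intro s
    change lam B₀ n lv ((∑ j, (inj B₀ n r j).comp (G j)) s) = (∑ j, l j • G j) s
    rw [LinearMap.sum_apply, LinearMap.sum_apply, map_sum]
    refine Finset.sum_congr rfl fun j _ => ?_
    rw [LinearMap.comp_apply, lam_inj (n := n), hlv, LinearMap.smul_apply]
  obtain ⟨θ, hθp, hθi⟩ := hom_of_lifts hs XV (Eg k g1 hs) (lam B₀ n lv) (fg k gV hs)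
    (fg_isLift k gV hs) (fg k g1 hs) (fg_isLift k g1 hs) (by
      intro h m hm
      have h0 : algebraMap (MvPolynomial (Fin n) k) B₀ h = 0 := by
        have := congrArg XV.proj hm
        rwa [fg_isLift k gV hs, HullH.proj_incl] at this
      have h1 := fg_ker k gV hs (mkI h h0)
      have h2 : m = gV (mkI h h0) := XV.isExtension.incl_injective (hm.symm.trans h1)
      rw [h2, hcomp]
      exact fg_ker k g1 hs (mkI h h0))
  have hbc := HullF.bc_iso (Λ := Λ) XV (Eg k g1 hs) lv θ.toRingHom (fun c => θ.commutes c) hθp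
    (fun z => by rw [← lam_eq (n := n)]; exact hθi z)
  have e1 : (FF Λ k B₀).map (tszHom lv : tsz Λ k (Fin r → k) ⟶ tsz Λ k k)
      (HullF.toAData Λ XV).toDefSch.cl = (HullF.toAData Λ (Eg k g1 hs)).toDefSch.cl :=
    cl_eq_iff.mpr hbc
  have e2 := cl_eq_of_equiv (Λ := Λ) _ _ (equiv_add_der hs g1 d)
  have e3 := cl_eq_of_equiv (Λ := Λ) _ _ (equiv_Eg hs Y fY hfY)
  rw [hld] at e3
  have e4 : ((HullF.toAData Λ Y).toDefSch.cl : (FF Λ k B₀).obj (tsz Λ k k)) = D.toDefSch.cl :=
    cl_eq_iff.mpr (HullG.toAData_ofAData D)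
  exact (e1.trans (e2.trans (e3.trans e4))).trans hD.symm

end Family

/-- the tangent space of the deformation functor of `Spec B₀` is finite dimensional when `B₀` is
of finite type with finite non-smooth locus. -/
theorem hfin [Algebra.FiniteType k B₀] (Z : Set (PrimeSpectrum B₀)) (hZ : Z.Finite)
    (hsm : ∀ q : PrimeSpectrum B₀, q ∉ Z →
      ∃ b : B₀, b ∉ q.asIdeal ∧ Algebra.FormallySmooth k (Localization.Away b))
    [T : TangentStr (FF Λ k B₀)] : Hfin (FF Λ k B₀) := by
  classical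
  obtain ⟨n, φ, hφ⟩ := Algebra.FiniteType.iff_quotient_mvPolynomial''.1
    (inferInstance : Algebra.FiniteType k B₀)
  letI : Algebra (MvPolynomial (Fin n) k) B₀ := φ.toRingHom.toAlgebra
  haveI : IsScalarTower k (MvPolynomial (Fin n) k) B₀ :=
    IsScalarTower.of_algebraMap_eq (fun c => (φ.commutes c).symm)
  have hs : Function.Surjective (algebraMap (MvPolynomial (Fin n) k) B₀) := hφ
  haveI : Module.Finite (MvPolynomial (Fin n) k) B₀ :=
    Module.Finite.of_surjective (Algebra.linearMap _ _) hs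
  haveI : Module.Finite (MvPolynomial (Fin n) k) (B₀ ⊗[k] k) := Module.Finite.trans B₀ _
  obtain ⟨r, G, hG⟩ := exists_T1_gens (M := B₀ ⊗[k] k) hs Z hZ hsm
  obtain ⟨ξ, hξ⟩ := exists_family (Λ := Λ) hs G hG
  exact Module.Finite.of_surjective (tanLin ξ) hξ

end Groth.Agent.Lib.Helper18.HullL
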