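import Mathlib
import Groth.Prelude.Def_ArtFun5
import Groth.Agent.Lib.Helper18.HullL
import Groth.Agent.Lib.Helper19.ArtFunHull
import Groth.Agent.S12726

/-!
# A hull for the deformation functor of an affine scheme with finite non-smooth locus (helper18)
-/

set_option autoImplicit false
set_option linter.style.haveILetI false
set_option linter.unusedSectionVars false
universe u v

open CategoryTheory CategoryTheory.Limits AlgebraicGeometry TensorProduct

namespace Groth.Agent.Lib.Helper18.HullM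

open ArtFun ArtFun.Art Groth.Agent.Lib.Helper18.HullD Groth.Agent.Lib.Helper18.HullE
  Groth.Agent.Lib.Helper18.HullL

variable {Λ k : Type u} [CommRing Λ] [Field k] [Algebra Λ k]

theorem hasHull_FF [IsNoetherianRing Λ] (hk : Function.Surjective (algebraMap Λ k))
    {B₀ : Type u} [CommRing B₀] [Algebra k B₀] [Algebra.FiniteType k B₀]
    (Z : Set (PrimeSpectrum B₀)) (hZ : Z.Finite)
    (hsm : ∀ q : PrimeSpectrum B₀, q ∉ Z →
      ∃ b : B₀, b ∉ q.asIdeal ∧ Algebra.FormallySmooth k (Localization.Away b)) :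
    HasHull (FF Λ k B₀) := by
  haveI : Module.Finite Λ k := Module.Finite.of_surjective (Algebra.linearMap Λ k) hk
  obtain ⟨T⟩ := Groth.Agent.S12726.result (FF Λ k B₀) h0 heps
  obtain ⟨R, ξ, hξ⟩ := Groth.Agent.Lib.Helper19.ArtFunHull.exists_hull_of_surjective hk
    (F := FF Λ k B₀) h0 s1 heps (hfin Z hZ hsm)
  exact ⟨⟨R, ξ, hξ⟩⟩

/-- transfer of a hull along an objectwise bijective natural family of maps -/
theorem hasHull_of_bij {F' F : Art Λ k ⥤ Type v} (η : ∀ A, F'.obj A → F.obj A)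
    (hnat : ∀ {A B : Art Λ k} (g : A ⟶ B) (z : F'.obj A), η B (F'.map g z) = F.map g (η A z))
    (hbij : ∀ A, Function.Bijective (η A)) (h : HasHull F') : HasHull F := by
  obtain ⟨⟨R, ξ, hv, hb⟩⟩ := h
  let ξ' : Family R.carrier R.res F :=
    { app := fun A φ => η A (ξ.app A φ)
      natural := fun f φ => by rw [ξ.natural, hnat] }
  refine ⟨⟨R, ξ', ?_, ?_⟩⟩
  · intro B A μ hμ φ y hy
    obtain ⟨y', rfl⟩ := (hbij B).2 y
    have h1 : F'.map μ y' = ξ.app A φ := by
      apply (hbij A).1
      rw [hnat]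
      exact hy
    obtain ⟨ψ, hψ1, hψ2⟩ := hv μ hμ φ y' h1
    exact ⟨ψ, hψ1, congrArg (η B) hψ2⟩
  · exact (hbij _).comp hb

end Groth.Agent.Lib.Helper18.HullM
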