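import Mathlib
import Groth.Prelude.Def_ArtFun5
import Groth.Agent.Lib.Helper18.HullM

/-!
# Invariance of the deformation functor under isomorphisms of the special fibre (helper18)
-/

set_option autoImplicit false
set_option linter.style.haveILetI false
set_option linter.unusedSectionVars false
universe u v

open CategoryTheory CategoryTheory.Limits AlgebraicGeometry

namespace Groth.Agent.Lib.Helper18.HullN

open ArtFun ArtFun.Art

variable {Λ k : Type u} [CommRing Λ] [Field k] [Algebra Λ k]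

variable {X X' : Scheme.{u}} {x : X ⟶ specPt k} {x' : X' ⟶ specPt k} (e : X ≅ X')
  (he : e.hom ≫ x' = x)

/-- transport of a deformation along an isomorphism of the special fibre -/
noncomputable def tr {A : Art Λ k} (ξ : DefSch X' x' A) : DefSch X x A where
  total := ξ.total
  f := ξ.f
  flat := ξ.flat
  i := e.hom ≫ ξ.i
  isPullback := by
    refine IsPullback.of_iso ξ.isPullback e.symm (Iso.refl _) (Iso.refl _) (Iso.refl _) ?_ ?_ ?_ ?_
    · rw [Iso.refl_hom, Category.comp_id, Iso.symm_hom, Iso.inv_hom_id_assoc]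
    · rw [Iso.refl_hom, Category.comp_id, Iso.symm_hom, ← he, Iso.inv_hom_id_assoc]
    · simp only [Iso.refl_hom, Category.comp_id, Category.id_comp]
    · simp only [Iso.refl_hom, Category.comp_id, Category.id_comp]

theorem tr_iso_iff {A : Art Λ k} (ξ ξ' : DefSch X' x' A) :
    Nonempty (DefSch.Iso (tr e he ξ) (tr e he ξ')) ↔ Nonempty (DefSch.Iso ξ ξ') := by
  constructor
  · rintro ⟨I⟩
    refine ⟨⟨I.iso, I.hom_f, ?_⟩⟩
    have h := I.i_hom
    change (e.hom ≫ ξ.i) ≫ I.iso.hom = e.hom ≫ ξ'.i at h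
    rw [Category.assoc] at h
    exact (cancel_epi e.hom).1 h
  · rintro ⟨I⟩
    refine ⟨⟨I.iso, I.hom_f, ?_⟩⟩
    change (e.hom ≫ ξ.i) ≫ I.iso.hom = e.hom ≫ ξ'.i
    rw [Category.assoc, I.i_hom]

theorem tr_baseChange {A B : Art Λ k} (g : A ⟶ B) (ξ : DefSch X' x' A) :
    Nonempty (DefSch.Iso (tr e he (ξ.baseChange g)) ((tr e he ξ).baseChange g)) := by
  have hi : e.hom ≫ (ξ.baseChange g).i = ((tr e he ξ).baseChange g).i := by
    apply pullback.hom_ext
    · change (e.hom ≫ (ξ.baseChange g).i) ≫ pullback.fst ξ.f (specMap g) =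
        ((tr e he ξ).baseChange g).i ≫ pullback.fst (tr e he ξ).f (specMap g)
      rw [Category.assoc, DefSch.baseChange_i_fst, DefSch.baseChange_i_fst]
      rfl
    · change (e.hom ≫ (ξ.baseChange g).i) ≫ (ξ.baseChange g).f =
        ((tr e he ξ).baseChange g).i ≫ ((tr e he ξ).baseChange g).f
      rw [Category.assoc, DefSch.baseChange_i_f, DefSch.baseChange_i_f, ← Category.assoc, he]
  refine ⟨⟨Iso.refl (pullback ξ.f (specMap g)), Category.id_comp _, ?_⟩⟩
  change (e.hom ≫ (ξ.baseChange g).i) ≫ 𝟙 (pullback ξ.f (specMap g)) = _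
  rw [Category.comp_id]
  exact hi

theorem tr_surj {A : Art Λ k} (ζ : DefSch X x A) :
    ∃ ξ : DefSch X' x' A, Nonempty (DefSch.Iso (tr e he ξ) ζ) := by
  have he' : e.symm.hom ≫ x = x' := by rw [Iso.symm_hom, ← he, Iso.inv_hom_id_assoc]
  refine ⟨tr e.symm he' ζ, ⟨⟨Iso.refl ζ.total, Category.id_comp _, ?_⟩⟩⟩
  change (e.hom ≫ e.symm.hom ≫ ζ.i) ≫ 𝟙 ζ.total = ζ.i
  rw [Category.comp_id, Iso.symm_hom, Iso.hom_inv_id_assoc]

/-- the induced map on deformation functors -/
noncomputable def eta (A : Art Λ k) :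
    (defFunctor (Λ := Λ) X' x').obj A → (defFunctor (Λ := Λ) X x).obj A :=
  Quotient.map' (tr e he) (fun ξ ξ' h => (tr_iso_iff e he ξ ξ').2 h)

theorem eta_cl {A : Art Λ k} (ξ : DefSch X' x' A) : eta e he A ξ.cl = (tr e he ξ).cl := rfl

theorem eta_nat {A B : Art Λ k} (g : A ⟶ B) (z : (defFunctor (Λ := Λ) X' x').obj A) :
    eta e he B ((defFunctor (Λ := Λ) X' x').map g z) =
      (defFunctor (Λ := Λ) X x).map g (eta e he A z) := by
  induction z using Quotient.inductionOn with
  | h ξ => exact Quotient.sound (tr_baseChange e he g ξ)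

theorem eta_bij (A : Art Λ k) : Function.Bijective (eta (Λ := Λ) e he A) := by
  constructor
  · intro z z' h
    induction z using Quotient.inductionOn with
    | h ξ =>
      induction z' using Quotient.inductionOn with
      | h ξ' => exact Quotient.sound ((tr_iso_iff e he ξ ξ').1 (Quotient.exact h))
  · intro w
    induction w using Quotient.inductionOn with
    | h ζ =>
      obtain ⟨ξ, hξ⟩ := tr_surj e he ζ
      exact ⟨ξ.cl, Quotient.sound hξ⟩

include e he in
theorem hasHull_of_iso (h : HasHull (defFunctor (Λ := Λ) X' x')) :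
    HasHull (defFunctor (Λ := Λ) X x) :=
  HullM.hasHull_of_bij (eta e he) (fun g z => eta_nat e he g z) (eta_bij e he) h

end Groth.Agent.Lib.Helper18.HullN
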