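import Mathlib
import Groth.Prelude.Def_ArtFun5
import Groth.Agent.Lib.Helper18.HullM
import Groth.Agent.Lib.Helper18.HullN

/-!
# A hull for the deformation functor of an affine scheme of finite type with finite non-smooth
locus (helper18)
-/

set_option autoImplicit false
set_option linter.style.haveILetI false
set_option linter.unusedSectionVars false
universe u

open CategoryTheory CategoryTheory.Limits AlgebraicGeometry

namespace Groth.Agent.Lib.Helper18.HullO

open ArtFun ArtFun.Art

theorem main (Λ k : Type u) [CommRing Λ] [IsNoetherianRing Λ] [Field k] [Algebra Λ k]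
    (hk : Function.Surjective (algebraMap Λ k))
    (X : Scheme.{u}) [IsAffine X] (x : X ⟶ Spec (CommRingCat.of k)) [LocallyOfFiniteType x]
    (U : X.Opens) (hU : Smooth (U.ι ≫ x)) (hfin : ((U : Set X)ᶜ).Finite) :
    ArtFun.HasHull (ArtFun.defFunctor (Λ := Λ) X x) := by
  classical
  let φ : CommRingCat.of k ⟶ Γ(X, ⊤) := Spec.preimage (X.isoSpec.inv ≫ x)
  have hφ : Spec.map φ = X.isoSpec.inv ≫ x := Spec.map_preimage _
  let B₀ : Type u := Γ(X, ⊤)
  letI : Algebra k B₀ := φ.hom.toAlgebra
  haveI : Algebra.FiniteType k B₀ := by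
    have h1 : LocallyOfFiniteType (Spec.map φ) := by rw [hφ]; infer_instance
    exact (HasRingHomProperty.Spec_iff (P := @LocallyOfFiniteType)).1 h1
  let e : X ≅ Spec (CommRingCat.of B₀) := X.isoSpec
  have hx : e.hom ≫ Spec.map (CommRingCat.ofHom (algebraMap k B₀)) = x := by
    change X.isoSpec.hom ≫ Spec.map φ = x
    rw [hφ, Iso.hom_inv_id_assoc]
  refine HullN.hasHull_of_iso e hx ?_
  let Z : Set (PrimeSpectrum B₀) := {q | X.isoSpec.inv (q : Spec Γ(X, ⊤)) ∉ U}
  have hinv : ∀ q : Spec Γ(X, ⊤), X.isoSpec.hom (X.isoSpec.inv q) = q := by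
    intro q
    rw [← Scheme.Hom.comp_apply, Iso.inv_hom_id]
    rfl
  have hZ : Z.Finite := by
    have hinj : Function.Injective (fun q : PrimeSpectrum B₀ => X.isoSpec.inv (q : Spec Γ(X, ⊤))) :=
      Function.LeftInverse.injective (g := fun p => X.isoSpec.hom p) hinv
    exact hfin.preimage hinj.injOn
  have hsm : ∀ q : PrimeSpectrum B₀, q ∉ Z →
      ∃ b : B₀, b ∉ q.asIdeal ∧ Algebra.FormallySmooth k (Localization.Away b) := by
    intro q hq
    have hp : X.isoSpec.inv (q : Spec Γ(X, ⊤)) ∈ U := not_not.1 hq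
    obtain ⟨f, hfU, hpf⟩ := (isAffineOpen_top X).exists_basicOpen_le (V := U)
      ⟨X.isoSpec.inv (q : Spec Γ(X, ⊤)), hp⟩ trivial
    refine ⟨f, ?_, ?_⟩
    · have hpf' : X.isoSpec.inv (q : Spec Γ(X, ⊤)) ∈ X.basicOpen f := hpf
      rw [← Scheme.map_PrimeSpectrum_basicOpen_of_affine X f] at hpf'
      change X.isoSpec.hom (X.isoSpec.inv (q : Spec Γ(X, ⊤))) ∈ PrimeSpectrum.basicOpen f at hpf'
      rw [hinv] at hpf'
      exact hpf'
    · have hV : IsAffineOpen (X.basicOpen f) := (isAffineOpen_top X).basicOpen f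
      let ψ : CommRingCat.of k ⟶ Γ(X, X.basicOpen f) :=
        φ ≫ X.presheaf.map (homOfLE le_top).op
      have h1 : Smooth ((X.basicOpen f).ι ≫ x) := by
        haveI := hU
        rw [← X.homOfLE_ι hfU, Category.assoc]
        infer_instance
      have h2 : Spec.map ψ = hV.fromSpec ≫ x := by
        change Spec.map (φ ≫ X.presheaf.map (homOfLE le_top).op) = _
        rw [Spec.map_comp, hφ, ← hV.fromSpec_toSpecΓ, Category.assoc,
          Scheme.toSpecΓ_isoSpec_inv_assoc]
      have h3 : Smooth (Spec.map ψ) := by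
        rw [h2, IsAffineOpen.fromSpec, Category.assoc]
        infer_instance
      have h4 : RingHom.Smooth ψ.hom := (HasRingHomProperty.Spec_iff (P := @Smooth)).1 h3
      letI : Algebra k Γ(X, X.basicOpen f) := ψ.hom.toAlgebra
      haveI : IsScalarTower k B₀ Γ(X, X.basicOpen f) :=
        IsScalarTower.of_algebraMap_eq (fun c => rfl)
      have h5 : Algebra.Smooth k Γ(X, X.basicOpen f) := h4
      haveI : Algebra.FormallySmooth k Γ(X, X.basicOpen f) := h5.formallySmooth
      haveI : IsLocalization.Away f Γ(X, X.basicOpen f) := isLocalization_away_of_isAffine f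
      exact Algebra.FormallySmooth.of_equiv
        ((IsLocalization.algEquiv (Submonoid.powers f) Γ(X, X.basicOpen f)
          (Localization.Away f)).restrictScalars k)
  exact HullM.hasHull_FF hk Z hZ hsm

end Groth.Agent.Lib.Helper18.HullO
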