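import Mathlib
import Groth.Agent.Lib.Helper2.InjAmp

/-!
# Injective amplitude in a general abelian category with enough injectives (helper18)

If `L ∈ D(C)` is cohomologically bounded below and `Hom(F[-j], L) = 0` for all objects `F` and all
`j > m`, then `Hom(K, L) = 0` for every `K ∈ D^{≥ m+1}(C)`.
-/

set_option autoImplicit false
set_option linter.style.haveILetI false
universe w v u
open CategoryTheory CategoryTheory.Limits DerivedCategory

namespace Groth.Agent.Lib.Helper18.InjAmpG

open Groth.Agent.Lib.Helper2 Groth.Agent.Lib.Helper2.InjAmp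

variable {C : Type u} [Category.{v} C] [Abelian C] [HasDerivedCategory.{w} C] [EnoughInjectives C]

/-- no maps from `D^{≥ m+1}` to an object of injective amplitude `≤ m`. -/
theorem hom_eq_zero_of_vanishAt (L : DerivedCategory C) (a m : ℤ) [L.IsGE a]
    (hL : ∀ j : ℤ, m < j → VanishAt L j) (K : DerivedCategory C) [K.IsGE (m + 1)]
    (f : K ⟶ L) : f = 0 := by
  obtain ⟨L', _, ⟨eL⟩⟩ := DerivedCategory.exists_iso_Q_obj_of_isGE L a
  obtain ⟨I, i, _, hinj, _⟩ :=
    CochainComplex.Plus.modelCategoryQuillen.exists_quasiIso_injective L' a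
  haveI : I.IsKInjective := CochainComplex.isKInjective_of_injective I a
  let eI : L ≅ Q.obj I := eL ≪≫ asIso (Q.map i)
  have hI : ∀ j : ℤ, m < j → VanishAt (Q.obj I) j := fun j hj => (hL j hj).of_iso eI
  have hH : ∀ j : ℤ, m < j → IsZero (I.homology j) := fun j hj =>
    isZero_homology_of_vanishAt (hI j hj)
  haveI := hinj m
  have hZ : Injective (I.cycles m) := injective_cycles (hI (m + 1) (by omega))
  obtain ⟨hinj', hq, hle, hge⟩ := truncLE_properties I a m hinj hZ hH
  haveI := hq
  haveI := hle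
  haveI := hge
  haveI := hinj'
  haveI : (I.truncLE m).IsKInjective := CochainComplex.isKInjective_of_injective (I.truncLE m) a
  let eT : L ≅ Q.obj (I.truncLE m) := eI ≪≫ (asIso (Q.map (I.ιTruncLE m))).symm
  obtain ⟨K', _, ⟨eK⟩⟩ := DerivedCategory.exists_iso_Q_obj_of_isGE K (m + 1)
  obtain ⟨φ, hφ⟩ := KInjQ.Q_map_surjective_of_isKInjective K' (I.truncLE m)
    (eK.inv ≫ f ≫ eT.hom)
  have hφ0 : φ = 0 := by
    ext j : 1
    by_cases hj : m < j
    · exact ((I.truncLE m).isZero_of_isStrictlyLE m j hj).eq_of_tgt _ _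
    · exact (K'.isZero_of_isStrictlyGE (m + 1) j (by omega)).eq_of_src _ _
  rw [hφ0, Functor.map_zero] at hφ
  have h1 : f ≫ eT.hom = 0 := by
    rw [← cancel_epi eK.inv, comp_zero]
    exact hφ.symm
  rw [← cancel_mono eT.hom, zero_comp]
  exact h1

end Groth.Agent.Lib.Helper18.InjAmpG
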