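import Mathlib
import Groth.Agent.Lib.Helper18.InjAmpG

/-!
# Injective amplitude in `D⁺` (helper18)
-/

set_option autoImplicit false
set_option linter.style.haveILetI false
universe w v u
open CategoryTheory CategoryTheory.Limits DerivedCategory

namespace Groth.Agent.Lib.Helper18.InjAmpG

open Groth.Agent.Lib.Helper2 Groth.Agent.Lib.Helper2.InjAmp

variable {C : Type u} [Category.{v} C] [Abelian C] [HasDerivedCategory.{w} C] [EnoughInjectives C]

/-- `D⁺` version of `hom_eq_zero_of_vanishAt`. -/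
theorem plus_hom_eq_zero (L : DerivedCategory.Plus C) (a m : ℤ) [L.IsGE a]
    (hL : ∀ (F : C) (j : ℤ), m < j →
      Subsingleton ((DerivedCategory.Plus.singleFunctor C 0).obj F ⟶ L⟦j⟧))
    (K : DerivedCategory.Plus C) [K.IsGE (m + 1)] (f : K ⟶ L) : f = 0 := by
  apply DerivedCategory.Plus.ι.map_injective
  rw [Functor.map_zero]
  refine hom_eq_zero_of_vanishAt (DerivedCategory.Plus.ι.obj L) a m ?_
    (DerivedCategory.Plus.ι.obj K) (DerivedCategory.Plus.ι.map f)
  intro j hj
  rw [vanishAt_iff]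
  intro F φ
  let e := (DerivedCategory.Plus.ι.commShiftIso j).app L
  haveI := hL F j hj
  let ψ : DerivedCategory.Plus.ι.obj ((DerivedCategory.Plus.singleFunctor C 0).obj F) ⟶
      DerivedCategory.Plus.ι.obj (L⟦j⟧) := φ ≫ e.inv
  have h1 : ψ = DerivedCategory.Plus.ι.map (DerivedCategory.Plus.ι.preimage ψ) :=
    (Functor.map_preimage _ _).symm
  have h2 : DerivedCategory.Plus.ι.preimage ψ = 0 := Subsingleton.elim _ _
  rw [h2, Functor.map_zero] at h1
  have h3 : φ ≫ e.inv = 0 := h1
  rw [← cancel_mono e.inv, zero_comp]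
  exact h3

end Groth.Agent.Lib.Helper18.InjAmpG
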