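import Mathlib

set_option autoImplicit false
set_option linter.style.haveILetI false

/-!
# Intermediate fields of finitely generated field extensions are finitely generated

`fg_of_fg_top`: if `K / k` is a finitely generated field extension then every intermediate field
`L` is finitely generated over `k`.  No characteristic assumption.

Proof: linear disjointness of an algebraic extension and a purely transcendental one.
-/

namespace Groth.Agent.Lib.Helper18.IntFG

open IntermediateField MvPolynomial

section core

variable {k L K : Type*} [Field k] [Field L] [Field K] [Algebra k L] [Algebra L K] [Algebra k K]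
  [IsScalarTower k L K]

/-- If `L / k` is algebraic and `s` is algebraically independent over `k` (in `K ⊇ L`), a
`k`-linearly independent finite family of `L` stays linearly independent over `k[s]`. -/
theorem linearIndependent_algebraAdjoin [Algebra.IsAlgebraic k L] {ι : Type*} {s : ι → K}
    (hs : AlgebraicIndependent k s) {n : Type*} [Fintype n] {l : n → L}
    (hl : LinearIndependent k l) :
    LinearIndependent (Algebra.adjoin k (Set.range s)) (fun i => algebraMap L K (l i)) := by
  classical
  have hsL : AlgebraicIndependent L s := hs.extendScalars L
  rw [Fintype.linearIndependent_iff]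
  intro g hg i
  have hp : ∀ i, ∃ p : MvPolynomial ι k, aeval s p = (g i : K) := by
    intro i
    have h : (g i : K) ∈ (aeval s : MvPolynomial ι k →ₐ[k] K).range := by
      rw [← Algebra.adjoin_range_eq_range_aeval]
      exact (g i).2
    exact h
  choose p hp using hp
  set Q : MvPolynomial ι L := ∑ i, C (l i) * MvPolynomial.map (algebraMap k L) (p i) with hQ
  have hQ0 : aeval s Q = 0 := by
    rw [hQ, map_sum, ← hg]
    refine Finset.sum_congr rfl fun i _ => ?_
    rw [map_mul, aeval_map_algebraMap, hp, aeval_C, mul_comm]
    rfl
  have hQz : Q = 0 := hsL (by rw [hQ0, map_zero])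
  have hpi : ∀ m : ι →₀ ℕ, ∀ i, coeff m (p i) = 0 := by
    intro m
    have h1 : ∑ i, coeff m (p i) • l i = 0 := by
      have := congrArg (coeff m) hQz
      rw [hQ, coeff_sum, coeff_zero] at this
      rw [← this]
      refine Finset.sum_congr rfl fun i _ => ?_
      rw [coeff_C_mul, coeff_map, Algebra.smul_def, mul_comm]
    exact Fintype.linearIndependent_iff.mp hl (fun i => coeff m (p i)) h1
  have : p i = 0 := by
    ext m
    rw [hpi m i, coeff_zero]
  have h0 : (g i : K) = 0 := by rw [← hp, this, map_zero]
  exact Subtype.ext h0

/-- Algebraic case: an algebraic subextension of a finitely generated field extension is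
finite. -/
theorem finite_of_isAlgebraic [Algebra.IsAlgebraic k L] [Algebra.EssFiniteType k K] :
    Module.Finite k L := by
  classical
  obtain ⟨s, hs⟩ := exists_finset_isTranscendenceBasis k K
  let M := IntermediateField.adjoin k (Set.range ((↑) : s → K))
  have : Algebra.IsAlgebraic M K := hs.isAlgebraic_field
  have : Algebra.EssFiniteType M K := Algebra.EssFiniteType.of_comp k M K
  have : Module.Finite M K := Algebra.finite_of_essFiniteType_of_isAlgebraic
  have key : ∀ (t : Finset L), LinearIndependent k (fun i : t => (i : L)) →
      t.card ≤ Module.finrank M K := by
    intro t ht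
    have h1 := linearIndependent_algebraAdjoin (K := K) hs.1 ht
    have h2 : LinearIndependent M (fun i : t => algebraMap L K (i : L)) := by
      open scoped algebraAdjoinAdjoin in
      exact LinearIndependent.localization (R := Algebra.adjoin k _) M (nonZeroDivisors _) h1
    simpa using h2.fintype_card_le_finrank
  have := rank_le key
  exact Module.rank_lt_aleph0_iff.mp (this.trans_lt Cardinal.natCast_lt_aleph0)

/-- Abstract tower version: if `k → L → K` are fields with `K / k` finitely generated, then
`L / k` is finitely generated. -/
theorem essFiniteType_of_tower [Algebra.EssFiniteType k K] : Algebra.EssFiniteType k L := by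
  classical
  have : FinTrdeg k L := by
    rw [finTrdeg_iff_trdeg]
    have h1 := lift_trdeg_add_eq k L K
    have h2 := Cardinal.lift_lt_aleph0.mpr (trdeg_lt_aleph0 k K)
    rw [← h1] at h2
    exact Cardinal.lift_lt_aleph0.mp ((Cardinal.add_lt_aleph0_iff.mp h2).1)
  obtain ⟨t, ht⟩ := exists_finset_isTranscendenceBasis k L
  let F := IntermediateField.adjoin k (Set.range ((↑) : t → L))
  have : Algebra.IsAlgebraic F L := ht.isAlgebraic_field
  have : Algebra.EssFiniteType F K := Algebra.EssFiniteType.of_comp k F K
  have : Module.Finite F L := finite_of_isAlgebraic (k := F) (L := L) (K := K)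
  have : Algebra.EssFiniteType k F :=
    essFiniteType_iff.mpr (fg_adjoin_of_finite (Set.finite_range _))
  exact Algebra.EssFiniteType.comp k F L

end core

/-- Every intermediate field of a finitely generated field extension is finitely generated. -/
theorem fg_of_fg_top {k K : Type*} [Field k] [Field K] [Algebra k K]
    (h : (⊤ : IntermediateField k K).FG) (L : IntermediateField k K) : L.FG := by
  have : Algebra.EssFiniteType k K := fg_top_iff.mp h
  exact essFiniteType_iff.mp (essFiniteType_of_tower (k := k) (L := L) (K := K))

end Groth.Agent.Lib.Helper18.IntFG
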