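import Mathlib
import Groth.Agent.Lib.Helper18.DRInd
import Groth.Agent.Lib.Helper18.DRTwo
import Groth.Agent.Lib.Helper18.HomLoc7
import Groth.Agent.Lib.Helper18.UqA
import Groth.Agent.Lib.Helper18.BidB
import Groth.Agent.Lib.Helper18.DRPerf

/-!
# Testing objects of `D(A)` against residue fields (helper18)
-/

set_option autoImplicit false
set_option linter.style.haveILetI false
universe u
open CategoryTheory CategoryTheory.Limits CategoryTheory.Pretriangulated DerivedCategory

attribute [local instance] HasDerivedCategory.standard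

namespace Groth.Agent.Lib.Helper18.DR

namespace Inv

open HomLoc Uq

variable {A : Type u} [CommRing A]

/-- a functional on a module killed by a maximal ideal -/
lemma exists_functional (m : Ideal A) [hm : m.IsMaximal] {V : Type*} [AddCommGroup V] [Module A V]
    (hV : ∀ x ∈ m, ∀ v : V, x • v = 0) (v : V) (hv : v ≠ 0) :
    ∃ φ : V →ₗ[A] (A ⧸ m), φ v = 1 := by
  letI : Field (A ⧸ m) := Ideal.Quotient.field m
  have htor : Module.IsTorsionBySet A V (m : Set A) := fun v x => hV x.1 x.2 v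
  letI : Module (A ⧸ m) V := htor.module
  haveI : IsScalarTower A (A ⧸ m) V := htor.isScalarTower
  obtain ⟨ψ, hψ⟩ : ∃ ψ : Module.Dual (A ⧸ m) V, ψ v ≠ 0 := by
    by_contra hcon
    push Not at hcon
    exact hv ((Module.forall_dual_apply_eq_zero_iff (A ⧸ m) v).1 hcon)
  refine ⟨((ψ v)⁻¹ • ψ).restrictScalars A, ?_⟩
  simp [hψ]

variable (m : Ideal A)

/-- the residue field as a module -/
noncomputable abbrev kap : ModuleCat.{u} A := ModuleCat.of A (A ⧸ m)

lemma smul_kap (x : A) (hx : x ∈ m) (y : kap m) : x • y = 0 := by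
  obtain ⟨r, rfl⟩ := Submodule.Quotient.mk_surjective _ y
  change x • (Submodule.Quotient.mk r : A ⧸ m) = 0
  rw [← Submodule.Quotient.mk_smul, Submodule.Quotient.mk_eq_zero, smul_eq_mul]
  exact m.mul_mem_right r hx

lemma smul_id_kap (x : A) (hx : x ∈ m) : x • 𝟙 (kap m) = 0 := by
  apply ModuleCat.hom_ext
  apply LinearMap.ext
  intro y
  exact smul_kap m x hx y

/-- `m` kills maps to `κ[-j]` -/
lemma smul_hom_kap (x : A) (hx : x ∈ m) {X : Dual.D A} (j : ℤ) (g : X ⟶ Sg j (kap m)) :
    x • g = 0 := by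
  have h2 : x • g = g ≫ (singleFunctor (ModuleCat.{u} A) j).map (x • 𝟙 _) := by
    rw [Functor.map_smul, CategoryTheory.Functor.map_id, Linear.comp_smul, Category.comp_id]
  rw [h2, smul_id_kap m x hx, Functor.map_zero, comp_zero]

variable [hm : m.IsMaximal]

/-- elements outside `m` act injectively on maps to `κ[-j]` -/
lemma hom_kap_eq_zero_of_smul (f : A) (hf : f ∉ m) {X : Dual.D A} (j : ℤ)
    (g : X ⟶ Sg j (kap m)) (h : f • g = 0) : g = 0 := by
  obtain ⟨y, i, hi, hyi⟩ := hm.exists_inv hf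
  have h1 : (1 : A) • g = y • (f • g) + i • g := by
    rw [smul_smul, ← add_smul, hyi]
  rw [one_smul, h, smul_zero, smul_hom_kap m i hi, add_zero] at h1
  exact h1

/-- the class of objects with no maps to any `κ[-j]` -/
def NoKap (X : Dual.D A) : Prop := ∀ j : ℤ, ∀ g : X ⟶ Sg j (kap m), g = 0

lemma noKap_of_smul_id (X : Dual.D A) (f : A) (hf : f ∉ m) (h : f • 𝟙 X = 0) : NoKap m X := by
  intro j g
  refine hom_kap_eq_zero_of_smul m f hf j g ?_
  have : f • g = (f • 𝟙 X) ≫ g := by rw [Linear.smul_comp, Category.id_comp]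
  rw [this, h, zero_comp]

omit hm in
lemma NoKap.of_iso {X Y : Dual.D A} (e : X ≅ Y) (h : NoKap m X) : NoKap m Y := by
  intro j g
  have := h j (e.hom ≫ g)
  rw [← cancel_epi e.hom, this, comp_zero]

omit hm in
lemma NoKap.of_isZero {X : Dual.D A} (h : IsZero X) : NoKap m X := fun j g => h.eq_of_src _ _

omit hm in
lemma NoKap.of_triangle (T : Triangle (Dual.D A)) (hT : T ∈ distTriang (Dual.D A))
    (h₁ : NoKap m T.obj₁) (h₃ : NoKap m T.obj₃) : NoKap m T.obj₂ := by
  intro j g
  obtain ⟨g', hg'⟩ := Triangle.yoneda_exact₂ T hT g (h₁ j _)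
  rw [hg', h₃ j g', comp_zero]

/-- a finite module which vanishes at `m`, placed in any degree, has no maps to `κ[-j]` -/
lemma noKap_Sg_of_locZero (M : ModuleCat.{u} A) [Module.Finite A M] (hM : LocZero M m) (n : ℤ) :
    NoKap m (Sg n M) := by
  haveI : m.IsPrime := hm.isPrime
  obtain ⟨f, hf, hfM⟩ := exists_smul_eq_zero_of_forall m (LinearMap.id : M →ₗ[A] M) (fun q => by
    obtain ⟨s, hs, hsq⟩ := hM q
    exact ⟨s, hs, hsq⟩)
  refine noKap_of_smul_id m _ f hf ?_
  have h1 : f • 𝟙 M = 0 := by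
    apply ModuleCat.hom_ext
    exact hfM
  have h2 : f • 𝟙 (Sg n M) = (singleFunctor (ModuleCat.{u} A) n).map (f • 𝟙 M) := by
    rw [Functor.map_smul, CategoryTheory.Functor.map_id]
  rw [h2, h1, Functor.map_zero]

/-- a bounded object whose cohomology modules are finite and vanish at `m` has no maps to
`κ[-j]` -/
theorem noKap_of_locZero (X : Dual.D A) (a b : ℤ)
    (hX : ∀ i : ℤ, (i < a ∨ b < i) → IsZero ((H A i).obj X))
    (hfin : ∀ i : ℤ, Module.Finite A ((H A i).obj X))
    (hz : ∀ i : ℤ, LocZero ((H A i).obj X) m) : NoKap m X :=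
  cohomological_induction (NoKap m) (fun e h => h.of_iso m e) (fun X h => NoKap.of_isZero m h)
    (fun T hT h₁ h₃ => NoKap.of_triangle m T hT h₁ h₃) X a b hX
    (fun i _ _ => by
      haveI := hfin i
      exact noKap_Sg_of_locZero m _ (hz i) i)

end Inv

end Groth.Agent.Lib.Helper18.DR
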