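import Mathlib
import Groth.Agent.Lib.Helper18.InvA

/-!
# The top cohomology of an object of `D(A)` at a maximal ideal (helper18)
-/

set_option autoImplicit false
set_option linter.style.haveILetI false
universe u
open CategoryTheory CategoryTheory.Limits CategoryTheory.Pretriangulated DerivedCategory

attribute [local instance] HasDerivedCategory.standard

namespace Groth.Agent.Lib.Helper18.DR

namespace Inv

open HomLoc Uq

variable {A : Type u} [CommRing A] (m : Ideal A) [hm : m.IsMaximal]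

section alg

variable {M : Type*} [AddCommGroup M] [Module A M] [Module.Finite A M]

/-- Nakayama: `mM = M` implies `M_m = 0` -/
lemma locZero_of_smul_top_eq_top (h : m • (⊤ : Submodule A M) = ⊤) : LocZero M m := by
  obtain ⟨r, hr1, hr2⟩ := Submodule.exists_sub_one_mem_and_smul_eq_zero_of_fg_of_le_smul m
    (⊤ : Submodule A M) Module.Finite.fg_top (by rw [h])
  have hr : r ∉ m := by
    intro hrm
    have : (1 : A) ∈ m := by
      have := m.sub_mem hrm hr1
      simpa using this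
    exact hm.ne_top ((Ideal.eq_top_iff_one m).2 this)
  exact fun q => ⟨r, hr, hr2 q Submodule.mem_top⟩

/-- a module which does not vanish at `m` has a functional to the residue field -/
lemma exists_functional_of_not_locZero (h : ¬ LocZero M m) :
    ∃ (φ : M →ₗ[A] (A ⧸ m)) (q₀ : M), φ q₀ = 1 := by
  have hne : m • (⊤ : Submodule A M) ≠ ⊤ := fun h' => h (locZero_of_smul_top_eq_top m h')
  obtain ⟨q₀, hq₀⟩ : ∃ q₀ : M, q₀ ∉ m • (⊤ : Submodule A M) := by
    by_contra hcon
    push Not at hcon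
    exact hne (eq_top_iff.2 (fun x _ => hcon x))
  let V := M ⧸ (m • (⊤ : Submodule A M))
  have hV : ∀ x ∈ m, ∀ v : V, x • v = 0 := by
    intro x hx v
    obtain ⟨q, rfl⟩ := Submodule.Quotient.mk_surjective _ v
    rw [← Submodule.Quotient.mk_smul, Submodule.Quotient.mk_eq_zero]
    exact Submodule.smul_mem_smul hx Submodule.mem_top
  obtain ⟨ψ, hψ⟩ := exists_functional m hV (Submodule.Quotient.mk q₀ : V) (by
    rw [Ne, Submodule.Quotient.mk_eq_zero]
    exact hq₀)
  exact ⟨ψ ∘ₗ (m • (⊤ : Submodule A M)).mkQ, q₀, hψ⟩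

/-- elementwise form of "`M_m` is cyclic" -/
def LocCyclic (M : Type*) [AddCommGroup M] [Module A M] (m : Ideal A) : Prop :=
  ∃ q₀ : M, ∀ q : M, ∃ s : A, s ∉ m ∧ ∃ c : A, s • q = c • q₀

omit [Module.Finite A M] hm in
lemma LocCyclic.of_equiv {M' : Type*} [AddCommGroup M'] [Module A M'] (e : M ≃ₗ[A] M')
    (h : LocCyclic M m) : LocCyclic M' m := by
  obtain ⟨q₀, h1⟩ := h
  refine ⟨e q₀, fun q => ?_⟩
  obtain ⟨s, hs, c, hsc⟩ := h1 (e.symm q)
  refine ⟨s, hs, c, ?_⟩
  have := congrArg e hsc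
  rwa [map_smul, map_smul, LinearEquiv.apply_symm_apply] at this

/-- if the functionals to the residue field are all proportional, the module is cyclic at `m` -/
lemma locCyclic_of_proportional (φ : M →ₗ[A] (A ⧸ m)) (q₀ : M) (hφ : φ q₀ = 1)
    (hprop : ∀ φ' : M →ₗ[A] (A ⧸ m), ∃ c : A, φ' = c • φ) : LocCyclic M m := by
  refine ⟨q₀, ?_⟩
  let M' := M ⧸ (Submodule.span A {q₀})
  have hz : LocZero M' m := by
    by_contra hnz
    obtain ⟨ψ, v, hψ⟩ := exists_functional_of_not_locZero m hnz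
    obtain ⟨c, hc⟩ := hprop (ψ ∘ₗ (Submodule.span A {q₀}).mkQ)
    have h0 : (ψ ∘ₗ (Submodule.span A {q₀}).mkQ) q₀ = 0 := by
      rw [LinearMap.comp_apply, Submodule.mkQ_apply,
        (Submodule.Quotient.mk_eq_zero _).2 (Submodule.mem_span_singleton_self q₀), map_zero]
    rw [hc, LinearMap.smul_apply, hφ] at h0
    have hcm : c ∈ m := by
      rw [← Ideal.Quotient.eq_zero_iff_mem]
      have : c • (1 : A ⧸ m) = Ideal.Quotient.mk m c := by
        rw [Algebra.smul_def, mul_one]
        rfl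
      rw [← this]
      exact h0
    obtain ⟨w, rfl⟩ := Submodule.Quotient.mk_surjective _ v
    have h1 : (ψ ∘ₗ (Submodule.span A {q₀}).mkQ) w = 1 := hψ
    rw [hc, LinearMap.smul_apply] at h1
    have h2 : c • φ w = 0 := smul_kap m c hcm (φ w)
    rw [h2] at h1
    have : Nontrivial (A ⧸ m) := Ideal.Quotient.nontrivial_iff.2 hm.ne_top
    exact zero_ne_one h1
  intro q
  obtain ⟨s, hs, hsq⟩ := hz (Submodule.Quotient.mk q)
  rw [← Submodule.Quotient.mk_smul, Submodule.Quotient.mk_eq_zero,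
    Submodule.mem_span_singleton] at hsq
  obtain ⟨c, hc⟩ := hsq
  exact ⟨s, hs, c, hc.symm⟩

end alg

section top

variable (K : Dual.D A) (a₀ b₀ : ℤ)
  (hK : ∀ i : ℤ, (i < a₀ ∨ b₀ < i) → IsZero ((H A i).obj K))
  (hfin : ∀ i : ℤ, Module.Finite A ((H A i).obj K)) (t : ℤ)
  (hz : ∀ i : ℤ, t < i → LocZero ((H A i).obj K) m)

include hK hfin hz

/-- truncating away the part of `K` which vanishes at `m` -/
theorem exists_top_data :
    ∃ (A' : Dual.D A) (f : A' ⟶ K) (N : ModuleCat.{u} A) (p : A' ⟶ Sg t N),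
      Nonempty ((H A t).obj K ≅ N) ∧
      (∀ g' : N ⟶ kap m, ∃ g : K ⟶ Sg t (kap m),
        f ≫ g = p ≫ (singleFunctor (ModuleCat.{u} A) t).map g') ∧
      (∀ g' : N ⟶ kap m, p ≫ (singleFunctor (ModuleCat.{u} A) t).map g' = 0 → g' = 0) := by
  obtain ⟨A', B', hA', hB', f, q, δ, hT⟩ := TStructure.t.exists_triangle K t (t + 1) rfl
  haveI : A'.IsLE t := ⟨hA'⟩
  haveI : B'.IsGE (t + 1) := ⟨hB'⟩
  have hf : ∀ i : ℤ, i ≤ t → IsIso ((H A i).map f) := fun i hi =>
    isIso_H_mor₁_of_isZero hT (i - 1) i (by omega) (isZero_of_isGE B' (t + 1) _ (by omega))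
      (isZero_of_isGE B' (t + 1) _ (by omega))
  have hq : ∀ i : ℤ, t + 1 ≤ i → IsIso ((H A i).map q) := fun i hi =>
    isIso_H_mor₂_of_isZero hT i (isZero_of_isLE A' t _ (by omega))
      (isZero_of_isLE A' t _ (by omega))
  -- `B'` has no maps to `κ[-j]`
  have hB'no : NoKap m B' := by
    refine noKap_of_locZero m B' (t + 1) (max b₀ (t + 1)) (fun i hi => ?_) (fun i => ?_)
      (fun i => ?_)
    · rcases hi with hi | hi
      · exact isZero_of_isGE B' (t + 1) i hi
      · haveI := hq i (by omega)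
        exact (hK i (Or.inr (by omega))).of_iso (asIso ((H A i).map q)).symm
    · by_cases hi : t + 1 ≤ i
      · haveI := hq i hi
        haveI := hfin i
        exact Module.Finite.equiv (asIso ((H A i).map q)).toLinearEquiv
      · haveI : Subsingleton ((H A i).obj B') :=
          ModuleCat.subsingleton_of_isZero (isZero_of_isGE B' (t + 1) i (by omega))
        infer_instance
    · by_cases hi : t + 1 ≤ i
      · haveI := hq i hi
        exact (hz i (by omega)).of_equiv (asIso ((H A i).map q)).toLinearEquiv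
      · haveI : Subsingleton ((H A i).obj B') :=
          ModuleCat.subsingleton_of_isZero (isZero_of_isGE B' (t + 1) i (by omega))
        exact fun x => ⟨1, fun h1 => hm.ne_top ((Ideal.eq_top_iff_one m).2 h1),
          Subsingleton.elim _ _⟩
  obtain ⟨N, p, hp, -⟩ := exists_hom_Sg_top' A' t
  haveI := hp
  haveI := hf t le_rfl
  refine ⟨A', f, N, p, ⟨(asIso ((H A t).map f)).symm ≪≫ asIso ((H A t).map p) ≪≫ HSg t N⟩,
    fun g' => ?_, fun g' hg' => ?_⟩
  · let T : Triangle (Dual.D A) := Triangle.mk f q δ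
    have hobs : T.mor₃ ≫ (p ≫ (singleFunctor (ModuleCat.{u} A) t).map g')⟦(1 : ℤ)⟧' = 0 := by
      rw [← cancel_mono (SgShiftIso 1 (t - 1) t (by omega) (kap m)).hom, zero_comp]
      exact hB'no (t - 1) _
    obtain ⟨g, hg⟩ := Bid.exists_of_mor₃_comp_shift_eq_zero T hT _
      (p ≫ (singleFunctor (ModuleCat.{u} A) t).map g') hobs
    exact ⟨g, hg.symm⟩
  · have h1 := congrArg (fun x => (H A t).map x) hg'
    simp only [Functor.map_comp, Functor.map_zero] at h1
    have h2 : (H A t).map ((singleFunctor (ModuleCat.{u} A) t).map g') = 0 := by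
      rw [← cancel_epi ((H A t).map p), h1, comp_zero]
    have h3 := HSg_naturality t g'
    rw [h2, zero_comp] at h3
    rw [← cancel_epi (HSg t N).hom, ← h3, comp_zero]

/-- the top cohomology at `m` is detected by maps to `κ[-t]` -/
theorem exists_hom_kap_ne_zero (hnz : ¬ LocZero ((H A t).obj K) m) :
    ∃ g : K ⟶ Sg t (kap m), g ≠ 0 := by
  obtain ⟨A', f, N, p, ⟨eN⟩, hlift, hinj⟩ := exists_top_data m K a₀ b₀ hK hfin t hz
  haveI := hfin t
  haveI : Module.Finite A N := Module.Finite.equiv eN.toLinearEquiv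
  have hnzN : ¬ LocZero N m := fun h => hnz (h.of_equiv eN.toLinearEquiv.symm)
  obtain ⟨φ, q₀, hφ⟩ := exists_functional_of_not_locZero m hnzN
  obtain ⟨g, hg⟩ := hlift (ModuleCat.ofHom φ)
  refine ⟨g, fun h0 => ?_⟩
  rw [h0, comp_zero] at hg
  have h1 := hinj _ hg.symm
  have h2 : φ q₀ = 0 := by
    have := congrArg (fun x => x.hom q₀) h1
    simpa using this
  rw [hφ] at h2
  have : Nontrivial (A ⧸ m) := Ideal.Quotient.nontrivial_iff.2 hm.ne_top
  exact one_ne_zero h2

/-- if `Hom(K, κ[-t])` is "one-dimensional", then `H^t(K)` is cyclic at `m` -/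
theorem locCyclic_of_hom_kap_proportional (hnz : ¬ LocZero ((H A t).obj K) m)
    (hprop : ∀ g₁ g₂ : K ⟶ Sg t (kap m), g₁ ≠ 0 → ∃ c : A, g₂ = c • g₁) :
    LocCyclic ((H A t).obj K) m := by
  obtain ⟨A', f, N, p, ⟨eN⟩, hlift, hinj⟩ := exists_top_data m K a₀ b₀ hK hfin t hz
  haveI := hfin t
  haveI : Module.Finite A N := Module.Finite.equiv eN.toLinearEquiv
  have hnzN : ¬ LocZero N m := fun h => hnz (h.of_equiv eN.toLinearEquiv.symm)
  obtain ⟨φ, q₀, hφ⟩ := exists_functional_of_not_locZero m hnzN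
  have : Nontrivial (A ⧸ m) := Ideal.Quotient.nontrivial_iff.2 hm.ne_top
  refine LocCyclic.of_equiv m eN.toLinearEquiv.symm
    (locCyclic_of_proportional m φ q₀ hφ (fun φ' => ?_))
  obtain ⟨g₁, hg₁⟩ := hlift (ModuleCat.ofHom φ)
  obtain ⟨g₂, hg₂⟩ := hlift (ModuleCat.ofHom φ')
  have hg₁ne : g₁ ≠ 0 := by
    intro h0
    rw [h0, comp_zero] at hg₁
    have h1 := hinj _ hg₁.symm
    have h2 : φ q₀ = 0 := by
      have := congrArg (fun x => x.hom q₀) h1
      simpa using this
    rw [hφ] at h2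
    exact one_ne_zero h2
  obtain ⟨c, hc⟩ := hprop g₁ g₂ hg₁ne
  refine ⟨c, ?_⟩
  have h3 : p ≫ (singleFunctor (ModuleCat.{u} A) t).map
      (ModuleCat.ofHom φ' - c • ModuleCat.ofHom φ) = 0 := by
    rw [Functor.map_sub, Functor.map_smul, Preadditive.comp_sub, Linear.comp_smul, ← hg₁, ← hg₂,
      hc, Linear.comp_smul, sub_self]
  have h4 := hinj _ h3
  rw [sub_eq_zero] at h4
  have := congrArg ModuleCat.Hom.hom h4
  simpa using this

end top

end Inv

end Groth.Agent.Lib.Helper18.DR
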