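import Mathlib
import Groth.Agent.Lib.Helper18.InvB
import Groth.Agent.Lib.Helper18.DRExtAR4

/-!
# Vanishing of the lower cohomology at a maximal ideal (helper18)
-/

set_option autoImplicit false
set_option linter.style.haveILetI false
universe u
open CategoryTheory CategoryTheory.Limits CategoryTheory.Pretriangulated DerivedCategory

attribute [local instance] HasDerivedCategory.standard

namespace Groth.Agent.Lib.Helper18.DR

namespace Inv

open HomLoc Uq

variable {A : Type u} [CommRing A] [IsNoetherianRing A] (m : Ideal A) [hm : m.IsMaximal]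

/-- the class of modules `E` with `Hom(K, E[-j]) = 0` -/
def NoHom (K : Dual.D A) (j : ℤ) (E : Type u) [AddCommGroup E] [Module A E] : Prop :=
  ∀ g : K ⟶ (Sg 0 (ModuleCat.of A E))⟦-j⟧, g = 0

omit [IsNoetherianRing A] in
lemma NoHom.of_equiv {K : Dual.D A} {j : ℤ} {E E' : Type u} [AddCommGroup E] [Module A E]
    [AddCommGroup E'] [Module A E'] (e : E ≃ₗ[A] E') (h : NoHom K j E) : NoHom K j E' := by
  intro g
  let i : (Sg 0 (ModuleCat.of A E))⟦-j⟧ ≅ (Sg 0 (ModuleCat.of A E'))⟦-j⟧ :=
    (shiftFunctor (Dual.D A) (-j)).mapIso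
      ((singleFunctor (ModuleCat.{u} A) 0).mapIso e.toModuleIso)
  have := h (g ≫ i.inv)
  rw [← cancel_mono i.inv, this, zero_comp]

omit [IsNoetherianRing A] in
lemma NoHom.of_subsingleton {K : Dual.D A} {j : ℤ} {E : Type u} [AddCommGroup E] [Module A E]
    [Subsingleton E] : NoHom K j E := by
  intro g
  have hz : IsZero (ModuleCat.of A E) := ModuleCat.isZero_of_subsingleton _
  have hz' : IsZero ((Sg 0 (ModuleCat.of A E))⟦-j⟧) :=
    (shiftFunctor (Dual.D A) (-j)).map_isZero
      ((singleFunctor (ModuleCat.{u} A) 0).map_isZero hz)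
  exact hz'.eq_of_tgt _ _

omit [IsNoetherianRing A] in
lemma NoHom.of_exact {K : Dual.D A} {j : ℤ} {E₁ E₂ E₃ : Type u} [AddCommGroup E₁] [Module A E₁]
    [AddCommGroup E₂] [Module A E₂] [AddCommGroup E₃] [Module A E₃]
    (f : E₁ →ₗ[A] E₂) (g : E₂ →ₗ[A] E₃) (hf : Function.Injective f) (hg : Function.Surjective g)
    (hfg : Function.Exact f g) (h₁ : NoHom K j E₁) (h₃ : NoHom K j E₃) : NoHom K j E₂ := by
  let S : ShortComplex (ModuleCat.{u} A) :=
    ShortComplex.mk (ModuleCat.ofHom f) (ModuleCat.ofHom g) (by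
      ext x
      exact hfg.apply_apply_eq_zero x)
  have hS : S.ShortExact :=
    { exact := (ShortComplex.ShortExact.moduleCat_exact_iff_function_exact S).2 hfg
      mono_f := (ModuleCat.mono_iff_injective _).2 hf
      epi_g := (ModuleCat.epi_iff_surjective _).2 hg }
  have hT := Triangle.shift_distinguished _ hS.singleTriangle_distinguished (-j)
  intro x
  obtain ⟨y, hy⟩ := Triangle.coyoneda_exact₂ _ hT x (h₃ _)
  rw [hy]
  have hy0 : y = 0 := h₁ y
  rw [hy0]
  exact zero_comp

/-- dévissage: from the residue field to all finite modules killed by a power of `m` -/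
theorem noHom_of_kap (K : Dual.D A) (j : ℤ) (h : NoHom K j (A ⧸ m))
    (E : Type u) [AddCommGroup E] [Module A E] [hE : Module.Finite A E] (n : ℕ)
    (hn : m ^ n • (⊤ : Submodule A E) = ⊥) : NoHom K j E := by
  revert n
  induction hE using IsNoetherianRing.induction_on_isQuotientEquivQuotientPrime A with
  | subsingleton N => exact fun n hn => NoHom.of_subsingleton
  | quotient N p e =>
    intro n hn
    have hle : m ^ n ≤ p.asIdeal := by
      intro x hx
      have h1 : x • e.symm (1 : A ⧸ p.asIdeal) = 0 := by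
        have : x • e.symm (1 : A ⧸ p.asIdeal) ∈ m ^ n • (⊤ : Submodule A N) :=
          Submodule.smul_mem_smul hx Submodule.mem_top
        rw [hn] at this
        exact (Submodule.mem_bot A).1 this
      rw [← map_smul, e.symm.map_eq_zero_iff] at h1
      rw [← Ideal.Quotient.eq_zero_iff_mem]
      have h2 : x • (1 : A ⧸ p.asIdeal) = Ideal.Quotient.mk p.asIdeal x := by
        rw [Algebra.smul_def, mul_one]
        rfl
      rw [← h2]
      exact h1
    have hmp : m ≤ p.asIdeal := Ideal.IsPrime.le_of_pow_le hle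
    have hpm : m = p.asIdeal := hm.eq_of_le p.2.ne_top hmp
    have e' : (A ⧸ m) ≃ₗ[A] N :=
      (Submodule.quotEquivOfEq m p.asIdeal hpm).trans e.symm
    exact h.of_equiv e'
  | exact N₁ N₂ N₃ f g hf hg hfg ih₁ ih₃ =>
    intro n hn
    have h₁ : m ^ n • (⊤ : Submodule A N₁) = ⊥ := by
      rw [eq_bot_iff]
      intro x hx
      rw [Submodule.mem_bot]
      apply hf
      rw [map_zero]
      have : f x ∈ m ^ n • (⊤ : Submodule A N₂) := by
        have h2 := Submodule.mem_map_of_mem (f := f) hx
        rw [Submodule.map_smul''] at h2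
        exact Submodule.smul_mono le_rfl le_top h2
      rw [hn] at this
      exact (Submodule.mem_bot A).1 this
    have h₃ : m ^ n • (⊤ : Submodule A N₃) = ⊥ := by
      have h2 : Submodule.map g (m ^ n • (⊤ : Submodule A N₂)) = m ^ n • (⊤ : Submodule A N₃) := by
        rw [Submodule.map_smul'', Submodule.map_top, LinearMap.range_eq_top.2 hg]
      rw [← h2, hn, Submodule.map_bot]
    exact NoHom.of_exact f g hf hg hfg (ih₁ n h₁) (ih₃ n h₃)

/-- if `Hom(K, κ[-j]) = 0` then `H^j(K)` vanishes at `m` (Stacks 0A6A-type argument) -/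
theorem locZero_of_noHom_kap (K : Dual.D A)
    (hb : ∃ b : ℤ, ∀ j : ℤ, b < j → Subsingleton (Dual.HD A K j))
    (hfin : ∀ j : ℤ, Module.Finite A (Dual.HD A K j)) (j : ℤ) (h : NoHom K j (A ⧸ m)) :
    LocZero ((H A j).obj K) m := by
  by_contra hnz
  haveI := hfin j
  have hne : m • (⊤ : Submodule A (Dual.HD A K j)) ≠ ⊤ :=
    fun h' => hnz (locZero_of_smul_top_eq_top m h')
  obtain ⟨E, i1, i2, i3, n, hn, f, hf⟩ := exists_hom_to_torsion_nonzero K hb hfin m j hne
  have := noHom_of_kap m K j h E n hn f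
  rw [this, Functor.map_zero] at hf
  exact hf rfl

end Inv

end Groth.Agent.Lib.Helper18.DR
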