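import Mathlib
import Groth.Agent.Lib.Helper18.HomCxL

/-!
# `Hom•(P, f)` is a quasi-isomorphism when `f` induces bijections on maps from `P` (helper18)
-/

set_option autoImplicit false
set_option linter.style.haveILetI false
universe u
open CategoryTheory CategoryTheory.Limits HomologicalComplex
  CochainComplex.HomComplex

attribute [local instance] HasDerivedCategory.standard

namespace Groth.Agent.Lib.Helper18.DR

namespace HomCx

variable {A : Type u} [CommRing A]

section

variable (P : DRing.Cx A) [P.IsKProjective] {L L' : DRing.Cx A} (f : L ⟶ L')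
  (hf : ∀ n : ℤ, Function.Bijective
    (fun y : DerivedCategory.Q.obj P ⟶ DerivedCategory.Q.obj (L⟦n⟧) =>
      y ≫ DerivedCategory.Q.map (f⟦n⟧')))

include hf

lemma mem_coboundaries_of_postcomp' {n : ℤ} (z : Cocycle P L n)
    (h : z.postcomp f ∈ coboundaries P L' n) : z ∈ coboundaries P L n := by
  rw [← CohomologyClass.toHom_mk_eq_zero_iff, CohomologyClass.toHom_mk,
    HomotopyCategory.quotient_map_eq_zero_iff] at h ⊢
  rw [Cocycle.equivHomShift_symm_postcomp] at h
  obtain ⟨H⟩ := h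
  have h1 := Q_map_eq_of_homotopy H
  rw [Functor.map_comp, Functor.map_zero] at h1
  have h2 : DerivedCategory.Q.map (Cocycle.equivHomShift.symm z) = 0 := by
    apply (hf n).1
    change _ ≫ _ = 0 ≫ _
    rw [h1, zero_comp]
  exact (Q_map_eq_zero_iff P _ _).1 h2

lemma exists_cocycle_postcomp' {n : ℤ} (z' : Cocycle P L' n) :
    ∃ z : Cocycle P L n, z.postcomp f - z' ∈ coboundaries P L' n := by
  obtain ⟨ŷ, hŷ⟩ := (hf n).2 (DerivedCategory.Q.map (Cocycle.equivHomShift.symm z'))
  obtain ⟨y, hy⟩ := exists_map_eq P (L⟦n⟧) ŷ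
  have h1 : DerivedCategory.Q.map (y ≫ f⟦n⟧') =
      DerivedCategory.Q.map (Cocycle.equivHomShift.symm z') := by
    rw [Functor.map_comp, hy]
    exact hŷ
  obtain ⟨H⟩ := nonempty_homotopy_of_map_eq P _ _ _ h1
  refine ⟨Cocycle.equivHomShift y, ?_⟩
  rw [← CohomologyClass.toHom_mk_eq_zero_iff, CohomologyClass.mk_sub, map_sub,
    CohomologyClass.toHom_mk, CohomologyClass.toHom_mk, Cocycle.equivHomShift_symm_postcomp,
    AddEquiv.symm_apply_apply, HomotopyCategory.eq_of_homotopy _ _ H, sub_self]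

/-- **`Hom•(P, f)` is a quasi-isomorphism when `f` induces bijections on all
`Hom_{D(A)}(P, -[n])`.** -/
theorem quasiIso_homCxMap_of_bijective : QuasiIso (DRing.homCxMap P f) := by
  rw [quasiIso_iff]
  intro n
  rw [quasiIsoAt_iff' (DRing.homCxMap P f) (n - 1) n (n + 1) (by simp)
    (by simp)]
  refine shortComplex_quasiIso_of_elementwise _ ?_ ?_
  · intro (x₂ : Cochain P L n) (hx₂ : δ n (n + 1) x₂ = 0) ⟨(y₁ : Cochain P L' (n - 1)), hy₁⟩
    have hy₁' : δ (n - 1) n y₁ = x₂.comp (Cochain.ofHom f) (add_zero n) := hy₁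
    let z : Cocycle P L n := Cocycle.mk x₂ (n + 1) rfl hx₂
    have hz : z.postcomp f ∈ coboundaries P L' n := by
      rw [mem_coboundaries_iff _ (n - 1) (by omega)]
      exact ⟨y₁, hy₁'⟩
    have := mem_coboundaries_of_postcomp' P f hf z hz
    rw [mem_coboundaries_iff _ (n - 1) (by omega)] at this
    obtain ⟨β, hβ⟩ := this
    exact ⟨β, hβ⟩
  · intro (y₂ : Cochain P L' n) (hy₂ : δ n (n + 1) y₂ = 0)
    let z' : Cocycle P L' n := Cocycle.mk y₂ (n + 1) rfl hy₂
    obtain ⟨z, hz⟩ := exists_cocycle_postcomp' P f hf z'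
    rw [mem_coboundaries_iff _ (n - 1) (by omega)] at hz
    obtain ⟨β, hβ⟩ := hz
    refine ⟨(z.1 : Cochain P L n), β, ?_, ?_⟩
    · exact z.δ_eq_zero (n + 1)
    · change z.1.comp (Cochain.ofHom f) (add_zero n) = y₂ + δ (n - 1) n β
      rw [hβ]
      change _ = y₂ + (z.1.comp (Cochain.ofHom f) (add_zero n) - y₂)
      abel

end

end HomCx

end Groth.Agent.Lib.Helper18.DR
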