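import Mathlib
import Groth.Agent.Lib.Helper18.LDualC
import Groth.Agent.Lib.Helper21.RGb

/-!
# `Č ⊗ W` has torsion cohomology (helper18)
-/

set_option autoImplicit false
set_option linter.style.haveILetI false
universe u
open CategoryTheory CategoryTheory.Limits CategoryTheory.Pretriangulated HomologicalComplex
  DerivedCategory MonoidalCategory CochainComplex

attribute [local instance] HasDerivedCategory.standard

namespace Groth.Agent.Lib.Helper18.DR

namespace LDual

open RHomCmp Cech Groth.Agent.Lib.Helper2.Tot Groth.Agent.Lib.Helper2.Tot.DR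

variable {A : Type u} [CommRing A]

/-- `A_g ⊗ (Č ⊗ W)` is acyclic for `g` in the list -/
theorem torA_extCech_tensor (M : ModuleCat.{u} A) (hM : Module.Flat A M) (l : List A) (g : A)
    (hg : g ∈ l) (W : DRing.Cx A) : TorA g (DerCA.extCech M l ⊗ W) := by
  obtain ⟨C, hC⟩ : ∃ C : DRing.Cx A, C = DerCA.extCech M l := ⟨_, rfl⟩
  rw [← hC]
  have hCt : TorA g C := by
    rw [hC]
    exact torA_of_torsion g _ (fun i x =>
      Groth.Agent.Lib.Helper20.CechKill.exists_pow_smul_eq_zero M l i x g hg)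
  obtain ⟨F, hF⟩ : ∃ F : DRing.Cx A, F = (Gg g).obj C := ⟨_, rfl⟩
  have hFac : F.Acyclic := by rw [hF]; exact hCt
  have hFflat : ∀ n : ℤ, Module.Flat A (F.X n) := by
    intro n
    rw [hF]
    haveI : Module.Flat A (C.X n) := by rw [hC]; exact flat_extCech_X M hM l n
    exact inferInstanceAs (Module.Flat A (TensorProduct A (Localization.Away g) (C.X n)))
  have hFb : DRing.VanishesAbove F (l.length : ℤ) := by
    intro n hn
    rw [hF]
    exact (tensorLeft (Aw g)).map_isZero (by rw [hC]; exact isZero_extCech_X M l n hn)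
  haveI := isStrictlyLE_of_vanishesAbove F _ hFb
  have hFk : KFlat (T A).flip F := kflat_flip_of_isStrictlyLE F (l.length : ℤ) hFflat
  obtain ⟨PW, pW, hPW, hpW⟩ := DTenB.exists_kprojective_quasiIso W
  haveI := hPW
  haveI := hpW
  have h1 : (F ⊗ PW).Acyclic := DTenB.kflat_of_isKProjective PW F hFac
  haveI : QuasiIso (F ◁ pW) := quasiIso_map₂_of_kflat_flip hFk pW
  have h2 : (F ⊗ W).Acyclic := acyclic_of_quasiIso (F ◁ pW) h1
  let e : (Gg g).obj (C ⊗ W) ≅ F ⊗ W :=
    TotSingle.iso (T A) (Aw g) (C ⊗ W) ≪≫ (α_ (RHomLoc.S0 (Aw g)) C W).symm ≪≫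
      whiskerRightIso ((TotSingle.iso (T A) (Aw g) C).symm ≪≫ eqToIso hF.symm) W
  exact acyclic_of_iso e.symm h2

/-- elementwise torsion from `TorA` -/
lemma exists_pow_smul_eq_zero_of_torA (g : A) (Y : DRing.Cx A) (hY : TorA g Y) (i : ℤ)
    (x : Y.homology i) : ∃ n : ℕ, g ^ n • x = 0 := by
  rw [← Groth.Agent.Lib.Helper21.RGb.one_tmul_eq_zero_iff]
  haveI : Module.Flat A (Aw g) := inferInstanceAs (Module.Flat A (Localization.Away g))
  haveI : PreservesFiniteLimits (tensorLeft (Aw g)) := inferInstance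
  haveI : (tensorLeft (Aw g)).PreservesHomology := inferInstance
  have hz : IsZero ((tensorLeft (Aw g)).obj (Y.homology i)) :=
    ((exactAt_iff_isZero_homology _ _).1 (hY i)).of_iso
      ((Y.sc i).mapHomologyIso (tensorLeft (Aw g))).symm
  haveI : Subsingleton ((tensorLeft (Aw g)).obj (Y.homology i)) :=
    ModuleCat.subsingleton_of_isZero hz
  exact Subsingleton.elim (α := ((tensorLeft (Aw g)).obj (Y.homology i) : Type u)) _ _

/-- `I`-power torsion cohomology from `TorA` on generators -/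
theorem isPowerTorsion_HD_of_torA (l : List A) (Y : DRing.Cx A) (hY : ∀ g ∈ l, TorA g Y)
    (i : ℤ) :
    LocCoh.IsPowerTorsion (Ideal.span {x : A | x ∈ l}) (Dual.HD A (DerivedCategory.Q.obj Y) i) := by
  refine Groth.Agent.Lib.Helper4.LC.isPowerTorsion_of_injective _
    ((DerivedCategory.homologyFunctorFactors (ModuleCat.{u} A) i).hom.app Y).hom
    (Groth.Agent.Lib.Helper21.RGb.injective_of_isIso _) ?_
  intro x
  have hle : Ideal.span {x : A | x ∈ l} ≤ (Ideal.torsionOf A (Y.homology i) x).radical := by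
    rw [Ideal.span_le]
    intro g hg
    obtain ⟨n, hn⟩ := exists_pow_smul_eq_zero_of_torA g Y (hY g hg) i x
    exact ⟨n, (Ideal.mem_torsionOf_iff _ _).2 hn⟩
  have hfg : (Ideal.span {x : A | x ∈ l}).FG := by
    classical
    exact ⟨l.toFinset, by congr 1; ext y; simp⟩
  obtain ⟨N, hN⟩ := Ideal.exists_pow_le_of_le_radical_of_fg hle hfg
  exact ⟨N, fun a ha => (Ideal.mem_torsionOf_iff _ _).1 (hN ha)⟩

end LDual

end Groth.Agent.Lib.Helper18.DR
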