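import Mathlib
import Groth.Agent.Lib.Helper18.LDualD

/-!
# `RHom(-, J)` of a torsion coreflection is a derived completion (helper18)
-/

set_option autoImplicit false
set_option linter.style.haveILetI false
universe u
open CategoryTheory CategoryTheory.Limits CategoryTheory.Pretriangulated HomologicalComplex
  DerivedCategory MonoidalCategory CochainComplex

attribute [local instance] HasDerivedCategory.standard

namespace Groth.Agent.Lib.Helper18.DR

namespace LDual

open RHomCmp Cech Groth.Agent.Lib.Helper2.PRes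

variable {A : Type u} [CommRing A]

/-- objects with `span l`-power torsion cohomology -/
def Tl (l : List A) (X : Dual.D A) : Prop :=
  ∀ i : ℤ, LocCoh.IsPowerTorsion (Ideal.span {x : A | x ∈ l}) (Dual.HD A X i)

lemma Tl.of_iso {l : List A} {X Y : Dual.D A} (e : X ≅ Y) (h : Tl l X) : Tl l Y := fun i =>
  Groth.Agent.Lib.Helper21.RGb.isPowerTorsion_HD_of_iso _ e i (h i)

lemma Tl.shift {l : List A} {X : Dual.D A} (h : Tl l X) (n : ℤ) : Tl l (X⟦n⟧) := fun i => by
  have e := ((DerivedCategory.homologyFunctor (ModuleCat.{u} A) 0).shiftIso n i (n + i) rfl).app X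
  exact Groth.Agent.Lib.Helper4.LC.isPowerTorsion_of_injective _ e.hom.hom
    (Groth.Agent.Lib.Helper21.RGb.injective_of_isIso _) (h (n + i))

/-- if `W` receives no maps from objects with torsion cohomology, then `Hom•(W, J)` has no maps
to derived complete objects -/
theorem hom_homCx_eq_zero (l : List A) (W J : DRing.Cx A) [J.IsKInjective]
    (hW : ∀ X : Dual.D A, Tl l X → ∀ φ : X ⟶ DerivedCategory.Q.obj W, φ = 0)
    (E : Dual.D A) (hE : ∀ g ∈ l, FC g E) (ψ : DRing.toD (DRing.homCx W J) ⟶ E) : ψ = 0 := by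
  obtain ⟨Y, hY⟩ : ∃ Y : DRing.Cx A, Y = DRing.homCx W J := ⟨_, rfl⟩
  let M : ModuleCat.{u} A := ModuleCat.of A A
  have hM : Module.Flat A M := inferInstanceAs (Module.Flat A A)
  have b := preBij_aug M l Y E hE
  -- the augmentation tensored with `W` vanishes in `D(A)`
  have h0 : DerivedCategory.Q.map (aug M l ▷ W) = 0 := by
    let lam : DerCA.extCech M [] ⊗ W ≅ W := show 𝟙_ (DRing.Cx A) ⊗ W ≅ W from λ_ W
    have h1 : DerivedCategory.Q.map (aug M l ▷ W) ≫ DerivedCategory.Q.map lam.hom = 0 :=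
      hW _ (fun i => isPowerTorsion_HD_of_torA l _
        (fun g hg => torA_extCech_tensor M hM l g hg W) i) _
    haveI : IsIso (DerivedCategory.Q.map lam.hom) := inferInstance
    rw [← cancel_mono (DerivedCategory.Q.map lam.hom), h1, zero_comp]
  have h1 : DerivedCategory.Q.map (HomCx.precomp (aug M l ▷ W) J) = 0 :=
    Q_map_precomp_eq_zero _ h0 J
  have h2 : DerivedCategory.Q.map (HomCx.precomp (aug M l) Y) = 0 := by
    rw [hY]
    have hn := homCxAdjIso_naturality_left (aug M l) W J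
    have hn' : HomCx.precomp (aug M l) (DRing.homCx W J) =
        (HomCx.homCxAdjIso (DerCA.extCech M []) W J).hom ≫
          HomCx.precomp (aug M l ▷ W) J ≫ (HomCx.homCxAdjIso (DerCA.extCech M l) W J).inv := by
      rw [← Category.assoc, ← hn, Category.assoc, Iso.hom_inv_id, Category.comp_id]
    rw [hn', Functor.map_comp, Functor.map_comp, h1, zero_comp, comp_zero]
  rw [h2] at b
  let u0 : DRing.homCx (DerCA.extCech M []) Y ≅ Y := HomCx.homCxUnitIso Y
  have hψ : DerivedCategory.Q.map u0.hom ≫ (eqToHom (by rw [hY]) ≫ ψ) = 0 := by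
    obtain ⟨φ, hφ⟩ := b.2 (DerivedCategory.Q.map u0.hom ≫ (eqToHom (by rw [hY]) ≫ ψ))
    rw [← hφ]
    exact zero_comp
  haveI : IsIso (DerivedCategory.Q.map u0.hom) := inferInstance
  have h3 : (eqToHom (by rw [hY]) : DRing.toD Y ⟶ DRing.toD (DRing.homCx W J)) ≫ ψ = 0 := by
    rw [← cancel_epi (DerivedCategory.Q.map u0.hom), hψ, comp_zero]
  rw [← cancel_epi (eqToHom (by rw [hY]) : DRing.toD Y ⟶ DRing.toD (DRing.homCx W J)), h3,
    comp_zero]

/-- the same for all shifts -/
theorem hom_shift_homCx_eq_zero (l : List A) (W J : DRing.Cx A) [J.IsKInjective]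
    (hW : ∀ X : Dual.D A, Tl l X → ∀ φ : X ⟶ DerivedCategory.Q.obj W, φ = 0)
    (E : Dual.D A) (hE : ∀ g ∈ l, FC g E) (n : ℤ)
    (ψ : (DRing.toD (DRing.homCx W J))⟦n⟧ ⟶ E) : ψ = 0 := by
  let a : (DRing.toD (DRing.homCx W J)) ≅ ((DRing.toD (DRing.homCx W J))⟦n⟧)⟦-n⟧ :=
    ((shiftFunctorCompIsoId (Dual.D A) n (-n) (by omega)).app _).symm
  have h1 : a.hom ≫ ψ⟦-n⟧' = 0 :=
    hom_homCx_eq_zero l W J hW (E⟦-n⟧) (fun g hg => (hE g hg).shift (-n)) _
  have h2 : ψ⟦-n⟧' = 0 := by rw [← cancel_epi a.hom, h1, comp_zero]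
  apply (CategoryTheory.shiftFunctor (Dual.D A) (-n)).map_injective
  rw [h2, Functor.map_zero]

end LDual

end Groth.Agent.Lib.Helper18.DR
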