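import Mathlib
import Groth.Agent.Lib.Helper18.LDualE
import Groth.Agent.Lib.Helper18.RHomCmpE

/-!
# `Hom•(c, J)` for a torsion coreflection `c` is a derived completion (helper18)
-/

set_option autoImplicit false
set_option linter.style.haveILetI false
universe u
open CategoryTheory CategoryTheory.Limits CategoryTheory.Pretriangulated HomologicalComplex
  DerivedCategory MonoidalCategory CochainComplex

attribute [local instance] HasDerivedCategory.standard

namespace Groth.Agent.Lib.Helper18.DR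

namespace LDual

open RHomCmp Cech Groth.Agent.Lib.Helper2.PRes

/-- if post-composition with the first map of a distinguished triangle is surjective on maps from
`X` and injective on maps from `X⟦-1⟧`, there are no nonzero maps from `X` to the third vertex -/
lemma hom_obj₃_eq_zero {C : Type*} [Category C] [Preadditive C] [HasZeroObject C]
    [HasShift C ℤ] [∀ n : ℤ, (CategoryTheory.shiftFunctor C n).Additive] [Pretriangulated C]
    (T : Triangle C) (hT : T ∈ distTriang C) (X : C)
    (h0 : Function.Surjective (fun φ : X ⟶ T.obj₁ => φ ≫ T.mor₁))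
    (h1 : Function.Injective (fun φ : X⟦(-1 : ℤ)⟧ ⟶ T.obj₁ => φ ≫ T.mor₁))
    (φ : X ⟶ T.obj₃) : φ = 0 := by
  have hα : φ ≫ T.mor₃ = 0 := by
    have h2 : (φ ≫ T.mor₃) ≫ T.mor₁⟦(1 : ℤ)⟧' = 0 := by
      rw [Category.assoc, comp_distTriang_mor_zero₃₁ _ hT, comp_zero]
    let a := shiftFunctorCompIsoId C (1 : ℤ) (-1) (by omega)
    have h3 : ((φ ≫ T.mor₃)⟦(-1 : ℤ)⟧' ≫ a.hom.app T.obj₁) ≫ T.mor₁ = 0 ≫ T.mor₁ := by
      have hn := a.hom.naturality T.mor₁
      dsimp at hn
      rw [Category.assoc, ← hn, ← Category.assoc]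
      change ((CategoryTheory.shiftFunctor C (-1 : ℤ)).map (φ ≫ T.mor₃) ≫
        (CategoryTheory.shiftFunctor C (-1 : ℤ)).map (T.mor₁⟦(1 : ℤ)⟧')) ≫ _ = _
      rw [← Functor.map_comp, h2, Functor.map_zero, zero_comp, zero_comp]
    have h4 := h1 h3
    have h5 : (φ ≫ T.mor₃)⟦(-1 : ℤ)⟧' = 0 := by
      rw [← cancel_mono (a.hom.app T.obj₁), h4, zero_comp]
    apply (CategoryTheory.shiftFunctor C (-1 : ℤ)).map_injective
    rw [h5, Functor.map_zero]
  obtain ⟨ψ, hψ⟩ := Triangle.coyoneda_exact₃ T hT φ hα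
  obtain ⟨χ, hχ⟩ := h0 ψ
  dsimp at hχ
  rw [hψ, ← hχ, Category.assoc, comp_distTriang_mor_zero₁₂ _ hT, comp_zero]

variable {A : Type u} [CommRing A]

/-- **`Hom•(c, J)` is a derived completion when `c` is a coreflection onto objects with torsion
cohomology** -/
theorem preBij_precomp_of_coreflection (l : List A) (P K J : DRing.Cx A) [J.IsKInjective]
    (c : P ⟶ K)
    (hc : ∀ X : Dual.D A, Tl l X → Function.Bijective
      (fun φ : X ⟶ DerivedCategory.Q.obj P => φ ≫ DerivedCategory.Q.map c))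
    (E : Dual.D A) (hE : ∀ g ∈ l, FC g E) :
    PreBij E (DerivedCategory.Q.map (HomCx.precomp c J)) := by
  haveI : ∀ n, Mono ((cylι c).f n) := fun n => mono_of_mono_fac (cylι_f_retraction c n)
  haveI : Mono (cylι c) := HomologicalComplex.mono_of_mono_f _ inferInstance
  let S : ShortComplex (DRing.Cx A) :=
    ShortComplex.mk (cylι c) (cokernel.π (cylι c)) (cokernel.condition _)
  have hS : S.ShortExact :=
    ShortComplex.ShortExact.mk' (ShortComplex.exact_cokernel (cylι c)) inferInstance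
      (inferInstanceAs (Epi (cokernel.π (cylι c))))
  have σ : ∀ p, (S.map (HomologicalComplex.eval _ _ p)).Splitting := fun p => by
    have hSp : (S.map (HomologicalComplex.eval _ (ComplexShape.up ℤ) p)).ShortExact :=
      hS.map_of_exact _
    haveI := hSp.epi_g
    exact ShortComplex.Splitting.ofExactOfRetraction _ hSp.exact _ (cylι_f_retraction c p)
      hSp.epi_g
  have hT₂ := DerivedCategory.triangleOfSES_distinguished hS
  let π : cyl (R := P) (K' := K) ⟶ K := cylπ
  haveI : QuasiIso π := inferInstanceAs (QuasiIso (cylπ : cyl (R := P) (K' := K) ⟶ K))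
  haveI : IsIso (DerivedCategory.Q.map π) := inferInstance
  have hcι : DerivedCategory.Q.map (cylι c) ≫ DerivedCategory.Q.map π = DerivedCategory.Q.map c := by
    rw [← Functor.map_comp, cylι_π]
  -- no maps from torsion objects to the cokernel
  have hW : ∀ X : Dual.D A, Tl l X → ∀ φ : X ⟶ DerivedCategory.Q.obj S.X₃, φ = 0 := by
    intro X hX φ
    have s0 : Function.Surjective (fun φ : X ⟶ DerivedCategory.Q.obj P =>
        φ ≫ DerivedCategory.Q.map (cylι c)) := by
      intro ψ
      obtain ⟨χ, hχ⟩ := (hc X hX).2 (ψ ≫ DerivedCategory.Q.map π)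
      refine ⟨χ, ?_⟩
      dsimp only at hχ ⊢
      rw [← cancel_mono (DerivedCategory.Q.map π), Category.assoc, hcι, hχ]
    have s1 : Function.Injective (fun φ : X⟦(-1 : ℤ)⟧ ⟶ DerivedCategory.Q.obj P =>
        φ ≫ DerivedCategory.Q.map (cylι c)) := by
      intro ψ ψ' h
      apply (hc _ (hX.shift (-1))).1
      dsimp only at h ⊢
      rw [← hcι, ← Category.assoc, ← Category.assoc, h]
    exact hom_obj₃_eq_zero _ hT₂ X s0 s1 φ
  -- the triangle of `Hom•(S, J)`
  have hS' := HomCx.homCxSC_shortExact S σ J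
  have hT₃ := rot_of_distTriang _ (DerivedCategory.triangleOfSES_distinguished hS')
  have z1 : ∀ φ : (DRing.toD (DRing.homCx S.X₃ J))⟦(1 : ℤ)⟧ ⟶ E, φ = 0 :=
    fun φ => hom_shift_homCx_eq_zero l S.X₃ J hW E hE 1 φ
  have z2 : ∀ φ : ((DRing.toD (DRing.homCx S.X₃ J))⟦(1 : ℤ)⟧)⟦(-1 : ℤ)⟧ ⟶ E, φ = 0 := by
    intro φ
    let a : (DRing.toD (DRing.homCx S.X₃ J)) ≅
        ((DRing.toD (DRing.homCx S.X₃ J))⟦(1 : ℤ)⟧)⟦(-1 : ℤ)⟧ :=
      ((shiftFunctorCompIsoId (Dual.D A) (1 : ℤ) (-1) (by omega)).app _).symm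
    have h1 : a.hom ≫ φ = 0 := hom_homCx_eq_zero l S.X₃ J hW E hE _
    rw [← cancel_epi a.hom, h1, comp_zero]
  have b1 := bijective_precomp_of_triangle _ hT₃ E z1 z2
  change PreBij E (DerivedCategory.Q.map (HomCx.precomp (cylι c) J)) at b1
  haveI : QuasiIso (HomCx.precomp π J) := HomCx.quasiIso_precomp J π
  haveI : IsIso (DerivedCategory.Q.map (HomCx.precomp π J)) := inferInstance
  have b2 : PreBij E (DerivedCategory.Q.map (HomCx.precomp π J)) := PreBij.of_isIso E _
  have h : DerivedCategory.Q.map (HomCx.precomp c J) =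
      DerivedCategory.Q.map (HomCx.precomp π J) ≫
        DerivedCategory.Q.map (HomCx.precomp (cylι c) J) := by
    rw [← Functor.map_comp, ← HomCx.precomp_comp, cylι_π]
  rw [h]
  exact b2.comp b1

end LDual

end Groth.Agent.Lib.Helper18.DR
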