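import Mathlib
import Groth.Agent.Lib.Helper18.LDualF
import Groth.Agent.Lib.Helper18.LDualB
import Groth.Agent.Lib.Helper18.DCmp7
import Groth.Agent.Lib.Helper18.DRInj

/-!
# `RHom(RΓ_I K, RΓ_I W)` is the derived completion of `RHom(K, W)` (helper18)
-/

set_option autoImplicit false
set_option linter.style.haveILetI false
universe u
open CategoryTheory CategoryTheory.Limits CategoryTheory.Pretriangulated HomologicalComplex
  DerivedCategory MonoidalCategory CochainComplex

attribute [local instance] HasDerivedCategory.standard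

namespace Groth.Agent.Lib.Helper18.DR

namespace LDual

open RHomCmp Cech Groth.Agent.Lib.Helper2.PRes

/-- transfer of bijectivity of post-composition along the shift adjunction -/
lemma bijective_comp_shift {C : Type*} [Category C] [Preadditive C]
    [HasShift C ℤ] (X : C) {Y₁ Y₂ : C} (u : Y₁ ⟶ Y₂) (n : ℤ)
    (h : Function.Bijective (fun φ : X⟦-n⟧ ⟶ Y₁ => φ ≫ u)) :
    Function.Bijective (fun φ : X ⟶ Y₁⟦n⟧ => φ ≫ u⟦n⟧') := by
  let adj : CategoryTheory.shiftFunctor C (-n) ⊣ CategoryTheory.shiftFunctor C n :=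
    (shiftEquiv C n).symm.toAdjunction
  have e : (fun φ : X ⟶ Y₁⟦n⟧ => φ ≫ u⟦n⟧') =
      (adj.homEquiv X Y₂) ∘ (fun φ : X⟦-n⟧ ⟶ Y₁ => φ ≫ u) ∘ (adj.homEquiv X Y₁).symm := by
    funext φ
    change _ = adj.homEquiv X Y₂ ((adj.homEquiv X Y₁).symm φ ≫ u)
    rw [Adjunction.homEquiv_naturality_right, Equiv.apply_symm_apply]
  rw [e]
  exact (adj.homEquiv X Y₂).bijective.comp (h.comp (adj.homEquiv X Y₁).symm.bijective)

variable {A : Type u} [CommRing A]

/-- generators acting power-torsionly on the homology of a complex with torsion cohomology -/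
lemma torA_of_Tl (l : List A) (P : DRing.Cx A) (hP : Tl l (DerivedCategory.Q.obj P)) (g : A)
    (hg : g ∈ l) : TorA g P := by
  refine torA_of_torsion g P (fun i x => ?_)
  have h1 : Groth.Agent.Lib.Helper21.ExtTorsA.TorsBy g (Dual.HD A (DerivedCategory.Q.obj P) i) :=
    Groth.Agent.Lib.Helper21.RGb.torsAt_of_isPowerTorsion
      (I := Ideal.span {x : A | x ∈ l}) (Ideal.subset_span hg) hP i
  exact Groth.Agent.Lib.Helper21.ExtTorsA.torsBy_of_injective
    ((DerivedCategory.homologyFunctorFactors (ModuleCat.{u} A) i).inv.app P).hom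
    (Groth.Agent.Lib.Helper21.RGb.injective_of_isIso _) h1 x

/-- **`RHom(RΓ_I K, RΓ_I W)` is the derived `I`-completion of `RHom(K, W)`** -/
theorem nonempty_derivedCompletion_RHomCx_iso [IsNoetherianRing A] (I : Ideal A) (l : List A)
    (hl : Ideal.span {x : A | x ∈ l} = I) [DRing.HasRgammaI I] [DRing.HasDerivedCompletion I]
    (K G : DRing.Cx A) [DRing.HasRHomCx K] [DRing.HasRHomCx G]
    (hG : DRing.toD G ≅ (DRing.RgammaI I).obj (DRing.toD K)) (W : Dual.D A) :
    Nonempty (((DRing.derivedCompletion I).obj ((DRing.RHomCx K).obj W)).obj ≅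
      (DRing.RHomCx G).obj ((DRing.RgammaI I).obj W)) := by
  subst hl
  let LW : DRing.Cx A := DerivedCategory.Q.objPreimage W
  let eW : DRing.toD LW ≅ W := DerivedCategory.Q.objObjPreimageIso W
  obtain ⟨J, j, hJ, hj⟩ := RHomK.hasKInj LW
  haveI := hJ
  haveI := hj
  haveI : IsIso (DerivedCategory.Q.map j) := inferInstance
  obtain ⟨PG, pG, hPG, hpG⟩ := DTenB.exists_kprojective_quasiIso G
  haveI := hPG
  haveI := hpG
  haveI : IsIso (DerivedCategory.Q.map pG) := inferInstance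
  -- the coreflection map
  obtain ⟨c, hc⟩ := exists_map_eq PG K
    ((DerivedCategory.Q.map pG ≫ hG.hom) ≫
      (DRing.RgammaIε (Ideal.span {x : A | x ∈ l})).app (DRing.toD K))
  have hbc : ∀ X : Dual.D A, Tl l X → Function.Bijective
      (fun φ : X ⟶ DerivedCategory.Q.obj PG => φ ≫ DerivedCategory.Q.map c) := by
    intro X hX
    rw [hc]
    have b1 : Function.Bijective (fun φ : X ⟶ DerivedCategory.Q.obj PG =>
        φ ≫ (DerivedCategory.Q.map pG ≫ hG.hom)) :=
      Groth.Agent.Lib.Helper21.RGb.bijective_comp_of_isIso _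
    have b2 := Groth.Agent.Lib.Helper21.RGb.bijective_comp_eps
      (Ideal.span {x : A | x ∈ l}) X (DRing.toD K) hX
    have e : (fun φ : X ⟶ DerivedCategory.Q.obj PG => φ ≫ ((DerivedCategory.Q.map pG ≫ hG.hom) ≫
        (DRing.RgammaIε (Ideal.span {x : A | x ∈ l})).app (DRing.toD K))) =
        (fun g : X ⟶ (DRing.RgammaI (Ideal.span {x : A | x ∈ l})).obj (DRing.toD K) =>
          g ≫ (DRing.RgammaIε (Ideal.span {x : A | x ∈ l})).app (DRing.toD K)) ∘
        (fun φ : X ⟶ DerivedCategory.Q.obj PG => φ ≫ (DerivedCategory.Q.map pG ≫ hG.hom)) := by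
      funext φ
      change _ = (φ ≫ _) ≫ _
      simp only [Category.assoc]
    rw [e]
    exact b2.comp b1
  -- `PG` has torsion cohomology
  have hPGt : Tl l (DerivedCategory.Q.obj PG) :=
    Tl.of_iso ((asIso (DerivedCategory.Q.map pG)) ≪≫ hG).symm
      (fun i => Groth.Agent.Lib.Helper21.RGb.isPowerTorsion_HD_RgammaI _ _ i)
  have hZ : DRing.IsDerivedComplete (Ideal.span {x : A | x ∈ l})
      (DRing.toD (DRing.homCx PG J)) :=
    isDerivedComplete_span _ _ (fun g hg => fc_homCx_of_torA g PG (torA_of_Tl l PG hPGt g hg) J)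
  obtain ⟨i1⟩ := RHomK.nonempty_RHomCx_iso_of_kinjective K j
  let η : (DRing.RHomCx K).obj W ⟶ DRing.toD (DRing.homCx PG J) :=
    (DRing.RHomCx K).map eW.inv ≫ i1.hom ≫ DerivedCategory.Q.map (HomCx.precomp c J)
  have hη : ∀ E : Dual.D A, DRing.IsDerivedComplete (Ideal.span {x : A | x ∈ l}) E →
      PreBij E η := by
    intro E hE
    have hE' : ∀ g ∈ l, FC g E := fun g hg =>
      (isDerivedComplete_iff_fc _ E).1 hE g (Ideal.subset_span hg)
    exact (PreBij.of_isIso E _).comp ((PreBij.of_isIso E _).comp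
      (preBij_precomp_of_coreflection l PG K J c hbc E hE'))
  obtain ⟨d, -⟩ := nonempty_iso_of_universal
    (P := fun L => DRing.IsDerivedComplete (Ideal.span {x : A | x ∈ l}) L) η
    (DRing.toDerivedCompletion (Ideal.span {x : A | x ∈ l}) ((DRing.RHomCx K).obj W)) hZ
    ((DRing.derivedCompletion (Ideal.span {x : A | x ∈ l})).obj
      ((DRing.RHomCx K).obj W)).property hη
    (fun L' hL' => bijective_toDerivedCompletion_comp _ _ L' hL')
  -- the second half: `RHom(G, RΓ W) ≅ RHom(G, W)`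
  let LR : DRing.Cx A := DerivedCategory.Q.objPreimage
    ((DRing.RgammaI (Ideal.span {x : A | x ∈ l})).obj W)
  let eR : DRing.toD LR ≅ (DRing.RgammaI (Ideal.span {x : A | x ∈ l})).obj W :=
    DerivedCategory.Q.objObjPreimageIso _
  obtain ⟨ν, hν⟩ := exists_map_eq_inj LR J
    (eR.hom ≫ (DRing.RgammaIε (Ideal.span {x : A | x ∈ l})).app W ≫
      (eW.inv ≫ DerivedCategory.Q.map j))
  have hbν0 : ∀ X : Dual.D A, Tl l X → Function.Bijective
      (fun φ : X ⟶ DerivedCategory.Q.obj LR => φ ≫ DerivedCategory.Q.map ν) := by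
    intro X hX
    rw [hν]
    have b1 : Function.Bijective (fun φ : X ⟶ DerivedCategory.Q.obj LR => φ ≫ eR.hom) :=
      Groth.Agent.Lib.Helper21.RGb.bijective_comp_of_isIso _
    have b2 := Groth.Agent.Lib.Helper21.RGb.bijective_comp_eps
      (Ideal.span {x : A | x ∈ l}) X W hX
    have b3 : Function.Bijective (fun φ : X ⟶ W => φ ≫ (eW.inv ≫ DerivedCategory.Q.map j)) :=
      Groth.Agent.Lib.Helper21.RGb.bijective_comp_of_isIso _
    have e : (fun φ : X ⟶ DerivedCategory.Q.obj LR => φ ≫ (eR.hom ≫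
        (DRing.RgammaIε (Ideal.span {x : A | x ∈ l})).app W ≫
          (eW.inv ≫ DerivedCategory.Q.map j))) =
        (fun φ : X ⟶ W => φ ≫ (eW.inv ≫ DerivedCategory.Q.map j)) ∘
        (fun g : X ⟶ (DRing.RgammaI (Ideal.span {x : A | x ∈ l})).obj W =>
          g ≫ (DRing.RgammaIε (Ideal.span {x : A | x ∈ l})).app W) ∘
        (fun φ : X ⟶ DerivedCategory.Q.obj LR => φ ≫ eR.hom) := by
      funext φ
      change _ = ((φ ≫ _) ≫ _) ≫ _
      simp only [Category.assoc]
    rw [e]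
    exact b3.comp (b2.comp b1)
  have hbν : ∀ n : ℤ, Function.Bijective
      (fun y : DerivedCategory.Q.obj PG ⟶ DerivedCategory.Q.obj (LR⟦n⟧) =>
        y ≫ DerivedCategory.Q.map (ν⟦n⟧')) := by
    intro n
    let κL : DerivedCategory.Q.obj (LR⟦n⟧) ≅ (DerivedCategory.Q.obj LR)⟦n⟧ :=
      (DerivedCategory.Q.commShiftIso n).app LR
    let κJ : DerivedCategory.Q.obj (J⟦n⟧) ≅ (DerivedCategory.Q.obj J)⟦n⟧ :=
      (DerivedCategory.Q.commShiftIso n).app J
    have hnat : DerivedCategory.Q.map (ν⟦n⟧') ≫ κJ.hom =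
        κL.hom ≫ (DerivedCategory.Q.map ν)⟦n⟧' :=
      (DerivedCategory.Q.commShiftIso n).hom.naturality ν
    have b1 : Function.Bijective
        (fun y : DerivedCategory.Q.obj PG ⟶ DerivedCategory.Q.obj (LR⟦n⟧) => y ≫ κL.hom) :=
      Groth.Agent.Lib.Helper21.RGb.bijective_comp_of_isIso _
    have b2 : Function.Bijective
        (fun y : DerivedCategory.Q.obj PG ⟶ (DerivedCategory.Q.obj LR)⟦n⟧ =>
          y ≫ (DerivedCategory.Q.map ν)⟦n⟧') :=
      bijective_comp_shift _ _ n (hbν0 _ (hPGt.shift (-n)))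
    have b3 : Function.Bijective
        (fun y : DerivedCategory.Q.obj PG ⟶ (DerivedCategory.Q.obj J)⟦n⟧ => y ≫ κJ.inv) :=
      Groth.Agent.Lib.Helper21.RGb.bijective_comp_of_isIso _
    have e : (fun y : DerivedCategory.Q.obj PG ⟶ DerivedCategory.Q.obj (LR⟦n⟧) =>
        y ≫ DerivedCategory.Q.map (ν⟦n⟧')) =
        (fun y : DerivedCategory.Q.obj PG ⟶ (DerivedCategory.Q.obj J)⟦n⟧ => y ≫ κJ.inv) ∘
        (fun y : DerivedCategory.Q.obj PG ⟶ (DerivedCategory.Q.obj LR)⟦n⟧ =>
          y ≫ (DerivedCategory.Q.map ν)⟦n⟧') ∘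
        (fun y : DerivedCategory.Q.obj PG ⟶ DerivedCategory.Q.obj (LR⟦n⟧) => y ≫ κL.hom) := by
      funext y
      change _ = ((y ≫ κL.hom) ≫ (DerivedCategory.Q.map ν)⟦n⟧') ≫ κJ.inv
      calc y ≫ DerivedCategory.Q.map (ν⟦n⟧')
          = y ≫ (DerivedCategory.Q.map (ν⟦n⟧') ≫ κJ.hom) ≫ κJ.inv := by
            rw [Category.assoc, κJ.hom_inv_id, Category.comp_id]
        _ = y ≫ (κL.hom ≫ (DerivedCategory.Q.map ν)⟦n⟧') ≫ κJ.inv := by rw [hnat]
        _ = ((y ≫ κL.hom) ≫ (DerivedCategory.Q.map ν)⟦n⟧') ≫ κJ.inv := by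
            simp only [Category.assoc]
    rw [e]
    exact b3.comp (b2.comp b1)
  haveI : QuasiIso (DRing.homCxMap PG ν) := HomCx.quasiIso_homCxMap_of_bijective PG ν hbν
  haveI : IsIso (DerivedCategory.Q.map (DRing.homCxMap PG ν)) := inferInstance
  obtain ⟨i2⟩ := RHomK.nonempty_RHomCx_iso_of_kprojective G pG LR
  exact ⟨d.symm ≪≫ (asIso (DerivedCategory.Q.map (DRing.homCxMap PG ν))).symm ≪≫ i2.symm ≪≫
    (DRing.RHomCx G).mapIso eR⟩

end LDual

end Groth.Agent.Lib.Helper18.DR
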