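import Mathlib
import Groth.Agent.Lib.Helper18.LDualG

/-!
# Complex-level local duality: the derived completion of `Hom•(K, J)` (helper18)
-/

set_option autoImplicit false
set_option linter.style.haveILetI false
universe u
open CategoryTheory CategoryTheory.Limits CategoryTheory.Pretriangulated HomologicalComplex
  DerivedCategory MonoidalCategory CochainComplex

attribute [local instance] HasDerivedCategory.standard

namespace Groth.Agent.Lib.Helper18.DR

namespace LDual

open RHomCmp Cech Groth.Agent.Lib.Helper2.PRes

variable {A : Type u} [CommRing A]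

/-- **the derived completion of `Hom•(K, J)` is `Hom•(PG, J)`**, where `c : PG ⟶ K` is the
coreflection of `K` onto the objects with torsion cohomology, `PG` K-projective, `J`
K-injective -/
theorem nonempty_derivedCompletion_homCx_iso [IsNoetherianRing A] (l : List A)
    [DRing.HasDerivedCompletion (Ideal.span {x : A | x ∈ l})]
    (K PG J : DRing.Cx A) [J.IsKInjective] (c : PG ⟶ K)
    (hbc : ∀ X : Dual.D A, Tl l X → Function.Bijective
      (fun φ : X ⟶ DerivedCategory.Q.obj PG => φ ≫ DerivedCategory.Q.map c))
    (hPGt : Tl l (DerivedCategory.Q.obj PG)) :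
    Nonempty (((DRing.derivedCompletion (Ideal.span {x : A | x ∈ l})).obj
      (DRing.toD (DRing.homCx K J))).obj ≅ DRing.toD (DRing.homCx PG J)) := by
  have hZ : DRing.IsDerivedComplete (Ideal.span {x : A | x ∈ l})
      (DRing.toD (DRing.homCx PG J)) :=
    isDerivedComplete_span _ _ (fun g hg => fc_homCx_of_torA g PG (torA_of_Tl l PG hPGt g hg) J)
  let η : DRing.toD (DRing.homCx K J) ⟶ DRing.toD (DRing.homCx PG J) :=
    DerivedCategory.Q.map (HomCx.precomp c J)
  have hη : ∀ E : Dual.D A, DRing.IsDerivedComplete (Ideal.span {x : A | x ∈ l}) E →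
      PreBij E η := by
    intro E hE
    have hE' : ∀ g ∈ l, FC g E := fun g hg =>
      (isDerivedComplete_iff_fc _ E).1 hE g (Ideal.subset_span hg)
    exact preBij_precomp_of_coreflection l PG K J c hbc E hE'
  obtain ⟨d, -⟩ := nonempty_iso_of_universal
    (P := fun L => DRing.IsDerivedComplete (Ideal.span {x : A | x ∈ l}) L) η
    (DRing.toDerivedCompletion (Ideal.span {x : A | x ∈ l}) (DRing.toD (DRing.homCx K J))) hZ
    ((DRing.derivedCompletion (Ideal.span {x : A | x ∈ l})).obj
      (DRing.toD (DRing.homCx K J))).property hη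
    (fun L' hL' => bijective_toDerivedCompletion_comp _ _ L' hL')
  exact ⟨d.symm⟩

end LDual

end Groth.Agent.Lib.Helper18.DR
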