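import Mathlib
import Groth.Agent.Lib.Helper18.LDualI
import Groth.Agent.Lib.Helper18.HomCxM
import Groth.Agent.Lib.Helper18.DCAdicE
import Groth.Agent.Lib.Helper18.KProjC
import Groth.Agent.Lib.Helper21.RGj

/-!
# Vanishing of `Hom(M, ω[-i])` versus vanishing of `H^i(RΓ_I M)` (helper18)
-/

set_option autoImplicit false
set_option linter.style.haveILetI false
universe u
open CategoryTheory CategoryTheory.Limits CategoryTheory.Pretriangulated HomologicalComplex
  DerivedCategory MonoidalCategory CochainComplex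

attribute [local instance] HasDerivedCategory.standard

namespace Groth.Agent.Lib.Helper18.DR

namespace LDual

variable {A : Type u} [CommRing A]

/-- local duality, vanishing form, abstract version -/
theorem subsingleton_hom_iff_of_RgammaI_iso [IsNoetherianRing A] (I : Ideal A) (l : List A)
    (hl : Ideal.span {x : A | x ∈ l} = I) [DRing.HasRgammaI I]
    (ω : Dual.D A) (E : Type u) [AddCommGroup E] [Module A E] [Module.Injective A E]
    (θ : (DRing.RgammaI I).obj ω ≅ Sg 0 (ModuleCat.of A E))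
    (hcog : ∀ (T : Type u) [AddCommGroup T] [Module A T],
      Subsingleton (T →ₗ[A] E) → Subsingleton T)
    (hcompl : ∀ (N : Type u) [AddCommGroup N] [Module A N] [Module.Finite A N],
      Subsingleton (AdicCompletion I N) → Subsingleton N)
    (M : Dual.D A) (hfinHom : ∀ j : ℤ, Module.Finite A (M ⟶ ω⟦j⟧)) (i : ℤ) :
    Subsingleton (M ⟶ ω⟦-i⟧) ↔
      Subsingleton (Dual.HD A ((DRing.RgammaI I).obj M) i) := by
  subst hl
  haveI : DRing.HasDerivedCompletion (Ideal.span {x : A | x ∈ l}) :=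
    hasDerivedCompletion_of_fg _ (IsNoetherian.noetherian _)
  haveI : Injective (ModuleCat.of A E) := Module.injective_object_of_injective_module A E
  obtain ⟨P, hP, -, ⟨eP⟩⟩ := exists_kprojective_resolution M
  haveI := hP
  obtain ⟨J, jj, hJ, hjj⟩ := RHomK.hasKInj (DerivedCategory.Q.objPreimage ω)
  haveI := hJ
  haveI := hjj
  let eJ : ω ≅ DerivedCategory.Q.obj J :=
    (DerivedCategory.Q.objObjPreimageIso ω).symm ≪≫ asIso (DerivedCategory.Q.map jj)
  obtain ⟨PG, hPG, -, ⟨eG⟩⟩ := exists_kprojective_resolution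
    ((DRing.RgammaI (Ideal.span {x : A | x ∈ l})).obj (DerivedCategory.Q.obj P))
  haveI := hPG
  obtain ⟨c, hc⟩ := exists_map_eq PG P
    (eG.hom ≫ (DRing.RgammaIε (Ideal.span {x : A | x ∈ l})).app (DerivedCategory.Q.obj P))
  have hbc : ∀ X : Dual.D A, Tl l X → Function.Bijective
      (fun φ : X ⟶ DerivedCategory.Q.obj PG => φ ≫ DerivedCategory.Q.map c) := by
    intro X hX
    rw [hc]
    have b1 : Function.Bijective (fun φ : X ⟶ DerivedCategory.Q.obj PG => φ ≫ eG.hom) :=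
      Groth.Agent.Lib.Helper21.RGb.bijective_comp_of_isIso _
    have b2 := Groth.Agent.Lib.Helper21.RGb.bijective_comp_eps
      (Ideal.span {x : A | x ∈ l}) X (DerivedCategory.Q.obj P) hX
    have e : (fun φ : X ⟶ DerivedCategory.Q.obj PG => φ ≫ (eG.hom ≫
        (DRing.RgammaIε (Ideal.span {x : A | x ∈ l})).app (DerivedCategory.Q.obj P))) =
        (fun g : X ⟶ (DRing.RgammaI (Ideal.span {x : A | x ∈ l})).obj (DerivedCategory.Q.obj P) =>
          g ≫ (DRing.RgammaIε (Ideal.span {x : A | x ∈ l})).app (DerivedCategory.Q.obj P)) ∘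
        (fun φ : X ⟶ DerivedCategory.Q.obj PG => φ ≫ eG.hom) := by
      funext φ
      change _ = (φ ≫ _) ≫ _
      simp only [Category.assoc]
    rw [e]
    exact b2.comp b1
  have hPGt : Tl l (DerivedCategory.Q.obj PG) :=
    Tl.of_iso eG.symm
      (fun i => Groth.Agent.Lib.Helper21.RGb.isPowerTorsion_HD_RgammaI _ _ i)
  obtain ⟨d⟩ := nonempty_derivedCompletion_homCx_iso l P PG J c hbc hPGt
  -- cohomology of `Hom•(P, J)`
  have e1 : ∀ n : ℤ, Dual.HD A (DerivedCategory.Q.obj (DRing.homCx P J)) n ≃ₗ[A] (M ⟶ ω⟦n⟧) :=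
    fun n => (HomCxM.homologyEquiv P J (n - 1) n (n + 1) (by omega) rfl).trans
      (Linear.homCongr A eP ((CategoryTheory.shiftFunctor (Dual.D A) n).mapIso eJ.symm))
  have hfinX : ∀ n : ℤ, Module.Finite A (Dual.HD A (DerivedCategory.Q.obj (DRing.homCx P J)) n) :=
    fun n => by
      haveI := hfinHom n
      exact Module.Finite.equiv (e1 n).symm
  obtain ⟨e2, -⟩ := DCAdic.homology_derivedCompletion_equiv (Ideal.span {x : A | x ∈ l})
    (DerivedCategory.Q.obj (DRing.homCx P J)) hfinX (-i)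
  let e3 : Dual.HD A ((DRing.derivedCompletion (Ideal.span {x : A | x ∈ l})).obj
      (DerivedCategory.Q.obj (DRing.homCx P J))).obj (-i) ≃ₗ[A]
      Dual.HD A (DerivedCategory.Q.obj (DRing.homCx PG J)) (-i) :=
    ((H A (-i)).mapIso d).toLinearEquiv
  let e4 : Dual.HD A (DerivedCategory.Q.obj (DRing.homCx PG J)) (-i) ≃ₗ[A]
      (DerivedCategory.Q.obj PG ⟶ (DerivedCategory.Q.obj J)⟦-i⟧) :=
    HomCxM.homologyEquiv PG J (-i - 1) (-i) (-i + 1) (by omega) rfl
  let RM := (DRing.RgammaI (Ideal.span {x : A | x ∈ l})).obj M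
  let e5 : (DerivedCategory.Q.obj PG ⟶ (DerivedCategory.Q.obj J)⟦-i⟧) ≃ₗ[A] (RM ⟶ ω⟦-i⟧) :=
    Linear.homCongr A (eG ≪≫ (DRing.RgammaI (Ideal.span {x : A | x ∈ l})).mapIso eP)
      ((CategoryTheory.shiftFunctor (Dual.D A) (-i)).mapIso eJ.symm)
  -- `Hom(RΓ M, ω[-i]) ≃ Hom(H^i(RΓ M), E)`
  let εω : (DRing.RgammaI (Ideal.span {x : A | x ∈ l})).obj ω ⟶ ω :=
    (DRing.RgammaIε (Ideal.span {x : A | x ∈ l})).app ω
  let α : (Sg 0 (ModuleCat.of A E))⟦-i⟧ ≅ Sg i (ModuleCat.of A E) :=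
    SgShiftIso (-i) i 0 (by omega) (ModuleCat.of A E)
  let ψ : Sg i (ModuleCat.of A E) ⟶ ω⟦-i⟧ := α.inv ≫ (θ.inv)⟦-i⟧' ≫ εω⟦-i⟧'
  have hb2 : Function.Bijective (Linear.rightComp A RM ψ) := by
    have hL : ∀ j : ℤ, LocCoh.IsPowerTorsion (Ideal.span {x : A | x ∈ l})
        (Dual.HD A (RM⟦i⟧) j) :=
      Groth.Agent.Lib.Helper21.RGj.isPowerTorsion_HD_shift _ _ i
        (fun j => Groth.Agent.Lib.Helper21.RGb.isPowerTorsion_HD_RgammaI _ M j)
    have h1 := Groth.Agent.Lib.Helper21.RGj.bijective_comp_shift εω i (-i) (by omega) RM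
      (Groth.Agent.Lib.Helper21.RGb.bijective_comp_eps _ _ ω hL)
    have h2 : Function.Bijective
        (fun g : RM ⟶ Sg i (ModuleCat.of A E) => g ≫ (α.inv ≫ (θ.inv)⟦-i⟧')) :=
      Groth.Agent.Lib.Helper21.RGb.bijective_comp_of_isIso _
    have e' : (⇑(Linear.rightComp A RM ψ)) =
        (fun g : RM ⟶ ((DRing.RgammaI (Ideal.span {x : A | x ∈ l})).obj ω)⟦-i⟧ =>
          g ≫ εω⟦-i⟧') ∘
        (fun g : RM ⟶ Sg i (ModuleCat.of A E) => g ≫ (α.inv ≫ (θ.inv)⟦-i⟧')) := by
      funext g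
      simp only [Function.comp_apply, Linear.rightComp_apply, Category.assoc, ψ]
    rw [e']
    exact h1.comp h2
  have hb3 := Groth.Agent.Lib.Helper21.RGj.homToSgLin_bijective i (ModuleCat.of A E) RM
  let L2 : (RM ⟶ Sg i (ModuleCat.of A E)) ≃ₗ[A] (RM ⟶ ω⟦-i⟧) :=
    LinearEquiv.ofBijective (Linear.rightComp A RM ψ) hb2
  let L3 : (RM ⟶ Sg i (ModuleCat.of A E)) ≃ₗ[A] ((H A i).obj RM ⟶ ModuleCat.of A E) :=
    LinearEquiv.ofBijective (Groth.Agent.Lib.Helper21.RGj.homToSgLin i (ModuleCat.of A E) RM) hb3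
  let L4 : ((H A i).obj RM ⟶ ModuleCat.of A E) ≃ₗ[A] (Dual.HD A RM i →ₗ[A] E) :=
    ModuleCat.homLinearEquiv
  -- the chain
  let ch : AdicCompletion (Ideal.span {x : A | x ∈ l})
      (Dual.HD A (DerivedCategory.Q.obj (DRing.homCx P J)) (-i)) ≃ₗ[A] (Dual.HD A RM i →ₗ[A] E) :=
    e2.symm.trans (e3.trans (e4.trans (e5.trans (L2.symm.trans (L3.trans L4)))))
  constructor
  · intro h
    haveI : Subsingleton (Dual.HD A (DerivedCategory.Q.obj (DRing.homCx P J)) (-i)) :=
      (e1 (-i)).toEquiv.subsingleton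
    haveI : Subsingleton (AdicCompletion (Ideal.span {x : A | x ∈ l})
        (Dual.HD A (DerivedCategory.Q.obj (DRing.homCx P J)) (-i))) :=
      ⟨fun x y => AdicCompletion.ext (fun n => Subsingleton.elim _ _)⟩
    haveI : Subsingleton (Dual.HD A RM i →ₗ[A] E) := ch.symm.toEquiv.subsingleton
    exact hcog _ inferInstance
  · intro h
    haveI : Subsingleton (Dual.HD A RM i →ₗ[A] E) :=
      ⟨fun f g => LinearMap.ext (fun x => by rw [Subsingleton.elim x 0, map_zero, map_zero])⟩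
    haveI : Subsingleton (AdicCompletion (Ideal.span {x : A | x ∈ l})
        (Dual.HD A (DerivedCategory.Q.obj (DRing.homCx P J)) (-i))) := ch.toEquiv.subsingleton
    haveI := hfinX (-i)
    haveI : Subsingleton (Dual.HD A (DerivedCategory.Q.obj (DRing.homCx P J)) (-i)) :=
      hcompl _ inferInstance
    exact (e1 (-i)).symm.toEquiv.subsingleton

end LDual

end Groth.Agent.Lib.Helper18.DR
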