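import Mathlib
import Groth.Agent.Lib.Helper18.LDualG
import Groth.Agent.Lib.Helper18.DRProj
import Groth.Agent.S1812
import Groth.Agent.S1718

/-!
# Local duality and derived completion (helper18)
-/

set_option autoImplicit false
set_option linter.style.haveILetI false
universe u
open CategoryTheory CategoryTheory.Limits CategoryTheory.Pretriangulated HomologicalComplex
  DerivedCategory MonoidalCategory CochainComplex

attribute [local instance] HasDerivedCategory.standard

namespace Groth.Agent.Lib.Helper18.DR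

namespace LDual

variable {A : Type u} [CommRing A]

/-- an object of `D(A)` with cohomology `E` in degree `0` and none elsewhere is `E[0]` -/
theorem nonempty_iso_inD (X : Dual.D A) (E : Type u) [AddCommGroup E] [Module A E]
    (h0 : Nonempty (Dual.HD A X 0 ≃ₗ[A] E))
    (hz : ∀ i : ℤ, i ≠ 0 → Subsingleton (Dual.HD A X i)) : Nonempty (X ≅ Dual.inD A E) := by
  have hz' : ∀ j : ℤ, j ≠ 0 → IsZero ((H A j).obj X) := by
    intro j hj
    haveI := hz j hj
    exact ModuleCat.isZero_of_subsingleton _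
  haveI : X.IsGE 0 := by
    rw [DerivedCategory.isGE_iff]
    exact fun i hi => hz' i (by omega)
  haveI : X.IsLE 0 := by
    rw [DerivedCategory.isLE_iff]
    exact fun i hi => hz' i (by omega)
  obtain ⟨V, ⟨eV⟩⟩ := exists_iso_singleFunctor_obj_of_isGE_of_isLE X 0
  obtain ⟨e0⟩ := h0
  let eVE : V ≅ ModuleCat.of A E :=
    (HSg 0 V).symm ≪≫ (H A 0).mapIso eV.symm ≪≫ e0.toModuleIso
  exact ⟨eV ≪≫ (DerivedCategory.singleFunctor (ModuleCat.{u} A) 0).mapIso eVE⟩

/-- `RΓ_m(ω) ≅ E[0]` for a normalized dualizing complex -/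
theorem nonempty_RgammaI_dualizing_iso [IsLocalRing A] [IsNoetherianRing A] (ω : Dual.D A)
    (hω : Dual.IsDualizing A ω) (hn : Dual.IsNormalized A ω) (E : Type u) [AddCommGroup E]
    [Module A E] (f : IsLocalRing.ResidueField A →ₗ[A] E) (hf : InjHull.IsInjectiveHull f)
    [DRing.HasRgammaI (IsLocalRing.maximalIdeal A)] :
    Nonempty ((DRing.RgammaI (IsLocalRing.maximalIdeal A)).obj ω ≅ Dual.inD A E) := by
  have hFG : (IsLocalRing.maximalIdeal A).FG := IsNoetherian.noetherian _
  obtain ⟨⟨e0⟩, hz⟩ := Groth.Agent.S1718.result A ω hω hn E f hf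
  refine nonempty_iso_inD _ E ?_ ?_
  · obtain ⟨e1⟩ := Groth.Agent.S1812.result A (IsLocalRing.maximalIdeal A) hFG ω 0
    exact ⟨e1.trans e0⟩
  · intro i hi
    obtain ⟨e1⟩ := Groth.Agent.S1812.result A (IsLocalRing.maximalIdeal A) hFG ω i
    haveI := hz i hi
    exact e1.injective.subsingleton

/-- **S1818** -/
theorem local_duality_derivedCompletion [IsLocalRing A] [IsNoetherianRing A] (ω : Dual.D A)
    (hω : Dual.IsDualizing A ω) (hn : Dual.IsNormalized A ω) (E : Type u) [AddCommGroup E]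
    [Module A E] (f : IsLocalRing.ResidueField A →ₗ[A] E) (hf : InjHull.IsInjectiveHull f)
    [DRing.HasRgammaI (IsLocalRing.maximalIdeal A)]
    [DRing.HasDerivedCompletion (IsLocalRing.maximalIdeal A)] (K : DRing.Cx A)
    [DRing.HasRHomCx K] (G : DRing.Cx A) [DRing.HasRHomCx G]
    (hG : Nonempty (DRing.toD G ≅
      (DRing.RgammaI (IsLocalRing.maximalIdeal A)).obj (DRing.toD K))) :
    Nonempty (((DRing.derivedCompletion (IsLocalRing.maximalIdeal A)).obj
      ((DRing.RHomCx K).obj ω)).obj ≅ (DRing.RHomCx G).obj (Dual.inD A E)) := by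
  classical
  obtain ⟨hG⟩ := hG
  obtain ⟨s, hs⟩ := (IsNoetherian.noetherian (IsLocalRing.maximalIdeal A) :
    (IsLocalRing.maximalIdeal A).FG)
  have hl : Ideal.span {x : A | x ∈ s.toList} = IsLocalRing.maximalIdeal A := by
    rw [← hs]
    congr 1
    ext x
    simp
  obtain ⟨e1⟩ := nonempty_derivedCompletion_RHomCx_iso (IsLocalRing.maximalIdeal A) s.toList hl
    K G hG ω
  obtain ⟨e2⟩ := nonempty_RgammaI_dualizing_iso ω hω hn E f hf
  exact ⟨e1 ≪≫ (DRing.RHomCx G).mapIso e2⟩

end LDual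

end Groth.Agent.Lib.Helper18.DR
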