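import Mathlib
import Groth.Agent.Lib.Helper18.LDualJ
import Groth.Agent.Lib.Helper18.LDualH
import Groth.Agent.Lib.Helper18.DRInjFin
import Groth.Agent.Lib.Helper18.DRInjAmp2
import Groth.Agent.Lib.Helper1.Matlis

/-!
# S19135: vanishing of `Hom(M, ω[-i])` iff vanishing of `H^i(RΓ_m M)` (helper18)
-/

set_option autoImplicit false
set_option linter.style.haveILetI false
universe u
open CategoryTheory CategoryTheory.Limits CategoryTheory.Pretriangulated HomologicalComplex
  DerivedCategory MonoidalCategory CochainComplex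

attribute [local instance] HasDerivedCategory.standard

namespace Groth.Agent.Lib.Helper18.DR

namespace LDual

variable {A : Type u} [CommRing A]

theorem subsingleton_hom_dualizing_iff [IsLocalRing A] [IsNoetherianRing A] (ω : Dual.D A)
    (hω : Dual.IsDualizing A ω) (hn : Dual.IsNormalized A ω)
    [DRing.HasRgammaI (IsLocalRing.maximalIdeal A)] (M : Dual.D A)
    (hfin : ∀ i : ℤ, Module.Finite A (Dual.HD A M i)) (i : ℤ) :
    Subsingleton (M ⟶ ω⟦-i⟧) ↔
      Subsingleton (Dual.HD A ((DRing.RgammaI (IsLocalRing.maximalIdeal A)).obj M) i) := by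
  classical
  obtain ⟨s, hs⟩ := (IsNoetherian.noetherian (IsLocalRing.maximalIdeal A) :
    (IsLocalRing.maximalIdeal A).FG)
  have hl : Ideal.span {x : A | x ∈ s.toList} = IsLocalRing.maximalIdeal A := by
    rw [← hs]
    congr 1
    ext x
    simp
  obtain ⟨E, _, _, f, hf⟩ :=
    Groth.Agent.Lib.Helper1.InjHullLib.exists_injective_hull A (IsLocalRing.ResidueField A)
  haveI : Module.Injective A E := hf.isInjective
  obtain ⟨θ⟩ := nonempty_RgammaI_dualizing_iso ω hω hn E f hf
  have hfid : DRing.HasFiniteInjDim A ω :=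
    (hasFiniteInjDim_iff ω).2 hω.finite_injective_dimension
  refine subsingleton_hom_iff_of_RgammaI_iso (IsLocalRing.maximalIdeal A) s.toList hl ω E θ
    ?_ ?_ M (fun j => finite_hom_shift_of_finiteInjDim M ω hfin hω.finite_cohomology hfid j) i
  · intro T _ _ hT
    refine ⟨fun x y => ?_⟩
    by_contra hxy
    obtain ⟨φ, hφ⟩ := Groth.Agent.Lib.Helper1.Matlis.exists_hom_apply_ne_zero f hf T (x - y)
      (sub_ne_zero.2 hxy)
    exact hφ (by rw [Subsingleton.elim φ 0, LinearMap.zero_apply])
  · intro N _ _ _ hN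
    exact (AdicCompletion.of_injective (IsLocalRing.maximalIdeal A) N).subsingleton

end LDual

end Groth.Agent.Lib.Helper18.DR
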