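import Mathlib
import Groth.Agent.Lib.Helper18.LDualK
import Groth.Agent.Lib.Helper18.DRInd
import Groth.Agent.Lib.Helper18.DRInjAmp
import Groth.Agent.Lib.Helper18.DRDC1
import Groth.Agent.Lib.Helper1.MatlisComplete
import Groth.Agent.S0315

/-!
# Local cohomology of bounded complexes with finite cohomology is bounded and cofinite (helper18)
-/

set_option autoImplicit false
set_option linter.style.haveILetI false
universe u
open CategoryTheory CategoryTheory.Limits CategoryTheory.Pretriangulated DerivedCategory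

attribute [local instance] HasDerivedCategory.standard

namespace Groth.Agent.Lib.Helper18.DR

namespace GM

variable {A : Type u} [CommRing A]

/-- vanishing of `Hom(M, ω[j])` from the cohomological amplitude of `M` and the injective
amplitude of `ω` -/
theorem subsingleton_hom_shift_of_bounded (ω : Dual.D A) (a' b' : ℤ)
    (hω : ∀ (N : Type u) [AddCommGroup N] [Module A N] (i : ℤ),
      (i < a' ∨ b' < i) → Subsingleton (Dual.inD A N ⟶ ω⟦i⟧))
    (M : Dual.D A) (a b : ℤ) (hM : ∀ i : ℤ, (i < a ∨ b < i) → IsZero ((H A i).obj M))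
    (j : ℤ) (hj : j + b < a' ∨ b' < j + a) : Subsingleton (M ⟶ ω⟦j⟧) := by
  refine cohomological_induction (fun X : Dual.D A => Subsingleton (X ⟶ ω⟦j⟧)) ?_ ?_ ?_ M a b hM ?_
  · intro X Y e h
    exact ⟨fun f g => by
      rw [← cancel_epi e.hom]
      exact h.elim _ _⟩
  · intro X hX
    exact ⟨fun f g => hX.eq_of_src f g⟩
  · intro T hT h1 h3
    have hz : ∀ f : T.obj₂ ⟶ ω⟦j⟧, f = 0 := by
      intro f
      have h0 : T.mor₁ ≫ f = 0 := h1.elim _ _
      obtain ⟨g, hg⟩ := Triangle.yoneda_exact₂ _ hT f h0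
      rw [hg, h3.elim g 0, comp_zero]
    exact ⟨fun f g => by rw [hz f, hz g]⟩
  · intro i hia hib
    rw [← subsingleton_extD_iff]
    have h := hω ((H A i).obj M) (j + i) (by omega)
    exact subsingleton_hom_of_iso ((shiftFunctorAdd' (Dual.D A) j i (j + i) rfl).app ω) h

variable [IsLocalRing A] [IsNoetherianRing A]

/-- (a1): `RΓ_m M` is bounded for `M` bounded with finite cohomology -/
theorem exists_bounds_HD_RgammaI (ω : Dual.D A) (hω : Dual.IsDualizing A ω)
    (hn : Dual.IsNormalized A ω) [DRing.HasRgammaI (IsLocalRing.maximalIdeal A)] (M : Dual.D A)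
    (hfin : ∀ i : ℤ, Module.Finite A (Dual.HD A M i))
    (hbd : ∃ a b : ℤ, ∀ i : ℤ, (i < a ∨ b < i) → Subsingleton (Dual.HD A M i)) :
    ∃ a b : ℤ, ∀ i : ℤ, (i < a ∨ b < i) →
      Subsingleton (Dual.HD A ((DRing.RgammaI (IsLocalRing.maximalIdeal A)).obj M) i) := by
  obtain ⟨a, b, hab⟩ := hbd
  obtain ⟨a', b', hω'⟩ := hω.finite_injective_dimension
  refine ⟨a - b', b - a', fun i hi => ?_⟩
  rw [← LDual.subsingleton_hom_dualizing_iff ω hω hn M hfin i]
  exact subsingleton_hom_shift_of_bounded ω a' b' hω' M a b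
    (fun p hp => by
      haveI := hab p hp
      exact ModuleCat.isZero_of_subsingleton _) (-i) (by omega)

/-- conversion: Artinian modules are cofinite -/
theorem cofinite_of_isArtinian (T : Type u) [AddCommGroup T] [Module A T] [IsArtinian A T] :
    LocCoh.IsPowerTorsion (IsLocalRing.maximalIdeal A) T ∧
      Module.Finite A ↥(LocCoh.torsionBy (IsLocalRing.maximalIdeal A) T) := by
  obtain ⟨h1, h2⟩ := (Groth.Agent.S0315.result A T).1 inferInstance
  refine ⟨h1, ?_⟩
  haveI := h2
  exact Module.Finite.trans (A ⧸ IsLocalRing.maximalIdeal A) _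

/-- conversion: cofinite modules are Artinian -/
theorem isArtinian_of_cofinite (T : Type u) [AddCommGroup T] [Module A T]
    (h1 : LocCoh.IsPowerTorsion (IsLocalRing.maximalIdeal A) T)
    (h2 : Module.Finite A ↥(LocCoh.torsionBy (IsLocalRing.maximalIdeal A) T)) :
    IsArtinian A T := by
  refine (Groth.Agent.S0315.result A T).2 ⟨h1, ?_⟩
  haveI := h2
  exact Module.Finite.of_restrictScalars_finite A (A ⧸ IsLocalRing.maximalIdeal A) _

/-- (a2): the cohomology modules of `RΓ_m M` are Artinian, over a complete local ring -/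
theorem isArtinian_HD_RgammaI [IsAdicComplete (IsLocalRing.maximalIdeal A) A] (ω : Dual.D A)
    (hω : Dual.IsDualizing A ω) (hn : Dual.IsNormalized A ω)
    [DRing.HasRgammaI (IsLocalRing.maximalIdeal A)] (M : Dual.D A)
    (hfin : ∀ i : ℤ, Module.Finite A (Dual.HD A M i)) (i : ℤ) :
    IsArtinian A (Dual.HD A ((DRing.RgammaI (IsLocalRing.maximalIdeal A)).obj M) i) := by
  obtain ⟨E, _, _, f, hf⟩ :=
    Groth.Agent.Lib.Helper1.InjHullLib.exists_injective_hull A (IsLocalRing.ResidueField A)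
  obtain ⟨L⟩ := Groth.Agent.Lib.Helper21.RGj.local_duality_complete_complex ω hω hn E f hf M i
  obtain ⟨e5⟩ := Groth.Agent.Lib.Helper21.RGg.nonempty_HD_RgammaI_equiv_HDI
    (I := IsLocalRing.maximalIdeal A) (q := i) M
  have hfid : DRing.HasFiniteInjDim A ω :=
    (hasFiniteInjDim_iff ω).2 hω.finite_injective_dimension
  haveI : Module.Finite A (M ⟶ ω⟦-i⟧) :=
    finite_hom_shift_of_finiteInjDim M ω hfin hω.finite_cohomology hfid (-i)
  let T := Dual.HD A ((DRing.RgammaI (IsLocalRing.maximalIdeal A)).obj M) i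
  let e1 : (T →ₗ[A] E) ≃ₗ[A] (M ⟶ ω⟦-i⟧) :=
    (LinearEquiv.arrowCongr e5 (LinearEquiv.refl A E)).trans L.symm
  haveI : Module.Finite A (T →ₗ[A] E) := Module.Finite.equiv e1.symm
  haveI : IsArtinian A ((T →ₗ[A] E) →ₗ[A] E) :=
    Groth.Agent.Lib.Helper1.Matlis.isArtinian_hom_of_finite f hf _
  have hinj := Groth.Agent.Lib.Helper1.Matlis.applyₗ_injective f hf T
  exact isArtinian_of_injective (LinearMap.applyₗ : T →ₗ[A] (T →ₗ[A] E) →ₗ[A] E) hinj

end GM

end Groth.Agent.Lib.Helper18.DR
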