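import Mathlib
import Groth.Agent.Lib.Helper18.LDualJ
import Groth.Agent.Lib.Helper18.LDualM
import Groth.Agent.S0317

/-!
# The derived completion of a Matlis dual complex (helper18)
-/

set_option autoImplicit false
set_option linter.style.haveILetI false
universe u
open CategoryTheory CategoryTheory.Limits CategoryTheory.Pretriangulated HomologicalComplex
  DerivedCategory MonoidalCategory CochainComplex

attribute [local instance] HasDerivedCategory.standard

namespace Groth.Agent.Lib.Helper18.DR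

namespace GM

open LDual

variable {A : Type u} [CommRing A]

/-- the single complex of an injective module is K-injective -/
instance isKInjective_single (n : ℤ) (E : ModuleCat.{u} A) [Injective E] :
    ((CochainComplex.singleFunctor (ModuleCat.{u} A) n).obj E).IsKInjective := by
  haveI : ∀ i, Injective (((CochainComplex.singleFunctor (ModuleCat.{u} A) n).obj E).X i) := by
    intro i
    by_cases h : i = n
    · subst h
      exact Injective.of_iso (HomologicalComplex.singleObjXSelf (ComplexShape.up ℤ) i E).symm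
        inferInstance
    · exact (HomologicalComplex.isZero_single_obj_X (ComplexShape.up ℤ) n E i h).injective
  exact CochainComplex.isKInjective_of_injective _ n

/-- an object of `D(A)` with a single cohomology module is a shifted module -/
theorem nonempty_iso_Sg_of_HD' (X : Dual.D A) (i : ℤ) (N : ModuleCat.{u} A)
    (h0 : Nonempty (Dual.HD A X i ≃ₗ[A] N))
    (hz : ∀ q : ℤ, q ≠ i → Subsingleton (Dual.HD A X q)) : Nonempty (X ≅ Sg i N) := by
  haveI : X.IsLE i := by
    rw [DerivedCategory.isLE_iff]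
    intro q hq
    haveI := hz q (by omega)
    exact ModuleCat.isZero_of_subsingleton _
  haveI : X.IsGE i := by
    rw [DerivedCategory.isGE_iff]
    intro q hq
    haveI := hz q (by omega)
    exact ModuleCat.isZero_of_subsingleton _
  obtain ⟨V, ⟨e⟩⟩ := exists_iso_singleFunctor_obj_of_isGE_of_isLE X i
  obtain ⟨e0⟩ := h0
  let eV : V ≅ N := (HSg i V).symm ≪≫ (H A i).mapIso e.symm ≪≫ e0.toModuleIso
  exact ⟨e ≪≫ (DerivedCategory.singleFunctor (ModuleCat.{u} A) i).mapIso eV⟩

/-- **the cohomology of the derived completion of `Hom•(X, J)`** is `Hom(RΓ_I X, J[j])` -/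
theorem nonempty_HD_derivedCompletion_homCx_equiv [IsNoetherianRing A] (I : Ideal A) (l : List A)
    (hl : Ideal.span {x : A | x ∈ l} = I) [DRing.HasRgammaI I] [DRing.HasDerivedCompletion I]
    (X J : DRing.Cx A) [J.IsKInjective] (j : ℤ) :
    Nonempty (Dual.HD A ((DRing.derivedCompletion I).obj
        (DerivedCategory.Q.obj (DRing.homCx X J))).obj j ≃ₗ[A]
      ((DRing.RgammaI I).obj (DerivedCategory.Q.obj X) ⟶ (DerivedCategory.Q.obj J)⟦j⟧)) := by
  subst hl
  obtain ⟨PG, hPG, -, ⟨eG⟩⟩ := exists_kprojective_resolution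
    ((DRing.RgammaI (Ideal.span {x : A | x ∈ l})).obj (DerivedCategory.Q.obj X))
  haveI := hPG
  obtain ⟨c, hc⟩ := exists_map_eq PG X
    (eG.hom ≫ (DRing.RgammaIε (Ideal.span {x : A | x ∈ l})).app (DerivedCategory.Q.obj X))
  have hbc : ∀ Y : Dual.D A, Tl l Y → Function.Bijective
      (fun φ : Y ⟶ DerivedCategory.Q.obj PG => φ ≫ DerivedCategory.Q.map c) := by
    intro Y hY
    rw [hc]
    have b1 : Function.Bijective (fun φ : Y ⟶ DerivedCategory.Q.obj PG => φ ≫ eG.hom) :=
      Groth.Agent.Lib.Helper21.RGb.bijective_comp_of_isIso _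
    have b2 := Groth.Agent.Lib.Helper21.RGb.bijective_comp_eps
      (Ideal.span {x : A | x ∈ l}) Y (DerivedCategory.Q.obj X) hY
    have e : (fun φ : Y ⟶ DerivedCategory.Q.obj PG => φ ≫ (eG.hom ≫
        (DRing.RgammaIε (Ideal.span {x : A | x ∈ l})).app (DerivedCategory.Q.obj X))) =
        (fun g : Y ⟶ (DRing.RgammaI (Ideal.span {x : A | x ∈ l})).obj (DerivedCategory.Q.obj X) =>
          g ≫ (DRing.RgammaIε (Ideal.span {x : A | x ∈ l})).app (DerivedCategory.Q.obj X)) ∘
        (fun φ : Y ⟶ DerivedCategory.Q.obj PG => φ ≫ eG.hom) := by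
      funext φ
      change _ = (φ ≫ _) ≫ _
      simp only [Category.assoc]
    rw [e]
    exact b2.comp b1
  have hPGt : Tl l (DerivedCategory.Q.obj PG) :=
    Tl.of_iso eG.symm
      (fun i => Groth.Agent.Lib.Helper21.RGb.isPowerTorsion_HD_RgammaI _ _ i)
  obtain ⟨d⟩ := nonempty_derivedCompletion_homCx_iso l X PG J c hbc hPGt
  let e3 : Dual.HD A ((DRing.derivedCompletion (Ideal.span {x : A | x ∈ l})).obj
      (DerivedCategory.Q.obj (DRing.homCx X J))).obj j ≃ₗ[A]
      Dual.HD A (DerivedCategory.Q.obj (DRing.homCx PG J)) j :=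
    ((H A j).mapIso d).toLinearEquiv
  let e4 : Dual.HD A (DerivedCategory.Q.obj (DRing.homCx PG J)) j ≃ₗ[A]
      (DerivedCategory.Q.obj PG ⟶ (DerivedCategory.Q.obj J)⟦j⟧) :=
    HomCxM.homologyEquiv PG J (j - 1) j (j + 1) (by omega) rfl
  let e5 : (DerivedCategory.Q.obj PG ⟶ (DerivedCategory.Q.obj J)⟦j⟧) ≃ₗ[A]
      ((DRing.RgammaI (Ideal.span {x : A | x ∈ l})).obj (DerivedCategory.Q.obj X) ⟶
        (DerivedCategory.Q.obj J)⟦j⟧) :=
    Linear.homCongr A eG (Iso.refl _)
  exact ⟨e3.trans (e4.trans e5)⟩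

end GM

end Groth.Agent.Lib.Helper18.DR
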