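import Mathlib
import Groth.Agent.Lib.Helper18.InvC
import Groth.Agent.Lib.Helper18.LDualO
import Groth.Agent.Lib.Helper18.KProjC

/-!
# The local structure of an object of `D(A)` with one-dimensional residue tests (helper18)
-/

set_option autoImplicit false
set_option linter.style.haveILetI false
universe u
open CategoryTheory CategoryTheory.Limits CategoryTheory.Pretriangulated DerivedCategory

attribute [local instance] HasDerivedCategory.standard

namespace Groth.Agent.Lib.Helper18.DR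

namespace Inv

open HomLoc Uq

variable {A : Type u} [CommRing A] [IsNoetherianRing A] (m : Ideal A) [hm : m.IsMaximal]

/-- freeness at `m` from the injectivity of `A ⟶ End(K)` -/
theorem exists_mul_eq_zero_of_smul_gen (K : Dual.D A) (n₀ b₀ : ℤ) [K.IsGE n₀] [K.IsLE b₀]
    (hfin : ∀ j : ℤ, Module.Finite A (Dual.HD A K j))
    (hend_inj : ∀ c : A, c • 𝟙 K = 0 → c = 0) (a : ℤ)
    (hz : ∀ j : ℤ, j ≠ a → LocZero ((H A j).obj K) m)
    (q₀ : (H A a).obj K)
    (hgen : ∀ q : (H A a).obj K, ∃ s : A, s ∉ m ∧ ∃ c : A, s • q = c • q₀)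
    (c : A) (hc : c • q₀ = 0) : ∃ s : A, s ∉ m ∧ s * c = 0 := by
  haveI : m.IsPrime := hm.isPrime
  obtain ⟨P, hP, -, ⟨e⟩⟩ := exists_kprojective_resolution K
  haveI := hP
  let S := m.primeCompl
  let B := Localization.AtPrime m
  obtain ⟨KB, hloc⟩ : ∃ KB : Dual.D B, IsLocOf S B K KB :=
    ⟨_, (isLocOf_Q S B P).of_iso e (Iso.refl _)⟩
  obtain ⟨η, hη, hb⟩ := hloc
  have hpc : DRing.IsPseudoCoherent' A K := isPseudoCoherent'_of_isLE_of_finite K b₀ hfin
  haveI := isGE_restrict_of_sloc S hη n₀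
  have hLP : LocProp S η K := locProp_of_isPseudoCoherent' hη n₀ K hpc
  -- the cohomology of `KB`
  have hloc' : ∀ j : ℤ, IsLocalizedModule S (Hη η j).hom := fun j => isLocalizedModule_Hη S hη j
  have hzero : ∀ j : ℤ, j ≠ a → Subsingleton (Dual.HD B KB j) := by
    intro j hj
    haveI := hloc' j
    refine ⟨fun y y' => ?_⟩
    have key : ∀ y : (ModuleCat.restrictScalars.{u} (algebraMap A B)).obj ((H B j).obj KB),
        y = 0 := by
      intro y
      obtain ⟨⟨x, s⟩, hxs⟩ := IsLocalizedModule.surj S (Hη η j).hom y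
      obtain ⟨t, ht, htx⟩ := hz j hj x
      have h0 : (Hη η j).hom x = 0 :=
        (IsLocalizedModule.eq_zero_iff S (Hη η j).hom).2 ⟨⟨t, ht⟩, htx⟩
      rw [h0] at hxs
      refine IsLocalizedModule.smul_injective (Hη η j).hom s ?_
      beta_reduce
      rw [hxs, smul_zero]
    exact (key y).trans (key y').symm
  -- `c` kills `H^a(KB)`
  have hkill : ∀ y : (ModuleCat.restrictScalars.{u} (algebraMap A B)).obj ((H B a).obj KB),
      c • y = 0 := by
    haveI := hloc' a
    intro y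
    obtain ⟨⟨x, s⟩, hxs⟩ := IsLocalizedModule.surj S (Hη η a).hom y
    obtain ⟨t, ht, d, htd⟩ := hgen x
    have h0 : (Hη η a).hom (c • x) = 0 :=
      (IsLocalizedModule.eq_zero_iff S (Hη η a).hom).2 ⟨⟨t, ht⟩, by
        change t • c • x = 0
        rw [smul_comm, htd, smul_comm, hc, smul_zero]⟩
    refine IsLocalizedModule.smul_injective (Hη η a).hom s ?_
    beta_reduce
    rw [smul_zero, smul_comm, hxs, ← map_smul, h0]
  -- hence `c` kills `KB`
  obtain ⟨φ⟩ : Nonempty (KB ≅ Sg a ((H B a).obj KB)) :=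
    GM.nonempty_iso_Sg_of_HD' KB a _ ⟨LinearEquiv.refl B _⟩ hzero
  have h1 : (algebraMap A B c) • 𝟙 ((H B a).obj KB) = 0 := by
    apply ModuleCat.hom_ext
    apply LinearMap.ext
    intro y
    exact hkill y
  have h2 : (algebraMap A B c) • 𝟙 KB = 0 := by
    have h3 : (algebraMap A B c) • 𝟙 (Sg a ((H B a).obj KB)) = 0 := by
      have : (algebraMap A B c) • 𝟙 (Sg a ((H B a).obj KB)) =
          (singleFunctor (ModuleCat.{u} B) a).map ((algebraMap A B c) • 𝟙 _) := by
        rw [Functor.map_smul, CategoryTheory.Functor.map_id]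
      rw [this, h1, Functor.map_zero]
    have h4 : (algebraMap A B c) • 𝟙 KB = φ.hom ≫ ((algebraMap A B c) • 𝟙 _) ≫ φ.inv := by
      rw [Linear.smul_comp, Linear.comp_smul, Category.id_comp, Iso.hom_inv_id]
    rw [h4, h3, zero_comp, comp_zero]
  have h5 : (c • 𝟙 K) ≫ η = 0 := by
    have e2 := comp_map_smul η c (𝟙 KB)
    rw [h2, Functor.map_zero, comp_zero, CategoryTheory.Functor.map_id, Category.comp_id] at e2
    rw [Linear.smul_comp, Category.id_comp]
    exact e2.symm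
  obtain ⟨s, hs, hs0⟩ := hLP.inj _ h5
  refine ⟨s, hs, hend_inj _ ?_⟩
  rw [mul_smul]
  exact hs0

/-- the local structure at `m` of an object whose tests against `κ(m)[-j]` are those of a
shifted free module of rank one -/
theorem locStructure (K : Dual.D A) (n₀ b₀ : ℤ) [K.IsGE n₀] [K.IsLE b₀]
    (hfin : ∀ j : ℤ, Module.Finite A (Dual.HD A K j))
    (hend_inj : ∀ c : A, c • 𝟙 K = 0 → c = 0) (a : ℤ)
    (hzero : ∀ j : ℤ, j ≠ a → ∀ g : K ⟶ Sg j (kap m), g = 0)
    (hne : ∃ g : K ⟶ Sg a (kap m), g ≠ 0)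
    (hprop : ∀ g₁ g₂ : K ⟶ Sg a (kap m), g₁ ≠ 0 → ∃ c : A, g₂ = c • g₁) :
    LocRankOne ((H A a).obj K) m ∧ ∀ j : ℤ, j ≠ a → LocZero ((H A j).obj K) m := by
  have hK : ∀ i : ℤ, (i < n₀ ∨ b₀ < i) → IsZero ((H A i).obj K) := by
    intro i hi
    rcases hi with hi | hi
    · exact isZero_of_isGE K n₀ i hi
    · exact isZero_of_isLE K b₀ i hi
  have hb : ∃ b : ℤ, ∀ j : ℤ, b < j → Subsingleton (Dual.HD A K j) :=
    ⟨b₀, fun j hj => ModuleCat.subsingleton_of_isZero (isZero_of_isLE K b₀ j hj)⟩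
  have hz : ∀ j : ℤ, j ≠ a → LocZero ((H A j).obj K) m := by
    intro j hj
    refine locZero_of_noHom_kap m K hb hfin j (fun g => ?_)
    have := hzero j hj (g ≫ (SgShiftIso (-j) j 0 (by omega) (kap m)).hom)
    rw [← cancel_mono (SgShiftIso (-j) j 0 (by omega) (kap m)).hom, this, zero_comp]
  have hnz : ¬ LocZero ((H A a).obj K) m := by
    intro hza
    obtain ⟨g, hg⟩ := hne
    refine hg (noKap_of_locZero m K n₀ b₀ hK hfin (fun i => ?_) a g)
    by_cases hi : i = a
    · subst hi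
      exact hza
    · exact hz i hi
  obtain ⟨q₀, hgen⟩ := locCyclic_of_hom_kap_proportional m K n₀ b₀ hK hfin a
    (fun i hi => hz i (by omega)) hnz hprop
  exact ⟨⟨q₀, hgen, fun c hc =>
    exists_mul_eq_zero_of_smul_gen m K n₀ b₀ hfin hend_inj a hz q₀ hgen c hc⟩, hz⟩

end Inv

end Groth.Agent.Lib.Helper18.DR
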