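import Mathlib
import Groth.Agent.Lib.Helper18.InvD

/-!
# Objects of `D(A)` which look like a residue field (helper18)
-/

set_option autoImplicit false
set_option linter.style.haveILetI false
universe u
open CategoryTheory CategoryTheory.Limits CategoryTheory.Pretriangulated DerivedCategory

attribute [local instance] HasDerivedCategory.standard

namespace Groth.Agent.Lib.Helper18.DR

namespace Inv

open HomLoc Uq

variable {A : Type u} [CommRing A] (m : Ideal A) [hm : m.IsMaximal]

section alg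

variable {V : Type*} [AddCommGroup V] [Module A V]

/-- the map `A/m ⟶ V`, `1 ↦ w` for `V` killed by `m` -/
noncomputable def fromKap (hV : ∀ x ∈ m, ∀ v : V, x • v = 0) (w : V) : (A ⧸ m) →ₗ[A] V :=
  Submodule.liftQ m (LinearMap.toSpanSingleton A V w) (fun x hx => by
    rw [LinearMap.mem_ker, LinearMap.toSpanSingleton_apply]
    exact hV x hx w)

omit hm in
lemma fromKap_one (hV : ∀ x ∈ m, ∀ v : V, x • v = 0) (w : V) :
    fromKap m hV w (1 : A ⧸ m) = w := by
  change fromKap m hV w (Submodule.Quotient.mk (1 : A)) = w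
  rw [fromKap, Submodule.liftQ_apply, LinearMap.toSpanSingleton_apply, one_smul]

/-- a nonzero map between nonzero modules killed by `m` -/
lemma exists_linearMap_ne_zero {W : Type*} [AddCommGroup W] [Module A W]
    (hV : ∀ x ∈ m, ∀ v : V, x • v = 0) (hW : ∀ x ∈ m, ∀ w : W, x • w = 0)
    [Nontrivial V] [Nontrivial W] : ∃ φ : V →ₗ[A] W, φ ≠ 0 := by
  obtain ⟨v, hv⟩ := exists_ne (0 : V)
  obtain ⟨w, hw⟩ := exists_ne (0 : W)
  obtain ⟨ψ, hψ⟩ := exists_functional m hV v hv
  refine ⟨fromKap m hW w ∘ₗ ψ, fun h0 => hw ?_⟩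
  have := LinearMap.congr_fun h0 v
  rwa [LinearMap.comp_apply, hψ, fromKap_one, LinearMap.zero_apply] at this

/-- a nonzero module killed by `m` all of whose endomorphisms are scalars is `A/m` -/
lemma nonempty_equiv_kap_of_scalar (hV : ∀ x ∈ m, ∀ v : V, x • v = 0) [Nontrivial V]
    (hscal : ∀ θ : V →ₗ[A] V, ∃ c : A, θ = c • LinearMap.id) : Nonempty (V ≃ₗ[A] (A ⧸ m)) := by
  obtain ⟨v, hv⟩ := exists_ne (0 : V)
  obtain ⟨ψ, hψ⟩ := exists_functional m hV v hv
  obtain ⟨c, hc⟩ := hscal (fromKap m hV v ∘ₗ ψ)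
  have hcv : c • v = v := by
    have := LinearMap.congr_fun hc v
    rw [LinearMap.comp_apply, hψ, fromKap_one, LinearMap.smul_apply, LinearMap.id_apply] at this
    exact this.symm
  have hcm : c ∉ m := fun h => hv (by rw [← hcv]; exact hV c h v)
  obtain ⟨y, i, hi, hyi⟩ := hm.exists_inv hcm
  refine ⟨LinearEquiv.ofBijective ψ ⟨?_, ?_⟩⟩
  · rw [injective_iff_map_eq_zero]
    intro x hx
    have h1 : c • x = 0 := by
      have := LinearMap.congr_fun hc x
      rw [LinearMap.comp_apply, hx, map_zero, LinearMap.smul_apply, LinearMap.id_apply] at this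
      exact this.symm
    have h2 : (1 : A) • x = y • (c • x) + i • x := by rw [smul_smul, ← add_smul, hyi]
    rw [one_smul, h1, smul_zero, hV i hi x, add_zero] at h2
    exact h2
  · intro z
    obtain ⟨r, rfl⟩ := Submodule.Quotient.mk_surjective _ z
    refine ⟨r • v, ?_⟩
    rw [map_smul, hψ]
    change r • (Submodule.Quotient.mk (1 : A) : A ⧸ m) = _
    rw [← Submodule.Quotient.mk_smul, smul_eq_mul, mul_one]

end alg

section obj

variable (Y : Dual.D A) (a₀ b₀ : ℤ) [hge : Y.IsGE a₀] [hle : Y.IsLE b₀]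
  (hne : 𝟙 Y ≠ 0) (hkill : ∀ x ∈ m, x • 𝟙 Y = 0)
  (hscal : ∀ g : Y ⟶ Y, ∃ c : A, g = c • 𝟙 Y)
  (hneg : ∀ i : ℤ, i < 0 → ∀ g : Y ⟶ Y⟦i⟧, g = 0)

include hkill in
omit hm hge hle in
lemma smul_H_eq_zero (j : ℤ) (x : A) (hx : x ∈ m) (v : (H A j).obj Y) : x • v = 0 := by
  rw [← H_map_smul_id_apply x j Y v, hkill x hx, Functor.map_zero]
  rfl

include hne hkill hscal hneg hge hle in
/-- an object of `D(A)` whose endomorphism ring is the residue field `A/m`, without negative
self-extensions, is a shift of `A/m` -/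
theorem exists_iso_Sg_kap : ∃ a : ℤ, Nonempty (Y ≅ Sg a (kap m)) := by
  classical
  -- the nonzero cohomology degrees
  have hex : ∃ j : ℤ, Nontrivial ((H A j).obj Y) := by
    by_contra hcon
    push Not at hcon
    haveI : Y.IsLE (a₀ - 1) := by
      rw [DerivedCategory.isLE_iff]
      intro i _
      haveI := hcon i
      exact ModuleCat.isZero_of_subsingleton _
    have hz : IsZero Y := TStructure.t.isZero Y (a₀ - 1) a₀ (by omega)
    exact hne (hz.eq_of_src _ _)
  have hrange : ∀ j : ℤ, Nontrivial ((H A j).obj Y) → a₀ ≤ j ∧ j ≤ b₀ := by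
    intro j hj
    by_contra hcon
    have hz : IsZero ((H A j).obj Y) := by
      by_cases h1 : j < a₀
      · exact isZero_of_isGE Y a₀ j h1
      · exact isZero_of_isLE Y b₀ j (by omega)
    haveI := ModuleCat.subsingleton_of_isZero hz
    exact not_subsingleton _ ‹Subsingleton ((H A j).obj Y)›
  obtain ⟨a, ha, hamin⟩ : ∃ a : ℤ, Nontrivial ((H A a).obj Y) ∧
      ∀ j : ℤ, Nontrivial ((H A j).obj Y) → a ≤ j := by
    obtain ⟨j₀, hj₀⟩ := hex
    obtain ⟨a, ha, hamin⟩ := Int.exists_least_of_bdd (P := fun j => Nontrivial ((H A j).obj Y))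
      ⟨a₀, fun j hj => (hrange j hj).1⟩ ⟨j₀, hj₀⟩
    exact ⟨a, ha, fun j hj => hamin j hj⟩
  obtain ⟨b, hb, hbmax⟩ : ∃ b : ℤ, Nontrivial ((H A b).obj Y) ∧
      ∀ j : ℤ, Nontrivial ((H A j).obj Y) → j ≤ b := by
    obtain ⟨j₀, hj₀⟩ := hex
    obtain ⟨b, hb, hbmax⟩ := Int.exists_greatest_of_bdd
      (P := fun j => Nontrivial ((H A j).obj Y))
      ⟨b₀, fun j hj => (hrange j hj).2⟩ ⟨j₀, hj₀⟩
    exact ⟨b, hb, fun j hj => hbmax j hj⟩
  have hzero : ∀ j : ℤ, (j < a ∨ b < j) → Subsingleton ((H A j).obj Y) := by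
    intro j hj
    by_contra hcon
    rw [not_subsingleton_iff_nontrivial] at hcon
    have h1 := hamin j hcon
    have h2 := hbmax j hcon
    omega
  haveI hYge : Y.IsGE a := by
    rw [DerivedCategory.isGE_iff]
    intro i hi
    haveI := hzero i (Or.inl hi)
    exact ModuleCat.isZero_of_subsingleton _
  haveI hYle : Y.IsLE b := by
    rw [DerivedCategory.isLE_iff]
    intro i hi
    haveI := hzero i (Or.inr hi)
    exact ModuleCat.isZero_of_subsingleton _
  have hab : a = b := by
    by_contra hne'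
    have hlt : a < b := lt_of_le_of_ne (hamin b hb) hne'
    obtain ⟨N, p, hp, -⟩ := exists_hom_Sg_top' Y b
    haveI : (Y⟦a - b⟧).IsGE b := TStructure.t.isGE_shift Y a (a - b) b (by omega)
    obtain ⟨N', j, hj, -⟩ := exists_hom_Sg_bot (Y⟦a - b⟧) b
    haveI := hp
    haveI := hj
    let eN : (H A b).obj Y ≅ N := asIso ((H A b).map p) ≪≫ HSg b N
    let eN' : N' ≅ (H A a).obj Y :=
      (HSg b N').symm ≪≫ asIso ((H A b).map j) ≪≫ (HShiftIso A (a - b) b a (by omega)).app Y
    haveI : Nontrivial N := eN.toLinearEquiv.symm.toEquiv.nontrivial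
    haveI : Nontrivial N' := eN'.toLinearEquiv.toEquiv.nontrivial
    have hNk : ∀ x ∈ m, ∀ v : N, x • v = 0 := by
      intro x hx v
      have := smul_H_eq_zero m Y hkill b x hx (eN.toLinearEquiv.symm v)
      rw [← map_smul, LinearEquiv.map_eq_zero_iff] at this
      exact this
    have hN'k : ∀ x ∈ m, ∀ v : N', x • v = 0 := by
      intro x hx v
      have := smul_H_eq_zero m Y hkill a x hx (eN'.toLinearEquiv v)
      rw [← map_smul, LinearEquiv.map_eq_zero_iff] at this
      exact this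
    obtain ⟨φ, hφ⟩ := exists_linearMap_ne_zero m hNk hN'k
    have h0 := hneg (a - b) (by omega)
      (p ≫ (singleFunctor (ModuleCat.{u} A) b).map (ModuleCat.ofHom φ) ≫ j)
    have h1 := congrArg (fun x => (H A b).map x) h0
    simp only [Functor.map_comp, Functor.map_zero] at h1
    have h2 : (H A b).map ((singleFunctor (ModuleCat.{u} A) b).map (ModuleCat.ofHom φ)) = 0 := by
      rw [← cancel_epi ((H A b).map p), ← cancel_mono ((H A b).map j), Category.assoc, h1,
        comp_zero, zero_comp]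
    have h3 := HSg_naturality b (ModuleCat.ofHom φ)
    rw [h2, zero_comp] at h3
    have h4 : ModuleCat.ofHom φ = 0 := by
      rw [← cancel_epi (HSg b N).hom, ← h3, comp_zero]
    exact hφ (by
      have := congrArg ModuleCat.Hom.hom h4
      simpa using this)
  subst hab
  let V : ModuleCat.{u} A := (H A a).obj Y
  obtain ⟨e⟩ : Nonempty (Y ≅ Sg a V) :=
    GM.nonempty_iso_Sg_of_HD' Y a V ⟨LinearEquiv.refl A _⟩
      (fun q hq => hzero q (by omega))
  have hVk : ∀ x ∈ m, ∀ v : V, x • v = 0 := fun x hx v => smul_H_eq_zero m Y hkill a x hx v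
  have hVscal : ∀ θ : V →ₗ[A] V, ∃ c : A, θ = c • LinearMap.id := by
    intro θ
    obtain ⟨c, hc⟩ := hscal (e.hom ≫ (singleFunctor (ModuleCat.{u} A) a).map (ModuleCat.ofHom θ) ≫
      e.inv)
    refine ⟨c, ?_⟩
    have h1 : (singleFunctor (ModuleCat.{u} A) a).map (ModuleCat.ofHom θ) =
        (singleFunctor (ModuleCat.{u} A) a).map (c • 𝟙 V) := by
      rw [Functor.map_smul, CategoryTheory.Functor.map_id]
      have := congrArg (fun x => e.inv ≫ x ≫ e.hom) hc
      simpa [Linear.comp_smul, Linear.smul_comp] using this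
    have h2 := (singleFunctor (ModuleCat.{u} A) a).map_injective h1
    have := congrArg ModuleCat.Hom.hom h2
    simpa using this
  haveI : Nontrivial V := ha
  obtain ⟨eV⟩ := nonempty_equiv_kap_of_scalar m hVk hVscal
  exact ⟨a, ⟨e ≪≫ (singleFunctor (ModuleCat.{u} A) a).mapIso eV.toModuleIso⟩⟩

end obj

end Inv

end Groth.Agent.Lib.Helper18.DR
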