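import Mathlib
import Groth.Agent.Lib.Helper18.InvD

/-!
# Splitting an object of `D(A)` with projective cohomology (helper18)
-/

set_option autoImplicit false
set_option linter.style.haveILetI false
universe u
open CategoryTheory CategoryTheory.Limits CategoryTheory.Pretriangulated DerivedCategory

attribute [local instance] HasDerivedCategory.standard

namespace Groth.Agent.Lib.Helper18.DR

namespace Inv

open HomLoc Uq

variable {A : Type u} [CommRing A]

/-- a finite module which at every maximal ideal is free of rank one or zero is projective -/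
theorem projective_of_locRankOne_or_locZero [IsNoetherianRing A] (Q : Type u) [AddCommGroup Q]
    [Module A Q] [Module.Finite A Q]
    (h : ∀ (m : Ideal A) [m.IsMaximal], LocRankOne Q m ∨ LocZero Q m) :
    Module.Projective A Q := by
  haveI : Module.FinitePresentation A Q := Module.finitePresentation_of_finite A Q
  refine Module.projective_of_localization_maximal (fun I hI => ?_)
  haveI : I.IsPrime := hI.isPrime
  rcases h I with h1 | h0
  · obtain ⟨q₀, h1, h2⟩ := h1
    let f : Localization.AtPrime I →ₗ[Localization.AtPrime I] LocalizedModule I.primeCompl Q :=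
      LinearMap.toSpanSingleton _ _ (LocalizedModule.mk q₀ 1)
    have hf : Function.Bijective f := by
      constructor
      · rw [injective_iff_map_eq_zero]
        intro x hx
        induction x using Localization.induction_on with
        | H y =>
          obtain ⟨a, t⟩ := y
          change Localization.mk a t •
            (LocalizedModule.mk q₀ 1 : LocalizedModule I.primeCompl Q) = 0 at hx
          rw [LocalizedModule.mk_smul_mk, ← LocalizedModule.zero_mk (1 : I.primeCompl),
            LocalizedModule.mk_eq] at hx
          obtain ⟨c, hc⟩ := hx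
          rw [smul_zero, smul_zero, one_smul] at hc
          obtain ⟨s, hs, hsa⟩ := h2 ((c : A) * a) (by
            rw [mul_smul]
            exact hc)
          rw [Localization.mk_eq_mk', IsLocalization.mk'_eq_zero_iff]
          exact ⟨⟨s * c, I.primeCompl.mul_mem hs c.2⟩, by
            change s * c * a = 0
            rw [mul_assoc]
            exact hsa⟩
      · intro y
        induction y using LocalizedModule.induction_on with
        | h q t =>
          obtain ⟨s, hs, a, hsa⟩ := h1 q
          refine ⟨Localization.mk a (⟨s, hs⟩ * t), ?_⟩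
          change Localization.mk a (⟨s, hs⟩ * t) •
            (LocalizedModule.mk q₀ 1 : LocalizedModule I.primeCompl Q) = _
          rw [LocalizedModule.mk_smul_mk, mul_one, ← hsa]
          exact LocalizedModule.mk_cancel_common_left ⟨s, hs⟩ t q
    exact Module.Projective.of_equiv (LinearEquiv.ofBijective f hf)
  · haveI : Subsingleton (LocalizedModule I.primeCompl Q) := by
      rw [LocalizedModule.subsingleton_iff]
      intro q
      obtain ⟨s, hs, hsq⟩ := h0 q
      exact ⟨s, hs, hsq⟩
    infer_instance

/-- zero differentials, finite projective terms, bounded -/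
structure IsSplitCx (K' : DRing.Cx A) (a b : ℤ) : Prop where
  d_eq_zero : ∀ i j : ℤ, K'.d i j = 0
  projective : ∀ i : ℤ, Module.Projective A (K'.X i)
  finite : ∀ i : ℤ, Module.Finite A (K'.X i)
  vanishes : DRing.VanishesOutside K' a b

lemma IsSplitCx.mono {K' : DRing.Cx A} {a b a' b' : ℤ} (h : IsSplitCx K' a b) (ha : a' ≤ a)
    (hb : b ≤ b') : IsSplitCx K' a' b' :=
  ⟨h.d_eq_zero, h.projective, h.finite, fun i hi => h.vanishes i (by omega)⟩

lemma isSplitCx_of_isZero (Z : DRing.Cx A) (hZ : IsZero Z) (a b : ℤ) : IsSplitCx Z a b := by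
  have hz : ∀ i : ℤ, IsZero (Z.X i) := fun i =>
    (HomologicalComplex.eval (ModuleCat.{u} A) (ComplexShape.up ℤ) i).map_isZero hZ
  refine ⟨fun i j => (hz i).eq_of_src _ _, fun i => ?_, fun i => ?_, fun i _ => hz i⟩
  · haveI := ModuleCat.subsingleton_of_isZero (hz i)
    infer_instance
  · haveI := ModuleCat.subsingleton_of_isZero (hz i)
    infer_instance

lemma isSplitCx_single (b : ℤ) (V : ModuleCat.{u} A) [Module.Projective A V] [Module.Finite A V]
    (a : ℤ) (hab : a ≤ b) :
    IsSplitCx ((HomologicalComplex.single (ModuleCat.{u} A) (ComplexShape.up ℤ) b).obj V) a b := by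
  have hz : ∀ i : ℤ, i ≠ b → IsZero
      (((HomologicalComplex.single (ModuleCat.{u} A) (ComplexShape.up ℤ) b).obj V).X i) :=
    fun i hi => HomologicalComplex.isZero_single_obj_X (ComplexShape.up ℤ) b V i hi
  refine ⟨fun i j => HomologicalComplex.single_obj_d _ _ _ _ _, fun i => ?_, fun i => ?_,
    fun i hi => hz i (by omega)⟩
  · by_cases hi : i = b
    · subst hi
      exact Module.Projective.of_equiv
        (HomologicalComplex.singleObjXSelf (ComplexShape.up ℤ) i V).toLinearEquiv.symm
    · haveI := ModuleCat.subsingleton_of_isZero (hz i hi)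
      infer_instance
  · by_cases hi : i = b
    · subst hi
      exact Module.Finite.equiv
        (HomologicalComplex.singleObjXSelf (ComplexShape.up ℤ) i V).toLinearEquiv.symm
    · haveI := ModuleCat.subsingleton_of_isZero (hz i hi)
      infer_instance

lemma IsSplitCx.biprod {X Y : DRing.Cx A} {a b : ℤ} (hX : IsSplitCx X a b)
    (hY : IsSplitCx Y a b) : IsSplitCx (X ⊞ Y) a b := by
  have e : ∀ i : ℤ, (X ⊞ Y).X i ≃ₗ[A] (X.X i × Y.X i) := fun i =>
    (HomologicalComplex.biprodXIso X Y i ≪≫ ModuleCat.biprodIsoProd _ _).toLinearEquiv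
  refine ⟨fun i j => ?_, fun i => ?_, fun i => ?_, fun i hi => ?_⟩
  · have h1 : 𝟙 ((X ⊞ Y).X i) = (biprod.fst : X ⊞ Y ⟶ X).f i ≫ (biprod.inl : X ⟶ X ⊞ Y).f i +
        (biprod.snd : X ⊞ Y ⟶ Y).f i ≫ (biprod.inr : Y ⟶ X ⊞ Y).f i := by
      rw [← HomologicalComplex.comp_f, ← HomologicalComplex.comp_f, ← HomologicalComplex.add_f_apply,
        biprod.total, HomologicalComplex.id_f]
    rw [← Category.id_comp ((X ⊞ Y).d i j), h1, Preadditive.add_comp, Category.assoc,
      Category.assoc, HomologicalComplex.Hom.comm, HomologicalComplex.Hom.comm, hX.d_eq_zero,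
      hY.d_eq_zero, zero_comp, zero_comp, comp_zero, comp_zero, add_zero]
  · haveI := hX.projective i
    haveI := hY.projective i
    exact Module.Projective.of_equiv (e i).symm
  · haveI := hX.finite i
    haveI := hY.finite i
    exact Module.Finite.equiv (e i).symm
  · haveI := ModuleCat.subsingleton_of_isZero (hX.vanishes i hi)
    haveI := ModuleCat.subsingleton_of_isZero (hY.vanishes i hi)
    haveI : Subsingleton ((X ⊞ Y).X i) := (e i).toEquiv.subsingleton
    exact ModuleCat.isZero_of_subsingleton _

/-- a bounded object of `D(A)` with finite projective cohomology modules is the direct sum of its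
shifted cohomology modules -/
theorem exists_split (K : Dual.D A) (a b : ℤ)
    (hK : ∀ i : ℤ, (i < a ∨ b < i) → IsZero ((H A i).obj K))
    (hproj : ∀ i : ℤ, Module.Projective A ((H A i).obj K))
    (hfin : ∀ i : ℤ, Module.Finite A ((H A i).obj K)) :
    ∃ K' : DRing.Cx A, IsSplitCx K' a b ∧ Nonempty (DRing.toD K' ≅ K) := by
  obtain ⟨N, hN⟩ : ∃ N : ℕ, b - a + 1 ≤ N := ⟨(b - a + 1).toNat, by omega⟩
  induction N generalizing K b with
  | zero =>
    haveI : K.IsLE (a - 1) := by
      rw [DerivedCategory.isLE_iff]; intro i hi; exact hK i (by omega)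
    haveI : K.IsGE a := by
      rw [DerivedCategory.isGE_iff]; intro i hi; exact hK i (by omega)
    have hz : IsZero K := TStructure.t.isZero K (a - 1) a (by omega)
    obtain ⟨Z, hZ⟩ : ∃ Z : DRing.Cx A, IsZero Z := ⟨_, isZero_zero _⟩
    exact ⟨Z, isSplitCx_of_isZero Z hZ a b,
      ⟨(DerivedCategory.Q.map_isZero hZ).iso hz⟩⟩
  | succ N ih =>
    by_cases hab : a ≤ b
    · obtain ⟨A', B', hA', hB', f, p, δ, hT⟩ := TStructure.t.exists_triangle K (b - 1) b (by omega)
      haveI : A'.IsLE (b - 1) := ⟨hA'⟩
      haveI : B'.IsGE b := ⟨hB'⟩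
      haveI : K.IsLE b := by
        rw [DerivedCategory.isLE_iff]; intro i hi; exact hK i (Or.inr hi)
      haveI : B'.IsLE b := isLE_obj₃ hT b
        (by change A'.IsLE (b - 1); infer_instance) (by change K.IsLE b; infer_instance)
      have hf : ∀ i : ℤ, i ≤ b - 1 → IsIso ((H A i).map f) := fun i hi =>
        isIso_H_mor₁_of_isZero hT (i - 1) i (by omega) (isZero_of_isGE B' b _ (by omega))
          (isZero_of_isGE B' b _ (by omega))
      haveI hp : IsIso ((H A b).map p) :=
        isIso_H_mor₂_of_isZero hT b (isZero_of_isLE A' (b - 1) _ (by omega))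
          (isZero_of_isLE A' (b - 1) _ (by omega))
      -- the bottom part
      have hA'K : ∀ i : ℤ, (i < a ∨ b - 1 < i) → IsZero ((H A i).obj A') := by
        intro i hi
        by_cases h1 : i ≤ b - 1
        · haveI := hf i h1
          exact (hK i (Or.inl (by omega))).of_iso (asIso ((H A i).map f))
        · exact isZero_of_isLE A' (b - 1) i (by omega)
      have hA'proj : ∀ i : ℤ, Module.Projective A ((H A i).obj A') := by
        intro i
        by_cases h1 : i ≤ b - 1
        · haveI := hf i h1
          haveI := hproj i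
          exact Module.Projective.of_equiv (asIso ((H A i).map f)).toLinearEquiv.symm
        · haveI := ModuleCat.subsingleton_of_isZero (isZero_of_isLE A' (b - 1) i (by omega))
          infer_instance
      have hA'fin : ∀ i : ℤ, Module.Finite A ((H A i).obj A') := by
        intro i
        by_cases h1 : i ≤ b - 1
        · haveI := hf i h1
          haveI := hfin i
          exact Module.Finite.equiv (asIso ((H A i).map f)).toLinearEquiv.symm
        · haveI := ModuleCat.subsingleton_of_isZero (isZero_of_isLE A' (b - 1) i (by omega))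
          infer_instance
      obtain ⟨A'', hA'', ⟨eA⟩⟩ := ih A' (b - 1) hA'K hA'proj hA'fin (by push_cast at hN; omega)
      -- the top part
      obtain ⟨V, ⟨eB⟩⟩ := exists_iso_singleFunctor_obj_of_isGE_of_isLE B' b
      let eV : (H A b).obj K ≅ V := asIso ((H A b).map p) ≪≫ (H A b).mapIso eB ≪≫ HSg b V
      haveI := hproj b
      haveI := hfin b
      haveI : Module.Projective A V := Module.Projective.of_equiv eV.toLinearEquiv
      haveI : Module.Finite A V := Module.Finite.equiv eV.toLinearEquiv
      haveI : Projective V := (IsProjective.iff_projective V).1 inferInstance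
      -- the triangle splits
      have hδ : δ = 0 := by
        haveI : (A'⟦(1 : ℤ)⟧).IsLE (b - 1) := by
          haveI : (A'⟦(1 : ℤ)⟧).IsLE (b - 2) := TStructure.t.isLE_shift A' (b - 1) 1 (b - 2)
          exact TStructure.t.isLE_of_le _ (b - 2) (b - 1) (by omega)
        rw [← cancel_epi eB.inv, comp_zero]
        exact hom_Sg_eq_zero_of_isLE b V _ _
      obtain ⟨e, -, -⟩ := exists_iso_binaryBiproduct_of_distTriang _ hT hδ
      let S : DRing.Cx A := (HomologicalComplex.single (ModuleCat.{u} A) (ComplexShape.up ℤ) b).obj V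
      have hS : IsSplitCx S a b := isSplitCx_single b V a hab
      refine ⟨A'' ⊞ S, (hA''.mono le_rfl (by omega)).biprod hS, ⟨?_⟩⟩
      have eS : DRing.toD S ≅ B' := eB.symm
      haveI : PreservesBinaryBiproduct A'' S (DerivedCategory.Q (C := ModuleCat.{u} A)) :=
        preservesBinaryBiproduct_of_preservesBiproduct _ _ _
      exact (DerivedCategory.Q.mapBiprod A'' S) ≪≫ biprod.mapIso eA eS ≪≫ e.symm
    · haveI : K.IsLE (a - 1) := by
        rw [DerivedCategory.isLE_iff]; intro i hi; exact hK i (by omega)
      haveI : K.IsGE a := by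
        rw [DerivedCategory.isGE_iff]; intro i hi; exact hK i (by omega)
      have hz : IsZero K := TStructure.t.isZero K (a - 1) a (by omega)
      obtain ⟨Z, hZ⟩ : ∃ Z : DRing.Cx A, IsZero Z := ⟨_, isZero_zero _⟩
      exact ⟨Z, isSplitCx_of_isZero Z hZ a b,
        ⟨(DerivedCategory.Q.map_isZero hZ).iso hz⟩⟩

end Inv

end Groth.Agent.Lib.Helper18.DR
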