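import Mathlib
import Groth.Agent.Lib.Helper18.InvF
import Groth.Agent.Lib.Helper18.HomCxM
import Groth.Agent.Lib.Helper18.DuL

/-!
# Complexes with zero differentials: endomorphisms (helper18)
-/

set_option autoImplicit false
set_option linter.style.haveILetI false
universe u
open CategoryTheory CategoryTheory.Limits CochainComplex CochainComplex.HomComplex

attribute [local instance] HasDerivedCategory.standard

namespace Groth.Agent.Lib.Helper18.DR

namespace Inv

variable {A : Type u} [CommRing A]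

/-- the cohomology of a complex with zero differentials -/
noncomputable def HtoDEquivOfZero (E : DRing.Cx A) (hd : ∀ i j : ℤ, E.d i j = 0) (j : ℤ) :
    (H A j).obj (DRing.toD E) ≃ₗ[A] E.X j :=
  have hrange : LinearMap.range (toCyc E (j - 1) j (j + 1)) = ⊥ := by
    rw [eq_bot_iff]
    rintro _ ⟨x, rfl⟩
    rw [Submodule.mem_bot]
    apply Subtype.ext
    rw [toCyc_coe, hd]
    rfl
  have hker : LinearMap.ker (E.d j (j + 1)).hom = ⊤ := by
    rw [hd]
    exact LinearMap.ker_zero
  (HtoDLinearEquiv' E (j - 1) j (j + 1) (by omega) rfl).trans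
    ((Submodule.quotEquivOfEqBot _ hrange).trans
      ((LinearEquiv.ofEq _ ⊤ hker).trans Submodule.topEquiv))

/-- `Hom•(K, L)` has zero differentials if `K` and `L` do -/
lemma homCx_d_eq_zero (K L : DRing.Cx A) (hK : ∀ i j : ℤ, K.d i j = 0)
    (hL : ∀ i j : ℤ, L.d i j = 0) (i j : ℤ) : (DRing.homCx K L).d i j = 0 := by
  refine ModuleCat.hom_ext (LinearMap.ext fun (z : Cochain K L i) => ?_)
  change δ i j z = 0
  by_cases hij : i + 1 = j
  · ext p q hpq
    rw [δ_v i j hij z p q hpq (q - 1) (p + 1) rfl rfl, hK, hL, comp_zero, zero_comp, smul_zero,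
      add_zero, Cochain.zero_v]
  · exact δ_shape i j hij z

/-- cochains of a complex with zero differentials compute the maps in `D(A)` -/
noncomputable def cochainEquivHom (K : DRing.Cx A) [K.IsKProjective] (hK : ∀ i j : ℤ, K.d i j = 0)
    (n : ℤ) : Cochain K K n ≃ₗ[A] (DRing.toD K ⟶ (DRing.toD K)⟦n⟧) :=
  (HtoDEquivOfZero (DRing.homCx K K) (homCx_d_eq_zero K K hK hK) n).symm.trans
    (HomCxM.homologyEquiv K K (n - 1) n (n + 1) (by omega) rfl)

/-- degree zero cochains as families of endomorphisms -/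
noncomputable def endsEquivCochain (K : DRing.Cx A) :
    (∀ p : ℤ, K.X p →ₗ[A] K.X p) ≃ₗ[A] Cochain K K 0 where
  toFun θ := Cochain.ofHoms (fun p => ModuleCat.ofHom (θ p))
  invFun z p := (z.v p p (add_zero p)).hom
  map_add' θ θ' := by
    refine Cochain.ext₀ _ _ (fun p => ?_)
    rw [Cochain.add_v, Cochain.ofHoms_v, Cochain.ofHoms_v, Cochain.ofHoms_v]
    rfl
  map_smul' a θ := by
    refine Cochain.ext₀ _ _ (fun p => ?_)
    simp only [RingHom.id_apply]
    rw [Cochain.smul_v, Cochain.ofHoms_v, Cochain.ofHoms_v]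
    rfl
  left_inv θ := by
    funext p
    beta_reduce
    rw [Cochain.ofHoms_v]
    rfl
  right_inv z := by
    refine Cochain.ext₀ _ _ (fun p => ?_)
    rw [Cochain.ofHoms_v]
    rfl

section self

variable (K : DRing.Cx A) [K.IsKProjective] (hK : ∀ i j : ℤ, K.d i j = 0)
  (hext : ∀ n : ℤ, n ≠ 0 → Subsingleton (DRing.toD K ⟶ (DRing.toD K)⟦n⟧))
  (hend : Function.Bijective (fun a : A => a • 𝟙 (DRing.toD K)))

include hK hext in
/-- no maps between the terms in different degrees -/
lemma linearMap_eq_zero_of_ne (p p' : ℤ) (h : p' ≠ p) (θ : K.X p' →ₗ[A] K.X p) : θ = 0 := by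
  obtain ⟨n, hn⟩ : ∃ n : ℤ, p' + n = p := ⟨p - p', by omega⟩
  haveI := hext n (by omega)
  haveI : Subsingleton (Cochain K K n) := (cochainEquivHom K hK n).toEquiv.subsingleton
  have h1 : Cochain.single (ModuleCat.ofHom θ) n = (0 : Cochain K K n) := Subsingleton.elim _ _
  have h2 := congrArg (fun z => (z.v p' p hn).hom) h1
  simpa using h2

/-- `Hom(X, Y⟦0⟧) ≃ Hom(X, Y)` -/
noncomputable def homShiftZeroEquiv (X Y : Dual.D A) : (X ⟶ Y⟦(0 : ℤ)⟧) ≃ₗ[A] (X ⟶ Y) where
  toFun f := f ≫ ((shiftFunctorZero (Dual.D A) ℤ).app Y).hom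
  invFun g := g ≫ ((shiftFunctorZero (Dual.D A) ℤ).app Y).inv
  map_add' f g := Preadditive.add_comp _ _ _ _ _ _
  map_smul' a f := Linear.smul_comp _ _ _ _ _ _
  left_inv f := by simp
  right_inv g := by simp

include hend in
/-- the families of endomorphisms of the terms are the scalars -/
noncomputable def endsEquivA : (∀ p : ℤ, K.X p →ₗ[A] K.X p) ≃ₗ[A] A :=
  (endsEquivCochain K).trans ((cochainEquivHom K hK 0).trans
    ((homShiftZeroEquiv _ _).trans
      (LinearEquiv.ofBijective (LinearMap.toSpanSingleton A _ (𝟙 (DRing.toD K))) hend).symm))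

end self

end Inv

end Groth.Agent.Lib.Helper18.DR
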