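import Mathlib
import Groth.Agent.Lib.Helper18.InvTwistA
import Groth.Agent.Lib.Helper18.KProjC

/-!
# The auto-equivalence `- ⊗ P` of `D(A)` for an invertible module `P` (helper18)
-/

set_option autoImplicit false
set_option linter.style.haveILetI false
universe u
open CategoryTheory CategoryTheory.Limits CategoryTheory.Pretriangulated MonoidalCategory
  DerivedCategory

attribute [local instance] HasDerivedCategory.standard

namespace Groth.Agent.Lib.Helper18.DR

namespace InvTwist

open HomLoc HomBC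

variable {A : Type u} [CommRing A]

/-- `- ⊗ P` on `D(A)` for a flat module `P` -/
noncomputable abbrev TP (P : ModuleCat.{u} A) [Module.Flat A P] : Dual.D A ⥤ Dual.D A :=
  (tensorRight P).mapDerivedCategory

/-- `(- ⊗ P) ⊗ P' ≅ id` when `P ⊗ P' ≅ A` -/
noncomputable def tensorRightCompIso {P P' : ModuleCat.{u} A}
    (ε : P ⊗ P' ≅ 𝟙_ (ModuleCat.{u} A)) :
    tensorRight P ⋙ tensorRight P' ≅ 𝟭 (ModuleCat.{u} A) :=
  (tensorRightTensor P P').symm ≪≫ (tensoringRight (ModuleCat.{u} A)).mapIso ε ≪≫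
    rightUnitorNatIso _

/-- the chain-level version -/
noncomputable def mapCxCompIso {P P' : ModuleCat.{u} A}
    (ε : P ⊗ P' ≅ 𝟙_ (ModuleCat.{u} A)) :
    (tensorRight P).mapHomologicalComplex (ComplexShape.up ℤ) ⋙
      (tensorRight P').mapHomologicalComplex (ComplexShape.up ℤ) ≅ 𝟭 (DRing.Cx A) :=
  Functor.mapHomologicalComplexCompIso (tensorRightCompIso ε) _ ≪≫
    Functor.mapHomologicalComplexIdIso _ _

variable (P P' : ModuleCat.{u} A) [Module.Flat A P] [Module.Flat A P']

/-- the iso `(mapCx_P ⋙ Q) ⋙ T_{P'} ≅ Q` -/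
noncomputable def compTPIso (ε : P ⊗ P' ≅ 𝟙_ (ModuleCat.{u} A)) :
    ((tensorRight P).mapHomologicalComplex (ComplexShape.up ℤ) ⋙ DerivedCategory.Q) ⋙ TP P' ≅
      DerivedCategory.Q :=
  Functor.associator _ _ _ ≪≫
    Functor.isoWhiskerLeft _ (tensorRight P').mapDerivedCategoryFactors ≪≫
    (Functor.associator _ _ _).symm ≪≫
    Functor.isoWhiskerRight (mapCxCompIso ε) DerivedCategory.Q ≪≫ Functor.leftUnitor _

/-- `T_P` is an equivalence when `P` is invertible -/
theorem isEquivalence_TP (ε : P ⊗ P' ≅ 𝟙_ (ModuleCat.{u} A))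
    (ε' : P' ⊗ P ≅ 𝟙_ (ModuleCat.{u} A)) : (TP P).IsEquivalence :=
  Localization.isEquivalence DerivedCategory.Q
    (HomologicalComplex.quasiIso (ModuleCat.{u} A) (ComplexShape.up ℤ)) DerivedCategory.Q
    (HomologicalComplex.quasiIso (ModuleCat.{u} A) (ComplexShape.up ℤ))
    ((tensorRight P).mapHomologicalComplex (ComplexShape.up ℤ) ⋙ DerivedCategory.Q) (TP P)
    ((tensorRight P').mapHomologicalComplex (ComplexShape.up ℤ) ⋙ DerivedCategory.Q) (TP P')
    (compTPIso P P' ε) (compTPIso P' P ε')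

/-- `T_P` is `A`-linear -/
lemma TP_map_smul_id (X : Dual.D A) (a : A) : (TP P).map (a • 𝟙 X) = a • 𝟙 ((TP P).obj X) := by
  obtain ⟨K, ⟨e⟩⟩ : ∃ K : DRing.Cx A, Nonempty (DRing.toD K ≅ X) :=
    ⟨DerivedCategory.Q.objPreimage X, ⟨DerivedCategory.Q.objObjPreimageIso X⟩⟩
  have h1 : a • 𝟙 X = e.inv ≫ DerivedCategory.Q.map (a • 𝟙 K) ≫ e.hom := by
    rw [Functor.map_smul, CategoryTheory.Functor.map_id, Linear.smul_comp, Linear.comp_smul,
      Category.id_comp, Iso.inv_hom_id]
  have h2 : (TP P).map (DerivedCategory.Q.map (a • 𝟙 K)) =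
      a • 𝟙 ((TP P).obj (DerivedCategory.Q.obj K)) := by
    have hn := (tensorRight P).mapDerivedCategoryFactors.hom.naturality (a • 𝟙 K)
    have h3 : ((tensorRight P).mapHomologicalComplex (ComplexShape.up ℤ)).map (a • 𝟙 K) =
        a • 𝟙 _ := by
      ext i : 1
      change (tensorRight P).map (a • 𝟙 (K.X i)) = a • 𝟙 _
      rw [Functor.map_smul, CategoryTheory.Functor.map_id]
      rfl
    have h5 : ((tensorRight P).mapHomologicalComplex (ComplexShape.up ℤ) ⋙
        DerivedCategory.Q).map (a • 𝟙 K) = a • 𝟙 _ := by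
      change DerivedCategory.Q.map
        (((tensorRight P).mapHomologicalComplex (ComplexShape.up ℤ)).map (a • 𝟙 K)) = _
      rw [h3, Functor.map_smul, CategoryTheory.Functor.map_id]
      rfl
    rw [h5, Linear.comp_smul, Category.comp_id] at hn
    have h4 : (TP P).map (DerivedCategory.Q.map (a • 𝟙 K)) =
        (a • (tensorRight P).mapDerivedCategoryFactors.hom.app K) ≫
          (tensorRight P).mapDerivedCategoryFactors.inv.app K := by
      rw [← hn, Category.assoc, Iso.hom_inv_id_app, Category.comp_id]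
      rfl
    rw [h4, Linear.smul_comp, Iso.hom_inv_id_app]
    rfl
  rw [h1, Functor.map_comp, Functor.map_comp, h2, Linear.smul_comp, Linear.comp_smul,
    Category.id_comp, ← Functor.map_comp, Iso.inv_hom_id, CategoryTheory.Functor.map_id]

end InvTwist

end Groth.Agent.Lib.Helper18.DR
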