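import Mathlib
import Groth.Agent.Lib.Helper18.InvTwistB

/-!
# Twisting a dualizing complex by an invertible module (helper18)
-/

set_option autoImplicit false
set_option linter.style.haveILetI false
universe u
open CategoryTheory CategoryTheory.Limits CategoryTheory.Pretriangulated MonoidalCategory
  DerivedCategory

attribute [local instance] HasDerivedCategory.standard

namespace Groth.Agent.Lib.Helper18.DR

namespace InvTwist

open HomLoc HomBC

variable {A : Type u} [CommRing A]

variable (P P' : ModuleCat.{u} A) [Module.Flat A P] [Module.Flat A P']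

theorem isDualizing_TP [Module.Finite A P] (ε : P ⊗ P' ≅ 𝟙_ (ModuleCat.{u} A))
    (ε' : P' ⊗ P ≅ 𝟙_ (ModuleCat.{u} A)) (ω : Dual.D A) (hω : Dual.IsDualizing A ω) :
    Dual.IsDualizing A ((TP P).obj ω) := by
  haveI := isEquivalence_TP P P' ε ε'
  obtain ⟨a, b, hab⟩ := hω.finite_injective_dimension
  refine isDualizing_of_fullyFaithful (TP P) (TP_map_smul_id P)
    (fun X i => ⟨((TP P).commShiftIso i).app X⟩) ω hω ⟨a, b, ?_⟩ (fun i => ?_)
  · intro M _ _ i hi
    haveI := hab ((tensorRight P').obj (ModuleCat.of A M)) i hi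
    let e : (TP P).obj (Sg 0 ((tensorRight P').obj (ModuleCat.of A M))) ≅
        Sg 0 (ModuleCat.of A M) :=
      mapDSgIso (tensorRight P) 0 _ ≪≫
        (singleFunctor (ModuleCat.{u} A) 0).mapIso ((tensorRightCompIso ε').app _)
    let σ := ((TP P).commShiftIso i).app ω
    refine ⟨fun x y => ?_⟩
    have hxy : e.hom ≫ x ≫ σ.inv = e.hom ≫ y ≫ σ.inv := by
      obtain ⟨x', hx'⟩ := (TP P).map_surjective (e.hom ≫ x ≫ σ.inv)
      obtain ⟨y', hy'⟩ := (TP P).map_surjective (e.hom ≫ y ≫ σ.inv)
      rw [← hx', ← hy', Subsingleton.elim x' y']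
    exact (cancel_mono σ.inv).1 ((cancel_epi e.hom).1 hxy)
  · haveI := hω.finite_cohomology i
    haveI : Module.Finite A ((tensorRight P).obj ((H A i).obj ω)) :=
      inferInstanceAs (Module.Finite A (TensorProduct A ((H A i).obj ω) P))
    exact Module.Finite.equiv (homologyMapDIso (tensorRight P) ω i).toLinearEquiv.symm

/-- for flat `P`, `- ⊗^L P` is computed by the exact functor `- ⊗ P` -/
lemma nonempty_LTensor_iso_TP [DRing.HasLTensor A P] (X : Dual.D A) :
    Nonempty ((DRing.LTensor A P).obj X ≅ (TP P).obj X) := by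
  obtain ⟨K, hK, -, ⟨e⟩⟩ := exists_kprojective_resolution X
  haveI := hK
  exact ⟨(DRing.LTensor A P).mapIso e.symm ≪≫ LTensorIso P K ≪≫
    (mapDToDIso (tensorRight P) K).symm ≪≫ (TP P).mapIso e⟩

/-- S11183 -/
theorem isDualizing_LTensor_invertible_shift (ω : Dual.D A) (hω : Dual.IsDualizing A ω)
    (P : Type u) [AddCommGroup P] [Module A P] [Module.Invertible A P]
    [DRing.HasLTensor A (ModuleCat.of A P)] (n : ℤ) :
    Dual.IsDualizing A (((DRing.LTensor A (ModuleCat.of A P)).obj ω)⟦n⟧) := by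
  let ε' : ModuleCat.of A (Module.Dual A P) ⊗ ModuleCat.of A P ≅ 𝟙_ (ModuleCat.{u} A) :=
    (Module.Invertible.linearEquiv A P).toModuleIso
  let ε : ModuleCat.of A P ⊗ ModuleCat.of A (Module.Dual A P) ≅ 𝟙_ (ModuleCat.{u} A) :=
    ((TensorProduct.comm A P (Module.Dual A P)).trans
      (Module.Invertible.linearEquiv A P)).toModuleIso
  haveI : Module.Flat A (ModuleCat.of A P) := inferInstanceAs (Module.Flat A P)
  haveI : Module.Flat A (ModuleCat.of A (Module.Dual A P)) :=
    inferInstanceAs (Module.Flat A (Module.Dual A P))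
  haveI : Module.Finite A (ModuleCat.of A P) := inferInstanceAs (Module.Finite A P)
  have h1 := isDualizing_TP (ModuleCat.of A P) (ModuleCat.of A (Module.Dual A P)) ε ε' ω hω
  obtain ⟨i⟩ := nonempty_LTensor_iso_TP (ModuleCat.of A P) ω
  exact isDualizing_shift _ (isDualizing_of_iso i.symm h1) n

end InvTwist

end Groth.Agent.Lib.Helper18.DR
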