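import Mathlib
import Groth.Agent.Lib.Helper18.InvTwistC
import Groth.Agent.Lib.Helper18.BidA
import Groth.Agent.Lib.Helper18.BiJ
import Groth.Agent.Lib.Helper18.HomCxK
import Groth.Agent.Lib.Helper18.DRPerf

/-!
# `Hom•(Q[m], J) ≅ (J ⊗ Q^∨)[-m]` for a finite projective module `Q` (helper18)
-/

set_option autoImplicit false
set_option linter.style.haveILetI false
universe u
open CategoryTheory CategoryTheory.Limits CategoryTheory.Pretriangulated MonoidalCategory
  DerivedCategory CochainComplex.HomComplex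

attribute [local instance] HasDerivedCategory.standard

namespace Groth.Agent.Lib.Helper18.DR

namespace Uq

open Bid InvTwist

variable {A : Type u} [CommRing A]

section E1

variable (Q : ModuleCat.{u} A) [Module.Finite A Q] [Module.Projective A Q]

/-- the linear equivalence `N ⊗ Q^∨ ≃ Hom(Q, N)` -/
noncomputable def tensorDualEquiv (N : ModuleCat.{u} A) :
    TensorProduct A N (Module.Dual A Q) ≃ₗ[A] (Q →ₗ[A] N) :=
  (TensorProduct.comm A N (Module.Dual A Q)).trans (dualTensorHomEquiv A Q N)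

lemma tensorDualEquiv_tmul (N : ModuleCat.{u} A) (n : N) (φ : Module.Dual A Q) (q : Q) :
    tensorDualEquiv Q N (n ⊗ₜ φ) q = φ q • n := by
  simp [tensorDualEquiv]

/-- `- ⊗ Q^∨ ≅ Hom(Q, -)` for `Q` finite projective -/
noncomputable def tensorRightDualIso :
    tensorRight (ModuleCat.of A (Module.Dual A Q)) ≅ homM Q :=
  NatIso.ofComponents (fun N => (tensorDualEquiv Q N).toModuleIso) (fun {N N'} f => by
    refine ModuleCat.hom_ext (TensorProduct.ext' (fun n φ => LinearMap.ext (fun q => ?_)))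
    change tensorDualEquiv Q N' (f.hom n ⊗ₜ φ) q = f.hom (tensorDualEquiv Q N (n ⊗ₜ φ) q)
    rw [tensorDualEquiv_tmul, tensorDualEquiv_tmul, map_smul])

end E1

section E4

variable (Q : ModuleCat.{u} A) (J : DRing.Cx A)

/-- cochains from a module in degree `0` -/
noncomputable def fromSingleLinearEquiv (n : ℤ) :
    Cochain ((CochainComplex.singleFunctor (ModuleCat.{u} A) 0).obj Q) J n ≃ₗ[A]
      (Q →ₗ[A] J.X n) where
  toFun α := (Cochain.fromSingleEquiv (zero_add n) α).hom
  invFun f := (Cochain.fromSingleEquiv (zero_add n)).symm (ModuleCat.ofHom f)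
  map_add' α β := by
    rw [map_add]
    rfl
  map_smul' a α := by
    change ((HomologicalComplex.singleObjXSelf (.up ℤ) 0 Q).inv ≫
      (a • α).v 0 n (zero_add n)).hom = a • ((HomologicalComplex.singleObjXSelf (.up ℤ) 0 Q).inv ≫
      α.v 0 n (zero_add n)).hom
    rw [Cochain.smul_v]
    exact congrArg ModuleCat.Hom.hom (Linear.comp_smul (R := A)
      (f := (HomologicalComplex.singleObjXSelf (.up ℤ) 0 Q).inv) (r := a)
      (g := α.v 0 n (zero_add n)))
  left_inv α := by
    change (Cochain.fromSingleEquiv (zero_add n)).symm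
      (ModuleCat.ofHom (Cochain.fromSingleEquiv (zero_add n) α).hom) = α
    rw [ModuleCat.ofHom_hom, AddEquiv.symm_apply_apply]
  right_inv f := by
    change (Cochain.fromSingleEquiv (zero_add n)
      ((Cochain.fromSingleEquiv (zero_add n)).symm (ModuleCat.ofHom f))).hom = f
    rw [AddEquiv.apply_symm_apply]
    rfl

lemma fromSingleLinearEquiv_fromSingleMk (n : ℤ) (f : Q ⟶ J.X n) :
    fromSingleLinearEquiv Q J n (Cochain.fromSingleMk f (zero_add n)) = f.hom := by
  change (Cochain.fromSingleEquiv (zero_add n) (Cochain.fromSingleMk f (zero_add n))).hom = f.hom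
  rw [Cochain.fromSingleEquiv_fromSingleMk]

/-- `Hom•(Q[0], J) ≅ Hom_A(Q, J)` -/
noncomputable def homCxSingleIso :
    DRing.homCx ((CochainComplex.singleFunctor (ModuleCat.{u} A) 0).obj Q) J ≅ Dc J Q :=
  HomologicalComplex.Hom.isoOfComponents
    (fun n => (fromSingleLinearEquiv Q J n).toModuleIso)
    (fun i j hij => by
      refine ModuleCat.hom_ext (LinearMap.ext fun
        (α : Cochain ((CochainComplex.singleFunctor (ModuleCat.{u} A) 0).obj Q) J i) => ?_)
      obtain ⟨f, rfl⟩ := Cochain.fromSingleMk_surjective α i (zero_add i)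
      change (J.d i j).hom ∘ₗ fromSingleLinearEquiv Q J i (Cochain.fromSingleMk f (zero_add i)) =
        fromSingleLinearEquiv Q J j (δ i j (Cochain.fromSingleMk f (zero_add i)))
      rw [Cochain.δ_fromSingleMk f (zero_add i) j j (zero_add j),
        fromSingleLinearEquiv_fromSingleMk, fromSingleLinearEquiv_fromSingleMk]
      rfl)

end E4

section E5

variable (Q : ModuleCat.{u} A) [Module.Finite A Q] [Module.Projective A Q]
  [Module.Flat A (ModuleCat.of A (Module.Dual A Q))]
  (J : DRing.Cx A) [J.IsKInjective]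

/-- `RHom(Q[m], J) ≅ (J ⊗ Q^∨)[-m]` -/
theorem nonempty_homCx_iso_TP (E : DRing.Cx A) (m : ℤ) (φ : DRing.toD E ≅ Sg (-m) Q) :
    Nonempty (DRing.toD (DRing.homCx E J) ≅
      ((TP (ModuleCat.of A (Module.Dual A Q))).obj (DRing.toD J))⟦-m⟧) := by
  let S0 : DRing.Cx A := (CochainComplex.singleFunctor (ModuleCat.{u} A) 0).obj Q
  have e1 : DRing.toD E ≅ DRing.toD (S0⟦m⟧) :=
    φ ≪≫ (SgShiftIso m (-m) 0 (by omega) Q).symm ≪≫ (toDShiftIso S0 m).symm
  obtain ⟨i1⟩ := Bi.nonempty_homCx_iso_of_iso J E (S0⟦m⟧) e1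
  let i2 : DRing.toD (DRing.homCx (S0⟦m⟧) J) ≅ DRing.toD ((DRing.homCx S0 J)⟦-m⟧) :=
    DerivedCategory.Q.mapIso (HomCx.homCxShiftIso S0 J m).symm
  let i3 := toDShiftIso (DRing.homCx S0 J) (-m)
  let i4 : DRing.toD (DRing.homCx S0 J) ≅ DRing.toD (Dc J Q) :=
    DerivedCategory.Q.mapIso (homCxSingleIso Q J)
  let i5 : DRing.toD (Dc J Q) ≅
      DRing.toD ((mapCx (tensorRight (ModuleCat.of A (Module.Dual A Q)))).obj J) :=
    DerivedCategory.Q.mapIso ((NatIso.mapHomologicalComplex (tensorRightDualIso Q)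
      (ComplexShape.up ℤ)).app J).symm
  let i6 := (mapDToDIso (tensorRight (ModuleCat.of A (Module.Dual A Q))) J).symm
  exact ⟨i1 ≪≫ i2 ≪≫ i3 ≪≫ (shiftFunctor (Dual.D A) (-m)).mapIso (i4 ≪≫ i5 ≪≫ i6)⟩

end E5

end Uq

end Groth.Agent.Lib.Helper18.DR
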