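import Mathlib
import Groth.Agent.Lib.Helper18.InvG
import Groth.Agent.Lib.Helper18.UqC

/-!
# The tensor product of a split complex with its dual (helper18)
-/

set_option autoImplicit false
set_option linter.style.haveILetI false
universe u
open CategoryTheory CategoryTheory.Limits MonoidalCategory CochainComplex CochainComplex.HomComplex

attribute [local instance] HasDerivedCategory.standard

namespace Groth.Agent.Lib.Helper18.DR

namespace Inv

variable {A : Type u} [CommRing A]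

/-- finitely supported dependent functions with finite support are all dependent functions -/
noncomputable def dfinsuppEquivPi {ι : Type*} [DecidableEq ι] (β : ι → Type*)
    [∀ i, AddCommGroup (β i)] [∀ i, Module A (β i)] (s : Finset ι)
    (hs : ∀ i, i ∉ s → Subsingleton (β i)) : (Π₀ i, β i) ≃ₗ[A] (∀ i, β i) :=
  LinearEquiv.ofBijective (DFinsupp.coeFnLinearMap A)
    ⟨DFunLike.coe_injective, fun x => ⟨DFinsupp.mk s (fun i => x i), by
      funext i
      change (DFinsupp.mk s (fun i => x i)) i = x i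
      rw [DFinsupp.mk_apply]
      by_cases hi : i ∈ s
      · rw [dif_pos hi]
      · rw [dif_neg hi]
        haveI := hs i hi
        exact Subsingleton.elim _ _⟩⟩

/-- the dual of a complex with zero differentials -/
noncomputable def dualZ (K : DRing.Cx A) : DRing.Cx A where
  X q := ModuleCat.of A (Module.Dual A (K.X (-q)))
  d _ _ := 0
  shape _ _ _ := rfl
  d_comp_d' _ _ _ _ _ := zero_comp

/-- the index set of the degree zero part of a tensor product -/
def fiberEquiv : ((ComplexShape.π (ComplexShape.up ℤ) (ComplexShape.up ℤ) (ComplexShape.up ℤ)) ⁻¹'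
    {(0 : ℤ)}) ≃ ℤ where
  toFun i := i.1.2
  invFun q := ⟨(-q, q), by
    rw [Set.mem_preimage, Set.mem_singleton_iff]
    change -q + q = 0
    omega⟩
  left_inv i := by
    obtain ⟨⟨p, q⟩, h⟩ := i
    rw [Set.mem_preimage, Set.mem_singleton_iff] at h
    change p + q = 0 at h
    apply Subtype.ext
    apply Prod.ext
    · change -q = p
      omega
    · rfl
  right_inv q := rfl

section split

variable (K : DRing.Cx A) [K.IsKProjective] (a b : ℤ) (hs : IsSplitCx K a b)
  (hext : ∀ n : ℤ, n ≠ 0 → Subsingleton (DRing.toD K ⟶ (DRing.toD K)⟦n⟧))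
  (hend : Function.Bijective (fun c : A => c • 𝟙 (DRing.toD K)))

include hs hext in
/-- the cross terms of `K ⊗ K^∨` vanish -/
lemma subsingleton_tensor_of_ne (p q : ℤ) (h : p ≠ -q) :
    Subsingleton (TensorProduct A (K.X p) (Module.Dual A (K.X (-q)))) := by
  haveI := hs.projective (-q)
  haveI := hs.finite (-q)
  refine (Uq.tensorDualEquiv (K.X (-q)) (K.X p)).toEquiv.subsingleton_congr.2 ⟨fun θ θ' => ?_⟩
  rw [linearMap_eq_zero_of_ne K hs.d_eq_zero hext p (-q) (fun h' => h h'.symm) θ,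
    linearMap_eq_zero_of_ne K hs.d_eq_zero hext p (-q) (fun h' => h h'.symm) θ']

include hs hext in
/-- `K ⊗ K^∨` is concentrated in degree zero -/
lemma isZero_tensor_X (n : ℤ) (hn : n ≠ 0) : IsZero ((K ⊗ dualZ K).X n) := by
  rw [IsZero.iff_id_eq_zero]
  refine HomologicalComplex.mapBifunctor.hom_ext (fun p q h => ?_)
  have hpq : p + q = n := h
  haveI := subsingleton_tensor_of_ne K a b hs hext p q (by omega)
  have hz : IsZero (K.X p ⊗ (dualZ K).X q) :=
    ModuleCat.isZero_of_subsingleton (ModuleCat.of A (TensorProduct A (K.X p)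
      (Module.Dual A (K.X (-q)))))
  exact hz.eq_of_src _ _

omit [K.IsKProjective] in
include hs in
lemma subsingleton_end_of_notMem (q : ℤ) (hq : q ∉ Finset.Icc (-b) (-a)) :
    Subsingleton (K.X (-q) →ₗ[A] K.X (-q)) := by
  rw [Finset.mem_Icc] at hq
  have hz : IsZero (K.X (-q)) := hs.vanishes (-q) (by omega)
  haveI : Subsingleton (K.X (-q)) := ModuleCat.subsingleton_of_isZero hz
  infer_instance

include hs hend in
/-- the degree zero part of `K ⊗ K^∨` is `A` -/
theorem nonempty_tensor_X_zero_iso :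
    Nonempty ((K ⊗ dualZ K).X 0 ≅ ModuleCat.of A A) := by
  classical
  haveI := hs.projective
  haveI := hs.finite
  let Z : ((ComplexShape.π (ComplexShape.up ℤ) (ComplexShape.up ℤ) (ComplexShape.up ℤ)) ⁻¹'
    {(0 : ℤ)}) → ModuleCat.{u} A := fun i => K.X i.1.1 ⊗ (dualZ K).X i.1.2
  have e0 : (K ⊗ dualZ K).X 0 ≅ ModuleCat.of A (DirectSum _ (fun i => Z i)) :=
    ModuleCat.coprodIsoDirectSum Z
  have e1 : (DirectSum _ (fun i => Z i)) ≃ₗ[A]
      (DirectSum ℤ (fun q : ℤ => TensorProduct A (K.X (-q)) (Module.Dual A (K.X (-q))))) :=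
    DirectSum.lequivCongrLeft A fiberEquiv
  have e2 : (DirectSum ℤ (fun q : ℤ => TensorProduct A (K.X (-q)) (Module.Dual A (K.X (-q))))) ≃ₗ[A]
      (DirectSum ℤ (fun q : ℤ => K.X (-q) →ₗ[A] K.X (-q))) :=
    DFinsupp.mapRange.linearEquiv (fun q : ℤ => Uq.tensorDualEquiv (K.X (-q)) (K.X (-q)))
  have e3 : (DirectSum ℤ (fun q : ℤ => K.X (-q) →ₗ[A] K.X (-q))) ≃ₗ[A]
      (∀ q : ℤ, K.X (-q) →ₗ[A] K.X (-q)) :=
    dfinsuppEquivPi (fun q : ℤ => K.X (-q) →ₗ[A] K.X (-q)) (Finset.Icc (-b) (-a))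
      (subsingleton_end_of_notMem K a b hs)
  have e4 : (∀ q : ℤ, K.X (-q) →ₗ[A] K.X (-q)) ≃ₗ[A] (∀ p : ℤ, K.X p →ₗ[A] K.X p) :=
    LinearEquiv.piCongrLeft A (fun p : ℤ => K.X p →ₗ[A] K.X p) (Equiv.neg ℤ)
  have e5 : (∀ p : ℤ, K.X p →ₗ[A] K.X p) ≃ₗ[A] A := endsEquivA K hs.d_eq_zero hend
  exact ⟨e0 ≪≫ LinearEquiv.toModuleIso (e1.trans (e2.trans (e3.trans (e4.trans e5))))⟩


include hs hext hend in
/-- `K ⊗ K^∨` is the unit in `D(A)` -/
theorem nonempty_toD_tensor_iso_unit :
    Nonempty (DRing.toD (K ⊗ dualZ K) ≅ DTen.unit A) := by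
  haveI : (K ⊗ dualZ K).IsStrictlyGE 0 := by
    rw [CochainComplex.isStrictlyGE_iff]
    intro i hi
    exact isZero_tensor_X K a b hs hext i (by omega)
  haveI : (K ⊗ dualZ K).IsStrictlyLE 0 := by
    rw [CochainComplex.isStrictlyLE_iff]
    intro i hi
    exact isZero_tensor_X K a b hs hext i (by omega)
  obtain ⟨e⟩ := nonempty_tensor_X_zero_iso K a b hs hend
  exact ⟨toDIsoSg (K ⊗ dualZ K) 0 ≪≫
    (DerivedCategory.singleFunctor (ModuleCat.{u} A) 0).mapIso e ≪≫
    (DerivedCategory.singleFunctorIsoCompQ (ModuleCat.{u} A) 0).app (ModuleCat.of A A)⟩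

include hs hext hend in
/-- a split complex with `End = A` and no self-extensions is invertible -/
theorem isInvertible_toD [DTen.HasLTen A] [DTen.KFlatComputes A] :
    DTen.IsInvertible A (DRing.toD K) := by
  obtain ⟨e⟩ := nonempty_toD_tensor_iso_unit K a b hs hext hend
  have hK : DRing.IsKFlat A K :=
    (Groth.Agent.Lib.Helper2.Tot.DR.kflat_iff K).2 (DTenB.kflat_of_isKProjective K)
  haveI h1 : IsIso ((DTen.ε A).app (K, dualZ K)) :=
    DTen.KFlatComputes.isIso_counit K (dualZ K) (Or.inl hK)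
  haveI h2 : IsIso ((DTen.ε A).app (dualZ K, K)) :=
    DTen.KFlatComputes.isIso_counit (dualZ K) K (Or.inr hK)
  refine ⟨DRing.toD (dualZ K), ⟨asIso ((DTen.ε A).app (K, dualZ K)) ≪≫ e⟩,
    ⟨asIso ((DTen.ε A).app (dualZ K, K)) ≪≫
      DerivedCategory.Q.mapIso (DTen.braidCx (dualZ K) K) ≪≫ e⟩⟩


end split

end Inv

end Groth.Agent.Lib.Helper18.DR
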