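import Mathlib
import Groth.Agent.Lib.Helper18.InvH
import Groth.Agent.Lib.Helper18.InvE
import Groth.Agent.Lib.Helper18.InvD

/-!
# Invertibility from residue field tests (helper18)
-/

set_option autoImplicit false
set_option linter.style.haveILetI false
universe u
open CategoryTheory CategoryTheory.Limits CategoryTheory.Pretriangulated DerivedCategory

attribute [local instance] HasDerivedCategory.standard

namespace Groth.Agent.Lib.Helper18.DR

namespace Inv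

open HomLoc Uq

variable {A : Type u} [CommRing A]

/-- a module which is one-dimensional over the residue field (phrased without the field) -/
def IsLine (V : Type*) [AddCommGroup V] [Module A V] : Prop :=
  (∃ g : V, g ≠ 0) ∧ ∀ g₁ g₂ : V, g₁ ≠ 0 → ∃ c : A, g₂ = c • g₁

lemma IsLine.of_equiv {V W : Type*} [AddCommGroup V] [Module A V] [AddCommGroup W] [Module A W]
    (e : V ≃ₗ[A] W) (h : IsLine (A := A) V) : IsLine (A := A) W := by
  obtain ⟨⟨g, hg⟩, h2⟩ := h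
  refine ⟨⟨e g, fun h0 => hg (e.map_eq_zero_iff.1 h0)⟩, fun g₁ g₂ hg₁ => ?_⟩
  obtain ⟨c, hc⟩ := h2 (e.symm g₁) (e.symm g₂) (fun h0 => hg₁ (e.symm.map_eq_zero_iff.1 h0))
  refine ⟨c, ?_⟩
  have := congrArg e hc
  rwa [e.apply_symm_apply, map_smul, e.apply_symm_apply] at this

lemma isLine_kap (m : Ideal A) [hm : m.IsMaximal] : IsLine (A := A) (A ⧸ m) := by
  letI : Field (A ⧸ m) := Ideal.Quotient.field m
  refine ⟨⟨1, one_ne_zero⟩, fun g₁ g₂ hg₁ => ?_⟩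
  obtain ⟨c, hc⟩ := Ideal.Quotient.mk_surjective (g₂ / g₁)
  refine ⟨c, ?_⟩
  rw [Algebra.smul_def]
  change g₂ = Ideal.Quotient.mk m c * g₁
  rw [hc, div_mul_cancel₀ _ hg₁]

/-- the unit of `D(A)` is `A` in degree `0` -/
noncomputable def unitIso : Sg 0 (ModuleCat.of A A) ≅ DTen.unit A :=
  (DerivedCategory.singleFunctorIsoCompQ (ModuleCat.{u} A) 0).app (ModuleCat.of A A)

variable (m : Ideal A)

/-- `Hom(A, κ) = κ` in `D(A)` -/
noncomputable def homUnitSgEquiv : (DTen.unit A ⟶ Sg 0 (kap m)) ≃ₗ[A] (A ⧸ m) :=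
  (Linear.homCongr A (unitIso (A := A)).symm (Iso.refl (Sg 0 (kap m)))).trans
    ((LinearEquiv.ofBijective
      ((DerivedCategory.singleFunctor (ModuleCat.{u} A) 0).mapLinearMap A
        (X := ModuleCat.of A A) (Y := kap m))
      ⟨(DerivedCategory.singleFunctor (ModuleCat.{u} A) 0).map_injective,
        (DerivedCategory.singleFunctor (ModuleCat.{u} A) 0).map_surjective⟩).symm.trans
      ((ModuleCat.homLinearEquiv (S := A)).trans (LinearMap.ringLmapEquivSelf A A (A ⧸ m))))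

lemma isLine_hom_unit [hm : m.IsMaximal] : IsLine (A := A) (DTen.unit A ⟶ Sg 0 (kap m)) :=
  (isLine_kap m).of_equiv (homUnitSgEquiv m).symm

lemma hom_unit_shift_eq_zero (M : ModuleCat.{u} A) (i : ℤ) (hi : i ≠ 0)
    (g : DTen.unit A ⟶ (Sg 0 M)⟦i⟧) : g = 0 := by
  rw [← cancel_epi (unitIso (A := A)).hom, comp_zero]
  rcases lt_or_gt_of_ne hi with h | h
  · haveI : ((Sg 0 M)⟦i⟧).IsGE (0 + 1) := by
      haveI := TStructure.t.isGE_shift (Sg 0 M) 0 i (-i) (by omega)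
      exact TStructure.t.isGE_of_ge _ (0 + 1) (-i) (by omega)
    exact hom_Sg_eq_zero_of_isGE 0 (ModuleCat.of A A) _ _
  · haveI : ((Sg 0 M)⟦i⟧).IsLE (0 - 1) := by
      haveI := TStructure.t.isLE_shift (Sg 0 M) 0 i (-i) (by omega)
      exact TStructure.t.isLE_of_le _ (-i) (0 - 1) (by omega)
    haveI : Projective (ModuleCat.of A A) :=
      (IsProjective.iff_projective (R := A) (P := ModuleCat.of A A)).mp inferInstance
    exact hom_Sg_eq_zero_of_isLE 0 (ModuleCat.of A A) _ _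

section main

variable [IsNoetherianRing A]

/-- the local structure of `K` at `m` from a test object -/
theorem locStructure_of_test [hm : m.IsMaximal] (K : Dual.D A) (n₀ b₀ : ℤ) [K.IsGE n₀] [K.IsLE b₀]
    (hfin : ∀ j : ℤ, Module.Finite A (Dual.HD A K j))
    (hend_inj : ∀ c : A, c • 𝟙 K = 0 → c = 0)
    (Y : Dual.D A) (a₁ b₁ : ℤ) [Y.IsGE a₁] [Y.IsLE b₁] (hne : 𝟙 Y ≠ 0)
    (hkill : ∀ x ∈ m, x • 𝟙 Y = 0)
    (hscal : ∀ g : Y ⟶ Y, ∃ c : A, g = c • 𝟙 Y)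
    (hneg : ∀ i : ℤ, i < 0 → ∀ g : Y ⟶ Y⟦i⟧, g = 0)
    (φ : ∀ i : ℤ, Nonempty ((K ⟶ Y⟦i⟧) ≃ₗ[A] (DTen.unit A ⟶ (Sg 0 (kap m))⟦i⟧))) :
    ∃ a : ℤ, LocRankOne ((H A a).obj K) m ∧ ∀ j : ℤ, j ≠ a → LocZero ((H A j).obj K) m := by
  obtain ⟨a, ⟨e⟩⟩ := exists_iso_Sg_kap m Y a₁ b₁ hne hkill hscal hneg
  have ψ : ∀ j : ℤ, Nonempty ((K ⟶ Sg j (kap m)) ≃ₗ[A]
      (DTen.unit A ⟶ (Sg 0 (kap m))⟦a - j⟧)) := by
    intro j
    obtain ⟨φj⟩ := φ (a - j)
    exact ⟨(Linear.homCongr A (Iso.refl K) ((SgShiftIso (a - j) j a (by omega) (kap m)).symm ≪≫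
      (shiftFunctor (Dual.D A) (a - j)).mapIso e.symm)).trans φj⟩
  obtain ⟨φ0⟩ := φ 0
  have ψ0 : (K ⟶ Sg a (kap m)) ≃ₗ[A] (DTen.unit A ⟶ Sg 0 (kap m)) :=
    (Linear.homCongr A (Iso.refl K) e.symm).trans ((homShiftZeroEquiv K Y).symm.trans
      (φ0.trans (homShiftZeroEquiv _ _)))
  have hl : IsLine (A := A) (K ⟶ Sg a (kap m)) := (isLine_hom_unit m).of_equiv ψ0.symm
  refine ⟨a, locStructure m K n₀ b₀ hfin hend_inj a ?_ hl.1 hl.2⟩
  intro j hj g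
  obtain ⟨ψj⟩ := ψ j
  apply ψj.injective
  rw [map_zero]
  exact hom_unit_shift_eq_zero _ (a - j) (by omega) _

/-- invertibility of an object of `D^b_{Coh}(A)` from tests against objects with residue field
endomorphisms -/
theorem isInvertible_of_tests [DTen.HasLTen A] [DTen.KFlatComputes A] (K : Dual.D A)
    (a₀ b₀ : ℤ) [K.IsGE a₀] [K.IsLE b₀]
    (hfin : ∀ j : ℤ, Module.Finite A (Dual.HD A K j))
    (hend : Function.Bijective (fun c : A => c • 𝟙 K))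
    (hext : ∀ n : ℤ, n ≠ 0 → Subsingleton (K ⟶ K⟦n⟧))
    (hY : ∀ (m : Ideal A) [m.IsMaximal], ∃ (Y : Dual.D A) (a₁ b₁ : ℤ), Y.IsGE a₁ ∧ Y.IsLE b₁ ∧
      𝟙 Y ≠ 0 ∧ (∀ x ∈ m, x • 𝟙 Y = 0) ∧ (∀ g : Y ⟶ Y, ∃ c : A, g = c • 𝟙 Y) ∧
      (∀ i : ℤ, i < 0 → ∀ g : Y ⟶ Y⟦i⟧, g = 0) ∧
      (∀ i : ℤ, Nonempty ((K ⟶ Y⟦i⟧) ≃ₗ[A] (DTen.unit A ⟶ (Sg 0 (kap m))⟦i⟧)))) :
    DTen.IsInvertible A K := by
  have hend_inj : ∀ c : A, c • 𝟙 K = 0 → c = 0 := by
    intro c hc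
    apply hend.1
    change c • 𝟙 K = (0 : A) • 𝟙 K
    rw [hc, zero_smul]
  have hloc : ∀ (m : Ideal A) [m.IsMaximal], ∃ a : ℤ, LocRankOne ((H A a).obj K) m ∧
      ∀ j : ℤ, j ≠ a → LocZero ((H A j).obj K) m := by
    intro m hm
    obtain ⟨Y, a₁, b₁, h1, h2, hne, hkill, hscal, hneg, φ⟩ := hY m
    haveI := h1
    haveI := h2
    exact locStructure_of_test m K a₀ b₀ hfin hend_inj Y a₁ b₁ hne hkill hscal hneg φ
  have hproj : ∀ i : ℤ, Module.Projective A ((H A i).obj K) := by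
    intro i
    haveI := hfin i
    refine projective_of_locRankOne_or_locZero _ (fun m _ => ?_)
    obtain ⟨a, h1, h2⟩ := hloc m
    by_cases hi : i = a
    · subst hi
      exact Or.inl h1
    · exact Or.inr (h2 i hi)
  have hK : ∀ i : ℤ, (i < a₀ ∨ b₀ < i) → IsZero ((H A i).obj K) := by
    intro i hi
    rcases hi with hi | hi
    · exact isZero_of_isGE K a₀ i hi
    · exact isZero_of_isLE K b₀ i hi
  obtain ⟨K', hs, ⟨e⟩⟩ := exists_split K a₀ b₀ hK hproj hfin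
  haveI : K'.IsKProjective :=
    isKProjective_of_vanishesAbove K' b₀ (fun i hi => hs.vanishes i (Or.inr hi)) hs.projective
  have hext' : ∀ n : ℤ, n ≠ 0 → Subsingleton (DRing.toD K' ⟶ (DRing.toD K')⟦n⟧) := by
    intro n hn
    haveI := hext n hn
    exact (Linear.homCongr A e ((shiftFunctor (Dual.D A) n).mapIso e)).toEquiv.subsingleton
  have hend' : Function.Bijective (fun c : A => c • 𝟙 (DRing.toD K')) := by
    have key : ∀ c : A, c • 𝟙 (DRing.toD K') = e.hom ≫ (c • 𝟙 K) ≫ e.inv := by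
      intro c
      rw [Linear.smul_comp, Linear.comp_smul, Category.id_comp, e.hom_inv_id]
    constructor
    · intro c c' hcc
      beta_reduce at hcc
      rw [key, key] at hcc
      apply hend.1
      beta_reduce
      rw [← cancel_epi e.hom, ← cancel_mono e.inv]
      simpa using hcc
    · intro g
      obtain ⟨c, hc⟩ := hend.2 (e.inv ≫ g ≫ e.hom)
      refine ⟨c, ?_⟩
      beta_reduce at hc ⊢
      rw [key, hc]
      simp
  obtain ⟨L, ⟨e1⟩, ⟨e2⟩⟩ := isInvertible_toD K' a₀ b₀ hs hext' hend'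
  exact ⟨L, ⟨(DTen.LTen₂ A).mapIso (Iso.prod e.symm (Iso.refl L)) ≪≫ e1⟩,
    ⟨(DTen.LTen₂ A).mapIso (Iso.prod (Iso.refl L) e.symm) ≪≫ e2⟩⟩

end main

end Inv

end Groth.Agent.Lib.Helper18.DR
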