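import Mathlib

/-!
# Factors of a principal regular product ideal are locally principal regular
-/

namespace Groth.Agent.Lib.Helper18.InvIdealLocal

variable {R : Type*} [CommRing R]

/-- If `I * J = (f)` with `f` a nonzerodivisor and `p` is a prime, there are `c ∉ p`, `a ∈ I`,
`b ∈ J` with `a * b = f * c`. -/
theorem exists_mul_eq (I J : Ideal R) (f : R) (hf : f ∈ nonZeroDivisors R)
    (hIJ : I * J = Ideal.span {f}) (p : Ideal R) [hp : p.IsPrime] :
    ∃ c a b : R, c ∉ p ∧ a ∈ I ∧ b ∈ J ∧ a * b = f * c := by
  by_contra hcon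
  push_neg at hcon
  have hle : I * J ≤ Ideal.span {f} * p := by
    rw [Ideal.mul_le]
    intro a ha b hb
    have hab : a * b ∈ Ideal.span {f} := hIJ ▸ Ideal.mul_mem_mul ha hb
    obtain ⟨c, hc⟩ := Ideal.mem_span_singleton'.mp hab
    have hcp : c ∈ p := by
      by_contra hcp
      exact hcon c a b hcp ha hb (by rw [← hc, mul_comm])
    have e : a * b = f * c := by rw [← hc, mul_comm]
    rw [e]
    exact Ideal.mul_mem_mul (Ideal.mem_span_singleton_self f) hcp
  have hfmem : f ∈ Ideal.span {f} * p := hle (hIJ ▸ Ideal.mem_span_singleton_self f)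
  obtain ⟨t, ht, hft⟩ := Ideal.mem_span_singleton_mul.mp hfmem
  have h1 : f * (t - 1) = 0 := by rw [mul_sub, hft, mul_one, sub_self]
  have h2 : t - 1 = 0 := by
    have := (mem_nonZeroDivisors_iff_right.mp hf) (t - 1)
    apply this
    rw [mul_comm]; exact h1
  have : t = 1 := by linear_combination h2
  rw [this] at ht
  exact hp.ne_top (p.eq_top_of_isUnit_mem ht isUnit_one)

/-- In the localization away from `c` the ideal `I` becomes principal generated by the image of
`a`, which is a nonzerodivisor there. -/
theorem map_eq_span_of_mul_eq (I J : Ideal R) (f : R) (hf : f ∈ nonZeroDivisors R)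
    (hIJ : I * J = Ideal.span {f}) (c a b : R) (ha : a ∈ I) (hb : b ∈ J) (hab : a * b = f * c)
    (S : Type*) [CommRing S] [Algebra R S] [IsLocalization.Away c S] :
    I.map (algebraMap R S) = Ideal.span {algebraMap R S a} ∧
      algebraMap R S a ∈ nonZeroDivisors S := by
  have hcu : IsUnit (algebraMap R S c) := IsLocalization.Away.algebraMap_isUnit c
  have hfz : ∀ y : R, f * y = 0 → y = 0 := fun y hy =>
    (mem_nonZeroDivisors_iff_right.mp hf) y (by rw [mul_comm]; exact hy)
  constructor
  · apply le_antisymm
    · rw [Ideal.map_le_iff_le_comap]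
      intro a' ha'
      rw [Ideal.mem_comap, Ideal.mem_span_singleton]
      have hab' : a' * b ∈ Ideal.span {f} := hIJ ▸ Ideal.mul_mem_mul ha' hb
      obtain ⟨d, hd⟩ := Ideal.mem_span_singleton'.mp hab'
      have h1 : a' * c = a * d := by
        have : f * (a' * c - a * d) = 0 := by
          have e1 : f * (a' * c) = a' * (a * b) := by rw [hab]; ring
          have e2 : f * (a * d) = a * (a' * b) := by rw [← hd]; ring
          rw [mul_sub, e1, e2]; ring
        have := hfz _ this
        linear_combination this
      obtain ⟨u, hu⟩ := hcu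
      refine ⟨algebraMap R S d * ↑u⁻¹, ?_⟩
      have h2 : algebraMap R S a' * algebraMap R S c = algebraMap R S a * algebraMap R S d := by
        rw [← map_mul, ← map_mul, h1]
      rw [← hu] at h2
      calc algebraMap R S a' = algebraMap R S a' * ↑u * ↑u⁻¹ := by
            rw [mul_assoc, Units.mul_inv, mul_one]
        _ = algebraMap R S a * algebraMap R S d * ↑u⁻¹ := by rw [h2]
        _ = algebraMap R S a * (algebraMap R S d * ↑u⁻¹) := by ring
    · rw [Ideal.span_le, Set.singleton_subset_iff]
      exact Ideal.mem_map_of_mem _ ha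
  · rw [mem_nonZeroDivisors_iff_right]
    intro s hs
    obtain ⟨⟨y, m⟩, hym⟩ := IsLocalization.surj (Submonoid.powers c) s
    simp only at hym
    have hmu : IsUnit (algebraMap R S (m : R)) := IsLocalization.map_units S m
    have h1 : algebraMap R S (a * y) = 0 := by
      rw [map_mul, ← hym]
      rw [← mul_assoc, mul_comm (algebraMap R S a) s, hs, zero_mul]
    obtain ⟨m', hm'⟩ := (IsLocalization.map_eq_zero_iff (Submonoid.powers c) S (a * y)).mp h1
    have h2 : f * ((m' : R) * c * y) = 0 := by
      have : f * ((m' : R) * c * y) = (m' : R) * (a * y) * b := by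
        have := hab
        linear_combination (-(m' : R) * y) * this
      rw [this, hm', zero_mul]
    have h3 := hfz _ h2
    have h4 : algebraMap R S y = 0 := by
      rw [IsLocalization.map_eq_zero_iff (Submonoid.powers c) S y]
      refine ⟨m' * ⟨c, Submonoid.mem_powers c⟩, ?_⟩
      simpa using h3
    have h5 : s * algebraMap R S (m : R) = 0 := by rw [hym, h4]
    exact (hmu.mul_left_eq_zero).mp h5

end Groth.Agent.Lib.Helper18.InvIdealLocal
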