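import Mathlib
import Groth.Agent.Lib.Helper18.InvI

/-!
# Invertibility of the image of the unit under a linear triangulated equivalence (helper18)
-/

set_option autoImplicit false
set_option linter.style.haveILetI false
universe u
open CategoryTheory CategoryTheory.Limits CategoryTheory.Pretriangulated DerivedCategory

attribute [local instance] HasDerivedCategory.standard

namespace Groth.Agent.Lib.Helper18.DR

namespace Inv

open HomLoc Uq

variable {A : Type u} [CommRing A]

section general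

variable {C C' : Type*} [Category C] [Category C'] [Preadditive C] [Preadditive C']
  [Linear A C] [Linear A C'] [HasShift C ℤ] [HasShift C' ℤ]

/-- objects which look like a residue field: a bundle of properties of the graded endomorphism
algebra -/
def IsKapLike (m : Ideal A) (Y : C) : Prop :=
  𝟙 Y ≠ 0 ∧ (∀ x ∈ m, x • 𝟙 Y = 0) ∧ (∀ g : Y ⟶ Y, ∃ c : A, g = c • 𝟙 Y) ∧
    ∀ i : ℤ, i < 0 → ∀ g : Y ⟶ Y⟦i⟧, g = 0

variable (H : C ⥤ C') [H.Full] [H.Faithful] [H.Additive] [H.Linear A] [H.CommShift ℤ]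

/-- the action of a fully faithful linear functor on morphisms -/
noncomputable def homEquiv (X Y : C) : (X ⟶ Y) ≃ₗ[A] (H.obj X ⟶ H.obj Y) :=
  LinearEquiv.ofBijective (H.mapLinearMap A) ⟨H.map_injective, H.map_surjective⟩

lemma homEquiv_apply (X Y : C) (g : X ⟶ Y) : homEquiv (A := A) H X Y g = H.map g := rfl

/-- the action of a fully faithful linear functor commuting with shifts on graded morphisms -/
noncomputable def homShiftEquiv (X Y : C) (n : ℤ) :
    (X ⟶ Y⟦n⟧) ≃ₗ[A] (H.obj X ⟶ (H.obj Y)⟦n⟧) :=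
  (homEquiv (A := A) H X (Y⟦n⟧)).trans
    (Linear.homCongr A (Iso.refl _) ((H.commShiftIso n).app Y))

lemma IsKapLike.map {m : Ideal A} {X : C} (h : IsKapLike m X) : IsKapLike m (H.obj X) := by
  obtain ⟨h1, h2, h3, h4⟩ := h
  refine ⟨fun h0 => h1 (H.map_injective ?_), fun x hx => ?_, fun g => ?_, fun i hi g => ?_⟩
  · rw [CategoryTheory.Functor.map_id, h0, Functor.map_zero]
  · rw [← CategoryTheory.Functor.map_id, ← Functor.map_smul, h2 x hx, Functor.map_zero]
  · obtain ⟨g', rfl⟩ := H.map_surjective g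
    obtain ⟨c, hc⟩ := h3 g'
    exact ⟨c, by rw [hc, Functor.map_smul, CategoryTheory.Functor.map_id]⟩
  · apply (homShiftEquiv (A := A) H X X i).symm.injective
    rw [map_zero]
    exact h4 i hi _

lemma IsKapLike.of_map {m : Ideal A} {X : C} (h : IsKapLike m (H.obj X)) : IsKapLike m X := by
  obtain ⟨h1, h2, h3, h4⟩ := h
  refine ⟨fun h0 => h1 ?_, fun x hx => H.map_injective ?_, fun g => ?_, fun i hi g => ?_⟩
  · rw [← CategoryTheory.Functor.map_id, h0, Functor.map_zero]
  · rw [Functor.map_smul, CategoryTheory.Functor.map_id, h2 x hx, Functor.map_zero]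
  · obtain ⟨c, hc⟩ := h3 (H.map g)
    refine ⟨c, H.map_injective ?_⟩
    rw [hc, Functor.map_smul, CategoryTheory.Functor.map_id]
  · apply (homShiftEquiv (A := A) H X X i).injective
    rw [map_zero]
    exact h4 i hi _

omit [HasShift C' ℤ] in
lemma bijective_smul_id_of_equiv {X : C} {Y : C'} (e : (X ⟶ X) ≃ₗ[A] (Y ⟶ Y))
    (he : e (𝟙 X) = 𝟙 Y) (h : Function.Bijective (fun c : A => c • 𝟙 X)) :
    Function.Bijective (fun c : A => c • 𝟙 Y) := by
  have : (fun c : A => c • 𝟙 Y) = e ∘ (fun c : A => c • 𝟙 X) := by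
    funext c
    change c • 𝟙 Y = e (c • 𝟙 X)
    rw [map_smul, he]
  rw [this]
  exact e.bijective.comp h

lemma IsKapLike.of_iso {m : Ideal A} {Y Y' : C} (e : Y ≅ Y') (h : IsKapLike m Y) :
    IsKapLike m Y' := by
  obtain ⟨h1, h2, h3, h4⟩ := h
  refine ⟨fun h0 => h1 ?_, fun x hx => ?_, fun g => ?_, fun i hi g => ?_⟩
  · rw [← e.hom_inv_id, ← Category.id_comp e.inv, h0, zero_comp, comp_zero]
  · have : x • 𝟙 Y' = e.inv ≫ (x • 𝟙 Y) ≫ e.hom := by
      rw [Linear.smul_comp, Linear.comp_smul, Category.id_comp, e.inv_hom_id]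
    rw [this, h2 x hx, zero_comp, comp_zero]
  · obtain ⟨c, hc⟩ := h3 (e.hom ≫ g ≫ e.inv)
    refine ⟨c, ?_⟩
    have : g = e.inv ≫ (e.hom ≫ g ≫ e.inv) ≫ e.hom := by simp
    rw [this, hc, Linear.smul_comp, Linear.comp_smul, Category.id_comp, e.inv_hom_id]
  · have := h4 i hi (e.hom ≫ g ≫ (shiftFunctor C i).map e.inv)
    have h5 : g = e.inv ≫ (e.hom ≫ g ≫ (shiftFunctor C i).map e.inv) ≫
        (shiftFunctor C i).map e.hom := by
      simp [← Functor.map_comp]
    rw [h5, this, zero_comp, comp_zero]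

end general

section base

variable (m : Ideal A)

lemma isKapLike_Sg_kap [hm : m.IsMaximal] : IsKapLike m (Sg 0 (kap m)) := by
  refine ⟨fun h0 => ?_, fun x hx => smul_hom_kap m x hx 0 (𝟙 _), fun g => ?_, fun i hi g => ?_⟩
  · have h1 : 𝟙 (kap m) = 0 := by
      apply (DerivedCategory.singleFunctor (ModuleCat.{u} A) 0).map_injective
      rw [CategoryTheory.Functor.map_id, Functor.map_zero]
      exact h0
    have h2 : (1 : A ⧸ m) = 0 := by
      have := congrArg (fun f => f.hom (1 : A ⧸ m)) h1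
      exact this
    haveI : Nontrivial (A ⧸ m) := Ideal.Quotient.nontrivial_iff.2 hm.ne_top
    exact one_ne_zero h2
  · obtain ⟨g', rfl⟩ := (DerivedCategory.singleFunctor (ModuleCat.{u} A) 0).map_surjective g
    obtain ⟨c, hc⟩ := Ideal.Quotient.mk_surjective (g'.hom (1 : A ⧸ m))
    refine ⟨c, ?_⟩
    rw [← CategoryTheory.Functor.map_id, ← Functor.map_smul]
    congr 1
    refine ModuleCat.hom_ext (LinearMap.ext fun y => ?_)
    obtain ⟨r, rfl⟩ := Ideal.Quotient.mk_surjective y
    change g'.hom (Ideal.Quotient.mk m r) = c • (Ideal.Quotient.mk m r)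
    have h1 : (Ideal.Quotient.mk m r : A ⧸ m) = r • (1 : A ⧸ m) := by
      rw [Algebra.smul_def, mul_one]
      rfl
    rw [h1, map_smul, ← hc, smul_comm]
    congr 1
    rw [Algebra.smul_def, mul_one]
    rfl
  · haveI : ((Sg 0 (kap m))⟦i⟧).IsGE (0 + 1) := by
      haveI := TStructure.t.isGE_shift (Sg 0 (kap m)) 0 i (-i) (by omega)
      exact TStructure.t.isGE_of_ge _ (0 + 1) (-i) (by omega)
    exact hom_Sg_eq_zero_of_isGE 0 (kap m) _ _

lemma bijective_smul_id_unit : Function.Bijective (fun c : A => c • 𝟙 (DTen.unit A)) := by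
  have h0 : Function.Bijective (fun c : A => c • 𝟙 (Sg 0 (ModuleCat.of A A))) := by
    constructor
    · intro c c' hcc
      beta_reduce at hcc
      rw [← CategoryTheory.Functor.map_id, ← Functor.map_smul, ← Functor.map_smul] at hcc
      have h1 := (DerivedCategory.singleFunctor (ModuleCat.{u} A) 0).map_injective hcc
      have h2 := congrArg (fun f => f.hom (1 : A)) h1
      simpa using h2
    · intro g
      obtain ⟨g', rfl⟩ := (DerivedCategory.singleFunctor (ModuleCat.{u} A) 0).map_surjective g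
      refine ⟨g'.hom (1 : A), ?_⟩
      beta_reduce
      rw [← CategoryTheory.Functor.map_id, ← Functor.map_smul]
      congr 1
      refine ModuleCat.hom_ext (LinearMap.ext_ring ?_)
      change g'.hom (1 : A) • (1 : A) = g'.hom 1
      rw [smul_eq_mul, mul_one]
  refine bijective_smul_id_of_equiv (A := A) (Linear.homCongr A (unitIso (A := A)) (unitIso (A := A))) ?_ h0
  simp [Linear.homCongr]

end base

section functors

variable [IsNoetherianRing A] [DTen.HasLTen A] [DTen.KFlatComputes A]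
  {C : Type*} [Category C] [Preadditive C] [Linear A C] [HasShift C ℤ]
  (ι : C ⥤ Dual.D A) [ι.Full] [ι.Faithful] [ι.Additive] [ι.Linear A] [ι.CommShift ℤ]
  (F : C ⥤ C) [F.Full] [F.Faithful] [F.Additive] [F.Linear A] [F.CommShift ℤ]

/-- transport of graded morphisms along `F` -/
noncomputable def transEquiv (X Y : C) (n : ℤ) :
    (ι.obj X ⟶ (ι.obj Y)⟦n⟧) ≃ₗ[A] (ι.obj (F.obj X) ⟶ (ι.obj (F.obj Y))⟦n⟧) :=
  (homShiftEquiv (A := A) ι X Y n).symm.trans ((homShiftEquiv (A := A) F X Y n).trans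
    (homShiftEquiv (A := A) ι (F.obj X) (F.obj Y) n))

/-- the image of the unit under a fully faithful linear shift-compatible endofunctor of a
subcategory of `D^b_{Coh}(A)` containing the residue fields is invertible -/
theorem isInvertible_of_functors
    (hb : ∀ X : C, (∀ j : ℤ, Module.Finite A (Dual.HD A (ι.obj X) j)) ∧
      ∃ a b : ℤ, (ι.obj X).IsGE a ∧ (ι.obj X).IsLE b)
    (U : C) (eU : ι.obj U ≅ DTen.unit A)
    (hκ : ∀ (m : Ideal A) [m.IsMaximal], ∃ X : C, Nonempty (ι.obj X ≅ Sg 0 (kap m))) :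
    DTen.IsInvertible A (ι.obj (F.obj U)) := by
  obtain ⟨hfin, a₀, b₀, hge, hle⟩ := hb (F.obj U)
  haveI := hge
  haveI := hle
  refine isInvertible_of_tests (ι.obj (F.obj U)) a₀ b₀ hfin ?_ ?_ ?_
  · -- endomorphisms
    have h1 : Function.Bijective (fun c : A => c • 𝟙 (ι.obj U)) :=
      bijective_smul_id_of_equiv (A := A) (Linear.homCongr A eU.symm eU.symm) (by simp [Linear.homCongr])
        bijective_smul_id_unit
    have h2 : Function.Bijective (fun c : A => c • 𝟙 U) :=
      bijective_smul_id_of_equiv (A := A) (homEquiv (A := A) ι U U).symm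
        (by rw [LinearEquiv.symm_apply_eq, homEquiv_apply, CategoryTheory.Functor.map_id]) h1
    have h3 : Function.Bijective (fun c : A => c • 𝟙 (F.obj U)) :=
      bijective_smul_id_of_equiv (A := A) (homEquiv (A := A) F U U)
        (by rw [homEquiv_apply, CategoryTheory.Functor.map_id]) h2
    exact bijective_smul_id_of_equiv (A := A) (homEquiv (A := A) ι (F.obj U) (F.obj U))
        (by rw [homEquiv_apply, CategoryTheory.Functor.map_id]) h3
  · intro n hn
    have e1 : (ι.obj (F.obj U) ⟶ (ι.obj (F.obj U))⟦n⟧) ≃ₗ[A]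
        (DTen.unit A ⟶ (Sg 0 (ModuleCat.of A A))⟦n⟧) :=
      (transEquiv ι F U U n).symm.trans (Linear.homCongr A eU
        ((shiftFunctor (Dual.D A) n).mapIso (eU ≪≫ (unitIso (A := A)).symm)))
    refine ⟨fun x y => e1.injective ?_⟩
    rw [hom_unit_shift_eq_zero _ n hn (e1 x), hom_unit_shift_eq_zero _ n hn (e1 y)]
  · intro m hm
    obtain ⟨X, ⟨eX⟩⟩ := hκ m
    obtain ⟨-, a₁, b₁, hge₁, hle₁⟩ := hb (F.obj X)
    have hk : IsKapLike m (ι.obj (F.obj X)) :=
      (((isKapLike_Sg_kap m).of_iso eX.symm).of_map ι).map F |>.map ι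
    refine ⟨ι.obj (F.obj X), a₁, b₁, hge₁, hle₁, hk.1, hk.2.1, hk.2.2.1, hk.2.2.2, fun i => ⟨?_⟩⟩
    exact (transEquiv ι F U X i).symm.trans (Linear.homCongr A eU
      ((shiftFunctor (Dual.D A) i).mapIso eX))

end functors


end Inv

end Groth.Agent.Lib.Helper18.DR
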