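import Mathlib
import Groth.Prelude.Def_DRing2
import Groth.Prelude.Def_KZero
import Groth.Agent.Lib.Helper2.K0Der.Basic
import Groth.Agent.Lib.Helper18.DRBase

/-!
# K₀ of finite projective modules: the Euler characteristic of a bounded complex (helper18)

`chiC E = ∑ (-1)^i [E^i]` in `K₀` of finite projective modules; it is additive on cones and vanishes
on acyclic bounded complexes of finite projective modules.
-/

set_option autoImplicit false
set_option linter.style.haveILetI false
universe u
open CategoryTheory CategoryTheory.Limits CategoryTheory.Pretriangulated ZeroObject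

attribute [local instance] HasDerivedCategory.standard

namespace Groth.Agent.Lib.Helper18.DR.K0

open Groth.Agent.Lib.Helper2.K0Der

variable (R : Type u) [CommRing R]

/-- finite projective modules -/
abbrev FP : ObjectProperty (ModuleCat.{u} R) :=
  fun M : ModuleCat.{u} R => Module.Finite R M ∧ Module.Projective R M

variable {R}

lemma FP_iso {M N : ModuleCat.{u} R} (e : M ≅ N) (h : FP R M) : FP R N := by
  obtain ⟨h1, h2⟩ := h
  exact ⟨Module.Finite.equiv e.toLinearEquiv, Module.Projective.of_equiv e.toLinearEquiv⟩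

lemma FP_zero {M : ModuleCat.{u} R} (h : IsZero M) : FP R M := by
  haveI : Subsingleton M := ModuleCat.subsingleton_of_isZero h
  exact ⟨inferInstance, inferInstance⟩

lemma FP_retract {X Y : ModuleCat.{u} R} (i : X ⟶ Y) (r : Y ⟶ X) (h : i ≫ r = 𝟙 X)
    (hY : FP R Y) : FP R X := by
  obtain ⟨h1, h2⟩ := hY
  have hri : ∀ x, r.hom (i.hom x) = x := fun x => by
    have := congrArg (fun f => f.hom x) h
    simpa using this
  refine ⟨Module.Finite.of_surjective r.hom (fun x => ⟨i.hom x, hri x⟩), ?_⟩
  exact Module.Projective.of_split i.hom r.hom (by ext x; exact hri x)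

lemma FP_biprod {M N : ModuleCat.{u} R} (hM : FP R M) (hN : FP R N) : FP R (M ⊞ N) :=
  ⟨(finiteProp R).biprod hM.1 hN.1, (projProp R).biprod hM.2 hN.2⟩

lemma FP_projective {M : ModuleCat.{u} R} (h : FP R M) : Projective M := by
  have := h.2
  exact (IsProjective.iff_projective (R := R) (P := M)).mp this

instance : (FP R).IsClosedUnderIsomorphisms where
  of_iso e h := FP_iso e h

instance : (FP R).ContainsZero where
  exists_zero := ⟨0, isZero_zero _, FP_zero (isZero_zero _)⟩

/-- `[M ⊞ N] = [M] + [N]` -/
lemma clSub_biprod {M N : ModuleCat.{u} R} (hM : FP R M) (hN : FP R N) :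
    KZero.clSub (FP R) (M ⊞ N) = KZero.clSub (FP R) M + KZero.clSub (FP R) N :=
  clSub_ses (FP R) _ (ShortComplex.Splitting.ofHasBinaryBiproduct M N).shortExact hM
    (FP_biprod hM hN) hN

/-- the Euler characteristic `∑ (-1)^i [E^i]` of a complex -/
noncomputable def chiC (E : DRing.Cx R) : KZero.K0sub (FP R) :=
  ∑ᶠ i : ℤ, sgn i • KZero.clSub (FP R) (E.X i)

lemma chiC_support {E : DRing.Cx R} {a b : ℤ} (hE : DRing.VanishesOutside E a b) :
    (Function.support fun i : ℤ => sgn i • KZero.clSub (FP R) (E.X i)).Finite :=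
  finite_support_of_bdd _ a b (fun i hi => by rw [clSub_of_isZero _ (hE i hi), smul_zero])

lemma chiC_iso {E E' : DRing.Cx R} (e : E ≅ E') : chiC E = chiC E' := by
  unfold chiC
  refine finsum_congr (fun i => ?_)
  exact congrArg (fun x => sgn i • x) (clSub_iso (FP R) ((HomologicalComplex.eval _ _ i).mapIso e))

lemma chiC_eq_sum {E : DRing.Cx R} {a b : ℤ} (hE : DRing.VanishesOutside E a b) :
    chiC E = (Finset.Icc a b).sum (fun i => sgn i • KZero.clSub (FP R) (E.X i)) := by
  unfold chiC
  refine finsum_eq_sum_of_support_subset _ (fun i hi => ?_)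
  by_contra hc
  apply hi
  simp only [Finset.coe_Icc, Set.mem_Icc, not_and_or, not_le] at hc
  change sgn i • KZero.clSub (FP R) (E.X i) = 0
  rw [clSub_of_isZero _ (hE i hc), smul_zero]

/-- Euler characteristic of a cone -/
lemma chiC_cone {K L : DRing.Cx R} (f : K ⟶ L) {a₁ b₁ a₂ b₂ : ℤ}
    (hK : DRing.VanishesOutside K a₁ b₁) (hL : DRing.VanishesOutside L a₂ b₂)
    (pK : DRing.TermwiseFiniteProjective K) (pL : DRing.TermwiseFiniteProjective L) :
    chiC (CochainComplex.mappingCone f) = chiC L - chiC K := by
  have key : ∀ i : ℤ, sgn i • KZero.clSub (FP R) ((CochainComplex.mappingCone f).X i) =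
      sgn i • KZero.clSub (FP R) (L.X i) - sgn (i + 1) • KZero.clSub (FP R) (K.X (i + 1)) := by
    intro i
    have h1 : KZero.clSub (FP R) ((CochainComplex.mappingCone f).X i) =
        KZero.clSub (FP R) (K.X (i + 1) ⊞ L.X i) :=
      clSub_iso (FP R) (HomologicalComplex.homotopyCofiber.XIsoBiprod f i (i + 1) rfl)
    rw [h1, clSub_biprod (pK (i + 1)) (pL i), sgn_succ, smul_add, neg_smul]
    abel
  have sK : (Function.support fun i : ℤ => sgn (i + 1) • KZero.clSub (FP R) (K.X (i + 1))).Finite := by
    have : (fun i : ℤ => sgn (i + 1) • KZero.clSub (FP R) (K.X (i + 1))) =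
        (fun i : ℤ => sgn i • KZero.clSub (FP R) (K.X i)) ∘ (Equiv.addRight (1 : ℤ)) := rfl
    rw [this, Function.support_comp_eq_preimage]
    exact (chiC_support hK).preimage (Equiv.injective _).injOn
  unfold chiC
  rw [finsum_congr key, finsum_sub_distrib (chiC_support hL) sK]
  congr 1
  have := finsum_comp_equiv (Equiv.addRight (1 : ℤ))
    (f := fun i : ℤ => sgn i • KZero.clSub (FP R) (K.X i))
  simpa only [Equiv.coe_addRight] using this

section Cycles

variable (E : DRing.Cx R)

lemma epi_toCycles_of_exactAt (i : ℤ) (hex : E.ExactAt (i + 1)) : Epi (E.toCycles i (i + 1)) :=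
  Preadditive.epi_of_isZero_cokernel' _ (E.homologyIsCokernel i (i + 1) (by simp))
    ((E.exactAt_iff_isZero_homology (i + 1)).1 hex)

/-- cycles of a bounded-above acyclic complex of finite projectives are finite projective -/
theorem FP_cycles_aux (b : ℤ) (hb : DRing.VanishesAbove E b) (hE : DRing.TermwiseFiniteProjective E)
    (hex : E.Acyclic) : ∀ (k : ℕ) (i : ℤ), i + k = b + 1 → FP R (E.cycles i) := by
  intro k
  induction k with
  | zero =>
    intro i hi
    have hz : IsZero (E.X i) := hb i (by simp at hi; omega)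
    exact FP_zero (IsZero.of_mono (E.iCycles i) hz)
  | succ k ih =>
    intro i hi
    have h1 := ih (i + 1) (by push_cast at hi ⊢; omega)
    haveI : Projective (E.cycles (i + 1)) := FP_projective h1
    have hepi : Epi (E.toCycles i (i + 1)) := epi_toCycles_of_exactAt E i (hex (i + 1))
    let s : E.cycles (i + 1) ⟶ E.X i := Projective.factorThru (𝟙 _) (E.toCycles i (i + 1))
    have hs : s ≫ E.toCycles i (i + 1) = 𝟙 _ := Projective.factorThru_comp _ _
    have hzc : E.iCycles i ≫ E.toCycles i (i + 1) = 0 := by
      rw [← cancel_mono (E.iCycles (i + 1)), Category.assoc, E.toCycles_i, E.iCycles_d, zero_comp]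
    have hr0 : (𝟙 (E.X i) - E.toCycles i (i + 1) ≫ s) ≫ E.d i (i + 1) = 0 := by
      rw [Preadditive.sub_comp, Category.id_comp, Category.assoc, ← E.toCycles_i i (i + 1),
        ← Category.assoc s, hs, Category.id_comp, sub_self]
    refine FP_retract (E.iCycles i)
      (E.liftCycles (𝟙 (E.X i) - E.toCycles i (i + 1) ≫ s) (i + 1) (by simp) hr0) ?_ (hE i)
    rw [← cancel_mono (E.iCycles i), Category.assoc, E.liftCycles_i, Preadditive.comp_sub,
      Category.comp_id, ← Category.assoc, hzc, zero_comp, sub_zero, Category.id_comp]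

theorem FP_cycles (b : ℤ) (hb : DRing.VanishesAbove E b) (hE : DRing.TermwiseFiniteProjective E)
    (hex : E.Acyclic) (i : ℤ) : FP R (E.cycles i) := by
  by_cases h : i ≤ b + 1
  · exact FP_cycles_aux E b hb hE hex (b + 1 - i).toNat i (by omega)
  · exact FP_zero (IsZero.of_mono (E.iCycles i) (hb i (by omega)))

lemma iCycles_toCycles (i : ℤ) : E.iCycles i ≫ E.toCycles i (i + 1) = 0 := by
  rw [← cancel_mono (E.iCycles (i + 1)), Category.assoc, E.toCycles_i, E.iCycles_d, zero_comp]

/-- the short exact sequence `0 → Z^i → E^i → Z^{i+1} → 0` of an acyclic complex -/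
lemma cycles_shortExact (hex : E.Acyclic) (i : ℤ) :
    (ShortComplex.mk (E.iCycles i) (E.toCycles i (i + 1)) (iCycles_toCycles E i)).ShortExact := by
  haveI := epi_toCycles_of_exactAt E i (hex (i + 1))
  exact
    { exact := ShortComplex.exact_of_f_is_kernel _
        (isKernelOfComp (f := E.toCycles i (i + 1)) (E.iCycles (i + 1)) (E.d i (i + 1))
          (E.cyclesIsKernel i (i + 1) (by simp)) (iCycles_toCycles E i) (E.toCycles_i i (i + 1)))
      mono_f := inferInstanceAs (Mono (E.iCycles i))
      epi_g := inferInstanceAs (Epi (E.toCycles i (i + 1))) }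

/-- the Euler characteristic of an acyclic bounded complex of finite projectives vanishes -/
theorem chiC_acyclic {a b : ℤ} (hab : DRing.VanishesOutside E a b)
    (hE : DRing.TermwiseFiniteProjective E) (hex : E.Acyclic) : chiC E = 0 := by
  have hZ : ∀ i, FP R (E.cycles i) := FP_cycles E b (VanishesOutside.above hab) hE hex
  let F : ℤ → KZero.K0sub (FP R) := fun i => sgn i • KZero.clSub (FP R) (E.cycles i)
  have sF : (Function.support F).Finite :=
    finite_support_of_bdd _ a b (fun i hi => by
      have hz : IsZero (E.cycles i) := IsZero.of_mono (E.iCycles i) (hab i hi)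
      change sgn i • KZero.clSub (FP R) (E.cycles i) = 0
      rw [clSub_of_isZero _ hz, smul_zero])
  have key : ∀ i : ℤ, sgn i • KZero.clSub (FP R) (E.X i) = - (F (i + 1) - F i) := by
    intro i
    have h := clSub_ses (FP R) _ (cycles_shortExact E hex i) (hZ i) (hE i) (hZ (i + 1))
    dsimp only at h
    change _ = - (sgn (i + 1) • KZero.clSub (FP R) (E.cycles (i + 1)) -
      sgn i • KZero.clSub (FP R) (E.cycles i))
    rw [h, sgn_succ, smul_add, neg_smul]
    abel
  unfold chiC
  rw [finsum_congr key, finsum_neg_distrib, finsum_telescope F sF, neg_zero]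

end Cycles

end Groth.Agent.Lib.Helper18.DR.K0
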