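import Mathlib
import Groth.Prelude.Def_DRing2
import Groth.Prelude.Def_KZero
import Groth.Agent.Lib.Helper2.K0Der.Basic
import Groth.Agent.Lib.Helper18.K0A
import Groth.Agent.Lib.Helper18.DRTri
import Groth.Agent.Lib.Helper18.DRPerf

/-!
# K₀(R) ≃ K₀(D_perf(R)) (helper18)
-/

set_option autoImplicit false
set_option linter.style.haveILetI false
universe u
open CategoryTheory CategoryTheory.Limits CategoryTheory.Pretriangulated ZeroObject

attribute [local instance] HasDerivedCategory.standard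

namespace Groth.Agent.Lib.Helper18.DR.K0

open Groth.Agent.Lib.Helper2.K0Der

variable {R : Type u} [CommRing R]

/-- perfect objects -/
abbrev Perf (R : Type u) [CommRing R] : ObjectProperty (Dual.D R) :=
  fun K : Dual.D R => DRing.IsPerfect R K

lemma isKProjective_of_bounded {E : DRing.Cx R} {a b : ℤ} (hab : DRing.VanishesOutside E a b)
    (hE : DRing.TermwiseFiniteProjective E) : E.IsKProjective :=
  isKProjective_of_vanishesAbove E b (VanishesOutside.above hab) (fun i => (hE i).2)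

lemma acyclic_of_isZero_toD (K : DRing.Cx R) (h : IsZero (DRing.toD K)) : K.Acyclic := by
  intro i
  rw [HomologicalComplex.exactAt_iff_isZero_homology]
  have h1 : IsZero ((DerivedCategory.homologyFunctor (ModuleCat.{u} R) i).obj (DRing.toD K)) :=
    Functor.map_isZero _ h
  exact h1.of_iso ((DerivedCategory.homologyFunctorFactors (ModuleCat.{u} R) i).app K).symm

/-- the Euler characteristic only depends on the image in `D(R)` -/
theorem chiC_eq_of_iso {E E' : DRing.Cx R} {a b a' b' : ℤ} (hab : DRing.VanishesOutside E a b)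
    (hE : DRing.TermwiseFiniteProjective E) (hab' : DRing.VanishesOutside E' a' b')
    (hE' : DRing.TermwiseFiniteProjective E') (e : DRing.toD E ≅ DRing.toD E') :
    chiC E = chiC E' := by
  haveI := isKProjective_of_bounded hab hE
  obtain ⟨f, hf⟩ := exists_map_eq E E' e.hom
  have hT := DerivedCategory.mappingCone_triangle_distinguished f
  have hz : IsZero (DRing.toD (CochainComplex.mappingCone f)) := by
    refine (Triangle.isZero₃_iff_isIso₁ _ hT).2 ?_
    change IsIso (DerivedCategory.Q.map f)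
    rw [hf]
    infer_instance
  have hc := chiC_acyclic (CochainComplex.mappingCone f)
    (vanishesOutside_cone (a := min (a - 1) a') (b := max (b - 1) b') f
      (VanishesOutside.mono hab (by omega) (by omega))
      (VanishesOutside.mono hab' (by omega) (by omega)))
    (termwiseFiniteProjective_cone f hE hE') (acyclic_of_isZero_toD _ hz)
  rw [chiC_cone f hab hab' hE hE', sub_eq_zero] at hc
  exact hc.symm

open Classical in
/-- the Euler characteristic of a perfect object -/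
noncomputable def chi0 (K : Dual.D R) : KZero.K0sub (FP R) :=
  if h : DRing.IsPerfect R K then chiC h.choose else 0

lemma chi0_eq {K : Dual.D R} {E : DRing.Cx R} {a b : ℤ} (hab : DRing.VanishesOutside E a b)
    (hE : DRing.TermwiseFiniteProjective E) (e : DRing.toD E ≅ K) : chi0 K = chiC E := by
  have h : DRing.IsPerfect R K := ⟨E, a, b, hab, hE, ⟨e⟩⟩
  unfold chi0
  rw [dif_pos h]
  obtain ⟨a', b', hab', hE', ⟨e'⟩⟩ := h.choose_spec
  exact chiC_eq_of_iso hab' hE' hab hE (e' ≪≫ e.symm)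

lemma chi0_toD {E : DRing.Cx R} {a b : ℤ} (hab : DRing.VanishesOutside E a b)
    (hE : DRing.TermwiseFiniteProjective E) : chi0 (DRing.toD E) = chiC E :=
  chi0_eq hab hE (Iso.refl _)

lemma chi0_iso {K L : Dual.D R} (e : K ≅ L) (hK : DRing.IsPerfect R K) : chi0 K = chi0 L := by
  obtain ⟨E, a, b, hab, hE, ⟨i⟩⟩ := hK
  rw [chi0_eq hab hE i, chi0_eq hab hE (i ≪≫ e)]

/-- additivity of the Euler characteristic on distinguished triangles -/
theorem chi0_add (T : Triangle (Dual.D R)) (hT : T ∈ distTriang (Dual.D R))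
    (h1 : DRing.IsPerfect R T.obj₁) (h2 : DRing.IsPerfect R T.obj₂) :
    chi0 T.obj₂ = chi0 T.obj₁ + chi0 T.obj₃ := by
  obtain ⟨E₁, a₁, b₁, hb₁, hE₁, ⟨e₁⟩⟩ := h1
  obtain ⟨E₂, a₂, b₂, hb₂, hE₂, ⟨e₂⟩⟩ := h2
  haveI := isKProjective_of_bounded hb₁ hE₁
  obtain ⟨f, ⟨e⟩⟩ := exists_cone_iso T hT E₁ E₂ e₁ e₂
  have h3 : chi0 T.obj₃ = chiC (CochainComplex.mappingCone f) :=
    chi0_eq (vanishesOutside_cone (a := min (a₁ - 1) a₂) (b := max (b₁ - 1) b₂) f
      (VanishesOutside.mono hb₁ (by omega) (by omega))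
      (VanishesOutside.mono hb₂ (by omega) (by omega)))
      (termwiseFiniteProjective_cone f hE₁ hE₂) e
  rw [h3, chiC_cone f hb₁ hb₂ hE₁ hE₂, chi0_eq hb₁ hE₁ e₁, chi0_eq hb₂ hE₂ e₂]
  abel

/-! ### single modules -/

/-- the single complex -/
noncomputable abbrev sC (n : ℤ) (M : ModuleCat.{u} R) : DRing.Cx R :=
  (HomologicalComplex.single (ModuleCat.{u} R) (ComplexShape.up ℤ) n).obj M

lemma vanishesOutside_sC (n : ℤ) (M : ModuleCat.{u} R) : DRing.VanishesOutside (sC n M) n n := by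
  intro i hi
  exact HomologicalComplex.isZero_single_obj_X _ _ _ _ (by omega)

lemma termwise_sC (n : ℤ) (M : ModuleCat.{u} R) (hM : FP R M) :
    DRing.TermwiseFiniteProjective (sC n M) := by
  intro i
  by_cases h : i = n
  · subst h
    exact FP_iso (HomologicalComplex.singleObjXSelf (ComplexShape.up ℤ) i M).symm hM
  · exact FP_zero (HomologicalComplex.isZero_single_obj_X _ _ _ _ h)

/-- `toD (single n M) ≅ Sg n M` -/
noncomputable def toDsCIso (n : ℤ) (M : ModuleCat.{u} R) : DRing.toD (sC n M) ≅ Sg n M :=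
  ((DerivedCategory.singleFunctorIsoCompQ (ModuleCat.{u} R) n).app M).symm

lemma isPerfect_Sg (n : ℤ) (M : ModuleCat.{u} R) (hM : FP R M) : DRing.IsPerfect R (Sg n M) :=
  ⟨sC n M, n, n, vanishesOutside_sC n M, termwise_sC n M hM, ⟨toDsCIso n M⟩⟩

lemma chiC_sC (n : ℤ) (M : ModuleCat.{u} R) : chiC (sC n M) = sgn n • KZero.clSub (FP R) M := by
  unfold chiC
  rw [finsum_eq_single _ n (fun i hi => by
    rw [clSub_of_isZero _ (HomologicalComplex.isZero_single_obj_X _ _ _ _ hi), smul_zero])]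
  exact congrArg (fun x => sgn n • x)
    (clSub_iso (FP R) (HomologicalComplex.singleObjXSelf (ComplexShape.up ℤ) n M))

lemma chi0_Sg (n : ℤ) (M : ModuleCat.{u} R) (hM : FP R M) :
    chi0 (Sg n M) = sgn n • KZero.clSub (FP R) M := by
  rw [chi0_eq (vanishesOutside_sC n M) (termwise_sC n M hM) (toDsCIso n M), chiC_sC]

/-! ### the two homomorphisms -/

lemma Perf_zero : Perf R (0 : Dual.D R) := isPerfect_of_isZero _ (isZero_zero _)

/-- `[M] ↦ [M[0]]` -/
noncomputable def phi : KZero.K0sub (FP R) →+ KZero.K0tr (Perf R) :=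
  QuotientAddGroup.lift _
    (FreeAbelianGroup.lift fun X : Subtype (FP R) => KZero.clTr (Perf R) (Sg 0 X.1)) (by
    rw [KZero.relSub, AddSubgroup.closure_le]
    rintro x ⟨S, h₁, h₂, h₃, hS, rfl⟩
    change FreeAbelianGroup.lift _ _ = 0
    rw [map_sub, map_sub, FreeAbelianGroup.lift_apply_of, FreeAbelianGroup.lift_apply_of,
      FreeAbelianGroup.lift_apply_of]
    have h := clTr_add (Perf R) hS.singleTriangle hS.singleTriangle_distinguished
      (isPerfect_Sg 0 _ h₁) (isPerfect_Sg 0 _ h₂) (isPerfect_Sg 0 _ h₃)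
    change KZero.clTr (Perf R) (Sg 0 S.X₂) =
      KZero.clTr (Perf R) (Sg 0 S.X₁) + KZero.clTr (Perf R) (Sg 0 S.X₃) at h
    rw [h]
    abel)

lemma phi_clSub (X : ModuleCat.{u} R) (hX : FP R X) :
    phi (KZero.clSub (FP R) X) = KZero.clTr (Perf R) (Sg 0 X) := by
  rw [clSub_eq (FP R) hX]
  change QuotientAddGroup.lift _ _ _ (QuotientAddGroup.mk _) = _
  rw [QuotientAddGroup.lift_mk, FreeAbelianGroup.lift_apply_of]

/-- the Euler characteristic `K₀(D_perf(R)) ⟶ K₀(R)` -/
noncomputable def psi : KZero.K0tr (Perf R) →+ KZero.K0sub (FP R) :=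
  QuotientAddGroup.lift _ (FreeAbelianGroup.lift fun K : Subtype (Perf R) => chi0 K.1) (by
    rw [KZero.relTr, AddSubgroup.closure_le]
    rintro x ⟨T, h₁, h₂, h₃, hT, rfl⟩
    change FreeAbelianGroup.lift _ _ = 0
    rw [map_sub, map_sub, FreeAbelianGroup.lift_apply_of, FreeAbelianGroup.lift_apply_of,
      FreeAbelianGroup.lift_apply_of]
    change chi0 T.obj₂ - chi0 T.obj₁ - chi0 T.obj₃ = 0
    rw [chi0_add T hT h₁ h₂]
    abel)

lemma psi_clTr (K : Dual.D R) (hK : DRing.IsPerfect R K) :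
    psi (KZero.clTr (Perf R) K) = chi0 K := by
  rw [clTr_eq (Perf R) hK]
  change QuotientAddGroup.lift _ _ _ (QuotientAddGroup.mk _) = _
  rw [QuotientAddGroup.lift_mk, FreeAbelianGroup.lift_apply_of]

lemma psi_phi (z : KZero.K0sub (FP R)) : psi (phi z) = z := by
  have hcomp : (psi (R := R)).comp phi = AddMonoidHom.id _ := by
    apply QuotientAddGroup.addMonoidHom_ext
    apply FreeAbelianGroup.lift_ext
    rintro ⟨X, hX⟩
    change psi (phi (Groth.Agent.Lib.Helper2.K0Res.cl (FP R) X hX)) =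
      Groth.Agent.Lib.Helper2.K0Res.cl (FP R) X hX
    rw [← clSub_eq (FP R) hX, phi_clSub X hX, psi_clTr _ (isPerfect_Sg 0 X hX), chi0_Sg 0 X hX,
      sgn_zero, one_smul]
  exact DFunLike.congr_fun hcomp z

/-! ### surjectivity -/

lemma single_mem (a : ℤ) (Y : ModuleCat.{u} R) (hY : FP R Y) :
    KZero.clTr (Perf R) (Sg a Y) ∈ (phi (R := R)).range := by
  induction a using Int.induction_on with
  | zero => exact ⟨KZero.clSub (FP R) Y, phi_clSub Y hY⟩
  | succ n ih =>
    have e : (Sg ((n : ℤ) + 1) Y)⟦(1 : ℤ)⟧ ≅ Sg (n : ℤ) Y :=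
      SgShiftIso 1 (n : ℤ) ((n : ℤ) + 1) (by omega) Y
    have hq1 := isPerfect_Sg ((n : ℤ) + 1) Y hY
    have hq := isPerfect_Sg (n : ℤ) Y hY
    have hqs : Perf R ((Sg ((n : ℤ) + 1) Y)⟦(1 : ℤ)⟧) := isPerfect_of_iso e.symm hq
    have h1 := clTr_shift (Perf R) hq1 hqs Perf_zero
    have h2 := clTr_iso (Perf R) e hqs hq Perf_zero
    have h3 : KZero.clTr (Perf R) (Sg ((n : ℤ) + 1) Y) = - KZero.clTr (Perf R) (Sg (n : ℤ) Y) := by
      rw [← h2, h1, neg_neg]
    rw [h3]
    exact neg_mem ih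
  | pred n ih =>
    have e : (Sg (-(n : ℤ)) Y)⟦(1 : ℤ)⟧ ≅ Sg (-(n : ℤ) - 1) Y :=
      SgShiftIso 1 (-(n : ℤ) - 1) (-(n : ℤ)) (by omega) Y
    have hq1 := isPerfect_Sg (-(n : ℤ)) Y hY
    have hq := isPerfect_Sg (-(n : ℤ) - 1) Y hY
    have hqs : Perf R ((Sg (-(n : ℤ)) Y)⟦(1 : ℤ)⟧) := isPerfect_of_iso e.symm hq
    have h1 := clTr_shift (Perf R) hq1 hqs Perf_zero
    have h2 := clTr_iso (Perf R) e hqs hq Perf_zero
    rw [← h2, h1]
    exact neg_mem ih

lemma mem_range_toD (E : DRing.Cx R) (a b : ℤ) (hab : DRing.VanishesOutside E a b)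
    (hE : DRing.TermwiseFiniteProjective E) :
    DRing.IsPerfect R (DRing.toD E) ∧ KZero.clTr (Perf R) (DRing.toD E) ∈ (phi (R := R)).range := by
  refine bounded_induction
    (fun K : Dual.D R => DRing.IsPerfect R K ∧ KZero.clTr (Perf R) K ∈ (phi (R := R)).range)
    ?_ ?_ ?_ E a b hab (fun i _ _ => ⟨isPerfect_Sg i _ (hE i), single_mem i _ (hE i)⟩)
  · rintro X Y e ⟨hX, hm⟩
    have hY : DRing.IsPerfect R Y := isPerfect_of_iso e hX
    exact ⟨hY, by rw [← clTr_iso (Perf R) e hX hY Perf_zero]; exact hm⟩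
  · intro X hX
    have hp : DRing.IsPerfect R X := isPerfect_of_isZero X hX
    refine ⟨hp, ?_⟩
    rw [clTr_iso (Perf R) hX.isoZero hp Perf_zero Perf_zero, clTr_zero (Perf R) Perf_zero]
    exact zero_mem _
  · rintro T hT ⟨h1, m1⟩ ⟨h3, m3⟩
    have h2 : DRing.IsPerfect R T.obj₂ := (isPerfect_two_of_three T hT).2.1 h1 h3
    refine ⟨h2, ?_⟩
    rw [clTr_add (Perf R) T hT h1 h2 h3]
    exact add_mem m1 m3

lemma phi_surjective : Function.Surjective (phi (R := R)) := by
  intro z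
  suffices h : z ∈ (phi (R := R)).range from h
  obtain ⟨y, rfl⟩ := QuotientAddGroup.mk_surjective z
  induction y using FreeAbelianGroup.induction_on with
  | zero => exact zero_mem _
  | of x =>
    obtain ⟨K, hK⟩ := x
    obtain ⟨E, a, b, hab, hE, ⟨e⟩⟩ := id hK
    have h := (mem_range_toD E a b hab hE).2
    rw [clTr_iso (Perf R) e ⟨E, a, b, hab, hE, ⟨Iso.refl _⟩⟩ hK Perf_zero, clTr_eq (Perf R) hK] at h
    exact h
  | neg x hx => exact neg_mem hx
  | add x y hx hy => exact add_mem hx hy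

/-- the equivalence `K₀(R) ≃ K₀(D_perf(R))` -/
noncomputable def equiv : KZero.K0sub (FP R) ≃+ KZero.K0tr (Perf R) :=
  AddEquiv.ofBijective phi ⟨Function.LeftInverse.injective psi_phi, phi_surjective⟩

lemma equiv_apply (z : KZero.K0sub (FP R)) : equiv z = phi z := rfl

lemma equiv_symm_apply (w : KZero.K0tr (Perf R)) : equiv.symm w = psi w := by
  obtain ⟨z, rfl⟩ := equiv.surjective w
  rw [AddEquiv.symm_apply_apply, equiv_apply, psi_phi]

theorem main :
    ∃ φ : KZero.K0sub (FP R) ≃+ KZero.K0tr (Perf R),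
      (∀ (M : Type u) [AddCommGroup M] [Module R M], Module.Finite R M → Module.Projective R M →
        φ (KZero.clSub (FP R) (ModuleCat.of R M)) = KZero.clTr (Perf R) (Dual.inD R M)) ∧
      ∀ (E : DRing.Cx R) (a b : ℤ), DRing.VanishesOutside E a b → DRing.TermwiseFiniteProjective E →
        φ.symm (KZero.clTr (Perf R) (DRing.toD E)) =
          (Finset.Icc a b).sum (fun i => (i.negOnePow : ℤ) • KZero.clSub (FP R) (E.X i)) := by
  refine ⟨equiv, fun M _ _ h1 h2 => ?_, fun E a b hab hE => ?_⟩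
  · exact phi_clSub (ModuleCat.of R M) ⟨h1, h2⟩
  · rw [equiv_symm_apply, psi_clTr _ ⟨E, a, b, hab, hE, ⟨Iso.refl _⟩⟩, chi0_toD hab hE,
      chiC_eq_sum hab]
    rfl

end Groth.Agent.Lib.Helper18.DR.K0
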