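import Mathlib
import Groth.Agent.Lib.Helper18.KProjD
import Groth.Agent.Lib.Helper18.DRPerf

/-!
# Derived tensor products with modules of finite length over a local ring (helper18)
-/

set_option autoImplicit false
set_option linter.style.haveILetI false
universe u
open CategoryTheory CategoryTheory.Limits CategoryTheory.Pretriangulated DerivedCategory
open TensorProduct MonoidalCategory

attribute [local instance] HasDerivedCategory.standard

namespace Groth.Agent.Lib.Helper18.DR

lemma exact_lTensor_of_isFiniteLength {R : Type u} [CommRing R] [IsLocalRing R]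
    {X Y Z : Type u} [AddCommGroup X] [Module R X] [AddCommGroup Y] [Module R Y] [AddCommGroup Z]
    [Module R Z] (d : X →ₗ[R] Y) (d' : Y →ₗ[R] Z) (hdd : d' ∘ₗ d = 0) [Module.Flat R Z]
    (hκ : Function.Exact (d.lTensor (R ⧸ IsLocalRing.maximalIdeal R))
      (d'.lTensor (R ⧸ IsLocalRing.maximalIdeal R)))
    (N : Type u) [AddCommGroup N] [Module R N] (hN : IsFiniteLength R N) :
    Function.Exact (d.lTensor N) (d'.lTensor N) := by
  induction hN with
  | of_subsingleton => exact exact_lTensor_of_subsingleton d d'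
  | @of_simple_quotient M _ _ N' _ hN' ih =>
    obtain ⟨I, hI, ⟨e⟩⟩ :=
      isSimpleModule_iff_quot_maximal.mp (inferInstance : IsSimpleModule R (M ⧸ N'))
    have hIm : I = IsLocalRing.maximalIdeal R := IsLocalRing.eq_maximalIdeal hI
    subst hIm
    have h3 : Function.Exact (d.lTensor (M ⧸ N')) (d'.lTensor (M ⧸ N')) :=
      exact_of_ladder' (TensorProduct.congr e (LinearEquiv.refl R X)).toAddEquiv
        (TensorProduct.congr e (LinearEquiv.refl R Y)).toAddEquiv
        (TensorProduct.congr e (LinearEquiv.refl R Z)).toAddEquiv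
        (fun z => congr_lTensor_naturality e d z) (fun z => congr_lTensor_naturality e d' z) hκ
    exact exact_lTensor_middle N'.subtype N'.mkQ (Submodule.subtype_injective _)
      (LinearMap.exact_subtype_mkQ N') (Submodule.mkQ_surjective N') d d' hdd ih h3

/-- S15231 -/
theorem homology_LTensor_vanishing_of_finiteLength (R : Type u) [CommRing R] [IsLocalRing R]
    [DRing.HasLBaseChange (IsLocalRing.residue R)]
    [∀ M : ModuleCat.{u} R, DRing.HasLTensor R M] (P : Dual.D R) (a b : ℤ)
    (h : ∀ i : ℤ, (i < a ∨ b < i) → Subsingleton (Dual.HD (IsLocalRing.ResidueField R)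
      ((DRing.LBaseChange (IsLocalRing.residue R)).obj P) i))
    (N : Type u) [AddCommGroup N] [Module R N] (hN : IsFiniteLength R N) (i : ℤ)
    (hi : i < a ∨ b < i) :
    Subsingleton (Dual.HD R ((DRing.LTensor R (ModuleCat.of R N)).obj P) i) := by
  haveI hLB : DRing.HasLBaseChange (algebraMap R (R ⧸ IsLocalRing.maximalIdeal R)) :=
    ‹DRing.HasLBaseChange (IsLocalRing.residue R)›
  obtain ⟨Q, hQK, hQproj, ⟨eQ⟩⟩ := exists_kprojective_resolution P
  haveI := hQK
  have hκ : ∀ i j k : ℤ, i + 1 = j → j + 1 = k → (j < a ∨ b < j) →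
      Function.Exact ((Q.d i j).hom.lTensor (R ⧸ IsLocalRing.maximalIdeal R))
        ((Q.d j k).hom.lTensor (R ⧸ IsLocalRing.maximalIdeal R)) := by
    intro i j k hij hjk hj
    rw [← (tensorLike_extM (A := R) (B := R ⧸ IsLocalRing.maximalIdeal R)).exact_iff]
    have h1 : IsZero ((H (R ⧸ IsLocalRing.maximalIdeal R) j).obj
        ((DRing.LBaseChange (algebraMap R (R ⧸ IsLocalRing.maximalIdeal R))).obj P)) :=
      isZero_H_of_subsingleton _ j (h j hj)
    have h2 : IsZero ((H (R ⧸ IsLocalRing.maximalIdeal R) j).obj (DRing.toD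
        (((extM (A := R) (B := R ⧸ IsLocalRing.maximalIdeal R)).mapHomologicalComplex
          (ComplexShape.up ℤ)).obj Q))) :=
      h1.of_iso ((H (R ⧸ IsLocalRing.maximalIdeal R) j).mapIso
        ((LBaseChangeIso (algebraMap R (R ⧸ IsLocalRing.maximalIdeal R)) Q).symm ≪≫
          (DRing.LBaseChange (algebraMap R (R ⧸ IsLocalRing.maximalIdeal R))).mapIso eQ))
    exact (isZero_H_toD_iff _ i j k hij hjk).mp h2
  have hN' : ∀ i j k : ℤ, i + 1 = j → j + 1 = k → (j < a ∨ b < j) →
      Function.Exact ((Q.d i j).hom.lTensor N) ((Q.d j k).hom.lTensor N) := by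
    intro i j k hij hjk hj
    haveI : Module.Flat R (Q.X k) := by haveI := hQproj k; infer_instance
    exact exact_lTensor_of_isFiniteLength (Q.d i j).hom (Q.d j k).hom (d_comp_d_hom Q i j k)
      (hκ i j k hij hjk hj) N hN
  apply ModuleCat.subsingleton_of_isZero
  have h1 : IsZero ((H R i).obj (DRing.toD (((tensorRight (ModuleCat.of R N)).mapHomologicalComplex
      (ComplexShape.up ℤ)).obj Q))) :=
    (isZero_H_toD_iff _ (i - 1) i (i + 1) (by omega) rfl).mpr
      (((tensorLike_tensorRight (ModuleCat.of R N)).exact_iff _ _).mpr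
        (hN' (i - 1) i (i + 1) (by omega) rfl hi))
  exact h1.of_iso ((H R i).mapIso ((DRing.LTensor R (ModuleCat.of R N)).mapIso eQ.symm ≪≫
    LTensorIso (ModuleCat.of R N) Q))

end Groth.Agent.Lib.Helper18.DR
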