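import Mathlib
import Groth.Agent.Lib.Helper18.HomLoc1

/-!
# A power of `s` kills `Hom(perfect, M)` when the cohomology of `M` is `s`-power torsion
(helper18, for helper2's S7276)
-/

set_option autoImplicit false
set_option linter.style.haveILetI false
universe u
open CategoryTheory CategoryTheory.Limits CategoryTheory.Pretriangulated DerivedCategory
open AlgebraicGeometry

attribute [local instance] HasDerivedCategory.standard

namespace Groth.Agent.Lib.Helper18.KillA

open Groth.Agent.Lib.Helper18.DR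

/-- base case -/
lemma exists_pow_smul_Sg {R : Type u} [CommRing R] (s : R) (M : Dual.D R)
    (hM : ∀ (i : ℤ) (x : (DerivedCategory.homologyFunctor (ModuleCat.{u} R) i).obj M),
      ∃ n : ℕ, s ^ n • x = 0)
    (i : ℤ) (F : ModuleCat.{u} R) [Module.Finite R F] [Module.Projective R F]
    (ψ : Sg i F ⟶ M) : ∃ n : ℕ, s ^ n • ψ = 0 := by
  haveI : Projective F := (IsProjective.iff_projective (R := R) (P := F)).mp inferInstance
  -- the induced map on `H^i`
  let g : F →ₗ[R] (H R i).obj M := ((HSg i F).inv ≫ (H R i).map ψ).hom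
  obtain ⟨t, ht⟩ := (Module.finite_def.1 (inferInstance : Module.Finite R F))
  -- a uniform power on the generators
  have h1 : ∀ x : F, ∃ n : ℕ, s ^ n • g x = 0 := fun x => hM i (g x)
  choose e he using h1
  let n : ℕ := t.sup e
  have h2 : ∀ x ∈ t, s ^ n • g x = 0 := by
    intro x hx
    have hle : e x ≤ n := Finset.le_sup hx
    obtain ⟨d, hd⟩ := Nat.exists_eq_add_of_le hle
    rw [hd, pow_add, mul_comm, mul_smul, he x, smul_zero]
  have h3 : (s ^ n) • g = 0 := by
    apply LinearMap.ext_on_range (v := fun x : t => (x : F))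
    · rw [Subtype.range_coe_subtype]
      exact ht
    · intro x
      rw [LinearMap.smul_apply, LinearMap.zero_apply]
      exact h2 x.1 x.2
  refine ⟨n, ?_⟩
  apply hom_Sg_eq_zero
  rw [← cancel_epi (HSg i F).inv, comp_zero, HomLoc.H_map_smul, Linear.comp_smul]
  ext x
  have := LinearMap.congr_fun h3 x
  exact this

/-- (KA) -/
theorem exists_pow_smul_eq_zero {R : Type u} [CommRing R] (s : R) (N M : Dual.D R)
    (hN : DRing.IsPerfect R N)
    (hM : ∀ (i : ℤ) (x : (DerivedCategory.homologyFunctor (ModuleCat.{u} R) i).obj M),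
      ∃ n : ℕ, s ^ n • x = 0)
    (ψ : N ⟶ M) : ∃ n : ℕ, s ^ n • ψ = 0 := by
  obtain ⟨E, a, b, hE, hproj, ⟨e⟩⟩ := hN
  have key : ∀ ψ : DRing.toD E ⟶ M, ∃ n : ℕ, s ^ n • ψ = 0 := by
    refine bounded_induction (fun N : Dual.D R => ∀ ψ : N ⟶ M, ∃ n : ℕ, s ^ n • ψ = 0)
      ?_ ?_ ?_ E a b hE ?_
    · intro X Y e hX ψ
      obtain ⟨n, hn⟩ := hX (e.hom ≫ ψ)
      refine ⟨n, ?_⟩
      rw [← cancel_epi e.hom, Linear.comp_smul, hn, comp_zero]
    · intro X hX ψ
      exact ⟨0, hX.eq_of_src _ _⟩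
    · intro T hT h1 h3 ψ
      obtain ⟨n₁, hn₁⟩ := h1 (T.mor₁ ≫ ψ)
      obtain ⟨χ, hχ⟩ := Triangle.yoneda_exact₂ T hT (s ^ n₁ • ψ) (by
        rw [Linear.comp_smul]; exact hn₁)
      obtain ⟨n₃, hn₃⟩ := h3 χ
      refine ⟨n₃ + n₁, ?_⟩
      rw [pow_add, mul_smul, hχ, ← Linear.comp_smul, hn₃, comp_zero]
    · intro i _ _ ψ
      haveI := (hproj i).1
      haveI := (hproj i).2
      exact exists_pow_smul_Sg s M hM i (E.X i) ψ
  obtain ⟨n, hn⟩ := key (e.hom ≫ ψ)
  refine ⟨n, ?_⟩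
  rw [← cancel_epi e.hom, Linear.comp_smul, hn, comp_zero]

end Groth.Agent.Lib.Helper18.KillA
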