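import Mathlib
import Groth.Agent.Lib.Helper14.KoszulH0
import Groth.Agent.Lib.Helper14.KoszulLCI

/-!
# Koszul-regular sequences are regular after inverting an element `≡ 1` (helper18)
-/

set_option autoImplicit false
set_option linter.style.haveILetI false
universe u
open CategoryTheory CategoryTheory.Limits CochainComplex

namespace Groth.Agent.Lib.Helper18.DR

namespace Kos

open Groth.Agent.Lib.Helper14.KoszulFun CohIII

variable {S : Type u} [CommRing S]

section cone

variable (K : CochainComplex (ModuleCat.{u} S) ℤ) (f : S)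

lemma homologyMap_smul_id_apply (n : ℤ) (w : (K.homology n : ModuleCat.{u} S)) :
    (HomologicalComplex.homologyMap (f • 𝟙 K) n) w = f • w := by
  rw [homologyMap_smul, HomologicalComplex.homologyMap_id]
  rfl

/-- if `h` kills `H^n(cone(f))` then `h • H^n(K) ⊆ f • H^n(K)` -/
lemma exists_smul_eq_of_kills_cone (n : ℤ) (h : S)
    (hh : ∀ z : ((mappingCone (f • 𝟙 K)).homology n : ModuleCat.{u} S), h • z = 0)
    (x : (K.homology n : ModuleCat.{u} S)) :
    ∃ y : (K.homology n : ModuleCat.{u} S), f • y = h • x := by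
  have hex := Groth.Agent.Lib.Helper14.ConeLES.exact₂ (f • 𝟙 K) n
  rw [ShortComplex.moduleCat_exact_iff] at hex
  have h1 : (HomologicalComplex.homologyMap (mappingCone.inr (f • 𝟙 K)) n) (h • x) = 0 := by
    rw [map_smul]
    exact hh _
  obtain ⟨w, hw⟩ := hex _ h1
  refine ⟨w, ?_⟩
  rw [← homologyMap_smul_id_apply]
  exact hw

/-- if `h` kills `H^n(cone(f))` then `h` kills the `f`-torsion of `H^{n+1}(K)` -/
lemma smul_eq_zero_of_kills_cone (n₀ n₁ : ℤ) (hn : n₀ + 1 = n₁) (h : S)
    (hh : ∀ z : ((mappingCone (f • 𝟙 K)).homology n₀ : ModuleCat.{u} S), h • z = 0)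
    (x : (K.homology n₁ : ModuleCat.{u} S)) (hx : f • x = 0) : h • x = 0 := by
  have hT := HomotopyCategory.mappingCone_triangleh_distinguished (f • 𝟙 K)
  set F := HomotopyCategory.homologyFunctor (ModuleCat.{u} S) (ComplexShape.up ℤ) 0 with hF
  let A1 : ModuleCat.{u} S := (F.shift n₁).obj (mappingCone.triangleh (f • 𝟙 K)).obj₁
  let A3 : ModuleCat.{u} S := (F.shift n₀).obj (mappingCone.triangleh (f • 𝟙 K)).obj₃
  let eK : A1 ≅ K.homology n₁ :=
    (HomotopyCategory.homologyFunctorFactors (ModuleCat.{u} S) (ComplexShape.up ℤ) n₁).app K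
  let eC : A3 ≅ (mappingCone (f • 𝟙 K)).homology n₀ :=
    (HomotopyCategory.homologyFunctorFactors (ModuleCat.{u} S) (ComplexShape.up ℤ) n₀).app
      (mappingCone (f • 𝟙 K))
  let m1 : A1 ⟶ A1 := (F.shift n₁).map (mappingCone.triangleh (f • 𝟙 K)).mor₁
  let δ : A3 ⟶ A1 := F.homologySequenceδ (mappingCone.triangleh (f • 𝟙 K)) n₀ n₁ hn
  have h3 : m1 ≫ eK.hom = eK.hom ≫ HomologicalComplex.homologyMap (f • 𝟙 K) n₁ :=
    (HomotopyCategory.homologyFunctorFactors (ModuleCat.{u} S) (ComplexShape.up ℤ)
      n₁).hom.naturality (f • 𝟙 K)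
  have ex1 := F.homologySequence_exact₁ _ hT n₀ n₁ hn
  rw [ShortComplex.moduleCat_exact_iff] at ex1
  have ex2 : ∀ z : A1, m1.hom z = 0 → ∃ y : A3, δ.hom y = z := ex1
  have hinj : Function.Injective eK.hom.hom := (ConcreteCategory.bijective_of_isIso eK.hom).1
  have h9 : eK.hom.hom (eK.inv.hom x) = x := by
    have := congrArg (fun t => t.hom x) eK.inv_hom_id
    exact this
  have h4 : m1.hom (eK.inv.hom x) = 0 := by
    apply hinj
    have h5 : eK.hom.hom (m1.hom (eK.inv.hom x)) =
        (HomologicalComplex.homologyMap (f • 𝟙 K) n₁).hom (eK.hom.hom (eK.inv.hom x)) :=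
      congrArg (fun t => t.hom (eK.inv.hom x)) h3
    refine h5.trans ?_
    rw [h9]
    refine (homologyMap_smul_id_apply K f n₁ x).trans ?_
    rw [hx]
    exact (LinearMap.map_zero _).symm
  obtain ⟨y, hy⟩ := ex2 _ h4
  have h7 : h • y = 0 := by
    have hinjC : Function.Injective eC.hom.hom := (ConcreteCategory.bijective_of_isIso eC.hom).1
    apply hinjC
    refine (LinearMap.map_smul eC.hom.hom h y).trans ?_
    refine (hh _).trans ?_
    exact (LinearMap.map_zero _).symm
  have h8 : h • eK.inv.hom x = 0 := by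
    rw [← hy]
    refine (LinearMap.map_smul δ.hom h y).symm.trans ?_
    rw [h7]
    exact LinearMap.map_zero _
  rw [← h9]
  refine (LinearMap.map_smul eK.hom.hom h _).symm.trans ?_
  rw [h8]
  exact LinearMap.map_zero _

end cone

section koszul

/-- The terms of the Koszul complex of a finite module are finite. -/
theorem finite_koszulCx_X (M : ModuleCat.{u} S) [Module.Finite S M] :
    ∀ (l : List S) (i : ℤ), Module.Finite S ((koszulCx M l).X i)
  | [], i => by
    by_cases h : i = 0
    · subst h
      exact Module.Finite.equiv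
        (HomologicalComplex.singleObjXSelf (ComplexShape.up ℤ) (0 : ℤ) M).symm.toLinearEquiv
    · haveI : Subsingleton ((koszulCx M []).X i) :=
        ModuleCat.subsingleton_of_isZero
          (HomologicalComplex.isZero_single_obj_X (ComplexShape.up ℤ) (0 : ℤ) M i h)
      infer_instance
  | x :: l, i => by
    haveI h1 := finite_koszulCx_X M l (i + 1)
    haveI h2 := finite_koszulCx_X M l i
    show Module.Finite S ((CochainComplex.mappingCone (x • 𝟙 (koszulCx M l))).X i)
    let g : ((koszulCx M l).X (i + 1) × (koszulCx M l).X i) →ₗ[S]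
        (CochainComplex.mappingCone (x • 𝟙 (koszulCx M l))).X i :=
      ((CochainComplex.mappingCone.inl (x • 𝟙 (koszulCx M l))).v (i + 1) i (by omega)).hom.coprod
        ((CochainComplex.mappingCone.inr (x • 𝟙 (koszulCx M l))).f i).hom
    refine Module.Finite.of_surjective g (fun y => ?_)
    refine ⟨(((CochainComplex.mappingCone.fst (x • 𝟙 (koszulCx M l))).1.v i (i + 1) rfl).hom y,
      ((CochainComplex.mappingCone.snd (x • 𝟙 (koszulCx M l))).v i i (add_zero i)).hom y), ?_⟩
    have hid := CochainComplex.mappingCone.id_X (x • 𝟙 (koszulCx M l)) i (i + 1) rfl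
    have := congrArg (fun t => t.hom y) hid
    simpa [g] using this

/-- Homology of a complex of finite modules over a Noetherian ring is finite. -/
theorem finite_homology [IsNoetherianRing S] (K : CochainComplex (ModuleCat.{u} S) ℤ) (i : ℤ)
    [Module.Finite S (K.X i)] : Module.Finite S (K.homology i) := by
  haveI : IsNoetherian S (K.X i) := isNoetherian_of_isNoetherianRing_of_finite S _
  haveI : Module.Finite S (K.cycles i) :=
    Module.Finite.of_injective (K.iCycles i).hom
      ((ModuleCat.mono_iff_injective _).mp inferInstance)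
  exact Module.Finite.of_surjective (K.homologyπ i).hom
    ((ModuleCat.epi_iff_surjective _).mp inferInstance)

/-- a sequence regular "from the right": each head is a nonzerodivisor modulo the tail -/
def RegSeq {S : Type u} [CommRing S] : List S → Prop
  | [] => True
  | f :: fs => RegSeq fs ∧ ∀ s : S, f * s ∈ Ideal.ofList fs → s ∈ Ideal.ofList fs

/-- a sequence regular "from the right" after inverting elements congruent to `1` modulo `J` -/
def LocReg {S : Type u} [CommRing S] (J : Ideal S) : List S → Prop
  | [] => True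
  | f :: fs => LocReg J fs ∧
      ∃ a : S, a - 1 ∈ J ∧ ∀ s : S, f * s ∈ Ideal.ofList fs → a * s ∈ Ideal.ofList fs

lemma ofList_smul_top (l : List S) : Ideal.ofList l • (⊤ : Submodule S S) = Ideal.ofList l := by
  change Ideal.ofList l • (⊤ : Ideal S) = _
  rw [smul_eq_mul, Ideal.mul_top]

theorem locReg_of_kills [IsNoetherianRing S] (J : Ideal S) :
    ∀ (l : List S), (∀ x ∈ l, x ∈ J) →
      (∃ a : S, a - 1 ∈ J ∧
        ∀ z : ((koszulCx (ModuleCat.of S S) l).homology (-1) : ModuleCat.{u} S), a • z = 0) →
      LocReg J l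
  | [], _, _ => trivial
  | f :: fs, hmem, ⟨a, haJ, ha⟩ => by
    have hfJ : f ∈ J := hmem f (List.mem_cons_self ..)
    have hmem' : ∀ x ∈ fs, x ∈ J := fun x hx => hmem x (List.mem_cons_of_mem _ hx)
    set K := koszulCx (ModuleCat.of S S) fs with hK
    have ha' : ∀ z : ((mappingCone (f • 𝟙 K)).homology (-1) : ModuleCat.{u} S), a • z = 0 := ha
    refine ⟨locReg_of_kills J fs hmem' ?_, a, haJ, ?_⟩
    · -- Nakayama
      haveI : Module.Finite S (K.X (-1)) := finite_koszulCx_X (ModuleCat.of S S) fs (-1)
      haveI : Module.Finite S (K.homology (-1)) := finite_homology K (-1)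
      have hle : (⊤ : Submodule S (K.homology (-1) : ModuleCat.{u} S)) ≤ J • ⊤ := by
        intro x _
        obtain ⟨y, hy⟩ := exists_smul_eq_of_kills_cone K f (-1) a ha' x
        have h1 : x = a • x - (a - 1) • x := by
          rw [sub_smul, one_smul]
          abel
        rw [h1, ← hy]
        exact Submodule.sub_mem _ (Submodule.smul_mem_smul hfJ Submodule.mem_top)
          (Submodule.smul_mem_smul haJ Submodule.mem_top)
      obtain ⟨r, hr, hr0⟩ := Submodule.exists_sub_one_mem_and_smul_eq_zero_of_fg_of_le_smul J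
        (⊤ : Submodule S (K.homology (-1) : ModuleCat.{u} S)) Module.Finite.fg_top hle
      exact ⟨r, hr, fun z => hr0 z Submodule.mem_top⟩
    · intro s hs
      have h0 : f • (toH0 (ModuleCat.of S S) fs).hom s = 0 := by
        refine (LinearMap.map_smul (toH0 (ModuleCat.of S S) fs).hom f s).symm.trans ?_
        refine (toH0_eq_zero_iff (ModuleCat.of S S) fs (f • s)).mpr ?_
        rw [ofList_smul_top]
        exact hs
      have h1 := smul_eq_zero_of_kills_cone K f (-1) 0 (by norm_num) a ha' _ h0
      have h2 : (toH0 (ModuleCat.of S S) fs).hom (a • s) = 0 :=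
        (LinearMap.map_smul (toH0 (ModuleCat.of S S) fs).hom a s).trans h1
      have h3 := (toH0_eq_zero_iff (ModuleCat.of S S) fs (a • s)).mp h2
      rw [ofList_smul_top] at h3
      exact h3

theorem exists_regSeq_of_locReg (J : Ideal S) :
    ∀ (l : List S), LocReg J l → ∃ h : S, h - 1 ∈ J ∧
      ∀ (S' : Type u) [CommRing S'] [Algebra S S'] (M : Submonoid S) [IsLocalization M S'],
        IsUnit (algebraMap S S' h) → RegSeq (l.map (algebraMap S S'))
  | [], _ => ⟨1, by simp, fun _ _ _ _ _ _ => trivial⟩
  | f :: fs, ⟨hfs, a, haJ, ha⟩ => by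
    obtain ⟨h₁, hh₁, H₁⟩ := exists_regSeq_of_locReg J fs hfs
    refine ⟨h₁ * a, ?_, ?_⟩
    · have : h₁ * a - 1 = (h₁ - 1) * a + (a - 1) := by ring
      rw [this]
      exact J.add_mem (J.mul_mem_right _ hh₁) haJ
    · intro S' _ _ M _ hu
      rw [map_mul, IsUnit.mul_iff] at hu
      refine ⟨H₁ S' M hu.1, ?_⟩
      intro y hy
      rw [← Ideal.map_ofList] at hy ⊢
      obtain ⟨⟨s, m⟩, hsm⟩ := IsLocalization.surj M y
      obtain ⟨⟨i₁, m₁⟩, him⟩ := (IsLocalization.mem_map_algebraMap_iff M S').mp hy
      dsimp only at hsm him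
      have h1 : algebraMap S S' (f * s * m₁) = algebraMap S S' (i₁ * m) := by
        rw [map_mul, map_mul, map_mul, ← hsm, ← him]
        ring
      obtain ⟨c, hc⟩ := (IsLocalization.eq_iff_exists M S').mp h1
      have h2 : f * (c * s * m₁) ∈ Ideal.ofList fs := by
        have : f * (c * s * m₁) = c * i₁ * m := by
          have := hc
          linear_combination this
        rw [this]
        exact Ideal.mul_mem_right _ _ (Ideal.mul_mem_left _ _ i₁.2)
      have h3 := ha _ h2
      have h4 : algebraMap S S' (a * (c * s * m₁)) ∈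
          Ideal.map (algebraMap S S') (Ideal.ofList fs) := Ideal.mem_map_of_mem _ h3
      have hu' : IsUnit (algebraMap S S' a * algebraMap S S' c * algebraMap S S' m₁ *
          algebraMap S S' m) :=
        ((hu.2.mul (IsLocalization.map_units S' c)).mul (IsLocalization.map_units S' m₁)).mul
          (IsLocalization.map_units S' m)
      rw [← Ideal.unit_mul_mem_iff_mem _ hu']
      have h5 : algebraMap S S' a * algebraMap S S' c * algebraMap S S' m₁ * algebraMap S S' m * y =
          algebraMap S S' (a * (c * s * m₁)) := by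
        rw [map_mul, map_mul, map_mul, ← hsm]
        ring
      rw [h5]
      exact h4

/-- **Koszul-regular sequences in Noetherian rings are regular after inverting an element
congruent to `1`.** -/
theorem exists_regSeq_of_isKoszulRegularSeq [IsNoetherianRing S] (l : List S)
    (hl : LCI.IsKoszulRegularSeq S l) :
    ∃ h : S, h - 1 ∈ Ideal.ofList l ∧
      ∀ (S' : Type u) [CommRing S'] [Algebra S S'] (M : Submonoid S) [IsLocalization M S'],
        IsUnit (algebraMap S S' h) → RegSeq (l.map (algebraMap S S')) := by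
  apply exists_regSeq_of_locReg
  apply locReg_of_kills
  · intro x hx
    exact Ideal.subset_span hx
  · refine ⟨1, by simp, fun z => ?_⟩
    have hz := (isKoszulRegularSeq_iff S l).mp hl (-1) (by norm_num)
    haveI := ModuleCat.subsingleton_of_isZero hz
    exact Subsingleton.elim _ _

end koszul

end Kos

end Groth.Agent.Lib.Helper18.DR
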