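import Mathlib
import Groth.Agent.Lib.Helper18.KosA
import Groth.Agent.Lib.Helper18.CiD
import Groth.Agent.Lib.Helper18.ShrB

/-!
# `RHom_S(S/(l), S) ≅ (S/(l))[-c]` for a regular sequence `l` of length `c` (helper18)
-/

set_option autoImplicit false
set_option linter.style.haveILetI false
universe u
open CategoryTheory CategoryTheory.Limits CategoryTheory.Pretriangulated DerivedCategory
open TensorProduct

attribute [local instance] HasDerivedCategory.standard

namespace Groth.Agent.Lib.Helper18.DR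

namespace Ci

section module

variable {Q Qb : Type u} [CommRing Q] [CommRing Qb] [Algebra Q Qb]
  (F : Q) (hker : RingHom.ker (algebraMap Q Qb) = Ideal.span {F})
  (hs : Function.Surjective (algebraMap Q Qb)) (hF : F ∈ nonZeroDivisors Q)

include hker hs hF in
/-- `R_π(Q) ≅ (Q/F)[-1]` -/
theorem nonempty_rightAdj_inD_iso (Rs : Dual.D Q ⥤ Dual.D Qb)
    (adj : DRing.restrictD (algebraMap Q Qb) ⊣ Rs) :
    Nonempty (Rs.obj (Dual.inD Q Q) ≅ (Dual.inD Qb Qb)⟦(-1 : ℤ)⟧) := by
  let N' : DRing.Cx Q :=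
    (HomologicalComplex.single (ModuleCat.{u} Q) (ComplexShape.up ℤ) 0).obj (ModuleCat.of Q Q)
  let N'' : DRing.Cx Qb := (DTen.extCx (algebraMap Q Qb)).obj N'
  let p : N' ⟶ (DTen.resCx (algebraMap Q Qb)).obj N'' := (DTen.unitCx (algebraMap Q Qb)).app N'
  have htf : ∀ (i : ℤ) (x : N'.X i), F • x = 0 → x = 0 := by
    intro i x hx
    by_cases hi : i = 0
    · subst hi
      let e := (HomologicalComplex.singleObjXSelf (ComplexShape.up ℤ) (0 : ℤ)
        (ModuleCat.of Q Q)).toLinearEquiv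
      apply e.injective
      rw [map_zero]
      have h1 : F • e x = 0 := by rw [← map_smul, hx, map_zero]
      have h2 : F * (e x : Q) = 0 := h1
      exact (mul_left_mem_nonZeroDivisors_eq_zero_iff hF).1 h2
    · haveI : Subsingleton (N'.X i) :=
        ModuleCat.subsingleton_of_isZero
          (HomologicalComplex.isZero_single_obj_X (ComplexShape.up ℤ) (0 : ℤ) _ i hi)
      exact Subsingleton.elim _ _
  obtain ⟨g⟩ := nonempty_rightAdj_iso_shift (algebraMap Q Qb) F hker hs hF N' N'' p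
    (fun i => exact_smul_unit F hker hs (N'.X i)) (fun i => unit_surjective hs (N'.X i))
    htf Rs adj
  let c : N'' ≅ (HomologicalComplex.single (ModuleCat.{u} Qb) (ComplexShape.up ℤ) 0).obj
      ((ModuleCat.extendScalars.{u, u, u} (algebraMap Q Qb)).obj (ModuleCat.of Q Q)) :=
    (HomologicalComplex.singleMapHomologicalComplex
      (ModuleCat.extendScalars.{u, u, u} (algebraMap Q Qb)) (ComplexShape.up ℤ) 0).app
      (ModuleCat.of Q Q)
  let d : (ModuleCat.extendScalars.{u, u, u} (algebraMap Q Qb)).obj (ModuleCat.of Q Q) ≅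
      ModuleCat.of Qb Qb :=
    ((extMEquiv (A := Q) (B := Qb) (ModuleCat.of Q Q)) ≪≫ₗ
      TensorProduct.AlgebraTensorModule.rid Q Qb Qb).toModuleIso
  exact ⟨g ≪≫ (shiftFunctor (Dual.D Qb) (-1 : ℤ)).mapIso (DerivedCategory.Q.mapIso c ≪≫
    (DerivedCategory.singleFunctor (ModuleCat.{u} Qb) 0).mapIso d)⟩

end module

end Ci

namespace Kos

variable {S : Type u} [CommRing S]

/-- the right adjoint of restriction along a ring isomorphism sends `S` to `T` -/
theorem nonempty_rightAdj_inD_iso_of_bijective {T : Type u} [CommRing T] (π : S →+* T)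
    (hπ : Function.Bijective π) (Rπ : Dual.D S ⥤ Dual.D T) (adj : DRing.restrictD π ⊣ Rπ) :
    Nonempty (Rπ.obj (Dual.inD S S) ≅ Dual.inD T T) := by
  let σ : S ≃+* T := RingEquiv.ofBijective π hπ
  have hσ : π = σ.toRingHom := rfl
  let u : Rπ ≅ DRing.restrictD σ.symm.toRingHom :=
    adj.rightAdjointUniq (Shr.resEquivAdj σ)
  let eL : ((ModuleCat.restrictScalars.{u} σ.symm.toRingHom).obj (ModuleCat.of S S)) ≃ₗ[T] T :=
    { toFun := fun x => σ (show S from x)
      invFun := fun y => σ.symm y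
      left_inv := fun x => σ.symm_apply_apply (show S from x)
      right_inv := fun y => σ.apply_symm_apply y
      map_add' := fun x y => map_add σ (show S from x) (show S from y)
      map_smul' := fun t x => by
        change σ (σ.symm t * (show S from x)) = t * σ (show S from x)
        rw [map_mul, σ.apply_symm_apply] }
  let e : (ModuleCat.restrictScalars.{u} σ.symm.toRingHom).obj (ModuleCat.of S S) ≅
      ModuleCat.of T T := eL.toModuleIso
  exact ⟨u.app _ ≪≫
    ((ModuleCat.restrictScalars.{u} σ.symm.toRingHom).mapDerivedCategorySingleFunctor 0).app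
      (ModuleCat.of S S) ≪≫
    (DerivedCategory.singleFunctor (ModuleCat.{u} T) 0).mapIso e⟩

/-- **`RHom_S(S/(l), S) ≅ (S/(l))[-c]` for a regular sequence `l`.** -/
theorem nonempty_rightAdj_inD_iso_of_regSeq :
    ∀ (l : List S), RegSeq l → ∀ {T : Type u} [CommRing T] (π : S →+* T),
      Function.Surjective π → RingHom.ker π = Ideal.ofList l →
      ∀ (Rπ : Dual.D S ⥤ Dual.D T) (_ : DRing.restrictD π ⊣ Rπ),
      Nonempty (Rπ.obj (Dual.inD S S) ≅ (Dual.inD T T)⟦-(l.length : ℤ)⟧)
  | [], _, T, _, π, hπ, hker, Rπ, adj => by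
    have hinj : Function.Injective π := by
      rw [RingHom.injective_iff_ker_eq_bot, hker, Ideal.ofList_nil]
    obtain ⟨e⟩ := nonempty_rightAdj_inD_iso_of_bijective π ⟨hinj, hπ⟩ Rπ adj
    exact ⟨e ≪≫ ((shiftFunctorZero' (Dual.D T) (-(([] : List S).length : ℤ))
      (by simp)).app _).symm⟩
  | f :: fs, ⟨hfs, hcolon⟩, T, _, π, hπ, hker, Rπ, adj => by
    let I : Ideal S := Ideal.ofList fs
    let π₁ : S →+* S ⧸ I := Ideal.Quotient.mk I
    have hI : ∀ a ∈ I, π a = 0 := by
      intro a ha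
      rw [← RingHom.mem_ker, hker, Ideal.ofList_cons]
      exact Ideal.mem_sup_right ha
    let π₂ : S ⧸ I →+* T := Ideal.Quotient.lift I π hI
    have hπ₂π₁ : π = π₂.comp π₁ := by
      ext x
      exact (Ideal.Quotient.lift_mk I π hI).symm
    have hπ₂ : Function.Surjective π₂ := Ideal.Quotient.lift_surjective_of_surjective I hI hπ
    have hker₂ : RingHom.ker π₂ = Ideal.span {π₁ f} := by
      rw [Ideal.ker_quotient_lift, hker, Ideal.ofList_cons, Ideal.map_sup, Ideal.map_span,
        Set.image_singleton, Ideal.map_quotient_self, sup_bot_eq]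
    have hnzd : π₁ f ∈ nonZeroDivisors (S ⧸ I) := by
      rw [mem_nonZeroDivisors_iff_right]
      intro x hx
      obtain ⟨s, rfl⟩ := Ideal.Quotient.mk_surjective x
      rw [← map_mul, Ideal.Quotient.eq_zero_iff_mem, mul_comm] at hx
      exact Ideal.Quotient.eq_zero_iff_mem.mpr (hcolon s hx)
    obtain ⟨e₁⟩ := nonempty_rightAdj_inD_iso_of_regSeq fs hfs π₁ Ideal.Quotient.mk_surjective
      Ideal.mk_ker (Shr.coextD π₁) (Shr.coextAdj π₁)
    letI : Algebra (S ⧸ I) T := π₂.toAlgebra
    obtain ⟨e₂⟩ := Ci.nonempty_rightAdj_inD_iso (π₁ f) hker₂ hπ₂ hnzd (Shr.coextD π₂)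
      (Shr.coextAdj π₂)
    let adj' : DRing.restrictD π ⊣ Shr.coextD π₁ ⋙ Shr.coextD π₂ :=
      ((Shr.coextAdj π₂).comp (Shr.coextAdj π₁)).ofNatIsoLeft
        (Shr.resCompIso π₁ π₂ π hπ₂π₁).symm
    let u := adj.rightAdjointUniq adj'
    exact ⟨u.app _ ≪≫ (Shr.coextD π₂).mapIso e₁ ≪≫
      Shr.rightAdjShiftIso π₂ (Shr.coextD π₂) (Shr.coextAdj π₂) _ _ ≪≫
      (shiftFunctor (Dual.D T) (-(fs.length : ℤ))).mapIso e₂ ≪≫
      ((shiftFunctorAdd' (Dual.D T) (-1 : ℤ) (-(fs.length : ℤ)) (-((f :: fs).length : ℤ))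
        (by rw [List.length_cons]; push_cast; ring)).app _).symm⟩

end Kos

end Groth.Agent.Lib.Helper18.DR
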