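import Mathlib
import Groth.Agent.Lib.Helper18.KosB
import Groth.Agent.Lib.Helper18.FbcC

/-!
# The relative dualizing complex of a local complete intersection map is invertible (helper18)
-/

set_option autoImplicit false
set_option linter.style.haveILetI false
universe u
open CategoryTheory CategoryTheory.Limits CategoryTheory.Pretriangulated DerivedCategory
open TensorProduct

attribute [local instance] HasDerivedCategory.standard

namespace Groth.Agent.Lib.Helper18.DR

namespace Kos

section C1

variable {P A P' A' : Type u} [CommRing P] [CommRing A] [CommRing P'] [CommRing A']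
  [Algebra P A] [Algebra P' A'] [Algebra P P'] [Algebra A A'] [Algebra P A']
  [IsScalarTower P A A'] [IsScalarTower P P' A'] [Algebra.IsPushout P P' A A']

/-- flat base change to a chart on which the kernel is generated by a regular sequence -/
theorem nonempty_extD_rightAdj_inD_iso [Module.Flat P P'] [Module.Flat A A'] [IsNoetherianRing P]
    [Module.Finite P A] (hψ' : Function.Surjective (algebraMap P' A'))
    (l' : List P') (hreg : RegSeq l') (hker : RingHom.ker (algebraMap P' A') = Ideal.ofList l')
    (Rψ : Dual.D P ⥤ Dual.D A) (adj : DRing.restrictD (algebraMap P A) ⊣ Rψ) :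
    Nonempty ((extD A A').obj (Rψ.obj (Dual.inD P P)) ≅
      (Dual.inD A' A')⟦-(l'.length : ℤ)⟧) := by
  obtain ⟨e₁⟩ := Fbc.nonempty_fbc_iso_of_isPushout hψ' Rψ adj (Shr.coextD (algebraMap P' A'))
    (Shr.coextAdj (algebraMap P' A')) (Dual.inD P P) 0
  obtain ⟨e₂⟩ := nonempty_rightAdj_inD_iso_of_regSeq l' hreg (algebraMap P' A') hψ' hker
    (Shr.coextD (algebraMap P' A')) (Shr.coextAdj (algebraMap P' A'))
  let e₃ : (extD P P').obj (Dual.inD P P) ≅ Dual.inD P' P' :=
    extDInDIso (A := P) (B := P') P ≪≫
      (singleFunctor (ModuleCat.{u} P') 0).mapIso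
        (TensorProduct.AlgebraTensorModule.rid P P' P').toModuleIso
  exact ⟨e₁ ≪≫ (Shr.coextD (algebraMap P' A')).mapIso e₃ ≪≫ e₂⟩

end C1

section main

variable (R A : Type u) [CommRing R] [CommRing A] [IsNoetherianRing R] [Algebra R A]

set_option maxHeartbeats 1600000 in
/-- **The relative dualizing complex of a local complete intersection map is invertible.** -/
theorem exists_shriekVia_self_invertible (hl : LCI.IsLCI R A) (n : ℕ)
    (ψ : MvPolynomial (Fin n) R →ₐ[R] A) (hψ : Function.Surjective ψ)
    [DRing.HasLBaseChange (algebraMap R (MvPolynomial (Fin n) R))]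
    (Rψ : Dual.D (MvPolynomial (Fin n) R) ⥤ Dual.D A) (adj : DRing.restrictD ψ.toRingHom ⊣ Rψ)
    [hL : ∀ f : A, DRing.HasLBaseChange (algebraMap A (Localization.Away f))]
    (q : PrimeSpectrum A) :
    ∃ (f : A) (_ : f ∉ q.asIdeal) (m : ℤ),
      Nonempty ((DRing.LBaseChange (algebraMap A (Localization.Away f))).obj
        (Dual2.shriekVia n Rψ (Dual.inD R R)) ≅
        (Dual.inD (Localization.Away f) (Localization.Away f))⟦m⟧) := by
  obtain ⟨_, k, φ, hφ, hK⟩ := hl
  -- independence of the presentation
  have h1 := Shr.shriekVia_of_presentation n ψ Rψ adj (Dual.inD R R)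
  have h2 : Shr.ShriekVia R A (Fin k) (fun i => φ (MvPolynomial.X i)) (k : ℤ) (Dual.inD R R)
      (((Shr.coextD φ.toRingHom).obj
        ((extD R (MvPolynomial (Fin k) R)).obj (Dual.inD R R)))⟦(k : ℤ)⟧) := by
    have hφe : φ = MvPolynomial.aeval (fun i => φ (MvPolynomial.X i)) :=
      MvPolynomial.aeval_unique φ
    have h0 : Shr.IsShriek (algebraMap R (MvPolynomial (Fin k) R)) φ.toRingHom (k : ℤ)
        (Dual.inD R R) (((Shr.coextD φ.toRingHom).obj
          ((extD R (MvPolynomial (Fin k) R)).obj (Dual.inD R R)))⟦(k : ℤ)⟧) :=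
      ⟨extD R (MvPolynomial (Fin k) R), Shr.extAdj R (MvPolynomial (Fin k) R),
        Shr.coextD φ.toRingHom, Shr.coextAdj φ.toRingHom, ⟨Iso.refl _⟩⟩
    exact Shr.IsShriek.congr h0 rfl (by rw [← hφe]) rfl
  have hs1 : Function.Surjective
      (MvPolynomial.aeval (fun i => ψ (MvPolynomial.X i)) : MvPolynomial (Fin n) R →ₐ[R] A) := by
    have e : (MvPolynomial.aeval (fun i => ψ (MvPolynomial.X i)) :
        MvPolynomial (Fin n) R →ₐ[R] A) = ψ := (MvPolynomial.aeval_unique ψ).symm
    rw [e]
    exact hψ
  have hs2 : Function.Surjective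
      (MvPolynomial.aeval (fun i => φ (MvPolynomial.X i)) : MvPolynomial (Fin k) R →ₐ[R] A) := by
    have e : (MvPolynomial.aeval (fun i => φ (MvPolynomial.X i)) :
        MvPolynomial (Fin k) R →ₐ[R] A) = φ := (MvPolynomial.aeval_unique φ).symm
    rw [e]
    exact hφ
  obtain ⟨e₀⟩ := Shr.ShriekVia.indep h1 h2 hs1 hs2 (by
    rw [Nat.card_eq_fintype_card, Nat.card_eq_fintype_card, Fintype.card_fin, Fintype.card_fin]
    exact add_comm _ _)
  -- the chart
  let p : PrimeSpectrum (MvPolynomial (Fin k) R) :=
    ⟨q.asIdeal.comap φ.toRingHom, Ideal.comap_isPrime _ _⟩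
  have hIp : RingHom.ker φ.toRingHom ≤ p.asIdeal := by
    intro y hy
    change φ.toRingHom y ∈ q.asIdeal
    rw [RingHom.mem_ker.mp hy]
    exact q.asIdeal.zero_mem
  obtain ⟨g, hg, l, hlreg, hspan⟩ := hK p hIp
  obtain ⟨h, hh1, hreg⟩ := exists_regSeq_of_isKoszulRegularSeq l hlreg
  obtain ⟨m, h₀, hm⟩ := IsLocalization.Away.surj g h
  -- `h₀ ∉ p`
  have hh₀ : h₀ ∉ p.asIdeal := by
    intro hmem
    have hdisj : Disjoint (Submonoid.powers g : Set (MvPolynomial (Fin k) R))
        (p.asIdeal : Set (MvPolynomial (Fin k) R)) := by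
      rw [Set.disjoint_left]
      rintro y ⟨j, rfl⟩ hy
      exact hg (p.isPrime.mem_of_pow_mem j hy)
    have hprime := IsLocalization.isPrime_of_isPrime_disjoint (Submonoid.powers g)
      (Localization.Away g) p.asIdeal p.isPrime hdisj
    have hcomap := IsLocalization.under_map_of_isPrime_disjoint (Submonoid.powers g)
      (Localization.Away g) p.isPrime hdisj
    have h3 : h * algebraMap (MvPolynomial (Fin k) R) (Localization.Away g) g ^ m ∈
        Ideal.map (algebraMap (MvPolynomial (Fin k) R) (Localization.Away g)) p.asIdeal := by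
      rw [hm]
      exact Ideal.mem_map_of_mem _ hmem
    have h4 : algebraMap (MvPolynomial (Fin k) R) (Localization.Away g) g ^ m ∉
        Ideal.map (algebraMap (MvPolynomial (Fin k) R) (Localization.Away g)) p.asIdeal := by
      intro h5
      have h6 := hprime.mem_of_pow_mem m h5
      have h7 : g ∈ Ideal.under (MvPolynomial (Fin k) R)
          (Ideal.map (algebraMap (MvPolynomial (Fin k) R) (Localization.Away g)) p.asIdeal) := h6
      rw [hcomap] at h7
      exact hg h7
    have h8 : h ∈ Ideal.map (algebraMap (MvPolynomial (Fin k) R) (Localization.Away g))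
        p.asIdeal := (hprime.mem_or_mem h3).resolve_right h4
    have h9 : h - 1 ∈ Ideal.map (algebraMap (MvPolynomial (Fin k) R) (Localization.Away g))
        p.asIdeal := by
      have : Ideal.ofList l ≤ Ideal.map (algebraMap (MvPolynomial (Fin k) R)
          (Localization.Away g)) p.asIdeal := by
        change Ideal.span {x | x ∈ l} ≤ _
        rw [← hspan]
        exact Ideal.map_mono hIp
      exact this hh1
    have h10 : (1 : Localization.Away g) ∈
        Ideal.map (algebraMap (MvPolynomial (Fin k) R) (Localization.Away g)) p.asIdeal := by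
      have := Ideal.sub_mem _ h8 h9
      simpa using this
    exact hprime.ne_top ((Ideal.eq_top_iff_one _).mpr h10)
  have hf₀ : φ (g * h₀) ∉ q.asIdeal := by
    rw [map_mul]
    intro hmem
    rcases q.isPrime.mem_or_mem hmem with h' | h'
    · exact hg h'
    · exact hh₀ h'
  refine ⟨φ (g * h₀), hf₀, -(l.length : ℤ) + (k : ℤ), ?_⟩
  -- algebra structures
  letI algPA : Algebra (MvPolynomial (Fin k) R) A := φ.toRingHom.toAlgebra
  haveI : IsLocalization (Submonoid.map φ.toRingHom (Submonoid.powers (g * h₀)))
      (Localization.Away (φ (g * h₀))) :=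
    inferInstanceAs (IsLocalization (Submonoid.map φ.toRingHom (Submonoid.powers (g * h₀)))
      (Localization.Away (φ.toRingHom (g * h₀))))
  let χ : Localization.Away (algebraMap (MvPolynomial (Fin k) R) (Localization.Away g) h₀) →+*
      Localization.Away (φ (g * h₀)) :=
    IsLocalization.map (M := Submonoid.powers (g * h₀))
      (T := Submonoid.map φ.toRingHom (Submonoid.powers (g * h₀)))
      (Localization.Away (φ (g * h₀))) φ.toRingHom
      (Submonoid.le_comap_map (Submonoid.powers (g * h₀)))
  letI algS'A' : Algebra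
      (Localization.Away (algebraMap (MvPolynomial (Fin k) R) (Localization.Away g) h₀))
      (Localization.Away (φ (g * h₀))) := χ.toAlgebra
  haveI : IsScalarTower (MvPolynomial (Fin k) R)
      (Localization.Away (algebraMap (MvPolynomial (Fin k) R) (Localization.Away g) h₀))
      (Localization.Away (φ (g * h₀))) :=
    by
      refine IsScalarTower.of_algebraMap_eq' (R := MvPolynomial (Fin k) R)
        (S := Localization.Away (algebraMap (MvPolynomial (Fin k) R) (Localization.Away g) h₀))
        (A := Localization.Away (φ (g * h₀))) ?_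
      rw [IsScalarTower.algebraMap_eq (MvPolynomial (Fin k) R) A (Localization.Away (φ (g * h₀)))]
      exact (IsLocalization.map_comp (M := Submonoid.powers (g * h₀))
        (T := Submonoid.map φ.toRingHom (Submonoid.powers (g * h₀)))
        (S := Localization.Away (algebraMap (MvPolynomial (Fin k) R) (Localization.Away g) h₀))
        (Q := Localization.Away (φ (g * h₀)))
        (Submonoid.le_comap_map (Submonoid.powers (g * h₀)))).symm
  haveI : IsLocalization (Algebra.algebraMapSubmonoid A (Submonoid.powers (g * h₀)))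
      (Localization.Away (φ (g * h₀))) :=
    inferInstanceAs (IsLocalization (Submonoid.map φ.toRingHom (Submonoid.powers (g * h₀)))
      (Localization.Away (φ (g * h₀))))
  haveI : Algebra.IsPushout (MvPolynomial (Fin k) R)
      (Localization.Away (algebraMap (MvPolynomial (Fin k) R) (Localization.Away g) h₀)) A
      (Localization.Away (φ (g * h₀))) :=
    (Algebra.isPushout_of_isLocalization (R := MvPolynomial (Fin k) R)
      (A := Localization.Away (algebraMap (MvPolynomial (Fin k) R) (Localization.Away g) h₀))
      (Submonoid.powers (g * h₀)) A (Localization.Away (φ (g * h₀)))).symm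
  haveI : Module.Finite (MvPolynomial (Fin k) R) A :=
    Module.Finite.of_surjective (Algebra.linearMap (MvPolynomial (Fin k) R) A) hφ
  have hχ : Function.Surjective χ :=
    IsLocalization.map_surjective_of_surjective (Submonoid.powers (g * h₀))
      (Localization.Away (algebraMap (MvPolynomial (Fin k) R) (Localization.Away g) h₀))
      (Localization.Away (φ (g * h₀))) hφ
  have hkerχ : RingHom.ker χ = Ideal.ofList (l.map (algebraMap (Localization.Away g)
      (Localization.Away (algebraMap (MvPolynomial (Fin k) R) (Localization.Away g) h₀)))) := by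
    rw [← Ideal.map_ofList]
    change _ = Ideal.map _ (Ideal.span {x | x ∈ l})
    rw [← hspan, Ideal.map_map, ← IsScalarTower.algebraMap_eq]
    exact IsLocalization.ker_map (Localization.Away (φ (g * h₀))) φ.toRingHom rfl
  have hu : IsUnit (algebraMap (Localization.Away g)
      (Localization.Away (algebraMap (MvPolynomial (Fin k) R) (Localization.Away g) h₀)) h) := by
    have h3 := congrArg (algebraMap (Localization.Away g)
      (Localization.Away (algebraMap (MvPolynomial (Fin k) R) (Localization.Away g) h₀))) hm
    rw [map_mul] at h3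
    have h4 : IsUnit (algebraMap (Localization.Away g)
        (Localization.Away (algebraMap (MvPolynomial (Fin k) R) (Localization.Away g) h₀))
        (algebraMap (MvPolynomial (Fin k) R) (Localization.Away g) h₀)) :=
      IsLocalization.Away.algebraMap_isUnit _
    rw [← h3] at h4
    exact isUnit_of_mul_isUnit_left h4
  have hreg' := hreg
    (Localization.Away (algebraMap (MvPolynomial (Fin k) R) (Localization.Away g) h₀))
    (Submonoid.powers (algebraMap (MvPolynomial (Fin k) R) (Localization.Away g) h₀)) hu
  obtain ⟨e₁⟩ := nonempty_extD_rightAdj_inD_iso (P := MvPolynomial (Fin k) R) (A := A)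
    (P' := Localization.Away (algebraMap (MvPolynomial (Fin k) R) (Localization.Away g) h₀))
    (A' := Localization.Away (φ (g * h₀))) hχ _ hreg' hkerχ
    (Shr.coextD φ.toRingHom) (Shr.coextAdj φ.toRingHom)
  -- assemble
  let eL : DRing.LBaseChange (algebraMap A (Localization.Away (φ (g * h₀)))) ≅
      extD A (Localization.Away (φ (g * h₀))) :=
    (LBCAdj.adjD (algebraMap A (Localization.Away (φ (g * h₀))))).leftAdjointUniq
      (Shr.extAdj A (Localization.Away (φ (g * h₀))))
  let eP : (extD R (MvPolynomial (Fin k) R)).obj (Dual.inD R R) ≅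
      Dual.inD (MvPolynomial (Fin k) R) (MvPolynomial (Fin k) R) :=
    extDInDIso (A := R) (B := MvPolynomial (Fin k) R) R ≪≫
      (singleFunctor (ModuleCat.{u} (MvPolynomial (Fin k) R)) 0).mapIso
        (TensorProduct.AlgebraTensorModule.rid R (MvPolynomial (Fin k) R)
          (MvPolynomial (Fin k) R)).toModuleIso
  exact ⟨eL.app _ ≪≫ (extD A (Localization.Away (φ (g * h₀)))).mapIso e₀ ≪≫
    Shr.leftAdjShiftIso (algebraMap A (Localization.Away (φ (g * h₀))))
      (extD A (Localization.Away (φ (g * h₀))))
      (Shr.extAdj A (Localization.Away (φ (g * h₀)))) _ (k : ℤ) ≪≫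
    (shiftFunctor (Dual.D (Localization.Away (φ (g * h₀)))) (k : ℤ)).mapIso
      ((extD A (Localization.Away (φ (g * h₀)))).mapIso
        ((Shr.coextD φ.toRingHom).mapIso eP) ≪≫ e₁) ≪≫
    ((shiftFunctorAdd' (Dual.D (Localization.Away (φ (g * h₀))))
      (-((l.map (algebraMap (Localization.Away g) (Localization.Away
        (algebraMap (MvPolynomial (Fin k) R) (Localization.Away g) h₀)))).length : ℤ)) (k : ℤ)
      (-(l.length : ℤ) + (k : ℤ)) (by rw [List.length_map])).app _).symm⟩

end main

end Kos

end Groth.Agent.Lib.Helper18.DR
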