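import Mathlib
import Groth.Agent.Lib.Helper21.RGt
import Groth.Agent.Lib.Helper18.DRDC12

/-!
# The lowest cohomology of a Koszul complex with coefficients in a complex (helper18)

If `H^q(X) = 0` for `q < q₀` and `H^{q₀ - |l|}(K(l; X)) = 0`, then no nonzero element of `H^{q₀}(X)`
is killed by all the elements of `l`.
-/

set_option autoImplicit false
set_option linter.style.haveILetI false
universe u
open CategoryTheory CategoryTheory.Limits CategoryTheory.Pretriangulated CochainComplex

attribute [local instance] HasDerivedCategory.standard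

namespace Groth.Agent.Lib.Helper18.DR

namespace Kr

open Groth.Agent.Lib.Helper14.KoszulFun Groth.Agent.Lib.Helper21.RGt

variable {A : Type u} [CommRing A]

/-- the distinguished triangle `Y ⟶ Y ⟶ T f Y ⟶ Y[1]` -/
noncomputable abbrev tri (f : A) (Y : DRing.Cx A) : Triangle (Dual.D A) :=
  DerivedCategory.Q.mapTriangle.obj (mappingCone.triangle (f • 𝟙 Y))

lemma tri_distinguished (f : A) (Y : DRing.Cx A) : tri f Y ∈ distTriang (Dual.D A) :=
  DerivedCategory.mappingCone_triangle_distinguished _

lemma isZero_H_T (f : A) (Y : DRing.Cx A) (q : ℤ)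
    (h0 : IsZero ((H A q).obj (DerivedCategory.Q.obj Y)))
    (h1 : IsZero ((H A (q + 1)).obj (DerivedCategory.Q.obj Y))) :
    IsZero ((H A q).obj (DerivedCategory.Q.obj (T f Y))) :=
  (DerivedCategory.HomologySequence.exact₃ (tri f Y) (tri_distinguished f Y) q (q + 1)
    rfl).isZero_of_both_isZero h0 h1

/-- the connecting map `H^q(T f Y) ⟶ H^{q+1}(Y)` -/
noncomputable abbrev del (f : A) (Y : DRing.Cx A) (q q' : ℤ) (h : q + 1 = q') :
    (H A q).obj (DerivedCategory.Q.obj (T f Y)) ⟶ (H A q').obj (DerivedCategory.Q.obj Y) :=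
  DerivedCategory.HomologySequence.δ (tri f Y) q q' h

lemma exists_del_eq (f : A) (Y : DRing.Cx A) (q q' : ℤ) (h : q + 1 = q')
    (x : (H A q').obj (DerivedCategory.Q.obj Y)) (hx : f • x = 0) :
    ∃ y : (H A q).obj (DerivedCategory.Q.obj (T f Y)), (del f Y q q' h).hom y = x := by
  have hex := DerivedCategory.HomologySequence.exact₁ (tri f Y) (tri_distinguished f Y) q q' h
  rw [ShortComplex.moduleCat_exact_iff] at hex
  apply hex x
  change ((H A q').map (DerivedCategory.Q.map (f • 𝟙 Y))).hom x = 0
  rw [H_map_Q_smul_id_apply]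
  exact hx

lemma del_injective (f : A) (Y : DRing.Cx A) (q q' : ℤ) (h : q + 1 = q')
    (h0 : IsZero ((H A q).obj (DerivedCategory.Q.obj Y))) :
    Function.Injective (del f Y q q' h).hom := by
  have hex := DerivedCategory.HomologySequence.exact₃ (tri f Y) (tri_distinguished f Y) q q' h
  rw [ShortComplex.moduleCat_exact_iff] at hex
  rw [injective_iff_map_eq_zero]
  intro y hy
  obtain ⟨z, hz⟩ := hex y hy
  haveI : Subsingleton ((H A q).obj (DerivedCategory.Q.obj Y)) :=
    ModuleCat.subsingleton_of_isZero h0
  have hz0 : z = 0 := Subsingleton.elim (α := ((H A q).obj (DerivedCategory.Q.obj Y))) z 0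
  rw [← hz, hz0]
  exact map_zero _

lemma kosC_append_singleton (f : A) (X : DRing.Cx A) :
    ∀ l : List A, KosC (l ++ [f]) X = KosC l (T f X)
  | [] => rfl
  | g :: l => by
    change T g (KosC (l ++ [f]) X) = T g (KosC l (T f X))
    rw [kosC_append_singleton f X l]

/-- **socle detection** -/
theorem socle_detect (l : List A) :
    ∀ (X : DRing.Cx A) (q₀ : ℤ),
      (∀ q < q₀, IsZero ((H A q).obj (DerivedCategory.Q.obj X))) →
      IsZero ((H A (q₀ - l.length)).obj (DerivedCategory.Q.obj (KosC l X))) →
      ∀ x : (H A q₀).obj (DerivedCategory.Q.obj X), (∀ f ∈ l, f • x = 0) → x = 0 := by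
  induction l using List.reverseRecOn with
  | nil =>
    intro X q₀ _ hz x _
    simp only [List.length_nil, Nat.cast_zero, sub_zero] at hz
    haveI : Subsingleton ((H A q₀).obj (DerivedCategory.Q.obj X)) :=
      ModuleCat.subsingleton_of_isZero hz
    exact Subsingleton.elim _ _
  | append_singleton l f ih =>
    intro X q₀ hlow hz x hx
    rw [kosC_append_singleton] at hz
    have hlen : (q₀ - ((l ++ [f]).length : ℤ)) = (q₀ - 1) - (l.length : ℤ) := by
      simp only [List.length_append, List.length_cons, List.length_nil, zero_add, Nat.cast_add,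
        Nat.cast_one]
      ring
    rw [hlen] at hz
    have hlow' : ∀ q < q₀ - 1, IsZero ((H A q).obj (DerivedCategory.Q.obj (T f X))) := by
      intro q hq
      exact isZero_H_T f X q (hlow q (by omega)) (hlow (q + 1) (by omega))
    have key := ih (T f X) (q₀ - 1) hlow' hz
    obtain ⟨y, hy⟩ := exists_del_eq f X (q₀ - 1) q₀ (by omega) x
      (hx f (List.mem_append_right _ (List.mem_singleton_self f)))
    have hinj := del_injective f X (q₀ - 1) q₀ (by omega) (hlow (q₀ - 1) (by omega))
    have hy0 : y = 0 := by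
      apply key y
      intro g hg
      apply hinj
      rw [map_smul, hy, map_zero]
      exact hx g (List.mem_append_left _ hg)
    rw [← hy, hy0, map_zero]

end Kr

end Groth.Agent.Lib.Helper18.DR
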