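import Mathlib
import Groth.Agent.Lib.Helper18.KrA
import Groth.Agent.Lib.Helper18.CechD

/-!
# The augmentation of the extended Čech complex becomes a quasi-isomorphism after applying the
Koszul complex (helper18)
-/

set_option autoImplicit false
set_option linter.style.haveILetI false
universe u
open CategoryTheory CategoryTheory.Limits CategoryTheory.Pretriangulated CochainComplex

attribute [local instance] HasDerivedCategory.standard

namespace Groth.Agent.Lib.Helper18.DR

namespace Kr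

open Groth.Agent.Lib.Helper14.KoszulFun Groth.Agent.Lib.Helper21.RGt

variable {A : Type u} [CommRing A]

lemma kosMap_comp : ∀ (l : List A) {X Y Z : DRing.Cx A} (φ : X ⟶ Y) (ψ : Y ⟶ Z),
    kosMap l (φ ≫ ψ) = kosMap l φ ≫ kosMap l ψ
  | [], _, _, _, _, _ => rfl
  | f :: fs, _, _, _, φ, ψ => by
    change coneMap f (kosMap fs (φ ≫ ψ)) = coneMap f (kosMap fs φ) ≫ coneMap f (kosMap fs ψ)
    rw [kosMap_comp fs, coneMap_comp]

lemma kosMap_zero : ∀ (l : List A) (X Y : DRing.Cx A), kosMap l (0 : X ⟶ Y) = 0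
  | [], _, _ => rfl
  | f :: fs, X, Y => by
    change coneMap f (kosMap fs (0 : X ⟶ Y)) = 0
    rw [kosMap_zero fs, coneMap_zero]

lemma kosMap_smul_id (a : A) : ∀ (l : List A) (X : DRing.Cx A),
    kosMap l (a • 𝟙 X) = a • 𝟙 (KosC l X)
  | [], _ => rfl
  | f :: fs, X => by
    change coneMap f (kosMap fs (a • 𝟙 X)) = a • 𝟙 (T f (KosC fs X))
    rw [kosMap_smul_id a fs, coneMap_smul_id]

/-- the Koszul construction applied to a short complex of complexes -/
noncomputable def kosSC (l : List A) (S : ShortComplex (DRing.Cx A)) :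
    ShortComplex (DRing.Cx A) :=
  ShortComplex.mk (kosMap l S.f) (kosMap l S.g) (by rw [← kosMap_comp, S.zero, kosMap_zero])

lemma kosSC_shortExact : ∀ (l : List A) (S : ShortComplex (DRing.Cx A)), S.ShortExact →
    (kosSC l S).ShortExact
  | [], _, h => h
  | f :: fs, S, h => TS_shortExact f (kosSC fs S) (kosSC_shortExact fs S h)

/-- if some `f ∈ l` acts invertibly on `Z`, then `K(l; Z)` is acyclic -/
theorem isZero_Q_kosC (l : List A) (f : A) (hf : f ∈ l) (Z : DRing.Cx A)
    (hZ : IsIso (f • 𝟙 Z)) : IsZero (DerivedCategory.Q.obj (KosC l Z)) := by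
  haveI : IsIso (DerivedCategory.Q.map (f • 𝟙 Z)) := inferInstance
  have h1 : IsIso (DerivedCategory.Q.map (kosMap l (f • 𝟙 Z))) :=
    isIso_Q_map_kosMap l _ inferInstance
  rw [kosMap_smul_id] at h1
  obtain ⟨H⟩ := kosC_smul_homotopic_zero_of_mem Z l f hf
  rw [DerivedCategory.Q_map_eq_of_homotopy _ H, Functor.map_zero] at h1
  rw [IsZero.iff_id_eq_zero]
  have := @IsIso.hom_inv_id _ _ _ _ (0 : DerivedCategory.Q.obj (KosC l Z) ⟶
    DerivedCategory.Q.obj (KosC l Z)) h1
  rw [zero_comp] at this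
  exact this.symm

/-- `K(l; -)` turns an epimorphism with such a kernel into a quasi-isomorphism -/
theorem isIso_Q_kosMap_g (l : List A) (f : A) (hf : f ∈ l) (S : ShortComplex (DRing.Cx A))
    (hS : S.ShortExact) (hZ : IsIso (f • 𝟙 S.X₁)) :
    IsIso (DerivedCategory.Q.map (kosMap l S.g)) := by
  have hS' := kosSC_shortExact l S hS
  have hT := DerivedCategory.triangleOfSES_distinguished hS'
  exact (Triangle.isZero₁_iff_isIso₂ _ hT).1 (isZero_Q_kosC l f hf S.X₁ hZ)

lemma isIso_Q_kosMap_comp (l : List A) {X Y Z : DRing.Cx A} (φ : X ⟶ Y) (ψ : Y ⟶ Z)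
    (hφ : IsIso (DerivedCategory.Q.map (kosMap l φ)))
    (hψ : IsIso (DerivedCategory.Q.map (kosMap l ψ))) :
    IsIso (DerivedCategory.Q.map (kosMap l (φ ≫ ψ))) := by
  rw [kosMap_comp, Functor.map_comp]
  infer_instance

/-- **the augmentation `Č(l'; M) ⟶ M[0]` is a quasi-isomorphism after `K(l; -)`, `l' ⊆ l`** -/
theorem isIso_Q_kosMap_aug (l : List A) (M : ModuleCat.{u} A) :
    ∀ l' : List A, (∀ g ∈ l', g ∈ l) →
      IsIso (DerivedCategory.Q.map (kosMap l (Cech.aug M l')))
  | [], _ => by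
    change IsIso (DerivedCategory.Q.map (kosMap l (𝟙 _)))
    exact isIso_Q_map_kosMap l _ inferInstance
  | f :: fs, h => by
    have h1 := isIso_Q_kosMap_aug l M fs (fun g hg => h g (List.mem_cons_of_mem f hg))
    have h2 : IsIso (DerivedCategory.Q.map (kosMap l (mappingCocone.fst
        (DerCA.locCxUnit (Submonoid.powers f) (DerCA.extCech M fs))))) :=
      isIso_Q_kosMap_g l f (h f List.mem_cons_self)
        (Cech.coconeSC (DerCA.locCxUnit (Submonoid.powers f) (DerCA.extCech M fs)))
        (Cech.coconeSC_shortExact _)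
        (Cech.isIso_smul_id_ker _ f (fun n => Cech.isIso_smul_id_locCx f _ n))
    exact isIso_Q_kosMap_comp l _ _ h2 h1

end Kr

end Groth.Agent.Lib.Helper18.DR
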