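import Mathlib
import Groth.Agent.Lib.Helper18.KrB
import Groth.Agent.Lib.Helper18.LDualC
import Groth.Agent.Lib.Helper20.CechH0
import Groth.Prelude.Def_LCI2

/-!
# The extended Čech complex of a Koszul-regular sequence has cohomology only in top degree
(helper18)
-/

set_option autoImplicit false
set_option linter.style.haveILetI false
universe u
open CategoryTheory CategoryTheory.Limits CategoryTheory.Pretriangulated CochainComplex

attribute [local instance] HasDerivedCategory.standard

namespace Groth.Agent.Lib.Helper18.DR

namespace Kr

open Groth.Agent.Lib.Helper14.KoszulFun Groth.Agent.Lib.Helper21.RGt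

variable {A : Type u} [CommRing A]

/-- a module all of whose elements are killed by powers of the elements of `l` and without
nonzero element killed by `l` vanishes -/
lemma eq_zero_of_torsion_of_socle : ∀ (l : List A) (N : Type u) [AddCommGroup N] [Module A N],
    (∀ x : N, ∀ g ∈ l, ∃ n : ℕ, g ^ n • x = 0) →
    (∀ x : N, (∀ g ∈ l, g • x = 0) → x = 0) → ∀ x : N, x = 0
  | [], N, _, _, _, hs => fun x => hs x (fun g hg => absurd hg List.not_mem_nil)
  | g :: l, N, _, _, ht, hs => by
    -- the kernel of `g` vanishes
    have hker : ∀ x : N, g • x = 0 → x = 0 := by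
      intro x hx
      let N' : Submodule A N := LinearMap.ker (LinearMap.lsmul A N g)
      have hx' : x ∈ N' := by
        change g • x = 0
        exact hx
      have h0 := eq_zero_of_torsion_of_socle l N'
        (fun y g' hg' => by
          obtain ⟨n, hn⟩ := ht y.1 g' (List.mem_cons_of_mem g hg')
          exact ⟨n, Subtype.ext hn⟩)
        (fun y hy => by
          apply Subtype.ext
          apply hs y.1
          intro g' hg'
          rcases List.mem_cons.mp hg' with rfl | hg''
          · exact y.2
          · exact congrArg Subtype.val (hy g' hg''))
        ⟨x, hx'⟩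
      exact congrArg Subtype.val h0
    intro x
    obtain ⟨n, hn⟩ := ht x g List.mem_cons_self
    induction n with
    | zero => simpa using hn
    | succ n ih =>
      apply ih
      apply hker
      rw [← mul_smul, ← pow_succ']
      exact hn

lemma kosC_eq_koszul : ∀ l : List A,
    KosC l ((HomologicalComplex.single (ModuleCat.{u} A) (ComplexShape.up ℤ) 0).obj
      (ModuleCat.of A A)) = Koszul.koszul A l
  | [] => rfl
  | f :: fs => by
    change T f (KosC fs _) = mappingCone (f • 𝟙 (Koszul.koszul A fs))
    rw [kosC_eq_koszul fs]

lemma isZero_H_iff (X : DRing.Cx A) (q : ℤ) :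
    IsZero ((H A q).obj (DerivedCategory.Q.obj X)) ↔ IsZero (X.homology q) :=
  ((DerivedCategory.homologyFunctorFactors (ModuleCat.{u} A) q).app X).isZero_iff

/-- **S9267** -/
theorem isZero_extCechH_of_koszulRegular (fs : List A) (hfs : LCI.IsKoszulRegularSeq A fs)
    (q : ℤ) (hq : q ≠ (fs.length : ℤ)) :
    IsZero (DerCA.extCechH fs (ModuleCat.of A A) q) := by
  set X := DerCA.extCech (ModuleCat.of A A) fs with hX
  change IsZero (X.homology q)
  rcases lt_trichotomy q (fs.length : ℤ) with hlt | heq | hgt
  · -- the interesting range
    have key : ∀ k : ℕ, ∀ q : ℤ, q < (k : ℤ) → q < (fs.length : ℤ) →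
        IsZero ((H A q).obj (DerivedCategory.Q.obj X)) := by
      intro k
      induction k with
      | zero =>
        intro q hq0 _
        rw [isZero_H_iff]
        exact ShortComplex.isZero_homology_of_isZero_X₂ _
          (Groth.Agent.Lib.Helper20.CechH0.isZero_extCech_X_of_neg _ fs q (by simpa using hq0))
      | succ k ih =>
        intro q hqk hqr
        by_cases hq' : q < (k : ℤ)
        · exact ih q hq' hqr
        · have hqk' : q = (k : ℤ) := by push_cast at hqk; omega
          subst hqk'
          -- the Koszul complex of `X` is the Koszul complex of the ring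
          haveI := isIso_Q_kosMap_aug fs (ModuleCat.of A A) fs (fun g hg => hg)
          have e : DerivedCategory.Q.obj (KosC fs X) ≅
              DerivedCategory.Q.obj (Koszul.koszul A fs) := by
            have e1 := asIso (DerivedCategory.Q.map (kosMap fs (Cech.aug (ModuleCat.of A A) fs)))
            have e2 : KosC fs (DerCA.extCech (ModuleCat.of A A) []) = Koszul.koszul A fs :=
              kosC_eq_koszul fs
            rw [e2] at e1
            exact e1
          have hK : IsZero ((H A ((k : ℤ) - fs.length)).obj
              (DerivedCategory.Q.obj (KosC fs X))) := by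
            refine IsZero.of_iso ?_ ((H A ((k : ℤ) - fs.length)).mapIso e)
            rw [isZero_H_iff]
            exact hfs _ (by omega)
          have hsoc := socle_detect fs X (k : ℤ) (fun q hq => ih q hq (by omega)) hK
          have htor : ∀ x : (H A (k : ℤ)).obj (DerivedCategory.Q.obj X), ∀ g ∈ fs,
              ∃ n : ℕ, g ^ n • x = 0 := by
            intro x g hg
            let ι := (DerivedCategory.homologyFunctorFactors (ModuleCat.{u} A) (k : ℤ)).app X
            obtain ⟨n, hn⟩ := Groth.Agent.Lib.Helper20.CechKill.exists_pow_smul_eq_zero
              (ModuleCat.of A A) fs (k : ℤ) (ι.hom.hom x) g hg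
            refine ⟨n, ?_⟩
            have hinj : Function.Injective ι.hom.hom :=
              ((ConcreteCategory.isIso_iff_bijective ι.hom).1 inferInstance).1
            apply hinj
            rw [map_smul, map_zero]
            exact hn
          have hall := eq_zero_of_torsion_of_socle fs _ htor hsoc
          haveI : Subsingleton ((H A (k : ℤ)).obj (DerivedCategory.Q.obj X)) :=
            ⟨fun a b => (hall a).trans (hall b).symm⟩
          exact ModuleCat.isZero_of_subsingleton _
    rw [← isZero_H_iff]
    have hq0 : q < ((q.toNat + 1 : ℕ) : ℤ) := by
      have := Int.self_le_toNat q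
      push_cast
      omega
    exact key (q.toNat + 1) q hq0 hlt
  · exact absurd heq hq
  · exact ShortComplex.isZero_homology_of_isZero_X₂ _
      (LDual.isZero_extCech_X _ fs q hgt)

end Kr

end Groth.Agent.Lib.Helper18.DR
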