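import Mathlib
import Groth.Agent.Lib.Helper14.KoszulH0
import Groth.Agent.Lib.Helper14.KoszulBC
import Groth.Agent.Lib.Helper18.DRBase

/-!
# Koszul complexes kill high powers of the ideal (helper18)

For a finite module `M` over a Noetherian ring and a list `l` generating the ideal `I`, the map
`I^n M ⟶ M ⟶ K(l; M)` is zero in `D(A)` for `n ≫ 0`.
-/

set_option autoImplicit false
set_option linter.style.haveILetI false
universe u
open CategoryTheory CategoryTheory.Limits CategoryTheory.Pretriangulated CochainComplex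

attribute [local instance] HasDerivedCategory.standard

namespace Groth.Agent.Lib.Helper18.DR

namespace Kz

open Groth.Agent.Lib.Helper14.KoszulFun CohIII

variable {A : Type u} [CommRing A]

/-- a module in degree `0` -/
noncomputable abbrev S0 (M : ModuleCat.{u} A) : DRing.Cx A :=
  (HomologicalComplex.single (ModuleCat.{u} A) (ComplexShape.up ℤ) 0).obj M

/-- a module map in degree `0` -/
noncomputable abbrev S0map {M N : ModuleCat.{u} A} (φ : M ⟶ N) : S0 M ⟶ S0 N :=
  (HomologicalComplex.single (ModuleCat.{u} A) (ComplexShape.up ℤ) 0).map φ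

/-- the canonical map `M ⟶ K(l; M)` -/
noncomputable def toK (M : ModuleCat.{u} A) : ∀ l : List A, S0 M ⟶ koszulCx M l
  | [] => 𝟙 _
  | x :: l => toK M l ≫ mappingCone.inr (x • 𝟙 (koszulCx M l))

lemma toK_nil (M : ModuleCat.{u} A) : toK M [] = 𝟙 _ := rfl

lemma toK_cons (M : ModuleCat.{u} A) (x : A) (l : List A) :
    toK M (x :: l) = toK M l ≫ mappingCone.inr (x • 𝟙 (koszulCx M l)) := rfl

lemma toK_naturality {M N : ModuleCat.{u} A} (φ : M ⟶ N) :
    ∀ l : List A, toK M l ≫ koszulMap φ l = S0map φ ≫ toK N l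
  | [] => by
    rw [toK_nil, toK_nil, koszulMap_nil]
    exact (Category.id_comp _).trans (Category.comp_id _).symm
  | x :: l => by
    change (toK M l ≫ mappingCone.inr (x • 𝟙 (koszulCx M l))) ≫ coneMap x (koszulMap φ l) =
      S0map φ ≫ (toK N l ≫ mappingCone.inr (x • 𝟙 (koszulCx N l)))
    rw [Category.assoc, inr_comp_coneMap, ← Category.assoc, toK_naturality φ l, Category.assoc]

/-- Fitting: high powers of an element have range disjoint from the kernel of the element -/
lemma exists_pow_disjoint [IsNoetherianRing A] (M : Type u) [AddCommGroup M] [Module A M]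
    [Module.Finite A M] (f : A) : ∃ a : ℕ, ∀ x : M, f • (f ^ a • x) = 0 → f ^ a • x = 0 := by
  haveI : IsNoetherian A M := isNoetherian_of_isNoetherianRing_of_finite A M
  let φ : Module.End A M := LinearMap.lsmul A M f
  obtain ⟨n, hn : ∀ m, n ≤ m → LinearMap.ker (φ ^ n) = LinearMap.ker (φ ^ m)⟩ :=
    monotone_stabilizes_iff_noetherian.mpr inferInstance φ.iterateKer
  have hpow : ∀ (k : ℕ) (x : M), (φ ^ k) x = f ^ k • x := by
    intro k
    induction k with
    | zero => intro x; simp
    | succ k ih =>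
      intro x
      rw [pow_succ', Module.End.mul_apply, ih, pow_succ', mul_smul]
      rfl
  refine ⟨n, fun x hx => ?_⟩
  have h1 : x ∈ LinearMap.ker (φ ^ (n + 1)) := by
    rw [LinearMap.mem_ker, hpow, pow_succ', mul_smul]
    exact hx
  rw [← hn (n + 1) (Nat.le_succ n), LinearMap.mem_ker, hpow] at h1
  exact h1

lemma mkQ_mem_of_mem_pow (M : Type u) [AddCommGroup M] [Module A M] (f : A) (J : Ideal A)
    (a n' : ℕ) (x : M)
    (hx : x ∈ (Ideal.span {f} ⊔ J) ^ (n' + (a + 1)) • (⊤ : Submodule A M)) :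
    (LinearMap.range (LinearMap.lsmul A M (f ^ (a + 1)))).mkQ x ∈
      J ^ n' • (⊤ : Submodule A (M ⧸ LinearMap.range (LinearMap.lsmul A M (f ^ (a + 1))))) := by
  set F := LinearMap.range (LinearMap.lsmul A M (f ^ (a + 1))) with hF
  have h1 : (Ideal.span {f} ⊔ J) ^ (n' + (a + 1)) ≤ J ^ n' ⊔ Ideal.span {f} ^ (a + 1) := by
    rw [sup_comm]
    exact Ideal.sup_pow_add_le_pow_sup_pow
  have h2 : x ∈ J ^ n' • (⊤ : Submodule A M) ⊔ F := by
    have h3 := Submodule.smul_mono_left (N := (⊤ : Submodule A M)) h1 hx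
    rw [Submodule.sup_smul] at h3
    have h5 : Ideal.span {f} ^ (a + 1) • (⊤ : Submodule A M) ≤ F := by
      rw [Submodule.smul_le]
      intro r hr m _
      rw [Ideal.span_singleton_pow, Ideal.mem_span_singleton'] at hr
      obtain ⟨c, rfl⟩ := hr
      refine ⟨c • m, ?_⟩
      change f ^ (a + 1) • c • m = (c * f ^ (a + 1)) • m
      rw [smul_smul, mul_comm]
    exact (sup_le_sup_left h5 _) h3
  obtain ⟨y, hy, z, hz, rfl⟩ := Submodule.mem_sup.1 h2
  have hz0 : F.mkQ z = 0 := (Submodule.Quotient.mk_eq_zero F).2 hz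
  rw [map_add, hz0, add_zero]
  have h4 : F.mkQ y ∈ Submodule.map F.mkQ (J ^ n' • (⊤ : Submodule A M)) :=
    Submodule.mem_map_of_mem hy
  rw [Submodule.map_smul''] at h4
  exact Submodule.smul_mono le_rfl le_top h4


lemma span_cons (f : A) (l : List A) :
    Ideal.span {x : A | x ∈ f :: l} = Ideal.span {f} ⊔ Ideal.span {x : A | x ∈ l} := by
  rw [← Ideal.span_union]
  congr 1
  ext x
  simp

lemma Q_map_smul_comp_inr (X : DRing.Cx A) (f : A) :
    DerivedCategory.Q.map ((f • 𝟙 X) ≫ mappingCone.inr (f • 𝟙 X)) = 0 := by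
  rw [Functor.map_comp]
  exact comp_distTriang_mor_zero₁₂ _
    (DerivedCategory.mappingCone_triangle_distinguished (f • 𝟙 X))

/-- **Koszul complexes kill high powers of the ideal**: `I^n M ⟶ M ⟶ K(l; M)` is zero in `D(A)`
for `n ≫ 0`. -/
theorem koszul_vanishing [IsNoetherianRing A] (l : List A) :
    ∀ (M : Type u) [AddCommGroup M] [Module A M] [Module.Finite A M],
      ∃ n : ℕ, 0 < n ∧ DerivedCategory.Q.map (S0map (ModuleCat.ofHom
        ((Ideal.span {x : A | x ∈ l}) ^ n • (⊤ : Submodule A M)).subtype) ≫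
          toK (ModuleCat.of A M) l) = 0 := by
  induction l with
  | nil =>
    intro M _ _ _
    refine ⟨1, Nat.one_pos, ?_⟩
    have h0 : (ModuleCat.ofHom ((Ideal.span {x : A | x ∈ ([] : List A)}) ^ 1 •
        (⊤ : Submodule A M)).subtype) = 0 := by
      apply ModuleCat.hom_ext
      apply LinearMap.ext
      rintro ⟨x, hx⟩
      have hx' := hx
      have hb : Ideal.span {x : A | x ∈ ([] : List A)} = ⊥ := by simp
      rw [hb, pow_one, Submodule.bot_smul, Submodule.mem_bot] at hx'
      exact hx'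
    rw [h0]
    change DerivedCategory.Q.map ((HomologicalComplex.single (ModuleCat.{u} A)
      (ComplexShape.up ℤ) 0).map 0 ≫ _) = 0
    rw [Functor.map_zero, zero_comp, Functor.map_zero]
  | cons f l ih =>
    intro M _ _ _
    obtain ⟨a, ha⟩ := exists_pow_disjoint M f
    let F : Submodule A M := LinearMap.range (LinearMap.lsmul A M (f ^ (a + 1)))
    let Fa : Submodule A M := LinearMap.range (LinearMap.lsmul A M (f ^ a))
    obtain ⟨n', hn', hz⟩ := ih (M ⧸ F)
    refine ⟨n' + (a + 1), by omega, ?_⟩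
    let J : Ideal A := Ideal.span {x : A | x ∈ l}
    -- the module maps
    let j : ModuleCat.of A ↥((Ideal.span {x : A | x ∈ f :: l}) ^ (n' + (a + 1)) •
        (⊤ : Submodule A M)) ⟶ ModuleCat.of A M := ModuleCat.ofHom (Submodule.subtype _)
    let π : ModuleCat.of A M ⟶ ModuleCat.of A (M ⧸ F) := ModuleCat.ofHom F.mkQ
    let j' : ModuleCat.of A ↥(J ^ n' • (⊤ : Submodule A (M ⧸ F))) ⟶ ModuleCat.of A (M ⧸ F) :=
      ModuleCat.ofHom (Submodule.subtype _)
    let c : ModuleCat.of A ↥((Ideal.span {x : A | x ∈ f :: l}) ^ (n' + (a + 1)) •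
        (⊤ : Submodule A M)) ⟶ ModuleCat.of A ↥(J ^ n' • (⊤ : Submodule A (M ⧸ F))) :=
      ModuleCat.ofHom (LinearMap.codRestrict _ (F.mkQ ∘ₗ Submodule.subtype _) (fun x => by
        obtain ⟨x, hx⟩ := x
        rw [span_cons] at hx
        exact mkQ_mem_of_mem_pow M f J a n' x hx))
    have hc : c ≫ j' = j ≫ π := rfl
    let i : ModuleCat.of A ↥F ⟶ ModuleCat.of A M := ModuleCat.ofHom F.subtype
    let ia : ModuleCat.of A ↥Fa ⟶ ModuleCat.of A M := ModuleCat.ofHom Fa.subtype
    -- multiplication by `f` from `f^a M` onto `f^(a+1) M`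
    let μ₀ : ↥Fa →ₗ[A] ↥F := LinearMap.codRestrict F (LinearMap.lsmul A M f ∘ₗ Fa.subtype)
      (fun y => by
        obtain ⟨y, x, rfl⟩ := y
        exact ⟨x, by
          change f ^ (a + 1) • x = f • (f ^ a • x)
          rw [pow_succ', mul_smul]⟩)
    have hμ₀ : Function.Bijective μ₀ := by
      constructor
      · rw [injective_iff_map_eq_zero]
        rintro ⟨y, x, rfl⟩ hy
        have h1 : f • (f ^ a • x) = 0 := congrArg Subtype.val hy
        apply Subtype.ext
        exact ha x h1
      · rintro ⟨z, x, rfl⟩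
        refine ⟨⟨f ^ a • x, x, rfl⟩, Subtype.ext ?_⟩
        change f • (f ^ a • x) = f ^ (a + 1) • x
        rw [pow_succ', mul_smul]
    let μ : ModuleCat.of A ↥Fa ≅ ModuleCat.of A ↥F := (LinearEquiv.ofBijective μ₀ hμ₀).toModuleIso
    have hμ : μ.hom ≫ i = ia ≫ (f • 𝟙 (ModuleCat.of A M)) := rfl
    -- the short exact sequence
    let S : ShortComplex (ModuleCat.{u} A) := ShortComplex.mk i π (by
      apply ModuleCat.hom_ext
      apply LinearMap.ext
      intro x
      exact (Submodule.Quotient.mk_eq_zero F).2 x.2)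
    have hS : S.ShortExact := by
      refine ShortComplex.ShortExact.mk' ?_ ?_ ?_
      · rw [ShortComplex.moduleCat_exact_iff]
        intro x hx
        have hx' : x ∈ F := (Submodule.Quotient.mk_eq_zero F).1 hx
        exact ⟨⟨x, hx'⟩, rfl⟩
      · rw [ModuleCat.mono_iff_injective]
        exact Subtype.val_injective
      · rw [ModuleCat.epi_iff_surjective]
        exact Submodule.mkQ_surjective F
    have hKS := koszul_shortExact S hS l
    have hT := DerivedCategory.triangleOfSES_distinguished hKS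
    let u₀ := DerivedCategory.Q.map (S0map j ≫ toK (ModuleCat.of A M) l)
    have h1 : u₀ ≫ DerivedCategory.Q.map (koszulMap π l) = 0 := by
      have e1 : (S0map j ≫ toK (ModuleCat.of A M) l) ≫ koszulMap π l =
          S0map c ≫ (S0map j' ≫ toK (ModuleCat.of A (M ⧸ F)) l) := by
        rw [Category.assoc, toK_naturality π l, ← Category.assoc, ← Category.assoc]
        congr 1
        change (HomologicalComplex.single (ModuleCat.{u} A) (ComplexShape.up ℤ) 0).map j ≫
          (HomologicalComplex.single (ModuleCat.{u} A) (ComplexShape.up ℤ) 0).map π =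
          (HomologicalComplex.single (ModuleCat.{u} A) (ComplexShape.up ℤ) 0).map c ≫
          (HomologicalComplex.single (ModuleCat.{u} A) (ComplexShape.up ℤ) 0).map j'
        rw [← Functor.map_comp, ← Functor.map_comp, hc]
      change DerivedCategory.Q.map (S0map j ≫ toK (ModuleCat.of A M) l) ≫ _ = 0
      rw [← Functor.map_comp, e1, Functor.map_comp]
      change _ ≫ DerivedCategory.Q.map (S0map (ModuleCat.ofHom
        ((Ideal.span {x : A | x ∈ l}) ^ n' • (⊤ : Submodule A (M ⧸ F))).subtype) ≫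
          toK (ModuleCat.of A (M ⧸ F)) l) = 0
      rw [hz, comp_zero]
    obtain ⟨v, hv⟩ : ∃ v : DerivedCategory.Q.obj (S0 (ModuleCat.of A
        ↥((Ideal.span {x : A | x ∈ f :: l}) ^ (n' + (a + 1)) • (⊤ : Submodule A M)))) ⟶
        DerivedCategory.Q.obj (koszulCx (ModuleCat.of A ↥F) l),
        u₀ = v ≫ DerivedCategory.Q.map (koszulMap i l) :=
      Triangle.coyoneda_exact₂ _ hT u₀ h1
    have hi : koszulMap i l = koszulMap μ.inv l ≫ koszulMap ia l ≫
        (f • 𝟙 (koszulCx (ModuleCat.of A M) l)) := by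
      rw [← koszulMap_smul_id, ← koszulMap_comp, ← koszulMap_comp, ← hμ, Iso.inv_hom_id_assoc]
    have hfin : DerivedCategory.Q.map (koszulMap i l) ≫ DerivedCategory.Q.map
        (mappingCone.inr (f • 𝟙 (koszulCx (ModuleCat.of A M) l))) = 0 := by
      rw [hi, ← Functor.map_comp, Category.assoc, Category.assoc, Functor.map_comp,
        Functor.map_comp, Q_map_smul_comp_inr, comp_zero, comp_zero]
    change DerivedCategory.Q.map (S0map j ≫ (toK (ModuleCat.of A M) l ≫
      mappingCone.inr (f • 𝟙 (koszulCx (ModuleCat.of A M) l)))) = 0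
    rw [← Category.assoc, Functor.map_comp]
    change u₀ ≫ _ = 0
    rw [hv, Category.assoc, hfin, comp_zero]


end Kz

end Groth.Agent.Lib.Helper18.DR
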