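import Mathlib
import Groth.Agent.Lib.Helper18.KzA
import Groth.Agent.Lib.Helper18.DistPair
import Groth.Agent.Lib.Helper23.KosD
import Groth.Agent.Lib.Helper1.KoszulConcat

/-!
# The factoring lemma: `I^n M ⟶ M` factors through `I ⊗^L M ⟶ M` (helper18)
-/

set_option autoImplicit false
set_option linter.style.haveILetI false
universe u
open CategoryTheory CategoryTheory.Limits CategoryTheory.Pretriangulated CochainComplex
  MonoidalCategory

attribute [local instance] HasDerivedCategory.standard

namespace Groth.Agent.Lib.Helper18.DR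

namespace Kz

open Groth.Agent.Lib.Helper14.KoszulFun CohIII Groth.Agent.Lib.Helper23.Kun

variable {A : Type u} [CommRing A]

/-! ## K-projectivity of the Koszul complex of the ring -/

lemma projective_koszulCx_X (l : List A) :
    ∀ i : ℤ, Module.Projective A ((koszulCx (ModuleCat.of A A) l).X i) := by
  induction l with
  | nil =>
    intro i
    by_cases hi : i = 0
    · subst hi
      exact Module.Projective.of_equiv
        (HomologicalComplex.singleObjXSelf (ComplexShape.up ℤ) (0 : ℤ)
          (ModuleCat.of A A)).toLinearEquiv.symm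
    · have hz : IsZero ((koszulCx (ModuleCat.of A A) []).X i) :=
        HomologicalComplex.isZero_single_obj_X (ComplexShape.up ℤ) (0 : ℤ) (ModuleCat.of A A) i hi
      haveI : Subsingleton ((koszulCx (ModuleCat.of A A) []).X i) :=
        ModuleCat.subsingleton_of_isZero hz
      infer_instance
  | cons x l ih =>
    intro i
    exact (projProp A).cone (x • 𝟙 (koszulCx (ModuleCat.of A A) l)) ih ih i

instance isKProjective_koszulCx (l : List A) : (koszulCx (ModuleCat.of A A) l).IsKProjective := by
  haveI := Groth.Agent.Lib.Helper1.KoszulConcat.isStrictlyLE_koszulCx (ModuleCat.of A A) l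
  exact isKProjective_of_vanishesAbove _ 0
    (fun i hi => (koszulCx (ModuleCat.of A A) l).isZero_of_isStrictlyLE 0 i hi)
    (projective_koszulCx_X l)

/-! ## The augmentation -/

lemma smul_comp_eq_zero_of_mem (I : Ideal A) (x : A) (hx : x ∈ I) {K : DRing.Cx A}
    (β : K ⟶ S0 (ModuleCat.of A (A ⧸ I))) : (x • 𝟙 K) ≫ β = 0 := by
  have h1 : x • 𝟙 (ModuleCat.of A (A ⧸ I)) = 0 := by
    apply ModuleCat.hom_ext
    apply LinearMap.ext
    intro y
    obtain ⟨r, rfl⟩ := Submodule.Quotient.mk_surjective _ y
    change x • (Submodule.Quotient.mk r : A ⧸ I) = 0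
    rw [← Submodule.Quotient.mk_smul, Submodule.Quotient.mk_eq_zero]
    exact I.mul_mem_right r hx
  have h2 : x • 𝟙 (S0 (ModuleCat.of A (A ⧸ I))) = 0 := by
    apply HomologicalComplex.to_single_hom_ext
    rw [HomologicalComplex.smul_f_apply, HomologicalComplex.id_f, HomologicalComplex.zero_f]
    set e := HomologicalComplex.singleObjXSelf (ComplexShape.up ℤ) (0 : ℤ)
      (ModuleCat.of A (A ⧸ I)) with he
    have : x • 𝟙 ((S0 (ModuleCat.of A (A ⧸ I))).X 0) =
        e.hom ≫ (x • 𝟙 (ModuleCat.of A (A ⧸ I))) ≫ e.inv := by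
      rw [Linear.smul_comp, Linear.comp_smul, Category.id_comp, e.hom_inv_id]
    rw [this, h1, zero_comp, comp_zero]
  rw [Linear.smul_comp, Category.id_comp, ← Category.comp_id β, ← Linear.comp_smul, h2, comp_zero]

/-- the augmentation `K(l; A) ⟶ A/I` for a list of elements of `I` -/
noncomputable def aug (I : Ideal A) : ∀ l : List A, (∀ x ∈ l, x ∈ I) →
    (koszulCx (ModuleCat.of A A) l ⟶ S0 (ModuleCat.of A (A ⧸ I)))
  | [], _ => S0map (ModuleCat.ofHom (Submodule.mkQ I))
  | x :: l, h => mappingCone.desc (x • 𝟙 (koszulCx (ModuleCat.of A A) l)) 0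
      (aug I l (fun y hy => h y (List.mem_cons_of_mem x hy))) (by
        rw [HomComplex.δ_zero, smul_comp_eq_zero_of_mem I x (h x List.mem_cons_self)]
        exact (HomComplex.Cochain.ofHom_zero _ _).symm)

lemma toK_aug (I : Ideal A) : ∀ (l : List A) (h : ∀ x ∈ l, x ∈ I),
    toK (ModuleCat.of A A) l ≫ aug I l h = S0map (ModuleCat.ofHom (Submodule.mkQ I))
  | [], _ => Category.id_comp _
  | x :: l, h => by
    change (toK (ModuleCat.of A A) l ≫ mappingCone.inr (x • 𝟙 (koszulCx (ModuleCat.of A A) l))) ≫
      mappingCone.desc (x • 𝟙 (koszulCx (ModuleCat.of A A) l)) 0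
        (aug I l (fun y hy => h y (List.mem_cons_of_mem x hy))) _ = _
    rw [Category.assoc, mappingCone.inr_desc]
    exact toK_aug I l _

end Kz

end Groth.Agent.Lib.Helper18.DR
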