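import Mathlib
import Groth.Agent.Lib.Helper18.KzB

/-!
# The comparison `K(l; M) ⟶ K(l; A) ⊗ M` (helper18)
-/

set_option autoImplicit false
set_option linter.style.haveILetI false
universe u
open CategoryTheory CategoryTheory.Limits CategoryTheory.Pretriangulated CochainComplex
  MonoidalCategory

attribute [local instance] HasDerivedCategory.standard

namespace Groth.Agent.Lib.Helper18.DR

namespace Kz

open Groth.Agent.Lib.Helper14.KoszulFun CohIII Groth.Agent.Lib.Helper23.Kun

variable {A : Type u} [CommRing A]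

lemma inr_coneCongr_inv {F G : DRing.Cx A} {φ ψ : F ⟶ G} (h : φ = ψ) :
    mappingCone.inr ψ ≫ (coneCongr h).inv = mappingCone.inr φ := by
  subst h
  exact Category.comp_id _

/-- the comparison `K(l; M) ⟶ K(l; A) ⊗ M[0]` -/
noncomputable def toTens (M : ModuleCat.{u} A) : ∀ l : List A,
    koszulCx M l ⟶ tens (koszulCx (ModuleCat.of A A) l) (S0 M)
  | [] => (λ_ (S0 M)).inv
  | a :: l => coneMap a (toTens M l) ≫
      (coneCongr (whisk_smul_id a (koszulCx (ModuleCat.of A A) l) (S0 M))).inv ≫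
        coneTensInv (a • 𝟙 (koszulCx (ModuleCat.of A A) l)) (S0 M)

lemma toK_toTens (M : ModuleCat.{u} A) : ∀ l : List A,
    toK M l ≫ toTens M l = (λ_ (S0 M)).inv ≫ (toK (ModuleCat.of A A) l ▷ S0 M)
  | [] => by
    change 𝟙 _ ≫ (λ_ (S0 M)).inv = (λ_ (S0 M)).inv ≫ (𝟙 _ ▷ S0 M)
    rw [Category.id_comp, MonoidalCategory.id_whiskerRight]
    exact (Category.comp_id _).symm
  | a :: l => by
    change (toK M l ≫ mappingCone.inr (a • 𝟙 (koszulCx M l))) ≫
      (coneMap a (toTens M l) ≫
        (coneCongr (whisk_smul_id a (koszulCx (ModuleCat.of A A) l) (S0 M))).inv ≫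
          coneTensInv (a • 𝟙 (koszulCx (ModuleCat.of A A) l)) (S0 M)) =
      (λ_ (S0 M)).inv ≫ ((toK (ModuleCat.of A A) l ≫
        mappingCone.inr (a • 𝟙 (koszulCx (ModuleCat.of A A) l))) ▷ S0 M)
    rw [Category.assoc, ← Category.assoc (mappingCone.inr _), inr_comp_coneMap, Category.assoc,
      ← Category.assoc (mappingCone.inr _), inr_coneCongr_inv]
    have h3 : mappingCone.inr (whisk (a • 𝟙 (koszulCx (ModuleCat.of A A) l)) (S0 M)) ≫
        coneTensInv (a • 𝟙 (koszulCx (ModuleCat.of A A) l)) (S0 M) =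
        mappingCone.inr (a • 𝟙 (koszulCx (ModuleCat.of A A) l)) ▷ S0 M := by
      unfold coneTensInv
      rw [mappingCone.inr_desc]
      exact MonoidalCategory.tensorHom_id (C := DRing.Cx A)
        (mappingCone.inr (a • 𝟙 (koszulCx (ModuleCat.of A A) l))) (S0 M)
    rw [h3, ← Category.assoc, toK_toTens M l, Category.assoc, MonoidalCategory.comp_whiskerRight]

end Kz

end Groth.Agent.Lib.Helper18.DR
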