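import Mathlib
import Groth.Agent.Lib.Helper18.KzC

/-!
# `I^n M ⟶ M` factors through `I ⊗^L M ⟶ M` (helper18)
-/

set_option autoImplicit false
set_option linter.style.haveILetI false
universe u
open CategoryTheory CategoryTheory.Limits CategoryTheory.Pretriangulated CochainComplex
  MonoidalCategory

attribute [local instance] HasDerivedCategory.standard

namespace Groth.Agent.Lib.Helper18.DR

namespace Kz

open Groth.Agent.Lib.Helper14.KoszulFun CohIII Groth.Agent.Lib.Helper23.Kun DTen DistPair

variable {A : Type u} [CommRing A]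

lemma exists_list_span [IsNoetherianRing A] (I : Ideal A) :
    ∃ l : List A, Ideal.span {x : A | x ∈ l} = I := by
  obtain ⟨s, hs⟩ := (isNoetherianRing_iff_ideal_fg A).1 inferInstance I
  refine ⟨s.toList, ?_⟩
  rw [← hs]
  congr 1
  ext x
  simp

/-- the short exact sequence `0 → I → A → A/I → 0` -/
noncomputable def idealSC (I : Ideal A) : ShortComplex (ModuleCat.{u} A) :=
  ShortComplex.mk (ModuleCat.ofHom I.subtype) (ModuleCat.ofHom (Submodule.mkQ I)) (by
    apply ModuleCat.hom_ext
    apply LinearMap.ext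
    intro x
    exact (Submodule.Quotient.mk_eq_zero I).2 x.2)

lemma idealSC_shortExact (I : Ideal A) : (idealSC I).ShortExact := by
  haveI : Mono (idealSC I).f :=
    (ModuleCat.mono_iff_injective _).2 (Subtype.val_injective)
  haveI : Epi (idealSC I).g :=
    (ModuleCat.epi_iff_surjective _).2 (Submodule.mkQ_surjective I)
  refine ShortComplex.ShortExact.mk ?_
  rw [ShortComplex.moduleCat_exact_iff]
  intro x hx
  have : x ∈ I := (Submodule.Quotient.mk_eq_zero I).1 hx
  exact ⟨⟨x, this⟩, rfl⟩

variable [HasLTen A]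

theorem exists_factor [IsNoetherianRing A] (I : Ideal A) (M : Type u) [AddCommGroup M]
    [Module A M] [Module.Finite A M] :
    ∃ (n : ℕ) (_ : 0 < n)
      (g : DerivedCategory.Q.obj (S0 (ModuleCat.of A ↥(I ^ n • (⊤ : Submodule A M)))) ⟶
        (LTen₂ A).obj (DerivedCategory.Q.obj (S0 (ModuleCat.of A ↥I)),
          DerivedCategory.Q.obj (S0 (ModuleCat.of A M)))),
      g ≫ (LTen₂ A).map (Prod.mkHom
          (DerivedCategory.Q.map (S0map (ModuleCat.ofHom I.subtype))) (𝟙 _)) ≫
        (unitL A).app (DerivedCategory.Q.obj (S0 (ModuleCat.of A M))) =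
      DerivedCategory.Q.map (S0map (ModuleCat.ofHom (I ^ n • (⊤ : Submodule A M)).subtype)) := by
  obtain ⟨l, hl⟩ := exists_list_span I
  obtain ⟨n, hn, hvan⟩ := koszul_vanishing l M
  rw [hl] at hvan
  have hlI : ∀ x ∈ l, x ∈ I := by
    intro x hx
    rw [← hl]
    exact Ideal.subset_span hx
  refine ⟨n, hn, ?_⟩
  set Xc : DRing.Cx A := S0 (ModuleCat.of A M) with hXc
  set X : Dual.D A := DerivedCategory.Q.obj Xc with hX
  set j := S0map (ModuleCat.ofHom (I ^ n • (⊤ : Submodule A M)).subtype) with hj
  -- the distinguished pair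
  have hS' := (idealSC_shortExact I).map_of_exact
    (HomologicalComplex.single (ModuleCat.{u} A) (ComplexShape.up ℤ) 0)
  have hpair : IsDistPair (DerivedCategory.Q.map (S0map (ModuleCat.ofHom I.subtype)))
      (DerivedCategory.Q.map (S0map (ModuleCat.ofHom (Submodule.mkQ I)))) :=
    isDistPair_mor₁₂ _ (DerivedCategory.triangleOfSES_distinguished hS')
  have hpairX := hpair.tensorRight X
  -- the unit map is an isomorphism
  haveI hP1 : (𝟙_ (DRing.Cx A)).IsKProjective := isKProjective_koszulCx (A := A) []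
  haveI hε1 : IsIso ((ε A).app (𝟙_ (DRing.Cx A), Xc)) := DTenB.isIso_ε_app_left _ _
  have hu : (unitL A).app X = (ε A).app (𝟙_ (DRing.Cx A), Xc) ≫
      DerivedCategory.Q.map (λ_ Xc).hom := unitL_app A Xc
  haveI : IsIso ((unitL A).app X) := by
    rw [hu]
    infer_instance
  have hinv : inv ((unitL A).app X) ≫ (ε A).app (𝟙_ (DRing.Cx A), Xc) =
      DerivedCategory.Q.map (λ_ Xc).inv := by
    rw [IsIso.inv_comp_eq, hu, Category.assoc, ← Functor.map_comp, Iso.hom_inv_id,
      CategoryTheory.Functor.map_id]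
    exact (Category.comp_id _).symm
  -- the element to lift
  let y : DerivedCategory.Q.obj (S0 (ModuleCat.of A ↥(I ^ n • (⊤ : Submodule A M)))) ⟶
      (LTen₂ A).obj (unit A, X) := DerivedCategory.Q.map j ≫ inv ((unitL A).app X)
  have hy : y ≫ (tensorRightD A X).map
      (DerivedCategory.Q.map (S0map (ModuleCat.ofHom (Submodule.mkQ I)))) = 0 := by
    have hfac : DerivedCategory.Q.map (S0map (ModuleCat.ofHom (Submodule.mkQ I))) =
        DerivedCategory.Q.map (toK (ModuleCat.of A A) l) ≫
          DerivedCategory.Q.map (aug I l hlI) := by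
      rw [← Functor.map_comp, toK_aug]
    rw [hfac, Functor.map_comp, ← Category.assoc]
    have hzero : y ≫ (tensorRightD A X).map
        (DerivedCategory.Q.map (toK (ModuleCat.of A A) l)) = 0 := by
      haveI : IsIso ((ε A).app (koszulCx (ModuleCat.of A A) l, Xc)) :=
        DTenB.isIso_ε_app_left _ _
      rw [← cancel_mono ((ε A).app (koszulCx (ModuleCat.of A A) l, Xc)), zero_comp,
        Category.assoc]
      have hnat := DTenF.ε_naturality_left (toK (ModuleCat.of A A) l) Xc
      have hnat' : (tensorRightD A X).map (DerivedCategory.Q.map (toK (ModuleCat.of A A) l)) ≫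
          (ε A).app (koszulCx (ModuleCat.of A A) l, Xc) =
          (ε A).app (𝟙_ (DRing.Cx A), Xc) ≫
            DerivedCategory.Q.map (toK (ModuleCat.of A A) l ▷ Xc) := hnat
      rw [hnat']
      change (DerivedCategory.Q.map j ≫ inv ((unitL A).app X)) ≫ _ = 0
      rw [Category.assoc, reassoc_of% hinv, ← Functor.map_comp, ← Functor.map_comp,
        ← toK_toTens, ← Category.assoc, Functor.map_comp, hvan, zero_comp]
    rw [hzero, zero_comp]
  obtain ⟨x, hx⟩ := hpairX.coyoneda_exact y hy
  refine ⟨x, ?_⟩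
  have hx' : x ≫ (LTen₂ A).map (Prod.mkHom
      (DerivedCategory.Q.map (S0map (ModuleCat.ofHom I.subtype))) (𝟙 X)) = y := hx
  rw [← Category.assoc, hx']
  change (DerivedCategory.Q.map j ≫ inv ((unitL A).app X)) ≫ (unitL A).app X = _
  rw [Category.assoc, IsIso.inv_hom_id, Category.comp_id]

end Kz

end Groth.Agent.Lib.Helper18.DR
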