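import Mathlib
import Groth.Agent.Lib.Helper21.RGe

/-!
# Formal parts of Greenlees–May duality (helper18)
-/

set_option autoImplicit false
set_option linter.style.haveILetI false
universe u
open CategoryTheory CategoryTheory.Limits

attribute [local instance] HasDerivedCategory.standard

namespace Groth.Agent.Lib.Helper18.DR

namespace GM

/-- a morphism between objects satisfying `P` inducing bijections on `Hom(L, -)` for every `L`
satisfying `P` is an isomorphism -/
lemma isIso_of_bijective_comp {C : Type*} [Category C] (P : C → Prop) {X Y : C} (f : X ⟶ Y)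
    (hX : P X) (hY : P Y)
    (h : ∀ L : C, P L → Function.Bijective (fun g : L ⟶ X => g ≫ f)) : IsIso f := by
  obtain ⟨g, hg⟩ := (h Y hY).2 (𝟙 Y)
  have hg' : g ≫ f = 𝟙 Y := hg
  refine ⟨⟨g, ?_, hg'⟩⟩
  apply (h X hX).1
  change (f ≫ g) ≫ f = 𝟙 X ≫ f
  rw [Category.assoc, hg', Category.comp_id, Category.id_comp]

/-- dual version -/
lemma isIso_of_bijective_precomp {C : Type*} [Category C] (P : C → Prop) {X Y : C} (f : X ⟶ Y)
    (hX : P X) (hY : P Y)
    (h : ∀ L : C, P L → Function.Bijective (fun g : Y ⟶ L => f ≫ g)) : IsIso f := by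
  obtain ⟨g, hg⟩ := (h X hX).2 (𝟙 X)
  have hg' : f ≫ g = 𝟙 X := hg
  refine ⟨⟨g, hg', ?_⟩⟩
  apply (h Y hY).1
  change f ≫ (g ≫ f) = f ≫ 𝟙 Y
  rw [← Category.assoc, hg', Category.comp_id, Category.id_comp]

variable {A : Type u} [CommRing A] [IsNoetherianRing A] (I : Ideal A) [DRing.HasRgammaI I]

/-- `RΓ_I K ⟶ K` is an isomorphism when `K` has `I`-power torsion cohomology -/
theorem isIso_RgammaIε_of_torsion (K : Dual.D A)
    (hK : ∀ i : ℤ, LocCoh.IsPowerTorsion I (Dual.HD A K i)) :
    IsIso ((DRing.RgammaIε I).app K) :=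
  isIso_of_bijective_comp
    (fun L : Dual.D A => ∀ i : ℤ, LocCoh.IsPowerTorsion I (Dual.HD A L i)) _
    (fun i => Groth.Agent.Lib.Helper21.RGb.isPowerTorsion_HD_RgammaI I K i) hK
    (fun L hL => Groth.Agent.Lib.Helper21.RGb.bijective_comp_eps I L K hL)

/-- `RΓ_I` inverts the derived completion map -/
theorem isIso_RgammaI_map_toDerivedCompletion [DRing.HasDerivedCompletion I] (K : Dual.D A) :
    IsIso ((DRing.RgammaI I).map (DRing.toDerivedCompletion I K)) := by
  refine isIso_of_bijective_comp
    (fun L : Dual.D A => ∀ i : ℤ, LocCoh.IsPowerTorsion I (Dual.HD A L i)) _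
    (fun i => Groth.Agent.Lib.Helper21.RGb.isPowerTorsion_HD_RgammaI I K i)
    (fun i => Groth.Agent.Lib.Helper21.RGb.isPowerTorsion_HD_RgammaI I _ i) (fun L hL => ?_)
  have b2 := Groth.Agent.Lib.Helper21.RGb.bijective_comp_eps I L
    ((DRing.derivedCompletion I).obj K).obj hL
  have b3 := (Groth.Agent.Lib.Helper21.RGe.bijective_comp_toDerivedCompletion I L K hL).comp
    (Groth.Agent.Lib.Helper21.RGb.bijective_comp_eps I L K hL)
  have e : (fun g : L ⟶ (DRing.RgammaI I).obj ((DRing.derivedCompletion I).obj K).obj =>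
        g ≫ (DRing.RgammaIε I).app ((DRing.derivedCompletion I).obj K).obj) ∘
      (fun g : L ⟶ (DRing.RgammaI I).obj K =>
        g ≫ (DRing.RgammaI I).map (DRing.toDerivedCompletion I K)) =
      (fun φ : L ⟶ K => φ ≫ DRing.toDerivedCompletion I K) ∘
        (fun g : L ⟶ (DRing.RgammaI I).obj K => g ≫ (DRing.RgammaIε I).app K) := by
    funext g
    simp only [Function.comp_apply, Category.assoc]
    congr 1
    exact (DRing.RgammaIε I).naturality (DRing.toDerivedCompletion I K)
  rw [← e] at b3
  exact (Function.Bijective.of_comp_iff' b2 _).1 b3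

/-- the derived completion inverts `RΓ_I K ⟶ K` -/
theorem isIso_derivedCompletion_map_eps [DRing.HasDerivedCompletion I] (K : Dual.D A) :
    IsIso ((DRing.derivedCompletion I).map ((DRing.RgammaIε I).app K)) := by
  refine isIso_of_bijective_precomp (fun _ : DRing.DComp I => True) _ trivial trivial
    (fun L _ => ?_)
  have b := Groth.Agent.Lib.Helper21.RGe.bijective_eps_comp I K L.obj L.property
  let adj := DRing.derivedCompletionAdj I
  have e : (fun g : (DRing.derivedCompletion I).obj K ⟶ L =>
      (DRing.derivedCompletion I).map ((DRing.RgammaIε I).app K) ≫ g) =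
      (adj.homEquiv _ L).symm ∘
        (fun g : K ⟶ L.obj => (DRing.RgammaIε I).app K ≫ g) ∘ (adj.homEquiv K L) := by
    funext g
    simp only [Function.comp_apply]
    rw [Equiv.eq_symm_apply, Adjunction.homEquiv_naturality_left]
    rfl
  have hb := (adj.homEquiv _ L).symm.bijective.comp (b.comp (adj.homEquiv K L).bijective)
  rw [← e] at hb
  exact hb

omit [IsNoetherianRing A] [DRing.HasRgammaI I] in
/-- the unit of derived completion is an isomorphism on derived complete objects -/
theorem isIso_toDerivedCompletion_of_isDerivedComplete [DRing.HasDerivedCompletion I]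
    (K : Dual.D A) (hK : DRing.IsDerivedComplete I K) :
    IsIso (DRing.toDerivedCompletion I K) := by
  have h : (ObjectProperty.ι (DRing.IsDerivedComplete I)).essImage K :=
    ⟨⟨K, hK⟩, ⟨Iso.refl _⟩⟩
  exact (Adjunction.isIso_unit_app_iff_mem_essImage (DRing.derivedCompletionAdj I)).2 h

end GM

end Groth.Agent.Lib.Helper18.DR
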