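import Mathlib
import Groth.Agent.Lib.Helper18.DCmp8
import Groth.Agent.Lib.Helper18.DRInd

/-!
# Dévissage for the finiteness of the cohomology of derived completions (helper18)
-/

set_option autoImplicit false
set_option linter.style.haveILetI false
universe u
open CategoryTheory CategoryTheory.Limits CategoryTheory.Pretriangulated DerivedCategory

attribute [local instance] HasDerivedCategory.standard

namespace Groth.Agent.Lib.Helper18.DR

namespace GM

variable {A : Type u} [CommRing A]

/-- derived completion of a distinguished triangle -/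
theorem exists_triangle_derivedCompletion (s : Finset A)
    [DRing.HasDerivedCompletion (Ideal.span (s : Set A))] (T : Triangle (Dual.D A))
    (hT : T ∈ distTriang (Dual.D A)) :
    ∃ (C' : Dual.D A)
      (p' : ((DRing.derivedCompletion (Ideal.span (s : Set A))).obj T.obj₂).obj ⟶ C')
      (q' : C' ⟶ (((DRing.derivedCompletion (Ideal.span (s : Set A))).obj T.obj₁).obj)⟦(1 : ℤ)⟧),
      Triangle.mk ((DRing.derivedCompletion (Ideal.span (s : Set A))).map T.mor₁).hom p' q' ∈
        distTriang (Dual.D A) ∧
      Nonempty (C' ≅ ((DRing.derivedCompletion (Ideal.span (s : Set A))).obj T.obj₃).obj) := by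
  obtain ⟨C', p', q', hT'⟩ := distinguished_cocone_triangle
    ((DRing.derivedCompletion (Ideal.span (s : Set A))).map T.mor₁).hom
  refine ⟨C', p', q', hT', ?_⟩
  have comm : T.mor₁ ≫ DRing.toDerivedCompletion (Ideal.span (s : Set A)) T.obj₂ =
      DRing.toDerivedCompletion (Ideal.span (s : Set A)) T.obj₁ ≫
        ((DRing.derivedCompletion (Ideal.span (s : Set A))).map T.mor₁).hom :=
    (DRing.derivedCompletionAdj (Ideal.span (s : Set A))).unit.naturality T.mor₁
  obtain ⟨γ, hγ⟩ := exists_univ_cone (Ideal.span (s : Set A))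
    (isUniv_toDerivedCompletion _ T.obj₁) (isUniv_toDerivedCompletion _ T.obj₂) T _ hT hT'
    rfl rfl rfl rfl
    (by
      change T.mor₁ ≫ 𝟙 _ ≫ DRing.toDerivedCompletion (Ideal.span (s : Set A)) T.obj₂ ≫ 𝟙 _ =
        𝟙 _ ≫ DRing.toDerivedCompletion (Ideal.span (s : Set A)) T.obj₁ ≫ 𝟙 _ ≫
          ((DRing.derivedCompletion (Ideal.span (s : Set A))).map T.mor₁).hom
      simp only [Category.id_comp, Category.comp_id]
      exact comm)
  change IsUniv (Ideal.span (s : Set A)) (γ : T.obj₃ ⟶ C') at hγ
  have hC' : DRing.IsDerivedComplete (Ideal.span (s : Set A)) C' := by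
    rw [isDerivedComplete_span_iff]
    intro f hf
    exact fc_obj₃ _ hT'
      ((isDerivedComplete_span_iff s _).1
        ((DRing.derivedCompletion (Ideal.span (s : Set A))).obj T.obj₁).property f hf)
      ((isDerivedComplete_span_iff s _).1
        ((DRing.derivedCompletion (Ideal.span (s : Set A))).obj T.obj₂).property f hf)
  obtain ⟨e, -⟩ := nonempty_iso_of_universal
    (P := fun L => DRing.IsDerivedComplete (Ideal.span (s : Set A)) L) γ
    (DRing.toDerivedCompletion (Ideal.span (s : Set A)) T.obj₃) hC'
    ((DRing.derivedCompletion (Ideal.span (s : Set A))).obj T.obj₃).property hγ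
    (fun L hL => bijective_toDerivedCompletion_comp _ _ L hL)
  exact ⟨e⟩

variable [IsNoetherianRing A]

/-- finite cohomology: two out of three, middle term -/
lemma finite_HD_obj₂ {T : Triangle (Dual.D A)} (hT : T ∈ distTriang (Dual.D A))
    (h₁ : ∀ i : ℤ, Module.Finite A (Dual.HD A T.obj₁ i))
    (h₃ : ∀ i : ℤ, Module.Finite A (Dual.HD A T.obj₃ i)) (i : ℤ) :
    Module.Finite A (Dual.HD A T.obj₂ i) := by
  have hex := HomologySequence.exact₂ T hT i
  rw [ShortComplex.moduleCat_exact_iff_range_eq_ker] at hex
  haveI := h₁ i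
  haveI := h₃ i
  haveI : IsNoetherian A ((H A i).obj T.obj₁) := isNoetherian_of_isNoetherianRing_of_finite A _
  haveI : IsNoetherian A ((H A i).obj T.obj₃) := isNoetherian_of_isNoetherianRing_of_finite A _
  haveI : IsNoetherian A ((H A i).obj T.obj₂) := isNoetherian_of_range_eq_ker _ _ hex
  exact Module.IsNoetherian.finite A _

/-- dévissage: the derived completion of a bounded complex has finite cohomology if the derived
completions of its (shifted) cohomology modules do -/
theorem finite_HD_derivedCompletion_devissage (I : Ideal A) (s : Finset A)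
    (hs : Ideal.span (s : Set A) = I) [DRing.HasDerivedCompletion I] (K : Dual.D A) (a b : ℤ)
    (hK : ∀ i : ℤ, (i < a ∨ b < i) → IsZero ((H A i).obj K))
    (h : ∀ i : ℤ, a ≤ i → i ≤ b → ∀ j : ℤ, Module.Finite A
      (Dual.HD A ((DRing.derivedCompletion I).obj (Sg i ((H A i).obj K))).obj j)) (j : ℤ) :
    Module.Finite A (Dual.HD A ((DRing.derivedCompletion I).obj K).obj j) := by
  subst hs
  refine cohomological_induction (fun X : Dual.D A => ∀ j : ℤ, Module.Finite A
      (Dual.HD A ((DRing.derivedCompletion (Ideal.span (s : Set A))).obj X).obj j))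
    ?_ ?_ ?_ K a b hK h j
  · intro X Y e hX j
    haveI := hX j
    let e' : ((DRing.derivedCompletion (Ideal.span (s : Set A))).obj X).obj ≅
        ((DRing.derivedCompletion (Ideal.span (s : Set A))).obj Y).obj :=
      (ObjectProperty.ι (DRing.IsDerivedComplete (Ideal.span (s : Set A)))).mapIso
        ((DRing.derivedCompletion (Ideal.span (s : Set A))).mapIso e)
    exact Module.Finite.equiv ((H A j).mapIso e').toLinearEquiv
  · intro X hX j
    have hz := exists_iso_derivedCompletion s X j
      (fun p _ _ => (H A p).map_isZero hX)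
    haveI : Subsingleton (Dual.HD A
        ((DRing.derivedCompletion (Ideal.span (s : Set A))).obj X).obj j) :=
      ModuleCat.subsingleton_of_isZero hz
    exact Module.Finite.of_finite
  · intro T hT h1 h3 j
    obtain ⟨C', p', q', hT', ⟨e⟩⟩ := exists_triangle_derivedCompletion s T hT
    refine finite_HD_obj₂ hT' h1 (fun i => ?_) j
    haveI := h3 i
    exact Module.Finite.equiv ((H A i).mapIso e).toLinearEquiv.symm

end GM

end Groth.Agent.Lib.Helper18.DR
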