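import Mathlib
import Groth.Agent.Lib.Helper18.LDualO
import Groth.Agent.Lib.Helper18.LDualN

/-!
# Derived completion of complexes with Artinian cohomology has finite cohomology (helper18)
-/

set_option autoImplicit false
set_option linter.style.haveILetI false
universe u
open CategoryTheory CategoryTheory.Limits CategoryTheory.Pretriangulated HomologicalComplex
  DerivedCategory MonoidalCategory CochainComplex

attribute [local instance] HasDerivedCategory.standard

namespace Groth.Agent.Lib.Helper18.DR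

namespace GM

open LDual

variable {A : Type u} [CommRing A] [IsLocalRing A] [IsNoetherianRing A]
  [IsAdicComplete (IsLocalRing.maximalIdeal A) A] (ω : Dual.D A) (hω : Dual.IsDualizing A ω)
  (hn : Dual.IsNormalized A ω) (E : Type u) [AddCommGroup E] [Module A E]
  (f : IsLocalRing.ResidueField A →ₗ[A] E) (hf : InjHull.IsInjectiveHull f)
  [DRing.HasRgammaI (IsLocalRing.maximalIdeal A)]
  [DRing.HasDerivedCompletion (IsLocalRing.maximalIdeal A)]

/-- the single complex on `E` -/
noncomputable abbrev S0E (A : Type u) [CommRing A] (E : Type u) [AddCommGroup E] [Module A E] :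
    DRing.Cx A :=
  (CochainComplex.singleFunctor (ModuleCat.{u} A) 0).obj (ModuleCat.of A E)

include hω hn hf in
/-- finiteness of the cohomology of the derived completion of the Matlis dual of a complex with
finite cohomology -/
theorem finite_HD_derivedCompletion_matlisDual (X : DRing.Cx A)
    (hX : ∀ i : ℤ, Module.Finite A (Dual.HD A (DerivedCategory.Q.obj X) i)) (j : ℤ) :
    Module.Finite A (Dual.HD A ((DRing.derivedCompletion (IsLocalRing.maximalIdeal A)).obj
      (DerivedCategory.Q.obj (DRing.homCx X (S0E A E)))).obj j) := by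
  classical
  haveI : Module.Injective A E := hf.isInjective
  haveI : Injective (ModuleCat.of A E) := Module.injective_object_of_injective_module A E
  obtain ⟨s, hs⟩ := (IsNoetherian.noetherian (IsLocalRing.maximalIdeal A) :
    (IsLocalRing.maximalIdeal A).FG)
  have hl : Ideal.span {x : A | x ∈ s.toList} = IsLocalRing.maximalIdeal A := by
    rw [← hs]
    congr 1
    ext x
    simp
  obtain ⟨e0⟩ := nonempty_HD_derivedCompletion_homCx_equiv (IsLocalRing.maximalIdeal A)
    s.toList hl X (S0E A E) j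
  let RM := (DRing.RgammaI (IsLocalRing.maximalIdeal A)).obj (DerivedCategory.Q.obj X)
  let κ : (DerivedCategory.Q.obj (S0E A E))⟦j⟧ ≅ Sg (-j) (ModuleCat.of A E) :=
    (CategoryTheory.shiftFunctor (Dual.D A) j).mapIso
      ((DerivedCategory.singleFunctorIsoCompQ (ModuleCat.{u} A) 0).app (ModuleCat.of A E)).symm ≪≫
      SgShiftIso j (-j) 0 (by omega) (ModuleCat.of A E)
  let L2 : (RM ⟶ (DerivedCategory.Q.obj (S0E A E))⟦j⟧) ≃ₗ[A] (RM ⟶ Sg (-j) (ModuleCat.of A E)) :=
    Linear.homCongr A (Iso.refl RM) κ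
  let L3 : (RM ⟶ Sg (-j) (ModuleCat.of A E)) ≃ₗ[A] ((H A (-j)).obj RM ⟶ ModuleCat.of A E) :=
    LinearEquiv.ofBijective
      (Groth.Agent.Lib.Helper21.RGj.homToSgLin (-j) (ModuleCat.of A E) RM)
      (Groth.Agent.Lib.Helper21.RGj.homToSgLin_bijective (-j) (ModuleCat.of A E) RM)
  let L4 : ((H A (-j)).obj RM ⟶ ModuleCat.of A E) ≃ₗ[A] (Dual.HD A RM (-j) →ₗ[A] E) :=
    ModuleCat.homLinearEquiv
  obtain ⟨e5⟩ := Groth.Agent.Lib.Helper21.RGg.nonempty_HD_RgammaI_equiv_HDI
    (I := IsLocalRing.maximalIdeal A) (q := -j) (DerivedCategory.Q.obj X)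
  obtain ⟨L⟩ := Groth.Agent.Lib.Helper21.RGj.local_duality_complete_complex ω hω hn E f hf
    (DerivedCategory.Q.obj X) (-j)
  have hfid : DRing.HasFiniteInjDim A ω :=
    (hasFiniteInjDim_iff ω).2 hω.finite_injective_dimension
  haveI : Module.Finite A (DerivedCategory.Q.obj X ⟶ ω⟦-(-j)⟧) :=
    finite_hom_shift_of_finiteInjDim _ ω hX hω.finite_cohomology hfid (-(-j))
  exact Module.Finite.equiv
    (e0.trans (L2.trans (L3.trans (L4.trans
      ((LinearEquiv.arrowCongr e5 (LinearEquiv.refl A E)).trans L.symm))))).symm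

include hω hn hf in
/-- the module case -/
theorem finite_HD_derivedCompletion_Sg_of_isArtinian (N : Type u) [AddCommGroup N] [Module A N]
    [IsArtinian A N] (i j : ℤ) :
    Module.Finite A (Dual.HD A ((DRing.derivedCompletion (IsLocalRing.maximalIdeal A)).obj
      (Sg i (ModuleCat.of A N))).obj j) := by
  haveI : Module.Injective A E := hf.isInjective
  haveI : Injective (ModuleCat.of A E) := Module.injective_object_of_injective_module A E
  obtain ⟨hF, hbij⟩ := Groth.Agent.S0317.result A E f hf N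
  haveI := hF
  let F : ModuleCat.{u} A := ModuleCat.of A (N →ₗ[A] E)
  let β : N ≃ₗ[A] ((N →ₗ[A] E) →ₗ[A] E) := LinearEquiv.ofBijective _ hbij
  obtain ⟨X, hP, -, ⟨eX⟩⟩ := exists_kprojective_resolution (Sg (-i) F)
  haveI := hP
  -- cohomology of `Hom•(X, E)`
  have hH : ∀ p : ℤ, Nonempty (Dual.HD A (DerivedCategory.Q.obj (DRing.homCx X (S0E A E))) p ≃ₗ[A]
      ((H A (-p)).obj (Sg (-i) F) ⟶ ModuleCat.of A E)) := by
    intro p
    let κ : (DerivedCategory.Q.obj (S0E A E))⟦p⟧ ≅ Sg (-p) (ModuleCat.of A E) :=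
      (CategoryTheory.shiftFunctor (Dual.D A) p).mapIso
        ((DerivedCategory.singleFunctorIsoCompQ (ModuleCat.{u} A) 0).app
          (ModuleCat.of A E)).symm ≪≫
        SgShiftIso p (-p) 0 (by omega) (ModuleCat.of A E)
    exact ⟨(HomCxM.homologyEquiv X (S0E A E) (p - 1) p (p + 1) (by omega) rfl).trans
      ((Linear.homCongr A eX κ).trans
        (LinearEquiv.ofBijective
          (Groth.Agent.Lib.Helper21.RGj.homToSgLin (-p) (ModuleCat.of A E) (Sg (-i) F))
          (Groth.Agent.Lib.Helper21.RGj.homToSgLin_bijective (-p) (ModuleCat.of A E)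
            (Sg (-i) F))))⟩
  have hz : ∀ q : ℤ, q ≠ i →
      Subsingleton (Dual.HD A (DerivedCategory.Q.obj (DRing.homCx X (S0E A E))) q) := by
    intro q hq
    obtain ⟨e⟩ := hH q
    have h0 : IsZero ((H A (-q)).obj (Sg (-i) F)) := by
      rcases lt_or_gt_of_ne hq with h | h
      · exact isZero_of_isLE (Sg (-i) F) (-i) (-q) (by omega)
      · exact isZero_of_isGE (Sg (-i) F) (-i) (-q) (by omega)
    haveI : Subsingleton ((H A (-q)).obj (Sg (-i) F) ⟶ ModuleCat.of A E) :=
      ⟨fun a b => h0.eq_of_src a b⟩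
    exact e.toEquiv.subsingleton
  have h0 : Nonempty (Dual.HD A (DerivedCategory.Q.obj (DRing.homCx X (S0E A E))) i ≃ₗ[A]
      (ModuleCat.of A N)) := by
    obtain ⟨e⟩ := hH i
    let e' : ((H A (-i)).obj (Sg (-i) F) ⟶ ModuleCat.of A E) ≃ₗ[A]
        ((N →ₗ[A] E) →ₗ[A] E) :=
      (Linear.homCongr A (HSg (-i) F) (Iso.refl _)).trans ModuleCat.homLinearEquiv
    exact ⟨e.trans (e'.trans β.symm)⟩
  obtain ⟨eY⟩ := nonempty_iso_Sg_of_HD' _ i (ModuleCat.of A N) h0 hz
  have hXfin : ∀ p : ℤ, Module.Finite A (Dual.HD A (DerivedCategory.Q.obj X) p) := by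
    intro p
    by_cases hp : p = -i
    · subst hp
      exact Module.Finite.equiv
        (((H A (-i)).mapIso eX ≪≫ HSg (-i) F).toLinearEquiv).symm
    · have h0 : IsZero ((H A p).obj (Sg (-i) F)) := by
        rcases lt_or_gt_of_ne hp with h | h
        · exact isZero_of_isGE (Sg (-i) F) (-i) p h
        · exact isZero_of_isLE (Sg (-i) F) (-i) p h
      haveI : Subsingleton (Dual.HD A (DerivedCategory.Q.obj X) p) :=
        ModuleCat.subsingleton_of_isZero (h0.of_iso ((H A p).mapIso eX))
      exact Module.Finite.of_finite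
  have hfin := finite_HD_derivedCompletion_matlisDual ω hω hn E f hf X hXfin j
  let e' : ((DRing.derivedCompletion (IsLocalRing.maximalIdeal A)).obj
      (DerivedCategory.Q.obj (DRing.homCx X (S0E A E)))).obj ≅
      ((DRing.derivedCompletion (IsLocalRing.maximalIdeal A)).obj
        (Sg i (ModuleCat.of A N))).obj :=
    (ObjectProperty.ι (DRing.IsDerivedComplete (IsLocalRing.maximalIdeal A))).mapIso
      ((DRing.derivedCompletion (IsLocalRing.maximalIdeal A)).mapIso eY)
  haveI := hfin
  exact Module.Finite.equiv ((H A j).mapIso e').toLinearEquiv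

include hω hn in
/-- (b1): the derived completion of a bounded complex with Artinian cohomology has finite
cohomology -/
theorem finite_HD_derivedCompletion_of_isArtinian (K : Dual.D A) (a b : ℤ)
    (hK : ∀ i : ℤ, (i < a ∨ b < i) → IsZero ((H A i).obj K))
    (hart : ∀ i : ℤ, IsArtinian A (Dual.HD A K i)) (j : ℤ) :
    Module.Finite A (Dual.HD A
      ((DRing.derivedCompletion (IsLocalRing.maximalIdeal A)).obj K).obj j) := by
  obtain ⟨E, _, _, f, hf⟩ :=
    Groth.Agent.Lib.Helper1.InjHullLib.exists_injective_hull A (IsLocalRing.ResidueField A)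
  obtain ⟨s, hs⟩ := (IsNoetherian.noetherian (IsLocalRing.maximalIdeal A) :
    (IsLocalRing.maximalIdeal A).FG)
  refine finite_HD_derivedCompletion_devissage (IsLocalRing.maximalIdeal A) s hs K a b hK
    (fun i _ _ p => ?_) j
  haveI := hart i
  exact finite_HD_derivedCompletion_Sg_of_isArtinian ω hω hn E f hf (Dual.HD A K i) i p

end GM

end Groth.Agent.Lib.Helper18.DR
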