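import Mathlib
import Groth.Agent.Lib.Helper18.LDualP
import Groth.Agent.Lib.Helper18.LDualL

/-!
# S19134: the Greenlees–May equivalence between bounded coherent and bounded cofinite complexes
(helper18)
-/

set_option autoImplicit false
set_option linter.style.haveILetI false
universe u
open CategoryTheory CategoryTheory.Limits CategoryTheory.Pretriangulated HomologicalComplex
  DerivedCategory MonoidalCategory CochainComplex

attribute [local instance] HasDerivedCategory.standard

namespace Groth.Agent.Lib.Helper18.DR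

namespace GM

open LDual

variable {A : Type u} [CommRing A]

/-- boundedness of the derived completion -/
theorem isZero_H_derivedCompletion (I : Ideal A) (s : Finset A)
    (hs : Ideal.span (s : Set A) = I) [DRing.HasDerivedCompletion I] (K : Dual.D A) (i : ℤ)
    (h : ∀ j : ℤ, i ≤ j → j ≤ i + s.card → IsZero ((H A j).obj K)) :
    IsZero ((H A i).obj ((DRing.derivedCompletion I).obj K).obj) := by
  subst hs
  exact exists_iso_derivedCompletion s K i h

variable [IsLocalRing A] [IsNoetherianRing A]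
  [IsAdicComplete (IsLocalRing.maximalIdeal A) A] (ω : Dual.D A) (hω : Dual.IsDualizing A ω)
  (hn : Dual.IsNormalized A ω)
  [DRing.HasRgammaI (IsLocalRing.maximalIdeal A)]
  [DRing.HasDerivedCompletion (IsLocalRing.maximalIdeal A)]

include hω hn in
/-- part (a) -/
theorem partA (M : Dual.D A) (hfin : ∀ i : ℤ, Module.Finite A (Dual.HD A M i))
    (hbd : ∃ a b : ℤ, ∀ i : ℤ, (i < a ∨ b < i) → Subsingleton (Dual.HD A M i)) :
    (∃ a b : ℤ, ∀ i : ℤ, (i < a ∨ b < i) →
      Subsingleton (Dual.HD A ((DRing.RgammaI (IsLocalRing.maximalIdeal A)).obj M) i)) ∧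
    (∀ i : ℤ, LocCoh.IsPowerTorsion (IsLocalRing.maximalIdeal A)
        (Dual.HD A ((DRing.RgammaI (IsLocalRing.maximalIdeal A)).obj M) i) ∧
      Module.Finite A ↥(LocCoh.torsionBy (IsLocalRing.maximalIdeal A)
        (Dual.HD A ((DRing.RgammaI (IsLocalRing.maximalIdeal A)).obj M) i))) ∧
    IsIso ((DRing.derivedCompletion (IsLocalRing.maximalIdeal A)).map
      ((DRing.RgammaIε (IsLocalRing.maximalIdeal A)).app M)) ∧
    IsIso (DRing.toDerivedCompletion (IsLocalRing.maximalIdeal A) M) := by
  refine ⟨exists_bounds_HD_RgammaI ω hω hn M hfin hbd, fun i => ?_,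
    isIso_derivedCompletion_map_eps _ M, ?_⟩
  · haveI := isArtinian_HD_RgammaI ω hω hn M hfin i
    exact cofinite_of_isArtinian _
  · refine isIso_toDerivedCompletion_of_isDerivedComplete _ M ?_
    exact (isDerivedComplete_iff_cohomology (IsLocalRing.maximalIdeal A) M).2 (fun j => by
      haveI := hfin j
      haveI := Groth.Agent.Lib.Helper15.FiniteComplete.isAdicComplete_of_finite A
        (Dual.HD A M j)
      exact isDerivedComplete_of_isAdicComplete (IsLocalRing.maximalIdeal A))

include hω hn in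
/-- part (b) -/
theorem partB (K : Dual.D A)
    (hbd : ∃ a b : ℤ, ∀ i : ℤ, (i < a ∨ b < i) → Subsingleton (Dual.HD A K i))
    (hcof : ∀ i : ℤ, LocCoh.IsPowerTorsion (IsLocalRing.maximalIdeal A) (Dual.HD A K i) ∧
      Module.Finite A ↥(LocCoh.torsionBy (IsLocalRing.maximalIdeal A) (Dual.HD A K i))) :
    (∀ i : ℤ, Module.Finite A
      (Dual.HD A ((DRing.derivedCompletion (IsLocalRing.maximalIdeal A)).obj K).obj i)) ∧
    (∃ a b : ℤ, ∀ i : ℤ, (i < a ∨ b < i) → Subsingleton
      (Dual.HD A ((DRing.derivedCompletion (IsLocalRing.maximalIdeal A)).obj K).obj i)) ∧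
    IsIso ((DRing.RgammaI (IsLocalRing.maximalIdeal A)).map
      (DRing.toDerivedCompletion (IsLocalRing.maximalIdeal A) K)) ∧
    IsIso ((DRing.RgammaIε (IsLocalRing.maximalIdeal A)).app K) := by
  obtain ⟨a, b, hab⟩ := hbd
  have hK : ∀ i : ℤ, (i < a ∨ b < i) → IsZero ((H A i).obj K) := fun i hi => by
    haveI := hab i hi
    exact ModuleCat.isZero_of_subsingleton _
  have hart : ∀ i : ℤ, IsArtinian A (Dual.HD A K i) := fun i =>
    isArtinian_of_cofinite _ (hcof i).1 (hcof i).2
  obtain ⟨s, hs⟩ := (IsNoetherian.noetherian (IsLocalRing.maximalIdeal A) :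
    (IsLocalRing.maximalIdeal A).FG)
  refine ⟨fun i => finite_HD_derivedCompletion_of_isArtinian ω hω hn K a b hK hart i,
    ⟨a - s.card, b, fun i hi => ?_⟩,
    isIso_RgammaI_map_toDerivedCompletion _ K,
    isIso_RgammaIε_of_torsion _ K (fun i => (hcof i).1)⟩
  exact ModuleCat.subsingleton_of_isZero
    (isZero_H_derivedCompletion (IsLocalRing.maximalIdeal A) s hs K i
      (fun j hj1 hj2 => hK j (by omega)))

include hω hn in
/-- part (c) -/
theorem partC (N : Type u) [AddCommGroup N] [Module A N]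
    (h1 : LocCoh.IsPowerTorsion (IsLocalRing.maximalIdeal A) N)
    (h2 : Module.Finite A ↥(LocCoh.torsionBy (IsLocalRing.maximalIdeal A) N))
    (i : ℤ) (hi : i ≠ 0) :
    Subsingleton (((DRing.derivedCompletion (IsLocalRing.maximalIdeal A)).obj
      (Dual.inD A N)).obj ⟶ ω⟦i⟧) := by
  haveI : IsArtinian A N := isArtinian_of_cofinite N h1 h2
  obtain ⟨E, _, _, f, hf⟩ :=
    Groth.Agent.Lib.Helper1.InjHullLib.exists_injective_hull A (IsLocalRing.ResidueField A)
  let M' := ((DRing.derivedCompletion (IsLocalRing.maximalIdeal A)).obj (Dual.inD A N)).obj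
  have hfin' : ∀ j : ℤ, Module.Finite A (Dual.HD A M' j) := fun j =>
    finite_HD_derivedCompletion_Sg_of_isArtinian ω hω hn E f hf N 0 j
  have key := (subsingleton_hom_dualizing_iff ω hω hn M' hfin' (-i)).2
  rw [neg_neg] at key
  apply key
  -- `RΓ M' ≅ N[0]`
  haveI := isIso_RgammaI_map_toDerivedCompletion (IsLocalRing.maximalIdeal A) (Dual.inD A N)
  have htors : ∀ j : ℤ, LocCoh.IsPowerTorsion (IsLocalRing.maximalIdeal A)
      (Dual.HD A (Dual.inD A N) j) := by
    intro j
    by_cases hj : j = 0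
    · subst hj
      exact Groth.Agent.Lib.Helper4.LC.isPowerTorsion_of_injective _
        (HSg 0 (ModuleCat.of A N)).hom.hom
        (Groth.Agent.Lib.Helper21.RGb.injective_of_isIso _) h1
    · have h0 : IsZero ((H A j).obj (Sg 0 (ModuleCat.of A N))) := by
        rcases lt_or_gt_of_ne hj with h | h
        · exact isZero_of_isGE (Sg 0 (ModuleCat.of A N)) 0 j h
        · exact isZero_of_isLE (Sg 0 (ModuleCat.of A N)) 0 j h
      haveI : Subsingleton (Dual.HD A (Dual.inD A N) j) := ModuleCat.subsingleton_of_isZero h0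
      intro x
      exact ⟨0, fun a _ => Subsingleton.elim _ _⟩
  haveI := isIso_RgammaIε_of_torsion (IsLocalRing.maximalIdeal A) (Dual.inD A N) htors
  let e : (DRing.RgammaI (IsLocalRing.maximalIdeal A)).obj M' ≅ Dual.inD A N :=
    (asIso ((DRing.RgammaI (IsLocalRing.maximalIdeal A)).map
      (DRing.toDerivedCompletion (IsLocalRing.maximalIdeal A) (Dual.inD A N)))).symm ≪≫
      asIso ((DRing.RgammaIε (IsLocalRing.maximalIdeal A)).app (Dual.inD A N))
  have h0 : IsZero ((H A (-i)).obj (Sg 0 (ModuleCat.of A N))) := by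
    rcases lt_or_gt_of_ne hi with h | h
    · exact isZero_of_isLE (Sg 0 (ModuleCat.of A N)) 0 (-i) (by omega)
    · exact isZero_of_isGE (Sg 0 (ModuleCat.of A N)) 0 (-i) (by omega)
  exact ModuleCat.subsingleton_of_isZero (h0.of_iso ((H A (-i)).mapIso e))

end GM

end Groth.Agent.Lib.Helper18.DR
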