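import Mathlib
import Groth.Agent.Lib.Helper19.SmObsFlat

/-!
# Lifting ideals along a square-zero thickening: local-to-global principle (helper18)

`P` a ring, `𝔍` an ideal, `N₁ ≤ 𝔍` an ideal.  We look for an ideal `J' ≤ 𝔍` with `J' ⊔ N₁ = 𝔍` and
`J' ⊓ N₁ ≤ N₁ * 𝔍`.  Such a `J'` is the same as a `P`-linear section of `𝔍/N₁𝔍 → 𝔍/N₁`, and the existence of a
section is local on `Spec P` (`good_one_of_local`).
-/

set_option autoImplicit false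
set_option linter.style.haveILetI false
universe u

namespace Groth.Agent.Lib.Helper18.LciLift

section Glue

variable {P : Type*} [CommRing P] (𝔍 N₁ : Ideal P)

/-- `s` is good: there is a linear map `G : 𝔍 → P/(N₁𝔍)` killing `N₁` with `G y ≡ s y` mod `N₁`. -/
def Good (s : P) : Prop :=
  ∃ G : 𝔍 →ₗ[P] (P ⧸ (N₁ * 𝔍)), (∀ y : 𝔍, (y : P) ∈ N₁ → G y = 0) ∧
    ∀ y : 𝔍, ∃ z : P, G y = Ideal.Quotient.mk (N₁ * 𝔍) z ∧ z - s * y ∈ N₁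

lemma good_zero : Good 𝔍 N₁ 0 :=
  ⟨0, fun _ _ => rfl, fun _ => ⟨0, by simp, by simp⟩⟩

lemma good_add {s t : P} (hs : Good 𝔍 N₁ s) (ht : Good 𝔍 N₁ t) : Good 𝔍 N₁ (s + t) := by
  obtain ⟨G, hG1, hG2⟩ := hs
  obtain ⟨H, hH1, hH2⟩ := ht
  refine ⟨G + H, fun y hy => ?_, fun y => ?_⟩
  · rw [LinearMap.add_apply, hG1 y hy, hH1 y hy, add_zero]
  · obtain ⟨z, hz, hz'⟩ := hG2 y
    obtain ⟨w, hw, hw'⟩ := hH2 y
    refine ⟨z + w, by rw [LinearMap.add_apply, hz, hw, map_add], ?_⟩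
    have : z + w - (s + t) * y = (z - s * y) + (w - t * y) := by ring
    rw [this]
    exact N₁.add_mem hz' hw'

lemma good_smul (r : P) {s : P} (hs : Good 𝔍 N₁ s) : Good 𝔍 N₁ (r * s) := by
  obtain ⟨G, hG1, hG2⟩ := hs
  refine ⟨r • G, fun y hy => ?_, fun y => ?_⟩
  · rw [LinearMap.smul_apply, hG1 y hy, smul_zero]
  · obtain ⟨z, hz, hz'⟩ := hG2 y
    refine ⟨r * z, ?_, ?_⟩
    · rw [LinearMap.smul_apply, hz, map_mul]
      rfl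
    · have : r * z - r * s * y = r * (z - s * y) := by ring
      rw [this]
      exact N₁.mul_mem_left r hz'

/-- the ideal of good elements -/
def goodIdeal : Ideal P where
  carrier := {s | Good 𝔍 N₁ s}
  add_mem' := fun hs ht => good_add 𝔍 N₁ hs ht
  zero_mem' := good_zero 𝔍 N₁
  smul_mem' := fun r _ hs => good_smul 𝔍 N₁ r hs

/-- local-to-global principle -/
theorem good_one_of_local
    (h : ∀ 𝔪 : Ideal P, 𝔪.IsMaximal → ∃ s, Good 𝔍 N₁ s ∧ s ∉ 𝔪) : Good 𝔍 N₁ 1 := by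
  by_contra hne
  have hne' : goodIdeal 𝔍 N₁ ≠ ⊤ := by
    intro htop
    apply hne
    have : (1 : P) ∈ goodIdeal 𝔍 N₁ := by rw [htop]; trivial
    exact this
  obtain ⟨𝔪, h𝔪, hle⟩ := Ideal.exists_le_maximal _ hne'
  obtain ⟨s, hs, hs'⟩ := h 𝔪 h𝔪
  exact hs' (hle hs)

/-- elements of `𝔍` are good -/
lemma good_of_mem {s : P} (hs : s ∈ 𝔍) : Good 𝔍 N₁ s := by
  refine ⟨(Submodule.mkQ (N₁ * 𝔍)) ∘ₗ (LinearMap.mulLeft P s) ∘ₗ 𝔍.subtype, fun y hy => ?_,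
    fun y => ⟨s * y, rfl, by simp⟩⟩
  change Submodule.Quotient.mk (s * (y : P)) = 0
  rw [Submodule.Quotient.mk_eq_zero]
  exact Ideal.mul_mem_mul_rev hy hs

/-- from `Good 1` to the ideal `J'` -/
theorem exists_ideal_of_good_one (hN : N₁ ≤ 𝔍) (h : Good 𝔍 N₁ 1) :
    ∃ J' : Ideal P, J' ≤ 𝔍 ∧ 𝔍 ≤ J' ⊔ N₁ ∧ J' ⊓ N₁ ≤ N₁ * 𝔍 := by
  obtain ⟨G, hG1, hG2⟩ := h
  let D : 𝔍 →ₗ[P] (P ⧸ (N₁ * 𝔍)) := G - (Submodule.mkQ (N₁ * 𝔍)) ∘ₗ 𝔍.subtype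
  have hD : ∀ y : 𝔍, D y = G y - Ideal.Quotient.mk (N₁ * 𝔍) (y : P) := fun y => rfl
  refine ⟨Submodule.map 𝔍.subtype (LinearMap.ker D), ?_, ?_, ?_⟩
  · rintro _ ⟨y, -, rfl⟩
    exact y.2
  · intro y hy
    obtain ⟨z, hz, hz'⟩ := hG2 ⟨y, hy⟩
    rw [one_mul] at hz'
    change z - y ∈ N₁ at hz'
    have hzy : z - y ∈ 𝔍 := hN hz'
    have hz𝔍 : z ∈ 𝔍 := by
      have : z = (z - y) + y := by ring
      rw [this]
      exact 𝔍.add_mem hzy hy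
    have hGz : G ⟨z, hz𝔍⟩ = Ideal.Quotient.mk (N₁ * 𝔍) z := by
      have h1 : (⟨z, hz𝔍⟩ : 𝔍) = ⟨y, hy⟩ + ⟨z - y, hzy⟩ := by
        apply Subtype.ext
        change z = y + (z - y)
        ring
      rw [h1, map_add, hG1 ⟨z - y, hzy⟩ hz', add_zero, hz]
    have hzJ : z ∈ Submodule.map 𝔍.subtype (LinearMap.ker D) := by
      refine ⟨⟨z, hz𝔍⟩, ?_, rfl⟩
      change D ⟨z, hz𝔍⟩ = 0
      rw [hD, hGz, sub_self]
    have : y = z + (y - z) := by ring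
    rw [this]
    refine Submodule.add_mem_sup hzJ ?_
    have : y - z = -(z - y) := by ring
    rw [this]
    exact N₁.neg_mem hz'
  · rintro y ⟨⟨y', hy', rfl⟩, hyN⟩
    have h0 : D y' = 0 := hy'
    rw [hD, hG1 y' hyN, zero_sub, neg_eq_zero] at h0
    exact Ideal.Quotient.eq_zero_iff_mem.1 h0

/-- descent of an approximate decomposition -/
theorem good_of_approx (g : P) (𝔊₀ : Ideal P) (e b : ℕ)
    (he : ∀ y ∈ 𝔍, g ^ e * y ∈ 𝔊₀ ⊔ N₁)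
    (hb : ∀ y ∈ 𝔊₀ ⊓ N₁, g ^ b * y ∈ N₁ * 𝔍) : Good 𝔍 N₁ (g ^ (e + b)) := by
  classical
  have hdec : ∀ y : 𝔍, ∃ γ ∈ 𝔊₀, ∃ κ ∈ N₁, γ + κ = g ^ e * (y : P) := fun y =>
    Submodule.mem_sup.1 (he y y.2)
  choose γf hγ κf hκ hsum using hdec
  have wd : ∀ γ ∈ 𝔊₀, ∀ γ' ∈ 𝔊₀, ∀ κ ∈ N₁, ∀ κ' ∈ N₁, γ + κ = γ' + κ' →
      Ideal.Quotient.mk (N₁ * 𝔍) (g ^ b * γ) = Ideal.Quotient.mk (N₁ * 𝔍) (g ^ b * γ') := by
    intro γ hγ1 γ' hγ2 κ hκ1 κ' hκ2 hs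
    rw [Ideal.Quotient.eq, ← mul_sub]
    apply hb
    refine ⟨𝔊₀.sub_mem hγ1 hγ2, ?_⟩
    have : γ - γ' = κ' - κ := by linear_combination hs
    rw [this]
    exact N₁.sub_mem hκ2 hκ1
  let G : 𝔍 →ₗ[P] (P ⧸ (N₁ * 𝔍)) :=
    { toFun := fun y => Ideal.Quotient.mk (N₁ * 𝔍) (g ^ b * γf y)
      map_add' := fun y y' => by
        rw [← map_add, ← mul_add]
        refine wd (γf (y + y')) (hγ _) (γf y + γf y') (𝔊₀.add_mem (hγ y) (hγ y'))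
          (κf (y + y')) (hκ _) (κf y + κf y') (N₁.add_mem (hκ y) (hκ y')) ?_
        rw [hsum]
        have h1 := hsum y
        have h2 := hsum y'
        change g ^ e * ((y : P) + (y' : P)) = _
        linear_combination -h1 - h2
      map_smul' := fun r y => by
        change _ = r • Ideal.Quotient.mk (N₁ * 𝔍) (g ^ b * γf y)
        rw [Algebra.smul_def, Ideal.Quotient.algebraMap_eq, ← map_mul]
        have h3 : r * (g ^ b * γf y) = g ^ b * (r * γf y) := by ring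
        rw [h3]
        refine wd (γf (r • y)) (hγ _) (r * γf y) (𝔊₀.mul_mem_left r (hγ y))
          (κf (r • y)) (hκ _) (r * κf y) (N₁.mul_mem_left r (hκ y)) ?_
        rw [hsum]
        have h1 := hsum y
        change g ^ e * (r * (y : P)) = _
        linear_combination -r * h1 }
  have hGdef : ∀ y : 𝔍, G y = Ideal.Quotient.mk (N₁ * 𝔍) (g ^ b * γf y) := fun y => rfl
  refine ⟨G, fun y hy => ?_, fun y => ?_⟩
  · rw [hGdef]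
    have := wd _ (hγ y) 0 𝔊₀.zero_mem _ (hκ y) (g ^ e * (y : P)) (N₁.mul_mem_left _ hy)
      (by rw [hsum, zero_add])
    rw [this, mul_zero, map_zero]
  · refine ⟨g ^ b * γf y, hGdef y, ?_⟩
    have h1 := hsum y
    have : g ^ b * γf y - g ^ (e + b) * (y : P) = -(g ^ b * κf y) := by
      rw [pow_add]
      linear_combination g ^ b * h1
    rw [this]
    exact N₁.neg_mem (N₁.mul_mem_left _ (hκ y))

/-- uniform exponents on a finitely generated ideal -/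
theorem exists_pow_uniform (g : P) (𝔞 𝔟 : Ideal P) (hfg : 𝔞.FG)
    (h : ∀ y ∈ 𝔞, ∃ n : ℕ, g ^ n * y ∈ 𝔟) : ∃ N : ℕ, ∀ y ∈ 𝔞, g ^ N * y ∈ 𝔟 := by
  classical
  obtain ⟨s, rfl⟩ := hfg
  have h' : ∀ y : s, ∃ n : ℕ, g ^ n * (y : P) ∈ 𝔟 := fun y =>
    h y (Ideal.subset_span y.2)
  choose nf hnf using h'
  refine ⟨s.attach.sup nf, fun y hy => ?_⟩
  let 𝔠 : Ideal P := Submodule.comap (LinearMap.mulLeft P (g ^ s.attach.sup nf)) 𝔟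
  have hle : Ideal.span (s : Set P) ≤ 𝔠 := by
    rw [Ideal.span_le]
    intro x hx
    change g ^ s.attach.sup nf * x ∈ 𝔟
    have hle' : nf ⟨x, hx⟩ ≤ s.attach.sup nf := Finset.le_sup (Finset.mem_attach s ⟨x, hx⟩)
    obtain ⟨d, hd⟩ := Nat.exists_eq_add_of_le hle'
    rw [hd, pow_add, mul_comm (g ^ nf ⟨x, hx⟩), mul_assoc]
    exact 𝔟.mul_mem_left _ (hnf ⟨x, hx⟩)
  exact hle hy

end Glue

section Flat

open Groth.Agent.Lib.Helper19.SmObs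

variable {B : Type u} [CommRing B] (𝔫 K : Ideal B)
  {P : Type u} [CommRing P] [Algebra B P]

local notation "𝔫P" => Ideal.map (algebraMap B P) 𝔫
local notation "KP" => Ideal.map (algebraMap B P) K

/-- flatness of the lifted quotient -/
theorem flat_quot_of_lift [Module.Flat B P] [𝔫.IsMaximal] (h𝔫 : IsNilpotent 𝔫) (hK𝔫 : K ≤ 𝔫)
    (hKK : K * 𝔫 = ⊥) (𝔍 J' : Ideal P) (hJ' : J' ≤ 𝔍) (hsup : 𝔍 ≤ J' ⊔ KP)
    (hinf : J' ⊓ KP ≤ KP * 𝔍) (hG2 : 𝔍 ⊓ 𝔫P ≤ 𝔫P * 𝔍 ⊔ KP) :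
    Module.Flat B (P ⧸ J') := by
  have hKP𝔫P : KP * 𝔫P = ⊥ := by
    rw [← Ideal.map_mul, hKK, Ideal.map_bot]
  have hKPle : KP ≤ 𝔫P := Ideal.map_mono hK𝔫
  have h1 : 𝔫P * 𝔍 ≤ 𝔫P * J' := by
    calc 𝔫P * 𝔍 ≤ 𝔫P * (J' ⊔ KP) := Ideal.mul_mono_right hsup
      _ = 𝔫P * J' ⊔ 𝔫P * KP := Ideal.mul_sup _ _ _
      _ = 𝔫P * J' := by rw [mul_comm 𝔫P KP, hKP𝔫P, sup_bot_eq]
  have h2 : KP * 𝔍 ≤ 𝔫P * J' := (Ideal.mul_mono_left hKPle).trans h1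
  refine flat_of_ker_inter 𝔫 h𝔫 (Ideal.Quotient.mkₐ B J').toLinearMap
    (Ideal.Quotient.mkₐ_surjective B _) ?_
  have hker : LinearMap.ker (Ideal.Quotient.mkₐ B J').toLinearMap = J'.restrictScalars B := by
    ext z
    rw [LinearMap.mem_ker, Submodule.restrictScalars_mem]
    exact Ideal.Quotient.eq_zero_iff_mem
  intro y hy hy'
  rw [hker] at hy ⊢
  rw [Submodule.restrictScalars_mem] at hy
  rw [Ideal.smul_top_eq_map, Submodule.restrictScalars_mem] at hy'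
  rw [← Ideal.smul_restrictScalars, Submodule.restrictScalars_mem, smul_eq_mul]
  have h3 : y ∈ 𝔫P * 𝔍 ⊔ KP := hG2 ⟨hJ' hy, hy'⟩
  obtain ⟨y₁, hy₁, κ, hκ, rfl⟩ := Submodule.mem_sup.1 h3
  have hy₁' : y₁ ∈ 𝔫P * J' := h1 hy₁
  have hy₁J : y₁ ∈ J' := Ideal.mul_le_right hy₁'
  have hκJ : κ ∈ J' := by
    have : κ = (y₁ + κ) - y₁ := by ring
    rw [this]
    exact J'.sub_mem hy hy₁J
  have hκ' : κ ∈ 𝔫P * J' := h2 (hinf ⟨hκJ, hκ⟩)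
  exact Ideal.add_mem _ hy₁' hκ'

end Flat

end Groth.Agent.Lib.Helper18.LciLift
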