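import Mathlib
import Groth.Prelude.Def_LCI2
import Groth.Agent.Lib.Helper18.LciLiftA
import Groth.Agent.Lib.Helper14.KoszulLiftNilp
import Groth.Agent.Lib.Helper1.RegComp

/-!
# Lifting ideals along a square-zero thickening: the local step (helper18)

Locally where the closed fibre is cut out by a Koszul-regular sequence, lifting the sequence gives a flat lift of the ideal
(`good_of_koszul`).
-/

set_option autoImplicit false
set_option linter.style.haveILetI false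
universe u

namespace Groth.Agent.Lib.Helper18.LciLift

section Loc

variable {P : Type*} [CommRing P] (g : P)

lemma exists_pow_mul_mem_of_map (𝔞 : Ideal P) (y : P)
    (h : algebraMap P (Localization.Away g) y ∈ 𝔞.map (algebraMap P (Localization.Away g))) :
    ∃ n : ℕ, g ^ n * y ∈ 𝔞 := by
  obtain ⟨m, ⟨n, rfl⟩, hm⟩ :=
    (IsLocalization.algebraMap_mem_map_algebraMap_iff (Submonoid.powers g) _ 𝔞 y).1 h
  exact ⟨n, hm⟩

end Loc

section Local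

variable {B : Type u} [CommRing B] (𝔫 K : Ideal B) {P : Type u} [CommRing P] [Algebra B P]
  {Pk : Type u} [CommRing Pk] (ρ : P →+* Pk) (g : P)

local notation "𝓑" => Localization.Away g
local notation "𝓚" => Localization.Away (ρ g)
local notation "𝔫P" => Ideal.map (algebraMap B P) 𝔫
local notation "KP" => Ideal.map (algebraMap B P) K
local notation "α" => algebraMap P (Localization.Away g)

theorem exists_list_lift {S T : Type*} [CommRing S] [CommRing T] (φ : S →+* T) (I : Ideal S) :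
    ∀ l : List T, (∀ x ∈ l, ∃ y ∈ I, φ y = x) → ∃ rs : List S, rs.map φ = l ∧ ∀ y ∈ rs, y ∈ I := by
  intro l
  induction l with
  | nil => intro _; exact ⟨[], rfl, fun y hy => absurd hy (List.not_mem_nil)⟩
  | cons x l ih =>
    intro h
    obtain ⟨rs, hrs, hrs'⟩ := ih (fun z hz => h z (List.mem_cons_of_mem _ hz))
    obtain ⟨y, hy, hyx⟩ := h x List.mem_cons_self
    refine ⟨y :: rs, by rw [List.map_cons, hyx, hrs], fun z hz => ?_⟩
    rcases List.mem_cons.1 hz with rfl | hz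
    · exact hy
    · exact hrs' z hz

theorem good_of_koszul [Module.Flat B P] [IsNoetherianRing P] [𝔫.IsMaximal] (h𝔫 : IsNilpotent 𝔫)
    (hρ : Function.Surjective ρ) (hker : RingHom.ker ρ = 𝔫P)
    (𝔍 : Ideal P)
    (hG2 : 𝔍 ⊓ 𝔫P ≤ 𝔫P * 𝔍 ⊔ KP)
    (l₀ : List 𝓚) (hl₀ : LCI.IsKoszulRegularSeq 𝓚 l₀)
    (hspan : (𝔍.map ρ).map (algebraMap Pk 𝓚) = Ideal.span {x | x ∈ l₀}) :
    ∃ N : ℕ, Good 𝔍 KP (g ^ N) := by
  classical
  haveI : Module.Flat P 𝓑 := IsLocalization.flat _ (Submonoid.powers g)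
  haveI : Module.Flat B 𝓑 := Module.Flat.trans B P _
  let ρg : 𝓑 →+* 𝓚 := Localization.awayMap ρ g
  have hcomm : ∀ y : P, ρg (α y) = algebraMap Pk 𝓚 (ρ y) := fun y => IsLocalization.map_eq _ y
  have hcomm' : ρg.comp α = (algebraMap Pk 𝓚).comp ρ := RingHom.ext hcomm
  have hρg_surj : Function.Surjective ρg := by
    rw [Localization.awayMap_surjective_iff]
    intro a
    obtain ⟨b, rfl⟩ := hρ a
    exact ⟨b, 0, by simp⟩
  have h𝔫𝓑 : Ideal.map (algebraMap B 𝓑) 𝔫 = (𝔫P).map α := by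
    rw [Ideal.map_map, ← IsScalarTower.algebraMap_eq]
  have hK𝓑 : Ideal.map (algebraMap B 𝓑) K = (KP).map α := by
    rw [Ideal.map_map, ← IsScalarTower.algebraMap_eq]
  have hρg_ker : RingHom.ker ρg = Ideal.map (algebraMap B 𝓑) 𝔫 := by
    have h1 := IsLocalization.ker_map (S := 𝓑) 𝓚 ρ (Submonoid.map_powers ρ g)
    rw [hker] at h1
    rw [h𝔫𝓑]
    exact h1
  let e : (𝓑 ⧸ Ideal.map (algebraMap B 𝓑) 𝔫) ≃+* 𝓚 :=
    (Ideal.quotEquivOfEq hρg_ker.symm).trans (RingHom.quotientKerEquivOfSurjective hρg_surj)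
  have he : ∀ a : 𝓑, e (Ideal.Quotient.mk _ a) = ρg a := fun a => rfl
  -- lift the sequence
  have hmapmap : (𝔍.map α).map ρg = (𝔍.map ρ).map (algebraMap Pk 𝓚) := by
    rw [Ideal.map_map, Ideal.map_map, hcomm']
  have hlift : ∀ x ∈ l₀, ∃ y ∈ 𝔍.map α, ρg y = x := by
    intro x hx
    have hx' : x ∈ (𝔍.map α).map ρg := by
      rw [hmapmap, hspan]
      exact Ideal.subset_span hx
    exact (Ideal.mem_map_iff_of_surjective ρg hρg_surj).1 hx'
  obtain ⟨rs, hrs, hrs'⟩ := exists_list_lift ρg (𝔍.map α) l₀ hlift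
  have hreg' : LCI.IsKoszulRegularSeq (𝓑 ⧸ Ideal.map (algebraMap B 𝓑) 𝔫)
      (rs.map (Ideal.Quotient.mk (Ideal.map (algebraMap B 𝓑) 𝔫))) := by
    have h1 := Groth.Agent.Lib.Helper1.RegComp.isKoszulRegularSeq_map_ringEquiv e.symm l₀ hl₀
    have h2 : l₀.map e.symm = rs.map (Ideal.Quotient.mk (Ideal.map (algebraMap B 𝓑) 𝔫)) := by
      rw [← hrs, List.map_map]
      apply List.map_congr_left
      intro a _
      change e.symm (ρg a) = _
      rw [← he, e.symm_apply_apply]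
    rwa [h2] at h1
  haveI hfl0 : Module.Flat (B ⧸ 𝔫) ((𝓑 ⧸ Ideal.map (algebraMap B 𝓑) 𝔫) ⧸
      Ideal.ofList (rs.map (Ideal.Quotient.mk (Ideal.map (algebraMap B 𝓑) 𝔫)))) := by
    letI : Field (B ⧸ 𝔫) := Ideal.Quotient.field 𝔫
    infer_instance
  obtain ⟨-, hflat⟩ := Groth.Agent.Lib.Helper14.KoszulFun.isKoszulRegularSeq_lift_nilp
    (A := B) (B := 𝓑) 𝔫 h𝔫 rs hreg'
  -- the ideal generated by the lifted sequence
  let 𝔊 : Ideal 𝓑 := Ideal.ofList rs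
  have h𝔊le : 𝔊 ≤ 𝔍.map α := Ideal.span_le.2 (fun y hy => hrs' y hy)
  have h𝔊map : 𝔊.map ρg = (𝔍.map α).map ρg := by
    rw [hmapmap, hspan]
    change (Ideal.ofList rs).map ρg = _
    rw [← Groth.Agent.Lib.Helper1.RegComp.ofList_map, hrs]
  -- (i)
  have hi : 𝔊 ⊓ Ideal.map (algebraMap B 𝓑) K ≤ Ideal.map (algebraMap B 𝓑) K * 𝔊 := by
    haveI : Module.Flat B (𝓑 ⧸ 𝔊.restrictScalars B) :=
      Module.Flat.of_linearEquiv (Submodule.Quotient.restrictScalarsEquiv B 𝔊)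
    have h1 := Groth.Agent.Lib.Helper14.KoszulFun.inf_smul_top_le_smul_of_flat K
      (𝔊.restrictScalars B)
    rintro x ⟨hx1, hx2⟩
    have h2 : x ∈ 𝔊.restrictScalars B ⊓ K • (⊤ : Submodule B 𝓑) := by
      refine ⟨hx1, ?_⟩
      rw [Ideal.smul_top_eq_map]
      exact hx2
    have h3 := h1 h2
    rw [← Ideal.smul_restrictScalars, Submodule.restrictScalars_mem, smul_eq_mul] at h3
    exact h3
  -- (ii)
  have hG2loc : 𝔍.map α ⊓ Ideal.map (algebraMap B 𝓑) 𝔫 ≤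
      Ideal.map (algebraMap B 𝓑) 𝔫 * 𝔍.map α ⊔ Ideal.map (algebraMap B 𝓑) K := by
    rw [h𝔫𝓑, hK𝓑, ← IsLocalization.map_inf (Submonoid.powers g) 𝓑, ← Ideal.map_mul, ← Ideal.map_sup]
    exact Ideal.map_mono hG2
  have hnil𝓑 : IsNilpotent (Ideal.map (algebraMap B 𝓑) 𝔫) := by
    obtain ⟨n, hn⟩ := h𝔫
    refine ⟨n, ?_⟩
    rw [← Ideal.map_pow, hn]
    exact Ideal.map_bot
  have hii : 𝔍.map α ≤ 𝔊 ⊔ Ideal.map (algebraMap B 𝓑) K := by
    refine Submodule.le_of_le_smul_of_le_jacobson_bot (I := Ideal.map (algebraMap B 𝓑) 𝔫)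
      (IsNoetherian.noetherian (𝔍.map α))
      (Groth.Agent.Lib.Helper14.KoszulFun.le_jacobson_bot_of_isNilpotent _ hnil𝓑) ?_
    intro x hx
    have hx' : ρg x ∈ 𝔊.map ρg := by
      rw [h𝔊map]
      exact Ideal.mem_map_of_mem _ hx
    obtain ⟨γ, hγ, hγx⟩ := (Ideal.mem_map_iff_of_surjective ρg hρg_surj).1 hx'
    have hd1 : x - γ ∈ Ideal.map (algebraMap B 𝓑) 𝔫 := by
      rw [← hρg_ker, RingHom.mem_ker, map_sub, hγx, sub_self]
    have hd2 : x - γ ∈ 𝔍.map α := (𝔍.map α).sub_mem hx (h𝔊le hγ)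
    have hd3 := hG2loc ⟨hd2, hd1⟩
    obtain ⟨d₁, hd₁, d₂, hd₂, hdd⟩ := Submodule.mem_sup.1 hd3
    have : x = (γ + d₂) + d₁ := by
      have : x = γ + (x - γ) := by ring
      rw [this, ← hdd]
      ring
    rw [this]
    refine Submodule.add_mem_sup (Submodule.add_mem_sup hγ hd₂) ?_
    rw [smul_eq_mul]
    exact hd₁
  -- descent
  let 𝔊₀ : Ideal P := 𝔊.comap α ⊓ 𝔍
  have h𝔊₀le : 𝔊₀ ≤ 𝔍 := inf_le_right
  have h𝔊₀map : 𝔊₀.map α = 𝔊 := by
    change (𝔊.comap α ⊓ 𝔍).map α = 𝔊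
    have h1 : (𝔊.comap α).map α = 𝔊 := IsLocalization.map_under (Submonoid.powers g) 𝓑 𝔊
    rw [IsLocalization.map_inf (Submonoid.powers g) 𝓑, h1]
    exact inf_eq_left.2 h𝔊le
  have he1 : ∀ y ∈ 𝔍, ∃ n : ℕ, g ^ n * y ∈ 𝔊₀ ⊔ KP := by
    intro y hy
    apply exists_pow_mul_mem_of_map
    rw [Ideal.map_sup, h𝔊₀map, ← hK𝓑]
    exact hii (Ideal.mem_map_of_mem _ hy)
  have hb1 : ∀ y ∈ 𝔊₀ ⊓ KP, ∃ n : ℕ, g ^ n * y ∈ KP * 𝔍 := by
    rintro y ⟨hy1, hy2⟩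
    have h1 : α y ∈ 𝔊 ⊓ Ideal.map (algebraMap B 𝓑) K := by
      refine ⟨?_, ?_⟩
      · rw [← h𝔊₀map]
        exact Ideal.mem_map_of_mem _ hy1
      · rw [hK𝓑]
        exact Ideal.mem_map_of_mem _ hy2
    have h2 := hi h1
    rw [hK𝓑, ← h𝔊₀map, ← Ideal.map_mul] at h2
    obtain ⟨n, hn⟩ := exists_pow_mul_mem_of_map g _ y h2
    exact ⟨n, Ideal.mul_mono_right h𝔊₀le hn⟩
  obtain ⟨e', he'⟩ := exists_pow_uniform g 𝔍 _ (IsNoetherian.noetherian 𝔍) he1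
  obtain ⟨b', hb'⟩ := exists_pow_uniform g (𝔊₀ ⊓ KP) _ (IsNoetherian.noetherian _) hb1
  exact ⟨e' + b', good_of_approx 𝔍 KP g 𝔊₀ e' b' he' hb'⟩

end Local

end Groth.Agent.Lib.Helper18.LciLift
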