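import Mathlib
import Groth.Prelude.Def_LCI2
import Groth.Agent.Lib.Helper18.LciLiftB

/-!
# Lifting flat deformations of local complete intersections along small extensions (helper18)

`exists_lift`: `B → A` a surjection of rings, `B` local with nilpotent maximal ideal `𝔫` killing the kernel `K`,
`R` a flat `A`-algebra with `R/𝔫R ≅ A₀`, `A₀ = k[x]/I₀` with `I₀` Koszul-regular.  Then there is a flat `B`-algebra `R'`
with `R'/KR' ≅ R`.
-/

set_option autoImplicit false
set_option linter.style.haveILetI false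
universe u

namespace Groth.Agent.Lib.Helper18.LciLift

open Groth.Agent.Lib.Helper19.SmObs

section Main

variable {B A R A₀ k : Type u} [CommRing B] [IsLocalRing B] [CommRing A] [Algebra B A]
  [CommRing R] [Algebra A R] [Algebra B R] [IsScalarTower B A R] [Module.Flat A R]
  [Field k] [CommRing A₀] [Algebra k A₀]

theorem exists_lift [IsNoetherianRing B]
    (hnil : IsNilpotent (IsLocalRing.maximalIdeal B))
    (hBA : Function.Surjective (algebraMap B A))
    (hK : IsLocalRing.maximalIdeal B * RingHom.ker (algebraMap B A) = ⊥)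
    (hKle : RingHom.ker (algebraMap B A) ≤ IsLocalRing.maximalIdeal B)
    (res : B →+* k) (hres : Function.Surjective res)
    (π : R →+* A₀) (hπ : Function.Surjective π)
    (hπker : RingHom.ker π = (IsLocalRing.maximalIdeal B).map (algebraMap B R))
    (hcomp : ∀ b, π (algebraMap B R b) = algebraMap k A₀ (res b))
    (n : ℕ) (f : MvPolynomial (Fin n) k →ₐ[k] A₀) (hf : Function.Surjective f)
    (hreg : LCI.IsKoszulRegularIdeal (RingHom.ker f.toRingHom)) :
    ∃ (R' : Type u) (_ : CommRing R') (_ : Algebra B R') (_ : Module.Flat B R') (q : R' →+* R),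
      (∀ b, q (algebraMap B R' b) = algebraMap B R b) ∧ Function.Surjective q ∧
      RingHom.ker q = (RingHom.ker (algebraMap B A)).map (algebraMap B R') := by
  classical
  let 𝔫 : Ideal B := IsLocalRing.maximalIdeal B
  let K : Ideal B := RingHom.ker (algebraMap B A)
  have hkerres : RingHom.ker res = 𝔫 :=
    IsLocalRing.eq_maximalIdeal (RingHom.ker_isMaximal_of_surjective res hres)
  choose r hr using fun i : Fin n => hπ (f (MvPolynomial.X i))
  let φA : MvPolynomial (Fin n) A →ₐ[A] R := MvPolynomial.aeval r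
  let φ : MvPolynomial (Fin n) B →ₐ[B] R := MvPolynomial.aeval r
  let μs : MvPolynomial (Fin n) B →+* MvPolynomial (Fin n) A := MvPolynomial.map (algebraMap B A)
  let ρ : MvPolynomial (Fin n) B →+* MvPolynomial (Fin n) k := MvPolynomial.map res
  have hμs_surj : Function.Surjective μs := MvPolynomial.map_surjective _ hBA
  have hρ_surj : Function.Surjective ρ := MvPolynomial.map_surjective _ hres
  have hφμ : ∀ y, φA (μs y) = φ y := fun y => MvPolynomial.aeval_map_algebraMap A r y
  have hπφ' : π.comp φ.toRingHom = f.toRingHom.comp ρ := by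
    apply MvPolynomial.ringHom_ext
    · intro b
      change π (φ (MvPolynomial.C b)) = f (ρ (MvPolynomial.C b))
      rw [MvPolynomial.aeval_C, hcomp, MvPolynomial.map_C, ← MvPolynomial.algebraMap_eq,
        f.commutes]
    · intro i
      change π (φ (MvPolynomial.X i)) = f (ρ (MvPolynomial.X i))
      rw [MvPolynomial.aeval_X, hr, MvPolynomial.map_X]
  have hπφ : ∀ y, π (φ y) = f (ρ y) := fun y => RingHom.congr_fun hπφ' y
  have h𝔫R : (𝔫 • (⊤ : Submodule B R)) = (Ideal.map (algebraMap B R) 𝔫).restrictScalars B :=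
    Ideal.smul_top_eq_map 𝔫
  -- (G3)
  have hφ_surj : Function.Surjective φ := by
    have h1 : LinearMap.range φ.toLinearMap = ⊤ := by
      apply eq_top_of_top_le_sup_smul _ 𝔫 hnil
      intro x _
      obtain ⟨z, hz⟩ := hf (π x)
      obtain ⟨y, rfl⟩ := hρ_surj z
      have hx : x - φ y ∈ RingHom.ker π := by
        rw [RingHom.mem_ker, map_sub, hπφ, hz, sub_self]
      rw [hπker] at hx
      have : x = φ y + (x - φ y) := by ring
      rw [this]
      refine Submodule.add_mem_sup ⟨y, rfl⟩ ?_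
      rw [h𝔫R]
      exact hx
    intro x
    have : x ∈ LinearMap.range φ.toLinearMap := by rw [h1]; trivial
    exact this
  have hφA_surj : Function.Surjective φA := by
    intro x
    obtain ⟨y, rfl⟩ := hφ_surj x
    exact ⟨μs y, hφμ y⟩
  let 𝔍 : Ideal (MvPolynomial (Fin n) B) := RingHom.ker φ.toRingHom
  let JA : Ideal (MvPolynomial (Fin n) A) := RingHom.ker φA.toRingHom
  have hmem𝔍 : ∀ y, y ∈ 𝔍 ↔ φ y = 0 := fun y => RingHom.mem_ker
  have hmemJA : ∀ y, y ∈ JA ↔ φA y = 0 := fun y => RingHom.mem_ker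
  have hker_ρ : RingHom.ker ρ = Ideal.map (algebraMap B (MvPolynomial (Fin n) B)) 𝔫 := by
    rw [MvPolynomial.algebraMap_eq, ← hkerres]
    exact MvPolynomial.ker_map res
  have hker_μs : RingHom.ker μs = Ideal.map (algebraMap B (MvPolynomial (Fin n) B)) K := by
    rw [MvPolynomial.algebraMap_eq]
    exact MvPolynomial.ker_map (algebraMap B A)
  -- (G0)
  have hG0 : Ideal.map (algebraMap B (MvPolynomial (Fin n) B)) K ≤ 𝔍 := by
    rw [← hker_μs]
    intro y hy
    rw [hmem𝔍, ← hφμ, RingHom.mem_ker.1 hy, map_zero]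
  -- (G1)
  have h𝔫Rφ : Ideal.map (algebraMap B R) 𝔫 =
      (Ideal.map (algebraMap B (MvPolynomial (Fin n) B)) 𝔫).map φ.toRingHom := by
    rw [Ideal.map_map]
    refine congrArg (fun g => Ideal.map g 𝔫) (RingHom.ext fun b => ?_)
    exact (φ.commutes b).symm
  have hG1 : 𝔍.map ρ = RingHom.ker f.toRingHom := by
    apply le_antisymm
    · rw [Ideal.map_le_iff_le_comap]
      intro y hy
      rw [Ideal.mem_comap, RingHom.mem_ker]
      change f (ρ y) = 0
      rw [← hπφ, (hmem𝔍 y).1 hy, map_zero]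
    · intro z hz
      obtain ⟨y, rfl⟩ := hρ_surj z
      have h1 : φ y ∈ RingHom.ker π := by
        rw [RingHom.mem_ker, hπφ]
        exact hz
      rw [hπker, h𝔫Rφ] at h1
      obtain ⟨y'', hy'', hyy⟩ := (Ideal.mem_map_iff_of_surjective φ.toRingHom hφ_surj).1 h1
      have h2 : y - y'' ∈ 𝔍 := by
        rw [hmem𝔍, map_sub]
        change φ y - φ.toRingHom y'' = 0
        rw [hyy, sub_self]
      have h3 : ρ y'' = 0 := by
        rw [← hker_ρ] at hy''
        exact hy''
      have h4 : ρ y = ρ (y - y'') := by rw [map_sub, h3, sub_zero]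
      rw [h4]
      exact Ideal.mem_map_of_mem _ h2
  -- (G2)
  have hG2 : 𝔍 ⊓ Ideal.map (algebraMap B (MvPolynomial (Fin n) B)) 𝔫 ≤
      Ideal.map (algebraMap B (MvPolynomial (Fin n) B)) 𝔫 * 𝔍 ⊔
        Ideal.map (algebraMap B (MvPolynomial (Fin n) B)) K := by
    let 𝔫A : Ideal A := Ideal.map (algebraMap B A) 𝔫
    haveI : Module.Flat A (MvPolynomial (Fin n) A ⧸ JA) :=
      Module.Flat.of_linearEquiv (Ideal.quotientKerAlgEquivOfSurjective hφA_surj).toLinearEquiv
    haveI : Module.Flat A (MvPolynomial (Fin n) A ⧸ JA.restrictScalars A) :=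
      Module.Flat.of_linearEquiv (Submodule.Quotient.restrictScalarsEquiv A JA)
    have h1 := Groth.Agent.Lib.Helper14.KoszulFun.inf_smul_top_le_smul_of_flat 𝔫A
      (JA.restrictScalars A)
    have hmap𝔫 : (Ideal.map (algebraMap B (MvPolynomial (Fin n) B)) 𝔫).map μs =
        Ideal.map (algebraMap A (MvPolynomial (Fin n) A)) 𝔫A := by
      rw [Ideal.map_map, Ideal.map_map]
      refine congrArg (fun g => Ideal.map g 𝔫) (RingHom.ext fun b => ?_)
      change μs (algebraMap B _ b) = algebraMap A _ (algebraMap B A b)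
      rw [MvPolynomial.algebraMap_eq, MvPolynomial.algebraMap_eq]
      exact MvPolynomial.map_C _ _
    have hmap𝔍 : 𝔍.map μs = JA := by
      have : 𝔍 = JA.comap μs := by
        ext y
        rw [Ideal.mem_comap, hmem𝔍, hmemJA, hφμ]
      rw [this]
      exact Ideal.map_comap_of_surjective μs hμs_surj JA
    rintro y ⟨hy1, hy2⟩
    have h2 : μs y ∈ JA.restrictScalars A ⊓ 𝔫A • (⊤ : Submodule A (MvPolynomial (Fin n) A)) := by
      refine Submodule.mem_inf.2 ⟨?_, ?_⟩
      · rw [Submodule.restrictScalars_mem, hmemJA, hφμ]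
        exact (hmem𝔍 y).1 hy1
      · rw [Ideal.smul_top_eq_map, Submodule.restrictScalars_mem, ← hmap𝔫]
        exact Ideal.mem_map_of_mem _ hy2
    have h3 := h1 h2
    rw [← Ideal.smul_restrictScalars, Submodule.restrictScalars_mem, smul_eq_mul, ← hmap𝔫, ← hmap𝔍,
      ← Ideal.map_mul] at h3
    obtain ⟨y', hy', hyy⟩ := (Ideal.mem_map_iff_of_surjective μs hμs_surj).1 h3
    have h4 : y - y' ∈ Ideal.map (algebraMap B (MvPolynomial (Fin n) B)) K := by
      rw [← hker_μs, RingHom.mem_ker, map_sub, hyy, sub_self]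
    have : y = y' + (y - y') := by ring
    rw [this]
    exact Submodule.add_mem_sup hy' h4
  -- nilpotent ideals lie in primes
  have hnilP : IsNilpotent (Ideal.map (algebraMap B (MvPolynomial (Fin n) B)) 𝔫) := by
    obtain ⟨m, hm⟩ := hnil
    refine ⟨m, ?_⟩
    rw [← Ideal.map_pow]
    change Ideal.map _ (IsLocalRing.maximalIdeal B ^ m) = 0
    rw [hm]
    exact Ideal.map_bot
  -- the local-to-global step
  have hgood : Good 𝔍 (Ideal.map (algebraMap B (MvPolynomial (Fin n) B)) K) 1 := by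
    apply good_one_of_local
    intro 𝔪 h𝔪
    by_cases h𝔍𝔪 : 𝔍 ≤ 𝔪
    · have hle : RingHom.ker ρ ≤ 𝔪 := by
        rw [hker_ρ]
        intro x hx
        obtain ⟨m, hm⟩ := hnilP
        have h0 : x ^ m ∈ Ideal.map (algebraMap B (MvPolynomial (Fin n) B)) 𝔫 ^ m :=
          Ideal.pow_mem_pow hx m
        rw [hm] at h0
        have h1 : x ^ m = 0 := h0
        exact h𝔪.isPrime.mem_of_pow_mem m (by rw [h1]; exact 𝔪.zero_mem)
      haveI := h𝔪.isPrime
      have hprime : (𝔪.map ρ).IsPrime := Ideal.map_isPrime_of_surjective hρ_surj hle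
      have hI₀ : RingHom.ker f.toRingHom ≤ 𝔪.map ρ := by
        rw [← hG1]
        exact Ideal.map_mono h𝔍𝔪
      obtain ⟨g₀, hg₀, l₀, hl₀, hspan⟩ := hreg ⟨𝔪.map ρ, hprime⟩ hI₀
      obtain ⟨g, rfl⟩ := hρ_surj g₀
      have hg : g ∉ 𝔪 := fun h => hg₀ (Ideal.mem_map_of_mem ρ h)
      rw [← hG1] at hspan
      obtain ⟨N, hN⟩ := good_of_koszul 𝔫 K ρ g hnil hρ_surj hker_ρ 𝔍 hG2 l₀ hl₀ hspan
      exact ⟨g ^ N, hN, fun h => hg (h𝔪.isPrime.mem_of_pow_mem N h)⟩
    · obtain ⟨s, hs, hs'⟩ := SetLike.not_le_iff_exists.1 h𝔍𝔪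
      exact ⟨s, good_of_mem 𝔍 _ hs, hs'⟩
  obtain ⟨J', hJ'le, hsup, hinf⟩ := exists_ideal_of_good_one 𝔍 _ hG0 hgood
  have hKK : K * 𝔫 = ⊥ := by rw [mul_comm]; exact hK
  have hflat : Module.Flat B (MvPolynomial (Fin n) B ⧸ J') :=
    flat_quot_of_lift 𝔫 K hnil hKle hKK 𝔍 J' hJ'le hsup hinf hG2
  let q : (MvPolynomial (Fin n) B ⧸ J') →+* R :=
    Ideal.Quotient.lift J' φ.toRingHom (fun y hy => (hmem𝔍 y).1 (hJ'le hy))
  have hq : ∀ y, q (Ideal.Quotient.mk J' y) = φ y := fun y => rfl
  refine ⟨MvPolynomial (Fin n) B ⧸ J', inferInstance, inferInstance, hflat, q, ?_, ?_, ?_⟩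
  · intro b
    change q (Ideal.Quotient.mk J' (algebraMap B _ b)) = _
    rw [hq]
    exact φ.commutes b
  · intro x
    obtain ⟨y, rfl⟩ := hφ_surj x
    exact ⟨Ideal.Quotient.mk J' y, hq y⟩
  · have hmapK : Ideal.map (algebraMap B (MvPolynomial (Fin n) B ⧸ J')) K =
        (Ideal.map (algebraMap B (MvPolynomial (Fin n) B)) K).map (Ideal.Quotient.mk J') := by
      rw [Ideal.map_map]
      rfl
    apply le_antisymm
    · intro x hx
      obtain ⟨y, rfl⟩ := Ideal.Quotient.mk_surjective x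
      rw [RingHom.mem_ker, hq] at hx
      have hy : y ∈ J' ⊔ Ideal.map (algebraMap B (MvPolynomial (Fin n) B)) K :=
        hsup ((hmem𝔍 y).2 hx)
      obtain ⟨j, hj, κ, hκ, rfl⟩ := Submodule.mem_sup.1 hy
      rw [hmapK, map_add, Ideal.Quotient.eq_zero_iff_mem.2 hj, zero_add]
      exact Ideal.mem_map_of_mem _ hκ
    · rw [Ideal.map_le_iff_le_comap]
      intro b hb
      rw [Ideal.mem_comap, RingHom.mem_ker]
      change q (Ideal.Quotient.mk J' (algebraMap B _ b)) = 0
      rw [hq, φ.commutes, IsScalarTower.algebraMap_apply B A R, RingHom.mem_ker.1 hb, map_zero]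

end Main

end Groth.Agent.Lib.Helper18.LciLift
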