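import Mathlib
import Groth.Agent.Lib.Helper18.DRQis

/-!
# Free resolutions of bounded above complexes of modules over a noncommutative ring (helper18)

A port of `DRRes` to `Ring R` (for S1047).
-/

set_option autoImplicit false
set_option linter.style.haveILetI false
universe u
open CategoryTheory CategoryTheory.Limits

namespace Groth.Agent.Lib.Helper18.NC

open Groth.Agent.Lib.Helper18.DR (shortComplex_quasiIso_of_elementwise)

lemma isIso_of_isZero_isZero {C : Type*} [Category C] [HasZeroMorphisms C] {X Y : C} (f : X ⟶ Y)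
    (hX : IsZero X) (hY : IsZero Y) : IsIso f :=
  ⟨0, hX.eq_of_src _ _, hY.eq_of_src _ _⟩

variable {R : Type u} [Ring R]

/-- a free cover of a module, finite if the module is finite -/
structure FreeCover (M : Type u) [AddCommGroup M] [Module R M] where
  F : Type u
  [acg : AddCommGroup F]
  [mod : Module R F]
  q : F →ₗ[R] M
  free : Module.Free R F
  surj : Function.Surjective q
  fin : Module.Finite R M → Module.Finite R F

attribute [instance] FreeCover.acg FreeCover.mod

lemma nonempty_freeCover (M : Type u) [AddCommGroup M] [Module R M] :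
    Nonempty (FreeCover (R := R) M) := by
  by_cases h : Module.Finite R M
  · obtain ⟨n, f, hf⟩ := Module.Finite.exists_fin' R M
    exact ⟨{ F := Fin n → R, q := f, free := inferInstance, surj := hf,
             fin := fun _ => inferInstance }⟩
  · exact ⟨{ F := M →₀ R, q := Finsupp.linearCombination R id, free := inferInstance,
             surj := Finsupp.linearCombination_id_surjective R M,
             fin := fun h' => absurd h' h }⟩

section Cover

variable {X T Y Y' : Type u} [AddCommGroup X] [Module R X] [AddCommGroup T] [Module R T]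
  [AddCommGroup Y] [Module R Y] [AddCommGroup Y'] [Module R Y']

/-- the module `W = {(e, k) | e ∈ Z, a e = δ k}` -/
def covW (Z : Submodule R X) (a : X →ₗ[R] T) (δ : Y →ₗ[R] T) : Submodule R (X × Y) :=
  Z.comap (LinearMap.fst R X Y) ⊓
    LinearMap.eqLocus (a ∘ₗ LinearMap.fst R X Y) (δ ∘ₗ LinearMap.snd R X Y)

lemma mem_covW (Z : Submodule R X) (a : X →ₗ[R] T) (δ : Y →ₗ[R] T) (p : X × Y) :
    p ∈ covW Z a δ ↔ p.1 ∈ Z ∧ a p.1 = δ p.2 := Iff.rfl

/-- the map `Y' → W`, `k' ↦ (0, δ' k')` -/
def covBMap (Z : Submodule R X) (a : X →ₗ[R] T) (δ : Y →ₗ[R] T) (δ' : Y' →ₗ[R] Y)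
    (hδ : ∀ k', δ (δ' k') = 0) : Y' →ₗ[R] covW Z a δ :=
  LinearMap.codRestrict _ ((LinearMap.inr R X Y) ∘ₗ δ') (fun k' => by
    rw [mem_covW]
    simp [hδ k'])

/-- one step of the resolution -/
structure Cover (Z : Submodule R X) (a : X →ₗ[R] T) (δ : Y →ₗ[R] T) (δ' : Y' →ₗ[R] Y) where
  X' : Type u
  [acg : AddCommGroup X']
  [mod : Module R X']
  d : X' →ₗ[R] X
  a' : X' →ₗ[R] Y
  free : Module.Free R X'
  hd : ∀ x, d x ∈ Z
  comm : ∀ x, a (d x) = δ (a' x)
  cover : ∀ e ∈ Z, ∀ k : Y, a e = δ k → ∃ (x' : X') (k' : Y'), d x' = e ∧ a' x' = k + δ' k'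
  fin : ∀ N : Submodule R X', (∀ x ∈ N, d x = 0 ∧ ∃ k', a' x = δ' k') →
    Module.Finite R (X' ⧸ N) → Module.Finite R X'

attribute [instance] Cover.acg Cover.mod

lemma nonempty_cover (Z : Submodule R X) (a : X →ₗ[R] T) (δ : Y →ₗ[R] T) (δ' : Y' →ₗ[R] Y)
    (hδ : ∀ k', δ (δ' k') = 0) : Nonempty (Cover Z a δ δ') := by
  obtain ⟨fc⟩ := nonempty_freeCover (R := R) (covW Z a δ ⧸ LinearMap.range (covBMap Z a δ δ' hδ))
  haveI := fc.free
  obtain ⟨ℓ, hℓ⟩ := Module.projective_lifting_property
    (LinearMap.range (covBMap Z a δ δ' hδ)).mkQ fc.q (Submodule.mkQ_surjective _)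
  have hℓ' : ∀ x, Submodule.Quotient.mk (ℓ x) = fc.q x := fun x => congr($hℓ x)
  refine ⟨{ X' := fc.F
            d := LinearMap.fst R X Y ∘ₗ (covW Z a δ).subtype ∘ₗ ℓ
            a' := LinearMap.snd R X Y ∘ₗ (covW Z a δ).subtype ∘ₗ ℓ
            free := fc.free
            hd := fun x => (ℓ x).2.1
            comm := fun x => (ℓ x).2.2
            cover := ?_
            fin := ?_ }⟩
  · intro e he k hk
    obtain ⟨x', hx'⟩ := fc.surj (Submodule.Quotient.mk ⟨(e, k), ⟨he, hk⟩⟩)
    rw [← hℓ', Submodule.Quotient.eq] at hx'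
    obtain ⟨k', hk'⟩ := hx'
    have h1 := congrArg (fun w : covW Z a δ => (w : X × Y).1) hk'
    have h2 := congrArg (fun w : covW Z a δ => (w : X × Y).2) hk'
    simp only [covBMap, LinearMap.codRestrict_apply, LinearMap.comp_apply, LinearMap.inr_apply,
      Submodule.coe_sub, Prod.fst_sub, Prod.snd_sub] at h1 h2
    refine ⟨x', k', ?_, ?_⟩
    · simp only [LinearMap.comp_apply, LinearMap.fst_apply, Submodule.subtype_apply]
      exact (sub_eq_zero.mp h1.symm)
    · simp only [LinearMap.comp_apply, LinearMap.snd_apply, Submodule.subtype_apply]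
      rw [h2]; abel
  · intro N hN hfin
    apply fc.fin
    have hle : N ≤ LinearMap.ker fc.q := by
      intro x hx
      obtain ⟨h1, k', h2⟩ := hN x hx
      rw [LinearMap.mem_ker, ← hℓ', Submodule.Quotient.mk_eq_zero]
      refine ⟨k', Subtype.ext (Prod.ext ?_ ?_)⟩
      · exact h1.symm
      · exact h2.symm
    exact Module.Finite.of_surjective (N.liftQ fc.q hle) (by
      intro h
      obtain ⟨x, rfl⟩ := fc.surj h
      exact ⟨Submodule.Quotient.mk x, rfl⟩)

end Cover

section Rec

variable (L : ChainComplex (ModuleCat.{u} R) ℕ)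

/-- state of the recursion at level `j` -/
structure St (j : ℕ) where
  X : Type u
  [acg : AddCommGroup X]
  [mod : Module R X]
  Z : Submodule R X
  a : X →ₗ[R] L.X j
  free : Module.Free R X

attribute [instance] St.acg St.mod

lemma cx_d_comp_d_apply (i j k : ℕ) (x : L.X i) : (L.d j k).hom ((L.d i j).hom x) = 0 := by
  have := L.d_comp_d i j k
  exact congr($this x)

/-- the cover used to pass from level `j` to level `j+1` -/
noncomputable def stepCover {j : ℕ} (s : St L j) :
    Cover s.Z s.a (L.d (j + 1) j).hom (L.d (j + 2) (j + 1)).hom :=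
  Classical.choice (nonempty_cover _ _ _ _ (fun k' => cx_d_comp_d_apply L _ _ _ k'))

/-- the next state -/
noncomputable def next {j : ℕ} (s : St L j) : St L (j + 1) where
  X := (stepCover L s).X'
  Z := LinearMap.ker (stepCover L s).d
  a := (stepCover L s).a'
  free := (stepCover L s).free

/-- the differential from the next state -/
noncomputable def nextD {j : ℕ} (s : St L j) : (next L s).X →ₗ[R] s.X := (stepCover L s).d

/-- the cover used at level `0` -/
noncomputable def cover0 :
    Cover (⊤ : Submodule R PUnit.{u + 1}) (0 : PUnit.{u + 1} →ₗ[R] PUnit.{u + 1})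
      (0 : L.X 0 →ₗ[R] PUnit.{u + 1}) (L.d 1 0).hom :=
  Classical.choice (nonempty_cover _ _ _ _ (fun _ => rfl))

/-- the state at level `0` -/
noncomputable def st0 : St L 0 where
  X := (cover0 L).X'
  Z := ⊤
  a := (cover0 L).a'
  free := (cover0 L).free

/-- the states -/
noncomputable def st : ∀ j : ℕ, St L j
  | 0 => st0 L
  | j + 1 => next L (st j)

/-- terms of the resolution -/
noncomputable def resX (j : ℕ) : ModuleCat.{u} R := ModuleCat.of R (st L j).X

/-- differentials of the resolution -/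
noncomputable def resD (j : ℕ) : resX L (j + 1) ⟶ resX L j := ModuleCat.ofHom (nextD L (st L j))

lemma resD_comp (j : ℕ) : resD L (j + 1) ≫ resD L j = 0 := by
  ext x
  exact (stepCover L (st L (j + 1))).hd x

/-- the resolution -/
noncomputable def res : ChainComplex (ModuleCat.{u} R) ℕ :=
  ChainComplex.of (resX L) (resD L) (resD_comp L)

lemma res_d (j : ℕ) : (res L).d (j + 1) j = resD L j := ChainComplex.of_d _ _ _

/-- the map from the resolution -/
noncomputable def resMap : res L ⟶ L where
  f j := ModuleCat.ofHom (st L j).a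
  comm' i j h := by
    obtain rfl : j + 1 = i := h
    rw [res_d]
    ext x
    exact ((stepCover L (st L j)).comm x).symm

lemma res_hinj (j : ℕ) (x₂ : (st L (j + 1)).X) (hx₂ : nextD L (st L j) x₂ = 0) (y₁ : L.X (j + 2))
    (hy₁ : (L.d (j + 2) (j + 1)).hom y₁ = (st L (j + 1)).a x₂) :
    ∃ x₁ : (st L (j + 2)).X, nextD L (st L (j + 1)) x₁ = x₂ := by
  obtain ⟨x', k', h1, h2⟩ := (stepCover L (st L (j + 1))).cover x₂
    hx₂ y₁ hy₁.symm
  exact ⟨x', h1⟩

lemma res_hsurj (j : ℕ) (y₂ : L.X (j + 1)) (hy₂ : (L.d (j + 1) j).hom y₂ = 0) :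
    ∃ (x₂ : (st L (j + 1)).X) (y₁ : L.X (j + 2)), nextD L (st L j) x₂ = 0 ∧
      (st L (j + 1)).a x₂ = y₂ + (L.d (j + 2) (j + 1)).hom y₁ := by
  obtain ⟨x', k', h1, h2⟩ := (stepCover L (st L j)).cover 0 (Submodule.zero_mem _) y₂
    (by rw [map_zero, hy₂])
  exact ⟨x', k', h1, h2⟩

lemma res_hinj0 (x₂ : (st L 0).X) (y₁ : L.X 1) (hy₁ : (L.d 1 0).hom y₁ = (st L 0).a x₂) :
    ∃ x₁ : (st L 1).X, nextD L (st L 0) x₁ = x₂ := by
  obtain ⟨x', k', h1, h2⟩ := (stepCover L (st L 0)).cover x₂ trivial y₁ hy₁.symm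
  exact ⟨x', h1⟩

lemma res_hsurj0 (y₂ : L.X 0) :
    ∃ (x₂ : (st L 0).X) (y₁ : L.X 1), (st L 0).a x₂ = y₂ + (L.d 1 0).hom y₁ := by
  obtain ⟨x', k', -, h2⟩ := (cover0 L).cover PUnit.unit trivial y₂ rfl
  exact ⟨x', k', h2⟩

lemma quasiIso_resMap : QuasiIso (resMap L) := by
  rw [quasiIso_iff]
  intro j
  cases j with
  | zero =>
    rw [quasiIsoAt_iff' (resMap L) 1 0 0 (by simp) (by simp)]
    apply shortComplex_quasiIso_of_elementwise
    · intro x₂ _ ⟨y₁, hy₁⟩
      obtain ⟨x', h1⟩ := res_hinj0 L x₂ y₁ hy₁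
      refine ⟨x', ?_⟩
      change ((res L).d 1 0).hom x' = x₂
      rw [res_d]
      exact h1
    · intro y₂ _
      obtain ⟨x', k', h2⟩ := res_hsurj0 L y₂
      refine ⟨x', k', ?_, h2⟩
      change ((res L).d 0 0).hom x' = 0
      rw [(res L).shape 0 0 (by simp)]
      rfl
  | succ j =>
    rw [quasiIsoAt_iff' (resMap L) (j + 2) (j + 1) j (by simp) (by simp)]
    apply shortComplex_quasiIso_of_elementwise
    · intro x₂ hx₂ ⟨y₁, hy₁⟩
      change ((res L).d (j + 1) j).hom x₂ = 0 at hx₂
      rw [res_d] at hx₂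
      obtain ⟨x', h1⟩ := res_hinj L j x₂ hx₂ y₁ hy₁
      refine ⟨x', ?_⟩
      change ((res L).d (j + 2) (j + 1)).hom x' = x₂
      rw [res_d]
      exact h1
    · intro y₂ hy₂
      obtain ⟨x', k', h1, h2⟩ := res_hsurj L j y₂ hy₂
      refine ⟨x', k', ?_, h2⟩
      change ((res L).d (j + 1) j).hom x' = 0
      rw [res_d]
      exact h1

instance : QuasiIso (resMap L) := quasiIso_resMap L

lemma free_res (j : ℕ) : Module.Free R ((res L).X j) := (st L j).free

/-- finiteness criterion for the terms of the resolution -/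
lemma finite_res_of_finite_coker (j : ℕ)
    (h : Module.Finite R ((res L).X j ⧸ LinearMap.range ((res L).d (j + 1) j).hom)) :
    Module.Finite R ((res L).X j) := by
  rw [res_d] at h
  cases j with
  | zero =>
    refine (cover0 L).fin (LinearMap.range (nextD L (st L 0))) ?_ h
    rintro _ ⟨x, rfl⟩
    exact ⟨rfl, (st L 1).a x, (stepCover L (st L 0)).comm x⟩
  | succ j =>
    refine (stepCover L (st L j)).fin (LinearMap.range (nextD L (st L (j + 1)))) ?_ h
    rintro _ ⟨x, rfl⟩
    exact ⟨(stepCover L (st L (j + 1))).hd x, (st L (j + 2)).a x,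
      (stepCover L (st L (j + 1))).comm x⟩

end Rec

section IntIndexed

open ComplexShape

variable (K : CochainComplex (ModuleCat.{u} R) ℤ) (b : ℤ)

/-- the restriction of `K` to degrees `≤ b`, as an `ℕ`-indexed chain complex -/
noncomputable def resL : ChainComplex (ModuleCat.{u} R) ℕ := K.restriction (embeddingUpIntLE b)

/-- the free resolution, `ℤ`-indexed -/
noncomputable def resE : CochainComplex (ModuleCat.{u} R) ℤ := (res (resL K b)).extend (embeddingUpIntLE b)

lemma hasLift_embeddingUpIntLE {K : CochainComplex (ModuleCat.{u} R) ℤ} {L : ChainComplex (ModuleCat.{u} R) ℕ}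
    (φ : K.restriction (embeddingUpIntLE b) ⟶ L) : (embeddingUpIntLE b).HasLift φ := by
  intro j hj
  exact (hj.2 (j + 1) (by simp [embeddingUpIntLE]; omega)).elim

/-- the canonical map `K ⟶ σ_{≤ b} K` -/
noncomputable def toExt : K ⟶ (resL K b).extend (embeddingUpIntLE b) :=
  (embeddingUpIntLE b).liftExtend (𝟙 _) (hasLift_embeddingUpIntLE b _)

instance isIso_toExt [K.IsStrictlyLE b] : IsIso (toExt K b) := by
  haveI : ∀ i, IsIso ((toExt K b).f i) := by
    intro i
    by_cases hi : i ≤ b
    · obtain ⟨j, hj⟩ : ∃ j : ℕ, (embeddingUpIntLE b).f j = i :=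
        ⟨(b - i).toNat, by simp [embeddingUpIntLE]; omega⟩
      rw [toExt, (embeddingUpIntLE b).isIso_liftExtend_f_iff _ _ hj, HomologicalComplex.id_f]
      exact IsIso.id _
    · exact isIso_of_isZero_isZero _ (K.isZero_of_isStrictlyLE b i (by omega))
        (HomologicalComplex.isZero_extend_X _ _ _ (fun j hj => by
          simp [embeddingUpIntLE] at hj; omega))
  exact HomologicalComplex.Hom.isIso_of_components _

/-- the quasi-isomorphism from the free resolution -/
noncomputable def resα [K.IsStrictlyLE b] : resE K b ⟶ K :=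
  HomologicalComplex.extendMap (resMap (resL K b)) (embeddingUpIntLE b) ≫ inv (toExt K b)

instance quasiIso_resα [K.IsStrictlyLE b] : QuasiIso (resα K b) := by
  unfold resα
  have h1 : QuasiIso (HomologicalComplex.extendMap (resMap (resL K b)) (embeddingUpIntLE b)) := by
    rw [HomologicalComplex.quasiIso_extendMap_iff]
    exact quasiIso_resMap _
  have h2 : QuasiIso (inv (toExt K b)) := inferInstance
  exact quasiIso_comp (hφ := h1) (hφ' := h2) _ _

lemma vanishesAbove_resE : ∀ i : ℤ, b < i → IsZero ((resE K b).X i) := fun i hi =>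
  HomologicalComplex.isZero_extend_X _ _ _ (fun j hj => by
    simp [embeddingUpIntLE] at hj; omega)

lemma free_resE (i : ℤ) : Module.Free R ((resE K b).X i) := by
  by_cases hi : i ≤ b
  · obtain ⟨j, hj⟩ : ∃ j : ℕ, (embeddingUpIntLE b).f j = i :=
      ⟨(b - i).toNat, by simp [embeddingUpIntLE]; omega⟩
    haveI := free_res (resL K b) j
    exact Module.Free.of_equiv
      ((res (resL K b)).extendXIso (embeddingUpIntLE b) hj).symm.toLinearEquiv
  · haveI : Subsingleton ((resE K b).X i) :=
      ModuleCat.subsingleton_of_isZero (vanishesAbove_resE K b i (by omega))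
    infer_instance

lemma finite_resE_of_finite_coker (i' i : ℤ) (hi' : i' + 1 = i)
    (h : Module.Finite R ((resE K b).X i ⧸ LinearMap.range ((resE K b).d i' i).hom)) :
    Module.Finite R ((resE K b).X i) := by
  by_cases hi : i ≤ b
  · obtain ⟨j, hj⟩ : ∃ j : ℕ, (embeddingUpIntLE b).f j = i :=
      ⟨(b - i).toNat, by simp [embeddingUpIntLE]; omega⟩
    have hj' : (embeddingUpIntLE b).f (j + 1) = i' := by
      simp [embeddingUpIntLE] at hj ⊢; omega
    have hd := (res (resL K b)).extend_d_eq (embeddingUpIntLE b) hj' hj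
    let e₀ : (resE K b).X i ≅ (res (resL K b)).X j :=
      (res (resL K b)).extendXIso (embeddingUpIntLE b) hj
    let e₁ : (resE K b).X i' ≅ (res (resL K b)).X (j + 1) :=
      (res (resL K b)).extendXIso (embeddingUpIntLE b) hj'
    have hle : LinearMap.range ((resE K b).d i' i).hom ≤
        (LinearMap.range ((res (resL K b)).d (j + 1) j).hom).comap e₀.hom.hom := by
      rintro _ ⟨y, rfl⟩
      refine ⟨e₁.hom y, ?_⟩
      have : ((resE K b).d i' i) ≫ e₀.hom = e₁.hom ≫ (res (resL K b)).d (j + 1) j := by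
        change ((res (resL K b)).extend (embeddingUpIntLE b)).d i' i ≫ e₀.hom = _
        rw [hd]; simp only [e₀, e₁, Category.assoc, Iso.inv_hom_id, Category.comp_id]
        rfl
      exact congr($this y).symm
    haveI : Module.Finite R ((res (resL K b)).X j) := by
      apply finite_res_of_finite_coker
      refine Module.Finite.of_surjective (Submodule.mapQ _ _ e₀.hom.hom hle) ?_
      intro z
      obtain ⟨z, rfl⟩ := Submodule.Quotient.mk_surjective _ z
      refine ⟨Submodule.Quotient.mk (e₀.inv z), ?_⟩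
      rw [Submodule.mapQ_apply]
      congr 1
      exact congr($(e₀.inv_hom_id) z)
    exact Module.Finite.equiv e₀.symm.toLinearEquiv
  · haveI : Subsingleton ((resE K b).X i) :=
      ModuleCat.subsingleton_of_isZero (vanishesAbove_resE K b i (by omega))
    infer_instance

end IntIndexed

end Groth.Agent.Lib.Helper18.NC
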