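import Mathlib
import Groth.Agent.Lib.Helper18.DRRes
import Groth.Agent.Lib.Helper18.DRPC3
import Groth.Agent.Lib.Helper18.NCRes

/-!
# Pseudo-coherence over a finite free noncommutative algebra: auxiliary lemmas (helper18, S1047)
-/

set_option autoImplicit false
set_option linter.style.haveILetI false
universe u
open CategoryTheory CategoryTheory.Limits

attribute [local instance] HasDerivedCategory.standard

namespace Groth.Agent.Lib.Helper18.DR


section Comm
variable {A : Type u} [CommRing A]

/-- key step of the stepwise construction: if the terms above `i` of a pseudo-coherent bounded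
above complex are finite free, the cokernel of the differential into degree `i` is finite -/
theorem finite_coker_of_isPseudoCoherent (E : DRing.Cx A) (b i : ℤ) (hb : DRing.VanishesAbove E b)
    (hE : ∀ m, DRing.IsPseudoCoherent A m (DRing.toD E))
    (hfin : ∀ j, i < j → Module.Finite A (E.X j) ∧ Module.Free A (E.X j)) :
    Module.Finite A (E.X i ⧸ LinearMap.range (E.d (i - 1) i).hom) := by
  apply finite_coker_of_finite_H
  have hb' : DRing.VanishesAbove E (max b (i + 1)) := fun j hj =>
    hb j (lt_of_le_of_lt (le_max_left _ _) hj)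
  have htff : DRing.TermwiseFiniteFree (sigmaGE E (i + 1)) := by
    intro j
    by_cases h' : i + 1 ≤ j
    · obtain ⟨h1, h2⟩ := hfin j (by omega)
      exact ⟨Module.Finite.equiv (sigmaGEXIso E (i + 1) h').symm.toLinearEquiv,
        Module.Free.of_equiv (sigmaGEXIso E (i + 1) h').symm.toLinearEquiv⟩
    · haveI : Subsingleton ((sigmaGE E (i + 1)).X j) :=
        ModuleCat.subsingleton_of_isZero (isZero_sigmaGE_X E (i + 1) (by omega))
      exact ⟨inferInstance, inferInstance⟩
  have hF : DRing.IsPseudoCoherent A i (DRing.toD (sigmaLT E (i + 1))) :=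
    isPseudoCoherent_obj₃ (sigmaTriangle E (i + 1)) (sigmaTriangle_distinguished E (i + 1)) i
      (isPseudoCoherent_toD_of_bdd (sigmaGE E (i + 1)) (i + 1) (max b (i + 1))
        (vanishesOutside_sigmaGE E (i + 1) hb') htff _) (hE _)
  refine finite_H_of_isPseudoCoherent _ _ hF (fun j hj => ?_)
  rw [isZero_H_toD_iff_exactAt]
  exact HomologicalComplex.ExactAt.of_isZero (isZero_sigmaLT_X E (i + 1) (by omega))

end Comm



section Transfer
variable {A : Type u} [CommRing A] {R : Type u} [Ring R] [Algebra A R]

/-- finiteness of a cokernel over `R` from finiteness over `A` after restriction of scalars -/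
lemma finite_quot_of_restrictScalars {X Y : ModuleCat.{u} R} (d : Y ⟶ X)
    (h : Module.Finite A (((ModuleCat.restrictScalars.{u} (algebraMap A R)).obj X) ⧸
      LinearMap.range ((ModuleCat.restrictScalars.{u} (algebraMap A R)).map d).hom)) :
    Module.Finite R (X ⧸ LinearMap.range d.hom) := by
  set GX : ModuleCat.{u} A := (ModuleCat.restrictScalars.{u} (algebraMap A R)).obj X with hGX
  set NA : Submodule A GX :=
    LinearMap.range ((ModuleCat.restrictScalars.{u} (algebraMap A R)).map d).hom with hNA
  obtain ⟨n, π, hπ⟩ := Module.Finite.exists_fin' A (GX ⧸ NA)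
  have hx : ∀ k : Fin n, ∃ x : GX, NA.mkQ x = π (Pi.single k 1) :=
    fun k => Submodule.mkQ_surjective _ _
  choose x hx using hx
  let xR : Fin n → X := fun k => x k
  let g : (Fin n → R) →ₗ[R] X ⧸ LinearMap.range d.hom :=
    Fintype.linearCombination R (fun k => (LinearMap.range d.hom).mkQ (xR k))
  refine Module.Finite.of_surjective g ?_
  intro y
  obtain ⟨z, rfl⟩ := Submodule.mkQ_surjective _ y
  let zG : GX := z
  obtain ⟨c, hc⟩ := hπ (NA.mkQ zG)
  refine ⟨fun k => algebraMap A R (c k), ?_⟩
  have h1 : c = ∑ k, c k • (Pi.single k 1 : Fin n → A) := by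
    ext j
    simp [Finset.sum_apply, Pi.single_apply]
  have key : NA.mkQ (∑ k, c k • x k) = NA.mkQ zG := by
    rw [map_sum, ← hc]
    conv_rhs => rw [h1, map_sum]
    refine Finset.sum_congr rfl (fun k _ => ?_)
    rw [map_smul, map_smul, hx]
  rw [← sub_eq_zero, ← map_sub, Submodule.mkQ_apply, Submodule.Quotient.mk_eq_zero] at key
  obtain ⟨w, hw⟩ := key
  show (Fintype.linearCombination R fun k => (LinearMap.range d.hom).mkQ (xR k))
    (fun k => algebraMap A R (c k)) = _
  rw [Fintype.linearCombination_apply]
  have h2 : (∑ k, algebraMap A R (c k) • (LinearMap.range d.hom).mkQ (xR k)) =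
      (LinearMap.range d.hom).mkQ (∑ k, algebraMap A R (c k) • xR k) := by
    rw [map_sum]
    refine Finset.sum_congr rfl (fun k _ => ?_)
    rw [map_smul]
  rw [h2, ← sub_eq_zero, ← map_sub, Submodule.mkQ_apply, Submodule.Quotient.mk_eq_zero]
  exact ⟨w, hw⟩

end Transfer



section NCmain
variable (A : Type u) [CommRing A] (R : Type u) [Ring R] [Algebra A R]
  [PreservesFiniteLimits (ModuleCat.restrictScalars.{u} (algebraMap A R))]
  [PreservesFiniteColimits (ModuleCat.restrictScalars.{u} (algebraMap A R))]

/-- cohomology commutes with restriction of scalars (noncommutative source) -/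
noncomputable def homologyResIso (L : DerivedCategory (ModuleCat.{u} R)) (i : ℤ) :
    (DerivedCategory.homologyFunctor (ModuleCat.{u} A) i).obj
      ((ModuleCat.restrictScalars.{u} (algebraMap A R)).mapDerivedCategory.obj L) ≅
    (ModuleCat.restrictScalars.{u} (algebraMap A R)).obj
      ((DerivedCategory.homologyFunctor (ModuleCat.{u} R) i).obj L) :=
  let G := ModuleCat.restrictScalars.{u} (algebraMap A R)
  let X := DerivedCategory.Q.objPreimage L
  let e : DerivedCategory.Q.obj X ≅ L := DerivedCategory.Q.objObjPreimageIso L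
  (DerivedCategory.homologyFunctor (ModuleCat.{u} A) i).mapIso (G.mapDerivedCategory.mapIso e.symm) ≪≫
    (DerivedCategory.homologyFunctor (ModuleCat.{u} A) i).mapIso (G.mapDerivedCategoryFactors.app X) ≪≫
    (DerivedCategory.homologyFunctorFactors (ModuleCat.{u} A) i).app _ ≪≫
    (X.sc i).mapHomologyIso G ≪≫
    G.mapIso ((DerivedCategory.homologyFunctorFactors (ModuleCat.{u} R) i).app X).symm ≪≫
    G.mapIso ((DerivedCategory.homologyFunctor (ModuleCat.{u} R) i).mapIso e)

lemma isLE_of_isLE_res (L : DerivedCategory (ModuleCat.{u} R)) (n : ℤ)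
    (hL : ((ModuleCat.restrictScalars.{u} (algebraMap A R)).mapDerivedCategory.obj L).IsLE n) :
    L.IsLE n := by
  rw [DerivedCategory.isLE_iff]
  intro i hi
  have h := DerivedCategory.isZero_of_isLE
    ((ModuleCat.restrictScalars.{u} (algebraMap A R)).mapDerivedCategory.obj L) n i hi
  have h2 := h.of_iso (homologyResIso A R L i).symm
  haveI : Subsingleton ((ModuleCat.restrictScalars.{u} (algebraMap A R)).obj
      ((DerivedCategory.homologyFunctor (ModuleCat.{u} R) i).obj L)) :=
    ModuleCat.subsingleton_of_isZero h2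
  haveI : Subsingleton ((DerivedCategory.homologyFunctor (ModuleCat.{u} R) i).obj L) :=
    ‹Subsingleton ((ModuleCat.restrictScalars.{u} (algebraMap A R)).obj
      ((DerivedCategory.homologyFunctor (ModuleCat.{u} R) i).obj L))›
  exact ModuleCat.isZero_of_subsingleton _

end NCmain

end Groth.Agent.Lib.Helper18.DR
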