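import Mathlib
import Groth.Agent.Lib.Helper18.DRRes
import Groth.Agent.Lib.Helper18.DRPC3
import Groth.Agent.Lib.Helper18.DRLBC
import Groth.Agent.Lib.Helper18.NCRes
import Groth.Agent.Lib.Helper18.NCPc1

set_option autoImplicit false
set_option linter.style.haveILetI false
universe u
open CategoryTheory CategoryTheory.Limits

attribute [local instance] HasDerivedCategory.standard

namespace Groth.Agent.Lib.Helper18.DR

section NCmain
variable (A : Type u) [CommRing A] (R : Type u) [Ring R] [Algebra A R]
  [Module.Finite A R] [Module.Free A R]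
  [PreservesFiniteLimits (ModuleCat.restrictScalars.{u} (algebraMap A R))]
  [PreservesFiniteColimits (ModuleCat.restrictScalars.{u} (algebraMap A R))]

omit [PreservesFiniteLimits (ModuleCat.restrictScalars.{u} (algebraMap A R))]
  [PreservesFiniteColimits (ModuleCat.restrictScalars.{u} (algebraMap A R))] in
lemma finite_free_restrictScalars (X : ModuleCat.{u} R) [Module.Finite R X] [Module.Free R X] :
    Module.Finite A ((ModuleCat.restrictScalars.{u} (algebraMap A R)).obj X) ∧
      Module.Free A ((ModuleCat.restrictScalars.{u} (algebraMap A R)).obj X) := by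
  letI : Module A X := Module.compHom X (algebraMap A R)
  haveI : IsScalarTower A R X := ⟨fun a r x => by
    show (a • r) • x = (algebraMap A R a) • (r • x)
    rw [Algebra.smul_def, mul_smul]⟩
  have h1 : Module.Finite A X := Module.Finite.trans R X
  have h2 : Module.Free A X :=
    Module.Free.of_basis ((Module.Free.chooseBasis A R).smulTower (Module.Free.chooseBasis R X))
  exact ⟨h1, h2⟩

/-- S1047 -/
theorem pseudoCoherent_over_finite_free_algebra
    (M : DerivedCategory (ModuleCat.{u} R))
    (hM : DRing.IsPseudoCoherent' A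
      (((ModuleCat.restrictScalars.{u} (algebraMap A R)).mapDerivedCategory).obj M)) :
    ∃ (F : CochainComplex (ModuleCat.{u} R) ℤ) (b : ℤ), (∀ i : ℤ, b < i → IsZero (F.X i)) ∧
      (∀ i : ℤ, Module.Finite R (F.X i) ∧ Module.Free R (F.X i)) ∧
        Nonempty (DerivedCategory.Q.obj F ≅ M) := by
  set G := ModuleCat.restrictScalars.{u} (algebraMap A R) with hG
  have hM' := hM
  obtain ⟨E₀, b, hb₀, hff₀, ⟨e₀⟩⟩ := hM
  haveI : (G.mapDerivedCategory.obj M).IsLE b := by
    haveI := isLE_toD_of_vanishesAbove E₀ b hb₀
    exact DerivedCategory.TStructure.t.isLE_of_iso e₀ b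
  haveI : M.IsLE b := isLE_of_isLE_res A R M b inferInstance
  obtain ⟨K₁, _, ⟨e⟩⟩ := DerivedCategory.exists_iso_Q_obj_of_isLE M b
  set E := NC.resE K₁ b with hEdef
  let EA : DRing.Cx A := (G.mapHomologicalComplex (ComplexShape.up ℤ)).obj E
  have eA : DRing.toD EA ≅ G.mapDerivedCategory.obj M :=
    (G.mapDerivedCategoryFactors.app E).symm ≪≫
      G.mapDerivedCategory.mapIso (asIso (DerivedCategory.Q.map (NC.resα K₁ b)) ≪≫ e.symm)
  have hpc : ∀ m, DRing.IsPseudoCoherent A m (DRing.toD EA) := fun m =>
    isPseudoCoherent_of_iso eA.symm (isPseudoCoherent_of_isPseudoCoherent' hM' m)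
  have hvan : DRing.VanishesAbove EA b := fun i hi =>
    G.map_isZero (NC.vanishesAbove_resE K₁ b i hi)
  have key : ∀ n : ℕ, ∀ i : ℤ, b - n < i → Module.Finite R (E.X i) := by
    intro n
    induction n with
    | zero =>
      intro i hi
      haveI : Subsingleton (E.X i) :=
        ModuleCat.subsingleton_of_isZero (NC.vanishesAbove_resE K₁ b i (by simpa using hi))
      infer_instance
    | succ n ih =>
      intro i hi
      by_cases h : b - n < i
      · exact ih i h
      · obtain rfl : i = b - n := by push_cast at hi; omega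
        apply NC.finite_resE_of_finite_coker K₁ b (b - n - 1) (b - n) (by omega)
        apply finite_quot_of_restrictScalars (A := A)
        refine finite_coker_of_isPseudoCoherent EA b (b - n) hvan hpc (fun j hj => ?_)
        haveI : Module.Finite R (E.X j) := ih j hj
        haveI : Module.Free R (E.X j) := NC.free_resE K₁ b j
        exact finite_free_restrictScalars A R (E.X j)
  refine ⟨E, b, NC.vanishesAbove_resE K₁ b, fun i => ⟨key (b - i + 1).toNat i (by omega),
    NC.free_resE K₁ b i⟩, ⟨asIso (DerivedCategory.Q.map (NC.resα K₁ b)) ≪≫ e.symm⟩⟩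

end NCmain

end Groth.Agent.Lib.Helper18.DR
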