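import Mathlib
import Groth.Prelude.Def_RegImm

/-!
# Noether different of a global complete intersection, part A (helper18)

The presentation `B[X₁..Xₙ]/(Xⱼ - bⱼ) = B` is a relative global complete intersection; a quasi-finite
`A[X₁..Xₙ]/(f₁..fₙ)` is a relative global complete intersection.
-/

set_option autoImplicit false
set_option linter.style.haveILetI false
universe u
open TensorProduct

namespace Groth.Agent.Lib.Helper18.DR

namespace Nd

open MvPolynomial

section ker

variable {B : Type u} [CommRing B] {σ : Type*} (b : σ → B)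

theorem sub_C_aeval_mem (p : MvPolynomial σ B) :
    p - C (aeval b p) ∈ Ideal.span (Set.range fun j => (X j - C (b j) : MvPolynomial σ B)) := by
  induction p using MvPolynomial.induction_on with
  | C a => simp
  | add p q hp hq =>
    have : p + q - C (aeval b (p + q)) = (p - C (aeval b p)) + (q - C (aeval b q)) := by
      rw [map_add, map_add]
      ring
    rw [this]
    exact Ideal.add_mem _ hp hq
  | mul_X p j hp =>
    have : p * X j - C (aeval b (p * X j)) =
        (p - C (aeval b p)) * X j + C (aeval b p) * (X j - C (b j)) := by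
      rw [map_mul, aeval_X, map_mul]
      ring
    rw [this]
    exact Ideal.add_mem _ (Ideal.mul_mem_right _ _ hp)
      (Ideal.mul_mem_left _ _ (Ideal.subset_span ⟨j, rfl⟩))

theorem ker_aeval_eq_span :
    RingHom.ker (aeval b : MvPolynomial σ B →ₐ[B] B) =
      Ideal.span (Set.range fun j => (X j - C (b j) : MvPolynomial σ B)) := by
  apply le_antisymm
  · intro p hp
    rw [RingHom.mem_ker] at hp
    have := sub_C_aeval_mem b p
    rwa [hp, map_zero, sub_zero] at this
  · rw [Ideal.span_le]
    rintro _ ⟨j, rfl⟩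
    rw [SetLike.mem_coe, RingHom.mem_ker]
    simp

end ker

section gci

variable {B : Type u} [CommRing B] (n : ℕ) (b : Fin n → B)

/-- `B[X]/(Xⱼ - bⱼ) ≃ B` -/
noncomputable def quotEquiv :
    Synt.RelGCIRing B n n (fun j => (X j - C (b j) : MvPolynomial (Fin n) B)) ≃ₐ[B] B :=
  (Ideal.quotientEquivAlgOfEq B (ker_aeval_eq_span b).symm).trans
    (Ideal.quotientKerAlgEquivOfSurjective
      (f := (aeval b : MvPolynomial (Fin n) B →ₐ[B] B)) (fun x => ⟨C x, by simp⟩))

theorem isRelGCI_X_sub_C :
    Synt.IsRelGCI B n n (fun j => (X j - C (b j) : MvPolynomial (Fin n) B)) := by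
  intro p _
  refine ⟨le_rfl, ?_⟩
  let e1 : p.asIdeal.Fiber (Synt.RelGCIRing B n n
      (fun j => (X j - C (b j) : MvPolynomial (Fin n) B))) ≃ₐ[p.asIdeal.ResidueField]
      p.asIdeal.ResidueField ⊗[B] B :=
    Algebra.TensorProduct.congr AlgEquiv.refl (quotEquiv n b)
  let e2 : p.asIdeal.ResidueField ⊗[B] B ≃ₐ[p.asIdeal.ResidueField] p.asIdeal.ResidueField :=
    Algebra.TensorProduct.rid B p.asIdeal.ResidueField p.asIdeal.ResidueField
  rw [ringKrullDim_eq_of_ringEquiv (e1.trans e2).toRingEquiv, ringKrullDim_eq_zero_of_field]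
  simp

end gci

section qf

variable {A : Type u} [CommRing A] {n : ℕ} (f : Fin n → MvPolynomial (Fin n) A)

theorem isRelGCI_of_quasiFinite
    [Algebra.QuasiFinite A (MvPolynomial (Fin n) A ⧸ Ideal.span (Set.range f))] :
    Synt.IsRelGCI A n n f := by
  intro p hp
  refine ⟨le_rfl, ?_⟩
  haveI := hp
  haveI : IsArtinianRing (p.asIdeal.Fiber (Synt.RelGCIRing A n n f)) :=
    inferInstanceAs (IsArtinianRing (p.asIdeal.Fiber
      (MvPolynomial (Fin n) A ⧸ Ideal.span (Set.range f))))
  have : Ring.KrullDimLE 0 (p.asIdeal.Fiber (Synt.RelGCIRing A n n f)) :=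
    IsArtinianRing.instKrullDimLEOfNatNat (p.asIdeal.Fiber (Synt.RelGCIRing A n n f))
  rw [ringKrullDimZero_iff_ringKrullDim_eq_zero] at this
  rw [this]
  simp

end qf

end Nd

end Groth.Agent.Lib.Helper18.DR
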