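import Mathlib
import Groth.Agent.Lib.Helper18.NdA
import Groth.Agent.Lib.Helper1.RegComp
import Groth.Agent.S9254

/-!
# Noether different of a global complete intersection, part B (helper18)

The diagonal ideal of `A[X] ⊗ B` is generated by the Koszul-regular sequence `Xⱼ ⊗ 1 - 1 ⊗ x̄ⱼ`.
(Everything is phrased for an `A`-algebra `P` with an isomorphism to the polynomial ring, to keep
module instances on tensor products canonical.)
-/

set_option autoImplicit false
set_option linter.style.haveILetI false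
universe u
open TensorProduct

namespace Groth.Agent.Lib.Helper18.DR

namespace Nd

open MvPolynomial

section iso

variable {A P : Type u} [CommRing A] [CommRing P] [Algebra A P] {n : ℕ}
  (e : P ≃ₐ[A] MvPolynomial (Fin n) A) (B : Type u) [CommRing B] [Algebra A B]

/-- `P ⊗[A] B ≃+* B[X]` -/
noncomputable def tensorEquiv : P ⊗[A] B ≃+* MvPolynomial (Fin n) B :=
  ((Algebra.TensorProduct.congr e (AlgEquiv.refl : B ≃ₐ[A] B)).toRingEquiv.trans
    (Algebra.TensorProduct.comm A (MvPolynomial (Fin n) A) B).toRingEquiv).trans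
    (algebraTensorAlgEquiv A B).toRingEquiv

lemma tensorEquiv_tmul (p : P) (b : B) :
    tensorEquiv e B (p ⊗ₜ[A] b) = b • MvPolynomial.map (algebraMap A B) (e p) := by
  change algebraTensorAlgEquiv A B (Algebra.TensorProduct.comm A _ B
    (Algebra.TensorProduct.congr e (AlgEquiv.refl : B ≃ₐ[A] B) (p ⊗ₜ[A] b))) = _
  rw [Algebra.TensorProduct.congr_apply, Algebra.TensorProduct.map_tmul,
    Algebra.TensorProduct.comm_tmul, algebraTensorAlgEquiv_tmul]
  rfl

theorem isKoszulRegularSeq_g (b : Fin n → B) :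
    LCI.IsKoszulRegularSeq (P ⊗[A] B)
      (List.ofFn fun j => (e.symm (X j) ⊗ₜ[A] (1 : B) - 1 ⊗ₜ[A] b j)) := by
  have hG := Groth.Agent.S9254.result B n n _ (isRelGCI_X_sub_C n b)
  have := Groth.Agent.Lib.Helper1.RegComp.isKoszulRegularSeq_map_ringEquiv
    (tensorEquiv e B).symm _ hG
  rw [List.map_ofFn] at this
  convert this using 2
  funext j
  rw [Function.comp_apply, RingEquiv.eq_symm_apply, map_sub, tensorEquiv_tmul, tensorEquiv_tmul]
  simp [MvPolynomial.smul_eq_C_mul]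

end iso

section ker

variable {A P : Type u} [CommRing A] [CommRing P] [Algebra A P] (If : Ideal P)
  {ι : Type*} (x : ι → P)

/-- the generators of the diagonal ideal -/
noncomputable def gd (j : ι) : P ⊗[A] (P ⧸ If) :=
  x j ⊗ₜ[A] (1 : P ⧸ If) - 1 ⊗ₜ[A] Ideal.Quotient.mk If (x j)

/-- the multiplication map `P ⊗ B → B` -/
noncomputable abbrev muP : P ⊗[A] (P ⧸ If) →ₐ[A] (P ⧸ If) :=
  Algebra.TensorProduct.productMap (Ideal.Quotient.mkₐ A If) (AlgHom.id A (P ⧸ If))

lemma muP_tmul (p : P) (b : P ⧸ If) : muP (A := A) If (p ⊗ₜ[A] b) = Ideal.Quotient.mk If p * b := by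
  simp [muP]

variable (hx : Algebra.adjoin A (Set.range x) = ⊤)

include hx in
lemma tmul_one_sub_mem (p : P) :
    p ⊗ₜ[A] (1 : P ⧸ If) - 1 ⊗ₜ[A] Ideal.Quotient.mk If p ∈
      Ideal.span (Set.range (gd (A := A) If x)) := by
  have hp : p ∈ Algebra.adjoin A (Set.range x) := by rw [hx]; trivial
  induction hp using Algebra.adjoin_induction with
  | mem y hy =>
    obtain ⟨j, rfl⟩ := hy
    exact Ideal.subset_span ⟨j, rfl⟩
  | algebraMap a =>
    have : (algebraMap A P a) ⊗ₜ[A] (1 : P ⧸ If) -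
        1 ⊗ₜ[A] Ideal.Quotient.mk If (algebraMap A P a) = 0 := by
      rw [sub_eq_zero, Algebra.algebraMap_eq_smul_one, TensorProduct.smul_tmul]
      have h2 : Ideal.Quotient.mk If (a • (1 : P)) = a • (1 : P ⧸ If) := by
        change Ideal.Quotient.mkₐ A If (a • 1) = _
        rw [map_smul, map_one]
      rw [h2]
    rw [this]
    exact Ideal.zero_mem _
  | add p q _ _ hp hq =>
    have : (p + q) ⊗ₜ[A] (1 : P ⧸ If) - 1 ⊗ₜ[A] Ideal.Quotient.mk If (p + q) =
        (p ⊗ₜ[A] (1 : P ⧸ If) - 1 ⊗ₜ[A] Ideal.Quotient.mk If p) +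
        (q ⊗ₜ[A] (1 : P ⧸ If) - 1 ⊗ₜ[A] Ideal.Quotient.mk If q) := by
      rw [TensorProduct.add_tmul, map_add, TensorProduct.tmul_add]
      abel
    rw [this]
    exact Ideal.add_mem _ hp hq
  | mul p q _ _ hp hq =>
    have : (p * q) ⊗ₜ[A] (1 : P ⧸ If) - 1 ⊗ₜ[A] Ideal.Quotient.mk If (p * q) =
        (p ⊗ₜ[A] (1 : P ⧸ If) - 1 ⊗ₜ[A] Ideal.Quotient.mk If p) * (q ⊗ₜ[A] (1 : P ⧸ If)) +
        ((1 : P) ⊗ₜ[A] Ideal.Quotient.mk If p) *
          (q ⊗ₜ[A] (1 : P ⧸ If) - 1 ⊗ₜ[A] Ideal.Quotient.mk If q) := by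
      simp only [sub_mul, mul_sub, Algebra.TensorProduct.tmul_mul_tmul, map_mul, mul_one, one_mul]
      abel
    rw [this]
    exact Ideal.add_mem _ (Ideal.mul_mem_right _ _ hp) (Ideal.mul_mem_left _ _ hq)

include hx in
lemma sub_one_tmul_mem (z : P ⊗[A] (P ⧸ If)) :
    z - 1 ⊗ₜ[A] muP If z ∈ Ideal.span (Set.range (gd (A := A) If x)) := by
  induction z using TensorProduct.induction_on with
  | zero => simp
  | tmul p b =>
    have : p ⊗ₜ[A] b - 1 ⊗ₜ[A] muP If (p ⊗ₜ[A] b) =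
        ((1 : P) ⊗ₜ[A] b) * (p ⊗ₜ[A] (1 : P ⧸ If) - 1 ⊗ₜ[A] Ideal.Quotient.mk If p) := by
      rw [mul_sub, Algebra.TensorProduct.tmul_mul_tmul, Algebra.TensorProduct.tmul_mul_tmul,
        muP_tmul]
      simp only [mul_one, one_mul]
      rw [mul_comm b]
    rw [this]
    exact Ideal.mul_mem_left _ _ (tmul_one_sub_mem If x hx p)
  | add y z hy hz =>
    have : y + z - 1 ⊗ₜ[A] muP If (y + z) = (y - 1 ⊗ₜ[A] muP If y) + (z - 1 ⊗ₜ[A] muP If z) := by
      rw [map_add, TensorProduct.tmul_add]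
      abel
    rw [this]
    exact Ideal.add_mem _ hy hz

include hx in
theorem span_gd_eq_ker :
    Ideal.span (Set.range (gd (A := A) If x)) = RingHom.ker (muP (A := A) If) := by
  apply le_antisymm
  · rw [Ideal.span_le]
    rintro _ ⟨j, rfl⟩
    rw [SetLike.mem_coe, RingHom.mem_ker]
    unfold gd
    rw [map_sub, muP_tmul, muP_tmul, mul_one, map_one, one_mul, sub_self]
  · intro z hz
    rw [RingHom.mem_ker] at hz
    have := sub_one_tmul_mem If x hx z
    rwa [hz, TensorProduct.tmul_zero, sub_zero] at this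

end ker

end Nd

end Groth.Agent.Lib.Helper18.DR
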