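import Mathlib
import Groth.Agent.Lib.Helper1.KoszulSwap

/-!
# Wiebe's theorem, part A: Koszul homotopies on iterated cones (helper18)

For a list `g` and a base complex `Z`, `tl g Z lam` is the degree `-1` cochain on
`iterCone g Z` ("wedge with `∑ lamᵢ εᵢ`") whose differential is multiplication by
`dot g lam = ∑ lamᵢ gᵢ`; it squares to zero and is linear in `lam`.
-/

set_option autoImplicit false
set_option linter.style.haveILetI false
universe u
open CategoryTheory CategoryTheory.Limits CochainComplex HomComplex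

namespace Groth.Agent.Lib.Helper18.DR

namespace Wb

open Groth.Agent.Lib.Helper1.KoszulConcat Groth.Agent.Lib.Helper1.KoszulSwap
open Groth.Agent.Lib.Helper4 (cochain_ofHom_smul)

variable {A : Type u} [CommRing A]

section one

variable (y : A) (W : CochainComplex (ModuleCat.{u} A) ℤ)

/-- one step of the Koszul homotopy: on the cone of `y`, `(a, b) ↦ (-t a + c b, t b)` -/
noncomputable def tc (c : A) (t : Cochain W W (-1)) :
    Cochain (mappingCone (y • 𝟙 W)) (mappingCone (y • 𝟙 W)) (-1) :=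
  mappingCone.descCochain (y • 𝟙 W)
    (-(t.comp (mappingCone.inl (y • 𝟙 W)) (by norm_num : (-1 : ℤ) + -1 = -2)))
    (c • mappingCone.inl (y • 𝟙 W) +
      t.comp (Cochain.ofHom (mappingCone.inr (y • 𝟙 W))) (add_zero _))
    (by norm_num : (-2 : ℤ) + 1 = -1)

theorem δ_tc (c : A) (t : Cochain W W (-1)) (m : A)
    (ht : δ (-1) 0 t = Cochain.ofHom (m • 𝟙 W)) :
    δ (-1) 0 (tc y W c t) = Cochain.ofHom ((c * y + m) • 𝟙 (mappingCone (y • 𝟙 W))) := by
  unfold tc
  rw [mappingCone.δ_descCochain _ _ _ _ 0 (by norm_num)]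
  rw [δ_neg, δ_comp t (mappingCone.inl (y • 𝟙 W))
    (by norm_num : (-1 : ℤ) + -1 = -2) 0 0 (-1) (by norm_num) (by norm_num) (by norm_num)]
  rw [δ_add, δ_smul, δ_comp_ofHom, ht, mappingCone.δ_inl]
  rw [cochain_ofHom_smul ((c * y + m)), ← mappingCone.id]
  have e1 : (y • 𝟙 W) ≫ mappingCone.inr (y • 𝟙 W) = y • mappingCone.inr (y • 𝟙 W) := by simp
  have e2 : ∀ (a : A) {n : ℤ} (z : Cochain W (mappingCone (y • 𝟙 W)) n),
      (Cochain.ofHom (a • 𝟙 W)).comp z (zero_add n) = a • z := by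
    intro a n z
    rw [cochain_ofHom_smul, Cochain.smul_comp, Cochain.id_comp]
  rw [e1, e2, e2, e2, cochain_ofHom_smul]
  simp only [Int.negOnePow_zero, one_smul, Int.negOnePow_neg, Int.negOnePow_one, Units.neg_smul,
    Cochain.comp_smul, smul_add, Cochain.comp_add, Cochain.comp_neg, neg_add_rev, neg_neg]
  module

lemma comp_v_eq_zero {t : Cochain W W (-1)}
    (ht : t.comp t (by norm_num : (-1 : ℤ) + -1 = -2) = 0) (p q r : ℤ) (hpq : p + (-1) = q)
    (hqr : q + (-1) = r) : t.v p q hpq ≫ t.v q r hqr = 0 := by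
  have := Cochain.congr_v ht p r (by omega)
  rwa [Cochain.comp_v _ _ _ p q r hpq hqr] at this

theorem tc_comp_tc (c : A) (t : Cochain W W (-1))
    (ht : t.comp t (by norm_num : (-1 : ℤ) + -1 = -2) = 0) :
    (tc y W c t).comp (tc y W c t) (by norm_num : (-1 : ℤ) + -1 = -2) = 0 := by
  refine Cochain.ext _ _ (fun p q hpq => ?_)
  rw [Cochain.comp_v _ _ _ p (p - 1) q (by omega) (by omega), Cochain.zero_v]
  apply mappingCone.ext_from _ (p + 1) p rfl
  · simp only [tc, mappingCone.inl_v_descCochain_v_assoc, Cochain.neg_v, Preadditive.neg_comp,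
      Preadditive.comp_neg, comp_zero, neg_eq_zero]
    rw [Cochain.comp_v _ _ _ (p + 1) p (p - 1) (by omega) (by omega), Category.assoc,
      mappingCone.inl_v_descCochain_v, Cochain.neg_v,
      Cochain.comp_v _ _ _ p (p - 1) q (by omega) (by omega), Preadditive.comp_neg,
      reassoc_of% (comp_v_eq_zero W ht (p + 1) p (p - 1) (by omega) (by omega)), zero_comp,
      neg_zero]
  · simp only [tc, mappingCone.inr_f_descCochain_v_assoc, Cochain.add_v, Cochain.smul_v,
      Preadditive.add_comp, Linear.smul_comp, comp_zero]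
    rw [mappingCone.inl_v_descCochain_v, Cochain.neg_v,
      Cochain.comp_v _ _ _ p (p - 1) q (by omega) (by omega),
      Cochain.comp_v _ _ _ p (p - 1) (p - 1) (by omega) (by omega), Category.assoc,
      Cochain.ofHom_v, mappingCone.inr_f_descCochain_v, Cochain.add_v, Cochain.smul_v,
      Cochain.comp_v _ _ _ (p - 1) q q (by omega) (by omega), Cochain.ofHom_v,
      Preadditive.comp_add, Linear.comp_smul,
      reassoc_of% (comp_v_eq_zero W ht p (p - 1) q (by omega) (by omega)), zero_comp]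
    simp

lemma tc_add (c c' : A) (t t' : Cochain W W (-1)) :
    tc y W (c + c') (t + t') = tc y W c t + tc y W c' t' := by
  unfold tc mappingCone.descCochain
  simp only [Cochain.add_comp, Cochain.comp_add, Cochain.comp_neg, neg_add_rev, add_smul]
  abel

lemma tc_smul (a c : A) (t : Cochain W W (-1)) :
    tc y W (a * c) (a • t) = a • tc y W c t := by
  unfold tc mappingCone.descCochain
  simp only [Cochain.smul_comp, Cochain.comp_smul, Cochain.comp_add, Cochain.comp_neg, smul_add,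
    smul_neg, mul_smul]

lemma tc_zero : tc y W 0 0 = 0 := by
  unfold tc mappingCone.descCochain
  simp

@[reassoc]
lemma inl_tc_v (c : A) (t : Cochain W W (-1)) (p₁ p₂ p₃ : ℤ) (h₁₂ : p₁ + (-1) = p₂)
    (h₂₃ : p₂ + (-1) = p₃) :
    (mappingCone.inl (y • 𝟙 W)).v p₁ p₂ h₁₂ ≫ (tc y W c t).v p₂ p₃ h₂₃ =
      -(t.v p₁ p₂ h₁₂ ≫ (mappingCone.inl (y • 𝟙 W)).v p₂ p₃ h₂₃) := by
  unfold tc
  rw [mappingCone.inl_v_descCochain_v, Cochain.neg_v,
    Cochain.comp_v _ _ _ p₁ p₂ p₃ h₁₂ h₂₃]

@[reassoc]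
lemma inr_tc_v (c : A) (t : Cochain W W (-1)) (p₁ p₂ : ℤ) (h₁₂ : p₁ + (-1) = p₂) :
    (mappingCone.inr (y • 𝟙 W)).f p₁ ≫ (tc y W c t).v p₁ p₂ h₁₂ =
      c • (mappingCone.inl (y • 𝟙 W)).v p₁ p₂ h₁₂ +
        t.v p₁ p₂ h₁₂ ≫ (mappingCone.inr (y • 𝟙 W)).f p₂ := by
  unfold tc
  rw [mappingCone.inr_f_descCochain_v, Cochain.add_v, Cochain.smul_v,
    Cochain.comp_v _ _ _ p₁ p₂ p₂ h₁₂ (add_zero _), Cochain.ofHom_v]

end one

section nat

open Groth.Agent.Lib.Helper14.KoszulFun

variable (y : A) {W W' : CochainComplex (ModuleCat.{u} A) ℤ} (ψ : W ⟶ W')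

theorem tc_naturality (c : A) (t : Cochain W W (-1)) (t' : Cochain W' W' (-1))
    (h : t.comp (Cochain.ofHom ψ) (add_zero _) = (Cochain.ofHom ψ).comp t' (zero_add _)) :
    (tc y W c t).comp (Cochain.ofHom (coneMap y ψ)) (add_zero _) =
      (Cochain.ofHom (coneMap y ψ)).comp (tc y W' c t') (zero_add _) := by
  have hv : ∀ (p q : ℤ) (hpq : p + (-1) = q), t.v p q hpq ≫ ψ.f q = ψ.f p ≫ t'.v p q hpq := by
    intro p q hpq
    have := Cochain.congr_v h p q hpq
    rwa [Cochain.comp_v _ _ _ p q q hpq (add_zero _), Cochain.ofHom_v,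
      Cochain.comp_v _ _ _ p p q (add_zero _) hpq, Cochain.ofHom_v] at this
  refine Cochain.ext _ _ (fun p q hpq => ?_)
  rw [Cochain.comp_v _ _ _ p q q hpq (add_zero _), Cochain.ofHom_v,
    Cochain.comp_v _ _ _ p p q (add_zero _) hpq, Cochain.ofHom_v]
  apply mappingCone.ext_from _ (p + 1) p rfl
  · rw [inl_tc_v_assoc, inl_coneMap_assoc, inl_tc_v, Preadditive.neg_comp, Category.assoc,
      inl_coneMap, reassoc_of% (hv (p + 1) p (by omega)), Preadditive.comp_neg]
  · rw [inr_tc_v_assoc, inr_coneMap_assoc, inr_tc_v, Preadditive.add_comp, Linear.smul_comp,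
      inl_coneMap, Category.assoc, inr_coneMap, reassoc_of% (hv p q hpq), Preadditive.comp_add,
      Linear.comp_smul]

end nat

section list

open Groth.Agent.Lib.Helper14.KoszulFun

/-- the combination `∑ lamᵢ gᵢ` -/
def dot : List A → (ℕ → A) → A
  | [], _ => 0
  | y :: g, lam => lam 0 * y + dot g (fun i => lam (i + 1))

/-- the Koszul homotopy "wedge with `∑ lamᵢ εᵢ`" on an iterated cone -/
noncomputable def tl : ∀ (g : List A) (Z : CochainComplex (ModuleCat.{u} A) ℤ) (_ : ℕ → A),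
    Cochain (iterCone g Z) (iterCone g Z) (-1)
  | [], _, _ => 0
  | y :: g, Z, lam => tc y (iterCone g Z) (lam 0) (tl g Z (fun i => lam (i + 1)))

lemma tl_nil (Z : CochainComplex (ModuleCat.{u} A) ℤ) (lam : ℕ → A) : tl [] Z lam = 0 := rfl

lemma tl_cons (y : A) (g : List A) (Z : CochainComplex (ModuleCat.{u} A) ℤ) (lam : ℕ → A) :
    tl (y :: g) Z lam = tc y (iterCone g Z) (lam 0) (tl g Z (fun i => lam (i + 1))) := rfl

theorem δ_tl (g : List A) (Z : CochainComplex (ModuleCat.{u} A) ℤ) (lam : ℕ → A) :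
    δ (-1) 0 (tl g Z lam) = Cochain.ofHom (dot g lam • 𝟙 (iterCone g Z)) := by
  induction g generalizing lam with
  | nil =>
    rw [tl_nil, δ_zero]
    simp [dot]
  | cons y g ih =>
    exact δ_tc y (iterCone g Z) (lam 0) _ _ (ih _)

theorem tl_comp_tl (g : List A) (Z : CochainComplex (ModuleCat.{u} A) ℤ) (lam : ℕ → A) :
    (tl g Z lam).comp (tl g Z lam) (by norm_num : (-1 : ℤ) + -1 = -2) = 0 := by
  induction g generalizing lam with
  | nil => rw [tl_nil, Cochain.zero_comp]
  | cons y g ih => exact tc_comp_tc y (iterCone g Z) (lam 0) _ (ih _)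

theorem tl_add (g : List A) (Z : CochainComplex (ModuleCat.{u} A) ℤ) (lam mu : ℕ → A) :
    tl g Z (lam + mu) = tl g Z lam + tl g Z mu := by
  induction g generalizing lam mu with
  | nil => simp [tl_nil]
  | cons y g ih =>
    exact (congrArg (tc y (iterCone g Z) (lam 0 + mu 0))
      (ih (fun i => lam (i + 1)) (fun i => mu (i + 1)))).trans (tc_add y (iterCone g Z) _ _ _ _)

theorem tl_smul (g : List A) (Z : CochainComplex (ModuleCat.{u} A) ℤ) (a : A) (lam : ℕ → A) :
    tl g Z (a • lam) = a • tl g Z lam := by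
  induction g generalizing lam with
  | nil => simp [tl_nil]
  | cons y g ih =>
    exact (congrArg (tc y (iterCone g Z) (a * lam 0))
      (ih (fun i => lam (i + 1)))).trans (tc_smul y (iterCone g Z) _ _ _)

theorem tl_naturality (g : List A) {Z Z' : CochainComplex (ModuleCat.{u} A) ℤ} (ψ : Z ⟶ Z')
    (lam : ℕ → A) :
    (tl g Z lam).comp (Cochain.ofHom (iterConeMap g ψ)) (add_zero _) =
      (Cochain.ofHom (iterConeMap g ψ)).comp (tl g Z' lam) (zero_add _) := by
  induction g generalizing lam with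
  | nil => simp [tl_nil]
  | cons y g ih =>
    exact tc_naturality y (iterConeMap g ψ) (lam 0) _ _ (ih _)

end list

end Wb

end Groth.Agent.Lib.Helper18.DR
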