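import Mathlib
import Groth.Agent.Lib.Helper18.WbA

/-!
# Wiebe's theorem, part B: cocycles in the bottom degree of an iterated cone (helper18)
-/

set_option autoImplicit false
set_option linter.style.haveILetI false
universe u
open CategoryTheory CategoryTheory.Limits CochainComplex HomComplex

namespace Groth.Agent.Lib.Helper18.DR

namespace Wb

open Groth.Agent.Lib.Helper1.KoszulConcat Groth.Agent.Lib.Helper1.KoszulSwap
open Groth.Agent.Lib.Helper14.KoszulFun
open Groth.Agent.Lib.Helper4 (cochain_ofHom_smul)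

variable {A : Type u} [CommRing A]

section elem

variable (x : A) (W : CochainComplex (ModuleCat.{u} A) ℤ)

lemma smul_id_f_apply (n : ℤ) (a : W.X n) : ((x • 𝟙 W : W ⟶ W).f n) a = x • a := by
  simp

lemma d_inl_apply (j j₁ j₂ : ℤ) (h₁ : j + 1 = j₁) (h₂ : j₁ + 1 = j₂) (a : W.X j₁) :
    (mappingCone (x • 𝟙 W)).d j j₁ ((mappingCone.inl (x • 𝟙 W)).v j₁ j (by omega) a) =
      (mappingCone.inr (x • 𝟙 W)).f j₁ (x • a) -
        (mappingCone.inl (x • 𝟙 W)).v j₂ j₁ (by omega) (W.d j₁ j₂ a) := by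
  have h := ConcreteCategory.congr_hom
    (mappingCone.inl_v_d (x • 𝟙 W) j₁ j j₂ (by omega) (by omega)) a
  simp only [ModuleCat.hom_comp, LinearMap.comp_apply, ModuleCat.hom_sub, LinearMap.sub_apply] at h
  rw [h, smul_id_f_apply]

lemma d_inr_apply (j j₁ : ℤ) (b : W.X j) :
    (mappingCone (x • 𝟙 W)).d j j₁ ((mappingCone.inr (x • 𝟙 W)).f j b) =
      (mappingCone.inr (x • 𝟙 W)).f j₁ (W.d j j₁ b) := by
  have h := ConcreteCategory.congr_hom (mappingCone.inr_f_d (x • 𝟙 W) j j₁) b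
  simpa only [ModuleCat.hom_comp, LinearMap.comp_apply] using h

lemma fst_d_apply (j j₁ j₂ : ℤ) (h₁ : j + 1 = j₁) (h₂ : j₁ + 1 = j₂)
    (z : (mappingCone (x • 𝟙 W)).X j) :
    (mappingCone.fst (x • 𝟙 W)).1.v j₁ j₂ h₂ ((mappingCone (x • 𝟙 W)).d j j₁ z) =
      - W.d j₁ j₂ ((mappingCone.fst (x • 𝟙 W)).1.v j j₁ h₁ z) := by
  have h := ConcreteCategory.congr_hom (mappingCone.d_fst_v (x • 𝟙 W) j j₁ j₂ h₁ h₂) z
  simpa only [ModuleCat.hom_comp, LinearMap.comp_apply, ModuleCat.hom_neg, LinearMap.neg_apply]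
    using h

lemma snd_d_apply (j j₁ : ℤ) (h₁ : j + 1 = j₁) (z : (mappingCone (x • 𝟙 W)).X j) :
    (mappingCone.snd (x • 𝟙 W)).v j₁ j₁ (add_zero _) ((mappingCone (x • 𝟙 W)).d j j₁ z) =
      x • (mappingCone.fst (x • 𝟙 W)).1.v j j₁ h₁ z +
        W.d j j₁ ((mappingCone.snd (x • 𝟙 W)).v j j (add_zero _) z) := by
  have h := ConcreteCategory.congr_hom (mappingCone.d_snd_v (x • 𝟙 W) j j₁ h₁) z
  simp only [ModuleCat.hom_comp, LinearMap.comp_apply, ModuleCat.hom_add, LinearMap.add_apply] at h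
  rw [h, smul_id_f_apply]

lemma decomp' (j j₁ : ℤ) (h₁ : j + 1 = j₁) (z : (mappingCone (x • 𝟙 W)).X j) :
    z = (mappingCone.inl (x • 𝟙 W)).v j₁ j (by omega)
          ((mappingCone.fst (x • 𝟙 W)).1.v j j₁ h₁ z) +
        (mappingCone.inr (x • 𝟙 W)).f j ((mappingCone.snd (x • 𝟙 W)).v j j (add_zero _) z) := by
  subst h₁
  exact decomp x j z

lemma inr_injective (j : ℤ) : Function.Injective ((mappingCone.inr (x • 𝟙 W)).f j) := by
  intro b b' h
  have h1 := ConcreteCategory.congr_hom (mappingCone.inr_f_snd_v (x • 𝟙 W) j) b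
  have h2 := ConcreteCategory.congr_hom (mappingCone.inr_f_snd_v (x • 𝟙 W) j) b'
  simp only [ModuleCat.hom_comp, LinearMap.comp_apply, ModuleCat.hom_id, LinearMap.id_apply]
    at h1 h2
  rw [← h1, ← h2, h]

/-- elementwise form of a homotopy -/
lemma homotopy_apply (t : Cochain W W (-1)) (m : A)
    (ht : δ (-1) 0 t = Cochain.ofHom (m • 𝟙 W)) (p p₀ p₁ : ℤ) (h₀ : p₀ + 1 = p) (h₁ : p + 1 = p₁)
    (a : W.X p) :
    W.d p₀ p (t.v p p₀ (by omega) a) + t.v p₁ p (by omega) (W.d p p₁ a) = m • a := by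
  have h := Cochain.congr_v ht p p (add_zero _)
  rw [δ_v (-1) 0 (neg_add_cancel 1) t p p (add_zero p) p₀ p₁ (by omega) (by omega),
    Cochain.ofHom_v] at h
  have h' := ConcreteCategory.congr_hom h a
  simp only [Int.negOnePow_zero, one_smul, ModuleCat.hom_add, LinearMap.add_apply,
    ModuleCat.hom_comp, LinearMap.comp_apply] at h'
  rw [h', smul_id_f_apply]

end elem

section gen

/-- cocycles in degrees below `m` are coboundaries -/
def GenLow (Y : CochainComplex (ModuleCat.{u} A) ℤ) (m : ℤ) : Prop :=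
  ∀ (j j₀ j₁ : ℤ), j₀ + 1 = j → j + 1 = j₁ → j < m → ∀ z : Y.X j, Y.d j j₁ z = 0 →
    ∃ y : Y.X j₀, Y.d j₀ j y = z

/-- cocycles in degree `m` are multiples of `w` up to coboundaries -/
def GenTop (Y : CochainComplex (ModuleCat.{u} A) ℤ) (m : ℤ) (w : Y.X m) : Prop :=
  ∀ (m₀ m₁ : ℤ), m₀ + 1 = m → m + 1 = m₁ → ∀ z : Y.X m, Y.d m m₁ z = 0 →
    ∃ (r : A) (y : Y.X m₀), z = r • w + Y.d m₀ m y

variable (x : A) (W : CochainComplex (ModuleCat.{u} A) ℤ) (t : Cochain W W (-1))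
  (ht : δ (-1) 0 t = Cochain.ofHom (x • 𝟙 W))

/-- the section of the cone over a null-homotopic multiplication, on elements -/
noncomputable def sec (m m' : ℤ) (hm : m + 1 = m') (w' : W.X m') : (mappingCone (x • 𝟙 W)).X m :=
  (mappingCone.inl (x • 𝟙 W)).v m' m (by omega) w' -
    (mappingCone.inr (x • 𝟙 W)).f m (t.v m' m (by omega) w')

include ht in
lemma d_t_apply_of_cocycle (m m' m'' : ℤ) (hm : m + 1 = m') (hm' : m' + 1 = m'') (w' : W.X m')
    (hw' : W.d m' m'' w' = 0) : W.d m m' (t.v m' m (by omega) w') = x • w' := by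
  have h := homotopy_apply W t x ht m' m m'' hm hm' w'
  rwa [hw', map_zero, add_zero] at h

include ht in
theorem d_sec (m m' m'' : ℤ) (hm : m + 1 = m') (hm' : m' + 1 = m'') (w' : W.X m')
    (hw' : W.d m' m'' w' = 0) :
    (mappingCone (x • 𝟙 W)).d m m' (sec x W t m m' hm w') = 0 := by
  unfold sec
  rw [map_sub, d_inl_apply x W m m' m'' hm hm', d_inr_apply, hw', map_zero, sub_zero,
    d_t_apply_of_cocycle x W t ht m m' m'' hm hm' w' hw', sub_self]

theorem genLow_cone (m m' : ℤ) (hm : m + 1 = m') (hL : GenLow W m') :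
    GenLow (mappingCone (x • 𝟙 W)) m := by
  intro j j₀ j₁ h₀ h₁ hj z hz
  set a := (mappingCone.fst (x • 𝟙 W)).1.v j j₁ h₁ z with ha
  set b := (mappingCone.snd (x • 𝟙 W)).v j j (add_zero _) z with hb
  have hda : W.d j₁ (j₁ + 1) a = 0 := by
    have := fst_d_apply x W j j₁ (j₁ + 1) h₁ rfl z
    rw [hz, map_zero] at this
    exact neg_eq_zero.mp this.symm
  obtain ⟨a', ha'⟩ := hL j₁ j (j₁ + 1) h₁ rfl (by omega) a hda
  have hsnd : x • a + W.d j j₁ b = 0 := by
    have := snd_d_apply x W j j₁ h₁ z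
    rw [hz, map_zero] at this
    exact this.symm
  have hdb' : W.d j j₁ (b + x • a') = 0 := by
    rw [map_add, map_smul, ha', add_comm]
    exact hsnd
  obtain ⟨b'', hb''⟩ := hL j j₀ j₁ h₀ h₁ (by omega) (b + x • a') hdb'
  refine ⟨-(mappingCone.inl (x • 𝟙 W)).v j j₀ (by omega) a' +
    (mappingCone.inr (x • 𝟙 W)).f j₀ b'', ?_⟩
  rw [map_add, map_neg, d_inl_apply x W j₀ j j₁ h₀ h₁, d_inr_apply, hb'', ha', map_add,
    decomp' x W j j₁ h₁ z, ← ha, ← hb]
  abel

include ht in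
theorem genTop_cone (m m' m'' : ℤ) (hm : m + 1 = m') (hm' : m' + 1 = m'') (w' : W.X m')
    (hw' : W.d m' m'' w' = 0) (hL : GenLow W m') (hT : GenTop W m' w') :
    GenTop (mappingCone (x • 𝟙 W)) m (sec x W t m m' hm w') := by
  intro m₀ m₁ h₀ h₁ z hz
  obtain rfl : m₁ = m' := by omega
  set a := (mappingCone.fst (x • 𝟙 W)).1.v m m₁ h₁ z with ha
  set b := (mappingCone.snd (x • 𝟙 W)).v m m (add_zero _) z with hb
  have hda : W.d m₁ m'' a = 0 := by
    have := fst_d_apply x W m m₁ m'' h₁ hm' z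
    rw [hz, map_zero] at this
    exact neg_eq_zero.mp this.symm
  obtain ⟨r, a', ha'⟩ := hT m m'' hm hm' a hda
  have hsnd : x • a + W.d m m₁ b = 0 := by
    have := snd_d_apply x W m m₁ h₁ z
    rw [hz, map_zero] at this
    exact this.symm
  have hdt := d_t_apply_of_cocycle x W t ht m m₁ m'' hm hm' w' hw'
  have hdb' : W.d m m₁ (b + r • t.v m₁ m (by omega) w' + x • a') = 0 := by
    rw [map_add, map_add, map_smul, map_smul, hdt]
    have : W.d m m₁ a' = a - r • w' := by rw [ha']; abel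
    rw [this, smul_sub, smul_comm x r w']
    rw [← hsnd]
    abel
  obtain ⟨b'', hb''⟩ := hL m m₀ m₁ h₀ h₁ (by omega) _ hdb'
  refine ⟨r, -(mappingCone.inl (x • 𝟙 W)).v m m₀ (by omega) a' +
    (mappingCone.inr (x • 𝟙 W)).f m₀ b'', ?_⟩
  rw [map_add, map_neg, d_inl_apply x W m₀ m m₁ h₀ h₁, d_inr_apply, hb'']
  have hz' := decomp' x W m m₁ h₁ z
  rw [← ha, ← hb, ha'] at hz'
  rw [hz']
  unfold sec
  simp only [map_add, map_smul, smul_sub, map_sub]
  abel

end gen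

end Wb

end Groth.Agent.Lib.Helper18.DR
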