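import Mathlib
import Groth.Agent.Lib.Helper18.WbB

/-!
# Wiebe's theorem, part C: the generating cocycle of an iterated cone and its projection (helper18)
-/

set_option autoImplicit false
set_option linter.style.haveILetI false
universe u
open CategoryTheory CategoryTheory.Limits CochainComplex HomComplex

namespace Groth.Agent.Lib.Helper18.DR

namespace Wb

open Groth.Agent.Lib.Helper1.KoszulConcat Groth.Agent.Lib.Helper1.KoszulSwap
open Groth.Agent.Lib.Helper14.KoszulFun
open Groth.Agent.Lib.Helper4 (cochain_ofHom_smul)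

variable {A : Type u} [CommRing A]

section kq

variable (x : A) {W Wb : CochainComplex (ModuleCat.{u} A) ℤ} (ρ : W ⟶ Wb) (hx : x • 𝟙 Wb = 0)

include hx in
lemma smul_comp_eq_zero : (x • 𝟙 W) ≫ ρ = 0 := by
  rw [Linear.smul_comp, Category.id_comp, ← Category.comp_id ρ, ← Linear.comp_smul, hx, comp_zero]

/-- the projection of the cone of `x` onto a target killed by `x` -/
noncomputable def kq : mappingCone (x • 𝟙 W) ⟶ Wb :=
  mappingCone.desc (x • 𝟙 W) 0 ρ (by rw [δ_zero, smul_comp_eq_zero x ρ hx]; simp)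

@[reassoc]
lemma inl_kq (p q : ℤ) (h : p + (-1) = q) :
    (mappingCone.inl (x • 𝟙 W)).v p q h ≫ (kq x ρ hx).f q = 0 := by
  unfold kq
  rw [mappingCone.inl_v_desc_f, Cochain.zero_v]

@[reassoc]
lemma inr_kq (p : ℤ) : (mappingCone.inr (x • 𝟙 W)).f p ≫ (kq x ρ hx).f p = ρ.f p := by
  unfold kq
  rw [mappingCone.inr_f_desc_f]

lemma kq_inl_apply (p q : ℤ) (h : p + (-1) = q) (a : W.X p) :
    (kq x ρ hx).f q ((mappingCone.inl (x • 𝟙 W)).v p q h a) = 0 := by
  have := ConcreteCategory.congr_hom (inl_kq x ρ hx p q h) a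
  simpa only [ModuleCat.hom_comp, LinearMap.comp_apply, ModuleCat.hom_zero,
    LinearMap.zero_apply] using this

lemma kq_inr_apply (p : ℤ) (b : W.X p) :
    (kq x ρ hx).f p ((mappingCone.inr (x • 𝟙 W)).f p b) = ρ.f p b := by
  have := ConcreteCategory.congr_hom (inr_kq x ρ hx p) b
  simpa only [ModuleCat.hom_comp, LinearMap.comp_apply] using this

/-- `kq` intertwines induced homotopies -/
theorem tc_kq (t : Cochain W W (-1)) (tb : Cochain Wb Wb (-1))
    (h : t.comp (Cochain.ofHom ρ) (add_zero _) = (Cochain.ofHom ρ).comp tb (zero_add _)) :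
    (tc x W 0 t).comp (Cochain.ofHom (kq x ρ hx)) (add_zero _) =
      (Cochain.ofHom (kq x ρ hx)).comp tb (zero_add _) := by
  have hv : ∀ (p q : ℤ) (hpq : p + (-1) = q), t.v p q hpq ≫ ρ.f q = ρ.f p ≫ tb.v p q hpq := by
    intro p q hpq
    have := Cochain.congr_v h p q hpq
    rwa [Cochain.comp_v _ _ _ p q q hpq (add_zero _), Cochain.ofHom_v,
      Cochain.comp_v _ _ _ p p q (add_zero _) hpq, Cochain.ofHom_v] at this
  refine Cochain.ext _ _ (fun p q hpq => ?_)
  rw [Cochain.comp_v _ _ _ p q q hpq (add_zero _), Cochain.ofHom_v,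
    Cochain.comp_v _ _ _ p p q (add_zero _) hpq, Cochain.ofHom_v]
  apply mappingCone.ext_from _ (p + 1) p rfl
  · rw [inl_tc_v_assoc, Preadditive.neg_comp, Category.assoc, inl_kq, comp_zero, neg_zero,
      inl_kq_assoc, zero_comp]
  · rw [inr_tc_v_assoc, Preadditive.add_comp, Linear.smul_comp, zero_smul, zero_add,
      Category.assoc, inr_kq, inr_kq_assoc, hv]

end kq

section qf

/-- the projection of an iterated cone onto a target killed by the elements of the list -/
noncomputable def qf : ∀ (f : List A) {W Wb : CochainComplex (ModuleCat.{u} A) ℤ} (_ : W ⟶ Wb)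
    (_ : ∀ x ∈ f, x • 𝟙 Wb = 0), iterCone f W ⟶ Wb
  | [], _, _, ρ, _ => ρ
  | x :: f, _, _, ρ, hk =>
    kq x (qf f ρ (fun y hy => hk y (List.mem_cons_of_mem _ hy))) (hk x List.mem_cons_self)

/-- a homotopy on `X` induced on an iterated cone over `X` -/
noncomputable def indL : ∀ (f : List A) (X : CochainComplex (ModuleCat.{u} A) ℤ)
    (_ : Cochain X X (-1)), Cochain (iterCone f X) (iterCone f X) (-1)
  | [], _, t => t
  | x :: f, X, t => tc x (iterCone f X) 0 (indL f X t)

theorem δ_indL (f : List A) (X : CochainComplex (ModuleCat.{u} A) ℤ) (t : Cochain X X (-1))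
    (m : A) (ht : δ (-1) 0 t = Cochain.ofHom (m • 𝟙 X)) :
    δ (-1) 0 (indL f X t) = Cochain.ofHom (m • 𝟙 (iterCone f X)) := by
  induction f with
  | nil => exact ht
  | cons x f ih =>
    have := δ_tc x (iterCone f X) 0 (indL f X t) m ih
    rw [zero_mul, zero_add] at this
    exact this

theorem indL_qf (f : List A) {X Xb : CochainComplex (ModuleCat.{u} A) ℤ} (p : X ⟶ Xb)
    (hk : ∀ x ∈ f, x • 𝟙 Xb = 0) (t : Cochain X X (-1)) (tb : Cochain Xb Xb (-1))
    (h : t.comp (Cochain.ofHom p) (add_zero _) = (Cochain.ofHom p).comp tb (zero_add _)) :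
    (indL f X t).comp (Cochain.ofHom (qf f p hk)) (add_zero _) =
      (Cochain.ofHom (qf f p hk)).comp tb (zero_add _) := by
  induction f with
  | nil => exact h
  | cons x f ih =>
    exact tc_kq x (qf f p (fun y hy => hk y (List.mem_cons_of_mem _ hy)))
      (hk x List.mem_cons_self) (indL f X t) tb (ih _)

end qf

section tot

/-- the total space of a complex -/
abbrev Tot (X : CochainComplex (ModuleCat.{u} A) ℤ) : Type u := ∀ k : ℤ, X.X k

variable {X : CochainComplex (ModuleCat.{u} A) ℤ}

/-- the endomorphism of the total space given by a cochain of degree `-1` -/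
noncomputable def TT (z : Cochain X X (-1)) : Tot X →ₗ[A] Tot X where
  toFun a := fun k => z.v (k + 1) k (by omega) (a (k + 1))
  map_add' a b := by
    funext k
    simp
  map_smul' c a := by
    funext k
    simp

lemma TT_apply (z : Cochain X X (-1)) (a : Tot X) (k : ℤ) :
    TT z a k = z.v (k + 1) k (by omega) (a (k + 1)) := rfl

lemma TT_single (z : Cochain X X (-1)) (m m' : ℤ) (h : m + (-1) = m') (v : X.X m) :
    TT z (Pi.single m v) = Pi.single m' (z.v m m' h v) := by
  funext k
  by_cases hk : k = m'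
  · subst hk
    obtain rfl : m = k + 1 := by omega
    simp [TT_apply]
  · have h' : k + 1 ≠ m := by omega
    rw [TT_apply, Pi.single_eq_of_ne hk, Pi.single_eq_of_ne h', map_zero]

/-- iterated application of the cochains `sb 0, sb 1, …, sb (n-1)` to an element of degree `0` -/
noncomputable def PS : (ℕ → Cochain X X (-1)) → ℕ → X.X 0 → Tot X
  | _, 0, v => Pi.single 0 v
  | sb, n + 1, v => TT (sb 0) (PS (fun i => sb (i + 1)) n v)

end tot

section main

theorem exists_w (f : List A) :
    ∀ (X : CochainComplex (ModuleCat.{u} A) ℤ) (s : ℕ → Cochain X X (-1))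
      (_ : ∀ i, δ (-1) 0 (s i) = Cochain.ofHom (f.getD i 0 • 𝟙 X))
      (o : X.X 0) (_ : X.d 0 1 o = 0) (_ : GenLow X 0) (_ : GenTop X 0 o)
      (m : ℤ) (_ : m + f.length = 0),
      ∃ w : (iterCone f X).X m, (iterCone f X).d m (m + 1) w = 0 ∧ GenLow (iterCone f X) m ∧
        GenTop (iterCone f X) m w ∧
        ∀ (Xb : CochainComplex (ModuleCat.{u} A) ℤ) (p : X ⟶ Xb) (hk : ∀ x ∈ f, x • 𝟙 Xb = 0)
          (sb : ℕ → Cochain Xb Xb (-1))
          (_ : ∀ i, (s i).comp (Cochain.ofHom p) (add_zero _) =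
            (Cochain.ofHom p).comp (sb i) (zero_add _)),
          (Pi.single m ((qf f p hk).f m w) : Tot Xb) =
            ((-1 : A) ^ f.length) • PS sb f.length (p.f 0 o) := by
  induction f with
  | nil =>
    intro X s hs o ho hL hT m hm
    obtain rfl : m = 0 := by simpa using hm
    refine ⟨o, ho, hL, hT, ?_⟩
    intro Xb p hk sb hp
    change (Pi.single 0 (p.f 0 o) : Tot Xb) = (-1 : A) ^ 0 • Pi.single 0 (p.f 0 o)
    rw [pow_zero, one_smul]
  | cons x f ih =>
    intro X s hs o ho hL hT m hm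
    have hm' : (m + 1) + f.length = 0 := by
      simp only [List.length_cons, Nat.cast_add, Nat.cast_one] at hm
      omega
    obtain ⟨w', hw', hL', hT', hq'⟩ := ih X (fun i => s (i + 1))
      (fun i => by simpa using hs (i + 1)) o ho hL hT (m + 1) hm'
    have ht : δ (-1) 0 (indL f X (s 0)) = Cochain.ofHom (x • 𝟙 (iterCone f X)) :=
      δ_indL f X (s 0) x (by simpa using hs 0)
    refine ⟨sec x (iterCone f X) (indL f X (s 0)) m (m + 1) rfl w',
      d_sec x _ _ ht m (m + 1) (m + 1 + 1) rfl rfl w' hw',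
      genLow_cone x _ m (m + 1) rfl hL',
      genTop_cone x _ _ ht m (m + 1) (m + 1 + 1) rfl rfl w' hw' hL' hT', ?_⟩
    intro Xb p hk sb hp
    have hk' : ∀ y ∈ f, y • 𝟙 Xb = 0 := fun y hy => hk y (List.mem_cons_of_mem _ hy)
    have h1 := hq' Xb p hk' (fun i => sb (i + 1)) (fun i => hp (i + 1))
    have h2 : (qf (x :: f) p hk).f m (sec x (iterCone f X) (indL f X (s 0)) m (m + 1) rfl w') =
        - (sb 0).v (m + 1) m (by omega) ((qf f p hk').f (m + 1) w') := by
      change (kq x (qf f p hk') (hk x List.mem_cons_self)).f m _ = _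
      unfold sec
      rw [map_sub, kq_inl_apply, kq_inr_apply, zero_sub]
      have hv := Cochain.congr_v (indL_qf f p hk' (s 0) (sb 0) (hp 0)) (m + 1) m (by omega)
      rw [Cochain.comp_v _ _ _ (m + 1) m m (by omega) (add_zero _), Cochain.ofHom_v,
        Cochain.comp_v _ _ _ (m + 1) (m + 1) m (add_zero _) (by omega), Cochain.ofHom_v] at hv
      have := ConcreteCategory.congr_hom hv w'
      simp only [ModuleCat.hom_comp, LinearMap.comp_apply] at this
      rw [this]
    rw [h2, Pi.single_neg, ← TT_single (sb 0) (m + 1) m (by omega), h1, map_smul]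
    change _ = (-1 : A) ^ (f.length + 1) • TT (sb 0) (PS (fun i => sb (i + 1)) f.length (p.f 0 o))
    rw [pow_succ, mul_smul, neg_one_smul A (TT (sb 0) _), smul_neg]

end main

end Wb

end Groth.Agent.Lib.Helper18.DR
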