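import Mathlib
import Groth.Agent.Lib.Helper18.WbC

/-!
# Wiebe's theorem, part D: the projection of an iterated cone is a quasi-isomorphism (helper18)
-/

set_option autoImplicit false
set_option linter.style.haveILetI false
universe u
open CategoryTheory CategoryTheory.Limits CochainComplex HomComplex

namespace Groth.Agent.Lib.Helper18.DR

namespace Wb

open Groth.Agent.Lib.Helper1.KoszulConcat Groth.Agent.Lib.Helper1.KoszulSwap
open Groth.Agent.Lib.Helper14.KoszulFun

variable {A : Type u} [CommRing A]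

section basic

variable (x y : A) {W Wb W' : CochainComplex (ModuleCat.{u} A) ℤ} (ρ : W ⟶ Wb)
  (hx : x • 𝟙 Wb = 0)

lemma kq_f (n : ℤ) :
    (kq x ρ hx).f n = (mappingCone.snd (x • 𝟙 W)).v n n (add_zero _) ≫ ρ.f n := by
  unfold kq
  rw [mappingCone.desc_f _ _ _ _ n (n + 1) rfl, Cochain.zero_v, comp_zero, zero_add]

include hx in
lemma smul_id_cone_eq_zero : x • 𝟙 (mappingCone (y • 𝟙 Wb)) = 0 := by
  have := coneMap_smul_id y (X := Wb) x
  rw [hx, coneMap_zero] at this
  exact this.symm

/-- naturality of `kq` in the source -/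
lemma coneMap_kq (ψ : W' ⟶ W) : coneMap x ψ ≫ kq x ρ hx = kq x (ψ ≫ ρ) hx := by
  ext n : 1
  rw [HomologicalComplex.comp_f, kq_f, kq_f, coneMap_snd_assoc, HomologicalComplex.comp_f]

/-- compatibility of `kq` with the swap of two cones -/
theorem swapHom_kq :
    swapHom y x W ≫ kq x (coneMap y ρ) (smul_id_cone_eq_zero x y hx) =
      coneMap y (kq x ρ hx) := by
  ext n : 1
  rw [HomologicalComplex.comp_f, kq_f]
  change swapF y x W n (n + 1) (n + 1 + 1) rfl rfl ≫ _ = _
  apply mappingCone.ext_to _ n (n + 1) rfl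
  · rw [Category.assoc, Category.assoc, coneMap_fst, swapF_snd_fst_assoc, coneMap_fst, kq_f]
  · rw [Category.assoc, Category.assoc, coneMap_snd, swapF_snd_snd_assoc, coneMap_snd, kq_f]

end basic

section comm

attribute [local instance] HasDerivedCategory.standard

/-- the commutation `T_y (Φ_f W) ⟶ Φ_f (T_y W)` -/
noncomputable def psi1 : ∀ (f : List A) (y : A) (W : CochainComplex (ModuleCat.{u} A) ℤ),
    mappingCone (y • 𝟙 (iterCone f W)) ⟶ iterCone f (mappingCone (y • 𝟙 W))
  | [], _, _ => 𝟙 _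
  | x :: f, y, W => swapHom y x (iterCone f W) ≫ coneMap x (psi1 f y W)

lemma quasiIso_coneMap (x : A) {W W' : CochainComplex (ModuleCat.{u} A) ℤ} (ψ : W ⟶ W')
    [QuasiIso ψ] : QuasiIso (coneMap x ψ) :=
  quasiIso_map _ _ _ _ _

lemma quasiIso_psi1 (f : List A) (y : A) (W : CochainComplex (ModuleCat.{u} A) ℤ) :
    QuasiIso (psi1 f y W) := by
  induction f with
  | nil => exact inferInstanceAs (QuasiIso (𝟙 _))
  | cons x f ih =>
    haveI := ih
    haveI := quasiIso_coneMap x (psi1 f y W)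
    exact inferInstanceAs (QuasiIso (swapHom y x (iterCone f W) ≫ coneMap x (psi1 f y W)))

lemma kills_cone (f : List A) (y : A) {Wb : CochainComplex (ModuleCat.{u} A) ℤ}
    (hk : ∀ x ∈ f, x • 𝟙 Wb = 0) : ∀ x ∈ f, x • 𝟙 (mappingCone (y • 𝟙 Wb)) = 0 :=
  fun x hx => smul_id_cone_eq_zero x y (hk x hx)

lemma kills_iterCone (f g : List A) {Zb : CochainComplex (ModuleCat.{u} A) ℤ}
    (hk : ∀ x ∈ f, x • 𝟙 Zb = 0) : ∀ x ∈ f, x • 𝟙 (iterCone g Zb) = 0 := by
  induction g with
  | nil => exact hk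
  | cons y g ih => exact kills_cone f y ih

theorem psi1_qf (f : List A) (y : A) {W Wb : CochainComplex (ModuleCat.{u} A) ℤ} (ρ : W ⟶ Wb)
    (hk : ∀ x ∈ f, x • 𝟙 Wb = 0) :
    psi1 f y W ≫ qf f (coneMap y ρ) (kills_cone f y hk) = coneMap y (qf f ρ hk) := by
  induction f with
  | nil => exact Category.id_comp _
  | cons x f ih =>
    have hk' : ∀ z ∈ f, z • 𝟙 Wb = 0 := fun z hz => hk z (List.mem_cons_of_mem _ hz)
    change (swapHom y x (iterCone f W) ≫ coneMap x (psi1 f y W)) ≫
      kq x (qf f (coneMap y ρ) (kills_cone f y hk')) (kills_cone _ y hk x List.mem_cons_self) =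
      coneMap y (kq x (qf f ρ hk') (hk x List.mem_cons_self))
    rw [Category.assoc, coneMap_kq, ih hk']
    exact swapHom_kq x y (qf f ρ hk') (hk x List.mem_cons_self)

theorem quasiIso_qf_iterConeMap (f g : List A) {Z Zb : CochainComplex (ModuleCat.{u} A) ℤ}
    (π : Z ⟶ Zb) (hk : ∀ x ∈ f, x • 𝟙 Zb = 0) (hbase : QuasiIso (qf f π hk)) :
    QuasiIso (qf f (iterConeMap g π) (kills_iterCone f g hk)) := by
  induction g with
  | nil => exact hbase
  | cons y g ih =>
    have h := psi1_qf f y (iterConeMap g π) (kills_iterCone f g hk)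
    haveI := ih
    haveI := quasiIso_psi1 f y (iterCone g Z)
    haveI : QuasiIso (psi1 f y (iterCone g Z) ≫
        qf f (coneMap y (iterConeMap g π)) (kills_cone f y (kills_iterCone f g hk))) := by
      rw [h]
      exact quasiIso_coneMap y _
    exact quasiIso_of_comp_left (psi1 f y (iterCone g Z))
      (qf f (coneMap y (iterConeMap g π)) (kills_cone f y (kills_iterCone f g hk)))

end comm

end Wb

end Groth.Agent.Lib.Helper18.DR
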