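import Mathlib
import Groth.Agent.Lib.Helper18.WbD

/-!
# Wiebe's theorem, part E: the Koszul complex resolves the quotient, as a `qf` (helper18)
-/

set_option autoImplicit false
set_option linter.style.haveILetI false
universe u
open CategoryTheory CategoryTheory.Limits CochainComplex HomComplex

namespace Groth.Agent.Lib.Helper18.DR

namespace Wb

open Groth.Agent.Lib.Helper1.KoszulConcat Groth.Agent.Lib.Helper1.KoszulSwap
open Groth.Agent.Lib.Helper14.KoszulFun

attribute [local instance] HasDerivedCategory.standard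

variable {A : Type u} [CommRing A]

/-- the unit complex -/
noncomputable abbrev S0 (A : Type u) [CommRing A] : CochainComplex (ModuleCat.{u} A) ℤ :=
  Koszul.koszul A []

/-- the quotient by an ideal as a complex in degree `0` -/
noncomputable abbrev Sbar (I : Ideal A) : CochainComplex (ModuleCat.{u} A) ℤ :=
  (CochainComplex.singleFunctor (ModuleCat.{u} A) 0).obj (ModuleCat.of A (A ⧸ I))

/-- the projection `A[0] ⟶ (A/I)[0]` -/
noncomputable abbrev piMap (I : Ideal A) : S0 A ⟶ Sbar I :=
  (CochainComplex.singleFunctor (ModuleCat.{u} A) 0).map (ModuleCat.ofHom (Submodule.mkQ I))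

lemma koszul_eq_iterCone (l : List A) : Koszul.koszul A l = iterCone l (S0 A) := by
  have := koszul_append l ([] : List A)
  rwa [List.append_nil] at this

lemma smul_id_single_eq_zero (M : ModuleCat.{u} A) (x : A) (h : ∀ m : M, x • m = 0) :
    x • 𝟙 ((CochainComplex.singleFunctor (ModuleCat.{u} A) 0).obj M) = 0 := by
  apply HomologicalComplex.from_single_hom_ext
  ext v
  let e := HomologicalComplex.singleObjXSelf (ComplexShape.up ℤ) (0 : ℤ) M
  have hv : v = e.inv (e.hom v) := by
    have := ConcreteCategory.congr_hom e.hom_inv_id v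
    simpa using this.symm
  change x • v = 0
  rw [hv, ← map_smul, h, map_zero]

lemma kills_Sbar (f : List A) : ∀ x ∈ f, x • 𝟙 (Sbar (Ideal.ofList f)) = 0 := by
  intro x hx
  apply smul_id_single_eq_zero
  intro m
  obtain ⟨a, rfl⟩ := Submodule.mkQ_surjective _ m
  rw [← map_smul, Submodule.mkQ_apply, Submodule.Quotient.mk_eq_zero]
  exact Ideal.mul_mem_right _ _ (Ideal.subset_span hx)

/-- the inclusion of the base into an iterated cone -/
noncomputable def ιL : ∀ (l : List A) (Z : CochainComplex (ModuleCat.{u} A) ℤ), Z ⟶ iterCone l Z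
  | [], _ => 𝟙 _
  | x :: l, Z => ιL l Z ≫ mappingCone.inr (x • 𝟙 (iterCone l Z))

lemma ιL_qf (f : List A) {W Wb : CochainComplex (ModuleCat.{u} A) ℤ} (ρ : W ⟶ Wb)
    (hk : ∀ x ∈ f, x • 𝟙 Wb = 0) : ιL f W ≫ qf f ρ hk = ρ := by
  induction f with
  | nil => exact Category.id_comp _
  | cons x f ih =>
    have hk' : ∀ z ∈ f, z • 𝟙 Wb = 0 := fun z hz => hk z (List.mem_cons_of_mem _ hz)
    change (ιL f W ≫ mappingCone.inr (x • 𝟙 (iterCone f W))) ≫
      kq x (qf f ρ hk') (hk x List.mem_cons_self) = ρ
    rw [Category.assoc]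
    have : mappingCone.inr (x • 𝟙 (iterCone f W)) ≫ kq x (qf f ρ hk') (hk x List.mem_cons_self) =
        qf f ρ hk' := by
      ext n : 1
      exact inr_kq x _ _ n
    rw [this, ih]

instance isStrictlyLE_iterCone (l : List A) (Z : CochainComplex (ModuleCat.{u} A) ℤ) (n : ℤ)
    [Z.IsStrictlyLE n] : (iterCone l Z).IsStrictlyLE n := by
  induction l with
  | nil => exact inferInstanceAs (Z.IsStrictlyLE n)
  | cons x l ih =>
    haveI := ih
    exact isStrictlyLE_mappingCone _ n

instance : (S0 A).IsStrictlyLE 0 :=
  inferInstanceAs (((CochainComplex.singleFunctor (ModuleCat.{u} A) 0).obj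
    (ModuleCat.of A A)).IsStrictlyLE 0)

lemma epi_homologyMap_ιL (l : List A) (Z : CochainComplex (ModuleCat.{u} A) ℤ)
    [Z.IsStrictlyLE 0] : Epi (HomologicalComplex.homologyMap (ιL l Z) 0) := by
  induction l with
  | nil =>
    change Epi (HomologicalComplex.homologyMap (𝟙 Z) 0)
    rw [HomologicalComplex.homologyMap_id]
    infer_instance
  | cons x l ih =>
    change Epi (HomologicalComplex.homologyMap
      (ιL l Z ≫ mappingCone.inr (x • 𝟙 (iterCone l Z))) 0)
    rw [HomologicalComplex.homologyMap_comp]
    have hH1 : IsZero ((iterCone l Z).homology 1) :=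
      Groth.Agent.Lib.Helper14.KoszulFun.isZero_homology_of_isZero_X _ 1
        ((iterCone l Z).isZero_of_isStrictlyLE 0 1 (by omega))
    haveI := Groth.Agent.Lib.Helper14.ConeLES.epi_homologyMap_inr
      (x • 𝟙 (iterCone l Z)) 0 1 rfl hH1
    haveI := ih
    exact epi_comp _ _

lemma homologyMap_smul_id_apply' (K : CochainComplex (ModuleCat.{u} A) ℤ) (a : A) (i : ℤ)
    (w : K.homology i) : (HomologicalComplex.homologyMap (a • 𝟙 K) i) w = a • w := by
  rw [homologyMap_smul, HomologicalComplex.homologyMap_id]
  rfl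

theorem quasiIso_qf_base (f : List A) (hf : LCI.IsKoszulRegularSeq A f) :
    QuasiIso (qf f (piMap (Ideal.ofList f)) (kills_Sbar f)) := by
  set I := Ideal.ofList f with hI
  set q := qf f (piMap I) (kills_Sbar f) with hq
  rw [quasiIso_iff]
  intro i
  by_cases hi : i = 0
  · subst hi
    rw [quasiIsoAt_iff_isIso_homologyMap, ConcreteCategory.isIso_iff_bijective]
    have hιq : ιL f (S0 A) ≫ q = piMap I := ιL_qf f _ _
    have hcomp : HomologicalComplex.homologyMap (ιL f (S0 A)) 0 ≫
        HomologicalComplex.homologyMap q 0 = HomologicalComplex.homologyMap (piMap I) 0 := by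
      rw [← HomologicalComplex.homologyMap_comp, hιq]
    have hepi := epi_homologyMap_ιL f (S0 A)
    rw [ModuleCat.epi_iff_surjective] at hepi
    let e₀ : (S0 A).homology 0 ≅ ModuleCat.of A A :=
      HomologicalComplex.singleObjHomologySelfIso (ComplexShape.up ℤ) (0 : ℤ) (ModuleCat.of A A)
    let e₁ : (Sbar I).homology 0 ≅ ModuleCat.of A (A ⧸ I) :=
      HomologicalComplex.singleObjHomologySelfIso (ComplexShape.up ℤ) (0 : ℤ)
        (ModuleCat.of A (A ⧸ I))
    have hnat : HomologicalComplex.homologyMap (piMap I) 0 ≫ e₁.hom =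
        e₀.hom ≫ ModuleCat.ofHom (Submodule.mkQ I) :=
      HomologicalComplex.singleObjHomologySelfIso_hom_naturality _ _ _
    have hnat' : ∀ v, e₁.hom ((HomologicalComplex.homologyMap (piMap I) 0) v) =
        Submodule.mkQ I (e₀.hom v) := by
      intro v
      have := ConcreteCategory.congr_hom hnat v
      simpa only [ModuleCat.hom_comp, LinearMap.comp_apply, ModuleCat.hom_ofHom] using this
    have hcomp' : ∀ v, (HomologicalComplex.homologyMap q 0)
        ((HomologicalComplex.homologyMap (ιL f (S0 A)) 0) v) =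
        (HomologicalComplex.homologyMap (piMap I) 0) v := by
      intro v
      have := ConcreteCategory.congr_hom hcomp v
      simpa only [ModuleCat.hom_comp, LinearMap.comp_apply] using this
    have he₀ : ∀ v, v = e₀.inv (e₀.hom v) := by
      intro v
      have := ConcreteCategory.congr_hom e₀.hom_inv_id v
      simpa using this.symm
    have he₁ : Function.Injective e₁.hom := (ConcreteCategory.bijective_of_isIso e₁.hom).1
    constructor
    · rw [injective_iff_map_eq_zero]
      intro w hw
      obtain ⟨v, rfl⟩ := hepi w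
      rw [hcomp'] at hw
      have ha : e₀.hom v ∈ I := by
        have h1 := hnat' v
        rw [hw, map_zero] at h1
        rw [← Submodule.Quotient.mk_eq_zero, ← Submodule.mkQ_apply]
        exact h1.symm
      have hv : v = (e₀.hom v) • e₀.inv (1 : A) := by
        conv_lhs => rw [he₀ v]
        rw [← map_smul, smul_eq_mul, mul_one]
      rw [hv, map_smul, ← homologyMap_smul_id_apply']
      have hz := homologyMap_smul_eq_zero f (e₀.hom v) ha 0
      rw [koszul_eq_iterCone] at hz
      rw [hz]
      rfl
    · intro c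
      obtain ⟨a, ha⟩ := Submodule.mkQ_surjective I (e₁.hom c)
      refine ⟨(HomologicalComplex.homologyMap (ιL f (S0 A)) 0) (e₀.inv a), ?_⟩
      rw [hcomp']
      apply he₁
      rw [hnat', ← ha]
      congr 1
      have := ConcreteCategory.congr_hom e₀.inv_hom_id a
      simpa using this
  · have h1 : (iterCone f (S0 A)).ExactAt i := by
      rw [HomologicalComplex.exactAt_iff_isZero_homology, ← koszul_eq_iterCone]
      exact hf i hi
    rw [quasiIsoAt_iff_exactAt _ _ h1]
    exact HomologicalComplex.exactAt_single_obj _ _ _ _ hi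

end Wb

end Groth.Agent.Lib.Helper18.DR
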