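import Mathlib
import Groth.Agent.Lib.Helper18.WbE

/-!
# Wiebe's theorem, part F: total-space calculus and the determinant (helper18)
-/

set_option autoImplicit false
set_option linter.style.haveILetI false
universe u
open CategoryTheory CategoryTheory.Limits CochainComplex HomComplex

namespace Groth.Agent.Lib.Helper18.DR

namespace Wb

open Groth.Agent.Lib.Helper1.KoszulConcat Groth.Agent.Lib.Helper1.KoszulSwap
open Groth.Agent.Lib.Helper14.KoszulFun

variable {A : Type u} [CommRing A]

section alt

/-- an alternating map on `n` vectors of `Aⁿ` is the determinant times its value on the standard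
basis -/
theorem alternating_eq_det_smul {N : Type*} [AddCommGroup N] [Module A N] (n : ℕ)
    (F : (Fin n → A) [⋀^Fin n]→ₗ[A] N) (C : Matrix (Fin n) (Fin n) A) :
    F (fun i => C i) = C.det • F (fun i => Pi.single i 1) := by
  classical
  set e := Pi.basisFun A (Fin n) with he
  have hb : (fun i => (Pi.single i 1 : Fin n → A)) = e := by
    funext i
    rw [he, Pi.basisFun_apply]
  set G : (Fin n → A) [⋀^Fin n]→ₗ[A] N :=
    (LinearMap.toSpanSingleton A N (F e)).compAlternatingMap e.det with hG
  have hFG : F = G := by
    refine Module.Basis.ext_alternating e fun i h => ?_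
    let σ : Equiv.Perm (Fin n) := Equiv.ofBijective i (Finite.injective_iff_bijective.1 h)
    change F (e ∘ σ) = G (e ∘ σ)
    rw [hG, LinearMap.compAlternatingMap_apply, AlternatingMap.map_perm, AlternatingMap.map_perm,
      Module.Basis.det_self, LinearMap.toSpanSingleton_apply]
    simp
  rw [hb]
  conv_lhs => rw [hFG, hG, LinearMap.compAlternatingMap_apply, LinearMap.toSpanSingleton_apply]
  rw [he, Pi.basisFun_det_apply]
  rfl

/-- products of square-zero endomorphisms depending linearly on a vector -/
theorem prod_eq_det_smul {T : Type*} [AddCommGroup T] [Module A T] (n : ℕ)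
    (E : (Fin n → A) →ₗ[A] Module.End A T) (hE : ∀ μ, E μ * E μ = 0)
    (C : Matrix (Fin n) (Fin n) A) (t : T) :
    (List.ofFn fun i => E (C i)).prod t =
      C.det • (List.ofFn fun i => E (Pi.single i 1)).prod t := by
  let L : ExteriorAlgebra A (Fin n → A) →ₐ[A] Module.End A T := ExteriorAlgebra.lift A ⟨E, hE⟩
  let F : (Fin n → A) [⋀^Fin n]→ₗ[A] T :=
    ((LinearMap.applyₗ t).comp L.toLinearMap).compAlternatingMap (ExteriorAlgebra.ιMulti A n)
  have hF : ∀ v : Fin n → (Fin n → A), F v = (List.ofFn fun i => E (v i)).prod t := by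
    intro v
    change L (ExteriorAlgebra.ιMulti A n v) t = _
    rw [ExteriorAlgebra.ιMulti_apply, map_list_prod, List.map_ofFn]
    congr 3
    funext i
    exact ExteriorAlgebra.lift_ι_apply A E hE (v i)
  have := alternating_eq_det_smul n F C
  rw [hF, hF] at this
  exact this

end alt

section TTlin

variable {X : CochainComplex (ModuleCat.{u} A) ℤ}

lemma TT_add (z z' : Cochain X X (-1)) : TT (z + z') = TT z + TT z' := by
  apply LinearMap.ext
  intro a
  funext k
  simp [TT_apply]

lemma TT_smul (c : A) (z : Cochain X X (-1)) : TT (c • z) = c • TT z := by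
  apply LinearMap.ext
  intro a
  funext k
  simp [TT_apply]

lemma TT_zero : TT (0 : Cochain X X (-1)) = 0 := by
  apply LinearMap.ext
  intro a
  funext k
  simp [TT_apply]

lemma TT_TT_eq_zero (z : Cochain X X (-1))
    (hz : z.comp z (by norm_num : (-1 : ℤ) + -1 = -2) = 0) (a : Tot X) : TT z (TT z a) = 0 := by
  funext k
  rw [TT_apply, TT_apply]
  have := ConcreteCategory.congr_hom
    (comp_v_eq_zero X hz (k + 1 + 1) (k + 1) k (by omega) (by omega)) (a (k + 1 + 1))
  simpa using this

lemma PS_eq_prod (sb : ℕ → Cochain X X (-1)) (n : ℕ) (v : X.X 0) :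
    PS sb n v = (List.ofFn fun i : Fin n => TT (sb i)).prod (Pi.single 0 v) := by
  induction n generalizing sb with
  | zero => simp [PS]
  | succ n ih =>
    rw [List.ofFn_succ, List.prod_cons, Module.End.mul_apply]
    change TT (sb 0) (PS (fun i => sb (i + 1)) n v) = _
    rw [ih]
    simp

end TTlin

end Wb

end Groth.Agent.Lib.Helper18.DR
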