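import Mathlib
import Groth.Agent.Lib.Helper18.WbF

/-!
# Wiebe's theorem, part G: the bottom element of an iterated cone (helper18)
-/

set_option autoImplicit false
set_option linter.style.haveILetI false
universe u
open CategoryTheory CategoryTheory.Limits CochainComplex HomComplex

namespace Groth.Agent.Lib.Helper18.DR

namespace Wb

open Groth.Agent.Lib.Helper1.KoszulConcat Groth.Agent.Lib.Helper1.KoszulSwap
open Groth.Agent.Lib.Helper14.KoszulFun

variable {A : Type u} [CommRing A]

section cone

variable (y : A) (W : CochainComplex (ModuleCat.{u} A) ℤ)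

/-- the left inclusion of a cone on total spaces -/
noncomputable def inlT : Tot W →ₗ[A] Tot (mappingCone (y • 𝟙 W)) where
  toFun a := fun k => (mappingCone.inl (y • 𝟙 W)).v (k + 1) k (by omega) (a (k + 1))
  map_add' a b := by
    funext k
    simp
  map_smul' c a := by
    funext k
    simp

/-- the right inclusion of a cone on total spaces -/
noncomputable def inrT : Tot W →ₗ[A] Tot (mappingCone (y • 𝟙 W)) where
  toFun a := fun k => (mappingCone.inr (y • 𝟙 W)).f k (a k)
  map_add' a b := by
    funext k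
    simp
  map_smul' c a := by
    funext k
    simp

lemma inlT_apply (a : Tot W) (k : ℤ) :
    inlT y W a k = (mappingCone.inl (y • 𝟙 W)).v (k + 1) k (by omega) (a (k + 1)) := rfl

lemma inrT_apply (a : Tot W) (k : ℤ) :
    inrT y W a k = (mappingCone.inr (y • 𝟙 W)).f k (a k) := rfl

lemma inlT_single (m m' : ℤ) (h : m + (-1) = m') (v : W.X m) :
    inlT y W (Pi.single m v) = Pi.single m' ((mappingCone.inl (y • 𝟙 W)).v m m' h v) := by
  funext k
  by_cases hk : k = m'
  · subst hk
    obtain rfl : m = k + 1 := by omega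
    simp [inlT_apply]
  · have h' : k + 1 ≠ m := by omega
    rw [inlT_apply, Pi.single_eq_of_ne hk, Pi.single_eq_of_ne h', map_zero]

lemma inrT_single (m : ℤ) (v : W.X m) :
    inrT y W (Pi.single m v) = Pi.single m ((mappingCone.inr (y • 𝟙 W)).f m v) := by
  funext k
  by_cases hk : k = m
  · subst hk
    simp [inrT_apply]
  · rw [inrT_apply, Pi.single_eq_of_ne hk, Pi.single_eq_of_ne hk, map_zero]

lemma TT_tc_inrT (c : A) (t : Cochain W W (-1)) (a : Tot W) :
    TT (tc y W c t) (inrT y W a) = c • inlT y W a + inrT y W (TT t a) := by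
  funext k
  rw [TT_apply, inrT_apply]
  have := ConcreteCategory.congr_hom (inr_tc_v y W c t (k + 1) k (by omega)) (a (k + 1))
  simp only [ModuleCat.hom_comp, LinearMap.comp_apply, ModuleCat.hom_add, LinearMap.add_apply,
    ModuleCat.hom_smul, LinearMap.smul_apply] at this
  rw [this]
  rfl

lemma PS_tc_inr (t : ℕ → Cochain W W (-1)) (n : ℕ) (v : W.X 0) :
    PS (fun i => tc y W 0 (t i)) n ((mappingCone.inr (y • 𝟙 W)).f 0 v) =
      inrT y W (PS t n v) := by
  induction n generalizing t with
  | zero =>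
    change Pi.single 0 _ = inrT y W (Pi.single 0 v)
    rw [inrT_single]
  | succ n ih =>
    change TT (tc y W 0 (t 0)) (PS (fun i => tc y W 0 (t (i + 1))) n _) =
      inrT y W (TT (t 0) (PS (fun i => t (i + 1)) n v))
    rw [ih (fun i => t (i + 1)), TT_tc_inrT, zero_smul, zero_add]

lemma PS_cone_step (t : ℕ → Cochain W W (-1)) (n : ℕ) (v : W.X 0) :
    TT (tc y W 1 0) (PS (fun i => tc y W 0 (t i)) n ((mappingCone.inr (y • 𝟙 W)).f 0 v)) =
      inlT y W (PS t n v) := by
  rw [PS_tc_inr, TT_tc_inrT, one_smul, TT_zero, LinearMap.zero_apply, map_zero, add_zero]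

lemma inlT_eq_single (a : Tot W) (m : ℤ) (ha : a = Pi.single (m + 1) (a (m + 1))) :
    inlT y W a = Pi.single m (inlT y W a m) := by
  conv_lhs => rw [ha, inlT_single y W (m + 1) m (by omega)]
  rfl

lemma inlT_eq_zero_imp (a : Tot W) (m : ℤ) (h : inlT y W a m = 0) : a (m + 1) = 0 := by
  rw [inlT_apply] at h
  have h1 := ConcreteCategory.congr_hom
    (mappingCone.inl_v_fst_v (y • 𝟙 W) (m + 1) m (by omega)) (a (m + 1))
  simp only [ModuleCat.hom_comp, LinearMap.comp_apply, ModuleCat.hom_id, LinearMap.id_apply]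
    at h1
  rw [← h1]
  erw [h]
  rw [map_zero]

lemma d_inlT (x : A) (a : Tot W) (m : ℤ)
    (h1 : W.d (m + 1) (m + 1 + 1) (x • a (m + 1)) = 0) (h2 : (x * y) • a (m + 1) = 0) :
    (mappingCone (y • 𝟙 W)).d m (m + 1) (x • inlT y W a m) = 0 := by
  rw [inlT_apply, ← map_smul, d_inl_apply y W m (m + 1) (m + 1 + 1) rfl rfl, h1, map_zero,
    sub_zero, smul_smul, mul_comm y x, h2, map_zero]

end cone

section UUT

/-- the bottom element `ε₁ ∧ … ∧ εₙ ⊗ v` of an iterated cone -/
noncomputable def UUT : ∀ (g : List A) (Z : CochainComplex (ModuleCat.{u} A) ℤ),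
    Z.X 0 →ₗ[A] Tot (iterCone g Z)
  | [], Z => LinearMap.single A (fun k => Z.X k) 0
  | y :: g, Z => (inlT y (iterCone g Z)).comp (UUT g Z)

lemma UUT_nil (Z : CochainComplex (ModuleCat.{u} A) ℤ) (v : Z.X 0) :
    UUT [] Z v = (Pi.single (0 : ℤ) v : Tot Z) := rfl

lemma UUT_nil_apply (Z : CochainComplex (ModuleCat.{u} A) ℤ) (v : Z.X 0) :
    UUT [] Z v 0 = v := by
  rw [UUT_nil]
  exact Pi.single_eq_same (M := fun k : ℤ => Z.X k) (0 : ℤ) v

lemma UUT_cons (y : A) (g : List A) (Z : CochainComplex (ModuleCat.{u} A) ℤ) (v : Z.X 0) :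
    UUT (y :: g) Z v = inlT y (iterCone g Z) (UUT g Z v) := rfl

lemma UUT_eq_single (g : List A) (Z : CochainComplex (ModuleCat.{u} A) ℤ) (m : ℤ)
    (hm : m + g.length = 0) (v : Z.X 0) :
    UUT g Z v = Pi.single m (UUT g Z v m) := by
  induction g generalizing m with
  | nil =>
    obtain rfl : m = 0 := by simpa using hm
    rw [UUT_nil_apply]
    rfl
  | cons y g ih =>
    have hm' : (m + 1) + g.length = 0 := by
      simp only [List.length_cons, Nat.cast_add, Nat.cast_one] at hm
      omega
    exact inlT_eq_single y (iterCone g Z) (UUT g Z v) m (ih (m + 1) hm')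

lemma UUT_injective (g : List A) (Z : CochainComplex (ModuleCat.{u} A) ℤ) (m : ℤ)
    (hm : m + g.length = 0) (v : Z.X 0) (h : UUT g Z v m = 0) : v = 0 := by
  induction g generalizing m with
  | nil =>
    obtain rfl : m = 0 := by simpa using hm
    rw [← UUT_nil_apply Z v]
    exact h
  | cons y g ih =>
    have hm' : (m + 1) + g.length = 0 := by
      simp only [List.length_cons, Nat.cast_add, Nat.cast_one] at hm
      omega
    exact ih (m + 1) hm' (inlT_eq_zero_imp y (iterCone g Z) (UUT g Z v) m h)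

lemma d_UUT (g : List A) (Z : CochainComplex (ModuleCat.{u} A) ℤ) (x : A) (v : Z.X 0)
    (hv : Z.d 0 1 v = 0) (hx : ∀ y ∈ g, (x * y) • v = 0) (m : ℤ) (hm : m + g.length = 0) :
    (iterCone g Z).d m (m + 1) (x • UUT g Z v m) = 0 := by
  induction g generalizing m with
  | nil =>
    obtain rfl : m = 0 := by simpa using hm
    rw [UUT_nil_apply, map_smul]
    change x • Z.d 0 1 v = 0
    rw [hv, smul_zero]
  | cons y g ih =>
    have hm' : (m + 1) + g.length = 0 := by
      simp only [List.length_cons, Nat.cast_add, Nat.cast_one] at hm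
      omega
    have ih' := ih (fun z hz => hx z (List.mem_cons_of_mem _ hz)) (m + 1) hm'
    have h0 : (x * y) • UUT g Z v (m + 1) = 0 := by
      have := congrFun (map_smul (UUT g Z) (x * y) v) (m + 1)
      rw [hx y List.mem_cons_self, map_zero] at this
      exact this.symm
    exact d_inlT y (iterCone g Z) x (UUT g Z v) m ih' h0

end UUT

section delta

lemma tl_zero (g : List A) (Z : CochainComplex (ModuleCat.{u} A) ℤ) : tl g Z 0 = 0 := by
  have := tl_smul g Z 0 0
  rwa [zero_smul, zero_smul] at this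

theorem PS_delta (g : List A) (Z : CochainComplex (ModuleCat.{u} A) ℤ) (v : Z.X 0) :
    PS (fun i => tl g Z (Pi.single i 1)) g.length ((ιL g Z).f 0 v) = UUT g Z v := by
  induction g with
  | nil => rfl
  | cons y g ih =>
    have h0 : tl (y :: g) Z (Pi.single 0 1) = tc y (iterCone g Z) 1 0 := by
      rw [tl_cons]
      have : (fun i : ℕ => (Pi.single 0 1 : ℕ → A) (i + 1)) = 0 := by
        funext i
        simp
      rw [this, tl_zero]
      simp
    have hs : ∀ i : ℕ, tl (y :: g) Z (Pi.single (i + 1) 1) =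
        tc y (iterCone g Z) 0 (tl g Z (Pi.single i 1)) := by
      intro i
      rw [tl_cons]
      have : (fun k : ℕ => (Pi.single (i + 1) 1 : ℕ → A) (k + 1)) = Pi.single i 1 := by
        funext k
        by_cases hk : k = i
        · subst hk
          simp
        · rw [Pi.single_eq_of_ne hk, Pi.single_eq_of_ne (by omega)]
      rw [this]
      simp
    have key := PS_cone_step y (iterCone g Z) (fun i => tl g Z (Pi.single i 1)) g.length
      ((ιL g Z).f 0 v)
    rw [ih] at key
    refine Eq.trans ?_ key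
    change TT (tl (y :: g) Z (Pi.single 0 1))
      (PS (fun i => tl (y :: g) Z (Pi.single (i + 1) 1)) g.length
        ((mappingCone.inr (y • 𝟙 (iterCone g Z))).f 0 ((ιL g Z).f 0 v))) = _
    rw [h0]
    simp only [hs]
    rfl

end delta

end Wb

end Groth.Agent.Lib.Helper18.DR
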