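import Mathlib
import Groth.Agent.Lib.Helper18.WbG

/-!
# Wiebe's theorem, part H: rows of a matrix and the determinant identity (helper18)
-/

set_option autoImplicit false
set_option linter.style.haveILetI false
universe u
open CategoryTheory CategoryTheory.Limits CochainComplex HomComplex

namespace Groth.Agent.Lib.Helper18.DR

namespace Wb

open Groth.Agent.Lib.Helper1.KoszulConcat Groth.Agent.Lib.Helper1.KoszulSwap
open Groth.Agent.Lib.Helper14.KoszulFun

variable {A : Type u} [CommRing A]

section ext

/-- extension by zero of a finite vector -/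
def extv (n : ℕ) (μ : Fin n → A) : ℕ → A := fun k => if h : k < n then μ ⟨k, h⟩ else 0

lemma extv_add (n : ℕ) (μ ν : Fin n → A) : extv n (μ + ν) = extv n μ + extv n ν := by
  funext k
  unfold extv
  by_cases h : k < n
  · simp [h]
  · simp [h]

lemma extv_smul (n : ℕ) (a : A) (μ : Fin n → A) : extv n (a • μ) = a • extv n μ := by
  funext k
  unfold extv
  by_cases h : k < n
  · simp [h]
  · simp [h]

lemma extv_single (n : ℕ) (i : Fin n) : extv n (Pi.single i (1 : A)) = Pi.single (i : ℕ) 1 := by
  funext k
  unfold extv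
  by_cases h : k < n
  · rw [dif_pos h]
    by_cases hk : k = i
    · subst hk
      simp
    · rw [Pi.single_eq_of_ne hk, Pi.single_eq_of_ne]
      intro h'
      apply hk
      rw [← h']
  · rw [dif_neg h, Pi.single_eq_of_ne]
    intro h'
    apply h
    rw [h']
    exact i.2

lemma dot_extv (g : List A) : ∀ (n : ℕ) (_ : g.length = n) (μ : Fin n → A),
    dot g (extv n μ) = ∑ j : Fin n, μ j * g.getD j 0 := by
  induction g with
  | nil =>
    intro n hn μ
    obtain rfl : n = 0 := by simpa using hn.symm
    simp [dot]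
  | cons y g ih =>
    intro n hn μ
    obtain rfl : n = g.length + 1 := by simpa using hn.symm
    have h1 : (fun i => extv (g.length + 1) μ (i + 1)) = extv g.length (fun j => μ j.succ) := by
      funext i
      unfold extv
      by_cases h : i < g.length
      · rw [dif_pos h, dif_pos (by omega)]
        rfl
      · rw [dif_neg h, dif_neg (by omega)]
    change extv (g.length + 1) μ 0 * y + dot g (fun i => extv (g.length + 1) μ (i + 1)) = _
    rw [h1, ih g.length rfl, Fin.sum_univ_succ]
    congr 1

end ext

section rows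

/-- the square-zero endomorphisms of the total space of an iterated cone -/
noncomputable def EL (g : List A) (Z : CochainComplex (ModuleCat.{u} A) ℤ) (n : ℕ) :
    (Fin n → A) →ₗ[A] Module.End A (Tot (iterCone g Z)) where
  toFun μ := TT (tl g Z (extv n μ))
  map_add' μ ν := by rw [extv_add, tl_add, TT_add]
  map_smul' a μ := by
    rw [extv_smul, tl_smul, TT_smul]
    rfl

lemma EL_apply (g : List A) (Z : CochainComplex (ModuleCat.{u} A) ℤ) (n : ℕ) (μ : Fin n → A) :
    EL g Z n μ = TT (tl g Z (extv n μ)) := rfl

lemma EL_sq (g : List A) (Z : CochainComplex (ModuleCat.{u} A) ℤ) (n : ℕ) (μ : Fin n → A) :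
    EL g Z n μ * EL g Z n μ = 0 := by
  apply LinearMap.ext
  intro a
  rw [Module.End.mul_apply, EL_apply]
  exact TT_TT_eq_zero _ (tl_comp_tl g Z _) a

theorem PS_rows (g : List A) (n : ℕ) (hn : g.length = n)
    (Z : CochainComplex (ModuleCat.{u} A) ℤ) (C : Matrix (Fin n) (Fin n) A) (v : Z.X 0)
    (rows : ℕ → ℕ → A) (hrows : ∀ i : Fin n, rows i = extv n (C i)) :
    PS (fun i => tl g Z (rows i)) n ((ιL g Z).f 0 v) = C.det • UUT g Z v := by
  rw [PS_eq_prod]
  have h1 : (List.ofFn fun i : Fin n => TT (tl g Z (rows i))) =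
      List.ofFn fun i : Fin n => EL g Z n (C i) := by
    congr 1
    funext i
    rw [hrows i, EL_apply]
  rw [h1, prod_eq_det_smul n (EL g Z n) (EL_sq g Z n) C]
  have h2 : (List.ofFn fun i : Fin n => EL g Z n (Pi.single i 1)) =
      List.ofFn fun i : Fin n => TT (tl g Z (Pi.single (i : ℕ) 1)) := by
    congr 1
    funext i
    rw [EL_apply, extv_single]
  rw [h2, ← PS_eq_prod (fun i => tl g Z (Pi.single i 1))]
  subst hn
  rw [PS_delta]

end rows

end Wb

end Groth.Agent.Lib.Helper18.DR
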