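import Mathlib
import Groth.Agent.Lib.Helper18.WbH
import Groth.Agent.Lib.Helper22.CyclesSeq

/-!
# Wiebe's theorem, part I: generation in degree zero, vanishing and lifting of cocycles (helper18)
-/

set_option autoImplicit false
set_option linter.style.haveILetI false
universe u
open CategoryTheory CategoryTheory.Limits CochainComplex HomComplex

namespace Groth.Agent.Lib.Helper18.DR

namespace Wb

open Groth.Agent.Lib.Helper1.KoszulConcat Groth.Agent.Lib.Helper1.KoszulSwap
open Groth.Agent.Lib.Helper14.KoszulFun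

variable {A : Type u} [CommRing A]

section nat

lemma ιL_naturality (g : List A) {Z Z' : CochainComplex (ModuleCat.{u} A) ℤ} (ψ : Z ⟶ Z') :
    ιL g Z ≫ iterConeMap g ψ = ψ ≫ ιL g Z' := by
  induction g with
  | nil => exact (Category.id_comp ψ).trans (Category.comp_id ψ).symm
  | cons y g ih =>
    change (ιL g Z ≫ mappingCone.inr (y • 𝟙 (iterCone g Z))) ≫ coneMap y (iterConeMap g ψ) =
      ψ ≫ ιL g Z' ≫ mappingCone.inr (y • 𝟙 (iterCone g Z'))
    have h : mappingCone.inr (y • 𝟙 (iterCone g Z)) ≫ coneMap y (iterConeMap g ψ) =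
        iterConeMap g ψ ≫ mappingCone.inr (y • 𝟙 (iterCone g Z')) := by
      ext n : 1
      exact inr_coneMap y (iterConeMap g ψ) n
    rw [Category.assoc, h, reassoc_of% ih]

lemma ιL_naturality_apply (g : List A) {Z Z' : CochainComplex (ModuleCat.{u} A) ℤ} (ψ : Z ⟶ Z')
    (k : ℤ) (v : Z.X k) :
    (iterConeMap g ψ).f k ((ιL g Z).f k v) = (ιL g Z').f k (ψ.f k v) := by
  have := ConcreteCategory.congr_hom
    (HomologicalComplex.congr_hom (ιL_naturality g ψ) k) v
  simpa only [HomologicalComplex.comp_f, ModuleCat.hom_comp, LinearMap.comp_apply] using this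

end nat

section vanish

lemma eq_zero_of_isStrictlyLE (K : CochainComplex (ModuleCat.{u} A) ℤ) (n : ℤ) [K.IsStrictlyLE n]
    (k : ℤ) (hk : n < k) (v : K.X k) : v = 0 := by
  haveI := ModuleCat.subsingleton_of_isZero (K.isZero_of_isStrictlyLE n k hk)
  exact Subsingleton.elim _ _

lemma exists_smul_ιL (g : List A) (Z : CochainComplex (ModuleCat.{u} A) ℤ) [Z.IsStrictlyLE 0]
    (o0 : Z.X 0) (h0 : ∀ z : Z.X 0, ∃ r : A, z = r • o0) :
    ∀ z : (iterCone g Z).X 0, ∃ r : A, z = r • (ιL g Z).f 0 o0 := by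
  induction g with
  | nil =>
    intro z
    obtain ⟨r, hr⟩ := h0 z
    exact ⟨r, hr⟩
  | cons y g ih =>
    intro z
    have hz := decomp' y (iterCone g Z) 0 1 rfl z
    have h1 : (mappingCone.fst (y • 𝟙 (iterCone g Z))).1.v 0 1 rfl z = 0 :=
      eq_zero_of_isStrictlyLE (iterCone g Z) 0 1 (by omega) _
    obtain ⟨r, hr⟩ := ih ((mappingCone.snd (y • 𝟙 (iterCone g Z))).v 0 0 (add_zero _) z)
    refine ⟨r, ?_⟩
    rw [h1, map_zero, zero_add, hr, map_smul] at hz
    exact hz

lemma iterCone_eq_zero_below (g : List A) (Z : CochainComplex (ModuleCat.{u} A) ℤ)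
    (hZ : ∀ k : ℤ, k < 0 → ∀ v : Z.X k, v = 0) (k : ℤ) (hk : k + g.length < 0)
    (v : (iterCone g Z).X k) : v = 0 := by
  induction g generalizing k with
  | nil => exact hZ k (by simpa using hk) v
  | cons y g ih =>
    have hk' : (k + 1) + g.length < 0 := by
      simp only [List.length_cons, Nat.cast_add, Nat.cast_one] at hk
      omega
    have hv := decomp' y (iterCone g Z) k (k + 1) rfl v
    rw [ih (k + 1) hk' ((mappingCone.fst (y • 𝟙 (iterCone g Z))).1.v k (k + 1) rfl v),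
      ih k (by omega) ((mappingCone.snd (y • 𝟙 (iterCone g Z))).v k k (add_zero _) v),
      map_zero, map_zero, add_zero] at hv
    exact hv

end vanish

section exact

lemma exists_of_exactAt (Y : CochainComplex (ModuleCat.{u} A) ℤ) (j j₀ j₁ : ℤ) (h₀ : j₀ + 1 = j)
    (h₁ : j + 1 = j₁) (hj : Y.ExactAt j) (z : Y.X j) (hz : Y.d j j₁ z = 0) :
    ∃ y : Y.X j₀, Y.d j₀ j y = z := by
  rw [HomologicalComplex.exactAt_iff' Y j₀ j j₁ (by simp [h₀.symm]) (by simp [h₁.symm]),
    ShortComplex.moduleCat_exact_iff] at hj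
  exact hj z hz

lemma genLow_of_exact (Y : CochainComplex (ModuleCat.{u} A) ℤ) (m : ℤ)
    (h : ∀ i : ℤ, i < m → IsZero (Y.homology i)) : GenLow Y m := by
  intro j j₀ j₁ h₀ h₁ hj z hz
  exact exists_of_exactAt Y j j₀ j₁ h₀ h₁
    ((HomologicalComplex.exactAt_iff_isZero_homology _ _).mpr (h j hj)) z hz

end exact

section lift

variable {K L : CochainComplex (ModuleCat.{u} A) ℤ} (φ : K ⟶ L)

theorem exists_cocycle_lift [QuasiIso φ] (m m₀ m₁ : ℤ) (h₀ : m₀ + 1 = m) (h₁ : m + 1 = m₁)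
    (hL : ∀ b : L.X m₀, b = 0) (z : L.X m) (hz : L.d m m₁ z = 0) :
    ∃ ζ : K.X m, K.d m m₁ ζ = 0 ∧ φ.f m ζ = z := by
  have hex := (Groth.Agent.Lib.Helper22.quasiIso_iff_exactAt_mappingCone φ).mp inferInstance m
  have hd : (mappingCone φ).d m m₁ ((mappingCone.inr φ).f m z) = 0 := by
    have h := ConcreteCategory.congr_hom (mappingCone.inr_f_d φ m m₁) z
    simp only [ModuleCat.hom_comp, LinearMap.comp_apply] at h
    refine h.trans ?_
    erw [hz]
    rw [map_zero]
  obtain ⟨x₁, hx₁⟩ := exists_of_exactAt (mappingCone φ) m m₀ m₁ h₀ h₁ hex _ hd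
  refine ⟨(mappingCone.fst φ).1.v m₀ m h₀ x₁, ?_, ?_⟩
  · have h := ConcreteCategory.congr_hom (mappingCone.d_fst_v φ m₀ m m₁ h₀ h₁) x₁
    simp only [ModuleCat.hom_comp, LinearMap.comp_apply, ModuleCat.hom_neg, LinearMap.neg_apply]
      at h
    rw [hx₁] at h
    have h' := ConcreteCategory.congr_hom (mappingCone.inr_f_fst_v φ m m₁ h₁) z
    simp only [ModuleCat.hom_comp, LinearMap.comp_apply, ModuleCat.hom_zero,
      LinearMap.zero_apply] at h'
    rw [h'] at h
    exact neg_eq_zero.mp h.symm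
  · have h := ConcreteCategory.congr_hom (mappingCone.d_snd_v φ m₀ m h₀) x₁
    simp only [ModuleCat.hom_comp, LinearMap.comp_apply, ModuleCat.hom_add, LinearMap.add_apply]
      at h
    rw [hx₁, hL ((mappingCone.snd φ).v m₀ m₀ (add_zero _) x₁), map_zero, add_zero] at h
    have h' := ConcreteCategory.congr_hom (mappingCone.inr_f_snd_v φ m) z
    simp only [ModuleCat.hom_comp, LinearMap.comp_apply, ModuleCat.hom_id, LinearMap.id_apply]
      at h'
    rw [h'] at h
    exact h.symm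

end lift

end Wb

end Groth.Agent.Lib.Helper18.DR
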