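import Mathlib
import Groth.Agent.Lib.Helper18.WbI

/-!
# Wiebe's theorem, part J: the ring-level statement (helper18)
-/

set_option autoImplicit false
set_option linter.style.haveILetI false
universe u
open CategoryTheory CategoryTheory.Limits CochainComplex HomComplex

namespace Groth.Agent.Lib.Helper18.DR

namespace Wb

open Groth.Agent.Lib.Helper1.KoszulConcat Groth.Agent.Lib.Helper1.KoszulSwap
open Groth.Agent.Lib.Helper14.KoszulFun

attribute [local instance] HasDerivedCategory.standard

variable {A : Type u} [CommRing A]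

section base

/-- the unit of the unit complex -/
noncomputable def one0 : (S0 A).X 0 :=
  (HomologicalComplex.singleObjXSelf (ComplexShape.up ℤ) (0 : ℤ) (ModuleCat.of A A)).inv (1 : A)

lemma exists_smul_one0 (z : (S0 A).X 0) : ∃ r : A, z = r • (one0 : (S0 A).X 0) := by
  let e := HomologicalComplex.singleObjXSelf (ComplexShape.up ℤ) (0 : ℤ) (ModuleCat.of A A)
  have hz : z = e.inv (e.hom z) := by
    have := ConcreteCategory.congr_hom e.hom_inv_id z
    simpa using this.symm
  refine ⟨e.hom z, ?_⟩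
  conv_lhs => rw [hz]
  change _ = (e.hom z : A) • e.inv (1 : A)
  rw [← map_smul, smul_eq_mul, mul_one]

lemma piMap_f_zero (I : Ideal A) :
    (piMap I).f 0 =
      (HomologicalComplex.singleObjXSelf (ComplexShape.up ℤ) (0 : ℤ) (ModuleCat.of A A)).hom ≫
        ModuleCat.ofHom (Submodule.mkQ I) ≫
        (HomologicalComplex.singleObjXSelf (ComplexShape.up ℤ) (0 : ℤ)
          (ModuleCat.of A (A ⧸ I))).inv :=
  HomologicalComplex.single_map_f_self (ComplexShape.up ℤ) (0 : ℤ)
    (ModuleCat.ofHom (Submodule.mkQ I))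

lemma mem_of_smul_piMap_one0 (I : Ideal A) (c : A)
    (h : c • (piMap I).f 0 (one0 : (S0 A).X 0) = 0) : c ∈ I := by
  let e := HomologicalComplex.singleObjXSelf (ComplexShape.up ℤ) (0 : ℤ) (ModuleCat.of A A)
  let e' := HomologicalComplex.singleObjXSelf (ComplexShape.up ℤ) (0 : ℤ)
    (ModuleCat.of A (A ⧸ I))
  have h1 : (piMap I).f 0 (one0 : (S0 A).X 0) = e'.inv (Submodule.mkQ I (1 : A)) := by
    rw [piMap_f_zero]
    change e'.inv (Submodule.mkQ I (e.hom (e.inv (1 : A)))) = _
    have := ConcreteCategory.congr_hom e.inv_hom_id (1 : A)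
    simp only [ModuleCat.hom_comp, LinearMap.comp_apply, ModuleCat.hom_id, LinearMap.id_apply]
      at this
    erw [this]
  have h' : e'.inv (Submodule.mkQ I c) = 0 := by
    have h3 : e'.inv (Submodule.mkQ I c) = c • e'.inv (Submodule.mkQ I (1 : A)) := by
      rw [← map_smul, ← map_smul, smul_eq_mul, mul_one]
    rw [h3]
    rw [h1] at h
    exact h
  have h2 : Submodule.mkQ I c = e'.hom (e'.inv (Submodule.mkQ I c)) := by
    have := ConcreteCategory.congr_hom e'.inv_hom_id (Submodule.mkQ I c)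
    simpa using this.symm
  rw [h', map_zero, Submodule.mkQ_apply, Submodule.Quotient.mk_eq_zero] at h2
  exact h2

lemma kills_Sbar' (I : Ideal A) (c : A) (hc : c ∈ I) : c • 𝟙 (Sbar I) = 0 := by
  apply smul_id_single_eq_zero
  intro m
  obtain ⟨a, rfl⟩ := Submodule.mkQ_surjective _ m
  rw [← map_smul, Submodule.mkQ_apply, Submodule.Quotient.mk_eq_zero]
  exact Ideal.mul_mem_right _ _ hc

lemma smul_Sbar_eq_zero (I : Ideal A) (c : A) (hc : c ∈ I) (k : ℤ) (v : (Sbar I).X k) :
    c • v = 0 := by
  rw [← smul_id_f_apply c (Sbar I) k v, kills_Sbar' I c hc]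
  rfl

lemma Sbar_eq_zero (I : Ideal A) (k : ℤ) (hk : k ≠ 0) (v : (Sbar I).X k) : v = 0 := by
  haveI := ModuleCat.subsingleton_of_isZero
    (HomologicalComplex.isZero_single_obj_X (ComplexShape.up ℤ) (0 : ℤ)
      (ModuleCat.of A (A ⧸ I)) k hk)
  exact Subsingleton.elim (α := ((HomologicalComplex.single (ModuleCat.{u} A)
    (ComplexShape.up ℤ) (0 : ℤ)).obj (ModuleCat.of A (A ⧸ I))).X k) _ _

lemma dot_zero (g : List A) : dot g (0 : ℕ → A) = 0 := by
  induction g with
  | nil => rfl
  | cons y g ih =>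
    change (0 : A) * y + dot g (0 : ℕ → A) = 0
    rw [ih, zero_mul, add_zero]

end base

end Wb

end Groth.Agent.Lib.Helper18.DR
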