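import Mathlib
import Groth.Agent.Lib.Helper18.WbJ

/-!
# Wiebe's theorem, part K: the ring-level statement (helper18)
-/

set_option autoImplicit false
set_option linter.style.haveILetI false
universe u
open CategoryTheory CategoryTheory.Limits CochainComplex HomComplex

namespace Groth.Agent.Lib.Helper18.DR

namespace Wb

open Groth.Agent.Lib.Helper1.KoszulConcat Groth.Agent.Lib.Helper1.KoszulSwap
open Groth.Agent.Lib.Helper14.KoszulFun

attribute [local instance] HasDerivedCategory.standard

variable {A : Type u} [CommRing A]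

/-- **Wiebe's theorem**, hard direction: if `f = C g` with `f`, `g` Koszul-regular of the same
length and `x g ⊆ (f)`, then `x` is a multiple of `det C` modulo `(f)`. -/
theorem wiebe_list (g f : List A) (hg : LCI.IsKoszulRegularSeq A g)
    (hf : LCI.IsKoszulRegularSeq A f) (n : ℕ) (hgn : g.length = n) (hfn : f.length = n)
    (C : Matrix (Fin n) (Fin n) A)
    (hC : ∀ i : Fin n, f.getD i 0 = ∑ j : Fin n, C i j * g.getD j 0)
    (x : A) (hx : ∀ y ∈ g, x * y ∈ Ideal.ofList f) :
    ∃ r : A, x - r * C.det ∈ Ideal.ofList f := by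
  set I := Ideal.ofList f with hI
  let rows : ℕ → ℕ → A := fun i => if h : i < n then extv n (C ⟨i, h⟩) else 0
  have hrows : ∀ i : Fin n, rows i = extv n (C i) := fun i => dif_pos i.2
  have hdot : ∀ i : ℕ, dot g (rows i) = f.getD i 0 := by
    intro i
    by_cases h : i < n
    · have : rows i = extv n (C ⟨i, h⟩) := dif_pos h
      rw [this, dot_extv g n hgn, hC ⟨i, h⟩]
    · have : rows i = 0 := dif_neg h
      rw [this, dot_zero, List.getD_eq_default]
      omega
  set X := iterCone g (S0 A) with hX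
  let s : ℕ → Cochain X X (-1) := fun i => tl g (S0 A) (rows i)
  have hs : ∀ i, δ (-1) 0 (s i) = Cochain.ofHom (f.getD i 0 • 𝟙 X) := by
    intro i
    change δ (-1) 0 (tl g (S0 A) (rows i)) = _
    rw [δ_tl, hdot]
  let o : X.X 0 := (ιL g (S0 A)).f 0 one0
  have ho : X.d 0 1 o = 0 := eq_zero_of_isStrictlyLE X 0 1 (by omega) _
  have hL : GenLow X 0 := by
    apply genLow_of_exact
    intro i hi
    rw [hX, ← koszul_eq_iterCone]
    exact hg i (ne_of_lt hi)
  have hT : GenTop X 0 o := by
    intro m₀ m₁ h₀ h₁ z hz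
    obtain ⟨r, hr⟩ := exists_smul_ιL g (S0 A) one0 exists_smul_one0 z
    exact ⟨r, 0, by rw [map_zero, add_zero]; exact hr⟩
  set m : ℤ := -(n : ℤ) with hm
  have hmf : m + f.length = 0 := by rw [hfn, hm]; omega
  have hmg : m + g.length = 0 := by rw [hgn, hm]; omega
  obtain ⟨w, hw, hLY, hTY, hproj⟩ := exists_w f X s hs o ho hL hT m hmf
  -- the target
  set Zb := Sbar I with hZb
  set Xb := iterCone g Zb with hXb
  let p : X ⟶ Xb := iterConeMap g (piMap I)
  have hk : ∀ x ∈ f, x • 𝟙 Xb = 0 := kills_iterCone f g (kills_Sbar f)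
  let sb : ℕ → Cochain Xb Xb (-1) := fun i => tl g Zb (rows i)
  have hp : ∀ i, (s i).comp (Cochain.ofHom p) (add_zero _) =
      (Cochain.ofHom p).comp (sb i) (zero_add _) := fun i => tl_naturality g (piMap I) (rows i)
  have h1 := hproj Xb p hk sb hp
  set ob : Zb.X 0 := (piMap I).f 0 one0 with hob
  have hpo : p.f 0 o = (ιL g Zb).f 0 ob := ιL_naturality_apply g (piMap I) 0 one0
  have h2 : PS sb f.length (p.f 0 o) = C.det • UUT g Zb ob := by
    rw [hpo, hfn]
    exact PS_rows g n hgn Zb C ob rows hrows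
  rw [h2] at h1
  set q := qf f p hk with hq
  haveI : QuasiIso q := quasiIso_qf_iterConeMap f g (piMap I) (kills_Sbar f)
    (quasiIso_qf_base f hf)
  set U := UUT g Zb ob m with hU
  have h3 : q.f m w = ((-1 : A) ^ f.length) • (C.det • U) := by
    have := congrFun h1 m
    rw [Pi.single_eq_same] at this
    exact this
  -- the cocycle
  have hzb : Xb.d m (m + 1) (x • U) = 0 := by
    apply d_UUT g Zb x ob _ _ m hmg
    · exact Sbar_eq_zero I 1 (by omega) _
    · intro y hy
      exact smul_Sbar_eq_zero I _ (hx y hy) 0 ob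
  have hLb : ∀ b : Xb.X (m - 1), b = 0 := by
    intro b
    apply iterCone_eq_zero_below g Zb _ (m - 1) (by omega) b
    intro k hk' v
    exact Sbar_eq_zero I k (by omega) v
  obtain ⟨ζ, hζ, hqζ⟩ := exists_cocycle_lift q m (m - 1) (m + 1) (by omega) rfl hLb (x • U) hzb
  obtain ⟨r, y, hry⟩ := hTY (m - 1) (m + 1) (by omega) rfl ζ hζ
  have h4 : q.f m ((iterCone f X).d (m - 1) m y) = 0 := by
    have := ConcreteCategory.congr_hom (q.comm (m - 1) m) y
    simp only [ModuleCat.hom_comp, LinearMap.comp_apply] at this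
    rw [← this, hLb (q.f (m - 1) y), map_zero]
  rw [hry, map_add, map_smul, h4, add_zero, h3] at hqζ
  -- conclude
  refine ⟨r * (-1 : A) ^ f.length, ?_⟩
  apply mem_of_smul_piMap_one0 I
  apply UUT_injective g Zb m hmg
  have h5 := congrFun (map_smul (UUT g Zb) (x - r * (-1 : A) ^ f.length * C.det) ob) m
  rw [h5]
  change (x - r * (-1 : A) ^ f.length * C.det) • U = 0
  rw [sub_smul, ← hqζ, smul_smul, smul_smul, mul_assoc, sub_self]

end Wb

end Groth.Agent.Lib.Helper18.DR
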