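import Mathlib
import Groth.Agent.Lib.Helper18.WbK

/-!
# Wiebe's theorem, part L: the annihilator of the diagonal (helper18)
-/

set_option autoImplicit false
set_option linter.style.haveILetI false
universe u
open TensorProduct

namespace Groth.Agent.Lib.Helper18.DR

namespace Wb

section ring

variable {R : Type u} [CommRing R]

/-- Wiebe's theorem for families indexed by `Fin n` -/
theorem wiebe_fin {n : ℕ} (gg ff : Fin n → R) (hg : LCI.IsKoszulRegularSeq R (List.ofFn gg))
    (hf : LCI.IsKoszulRegularSeq R (List.ofFn ff)) (C : Matrix (Fin n) (Fin n) R)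
    (hC : ∀ i, ff i = ∑ j, C i j * gg j) (x : R)
    (hx : ∀ j, x * gg j ∈ Ideal.span (Set.range ff)) :
    ∃ r : R, x - r * C.det ∈ Ideal.span (Set.range ff) := by
  have hI : Ideal.ofList (List.ofFn ff) = Ideal.span (Set.range ff) := by
    unfold Ideal.ofList
    congr 1
    ext a
    simp [List.mem_ofFn]
  have hget : ∀ (h : Fin n → R) (i : Fin n), (List.ofFn h).getD i 0 = h i := by
    intro h i
    rw [List.getD_eq_getElem _ _ (by simp), List.getElem_ofFn]
  rw [← hI]
  refine wiebe_list (List.ofFn gg) (List.ofFn ff) hg hf n (List.length_ofFn) (List.length_ofFn) C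
    ?_ x ?_
  · intro i
    rw [hget, hC i]
    refine Finset.sum_congr rfl (fun j _ => ?_)
    rw [hget]
  · intro y hy
    rw [List.mem_ofFn] at hy
    obtain ⟨j, rfl⟩ := hy
    rw [hI]
    exact hx j

/-- Cramer: `det C • g ∈ (C g)` -/
theorem det_mul_mem {n : ℕ} (gg ff : Fin n → R) (C : Matrix (Fin n) (Fin n) R)
    (hC : ∀ i, ff i = ∑ j, C i j * gg j) (j : Fin n) :
    C.det * gg j ∈ Ideal.span (Set.range ff) := by
  have h1 : C.adjugate.mulVec (C.mulVec gg) = C.det • gg := by
    rw [Matrix.mulVec_mulVec, Matrix.adjugate_mul, Matrix.smul_mulVec, Matrix.one_mulVec]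
  have h2 : C.mulVec gg = ff := by
    funext i
    rw [hC i]
    rfl
  rw [h2] at h1
  have h3 := congrFun h1 j
  rw [Pi.smul_apply, smul_eq_mul] at h3
  rw [← h3]
  change ∑ i, C.adjugate j i * ff i ∈ _
  refine Ideal.sum_mem _ (fun i _ => ?_)
  exact Ideal.mul_mem_left _ _ (Ideal.subset_span ⟨i, rfl⟩)

end ring

end Wb

end Groth.Agent.Lib.Helper18.DR
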