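import Mathlib
import Groth.Agent.Lib.Helper18.WbL

/-!
# Wiebe's theorem, part M: the annihilator of the diagonal of a relative complete intersection
(helper18)
-/

set_option autoImplicit false
set_option linter.style.haveILetI false
universe u
open TensorProduct

namespace Groth.Agent.Lib.Helper18.DR

namespace Wb

open Groth.Agent.Lib.Helper1.KoszulConcat

theorem annihilator_diagonal' {A P : Type u} [CommRing A] [CommRing P] [Algebra A P]
    {n : ℕ} (f : Fin n → P) (hf : LCI.IsKoszulRegularSeq P (List.ofFn f))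
    (If : Ideal P) (hIf : If = Ideal.span (Set.range f))
    [Module.Flat A (P ⧸ If)]
    (g : Fin n → P ⊗[A] (P ⧸ If))
    (hg : LCI.IsKoszulRegularSeq (P ⊗[A] (P ⧸ If)) (List.ofFn g))
    (hgker : Ideal.span (Set.range g) = RingHom.ker (Algebra.TensorProduct.productMap
      (Ideal.Quotient.mkₐ A If) (AlgHom.id A (P ⧸ If))))
    (c : Matrix (Fin n) (Fin n) (P ⊗[A] (P ⧸ If)))
    (hc : ∀ i, f i ⊗ₜ[A] (1 : P ⧸ If) = ∑ j, c i j * g j) :
    Submodule.annihilator (RingHom.ker
        (Algebra.TensorProduct.lmul' (S := P ⧸ If) A)) =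
      Ideal.span {Algebra.TensorProduct.map (Ideal.Quotient.mkₐ A If)
        (AlgHom.id A (P ⧸ If)) (Matrix.det c)} := by
  let Φ : P ⊗[A] (P ⧸ If) →ₐ[A] (P ⧸ If) ⊗[A] (P ⧸ If) :=
    Algebra.TensorProduct.map (Ideal.Quotient.mkₐ A If) (AlgHom.id A (P ⧸ If))
  let ff : Fin n → P ⊗[A] (P ⧸ If) := fun i => f i ⊗ₜ[A] (1 : P ⧸ If)
  -- Koszul regularity of `ff`
  have hff : LCI.IsKoszulRegularSeq (P ⊗[A] (P ⧸ If)) (List.ofFn ff) := by
    have h := isKoszulRegularSeq_map_of_flat (A := P) (B := P ⊗[A] (P ⧸ If)) (List.ofFn f) hf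
    rw [List.map_ofFn] at h
    exact h
  -- kernel of Φ
  have hΦsurj : Function.Surjective Φ :=
    Algebra.TensorProduct.map_surjective _ _ (Ideal.Quotient.mkₐ_surjective A If)
      Function.surjective_id
  have hkerΦ : RingHom.ker Φ = Ideal.span (Set.range ff) := by
    have h1 : RingHom.ker Φ = (RingHom.ker (Ideal.Quotient.mkₐ A If)).map
        (Algebra.TensorProduct.includeLeft : P →ₐ[A] P ⊗[A] (P ⧸ If)) :=
      Algebra.TensorProduct.rTensor_ker (R := A) (S := A) (C := P ⧸ If) (Ideal.Quotient.mkₐ A If)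
        (Ideal.Quotient.mkₐ_surjective A If)
    have h2 : RingHom.ker (Ideal.Quotient.mkₐ A If) = If := Ideal.Quotient.mkₐ_ker A If
    rw [h2] at h1
    have h3 : If.map (Algebra.TensorProduct.includeLeft : P →ₐ[A] P ⊗[A] (P ⧸ If)) =
        (Ideal.span (Set.range f)).map
          (Algebra.TensorProduct.includeLeft : P →ₐ[A] P ⊗[A] (P ⧸ If)) :=
      congrArg (Ideal.map (Algebra.TensorProduct.includeLeft : P →ₐ[A] P ⊗[A] (P ⧸ If))) hIf
    rw [h1, h3, Ideal.map_span]
    congr 1
    ext y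
    simp only [Set.mem_image, Set.mem_range, exists_exists_eq_and]
    rfl
  -- the multiplication map
  have hmul : ∀ z, (Algebra.TensorProduct.lmul' (S := P ⧸ If) A) (Φ z) =
      Algebra.TensorProduct.productMap (Ideal.Quotient.mkₐ A If) (AlgHom.id A (P ⧸ If)) z := by
    intro z
    induction z using TensorProduct.induction_on with
    | zero => simp
    | tmul p b => simp [Φ]
    | add a b ha hb => rw [map_add, map_add, map_add, ha, hb]
  have hkerL : ∀ z : P ⊗[A] (P ⧸ If),
      Φ z ∈ RingHom.ker (Algebra.TensorProduct.lmul' (S := P ⧸ If) A) ↔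
        z ∈ Ideal.span (Set.range g) := by
    intro z
    rw [hgker, RingHom.mem_ker, RingHom.mem_ker, hmul]
  apply le_antisymm
  · intro ybar hy
    rw [Submodule.mem_annihilator] at hy
    obtain ⟨x, rfl⟩ := hΦsurj ybar
    have hx : ∀ j, x * g j ∈ Ideal.span (Set.range ff) := by
      intro j
      rw [← hkerΦ, RingHom.mem_ker, map_mul]
      have := hy (Φ (g j)) ((hkerL (g j)).mpr (Ideal.subset_span ⟨j, rfl⟩))
      rwa [smul_eq_mul] at this
    obtain ⟨r, hr⟩ := wiebe_fin g ff hg hff c hc x hx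
    rw [← hkerΦ, RingHom.mem_ker, map_sub, map_mul, sub_eq_zero] at hr
    rw [hr]
    exact Ideal.mul_mem_left _ _ (Ideal.subset_span rfl)
  · rw [Ideal.span_le]
    intro ybar hy
    rw [Set.mem_singleton_iff] at hy
    subst hy
    rw [SetLike.mem_coe, Submodule.mem_annihilator]
    intro z hz
    obtain ⟨x, rfl⟩ := hΦsurj z
    rw [hkerL] at hz
    rw [smul_eq_mul]
    change Φ c.det * Φ x = 0
    rw [← map_mul, ← RingHom.mem_ker, hkerΦ]
    refine Submodule.span_induction ?_ ?_ ?_ ?_ hz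
    · rintro _ ⟨j, rfl⟩
      exact det_mul_mem g ff c hc j
    · rw [mul_zero]
      exact Ideal.zero_mem _
    · intro a b _ _ ha hb
      rw [mul_add]
      exact Ideal.add_mem _ ha hb
    · intro a b _ hb
      rw [smul_eq_mul, mul_left_comm]
      exact Ideal.mul_mem_left _ _ hb

theorem annihilator_diagonal {A P : Type u} [CommRing A] [CommRing P] [Algebra A P]
    {n : ℕ} (f : Fin n → P) (hf : LCI.IsKoszulRegularSeq P (List.ofFn f))
    [Module.Flat A (P ⧸ Ideal.span (Set.range f))]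
    (g : Fin n → P ⊗[A] (P ⧸ Ideal.span (Set.range f)))
    (hg : LCI.IsKoszulRegularSeq (P ⊗[A] (P ⧸ Ideal.span (Set.range f))) (List.ofFn g))
    (hgker : Ideal.span (Set.range g) = RingHom.ker (Algebra.TensorProduct.productMap
      (Ideal.Quotient.mkₐ A (Ideal.span (Set.range f))) (AlgHom.id A (P ⧸ Ideal.span (Set.range f)))))
    (c : Matrix (Fin n) (Fin n) (P ⊗[A] (P ⧸ Ideal.span (Set.range f))))
    (hc : ∀ i, f i ⊗ₜ[A] (1 : P ⧸ Ideal.span (Set.range f)) = ∑ j, c i j * g j) :
    Submodule.annihilator (RingHom.ker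
        (Algebra.TensorProduct.lmul' (S := P ⧸ Ideal.span (Set.range f)) A)) =
      Ideal.span {Algebra.TensorProduct.map (Ideal.Quotient.mkₐ A (Ideal.span (Set.range f)))
        (AlgHom.id A (P ⧸ Ideal.span (Set.range f))) (Matrix.det c)} :=
  annihilator_diagonal' f hf (Ideal.span (Set.range f)) rfl g hg hgker c hc

end Wb

end Groth.Agent.Lib.Helper18.DR
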