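import Mathlib
import Groth.Agent.Lib.Helper18.NdB
import Groth.Agent.Lib.Helper18.WbM
import Groth.Prelude.Def_Disc

/-!
# Noether different of a global complete intersection, part C (helper18)
-/

set_option autoImplicit false
set_option linter.style.haveILetI false
universe u
open TensorProduct

namespace Groth.Agent.Lib.Helper18.DR

namespace Nd

open MvPolynomial

section lam

variable {A P : Type u} [CommRing A] [CommRing P] [Algebra A P] (If : Ideal P)
  {ι : Type*} [DecidableEq ι] (x : ι → P) (D : ι → Derivation A P P)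

/-- `λⱼ : p ⊗ b ↦ (Dⱼ p)‾ b` -/
noncomputable def lam (j : ι) : P ⊗[A] (P ⧸ If) →ₗ[A] (P ⧸ If) :=
  (LinearMap.mul' A (P ⧸ If)) ∘ₗ
    TensorProduct.map ((Ideal.Quotient.mkₐ A If).toLinearMap ∘ₗ (D j).toLinearMap) LinearMap.id

lemma lam_tmul (j : ι) (p : P) (b : P ⧸ If) :
    lam If D j (p ⊗ₜ[A] b) = Ideal.Quotient.mk If (D j p) * b := by
  simp [lam]

variable (hD : ∀ j k, D j (x k) = if j = k then 1 else 0)

include hD in
lemma lam_mul_gd (j k : ι) (z : P ⊗[A] (P ⧸ If)) :
    lam If D j (z * gd (A := A) If x k) = if j = k then muP (A := A) If z else 0 := by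
  induction z using TensorProduct.induction_on with
  | zero => simp
  | tmul p b =>
    unfold gd
    rw [mul_sub, Algebra.TensorProduct.tmul_mul_tmul, Algebra.TensorProduct.tmul_mul_tmul,
      map_sub, lam_tmul, lam_tmul, mul_one, mul_one, Derivation.leibniz, hD, muP_tmul]
    by_cases h : j = k
    · rw [if_pos h, if_pos h, smul_eq_mul, smul_eq_mul, mul_one, map_add, map_mul]
      ring
    · rw [if_neg h, if_neg h, smul_zero, zero_add, smul_eq_mul, map_mul]
      ring
  | add y z hy hz =>
    rw [add_mul, map_add, hy, hz, map_add]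
    split_ifs <;> simp

include hD in
theorem muP_coeff {κ : Type*} [Fintype ι] (f : κ → P) (c : κ → ι → P ⊗[A] (P ⧸ If))
    (hc : ∀ i, f i ⊗ₜ[A] (1 : P ⧸ If) = ∑ k, c i k * gd (A := A) If x k) (i : κ) (j : ι) :
    muP (A := A) If (c i j) = Ideal.Quotient.mk If (D j (f i)) := by
  have h := congrArg (lam If D j) (hc i)
  rw [lam_tmul, mul_one, map_sum] at h
  rw [h]
  simp only [lam_mul_gd If x D hD]
  rw [Finset.sum_ite_eq]
  simp

end lam

end Nd

end Groth.Agent.Lib.Helper18.DR
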