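import Mathlib
import Groth.Agent.Lib.Helper18.NdC

/-!
# Noether different of a global complete intersection, part D (helper18)
-/

set_option autoImplicit false
set_option linter.style.haveILetI false
universe u
open TensorProduct

namespace Groth.Agent.Lib.Helper18.DR

namespace Nd

open MvPolynomial

/-- the generator `Δ` of the annihilator of the diagonal and its image, the Jacobian -/
theorem exists_delta {A P : Type u} [CommRing A] [CommRing P] [Algebra A P] {n : ℕ}
    (e : P ≃ₐ[A] MvPolynomial (Fin n) A) (D : Fin n → Derivation A P P)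
    (hD : ∀ j k, D j (e.symm (X k)) = if j = k then 1 else 0)
    (f : Fin n → P) (hf : LCI.IsKoszulRegularSeq P (List.ofFn f))
    [Module.Flat A (P ⧸ Ideal.span (Set.range f))] :
    ∃ Δ : (P ⧸ Ideal.span (Set.range f)) ⊗[A] (P ⧸ Ideal.span (Set.range f)),
      Submodule.annihilator (RingHom.ker
        (Algebra.TensorProduct.lmul' (S := P ⧸ Ideal.span (Set.range f)) A)) = Ideal.span {Δ} ∧
      Algebra.TensorProduct.lmul' (S := P ⧸ Ideal.span (Set.range f)) A Δ =
        Ideal.Quotient.mk (Ideal.span (Set.range f))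
          (Matrix.det (Matrix.of fun i j => D j (f i))) := by
  let x : Fin n → P := fun j => e.symm (X j)
  have hx : Algebra.adjoin A (Set.range x) = ⊤ := by
    have h1 : Set.range x = e.symm.toAlgHom '' Set.range (X : Fin n → MvPolynomial (Fin n) A) := by
      ext y
      simp [x]
    rw [h1, ← AlgHom.map_adjoin, MvPolynomial.adjoin_range_X, Algebra.map_top]
    exact (AlgHom.range_eq_top _).mpr e.symm.surjective
  have hg := isKoszulRegularSeq_g e (P ⧸ Ideal.span (Set.range f))
    (fun j => Ideal.Quotient.mk (Ideal.span (Set.range f)) (x j))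
  have hgker := span_gd_eq_ker (A := A) (Ideal.span (Set.range f)) x hx
  have hmem : ∀ i, f i ⊗ₜ[A] (1 : P ⧸ Ideal.span (Set.range f)) ∈
      Ideal.span (Set.range (gd (A := A) (Ideal.span (Set.range f)) x)) := by
    intro i
    rw [hgker, RingHom.mem_ker, muP_tmul, mul_one, Ideal.Quotient.eq_zero_iff_mem]
    exact Ideal.subset_span ⟨i, rfl⟩
  choose c hc using fun i => (Ideal.mem_span_range_iff_exists_fun).mp (hmem i)
  have hc' : ∀ i, f i ⊗ₜ[A] (1 : P ⧸ Ideal.span (Set.range f)) =
      ∑ k, c i k * gd (A := A) (Ideal.span (Set.range f)) x k := fun i => (hc i).symm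
  have hW := Wb.annihilator_diagonal f hf (gd (A := A) (Ideal.span (Set.range f)) x) hg hgker
    (Matrix.of c) hc'
  have hcoef := muP_coeff (A := A) (Ideal.span (Set.range f)) x D hD f c hc'
  refine ⟨_, hW, ?_⟩
  have hmul : ∀ z : P ⊗[A] (P ⧸ Ideal.span (Set.range f)),
      (Algebra.TensorProduct.lmul' (S := P ⧸ Ideal.span (Set.range f)) A)
        (Algebra.TensorProduct.map (Ideal.Quotient.mkₐ A (Ideal.span (Set.range f)))
          (AlgHom.id A (P ⧸ Ideal.span (Set.range f))) z) =
      muP (A := A) (Ideal.span (Set.range f)) z := by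
    intro z
    induction z using TensorProduct.induction_on with
    | zero => simp
    | tmul p b => simp
    | add a b ha hb => rw [map_add, map_add, map_add, ha, hb]
  rw [hmul, AlgHom.map_det, RingHom.map_det]
  congr 1
  ext i j
  simp only [AlgHom.mapMatrix_apply, RingHom.mapMatrix_apply, Matrix.map_apply, Matrix.of_apply]
  exact hcoef i j

theorem noetherDifferent_eq {A P : Type u} [CommRing A] [CommRing P] [Algebra A P] {n : ℕ}
    (e : P ≃ₐ[A] MvPolynomial (Fin n) A) (D : Fin n → Derivation A P P)
    (hD : ∀ j k, D j (e.symm (X k)) = if j = k then 1 else 0)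
    (f : Fin n → P) (hf : LCI.IsKoszulRegularSeq P (List.ofFn f))
    [Module.Flat A (P ⧸ Ideal.span (Set.range f))] :
    Disc.noetherDifferent A (P ⧸ Ideal.span (Set.range f)) =
      Ideal.span {Ideal.Quotient.mk (Ideal.span (Set.range f))
        (Matrix.det (Matrix.of fun i j => D j (f i)))} := by
  obtain ⟨Δ, hW, hΔ⟩ := exists_delta e D hD f hf
  unfold Disc.noetherDifferent
  rw [hW, Ideal.map_span, Set.image_singleton]
  congr 2

end Nd

end Groth.Agent.Lib.Helper18.DR
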