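import Mathlib
import Groth.Agent.S2215
import Groth.Agent.S2228
import Groth.Prelude.Def_Disc

/-!
# Tate's trace formula, part E: a generator of the annihilator of the diagonal trivialises `ω`
(helper18)
-/

set_option autoImplicit false
set_option linter.style.haveILetI false
universe u
open TensorProduct

namespace Groth.Agent.Lib.Helper18.DR

namespace Nd

open Groth.Agent.S2195 Groth.Agent.S2215

variable {A B : Type u} [CommRing A] [CommRing B] [Algebra A B]

lemma mul_comm_of_mem_annihilator (e : B ⊗[A] B)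
    (he : e ∈ Submodule.annihilator (RingHom.ker (Algebra.TensorProduct.lmul' (S := B) A)))
    (s : B) : ((1 : B) ⊗ₜ[A] s) * e = (s ⊗ₜ[A] (1 : B)) * e := by
  rw [← sub_eq_zero, ← sub_mul, mul_comm]
  exact Submodule.mem_annihilator.1 he _
    (KaehlerDifferential.one_smul_sub_smul_one_mem_ideal A s)

/-- the pairing with an element of the annihilator of the diagonal, as a `B`-linear map -/
noncomputable def pairL (e : B ⊗[A] B)
    (he : e ∈ Submodule.annihilator (RingHom.ker (Algebra.TensorProduct.lmul' (S := B) A))) :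
    Disc.Omega A B →ₗ[B] B where
  toFun l := Lam l.toLinearMap e
  map_add' l l' := Lam_add _ _ e
  map_smul' s l := by
    change Lam (l.toLinearMap ∘ₗ LinearMap.mulLeft A s) e = s • Lam l.toLinearMap e
    rw [← Lam_mul_left, ← mul_comm_of_mem_annihilator e he, Lam_mul_right, smul_eq_mul]

lemma pairL_apply (e : B ⊗[A] B)
    (he : e ∈ Submodule.annihilator (RingHom.ker (Algebra.TensorProduct.lmul' (S := B) A)))
    (l : Disc.Omega A B) : pairL e he l = Lam l.toLinearMap e := rfl

theorem pairL_trace [Module.Finite A B] [Module.Free A B] (e : B ⊗[A] B)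
    (he : e ∈ Submodule.annihilator (RingHom.ker (Algebra.TensorProduct.lmul' (S := B) A))) :
    pairL e he (Disc.Omega.trace A B) = Algebra.TensorProduct.lmul' (S := B) A e := by
  classical
  let b := (Module.Free.chooseBasis A B).reindex
    (Fintype.equivFin (Module.Free.ChooseBasisIndex A B))
  change Lam (Algebra.trace A B) e = Algebra.TensorProduct.lmul' A e
  rw [trace_eq_sum_comp b, Lam_sum]
  simp only [← Lam_mul_left, ← mul_comm_of_mem_annihilator e he, Lam_mul_right]
  exact sum_mul_Lam_coord b e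

lemma lift_eq_Lam (l : Disc.Omega A B) (ξ : B ⊗[A] B) :
    TensorProduct.lift ((LinearMap.lsmul A B).comp l.toLinearMap) ξ = Lam l.toLinearMap ξ := by
  induction ξ using TensorProduct.induction_on with
  | zero => simp
  | tmul x y => simp [Lam_tmul]
  | add x y hx hy => rw [map_add, map_add, hx, hy]

theorem exists_smul_pairL [IsNoetherianRing A] [Module.Finite A B] [Module.Free A B]
    (Δ : B ⊗[A] B)
    (hΔ : Submodule.annihilator (RingHom.ker (Algebra.TensorProduct.lmul' (S := B) A)) =
      Ideal.span {Δ})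
    (hmem : Δ ∈ Submodule.annihilator (RingHom.ker (Algebra.TensorProduct.lmul' (S := B) A)))
    (Φ : Disc.Omega A B →ₗ[B] B) : ∃ b : B, ∀ l, Φ l = b * pairL Δ hmem l := by
  obtain ⟨ξ, ⟨hξ, hΦ⟩, -⟩ := Groth.Agent.S2228.result Φ
  rw [hΔ, Ideal.mem_span_singleton] at hξ
  obtain ⟨z, rfl⟩ := hξ
  refine ⟨Algebra.TensorProduct.lmul' (S := B) A z, fun l => ?_⟩
  rw [hΦ l, lift_eq_Lam, pairL_apply]
  have hz : z - (1 : B) ⊗ₜ[A] (Algebra.TensorProduct.lmul' (S := B) A z) ∈
      RingHom.ker (Algebra.TensorProduct.lmul' (S := B) A) := by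
    rw [RingHom.mem_ker, map_sub, Algebra.TensorProduct.lmul'_apply_tmul, one_mul, sub_self]
  have h0 := Submodule.mem_annihilator.1 hmem _ hz
  rw [smul_eq_mul, mul_sub, sub_eq_zero] at h0
  rw [h0, mul_comm Δ, Lam_mul_right]

theorem pairL_bijective [IsNoetherianRing A] [Module.Finite A B] [Module.Free A B]
    [Module.Invertible B (Disc.Omega A B)] (Δ : B ⊗[A] B)
    (hΔ : Submodule.annihilator (RingHom.ker (Algebra.TensorProduct.lmul' (S := B) A)) =
      Ideal.span {Δ})
    (hmem : Δ ∈ Submodule.annihilator (RingHom.ker (Algebra.TensorProduct.lmul' (S := B) A))) :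
    Function.Bijective (pairL Δ hmem) := by
  apply Module.Invertible.bijective_of_surjective
  have key : ∀ t : Module.Dual B (Disc.Omega A B) ⊗[B] Disc.Omega A B,
      contractLeft B (Disc.Omega A B) t ∈ LinearMap.range (pairL Δ hmem) := by
    intro t
    induction t using TensorProduct.induction_on with
    | zero => simp
    | tmul Φ l =>
      obtain ⟨b, hb⟩ := exists_smul_pairL Δ hΔ hmem Φ
      rw [contractLeft_apply, hb l]
      exact ⟨b • l, by rw [map_smul, smul_eq_mul]⟩
    | add x y hx hy =>
      rw [map_add]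
      exact Submodule.add_mem _ hx hy
  obtain ⟨t, ht⟩ := (Module.Invertible.bijective (R := B) (M := Disc.Omega A B)).2 1
  have h1 : (1 : B) ∈ LinearMap.range (pairL Δ hmem) := ht ▸ key t
  intro y
  obtain ⟨l, hl⟩ := h1
  exact ⟨y • l, by rw [map_smul, hl, smul_eq_mul, mul_one]⟩

/-- if the annihilator of the diagonal is generated by `Δ` and `ω` is invertible, then `ω` is
trivialised by the pairing with `Δ`, which sends the trace to `μ(Δ)` -/
theorem exists_linearEquiv_of_delta [IsNoetherianRing A] [Module.Finite A B] [Module.Free A B]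
    [Module.Invertible B (Disc.Omega A B)] (Δ : B ⊗[A] B)
    (hΔ : Submodule.annihilator (RingHom.ker (Algebra.TensorProduct.lmul' (S := B) A)) =
      Ideal.span {Δ}) :
    ∃ e : B ≃ₗ[B] Disc.Omega A B,
      e (Algebra.TensorProduct.lmul' (S := B) A Δ) = Disc.Omega.trace A B := by
  have hmem : Δ ∈ Submodule.annihilator
      (RingHom.ker (Algebra.TensorProduct.lmul' (S := B) A)) := by
    rw [hΔ]
    exact Ideal.subset_span rfl
  let e₀ : Disc.Omega A B ≃ₗ[B] B := LinearEquiv.ofBijective (pairL Δ hmem)
    (pairL_bijective Δ hΔ hmem)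
  refine ⟨e₀.symm, ?_⟩
  rw [LinearEquiv.symm_apply_eq]
  exact (pairL_trace Δ hmem).symm

end Nd

end Groth.Agent.Lib.Helper18.DR
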