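import Mathlib
import Groth.Agent.Lib.Helper18.NdE
import Groth.Agent.Lib.Helper18.NdD
import Groth.Agent.Lib.Helper4.GorLCI
import Groth.Agent.Lib.Helper1.KRegIdeal10
import Groth.Agent.S2217
import Groth.Agent.S9147

/-!
# Tate's trace formula, part F: the finite free global complete intersection (helper18)
-/

set_option autoImplicit false
set_option linter.style.haveILetI false
universe u
open TensorProduct

namespace Groth.Agent.Lib.Helper18.DR

namespace Nd

open MvPolynomial

section

variable {A : Type u} [CommRing A] {n : ℕ} (f : Fin n → MvPolynomial (Fin n) A)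

theorem ofList_ofFn_eq_span {R : Type*} [CommRing R] {n : ℕ} (f : Fin n → R) :
    Ideal.ofList (List.ofFn f) = Ideal.span (Set.range f) := by
  unfold Ideal.ofList
  congr 1
  ext a
  simp [List.mem_ofFn]

/-- fibres of a flat global complete intersection are Gorenstein -/
theorem gorenstein_fiber [Module.Flat A (MvPolynomial (Fin n) A ⧸ Ideal.span (Set.range f))]
    (hf : LCI.IsKoszulRegularSeq (MvPolynomial (Fin n) A) (List.ofFn f))
    (p : Ideal A) [p.IsPrime] :
    LocCoh.IsGorensteinRing (p.Fiber (MvPolynomial (Fin n) A ⧸ Ideal.span (Set.range f))) := by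
  have hK : LCI.IsKoszulRegularIdeal (RingHom.ker (AlgHom.toRingHom
      (Ideal.Quotient.mkₐ A (Ideal.span (Set.range f))))) := by
    have h1 : RingHom.ker (AlgHom.toRingHom (Ideal.Quotient.mkₐ A (Ideal.span (Set.range f)))) =
        Ideal.ofList (List.ofFn f) := by
      rw [ofList_ofFn_eq_span]
      exact Ideal.Quotient.mkₐ_ker A _
    rw [h1]
    exact Groth.Agent.Lib.Helper1.KRegIdeal.isKoszulRegularIdeal_ofList _ hf
  have h := Groth.Agent.Lib.Helper4.GorLCI.gorRing_tensor_of_flat_lci A n
    (MvPolynomial (Fin n) A ⧸ Ideal.span (Set.range f))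
    (Ideal.Quotient.mkₐ A (Ideal.span (Set.range f))) p.ResidueField
    (Ideal.Quotient.mkₐ_surjective A _) hK
  exact Groth.Agent.Lib.Helper4.GorRing.gorRing_of_ringEquiv
    (Algebra.TensorProduct.comm A _ p.ResidueField).toRingEquiv h

theorem tate_trace [IsNoetherianRing A]
    [Module.Finite A (MvPolynomial (Fin n) A ⧸ Ideal.span (Set.range f))]
    [Module.Free A (MvPolynomial (Fin n) A ⧸ Ideal.span (Set.range f))] :
    ∃ e : (MvPolynomial (Fin n) A ⧸ Ideal.span (Set.range f)) ≃ₗ[MvPolynomial (Fin n) A ⧸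
        Ideal.span (Set.range f)] Disc.Omega A (MvPolynomial (Fin n) A ⧸ Ideal.span (Set.range f)),
      e (Ideal.Quotient.mk (Ideal.span (Set.range f))
        (Matrix.det (Matrix.of fun i j : Fin n => MvPolynomial.pderiv j (f i)))) =
        Disc.Omega.trace A (MvPolynomial (Fin n) A ⧸ Ideal.span (Set.range f)) := by
  have hGCI := isRelGCI_of_quasiFinite f
  have hf := Groth.Agent.S9254.result A n n f hGCI
  haveI : Module.Invertible (MvPolynomial (Fin n) A ⧸ Ideal.span (Set.range f))
      (Disc.Omega A (MvPolynomial (Fin n) A ⧸ Ideal.span (Set.range f))) :=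
    Groth.Agent.S2217.result.mp (fun p _ => gorenstein_fiber f hf p)
  have hD : ∀ j k : Fin n, (MvPolynomial.pderiv j)
      ((AlgEquiv.refl : MvPolynomial (Fin n) A ≃ₐ[A] MvPolynomial (Fin n) A).symm (X k)) =
      if j = k then 1 else 0 := by
    intro j k
    change MvPolynomial.pderiv j (MvPolynomial.X k) = _
    by_cases h : j = k
    · subst h
      rw [MvPolynomial.pderiv_X_self, if_pos rfl]
    · rw [MvPolynomial.pderiv_X_of_ne (Ne.symm h), if_neg h]
  obtain ⟨Δ, hW, hΔ⟩ := exists_delta (AlgEquiv.refl) (fun j => MvPolynomial.pderiv j) hD f hf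
  obtain ⟨e, he⟩ := exists_linearEquiv_of_delta Δ hW
  exact ⟨e, by rw [← hΔ]; exact he⟩

end

end Nd

end Groth.Agent.Lib.Helper18.DR
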