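import Mathlib
import Groth.Agent.Lib.Helper18.NdG
import Groth.Agent.Lib.Helper18.NdF
import Groth.Agent.S2220

/-!
# Noether different = Kähler different, locally (helper18)
-/

set_option autoImplicit false
set_option linter.style.haveILetI false
universe u
open TensorProduct

namespace Groth.Agent.Lib.Helper18.DR

namespace Nd

open MvPolynomial

section gci

variable {A : Type u} [CommRing A] {n : ℕ} (f : Fin n → MvPolynomial (Fin n) A)

theorem noetherDifferent_gci
    [Algebra.QuasiFinite A (MvPolynomial (Fin n) A ⧸ Ideal.span (Set.range f))] :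
    Disc.noetherDifferent A (MvPolynomial (Fin n) A ⧸ Ideal.span (Set.range f)) =
      Ideal.span {Ideal.Quotient.mk (Ideal.span (Set.range f))
        (Matrix.det (Matrix.of fun i j => MvPolynomial.pderiv j (f i)))} := by
  have hGCI := isRelGCI_of_quasiFinite f
  have hflat : Module.Flat A (MvPolynomial (Fin n) A ⧸ Ideal.span (Set.range f)) :=
    (Groth.Agent.S9147.result A n n f hGCI).1
  have hf := Groth.Agent.S9254.result A n n f hGCI
  haveI := hflat
  refine noetherDifferent_eq (AlgEquiv.refl) (fun j => MvPolynomial.pderiv j) ?_ f hf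
  intro j k
  change MvPolynomial.pderiv j (MvPolynomial.X k) = _
  by_cases h : j = k
  · subst h
    rw [MvPolynomial.pderiv_X_self, if_pos rfl]
  · rw [MvPolynomial.pderiv_X_of_ne (Ne.symm h), if_neg h]

theorem noetherDifferent_eq_fitt_gci
    [Algebra.QuasiFinite A (MvPolynomial (Fin n) A ⧸ Ideal.span (Set.range f))] :
    Disc.noetherDifferent A (MvPolynomial (Fin n) A ⧸ Ideal.span (Set.range f)) =
      Fitt.ideal (MvPolynomial (Fin n) A ⧸ Ideal.span (Set.range f))
        (KaehlerDifferential A (MvPolynomial (Fin n) A ⧸ Ideal.span (Set.range f))) 0 := by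
  rw [noetherDifferent_gci, fitt_kaehler_gci]

end gci

section localglobal

variable {B : Type u} [CommRing B]

lemma ideal_le_of_forall_exists_away (I I' : Ideal B)
    (h : ∀ q : Ideal B, q.IsPrime → ∃ (g : B) (_ : g ∉ q) (C : Type u) (_ : CommRing C)
      (_ : Algebra B C) (_ : IsLocalization.Away g C),
      I.map (algebraMap B C) ≤ I'.map (algebraMap B C)) : I ≤ I' := by
  intro x hx
  by_contra hx'
  set J : Ideal B := Submodule.comap (LinearMap.mulRight B x) I' with hJ
  have hmemJ : ∀ b : B, b ∈ J ↔ b * x ∈ I' := by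
    intro b
    rw [hJ, Submodule.mem_comap, LinearMap.mulRight_apply]
  have hJne : J ≠ ⊤ := by
    intro htop
    apply hx'
    have h1 : (1 : B) ∈ J := by rw [htop]; trivial
    rw [hmemJ, one_mul] at h1
    exact h1
  obtain ⟨q, hq, hJq⟩ := Ideal.exists_le_maximal J hJne
  obtain ⟨g, hg, C, _, _, hloc, hle⟩ := h q hq.isPrime
  have h2 : algebraMap B C x ∈ I'.map (algebraMap B C) := hle (Ideal.mem_map_of_mem _ hx)
  rw [IsLocalization.mem_map_algebraMap_iff (Submonoid.powers g)] at h2
  obtain ⟨⟨a, m⟩, ham⟩ := h2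
  rw [← map_mul, IsLocalization.eq_iff_exists (Submonoid.powers g)] at ham
  obtain ⟨c, hc⟩ := ham
  have h3 : (c : B) * (m : B) ∈ J := by
    rw [hmemJ]
    have : ((c : B) * (m : B)) * x = (c : B) * (x * (m : B)) := by ring
    rw [this, hc]
    exact Ideal.mul_mem_left _ _ a.2
  have h4 : (c : B) * (m : B) ∈ q := hJq h3
  have h5 : (c * m : Submonoid.powers g).1 ∈ q := h4
  obtain ⟨k, hk⟩ := (c * m).2
  rw [← hk] at h5
  exact hg (hq.isPrime.mem_of_pow_mem k h5)

lemma ideal_eq_of_forall_exists_away (I I' : Ideal B)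
    (h : ∀ q : Ideal B, q.IsPrime → ∃ (g : B) (_ : g ∉ q) (C : Type u) (_ : CommRing C)
      (_ : Algebra B C) (_ : IsLocalization.Away g C),
      I.map (algebraMap B C) = I'.map (algebraMap B C)) : I = I' := by
  apply le_antisymm
  · apply ideal_le_of_forall_exists_away
    intro q hq
    obtain ⟨g, hg, C, i1, i2, i3, he⟩ := h q hq
    exact ⟨g, hg, C, i1, i2, i3, he.le⟩
  · apply ideal_le_of_forall_exists_away
    intro q hq
    obtain ⟨g, hg, C, i1, i2, i3, he⟩ := h q hq
    exact ⟨g, hg, C, i1, i2, i3, he.ge⟩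

end localglobal

end Nd

end Groth.Agent.Lib.Helper18.DR
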