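import Mathlib
import Groth.Agent.Lib.Helper18.NdH
import Groth.Agent.S2237
import Groth.Agent.S2221
import Groth.Agent.S9287

/-!
# The different of a finite free syntomic algebra is the Kähler different (helper18)
-/

set_option autoImplicit false
set_option linter.style.haveILetI false
universe u
open TensorProduct

namespace Groth.Agent.Lib.Helper18.DR

namespace Nd

open MvPolynomial

section local_

variable {A B : Type u} [CommRing A] [CommRing B] [Algebra A B] [Algebra.FiniteType A B]
  [Algebra.QuasiFinite A B]

/-- on a localization which is a global complete intersection, the Noether different and the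
Kähler different agree -/
theorem local_eq (g : B) {n : ℕ} (f : Fin n → MvPolynomial (Fin n) A)
    (ε : Localization.Away g ≃ₐ[A] MvPolynomial (Fin n) A ⧸ Ideal.span (Set.range f)) :
    ∃ (_ : Algebra B (MvPolynomial (Fin n) A ⧸ Ideal.span (Set.range f)))
      (_ : IsLocalization.Away g (MvPolynomial (Fin n) A ⧸ Ideal.span (Set.range f))),
      (Disc.noetherDifferent A B).map
          (algebraMap B (MvPolynomial (Fin n) A ⧸ Ideal.span (Set.range f))) =
        (Fitt.ideal B (KaehlerDifferential A B) 0).map
          (algebraMap B (MvPolynomial (Fin n) A ⧸ Ideal.span (Set.range f))) := by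
  letI algBC : Algebra B (MvPolynomial (Fin n) A ⧸ Ideal.span (Set.range f)) :=
    ((ε : Localization.Away g →+* MvPolynomial (Fin n) A ⧸ Ideal.span (Set.range f)).comp
      (algebraMap B (Localization.Away g))).toAlgebra
  have halg : ∀ b : B, algebraMap B (MvPolynomial (Fin n) A ⧸ Ideal.span (Set.range f)) b =
      ε (algebraMap B (Localization.Away g) b) := fun b => rfl
  haveI : IsScalarTower A B (MvPolynomial (Fin n) A ⧸ Ideal.span (Set.range f)) := by
    apply IsScalarTower.of_algebraMap_eq
    intro a
    rw [halg, ← IsScalarTower.algebraMap_apply A B (Localization.Away g), AlgEquiv.commutes]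
  let ε' : Localization.Away g ≃ₐ[B] MvPolynomial (Fin n) A ⧸ Ideal.span (Set.range f) :=
    { ε.toRingEquiv with commutes' := fun b => rfl }
  haveI hloc : IsLocalization.Away g (MvPolynomial (Fin n) A ⧸ Ideal.span (Set.range f)) :=
    IsLocalization.isLocalization_of_algEquiv (Submonoid.powers g) ε'
  haveI : Algebra.QuasiFinite A (MvPolynomial (Fin n) A ⧸ Ideal.span (Set.range f)) :=
    Algebra.QuasiFinite.of_surjective_algHom ε.toAlgHom ε.surjective
  refine ⟨algBC, hloc, ?_⟩
  have h1 : Disc.noetherDifferent A (MvPolynomial (Fin n) A ⧸ Ideal.span (Set.range f)) =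
      (Disc.noetherDifferent A B).map
        (algebraMap B (MvPolynomial (Fin n) A ⧸ Ideal.span (Set.range f))) :=
    Groth.Agent.S2220.result (AlgebraicGeometry.IsOpenImmersion.of_isLocalization g)
  haveI : Algebra.FormallyEtale B (MvPolynomial (Fin n) A ⧸ Ideal.span (Set.range f)) :=
    Algebra.FormallyEtale.of_isLocalization (Submonoid.powers g)
  have h2 : Fitt.ideal (MvPolynomial (Fin n) A ⧸ Ideal.span (Set.range f))
      (KaehlerDifferential A (MvPolynomial (Fin n) A ⧸ Ideal.span (Set.range f))) 0 =
      (Fitt.ideal B (KaehlerDifferential A B) 0).map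
        (algebraMap B (MvPolynomial (Fin n) A ⧸ Ideal.span (Set.range f))) := by
    rw [← Groth.Agent.Lib.Helper18.FittLib.fitt_baseChange
      (MvPolynomial (Fin n) A ⧸ Ideal.span (Set.range f)) 0]
    exact (Groth.Agent.Lib.Helper18.FittLib.fitt_congr
      (KaehlerDifferential.tensorKaehlerEquivOfFormallyEtale A B
        (MvPolynomial (Fin n) A ⧸ Ideal.span (Set.range f))) 0).symm
  rw [← h1, ← h2]
  exact noetherDifferent_eq_fitt_gci f

end local_

section main

variable (A B : Type u) [CommRing A] [CommRing B] [Algebra A B]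

theorem noetherDifferent_eq_fitt [Module.Flat A B] [Algebra.QuasiFinite A B]
    (hlci : LCI.IsLCI A B) :
    Disc.noetherDifferent A B = Fitt.ideal B (KaehlerDifferential A B) 0 := by
  haveI : Algebra.FiniteType A B := hlci.1
  apply ideal_eq_of_forall_exists_away
  intro q hq
  haveI := hq
  obtain ⟨g, hg, n, f, ⟨ε⟩⟩ := Groth.Agent.S2237.result hlci q
  obtain ⟨i2, i3, he⟩ := local_eq g f ε
  exact ⟨g, hg, _, inferInstance, i2, i3, he⟩

theorem differentSet_eq_fitt [IsNoetherianRing A] [Module.Finite A B] [Module.Free A B]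
    (h : Synt.IsSyntomic A B) :
    Disc.differentSet A B = (Fitt.ideal B (KaehlerDifferential A B) 0 : Set B) := by
  obtain ⟨hflat, hlci⟩ := (Groth.Agent.S9287.result A B).mp h
  haveI := hflat
  obtain ⟨hft, n, φ, hφ, hK⟩ := hlci
  haveI : Module.Invertible B (Disc.Omega A B) :=
    Groth.Agent.S2217.result.mp (fun p _ =>
      Groth.Agent.Lib.Helper4.GorRing.gorRing_of_ringEquiv
        (Algebra.TensorProduct.comm A B p.ResidueField).toRingEquiv
        (Groth.Agent.Lib.Helper4.GorLCI.gorRing_tensor_of_flat_lci A n B φ p.ResidueField hφ hK))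
  rw [Groth.Agent.S2221.result, noetherDifferent_eq_fitt A B ⟨hft, n, φ, hφ, hK⟩]

end main

end Nd

end Groth.Agent.Lib.Helper18.DR
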