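import Mathlib
import Groth.Prelude.Def_Smoothing
import Groth.Agent.S2043

/-!
# Étale approximation of solutions in the completion of a local ring (helper18)

If the completion `R^` of a Noetherian local ring `R` is ind-smooth over `R`, every solution in `R^`
of a polynomial system over `R` can be approximated by a solution in an étale neighbourhood of the
closed point.
-/

set_option autoImplicit false
set_option linter.style.haveILetI false
universe u

namespace Groth.Agent.Lib.Helper18.DR.Pop

open MvPolynomial IsLocalRing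

/-- compatibility of the projections of an adic completion -/
theorem factor_evalₐ_eq_evalOneₐ {R : Type*} [CommRing R] (I : Ideal R) {N : ℕ} (hN : 1 ≤ N)
    (x : AdicCompletion I R) :
    Ideal.Quotient.factor (Ideal.pow_le_self (by omega) : I ^ N ≤ I)
      (AdicCompletion.evalₐ I N x) = AdicCompletion.evalOneₐ I x := by
  obtain ⟨c, rfl⟩ := AdicCompletion.mk_surjective I R x
  rw [← AdicCompletion.factorₐ_evalₐ_one, AdicCompletion.evalₐ_mk, AdicCompletion.evalₐ_mk,
    Ideal.Quotient.factor_mk, Ideal.Quotient.factor_mk, Ideal.Quotient.eq]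
  have h := c.2 hN
  rw [SModEq.sub_mem] at h
  have h2 : c.val N - c.val 1 ∈ I := by
    have : c.val 1 - c.val N ∈ I := by simpa using h
    have := I.neg_mem this
    simpa using this
  exact h2

set_option maxHeartbeats 1600000 in
theorem exists_etale_solution_of_indSmooth {R : Type u} [CommRing R] [IsLocalRing R]
    [IsNoetherianRing R]
    (hP : Smoothing.IndSmooth R (AdicCompletion (maximalIdeal R) R))
    {n m : ℕ} (F : Fin m → MvPolynomial (Fin n) R)
    (a : Fin n → AdicCompletion (maximalIdeal R) R) (ha : ∀ j, MvPolynomial.aeval a (F j) = 0)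
    (N : ℕ) :
    ∃ (R' : Type u) (_ : CommRing R') (_ : Algebra R R'), Algebra.Etale R R' ∧
      ∃ (ψ : R' →ₐ[R] AdicCompletion (maximalIdeal R) R) (m' : Ideal R'), m'.IsMaximal ∧
        m'.comap (algebraMap R R') = maximalIdeal R ∧
        (∀ x : R', ∃ r : R, x - algebraMap R R' r ∈ m') ∧
        (∀ x ∈ m', ψ x ∈ (maximalIdeal R).map
          (algebraMap R (AdicCompletion (maximalIdeal R) R))) ∧
        ∃ b : Fin n → R', (∀ j, MvPolynomial.aeval b (F j) = 0) ∧
          ∀ i, a i - ψ (b i) ∈ (maximalIdeal R ^ N).map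
            (algebraMap R (AdicCompletion (maximalIdeal R) R)) := by
  classical
  wlog hN : 1 ≤ N generalizing N
  · obtain ⟨R', i1, i2, het, ψ, m', h1, h2, h3, h4, b, hb, -⟩ := this 1 le_rfl
    refine ⟨R', i1, i2, het, ψ, m', h1, h2, h3, h4, b, hb, fun i => ?_⟩
    have : N = 0 := by omega
    subst this
    simp [Ideal.map_top]
  -- the finitely presented algebra
  let J : Ideal (MvPolynomial (Fin n) R) := Ideal.span (Set.range F)
  let C := MvPolynomial (Fin n) R ⧸ J
  haveI : Algebra.FinitePresentation R C :=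
    Algebra.FinitePresentation.quotient (Submodule.fg_span (Set.finite_range F))
  have hJ : ∀ p ∈ J, (MvPolynomial.aeval a : MvPolynomial (Fin n) R →ₐ[R] _) p = 0 := by
    intro p hp
    have : J ≤ RingHom.ker (MvPolynomial.aeval a : MvPolynomial (Fin n) R →ₐ[R] _).toRingHom := by
      rw [Ideal.span_le]
      rintro _ ⟨j, rfl⟩
      exact ha j
    exact this hp
  let f : C →ₐ[R] AdicCompletion (maximalIdeal R) R := Ideal.Quotient.liftₐ J (MvPolynomial.aeval a) hJ
  obtain ⟨B, _, _, hB, g, h, hgh⟩ := hP C inferInstance f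
  haveI := hB
  let σ : B →ₐ[R] R ⧸ (maximalIdeal R) ^ N := (AdicCompletion.evalₐ (maximalIdeal R) N).comp h
  obtain ⟨R', _, _, het, hbij, τ, hτ⟩ := Groth.Agent.S2043.result ((maximalIdeal R) ^ N) σ
  haveI := het
  -- the map `R' → R / m^N`
  let e : (R ⧸ (maximalIdeal R) ^ N) ≃+* (R' ⧸ ((maximalIdeal R) ^ N).map (algebraMap R R')) := RingEquiv.ofBijective _ hbij
  have he : ∀ r : R, e (Ideal.Quotient.mk _ r) = Ideal.Quotient.mk _ (algebraMap R R' r) :=
    fun r => rfl
  let fN : R' →ₐ[R] R ⧸ (maximalIdeal R) ^ N :=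
    { toRingHom := e.symm.toRingHom.comp (Ideal.Quotient.mk _)
      commutes' := fun r => by
        show e.symm (Ideal.Quotient.mk _ (algebraMap R R' r)) = Ideal.Quotient.mk _ r
        rw [RingEquiv.symm_apply_eq, he] }
  have hfN : ∀ x : R', e (fN x) = Ideal.Quotient.mk _ x := fun x => e.apply_symm_apply _
  have hle : (maximalIdeal R) ^ N ≤ (maximalIdeal R) := Ideal.pow_le_self (by omega)
  let f₁ : R' →ₐ[R] R ⧸ (maximalIdeal R) := (Ideal.Quotient.factorₐ R hle).comp fN
  obtain ⟨ψ, hψ⟩ := Algebra.FormallySmooth.exists_adicCompletionEvalOneₐ_comp_eq (I := (maximalIdeal R)) f₁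
  have hψ' : ∀ x : R', AdicCompletion.evalOneₐ (maximalIdeal R) (ψ x) = f₁ x := fun x => DFunLike.congr_fun hψ x
  -- the reduction of `ψ` modulo `m^N`
  have hkernil : IsNilpotent (RingHom.ker (Ideal.Quotient.factor hle)) := by
    refine ⟨N, ?_⟩
    rw [Ideal.Quotient.factor_ker, ← Ideal.map_pow, Ideal.zero_eq_bot, Ideal.map_quotient_self]
  have hred : (AdicCompletion.evalₐ (maximalIdeal R) N).comp ψ = fN := by
    apply Algebra.FormallyUnramified.ext' (Ideal.Quotient.factor hle) hkernil
    intro x
    show Ideal.Quotient.factor hle (AdicCompletion.evalₐ (maximalIdeal R) N (ψ x)) = _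
    rw [factor_evalₐ_eq_evalOneₐ (maximalIdeal R) hN, hψ']
    rfl
  -- the maximal ideal
  set m' : Ideal R' := (maximalIdeal R).map (algebraMap R R') with hm'
  have hres : ∀ x : R', ∃ r : R, x - algebraMap R R' r ∈ m' := by
    intro x
    obtain ⟨r, hr⟩ := Ideal.Quotient.mk_surjective (fN x)
    refine ⟨r, ?_⟩
    have h1 : Ideal.Quotient.mk (((maximalIdeal R) ^ N).map (algebraMap R R')) x =
        Ideal.Quotient.mk _ (algebraMap R R' r) := by
      rw [← hfN, ← hr, he]
    rw [Ideal.Quotient.eq] at h1
    exact Ideal.map_mono hle h1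
  have hne : m' ≠ ⊤ := by
    intro htop
    have h1 : ((maximalIdeal R) ^ N).map (algebraMap R R') = ⊤ := by
      rw [Ideal.map_pow, ← hm', htop, Ideal.top_pow]
    have h2 : (1 : R' ⧸ ((maximalIdeal R) ^ N).map (algebraMap R R')) = 0 := by
      rw [← map_one (Ideal.Quotient.mk _), Ideal.Quotient.eq_zero_iff_mem, h1]
      trivial
    have h3 : (1 : R ⧸ (maximalIdeal R) ^ N) = 0 := by
      apply e.injective
      rw [map_one, map_zero, h2]
    rw [← map_one (Ideal.Quotient.mk _), Ideal.Quotient.eq_zero_iff_mem] at h3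
    exact (maximalIdeal.isMaximal R).ne_top ((Ideal.eq_top_iff_one _).mpr (hle h3))
  have hcomap : m'.comap (algebraMap R R') = (maximalIdeal R) := by
    apply le_antisymm
    · intro r hr
      by_contra hcon
      have hu : IsUnit r := by
        by_contra hu
        exact hcon ((mem_maximalIdeal r).mpr hu)
      exact hne (Ideal.eq_top_of_isUnit_mem _ hr (hu.map _))
    · exact Ideal.le_comap_map
  have hmax : m'.IsMaximal := by
    rw [Ideal.isMaximal_iff]
    refine ⟨fun h1 => hne ((Ideal.eq_top_iff_one _).mpr h1), ?_⟩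
    intro K x hK hx hxK
    obtain ⟨r, hr⟩ := hres x
    have hr' : r ∉ (maximalIdeal R) := by
      intro hrm
      apply hx
      have : x = (x - algebraMap R R' r) + algebraMap R R' r := by ring
      rw [this]
      exact m'.add_mem hr (Ideal.mem_map_of_mem _ hrm)
    have hu : IsUnit r := by
      by_contra hu
      exact hr' ((mem_maximalIdeal r).mpr hu)
    have h1 : algebraMap R R' r ∈ K := by
      have : algebraMap R R' r = x - (x - algebraMap R R' r) := by ring
      rw [this]
      exact K.sub_mem hxK (hK hr)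
    have := Ideal.eq_top_of_isUnit_mem _ h1 (hu.map _)
    rw [this]
    trivial
  have hψm : ∀ x ∈ m', ψ x ∈ (maximalIdeal R).map (algebraMap R (AdicCompletion (maximalIdeal R) R)) := by
    have : m' ≤ ((maximalIdeal R).map (algebraMap R (AdicCompletion (maximalIdeal R) R))).comap ψ.toRingHom := by
      rw [hm', Ideal.map_le_iff_le_comap]
      intro r hr
      rw [Ideal.mem_comap, Ideal.mem_comap]
      show ψ (algebraMap R R' r) ∈ _
      rw [AlgHom.commutes]
      exact Ideal.mem_map_of_mem _ hr
    exact fun x hx => this hx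
  -- the solution
  let φ : MvPolynomial (Fin n) R →ₐ[R] R' := (τ.comp g).comp (Ideal.Quotient.mkₐ R J)
  let b : Fin n → R' := fun i => φ (X i)
  have hφ : φ = MvPolynomial.aeval b := MvPolynomial.aeval_unique φ
  refine ⟨R', inferInstance, inferInstance, het, ψ, m', hmax, hcomap, hres, hψm, b, ?_, ?_⟩
  · intro j
    rw [← hφ]
    show τ (g (Ideal.Quotient.mk J (F j))) = 0
    have h0 : Ideal.Quotient.mk J (F j) = 0 :=
      Ideal.Quotient.eq_zero_iff_mem.mpr (Ideal.subset_span (Set.mem_range_self j))
    rw [h0, map_zero, map_zero]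
  · intro i
    have hker : ∀ x : AdicCompletion (maximalIdeal R) R, AdicCompletion.evalₐ (maximalIdeal R) N x = 0 →
        x ∈ ((maximalIdeal R) ^ N).map (algebraMap R (AdicCompletion (maximalIdeal R) R)) := by
      intro x hx
      have h1 : AdicCompletion.eval (maximalIdeal R) R N x = 0 := by
        rw [← AdicCompletion.factor_evalₐ_eq_eval (maximalIdeal R) x (by simp), hx, map_zero]
      have h2 : x ∈ ((maximalIdeal R) ^ N • ⊤ : Submodule R (AdicCompletion (maximalIdeal R) R)) := by
        rw [AdicCompletion.pow_smul_top_eq_ker_eval (IsNoetherian.noetherian (maximalIdeal R))]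
        exact h1
      have h3 : ((maximalIdeal R) ^ N • ⊤ : Submodule R (AdicCompletion (maximalIdeal R) R)) ≤
          (((maximalIdeal R) ^ N).map (algebraMap R (AdicCompletion (maximalIdeal R) R))).restrictScalars R := by
        rw [Submodule.smul_le]
        intro r hr y _
        show r • y ∈ ((maximalIdeal R) ^ N).map (algebraMap R (AdicCompletion (maximalIdeal R) R))
        rw [Algebra.smul_def]
        exact Ideal.mul_mem_right _ _ (Ideal.mem_map_of_mem _ hr)
      exact h3 h2
    apply hker
    rw [map_sub, sub_eq_zero]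
    have h1 : a i = h (g (Ideal.Quotient.mk J (X i))) := by
      have := DFunLike.congr_fun hgh (Ideal.Quotient.mk J (X i))
      rw [AlgHom.comp_apply] at this
      rw [this]
      show a i = Ideal.Quotient.liftₐ J (MvPolynomial.aeval a) hJ (Ideal.Quotient.mk J (X i))
      rw [Ideal.Quotient.liftₐ_apply, Ideal.Quotient.lift_mk]
      simp
    have h2 : AdicCompletion.evalₐ (maximalIdeal R) N (ψ (b i)) = fN (b i) := DFunLike.congr_fun hred (b i)
    rw [h2, h1]
    apply e.injective
    rw [hfN]
    show e (σ (g (Ideal.Quotient.mk J (X i)))) = Ideal.Quotient.mk _ (τ (g (Ideal.Quotient.mk J (X i))))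
    rw [hτ]
    rfl

end Groth.Agent.Lib.Helper18.DR.Pop
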