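import Mathlib
import Groth.Prelude.Def_Smoothing
import Groth.Agent.S2043
import Groth.Agent.Lib.Helper11.GenColim

/-!
# Approximation for functors preserving filtered colimits (helper18)

* `exists_etale_factor`: if `R^ = AdicCompletion I R` is ind-smooth over `R`, every map `C → R^`
  from a finitely presented `R`-algebra factors modulo `I^N` through an étale `R`-algebra `R'` with
  `R/I^N ≅ R'/I^N R'`.
* `functor_approx_of_poly_approx`: polynomial approximation implies functor approximation (copied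
  from helper11's proof of S14624, without the unused hypothesis `m ≠ ⊤`).
* `functor_etale_approx`: the étale version for functors.
-/

set_option autoImplicit false
set_option linter.style.haveILetI false
universe u

namespace Groth.Agent.Lib.Helper18.DR.Pop

open MvPolynomial CategoryTheory CategoryTheory.Limits Groth.Agent.Lib.Helper11

theorem exists_etale_factor {R : Type u} [CommRing R] (I : Ideal R)
    (hP : Smoothing.IndSmooth R (AdicCompletion I R)) (N : ℕ)
    (C : Type u) [CommRing C] [Algebra R C] (hC : Algebra.FinitePresentation R C)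
    (f : C →ₐ[R] AdicCompletion I R) :
    ∃ (R' : Type u) (_ : CommRing R') (_ : Algebra R R'), Algebra.Etale R R' ∧
      Function.Bijective (algebraMap (R ⧸ I ^ N) (R' ⧸ (I ^ N).map (algebraMap R R'))) ∧
      ∃ (t : C →ₐ[R] R') (fN : R' →ₐ[R] R ⧸ I ^ N),
        (∀ x, algebraMap (R ⧸ I ^ N) (R' ⧸ (I ^ N).map (algebraMap R R')) (fN x) =
          Ideal.Quotient.mk _ x) ∧
        fN.comp t = (AdicCompletion.evalₐ I N).comp f := by
  classical
  obtain ⟨B, _, _, hB, g, h, hgh⟩ := hP C hC f
  haveI := hB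
  let σ : B →ₐ[R] R ⧸ I ^ N := (AdicCompletion.evalₐ I N).comp h
  obtain ⟨R', _, _, het, hbij, τ, hτ⟩ := Groth.Agent.S2043.result (I ^ N) σ
  let e : (R ⧸ I ^ N) ≃+* (R' ⧸ (I ^ N).map (algebraMap R R')) := RingEquiv.ofBijective _ hbij
  have he : ∀ r : R, e (Ideal.Quotient.mk _ r) = Ideal.Quotient.mk _ (algebraMap R R' r) :=
    fun r => rfl
  let fN : R' →ₐ[R] R ⧸ I ^ N :=
    { toRingHom := e.symm.toRingHom.comp (Ideal.Quotient.mk _)
      commutes' := fun r => by
        show e.symm (Ideal.Quotient.mk _ (algebraMap R R' r)) = Ideal.Quotient.mk _ r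
        rw [RingEquiv.symm_apply_eq, he] }
  have hfN : ∀ x : R', e (fN x) = Ideal.Quotient.mk _ x := fun x => e.apply_symm_apply _
  refine ⟨R', inferInstance, inferInstance, het, hbij, τ.comp g, fN, hfN, ?_⟩
  ext x
  apply e.injective
  show e (fN (τ (g x))) = e (AdicCompletion.evalₐ I N (f x))
  rw [hfN, hτ, ← hgh]
  rfl

/-- polynomial approximation implies approximation for functors preserving filtered colimits
(helper11's proof of S14624, without the hypothesis `m ≠ ⊤`) -/
theorem functor_approx_of_poly_approx (A : Type u) [CommRing A] (m : Ideal A)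
    (hAP : ∀ (k l c : ℕ) (f : Fin l → MvPolynomial (Fin k) A) (â : Fin k → AdicCompletion m A),
      (∀ i, MvPolynomial.aeval â (f i) = 0) →
      ∃ a : Fin k → A, (∀ i, MvPolynomial.eval a (f i) = 0) ∧
        ∀ j, Ideal.Quotient.mk (m ^ c) (a j) = AdicCompletion.evalₐ m c (â j))
    (F : Under (CommRingCat.of A) ⥤ Type u)
    (hF : ∀ (J : Type u) [SmallCategory J] [IsFiltered J], PreservesColimitsOfShape J F)
    (c : ℕ)
    (π : Under.mk (CommRingCat.ofHom (algebraMap A (AdicCompletion m A))) ⟶
      Under.mk (CommRingCat.ofHom (algebraMap A (A ⧸ m ^ c))))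
    (hπ : π.right = CommRingCat.ofHom
      (AdicCompletion.evalₐ m c : AdicCompletion m A →ₐ[A] A ⧸ m ^ c).toRingHom)
    (ρ : Under.mk (𝟙 (CommRingCat.of A)) ⟶ Under.mk (CommRingCat.ofHom (algebraMap A (A ⧸ m ^ c))))
    (ξ : F.obj (Under.mk (CommRingCat.ofHom (algebraMap A (AdicCompletion m A))))) :
    ∃ η : F.obj (Under.mk (𝟙 (CommRingCat.of A))), F.map ρ η = F.map π ξ := by
  classical
  let P : ∀ (C : Type u) [CommRing C] [Algebra A C], Prop := fun _ _ _ => True
  have H : GenColim.Hyp A (AdicCompletion m A) P :=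
    { iso := fun _ _ _ _ _ _ _ _ => trivial
      tensor := fun _ _ _ _ _ _ _ _ _ _ => trivial
      quot := fun _ _ _ _ _ _ _ _ => trivial
      claim := fun b => ⟨MvPolynomial (Fin 1) A, inferInstance, inferInstance,
        MvPolynomial.aeval (fun _ => b), inferInstance, trivial, MvPolynomial.X 0, by simp⟩ }
  haveI := GenColim.isFiltered H
  obtain ⟨hc⟩ := GenColim.isColimit H
  haveI := hF (GenColim.Idx A (AdicCompletion m A) P)
  have hc' := isColimitOfPreserves F hc
  obtain ⟨s, ξs, hξs⟩ := Types.jointly_surjective_of_isColimit hc' ξ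
  obtain ⟨l, fl, hfl⟩ := Submodule.fg_iff_exists_fin_generating_family.mp s.fg
  let â : Fin s.n → AdicCompletion m A := fun j => s.g (Ideal.Quotient.mk s.I (MvPolynomial.X j))
  have haev : ∀ p : MvPolynomial (Fin s.n) A,
      MvPolynomial.aeval â p = s.g (Ideal.Quotient.mk s.I p) := by
    intro p
    have e : MvPolynomial.aeval â = s.g.comp (Ideal.Quotient.mkₐ A s.I) := by
      apply MvPolynomial.algHom_ext
      intro j
      simp [â]
    rw [e]
    rfl
  have hzero : ∀ i, MvPolynomial.aeval â (fl i) = 0 := by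
    intro i
    rw [haev]
    have hmem : fl i ∈ s.I := by
      rw [← hfl]
      exact Submodule.subset_span ⟨i, rfl⟩
    rw [Ideal.Quotient.eq_zero_iff_mem.mpr hmem, map_zero]
  obtain ⟨a, ha0, hamod⟩ := hAP s.n l c fl â hzero
  have hI : ∀ p ∈ s.I, (MvPolynomial.aeval a : MvPolynomial (Fin s.n) A →ₐ[A] A) p = 0 := by
    have hle : s.I ≤ RingHom.ker
        (MvPolynomial.aeval a : MvPolynomial (Fin s.n) A →ₐ[A] A).toRingHom := by
      rw [← hfl]
      apply Ideal.span_le.mpr
      rintro _ ⟨i, rfl⟩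
      exact ha0 i
    exact fun p hp => hle hp
  let ψ : s.Q →ₐ[A] A := Ideal.Quotient.liftₐ s.I (MvPolynomial.aeval a) hI
  have hψw : ((GenColim.F A (AdicCompletion m A) P).obj s).hom ≫
      CommRingCat.ofHom ψ.toRingHom = 𝟙 (CommRingCat.of A) := by
    ext a'
    exact ψ.commutes a'
  let ψ' : (GenColim.F A (AdicCompletion m A) P).obj s ⟶ Under.mk (𝟙 (CommRingCat.of A)) :=
    Under.homMk (CommRingCat.ofHom ψ.toRingHom) hψw
  refine ⟨F.map ψ' ξs, ?_⟩
  have hρ : ρ.right.hom = algebraMap A (A ⧸ m ^ c) := by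
    have h1 := Under.w ρ
    have h2 : ρ.right = CommRingCat.ofHom (algebraMap A (A ⧸ m ^ c)) :=
      (Category.id_comp ρ.right).symm.trans h1
    rw [h2]
    rfl
  have hπ' : π.right.hom =
      (AdicCompletion.evalₐ m c : AdicCompletion m A →ₐ[A] A ⧸ m ^ c).toRingHom := by
    rw [hπ]
    rfl
  have key : (ρ.right.hom).comp ψ.toRingHom = (π.right.hom).comp s.g.toRingHom := by
    rw [hρ, hπ']
    apply Ideal.Quotient.ringHom_ext
    apply MvPolynomial.ringHom_ext
    · intro a'
      show algebraMap A (A ⧸ m ^ c) (ψ (algebraMap A s.Q a')) =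
        AdicCompletion.evalₐ m c (s.g (algebraMap A s.Q a'))
      rw [AlgHom.commutes, AlgHom.commutes, AlgHom.commutes]
      rfl
    · intro j
      show algebraMap A (A ⧸ m ^ c) (MvPolynomial.aeval a (MvPolynomial.X j)) =
        AdicCompletion.evalₐ m c (â j)
      rw [MvPolynomial.aeval_X, ← hamod j]
      rfl
  have hcomm : ψ' ≫ ρ = (GenColim.cocone A (AdicCompletion m A) P).ι.app s ≫ π := by
    apply Under.UnderMorphism.ext
    apply CommRingCat.hom_ext
    exact key
  rw [← hξs]
  have e1 : F.map ρ (F.map ψ' ξs) = F.map (ψ' ≫ ρ) ξs :=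
    (FunctorToTypes.map_comp_apply F ψ' ρ ξs).symm
  have e2 : F.map π ((F.mapCocone (GenColim.cocone A (AdicCompletion m A) P)).ι.app s ξs) =
      F.map ((GenColim.cocone A (AdicCompletion m A) P).ι.app s ≫ π) ξs :=
    (FunctorToTypes.map_comp_apply F _ π ξs).symm
  rw [e1, e2, hcomm]

/-- étale approximation for functors preserving filtered colimits -/
theorem functor_etale_approx (A : Type u) [CommRing A] (m : Ideal A)
    (hP : Smoothing.IndSmooth A (AdicCompletion m A))
    (F : Under (CommRingCat.of A) ⥤ Type u)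
    (hF : ∀ (J : Type u) [SmallCategory J] [IsFiltered J], PreservesColimitsOfShape J F)
    (c : ℕ)
    (π : Under.mk (CommRingCat.ofHom (algebraMap A (AdicCompletion m A))) ⟶
      Under.mk (CommRingCat.ofHom (algebraMap A (A ⧸ m ^ c))))
    (hπ : π.right = CommRingCat.ofHom
      (AdicCompletion.evalₐ m c : AdicCompletion m A →ₐ[A] A ⧸ m ^ c).toRingHom)
    (ξ : F.obj (Under.mk (CommRingCat.ofHom (algebraMap A (AdicCompletion m A))))) :
    ∃ (A' : Type u) (_ : CommRing A') (_ : Algebra A A') (_ : Algebra.Etale A A')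
      (φ : Under.mk (CommRingCat.ofHom (algebraMap A A')) ⟶
        Under.mk (CommRingCat.ofHom (algebraMap A (A ⧸ m ^ c))))
      (ξ' : F.obj (Under.mk (CommRingCat.ofHom (algebraMap A A')))),
      F.map φ ξ' = F.map π ξ := by
  classical
  let P : ∀ (C : Type u) [CommRing C] [Algebra A C], Prop := fun _ _ _ => True
  have H : GenColim.Hyp A (AdicCompletion m A) P :=
    { iso := fun _ _ _ _ _ _ _ _ => trivial
      tensor := fun _ _ _ _ _ _ _ _ _ _ => trivial
      quot := fun _ _ _ _ _ _ _ _ => trivial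
      claim := fun b => ⟨MvPolynomial (Fin 1) A, inferInstance, inferInstance,
        MvPolynomial.aeval (fun _ => b), inferInstance, trivial, MvPolynomial.X 0, by simp⟩ }
  haveI := GenColim.isFiltered H
  obtain ⟨hc⟩ := GenColim.isColimit H
  haveI := hF (GenColim.Idx A (AdicCompletion m A) P)
  have hc' := isColimitOfPreserves F hc
  obtain ⟨s, ξs, hξs⟩ := Types.jointly_surjective_of_isColimit hc' ξ
  obtain ⟨A', _, _, het, -, t, fN, -, hfact⟩ :=
    exists_etale_factor m hP c s.Q inferInstance s.g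
  have htw : ((GenColim.F A (AdicCompletion m A) P).obj s).hom ≫
      CommRingCat.ofHom t.toRingHom = CommRingCat.ofHom (algebraMap A A') := by
    ext a'
    exact t.commutes a'
  let t' : (GenColim.F A (AdicCompletion m A) P).obj s ⟶
      Under.mk (CommRingCat.ofHom (algebraMap A A')) :=
    Under.homMk (CommRingCat.ofHom t.toRingHom) htw
  have hφw : (Under.mk (CommRingCat.ofHom (algebraMap A A'))).hom ≫
      CommRingCat.ofHom fN.toRingHom = CommRingCat.ofHom (algebraMap A (A ⧸ m ^ c)) := by
    ext a'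
    exact fN.commutes a'
  let φ : Under.mk (CommRingCat.ofHom (algebraMap A A')) ⟶
      Under.mk (CommRingCat.ofHom (algebraMap A (A ⧸ m ^ c))) :=
    Under.homMk (CommRingCat.ofHom fN.toRingHom) hφw
  refine ⟨A', inferInstance, inferInstance, het, φ, F.map t' ξs, ?_⟩
  have hπ' : π.right.hom =
      (AdicCompletion.evalₐ m c : AdicCompletion m A →ₐ[A] A ⧸ m ^ c).toRingHom := by
    rw [hπ]
    rfl
  have hcomm : t' ≫ φ = (GenColim.cocone A (AdicCompletion m A) P).ι.app s ≫ π := by
    apply Under.UnderMorphism.ext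
    apply CommRingCat.hom_ext
    show fN.toRingHom.comp t.toRingHom = (π.right.hom).comp s.g.toRingHom
    rw [hπ']
    exact RingHom.ext fun x => DFunLike.congr_fun hfact x
  rw [← hξs]
  have e1 : F.map φ (F.map t' ξs) = F.map (t' ≫ φ) ξs :=
    (FunctorToTypes.map_comp_apply F t' φ ξs).symm
  have e2 : F.map π ((F.mapCocone (GenColim.cocone A (AdicCompletion m A) P)).ι.app s ξs) =
      F.map ((GenColim.cocone A (AdicCompletion m A) P).ι.app s ≫ π) ξs :=
    (FunctorToTypes.map_comp_apply F _ π ξs).symm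
  rw [e1, e2, hcomm]

end Groth.Agent.Lib.Helper18.DR.Pop
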