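import Mathlib
import Groth.Prelude.Def_Smoothing
import Groth.Agent.Lib.Helper27.HfpSmooth
import Groth.Agent.Lib.Helper3.HenselPair
import Groth.Agent.Lib.Helper18.PopA

/-!
# Approximation of algebra maps into the completion (helper18)
-/

set_option autoImplicit false
set_option linter.style.haveILetI false
universe u

namespace Groth.Agent.Lib.Helper18.DR.Pop

open MvPolynomial IsLocalRing

/-- compatibility of the projections of an adic completion -/
theorem factor_evalₐ {R : Type*} [CommRing R] (I : Ideal R) {m n : ℕ} (hmn : m ≤ n)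
    (x : AdicCompletion I R) :
    Ideal.Quotient.factor (Ideal.pow_le_pow_right hmn : I ^ n ≤ I ^ m)
      (AdicCompletion.evalₐ I n x) = AdicCompletion.evalₐ I m x := by
  obtain ⟨c, rfl⟩ := AdicCompletion.mk_surjective I R x
  rw [AdicCompletion.evalₐ_mk, AdicCompletion.evalₐ_mk, Ideal.Quotient.factor_mk,
    Ideal.Quotient.eq]
  have h := c.2 hmn
  rw [SModEq.sub_mem] at h
  have h2 : c.val n - c.val m ∈ I ^ m := by
    have : c.val m - c.val n ∈ I ^ m := by simpa using h
    have := (I ^ m).neg_mem this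
    simpa using this
  exact h2

/-- elements of `I^N R^` are killed by the projection to `R / I^N` -/
theorem evalₐ_eq_zero_of_mem_map {R : Type*} [CommRing R] (I : Ideal R) (N : ℕ)
    (x : AdicCompletion I R) (hx : x ∈ (I ^ N).map (algebraMap R (AdicCompletion I R))) :
    AdicCompletion.evalₐ I N x = 0 := by
  have hle : (I ^ N).map (algebraMap R (AdicCompletion I R)) ≤
      RingHom.ker (AdicCompletion.evalₐ I N).toRingHom := by
    rw [Ideal.map_le_iff_le_comap]
    intro r hr
    rw [Ideal.mem_comap, RingHom.mem_ker]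
    show AdicCompletion.evalₐ I N (algebraMap R _ r) = 0
    rw [AlgHom.commutes]
    exact Ideal.Quotient.eq_zero_iff_mem.mpr hr
  exact hle hx

/-- approximation of algebra maps from finitely presented algebras into the completion -/
theorem exists_algHom_approx (A : Type u) [CommRing A] [IsNoetherianRing A]
    (I : Ideal A) [HenselianRing A I] (hP : Smoothing.IndSmooth A (AdicCompletion I A))
    (C : Type u) [CommRing C] [Algebra A C] (hC : Algebra.FinitePresentation A C)
    (f : C →ₐ[A] AdicCompletion I A) {N : ℕ} (hN : 1 ≤ N) :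
    ∃ g : C →ₐ[A] A, ∀ x, Ideal.Quotient.mk (I ^ N) (g x) = AdicCompletion.evalₐ I N (f x) := by
  obtain ⟨B, _, _, hB, g, h, hgh⟩ := hP C hC f
  haveI := hB
  let σ' : B →ₐ[A] A ⧸ I ^ N := (AdicCompletion.evalₐ I N).comp h
  haveI : HenselianRing A (I ^ N) :=
    Groth.Agent.Lib.Helper3.henselianRing_of_le inferInstance
      (Ideal.pow_le_self (by omega))
  obtain ⟨φ₀, hφ₀⟩ :=
    Groth.Agent.Lib.Helper27.HfpSmooth.exists_algHom_lift_quot_smooth (A := A) (E := B) A (I ^ N) σ'
  refine ⟨φ₀.comp g, fun x => ?_⟩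
  rw [← hgh]
  exact hφ₀ (g x)

/-- approximation of algebra maps from essentially finite type algebras over a henselian local
ring into the completion -/
theorem exists_algHom_approx_essFiniteType (R : Type u) [CommRing R] [IsNoetherianRing R]
    [HenselianLocalRing R]
    (hP : Smoothing.IndSmooth R (AdicCompletion (maximalIdeal R) R))
    (C : Type u) [CommRing C] [Algebra R C] [Algebra.EssFiniteType R C]
    (f : C →ₐ[R] AdicCompletion (maximalIdeal R) R) {N : ℕ} (hN : 1 ≤ N) :
    ∃ g : C →ₐ[R] R, ∀ x, Ideal.Quotient.mk (maximalIdeal R ^ N) (g x) =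
      AdicCompletion.evalₐ (maximalIdeal R) N (f x) := by
  classical
  set C₀ := Algebra.EssFiniteType.subalgebra R C with hC₀
  have hfp : Algebra.FinitePresentation R C₀ :=
    Algebra.FinitePresentation.of_finiteType.mp inferInstance
  obtain ⟨g₀, hg₀⟩ := exists_algHom_approx R (maximalIdeal R) hP C₀ hfp (f.comp C₀.val) hN
  have hle : maximalIdeal R ^ N ≤ maximalIdeal R := Ideal.pow_le_self (by omega)
  have hunit_of : ∀ r : R, IsUnit (Ideal.Quotient.mk (maximalIdeal R ^ N) r) → IsUnit r := by
    intro r hr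
    by_contra hu
    have hm : r ∈ maximalIdeal R := (mem_maximalIdeal r).mpr hu
    have h1 := hr.map (Ideal.Quotient.factor hle)
    rw [Ideal.Quotient.factor_mk, Ideal.Quotient.eq_zero_iff_mem.mpr hm] at h1
    exact not_isUnit_zero h1
  have hunits : ∀ s : Algebra.EssFiniteType.submonoid R C, IsUnit (g₀.toRingHom s) := by
    intro s
    apply hunit_of
    show IsUnit (Ideal.Quotient.mk (maximalIdeal R ^ N) (g₀ s))
    rw [hg₀]
    have hs : IsUnit (algebraMap C₀ C s) := s.2
    exact (hs.map f).map (AdicCompletion.evalₐ (maximalIdeal R) N)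
  let g' : C →+* R := IsLocalization.lift (M := Algebra.EssFiniteType.submonoid R C) hunits
  have hg' : ∀ x₀ : C₀, g' (algebraMap C₀ C x₀) = g₀ x₀ := fun x₀ => IsLocalization.lift_eq hunits x₀
  let g : C →ₐ[R] R :=
    { toRingHom := g'
      commutes' := fun r => by
        show g' (algebraMap R C r) = algebraMap R R r
        have h1 : algebraMap R C r = algebraMap C₀ C (algebraMap R C₀ r) := rfl
        rw [h1, hg', AlgHom.commutes] }
  refine ⟨g, fun x => ?_⟩
  obtain ⟨⟨x₀, s⟩, hxs⟩ := IsLocalization.surj (Algebra.EssFiniteType.submonoid R C) x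
  have hxs' : x * algebraMap C₀ C s = algebraMap C₀ C x₀ := hxs
  have hu : IsUnit (Ideal.Quotient.mk (maximalIdeal R ^ N) (g₀ s)) := (hunits s).map _
  have h1 : Ideal.Quotient.mk (maximalIdeal R ^ N) (g x) *
      Ideal.Quotient.mk (maximalIdeal R ^ N) (g₀ s) =
      AdicCompletion.evalₐ (maximalIdeal R) N (f x) *
        Ideal.Quotient.mk (maximalIdeal R ^ N) (g₀ s) := by
    have e1 : g x * g₀ s = g₀ x₀ := by
      show g' x * g₀ s = g₀ x₀
      rw [← hg' s, ← map_mul, hxs', hg']
    have e2 : f x * f (algebraMap C₀ C s) = f (algebraMap C₀ C x₀) := by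
      rw [← map_mul, hxs']
    rw [← map_mul, e1, hg₀, hg₀]
    show AdicCompletion.evalₐ (maximalIdeal R) N (f (algebraMap C₀ C x₀)) =
      AdicCompletion.evalₐ (maximalIdeal R) N (f x) *
        AdicCompletion.evalₐ (maximalIdeal R) N (f (algebraMap C₀ C s))
    rw [← e2, map_mul]
  exact hu.mul_left_inj.mp h1

end Groth.Agent.Lib.Helper18.DR.Pop
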