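import Mathlib

/-!
# Power series evaluation in complete rings, closeness of factorizations in a UFD (helper18)
-/

set_option autoImplicit false
set_option linter.style.haveILetI false
universe u

namespace Groth.Agent.Lib.Helper18.DR.Pop

open IsLocalRing

open scoped MvPowerSeries.WithPiTopology in
/-- substitution of elements of `J` into power series over a `J`-adically complete ring -/
theorem exists_evalHom {S : Type*} [CommRing S] (J : Ideal S) [hJ : IsAdicComplete J S]
    {σ : Type*} [Finite σ] (a : σ → S) (ha : ∀ s, a s ∈ J) :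
    ∃ ev : MvPowerSeries σ S →+* S, (∀ r, ev (MvPowerSeries.C r) = r) ∧
      ∀ s, ev (MvPowerSeries.X s) = a s := by
  letI : WithIdeal S := ⟨J⟩
  have hadic : IsAdic (J : Ideal S) := rfl
  obtain ⟨hc, ht⟩ := hadic.isAdicComplete_iff.mp hJ
  have hev : MvPowerSeries.HasEval a :=
    ⟨fun s => WithIdeal.isTopologicallyNilpotent_of_mem (ha s), by
      rw [Filter.cofinite_eq_bot]; exact Filter.tendsto_bot⟩
  refine ⟨MvPowerSeries.eval₂Hom (φ := RingHom.id S) continuous_id hev, ?_, ?_⟩
  · intro r
    rw [MvPowerSeries.coe_eval₂Hom, MvPowerSeries.eval₂_C]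
    rfl
  · intro s
    rw [MvPowerSeries.coe_eval₂Hom, MvPowerSeries.eval₂_X]

/-- Krull: ideals of a Noetherian local ring are closed -/
theorem exists_not_mem_sup_pow {S : Type*} [CommRing S] [IsNoetherianRing S] [IsLocalRing S]
    (I : Ideal S) (x : S) (hx : x ∉ I) : ∃ n, x ∉ I ⊔ maximalIdeal S ^ n := by
  by_contra hcon
  push_neg at hcon
  have hI : I ≠ ⊤ := fun h => hx (h ▸ Submodule.mem_top)
  haveI : Nontrivial (S ⧸ I) := Ideal.Quotient.nontrivial_iff.mpr hI
  haveI : IsLocalRing (S ⧸ I) :=
    IsLocalRing.of_surjective' (Ideal.Quotient.mk I) Ideal.Quotient.mk_surjective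
  have h1 : (⨅ i, (maximalIdeal (S ⧸ I)) ^ i) = ⊥ :=
    Ideal.iInf_pow_eq_bot_of_isLocalRing _ (maximalIdeal.isMaximal _).ne_top
  have h2 : Ideal.Quotient.mk I x ∈ (⨅ i, (maximalIdeal (S ⧸ I)) ^ i) := by
    rw [Ideal.mem_iInf]
    intro n
    rw [← IsLocalRing.map_maximalIdeal_of_surjective (Ideal.Quotient.mk I)
      Ideal.Quotient.mk_surjective, ← Ideal.map_pow]
    have h3 := hcon n
    rw [Ideal.mem_map_iff_of_surjective _ Ideal.Quotient.mk_surjective]
    obtain ⟨y, hy, z, hz, hyz⟩ := Submodule.mem_sup.mp h3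
    refine ⟨z, hz, ?_⟩
    rw [← hyz, map_add, Ideal.Quotient.eq_zero_iff_mem.mpr hy, zero_add]
  rw [h1, Ideal.mem_bot, Ideal.Quotient.eq_zero_iff_mem] at h2
  exact hx h2

/-- In a Noetherian local UFD, factorizations `a b = x y` with `a` close to `x` and `b` close to
`y` are trivial: `a ~ x` and `b ~ y`. -/
theorem ufd_close {S : Type*} [CommRing S] [IsDomain S] [IsNoetherianRing S] [IsLocalRing S]
    [UniqueFactorizationMonoid S] (x y : S) (hx : x ≠ 0) (hy : y ≠ 0) :
    ∃ N, ∀ a b : S, a * b = x * y → a - x ∈ maximalIdeal S ^ N → b - y ∈ maximalIdeal S ^ N →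
      Ideal.span {a} = Ideal.span {x} ∧ Ideal.span {b} = Ideal.span {y} := by
  classical
  have hxy : x * y ≠ 0 := mul_ne_zero hx hy
  have hxy' : Associates.mk (x * y) ≠ 0 := by
    rw [Ne, Associates.mk_eq_zero]
    exact hxy
  letI : Fintype {d : Associates S // d ∣ Associates.mk (x * y)} :=
    UniqueFactorizationMonoid.fintypeSubtypeDvd _ hxy'
  have key : ∀ (w z : S), ¬ w ∣ z → ∃ n, z ∉ Ideal.span {w} ⊔ maximalIdeal S ^ n := by
    intro w z hwz
    apply exists_not_mem_sup_pow
    rwa [Ideal.mem_span_singleton]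
  let nn : Associates S → S → ℕ := fun d z =>
    if h : Quotient.out d ∣ z then 0 else Classical.choose (key (Quotient.out d) z h)
  have hnn : ∀ (d : Associates S) (z : S), ¬ Quotient.out d ∣ z →
      z ∉ Ideal.span {Quotient.out d} ⊔ maximalIdeal S ^ nn d z := by
    intro d z h
    simp only [nn, dif_neg h]
    exact Classical.choose_spec (key (Quotient.out d) z h)
  let N : ℕ := Finset.univ.sup
    (fun d : {d : Associates S // d ∣ Associates.mk (x * y)} => max (nn d.1 x) (nn d.1 y))
  refine ⟨N, ?_⟩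
  -- the one-sided statement
  have one : ∀ a b u : S, a * b = x * y → (u = x ∨ u = y) → a - u ∈ maximalIdeal S ^ N → a ∣ u := by
    intro a b u hab hu hau
    have hdvd : Associates.mk a ∣ Associates.mk (x * y) := by
      rw [Associates.mk_dvd_mk]
      exact ⟨b, hab.symm⟩
    set d : Associates S := Associates.mk a with hd
    have hout : Associated (Quotient.out d) a := by
      rw [← Associates.mk_eq_mk_iff_associated]
      exact Associates.quot_out d
    by_contra hcon
    have hcon' : ¬ Quotient.out d ∣ u := fun h => hcon (hout.dvd_iff_dvd_left.mp h)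
    have h1 := hnn d u hcon'
    apply h1
    have hle : nn d u ≤ N := by
      have h2 : max (nn d x) (nn d y) ≤ N :=
        Finset.le_sup (f := fun d : {d : Associates S // d ∣ Associates.mk (x * y)} =>
          max (nn d.1 x) (nn d.1 y)) (Finset.mem_univ ⟨d, hdvd⟩)
      rcases hu with rfl | rfl
      · exact le_trans (le_max_left _ _) h2
      · exact le_trans (le_max_right _ _) h2
    have h4 : a - (a - u) ∈ Ideal.span {Quotient.out d} ⊔ maximalIdeal S ^ nn d u := by
      refine Ideal.sub_mem _ (Ideal.mem_sup_left ?_) (Ideal.mem_sup_right ?_)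
      · rw [Ideal.mem_span_singleton]
        exact hout.dvd
      · exact Ideal.pow_le_pow_right hle hau
    rwa [sub_sub_cancel] at h4
  intro a b hab ha hb
  have hax : a ∣ x := one a b x hab (Or.inl rfl) ha
  have hby : b ∣ y := one b a y (by rw [mul_comm, hab]) (Or.inr rfl) hb
  obtain ⟨a', ha'⟩ := hax
  obtain ⟨b', hb'⟩ := hby
  have h1 : a' * b' = 1 := by
    have h2 : (x * y) * (a' * b') = (x * y) * 1 := by
      rw [mul_one]
      calc (x * y) * (a' * b') = (a * b) * (a' * b') := by rw [hab]
        _ = (a * a') * (b * b') := by ring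
        _ = x * y := by rw [← ha', ← hb']
    exact mul_left_cancel₀ hxy h2
  have ua : IsUnit a' := IsUnit.of_mul_eq_one _ h1
  have ub : IsUnit b' := IsUnit.of_mul_eq_one _ (by rw [mul_comm]; exact h1)
  constructor
  · rw [Ideal.span_singleton_eq_span_singleton]
    obtain ⟨v, hv⟩ := ua
    exact ⟨v, by rw [hv, ← ha']⟩
  · rw [Ideal.span_singleton_eq_span_singleton]
    obtain ⟨v, hv⟩ := ub
    exact ⟨v, by rw [hv, ← hb']⟩

end Groth.Agent.Lib.Helper18.DR.Pop
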