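import Mathlib
import Groth.Prelude.Def_Smoothing
import Groth.Agent.Lib.Helper18.PopD
import Groth.Agent.Lib.Helper18.PopE
import Groth.Agent.S0543

/-!
# Sections through a node realizing a prescribed factorization (helper18)
-/

set_option autoImplicit false
set_option linter.style.haveILetI false
universe u

namespace Groth.Agent.Lib.Helper18.DR.Pop

open IsLocalRing

/-- a surjective ring homomorphism between local rings is local -/
theorem isLocalHom_of_surjective' {A B : Type*} [CommRing A] [CommRing B] [IsLocalRing A]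
    [Nontrivial B] (f : A →+* B) (hf : Function.Surjective f) : IsLocalHom f := by
  refine ⟨fun x hx => ?_⟩
  by_contra hu
  have hxm : x ∈ maximalIdeal A := (mem_maximalIdeal x).mpr hu
  obtain ⟨v, hv⟩ := hx.exists_right_inv
  obtain ⟨y, rfl⟩ := hf v
  have h1 : f (x * y - 1) = 0 := by rw [map_sub, map_mul, hv, map_one, sub_self]
  have h2 : IsUnit (x * y - 1) := by
    by_contra h3
    have h4 : x * y - 1 ∈ maximalIdeal A := (mem_maximalIdeal _).mpr h3
    have h5 : (1 : A) ∈ maximalIdeal A := by
      have : (1 : A) = x * y - (x * y - 1) := by ring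
      rw [this]
      exact Ideal.sub_mem _ (Ideal.mul_mem_right _ _ hxm) h4
    exact (maximalIdeal.isMaximal A).ne_top ((Ideal.eq_top_iff_one _).mpr h5)
  have h3 := h2.map f
  rw [h1] at h3
  exact not_isUnit_zero h3

/-- the map on completions induced by a local homomorphism of local rings -/
theorem exists_complMap {C R : Type*} [CommRing C] [CommRing R] [IsLocalRing C] [IsLocalRing R]
    (g : C →+* R) (hg : ∀ x ∈ maximalIdeal C, g x ∈ maximalIdeal R) :
    ∃ ĝ : AdicCompletion (maximalIdeal C) C →+* AdicCompletion (maximalIdeal R) R,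
      ∀ (n : ℕ) (z : AdicCompletion (maximalIdeal C) C) (c : C),
        AdicCompletion.evalₐ (maximalIdeal C) n z = Ideal.Quotient.mk _ c →
        AdicCompletion.evalₐ (maximalIdeal R) n (ĝ z) = Ideal.Quotient.mk _ (g c) := by
  have hle : ∀ n : ℕ, maximalIdeal C ^ n ≤ (maximalIdeal R ^ n).comap g := by
    intro n
    rw [← Ideal.map_le_iff_le_comap, Ideal.map_pow]
    apply Ideal.pow_right_mono
    rw [Ideal.map_le_iff_le_comap]
    exact hg
  let f : (n : ℕ) → AdicCompletion (maximalIdeal C) C →+* R ⧸ maximalIdeal R ^ n := fun n =>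
    (Ideal.quotientMap (maximalIdeal R ^ n) g (hle n)).comp
      (AdicCompletion.evalₐ (maximalIdeal C) n).toRingHom
  have hf : ∀ {m n : ℕ} (hmn : m ≤ n),
      (Ideal.Quotient.factorPow (maximalIdeal R) hmn).comp (f n) = f m := by
    intro m n hmn
    refine RingHom.ext fun z => ?_
    obtain ⟨c, hc⟩ := Ideal.Quotient.mk_surjective (AdicCompletion.evalₐ (maximalIdeal C) n z)
    have hc' : AdicCompletion.evalₐ (maximalIdeal C) m z = Ideal.Quotient.mk _ c := by
      rw [← factor_evalₐ (maximalIdeal C) hmn z, ← hc, Ideal.Quotient.factor_mk]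
    show Ideal.Quotient.factorPow (maximalIdeal R) hmn
      (Ideal.quotientMap (maximalIdeal R ^ n) g (hle n)
        (AdicCompletion.evalₐ (maximalIdeal C) n z)) =
      Ideal.quotientMap (maximalIdeal R ^ m) g (hle m) (AdicCompletion.evalₐ (maximalIdeal C) m z)
    rw [← hc, hc', Ideal.quotientMap_mk, Ideal.quotientMap_mk]
    rfl
  refine ⟨AdicCompletion.liftRingHom (maximalIdeal R) f hf, ?_⟩
  intro n z c hz
  rw [AdicCompletion.evalₐ_liftRingHom]
  show Ideal.quotientMap (maximalIdeal R ^ n) g (hle n)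
    (AdicCompletion.evalₐ (maximalIdeal C) n z) = _
  rw [hz, Ideal.quotientMap_mk]

theorem map_mem_maximalIdeal {A B : Type*} [CommRing A] [CommRing B] [IsLocalRing A]
    [IsLocalRing B] (φ : A →+* B) [IsLocalHom φ] {x : A} (hx : x ∈ maximalIdeal A) :
    φ x ∈ maximalIdeal B := by
  rw [mem_maximalIdeal, mem_nonunits_iff] at hx ⊢
  exact fun h => hx (isUnit_of_map_unit φ x h)

set_option maxHeartbeats 1600000 in
open MvPowerSeries in
theorem node_retraction (R : Type u) [CommRing R] [IsNoetherianRing R] [IsDomain R]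
    [HenselianLocalRing R]
    (hP : Smoothing.IndSmooth R (AdicCompletion (maximalIdeal R) R))
    [IsDomain (AdicCompletion (maximalIdeal R) R)]
    [UniqueFactorizationMonoid (AdicCompletion (maximalIdeal R) R)]
    (Δ t₁ t₂ : R) (hΔ : Δ ≠ 0) (ht₁ : t₁ ∈ maximalIdeal R) (ht₂ : t₂ ∈ maximalIdeal R)
    (ht : t₁ * t₂ = Δ)
    (C : Type u) [CommRing C] [IsLocalRing C] [Algebra R C] [IsLocalHom (algebraMap R C)]
    [Algebra.EssFiniteType R C]
    (ψ : AdicCompletion (maximalIdeal C) C ≃+*
      (MvPowerSeries (Fin 2) (AdicCompletion (maximalIdeal R) R) ⧸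
        Ideal.span {(X 0 * X 1 - MvPowerSeries.C (algebraMap R (AdicCompletion (maximalIdeal R) R) Δ) :
          MvPowerSeries (Fin 2) (AdicCompletion (maximalIdeal R) R))}))
    (hψ : ψ.toRingHom.comp ((algebraMap C (AdicCompletion (maximalIdeal C) C)).comp (algebraMap R C)) =
      (Ideal.Quotient.mk _).comp ((MvPowerSeries.C : AdicCompletion (maximalIdeal R) R →+*
        MvPowerSeries (Fin 2) (AdicCompletion (maximalIdeal R) R)).comp
          (algebraMap R (AdicCompletion (maximalIdeal R) R)))) :
    ∃ (g : C →ₐ[R] R) (ĝ : AdicCompletion (maximalIdeal C) C →+* AdicCompletion (maximalIdeal R) R),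
      ĝ.comp (algebraMap C (AdicCompletion (maximalIdeal C) C)) =
        (algebraMap R (AdicCompletion (maximalIdeal R) R)).comp g.toRingHom ∧
      Ideal.span {ĝ (ψ.symm (Ideal.Quotient.mk _ (X 0)))} =
        Ideal.span {algebraMap R (AdicCompletion (maximalIdeal R) R) t₁} ∧
      Ideal.span {ĝ (ψ.symm (Ideal.Quotient.mk _ (X 1)))} =
        Ideal.span {algebraMap R (AdicCompletion (maximalIdeal R) R) t₂} := by
  classical
  haveI : IsNoetherianRing C := Algebra.EssFiniteType.isNoetherianRing R C
  haveI : IsNoetherianRing (AdicCompletion (maximalIdeal R) R) := Groth.Agent.S0543.result R _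
  generalize hK : (Ideal.span {(X 0 * X 1 - MvPowerSeries.C
      (algebraMap R (AdicCompletion (maximalIdeal R) R) Δ) :
      MvPowerSeries (Fin 2) (AdicCompletion (maximalIdeal R) R))}) = K at ψ hψ ⊢
  have hMmap : maximalIdeal (AdicCompletion (maximalIdeal R) R) = (maximalIdeal R).map (algebraMap R (AdicCompletion (maximalIdeal R) R)) :=
    AdicCompletion.maximalIdeal_eq_map
  have hinj : Function.Injective (algebraMap R (AdicCompletion (maximalIdeal R) R)) :=
    AdicCompletion.of_injective (maximalIdeal R) R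
  -- Step 1: the evaluation map
  let that : Fin 2 → (AdicCompletion (maximalIdeal R) R) := ![algebraMap R (AdicCompletion (maximalIdeal R) R) t₁, algebraMap R (AdicCompletion (maximalIdeal R) R) t₂]
  have hthat : ∀ s, that s ∈ maximalIdeal (AdicCompletion (maximalIdeal R) R) := by
    intro s
    rw [hMmap]
    fin_cases s
    · exact Ideal.mem_map_of_mem _ ht₁
    · exact Ideal.mem_map_of_mem _ ht₂
  obtain ⟨ev, hevC, hevX⟩ := exists_evalHom (maximalIdeal (AdicCompletion (maximalIdeal R) R)) that hthat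
  have hevK : ∀ f ∈ K, ev f = 0 := by
    have hle : K ≤ RingHom.ker ev := by
      rw [← hK, Ideal.span_le]
      intro f hf
      rw [Set.mem_singleton_iff] at hf
      rw [SetLike.mem_coe, RingHom.mem_ker, hf, map_sub, map_mul, hevX, hevX, hevC]
      show algebraMap R (AdicCompletion (maximalIdeal R) R) t₁ * algebraMap R (AdicCompletion (maximalIdeal R) R) t₂ - algebraMap R (AdicCompletion (maximalIdeal R) R) Δ = 0
      rw [← map_mul, ht, sub_self]
    exact fun f hf => hle hf
  let evb : (MvPowerSeries (Fin 2) (AdicCompletion (maximalIdeal R) R) ⧸ K) →+* (AdicCompletion (maximalIdeal R) R) := Ideal.Quotient.lift K ev hevK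
  have hevb : ∀ f, evb (Ideal.Quotient.mk K f) = ev f := fun f => rfl
  let g0h : (AdicCompletion (maximalIdeal C) C) →+* (AdicCompletion (maximalIdeal R) R) := evb.comp ψ.toRingHom
  have hg0h : ∀ z, g0h z = evb (ψ z) := fun z => rfl
  have hsurj : Function.Surjective g0h := by
    intro r
    refine ⟨ψ.symm (Ideal.Quotient.mk K (MvPowerSeries.C r)), ?_⟩
    rw [hg0h, RingEquiv.apply_symm_apply, hevb, hevC]
  haveI : IsLocalHom g0h := isLocalHom_of_surjective' g0h hsurj
  have hψ' : ∀ r : R, ψ (algebraMap C (AdicCompletion (maximalIdeal C) C) (algebraMap R C r)) =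
      Ideal.Quotient.mk K (MvPowerSeries.C (algebraMap R (AdicCompletion (maximalIdeal R) R) r)) := fun r => RingHom.congr_fun hψ r
  let f0 : C →ₐ[R] (AdicCompletion (maximalIdeal R) R) :=
    { toRingHom := g0h.comp (algebraMap C (AdicCompletion (maximalIdeal C) C))
      commutes' := fun r => by
        show g0h (algebraMap C (AdicCompletion (maximalIdeal C) C) (algebraMap R C r)) = algebraMap R (AdicCompletion (maximalIdeal R) R) r
        rw [hg0h, hψ', hevb, hevC] }
  have hf0 : ∀ c, f0 c = g0h (algebraMap C (AdicCompletion (maximalIdeal C) C) c) := fun c => rfl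
  -- Step 2: the choice of `N`
  have ht₁0 : t₁ ≠ 0 := fun h => hΔ (by rw [← ht, h, zero_mul])
  have ht₂0 : t₂ ≠ 0 := fun h => hΔ (by rw [← ht, h, mul_zero])
  have hne1 : algebraMap R (AdicCompletion (maximalIdeal R) R) t₁ ≠ 0 := fun h => ht₁0 (hinj (by rw [h, map_zero]))
  have hne2 : algebraMap R (AdicCompletion (maximalIdeal R) R) t₂ ≠ 0 := fun h => ht₂0 (hinj (by rw [h, map_zero]))
  obtain ⟨N₀, hN₀⟩ := ufd_close (algebraMap R (AdicCompletion (maximalIdeal R) R) t₁) (algebraMap R (AdicCompletion (maximalIdeal R) R) t₂) hne1 hne2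
  set N := N₀ + 1 with hN
  have hN1 : 1 ≤ N := by omega
  obtain ⟨g, hg⟩ := exists_algHom_approx_essFiniteType R hP C f0 hN1
  -- `f0` and `g` are local
  have hf0m : ∀ x ∈ maximalIdeal C, f0 x ∈ maximalIdeal (AdicCompletion (maximalIdeal R) R) := by
    intro x hx
    rw [hf0]
    exact map_mem_maximalIdeal g0h (map_mem_maximalIdeal (algebraMap C (AdicCompletion (maximalIdeal C) C)) hx)
  have hgm : ∀ x ∈ maximalIdeal C, g.toRingHom x ∈ maximalIdeal R := by
    intro x hx
    have h1 : AdicCompletion.evalₐ (maximalIdeal R) 1 (f0 x) = 0 := by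
      apply evalₐ_eq_zero_of_mem_map
      rw [pow_one, ← hMmap]
      exact hf0m x hx
    have h2 := factor_evalₐ (maximalIdeal R) hN1 (f0 x)
    rw [← hg, Ideal.Quotient.factor_mk, h1, Ideal.Quotient.eq_zero_iff_mem, pow_one] at h2
    exact h2
  obtain ⟨gh, hgh⟩ := exists_complMap g.toRingHom hgm
  have hevalC : ∀ (n : ℕ) (c : C), AdicCompletion.evalₐ (maximalIdeal C) n (algebraMap C (AdicCompletion (maximalIdeal C) C) c) =
      Ideal.Quotient.mk _ c := by
    intro n c
    rw [AdicCompletion.algebraMap_apply, AdicCompletion.evalₐ_of]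
    rfl
  have hevalR : ∀ (n : ℕ) (r : R), AdicCompletion.evalₐ (maximalIdeal R) n (algebraMap R (AdicCompletion (maximalIdeal R) R) r) =
      Ideal.Quotient.mk _ r := by
    intro n r
    rw [AdicCompletion.algebraMap_apply, AdicCompletion.evalₐ_of]
    rfl
  have hcomp : ∀ c : C, gh (algebraMap C (AdicCompletion (maximalIdeal C) C) c) = algebraMap R (AdicCompletion (maximalIdeal R) R) (g c) := by
    intro c
    apply AdicCompletion.ext_evalₐ
    intro n
    rw [hgh n _ c (hevalC n c), hevalR]
    rfl
  refine ⟨g, gh, RingHom.ext hcomp, ?_⟩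
  -- the congruence between `gh` and `g0h`
  have hpowmap : (maximalIdeal R ^ N).map (algebraMap R (AdicCompletion (maximalIdeal R) R)) = maximalIdeal (AdicCompletion (maximalIdeal R) R) ^ N := by
    rw [Ideal.map_pow, ← hMmap]
  have hcong : ∀ z : (AdicCompletion (maximalIdeal C) C), AdicCompletion.evalₐ (maximalIdeal R) N (gh z) =
      AdicCompletion.evalₐ (maximalIdeal R) N (g0h z) := by
    intro z
    obtain ⟨c, hc⟩ := Ideal.Quotient.mk_surjective (AdicCompletion.evalₐ (maximalIdeal C) N z)
    rw [hgh N z c hc.symm]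
    have h1 : z - algebraMap C (AdicCompletion (maximalIdeal C) C) c ∈ (maximalIdeal C ^ N).map (algebraMap C (AdicCompletion (maximalIdeal C) C)) := by
      apply mem_map_pow_of_evalₐ_eq_zero (maximalIdeal C) (IsNoetherian.noetherian _) N
      rw [map_sub, hevalC, ← hc, sub_self]
    have h2 : (maximalIdeal C ^ N).map (algebraMap C (AdicCompletion (maximalIdeal C) C)) ≤
        ((maximalIdeal R ^ N).map (algebraMap R (AdicCompletion (maximalIdeal R) R))).comap g0h := by
      rw [Ideal.map_le_iff_le_comap]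
      intro x hx
      rw [Ideal.mem_comap, Ideal.mem_comap, hpowmap]
      have h3 : (maximalIdeal C ^ N).map f0.toRingHom ≤ maximalIdeal (AdicCompletion (maximalIdeal R) R) ^ N := by
        rw [Ideal.map_pow]
        apply Ideal.pow_right_mono
        rw [Ideal.map_le_iff_le_comap]
        exact hf0m
      exact h3 (Ideal.mem_map_of_mem f0.toRingHom hx)
    have h4 : AdicCompletion.evalₐ (maximalIdeal R) N (g0h (z - algebraMap C (AdicCompletion (maximalIdeal C) C) c)) = 0 :=
      evalₐ_eq_zero_of_mem_map _ _ _ (h2 h1)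
    rw [map_sub, map_sub, sub_eq_zero] at h4
    rw [h4, ← hf0, ← hg]
    rfl
  have hclose : ∀ z : (AdicCompletion (maximalIdeal C) C), gh z - g0h z ∈ maximalIdeal (AdicCompletion (maximalIdeal R) R) ^ N₀ := by
    intro z
    have h1 : gh z - g0h z ∈ (maximalIdeal R ^ N).map (algebraMap R (AdicCompletion (maximalIdeal R) R)) := by
      apply mem_map_pow_of_evalₐ_eq_zero (maximalIdeal R) (IsNoetherian.noetherian _) N
      rw [map_sub, hcong, sub_self]
    rw [hpowmap] at h1
    exact Ideal.pow_le_pow_right (by omega) h1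
  -- the values of `g0h`
  have hu : g0h (ψ.symm (Ideal.Quotient.mk K (X 0))) = algebraMap R (AdicCompletion (maximalIdeal R) R) t₁ := by
    rw [hg0h, RingEquiv.apply_symm_apply, hevb, hevX]
    rfl
  have hv : g0h (ψ.symm (Ideal.Quotient.mk K (X 1))) = algebraMap R (AdicCompletion (maximalIdeal R) R) t₂ := by
    rw [hg0h, RingEquiv.apply_symm_apply, hevb, hevX]
    rfl
  -- the product
  have hprod : gh (ψ.symm (Ideal.Quotient.mk K (X 0))) * gh (ψ.symm (Ideal.Quotient.mk K (X 1))) =
      algebraMap R (AdicCompletion (maximalIdeal R) R) t₁ * algebraMap R (AdicCompletion (maximalIdeal R) R) t₂ := by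
    rw [← map_mul, ← map_mul, ← map_mul, ← map_mul, ht]
    have h1 : Ideal.Quotient.mk K (X 0 * X 1) =
        Ideal.Quotient.mk K (MvPowerSeries.C (algebraMap R (AdicCompletion (maximalIdeal R) R) Δ)) := by
      rw [Ideal.Quotient.eq, ← hK]
      exact Ideal.subset_span rfl
    rw [h1, ← hψ', RingEquiv.symm_apply_apply, hcomp, AlgHom.commutes]
    rfl
  have hfin := hN₀ _ _ hprod (by rw [← hu]; exact hclose _) (by rw [← hv]; exact hclose _)
  exact hfin

end Groth.Agent.Lib.Helper18.DR.Pop
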