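import Mathlib
import Groth.Prelude.Def_ArtFun5
import Groth.Agent.Lib.Helper19.ArtFunBasic

/-!
# Pro-Yoneda for functors of Artin rings

Every augmentation-compatible map `φ : R → A` from a coefficient ring `R : CRing Λ k` to an object
of `Art Λ k` factors through a truncation `R/m^(n+1)`; hence families `h_R → F` are the same as
formal elements of `F` over `R`.
-/

set_option autoImplicit false
universe u v

open CategoryTheory

namespace Groth.Agent.Lib.Helper18.ProYoneda

open ArtFun ArtFun.Art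

variable {Λ : Type u} {k : Type u} [CommRing Λ] [Field k] [Algebra Λ k]

theorem map_mem_maximalIdeal (R : CRing Λ k) {A : Art Λ k} (φ : HomSet R.carrier R.res A)
    {a : R.carrier} (ha : a ∈ IsLocalRing.maximalIdeal R.carrier) :
    φ.1 a ∈ IsLocalRing.maximalIdeal A := by
  rw [Art.mem_maximalIdeal_iff]
  have h1 : A.res (φ.1 a) = R.res a := DFunLike.congr_fun φ.2 a
  rw [h1]
  exact (CRing.mem_maximalIdeal_iff R a).1 ha

theorem exists_mpow_le_ker (R : CRing Λ k) {A : Art Λ k} (φ : HomSet R.carrier R.res A) :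
    ∃ n : ℕ, CRing.mpow R n ≤ RingHom.ker φ.1 := by
  obtain ⟨n, hn⟩ := Groth.Agent.Lib.Helper19.ArtFunBasic.exists_maximalIdeal_pow_eq_bot A
  refine ⟨n, ?_⟩
  intro x hx
  rw [RingHom.mem_ker]
  have h1 : Ideal.map φ.1 (IsLocalRing.maximalIdeal R.carrier) ≤ IsLocalRing.maximalIdeal A := by
    rw [Ideal.map_le_iff_le_comap]
    intro a ha
    exact map_mem_maximalIdeal R φ ha
  have h2 : φ.1 x ∈ Ideal.map φ.1 (IsLocalRing.maximalIdeal R.carrier ^ (n + 1)) :=
    Ideal.mem_map_of_mem _ hx
  rw [Ideal.map_pow] at h2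
  have h3 : φ.1 x ∈ IsLocalRing.maximalIdeal A ^ n :=
    Ideal.pow_le_pow_right (Nat.le_succ n) (Ideal.pow_right_mono h1 _ h2)
  rw [hn] at h3
  exact h3

/-- The factorisation of `φ : R → A` through `R/m^(n+1)` when `φ` kills `m^(n+1)`. -/
noncomputable def factor (R : CRing Λ k) {A : Art Λ k} (φ : HomSet R.carrier R.res A) (n : ℕ)
    (h : CRing.mpow R n ≤ RingHom.ker φ.1) : R.trunc n ⟶ A :=
  ⟨Ideal.Quotient.liftₐ (CRing.mpow R n) φ.1 (fun _ ha => h ha), by
    apply AlgHom.ext
    intro x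
    obtain ⟨a, rfl⟩ := Ideal.Quotient.mk_surjective x
    exact DFunLike.congr_fun φ.2 a⟩

theorem map_factor_truncHom (R : CRing Λ k) {A : Art Λ k} (φ : HomSet R.carrier R.res A) (n : ℕ)
    (h : CRing.mpow R n ≤ RingHom.ker φ.1) :
    HomSet.map (factor R φ n h) (R.truncHom n) = φ :=
  Subtype.ext (AlgHom.ext fun _ => rfl)

theorem hom_ext_trunc (R : CRing Λ k) {A : Art Λ k} (n : ℕ) {g g' : R.trunc n ⟶ A}
    (h : HomSet.map g (R.truncHom n) = HomSet.map g' (R.truncHom n)) : g = g' := by
  apply Art.hom_ext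
  apply AlgHom.ext
  intro x
  obtain ⟨a, rfl⟩ := Ideal.Quotient.mk_surjective x
  exact DFunLike.congr_fun (congrArg Subtype.val h) a

theorem mpow_succ_le (R : CRing Λ k) (n : ℕ) : CRing.mpow R (n + 1) ≤ CRing.mpow R n :=
  Ideal.pow_le_pow_right (Nat.le_succ _)

theorem mpow_add_le (R : CRing Λ k) (n d : ℕ) : CRing.mpow R (n + d) ≤ CRing.mpow R n :=
  Ideal.pow_le_pow_right (by omega)

theorem factor_succ (R : CRing Λ k) {A : Art Λ k} (φ : HomSet R.carrier R.res A) (n : ℕ)
    (h : CRing.mpow R n ≤ RingHom.ker φ.1) :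
    factor R φ (n + 1) ((mpow_succ_le R n).trans h) = R.truncMap n ≫ factor R φ n h :=
  hom_ext_trunc R (n + 1) (Subtype.ext (AlgHom.ext fun _ => rfl))

theorem factor_map (R : CRing Λ k) {A B : Art Λ k} (f : A ⟶ B) (φ : HomSet R.carrier R.res A) (n : ℕ)
    (h : CRing.mpow R n ≤ RingHom.ker φ.1) (h' : CRing.mpow R n ≤ RingHom.ker (HomSet.map f φ).1) :
    factor R (HomSet.map f φ) n h' = factor R φ n h ≫ f :=
  hom_ext_trunc R n (Subtype.ext (AlgHom.ext fun _ => rfl))

theorem ker_le_ker_map (R : CRing Λ k) {A B : Art Λ k} (f : A ⟶ B) (φ : HomSet R.carrier R.res A) :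
    RingHom.ker φ.1 ≤ RingHom.ker (HomSet.map f φ).1 := by
  intro x hx
  rw [RingHom.mem_ker] at hx ⊢
  change f.toAlgHom (φ.1 x) = 0
  rw [hx, map_zero]

theorem mpow_le_ker_truncHom (R : CRing Λ k) (n : ℕ) :
    CRing.mpow R n ≤ RingHom.ker (R.truncHom n).1 := by
  intro x hx
  rw [RingHom.mem_ker]
  exact Ideal.Quotient.eq_zero_iff_mem.2 hx

theorem factor_truncHom (R : CRing Λ k) (n : ℕ) (h : CRing.mpow R n ≤ RingHom.ker (R.truncHom n).1) :
    factor R (R.truncHom n) n h = 𝟙 _ :=
  hom_ext_trunc R n (Subtype.ext (AlgHom.ext fun _ => rfl))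

variable {F : Art Λ k ⥤ Type v}

/-- A family is computed from its formal element. -/
theorem app_eq (R : CRing Λ k) (ξ : Family R.carrier R.res F) {A : Art Λ k}
    (φ : HomSet R.carrier R.res A) (n : ℕ) (h : CRing.mpow R n ≤ RingHom.ker φ.1) :
    ξ.app A φ = F.map (factor R φ n h) (ξ.toFormalElt.elt n) := by
  change _ = F.map (factor R φ n h) (ξ.app _ (R.truncHom n))
  rw [← ξ.natural, map_factor_truncHom]

theorem family_ext (R : CRing Λ k) {ξ ξ' : Family R.carrier R.res F}
    (h : ∀ (A : Art Λ k) (φ : HomSet R.carrier R.res A), ξ.app A φ = ξ'.app A φ) : ξ = ξ' := by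
  cases ξ; cases ξ'
  congr
  funext A φ
  exact h A φ

theorem toFormalElt_injective (R : CRing Λ k) :
    Function.Injective (fun ξ : Family R.carrier R.res F => ξ.toFormalElt) := by
  intro ξ ξ' h
  have h' : ξ.toFormalElt = ξ'.toFormalElt := h
  apply family_ext
  intro A φ
  obtain ⟨n, hn⟩ := exists_mpow_le_ker R φ
  rw [app_eq R ξ φ n hn, app_eq R ξ' φ n hn, h']

/-- The value of a formal element on `φ`, computed at level `n`. -/
noncomputable def val (R : CRing Λ k) (u : FormalElt F R) {A : Art Λ k}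
    (φ : HomSet R.carrier R.res A) (n : ℕ) (h : CRing.mpow R n ≤ RingHom.ker φ.1) : F.obj A :=
  F.map (factor R φ n h) (u.elt n)

theorem val_succ (R : CRing Λ k) (u : FormalElt F R) {A : Art Λ k}
    (φ : HomSet R.carrier R.res A) (n : ℕ) (h : CRing.mpow R n ≤ RingHom.ker φ.1) :
    val R u φ (n + 1) ((mpow_succ_le R n).trans h) = val R u φ n h := by
  unfold val
  rw [factor_succ R φ n h, FunctorToTypes.map_comp_apply, u.compat]

theorem val_add (R : CRing Λ k) (u : FormalElt F R) {A : Art Λ k}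
    (φ : HomSet R.carrier R.res A) (n : ℕ) (h : CRing.mpow R n ≤ RingHom.ker φ.1) (d : ℕ) :
    val R u φ (n + d) ((mpow_add_le R n d).trans h) = val R u φ n h := by
  induction d with
  | zero => rfl
  | succ d ih =>
    rw [← ih]
    exact val_succ R u φ (n + d) ((mpow_add_le R n d).trans h)

theorem val_indep (R : CRing Λ k) (u : FormalElt F R) {A : Art Λ k}
    (φ : HomSet R.carrier R.res A) (n m : ℕ) (h : CRing.mpow R n ≤ RingHom.ker φ.1)
    (h' : CRing.mpow R m ≤ RingHom.ker φ.1) : val R u φ n h = val R u φ m h' := by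
  rcases le_total n m with hle | hle
  · obtain ⟨d, rfl⟩ := Nat.exists_eq_add_of_le hle
    exact (val_add R u φ n h d).symm
  · obtain ⟨d, rfl⟩ := Nat.exists_eq_add_of_le hle
    exact val_add R u φ m h' d

/-- The family attached to a formal element. -/
noncomputable def ofFormalElt (R : CRing Λ k) (u : FormalElt F R) : Family R.carrier R.res F where
  app A φ := val R u φ (exists_mpow_le_ker R φ).choose (exists_mpow_le_ker R φ).choose_spec
  natural {A B} f φ := by
    have h := (exists_mpow_le_ker R φ).choose_spec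
    rw [val_indep R u (HomSet.map f φ) _ (exists_mpow_le_ker R φ).choose _
      (h.trans (ker_le_ker_map R f φ))]
    unfold val
    rw [factor_map R f φ _ h, FunctorToTypes.map_comp_apply]

theorem ofFormalElt_app (R : CRing Λ k) (u : FormalElt F R) {A : Art Λ k}
    (φ : HomSet R.carrier R.res A) (n : ℕ) (h : CRing.mpow R n ≤ RingHom.ker φ.1) :
    (ofFormalElt R u).app A φ = F.map (factor R φ n h) (u.elt n) :=
  val_indep R u φ _ n _ h

theorem toFormalElt_ofFormalElt (R : CRing Λ k) (u : FormalElt F R) :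
    (ofFormalElt R u).toFormalElt = u := by
  apply FormalElt.ext'
  intro n
  change (ofFormalElt R u).app _ (R.truncHom n) = u.elt n
  rw [ofFormalElt_app R u (R.truncHom n) n (mpow_le_ker_truncHom R n), factor_truncHom,
    FunctorToTypes.map_id_apply]

theorem toFormalElt_bijective (R : CRing Λ k) :
    Function.Bijective (fun ξ : Family R.carrier R.res F => ξ.toFormalElt) :=
  ⟨toFormalElt_injective R, fun u => ⟨ofFormalElt R u, toFormalElt_ofFormalElt R u⟩⟩

end Groth.Agent.Lib.Helper18.ProYoneda
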