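import Mathlib
import Groth.Agent.Lib.Helper18.ProYoneda

/-!
# Pro-Yoneda, part 2: maps into a complete coefficient ring, universal families
-/

set_option autoImplicit false
universe u v

open CategoryTheory

namespace Groth.Agent.Lib.Helper18.ProYoneda

open ArtFun ArtFun.Art

variable {Λ : Type u} {k : Type u} [CommRing Λ] [Field k] [Algebra Λ k]

/-- The system of maps `R → S/m^n` attached to a sequence of maps to the truncations. -/
noncomputable def sysMap {R : Type u} [CommRing R] [Algebra Λ R] (S : CRing Λ k)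
    (γ : ∀ n : ℕ, R →ₐ[Λ] (S.trunc n)) :
    ∀ n : ℕ, R →ₐ[Λ] S.carrier ⧸ IsLocalRing.maximalIdeal S.carrier ^ n
  | 0 => (Ideal.Quotient.factorₐ Λ (Ideal.pow_le_pow_right (Nat.zero_le 1))).comp (γ 0)
  | n + 1 => γ n

theorem sysMap_compat {R : Type u} [CommRing R] [Algebra Λ R] (S : CRing Λ k)
    (γ : ∀ n : ℕ, R →ₐ[Λ] (S.trunc n))
    (hγ : ∀ n, (S.truncMap n).toAlgHom.comp (γ (n + 1)) = γ n) {m n : ℕ} (hle : m ≤ n) :
    (Ideal.Quotient.factorₐ Λ (Ideal.pow_le_pow_right hle)).comp (sysMap S γ n) = sysMap S γ m := by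
  induction n, hle using Nat.le_induction with
  | base =>
    rw [Ideal.Quotient.factorₐ_refl]
    exact AlgHom.id_comp _
  | succ n hmn ih =>
    rw [← ih, ← Ideal.Quotient.factorₐ_comp Λ (Ideal.pow_le_pow_right (Nat.le_succ n))
      (Ideal.pow_le_pow_right hmn), AlgHom.comp_assoc]
    congr 1
    cases n with
    | zero => rfl
    | succ n =>
      show _ = γ n
      rw [← hγ n]
      apply AlgHom.ext
      intro r
      show Ideal.Quotient.factorₐ Λ (Ideal.pow_le_pow_right (Nat.le_succ (n + 1)))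
        (γ (n + 1) r) = (S.truncMap n).toAlgHom (γ (n + 1) r)
      obtain ⟨a, ha⟩ := Ideal.Quotient.mk_surjective (γ (n + 1) r)
      rw [← ha]
      rfl

/-- The limit map. -/
noncomputable def limMap {R : Type u} [CommRing R] [Algebra Λ R] (S : CRing Λ k)
    (γ : ∀ n : ℕ, R →ₐ[Λ] (S.trunc n))
    (hγ : ∀ n, (S.truncMap n).toAlgHom.comp (γ (n + 1)) = γ n) : R →ₐ[Λ] S.carrier :=
  haveI := S.isAdicComplete
  IsAdicComplete.liftAlgHom (IsLocalRing.maximalIdeal S.carrier) (sysMap S γ)
    (fun hle => sysMap_compat S γ hγ hle)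

theorem limMap_spec {R : Type u} [CommRing R] [Algebra Λ R] (S : CRing Λ k)
    (γ : ∀ n : ℕ, R →ₐ[Λ] (S.trunc n))
    (hγ : ∀ n, (S.truncMap n).toAlgHom.comp (γ (n + 1)) = γ n) (n : ℕ) (r : R) :
    (S.truncHom n).1 (limMap S γ hγ r) = γ n r := by
  haveI := S.isAdicComplete
  show Ideal.Quotient.mk (IsLocalRing.maximalIdeal S.carrier ^ (n + 1)) (limMap S γ hγ r) = γ n r
  unfold limMap
  rw [IsAdicComplete.mk_liftAlgHom]
  rfl

/-- Two maps into a coefficient ring that agree modulo all powers of the maximal ideal agree. -/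
theorem algHom_ext_trunc {R : Type u} [CommRing R] [Algebra Λ R] (S : CRing Λ k)
    {g₁ g₂ : R →ₐ[Λ] S.carrier}
    (h : ∀ n, (S.truncHom n).1.comp g₁ = (S.truncHom n).1.comp g₂) : g₁ = g₂ := by
  haveI := S.isAdicComplete
  apply IsAdicComplete.algHom_ext (IsLocalRing.maximalIdeal S.carrier)
  intro n
  cases n with
  | zero =>
    apply AlgHom.ext
    intro r
    haveI : Subsingleton (S.carrier ⧸ IsLocalRing.maximalIdeal S.carrier ^ 0) := by
      rw [pow_zero, Ideal.Quotient.subsingleton_iff, Ideal.one_eq_top]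
    exact Subsingleton.elim _ _
  | succ n => exact h n

/-- The composite of an augmentation-compatible map with a truncation map, as an element of `h_R`. -/
noncomputable def truncComp {R : Type u} [CommRing R] [Algebra Λ R] {resR : R →ₐ[Λ] k} (S : CRing Λ k)
    (g : R →ₐ[Λ] S.carrier) (hg : S.res.comp g = resR) (n : ℕ) : HomSet R resR (S.trunc n) :=
  ⟨(S.truncHom n).1.comp g, by rw [← AlgHom.comp_assoc, (S.truncHom n).2, hg]⟩

variable {F : Art Λ k ⥤ Type v}

theorem along_toFormalElt_elt {R : Type u} [CommRing R] [Algebra Λ R] {resR : R →ₐ[Λ] k}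
    (ξ : Family R resR F) (S : CRing Λ k) (g : R →ₐ[Λ] S.carrier) (hg : S.res.comp g = resR) (n : ℕ) :
    (ξ.along g hg).toFormalElt.elt n = ξ.app _ (truncComp S g hg n) := rfl

/-- A family over `S` equals `ξ.along g` as soon as it does on the truncation maps. -/
theorem along_eq_of_trunc {R : Type u} [CommRing R] [Algebra Λ R] {resR : R →ₐ[Λ] k}
    (ξ : Family R resR F) (S : CRing Λ k) (g : R →ₐ[Λ] S.carrier) (hg : S.res.comp g = resR)
    (ζ : Family S.carrier S.res F)
    (h : ∀ n, ξ.app _ (truncComp S g hg n) = ζ.app _ (S.truncHom n)) : ξ.along g hg = ζ := by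
  apply toFormalElt_injective S
  apply FormalElt.ext'
  intro n
  exact h n

/-- For a family injective on every object, `g ↦ ξ.along g` is injective on formal elements. -/
theorem along_injective {R : Type u} [CommRing R] [Algebra Λ R] {resR : R →ₐ[Λ] k}
    (ξ : Family R resR F) (hinj : ∀ A : Art Λ k, Function.Injective (ξ.app A)) (S : CRing Λ k)
    (g₁ g₂ : R →ₐ[Λ] S.carrier) (hg₁ : S.res.comp g₁ = resR) (hg₂ : S.res.comp g₂ = resR)
    (h : (ξ.along g₁ hg₁).toFormalElt = (ξ.along g₂ hg₂).toFormalElt) : g₁ = g₂ := by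
  apply algHom_ext_trunc S
  intro n
  have h1 : ξ.app _ (truncComp S g₁ hg₁ n) = ξ.app _ (truncComp S g₂ hg₂ n) :=
    congrArg (fun u => u.elt n) h
  exact congrArg Subtype.val (hinj _ h1)

/-- A universal family induces every family over a coefficient ring. -/
theorem exists_along_of_universal {R : Type u} [CommRing R] [Algebra Λ R] {resR : R →ₐ[Λ] k}
    (ξ : Family R resR F) (hξ : IsUniversal ξ) (S : CRing Λ k) (ζ : Family S.carrier S.res F) :
    ∃ (g : R →ₐ[Λ] S.carrier) (hg : S.res.comp g = resR), ξ.along g hg = ζ := by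
  choose ψ hψ using fun n => (hξ (S.trunc n)).2 (ζ.app _ (S.truncHom n))
  have hcompat : ∀ n, HomSet.map (S.truncMap n) (ψ (n + 1)) = ψ n := by
    intro n
    apply (hξ (S.trunc n)).1
    rw [ξ.natural, hψ, hψ, ← ζ.natural, CRing.truncMap_truncHom]
  have hγ : ∀ n, (S.truncMap n).toAlgHom.comp (ψ (n + 1)).1 = (ψ n).1 :=
    fun n => congrArg Subtype.val (hcompat n)
  let g := limMap S (fun n => (ψ n).1) hγ
  have hgn : ∀ n, (S.truncHom n).1.comp g = (ψ n).1 :=
    fun n => AlgHom.ext (limMap_spec S (fun n => (ψ n).1) hγ n)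
  have hg : S.res.comp g = resR := by
    have h1 : S.res = (S.trunc 0).res.comp (S.truncHom 0).1 := (S.truncHom 0).2.symm
    rw [h1, AlgHom.comp_assoc, hgn 0]
    exact (ψ 0).2
  refine ⟨g, hg, along_eq_of_trunc ξ S g hg ζ ?_⟩
  intro n
  have : truncComp S g hg n = ψ n := Subtype.ext (hgn n)
  rw [this, hψ]

end Groth.Agent.Lib.Helper18.ProYoneda
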