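import Mathlib
import Groth.Prelude.Def_ArtFun4
import Groth.Agent.Lib.Helper19.AffDefRigid
import Groth.Agent.Lib.Helper18.HullN

/-!
# A section through a rational point of a deformation of a smooth scheme (helper18)

Affine case: a deformation of a smooth affine `k`-scheme over a local Artinian `k`-algebra is trivial
(helper19 `AffDefRigid.iso_trivial_of_section` + the lifting property of formally smooth algebras), and the
trivial deformation has the constant section.
-/

set_option autoImplicit false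
set_option linter.style.haveILetI false
set_option linter.unusedSectionVars false
universe u

open CategoryTheory CategoryTheory.Limits AlgebraicGeometry

namespace Groth.Agent.Lib.Helper18.PtSecA

open ArtFun ArtFun.Art

variable {k : Type u} [Field k]

theorem isNilpotent_max (A : Art k k) : IsNilpotent (IsLocalRing.maximalIdeal A) := by
  have h := IsArtinianRing.isNilpotent_jacobson_bot (R := A)
  rwa [IsLocalRing.jacobson_eq_maximalIdeal ⊥ bot_ne_top] at h

/-- a deformation of a formally smooth affine scheme is trivial -/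
theorem iso_trivial_of_formallySmooth (B₀ : Type u) [CommRing B₀] [Algebra k B₀]
    [Algebra.FormallySmooth k B₀] (A : Art k k)
    (ξ : DefSch (Spec (CommRingCat.of B₀)) (Spec.map (CommRingCat.ofHom (algebraMap k B₀))) A)
    (hfl : Flat (Spec.map (CommRingCat.ofHom (algebraMap k B₀)))) :
    Nonempty (ξ.Iso (DefSch.trivial (Spec (CommRingCat.of B₀))
      (Spec.map (CommRingCat.ofHom (algebraMap k B₀))) hfl A)) := by
  refine Groth.Agent.Lib.Helper19.AffDef.iso_trivial_of_section B₀ A ξ hfl ?_
  intro R _ _ _ _ _ π hsurj hker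
  have hnil : IsNilpotent (RingHom.ker (π : R →+* B₀)) := by
    rw [hker]
    obtain ⟨n, hn⟩ := isNilpotent_max A
    refine ⟨n, ?_⟩
    rw [← Ideal.map_pow, hn]
    exact Ideal.map_bot
  refine ⟨Algebra.FormallySmooth.liftOfSurjective (AlgHom.id k B₀) π hsurj hnil, fun b => ?_⟩
  exact Algebra.FormallySmooth.liftOfSurjective_apply (AlgHom.id k B₀) π hsurj hnil b

/-- the affine case -/
theorem exists_section_affine (B₀ : Type u) [CommRing B₀] [Algebra k B₀]
    [Algebra.FormallySmooth k B₀] (A : Art k k)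
    (ξ : DefSch (Spec (CommRingCat.of B₀)) (Spec.map (CommRingCat.ofHom (algebraMap k B₀))) A)
    (P : specPt k ⟶ Spec (CommRingCat.of B₀))
    (hP : P ≫ Spec.map (CommRingCat.ofHom (algebraMap k B₀)) = 𝟙 _) :
    ∃ σ : spec A ⟶ ξ.total, σ ≫ ξ.f = 𝟙 _ ∧ P ≫ ξ.i = specRes A ≫ σ := by
  have hfl : Flat (Spec.map (CommRingCat.ofHom (algebraMap k B₀))) := inferInstance
  obtain ⟨e⟩ := iso_trivial_of_formallySmooth B₀ A ξ hfl
  let x : Spec (CommRingCat.of B₀) ⟶ specPt k :=
    Spec.map (CommRingCat.ofHom (algebraMap k B₀))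
  let sA : spec A ⟶ specPt k := specMap (ofBase A)
  have hrs : specRes A ≫ sA = 𝟙 (specPt k) := by
    have h1 := comp_specRes_base (Λ := k) (𝟙 (specPt k))
    rw [Category.id_comp] at h1
    exact (specRes_comp (ofBase A)).trans h1
  let T : DefSch (Spec (CommRingCat.of B₀)) x A :=
    DefSch.trivial (Spec (CommRingCat.of B₀)) x hfl A
  have hc : (sA ≫ P) ≫ x = 𝟙 _ ≫ sA := by
    rw [Category.assoc, hP, Category.comp_id, Category.id_comp]
  let σ₀ : spec A ⟶ pullback x sA := pullback.lift (sA ≫ P) (𝟙 _) hc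
  have hσ₀2 : σ₀ ≫ pullback.snd x sA = 𝟙 _ := pullback.lift_snd _ _ _
  have hσ₀1 : σ₀ ≫ pullback.fst x sA = sA ≫ P := pullback.lift_fst _ _ _
  let Ti : Spec (CommRingCat.of B₀) ⟶ pullback x sA := T.i
  let einv : pullback x sA ⟶ ξ.total := e.iso.inv
  have hTi1 : Ti ≫ pullback.fst x sA = 𝟙 _ :=
    DefSch.baseChange_i_fst (DefSch.self (Spec (CommRingCat.of B₀)) x hfl) (ofBase A)
  have hTi2 : Ti ≫ pullback.snd x sA = x ≫ specRes A :=
    DefSch.baseChange_i_f (DefSch.self (Spec (CommRingCat.of B₀)) x hfl) (ofBase A)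
  have hσ₀i : P ≫ Ti = specRes A ≫ σ₀ := by
    apply pullback.hom_ext
    · rw [Category.assoc, Category.assoc, hTi1, hσ₀1, Category.comp_id, ← Category.assoc,
        hrs, Category.id_comp]
    · rw [Category.assoc, Category.assoc, hTi2, hσ₀2, Category.comp_id, ← Category.assoc, hP,
        Category.id_comp]
  have h1 : einv ≫ ξ.f = pullback.snd x sA :=
    (Iso.inv_comp_eq e.iso).2 e.hom_f.symm
  have h2 : Ti ≫ einv = ξ.i := (Iso.comp_inv_eq e.iso).2 e.i_hom.symm
  refine ⟨σ₀ ≫ einv, ?_, ?_⟩
  · rw [Category.assoc, h1, hσ₀2]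
  · rw [← h2, ← Category.assoc, hσ₀i, Category.assoc]

end Groth.Agent.Lib.Helper18.PtSecA
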