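import Mathlib
import Groth.Prelude.Def_ArtFun4
import Groth.Agent.Lib.Helper18.PtSecA

/-!
# A section through a rational point of a deformation of a smooth scheme: the general case (helper18)

Restrict the deformation to an affine open neighbourhood of the point and use the affine case.
-/

set_option autoImplicit false
set_option linter.style.haveILetI false
set_option linter.unusedSectionVars false
universe u

open CategoryTheory CategoryTheory.Limits AlgebraicGeometry

namespace Groth.Agent.Lib.Helper18.PtSecB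

open ArtFun ArtFun.Art

variable {k : Type u} [Field k]

/-- restriction of a deformation to an open of the total space -/
noncomputable def restr {X : Scheme.{u}} {x : X ⟶ specPt k} {A : Art k k} (ξ : DefSch X x A)
    (W : ξ.total.Opens) : DefSch (ξ.i ⁻¹ᵁ W) ((ξ.i ⁻¹ᵁ W).ι ≫ x) A where
  total := W
  f := W.ι ≫ ξ.f
  flat := inferInstance
  i := ξ.i ∣_ W
  isPullback := (isPullback_morphismRestrict ξ.i W).paste_vert ξ.isPullback

theorem isClosedImmersion_i {X : Scheme.{u}} {x : X ⟶ specPt k} {A : Art k k} (ξ : DefSch X x A) :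
    IsClosedImmersion ξ.i :=
  MorphismProperty.of_isPullback (P := @IsClosedImmersion) ξ.isPullback.flip
    (IsClosedImmersion.spec_of_surjective _ A.res_surjective)

/-- a deformation of an affine smooth scheme has a section through every rational point -/
theorem exists_section_of_isAffine {X : Scheme.{u}} [IsAffine X] (x : X ⟶ specPt k) [Smooth x]
    (A : Art k k) (ξ : DefSch X x A) (P : specPt k ⟶ X) (hP : P ≫ x = 𝟙 _) :
    ∃ σ : spec A ⟶ ξ.total, σ ≫ ξ.f = 𝟙 _ ∧ P ≫ ξ.i = specRes A ≫ σ := by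
  let φ : CommRingCat.of k ⟶ Γ(X, ⊤) := Spec.preimage (X.isoSpec.inv ≫ x)
  have hφ : Spec.map φ = X.isoSpec.inv ≫ x := Spec.map_preimage _
  let B₀ : Type u := Γ(X, ⊤)
  letI : Algebra k B₀ := φ.hom.toAlgebra
  haveI : Algebra.FormallySmooth k B₀ := by
    have h1 : Smooth (Spec.map φ) := by rw [hφ]; infer_instance
    have h4 : RingHom.Smooth φ.hom := (HasRingHomProperty.Spec_iff (P := @Smooth)).1 h1
    have h5 : Algebra.Smooth k B₀ := h4
    exact h5.formallySmooth
  let e : X ≅ Spec (CommRingCat.of B₀) := X.isoSpec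
  have hx : e.hom ≫ Spec.map (CommRingCat.ofHom (algebraMap k B₀)) = x := by
    change X.isoSpec.hom ≫ Spec.map φ = x
    rw [hφ, Iso.hom_inv_id_assoc]
  have he' : e.symm.hom ≫ x = Spec.map (CommRingCat.ofHom (algebraMap k B₀)) := by
    rw [Iso.symm_hom, ← hx, Iso.inv_hom_id_assoc]
  obtain ⟨σ, h1, h2⟩ := PtSecA.exists_section_affine B₀ A (HullN.tr e.symm he' ξ) (P ≫ e.hom) (by
    rw [Category.assoc, hx, hP])
  let σ' : spec A ⟶ ξ.total := σ
  have h3 : (P ≫ e.hom) ≫ e.symm.hom ≫ ξ.i = specRes A ≫ σ' := h2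
  refine ⟨σ', h1, ?_⟩
  rw [← h3, Iso.symm_hom, Category.assoc, Iso.hom_inv_id_assoc]

/-- a deformation of a smooth scheme has a section through every rational point -/
theorem exists_section {X : Scheme.{u}} (x : X ⟶ specPt k) [Smooth x]
    (A : Art k k) (ξ : DefSch X x A) (P : specPt k ⟶ X) (hP : P ≫ x = 𝟙 _) :
    ∃ σ : spec A ⟶ ξ.total, σ ≫ ξ.f = 𝟙 _ ∧ P ≫ ξ.i = specRes A ≫ σ := by
  haveI := isClosedImmersion_i ξ
  -- the point
  let pt : specPt k := (default : PrimeSpectrum k)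
  obtain ⟨W', hzW'⟩ : ∃ W : ξ.total.affineOpens, (P ≫ ξ.i) pt ∈ W.1 := by
    obtain ⟨_, ⟨W, hW, rfl⟩, hz, -⟩ := ξ.total.isBasis_affineOpens.exists_subset_of_mem_open
      (Set.mem_univ ((P ≫ ξ.i) pt)) isOpen_univ
    exact ⟨⟨W, hW⟩, hz⟩
  let W : ξ.total.Opens := W'.1
  let U : X.Opens := ξ.i ⁻¹ᵁ W
  have hU : IsAffineOpen U := W'.2.preimage ξ.i
  haveI : IsAffine (U : Scheme.{u}) := hU
  have hsub : Subsingleton (specPt k) := inferInstanceAs (Subsingleton (PrimeSpectrum k))
  have hrange : Set.range P ⊆ Set.range U.ι := by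
    rintro _ ⟨s, rfl⟩
    rw [Scheme.Opens.range_ι]
    have hs : s = pt := Subsingleton.elim _ _
    rw [hs]
    exact hzW'
  let PU : specPt k ⟶ (U : Scheme.{u}) := IsOpenImmersion.lift U.ι P hrange
  have hPU : PU ≫ U.ι = P := IsOpenImmersion.lift_fac _ _ _
  obtain ⟨σ', h1, h2⟩ := exists_section_of_isAffine (U.ι ≫ x) A (restr ξ W) PU (by
    rw [← Category.assoc, hPU, hP])
  let σ'' : spec A ⟶ (W : Scheme.{u}) := σ'
  have h1' : σ'' ≫ W.ι ≫ ξ.f = 𝟙 _ := h1
  have h2' : PU ≫ (ξ.i ∣_ W) = specRes A ≫ σ'' := h2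
  refine ⟨σ'' ≫ W.ι, ?_, ?_⟩
  · rw [Category.assoc, h1']
  · rw [← hPU, Category.assoc, ← morphismRestrict_ι, ← Category.assoc, h2', Category.assoc]

end Groth.Agent.Lib.Helper18.PtSecB
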