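import Mathlib
import Groth.Agent.Lib.Helper18.HomLoc7
import Groth.Agent.Lib.Helper18.DRInjAmp

/-!
# `g`-power torsion of `Hom` groups in `D(A)` (helper18)

`Tors g X W` : every morphism `X ⟶ W` is killed by a power of `g`.  With `g = 1` this is the
vanishing of `Hom(X, W)`.  The predicate is stable under isomorphisms, shifts and extensions
(triangles) in the first variable.
-/

set_option autoImplicit false
set_option linter.style.haveILetI false
universe u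
open CategoryTheory CategoryTheory.Limits CategoryTheory.Pretriangulated DerivedCategory

attribute [local instance] HasDerivedCategory.standard

namespace Groth.Agent.Lib.Helper18.DR

namespace Pw

variable {A : Type u} [CommRing A]

/-- every morphism `X ⟶ W` is killed by a power of `g` -/
def Tors (g : A) (X W : Dual.D A) : Prop := ∀ φ : X ⟶ W, ∃ n : ℕ, g ^ n • φ = 0

variable {g : A} {X X' W W' : Dual.D A}

lemma Tors.of_iso_left (e : X ≅ X') (h : Tors g X W) : Tors g X' W := by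
  intro φ
  obtain ⟨n, hn⟩ := h (e.hom ≫ φ)
  refine ⟨n, ?_⟩
  rw [← cancel_epi e.hom, Linear.comp_smul, hn, comp_zero]

lemma Tors.of_iso_right (e : W ≅ W') (h : Tors g X W) : Tors g X W' := by
  intro φ
  obtain ⟨n, hn⟩ := h (φ ≫ e.inv)
  refine ⟨n, ?_⟩
  rw [← cancel_mono e.inv, Linear.smul_comp, hn, zero_comp]

lemma Tors.of_isZero (hX : IsZero X) : Tors g X W := fun φ =>
  ⟨0, by rw [hX.eq_of_src φ 0, smul_zero]⟩

lemma Tors.of_forall_eq_zero (h : ∀ φ : X ⟶ W, φ = 0) : Tors g X W := fun φ =>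
  ⟨0, by rw [h φ, smul_zero]⟩

lemma Tors.of_smul_eq_zero (h : ∀ φ : X ⟶ W, g • φ = 0) : Tors g X W := fun φ =>
  ⟨1, by rw [pow_one, h φ]⟩

lemma tors_one_iff : Tors (1 : A) X W ↔ ∀ φ : X ⟶ W, φ = 0 := by
  constructor
  · intro h φ
    obtain ⟨n, hn⟩ := h φ
    rwa [one_pow, one_smul] at hn
  · exact Tors.of_forall_eq_zero

lemma Tors.of_triangle (T : Triangle (Dual.D A)) (hT : T ∈ distTriang (Dual.D A))
    (h1 : Tors g T.obj₁ W) (h3 : Tors g T.obj₃ W) : Tors g T.obj₂ W := by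
  intro φ
  obtain ⟨n, hn⟩ := h1 (T.mor₁ ≫ φ)
  have h0 : T.mor₁ ≫ (g ^ n • φ) = 0 := by rw [Linear.comp_smul, hn]
  obtain ⟨ψ, hψ⟩ := Triangle.yoneda_exact₂ T hT (g ^ n • φ) h0
  obtain ⟨m, hm⟩ := h3 ψ
  refine ⟨m + n, ?_⟩
  rw [pow_add, mul_smul, hψ, ← Linear.comp_smul, hm, comp_zero]

lemma Tors.shift (k : ℤ) (h : Tors g X W) : Tors g (X⟦k⟧) (W⟦k⟧) := by
  intro ψ
  obtain ⟨φ, rfl⟩ := (shiftFunctor (Dual.D A) k).map_surjective ψ
  obtain ⟨n, hn⟩ := h φ
  refine ⟨n, ?_⟩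
  rw [← Functor.map_smul, hn, Functor.map_zero]

lemma Tors.of_shift (k : ℤ) (h : Tors g (X⟦k⟧) (W⟦k⟧)) : Tors g X W := by
  intro φ
  obtain ⟨n, hn⟩ := h (φ⟦k⟧')
  refine ⟨n, (shiftFunctor (Dual.D A) k).map_injective ?_⟩
  rw [Functor.map_smul, hn, Functor.map_zero]

/-- `Hom(M[-j], R[i])` versus `Hom(M, R[i + j])` -/
lemma tors_Sg_iff (M : ModuleCat.{u} A) (R : Dual.D A) (i j k : ℤ) (hk : i + j = k) :
    Tors g (Sg j M) (R⟦i⟧) ↔ Tors g (Sg 0 M) (R⟦k⟧) := by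
  have e1 : (Sg j M)⟦j⟧ ≅ Sg 0 M := SgShiftIso j 0 j (by omega) M
  have e2 : (R⟦i⟧)⟦j⟧ ≅ R⟦k⟧ := ((shiftFunctorAdd' (Dual.D A) i j k hk).app R).symm
  constructor
  · intro h
    exact ((h.shift j).of_iso_left e1).of_iso_right e2
  · intro h
    exact Tors.of_shift j ((h.of_iso_left e1.symm).of_iso_right e2.symm)

/-- cohomological induction for `Tors` -/
theorem tors_of_cohomology (K : Dual.D A) (a b : ℤ)
    (hK : ∀ i : ℤ, (i < a ∨ b < i) → IsZero ((H A i).obj K))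
    (h : ∀ i : ℤ, a ≤ i → i ≤ b → Tors g (Sg i ((H A i).obj K)) W) : Tors g K W :=
  cohomological_induction (fun Z : Dual.D A => Tors g Z W)
    (fun e h => h.of_iso_left e) (fun _ hX => Tors.of_isZero hX)
    (fun T hT h1 h3 => Tors.of_triangle T hT h1 h3) K a b hK h

/-- the annihilator of the identity of `X` -/
noncomputable def annId (X : Dual.D A) : Ideal A :=
  LinearMap.ker (LinearMap.toSpanSingleton A (X ⟶ X) (𝟙 X))

lemma mem_annId {X : Dual.D A} {a : A} : a ∈ annId X ↔ a • 𝟙 X = 0 := by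
  rw [annId, LinearMap.mem_ker, LinearMap.toSpanSingleton_apply]

/-- nilpotence on the third vertex of a triangle -/
lemma smul_id_obj₃_eq_zero (T : Triangle (Dual.D A)) (hT : T ∈ distTriang (Dual.D A)) (a c : A)
    (ha : a • T.mor₃ = 0) (hc : c • T.mor₂ = 0) : (a * c) • 𝟙 T.obj₃ = 0 := by
  have h0 : T.mor₂ ≫ (c • 𝟙 T.obj₃) = 0 := by
    rw [Linear.comp_smul, Category.comp_id, hc]
  obtain ⟨γ, hγ⟩ := Triangle.yoneda_exact₃ T hT (c • 𝟙 T.obj₃) h0
  rw [mul_smul, hγ, ← Linear.smul_comp, ha, zero_comp]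

lemma H_smul_eq_zero_of_mem_annId {X : Dual.D A} {a : A} (ha : a ∈ annId X) (j : ℤ)
    (x : (H A j).obj X) : a • x = 0 := by
  rw [mem_annId] at ha
  have h1 := H_map_smul_id_apply a j X x
  rw [ha, Functor.map_zero] at h1
  exact h1.symm

end Pw

end Groth.Agent.Lib.Helper18.DR
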