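import Mathlib
import Groth.Agent.Lib.Helper18.PwA
import Groth.Agent.Lib.Helper18.DRTri
import Groth.Agent.Lib.Helper18.DRNoeth

/-!
# A Koszul-type object for a finite list of elements of an ideal (helper18)

For a list `l` of elements of an ideal `I` we construct (by iterated cones of `y • 𝟙`) an object
`K` of `D(A)` with maps `A[0] ⟶ K ⟶ (A/I)[0]` composing to the canonical projection, such that
`K` lives in degrees `[-|l|, 0]`, is pseudo-coherent, has no maps to objects which are
cohomologically `< -|l|`, and such that every `y ∈ l` acts nilpotently on `K`.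
-/

set_option autoImplicit false
set_option linter.style.haveILetI false
universe u
open CategoryTheory CategoryTheory.Limits CategoryTheory.Pretriangulated DerivedCategory

attribute [local instance] HasDerivedCategory.standard

namespace Groth.Agent.Lib.Helper18.DR

namespace Pw

variable {A : Type u} [CommRing A]

/-- elements of `I` kill `(A/I)[0]` -/
lemma smul_id_Sg_quot (I : Ideal A) (y : A) (hy : y ∈ I) :
    y • 𝟙 (Sg 0 (ModuleCat.of A (A ⧸ I))) = 0 := by
  have h1 : y • 𝟙 (ModuleCat.of A (A ⧸ I)) = 0 := by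
    apply ModuleCat.hom_ext
    apply LinearMap.ext
    intro x
    change y • x = 0
    obtain ⟨x, rfl⟩ := Ideal.Quotient.mk_surjective x
    rw [Algebra.smul_def]
    change (Ideal.Quotient.mk I) y * _ = 0
    rw [Ideal.Quotient.eq_zero_iff_mem.2 hy, zero_mul]
  have h2 := congrArg (fun f => (singleFunctor (ModuleCat.{u} A) 0).map f) h1
  simp only [Functor.map_smul, Functor.map_zero, CategoryTheory.Functor.map_id] at h2
  exact h2

lemma isLE_cone_self {K K' : Dual.D A} {f : K ⟶ K} {α : K ⟶ K'} {β : K' ⟶ K⟦(1 : ℤ)⟧}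
    (hT : Triangle.mk f α β ∈ distTriang (Dual.D A)) (n : ℤ) [K.IsLE n] : K'.IsLE n := by
  rw [DerivedCategory.isLE_iff]
  intro i hi
  refine (HomologySequence.exact₃ _ hT i (i + 1) rfl).isZero_X₂ ?_ ?_
  · exact (isZero_of_isLE K n i hi).eq_of_src _ _
  · exact (isZero_of_isLE K n (i + 1) (by omega)).eq_of_tgt _ _

lemma isGE_cone_self {K K' : Dual.D A} {f : K ⟶ K} {α : K ⟶ K'} {β : K' ⟶ K⟦(1 : ℤ)⟧}
    (hT : Triangle.mk f α β ∈ distTriang (Dual.D A)) (n : ℤ) [K.IsGE (n + 1)] : K'.IsGE n := by
  rw [DerivedCategory.isGE_iff]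
  intro i hi
  refine (HomologySequence.exact₃ _ hT i (i + 1) rfl).isZero_X₂ ?_ ?_
  · exact (isZero_of_isGE K (n + 1) i (by omega)).eq_of_src _ _
  · exact (isZero_of_isGE K (n + 1) (i + 1) (by omega)).eq_of_tgt _ _

theorem exists_koszul [IsNoetherianRing A] (I : Ideal A) (l : List A) (hl : ∀ y ∈ l, y ∈ I) :
    ∃ (K : Dual.D A) (ι : Sg 0 (ModuleCat.of A A) ⟶ K)
      (π : K ⟶ Sg 0 (ModuleCat.of A (A ⧸ I))),
      ι ≫ π = (singleFunctor (ModuleCat.{u} A) 0).map (ModuleCat.ofHom (Submodule.mkQ I)) ∧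
      K.IsLE 0 ∧ K.IsGE (-(l.length : ℤ)) ∧ DRing.IsPseudoCoherent' A K ∧
      (∀ (W : Dual.D A) (c : ℤ), W.IsLE c → c < -(l.length : ℤ) → ∀ φ : K ⟶ W, φ = 0) ∧
      (∀ y ∈ l, y ∈ (annId K).radical) := by
  induction l with
  | nil =>
    refine ⟨Sg 0 (ModuleCat.of A A), 𝟙 _, _, Category.id_comp _, inferInstance, ?_, ?_, ?_, ?_⟩
    · simp only [List.length_nil, Nat.cast_zero, neg_zero]
      infer_instance
    · exact isPseudoCoherentModule'_of_finite_noetherian (R := A) A
    · intro W c hW hc φ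
      simp only [List.length_nil, Nat.cast_zero, neg_zero] at hc
      haveI := hW
      haveI : W.IsLE (0 - 1) := TStructure.t.isLE_of_le W c (0 - 1) (by omega)
      haveI : Projective (ModuleCat.of A A) :=
        (IsProjective.iff_projective (R := A) (P := ModuleCat.of A A)).mp inferInstance
      exact hom_Sg_eq_zero_of_isLE 0 (ModuleCat.of A A) W φ
    · intro y hy
      simp at hy
  | cons y l ih =>
    obtain ⟨K, ι, π, hιπ, hLE, hGE, hpc, hvan, hnil⟩ :=
      ih (fun z hz => hl z (List.mem_cons_of_mem _ hz))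
    haveI := hLE
    haveI := hGE
    have hyI : y ∈ I := hl y List.mem_cons_self
    obtain ⟨K', α, β, hT⟩ := distinguished_cocone_triangle (y • 𝟙 K)
    -- the map to `A/I`
    have h0 : (y • 𝟙 K) ≫ π = 0 := by
      rw [Linear.smul_comp, Category.id_comp]
      have : y • π = π ≫ (y • 𝟙 _) := by rw [Linear.comp_smul, Category.comp_id]
      rw [this, smul_id_Sg_quot I y hyI, comp_zero]
    obtain ⟨π', hπ'⟩ := Triangle.yoneda_exact₂ _ hT π h0
    replace hπ' : π = α ≫ π' := hπ'
    have hlen : ((y :: l).length : ℤ) = (l.length : ℤ) + 1 := by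
      rw [List.length_cons]; push_cast; ring
    refine ⟨K', ι ≫ α, π', ?_, isLE_cone_self hT 0, ?_, ?_, ?_, ?_⟩
    · rw [Category.assoc, ← hπ', hιπ]
    · rw [hlen]
      haveI : K.IsGE (-((l.length : ℤ) + 1) + 1) :=
        TStructure.t.isGE_of_ge K _ (-(l.length : ℤ)) (by omega)
      exact isGE_cone_self hT _
    · exact isPseudoCoherent'_obj₃ _ hT hpc hpc
    · intro W c hW hc φ
      rw [hlen] at hc
      haveI := hW
      have h1 : α ≫ φ = 0 := hvan W c hW (by omega) _
      obtain ⟨ψ, hψ⟩ := Triangle.yoneda_exact₃ _ hT φ h1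
      replace hψ : φ = β ≫ ψ := hψ
      haveI : (W⟦(-1 : ℤ)⟧).IsLE (c + 1) := TStructure.t.isLE_shift W c (-1) (c + 1) (by omega)
      have h2 : (shiftFunctorCompIsoId (Dual.D A) 1 (-1) (by omega)).inv.app K ≫ ψ⟦(-1 : ℤ)⟧' = 0 :=
        hvan (W⟦(-1 : ℤ)⟧) (c + 1) inferInstance (by omega) _
      have h3 : ψ⟦(-1 : ℤ)⟧' = 0 :=
        (cancel_epi ((shiftFunctorCompIsoId (Dual.D A) 1 (-1) (by omega)).inv.app K)).1
          (h2.trans comp_zero.symm)
      have h4 : ψ = 0 := (shiftFunctor (Dual.D A) (-1 : ℤ)).map_injective (by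
        rw [h3, Functor.map_zero])
      rw [hψ, h4]
      exact comp_zero
    · intro z hz
      -- the element `a` acting as zero on `K` or equal to `y`
      have key : ∀ a : A, a • α = 0 → a • β = 0 → a * a ∈ annId K' := by
        intro a h1 h2
        rw [mem_annId]
        exact smul_id_obj₃_eq_zero _ hT a a h2 h1
      rcases List.mem_cons.1 hz with rfl | hz'
      · have h1 : z • α = 0 := by
          have : z • α = (z • 𝟙 K) ≫ α := by rw [Linear.smul_comp, Category.id_comp]
          rw [this]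
          exact comp_distTriang_mor_zero₁₂ _ hT
        have h2 : z • β = 0 := by
          have : z • β = β ≫ (z • 𝟙 K)⟦(1 : ℤ)⟧' := by
            rw [Functor.map_smul, CategoryTheory.Functor.map_id, Linear.comp_smul,
              Category.comp_id]
          rw [this]
          exact comp_distTriang_mor_zero₃₁ _ hT
        exact ⟨2, by rw [pow_two]; exact key z h1 h2⟩
      · obtain ⟨e, he⟩ := hnil z hz'
        rw [mem_annId] at he
        have h1 : z ^ e • α = 0 := by
          have : z ^ e • α = (z ^ e • 𝟙 K) ≫ α := by rw [Linear.smul_comp, Category.id_comp]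
          rw [this, he, zero_comp]
        have h2 : z ^ e • β = 0 := by
          have : z ^ e • β = β ≫ (z ^ e • 𝟙 K)⟦(1 : ℤ)⟧' := by
            rw [Functor.map_smul, CategoryTheory.Functor.map_id, Linear.comp_smul,
              Category.comp_id]
          rw [this, he, Functor.map_zero, comp_zero]
        exact ⟨e + e, by rw [pow_add]; exact key _ h1 h2⟩

end Pw

end Groth.Agent.Lib.Helper18.DR
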