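import Mathlib
import Groth.Agent.Lib.Helper18.PwB

/-!
# Dévissage of `Ext` torsion along prime filtrations (helper18)
-/

set_option autoImplicit false
set_option linter.style.haveILetI false
universe u
open CategoryTheory CategoryTheory.Limits CategoryTheory.Pretriangulated DerivedCategory

attribute [local instance] HasDerivedCategory.standard

namespace Groth.Agent.Lib.Helper18.DR

namespace Pw

variable {A : Type u} [CommRing A]

/-- `Ext^i(M, R)` vanishes for `i ≫ 0` -/
def Good (R : Dual.D A) (M : ModuleCat.{u} A) : Prop :=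
  ∃ N : ℤ, ∀ i : ℤ, N < i → ∀ φ : Sg 0 M ⟶ R⟦i⟧, φ = 0

lemma smul_one_quot_eq_zero_iff (q : Ideal A) (t : A) :
    t • (1 : A ⧸ q) = 0 ↔ t ∈ q := by
  rw [← Ideal.Quotient.eq_zero_iff_mem]
  have : t • (1 : A ⧸ q) = Ideal.Quotient.mk q t := by
    rw [Algebra.smul_def, mul_one]; rfl
  rw [this]

variable [IsNoetherianRing A]

theorem tors_of_filtration (R : Dual.D A) (I : Ideal A)
    (hgood : ∀ q : Ideal A, q.IsPrime → I ≤ q → q ≠ I → Good R (ModuleCat.of A (A ⧸ q)))
    (M : Type u) [AddCommGroup M] [Module A M] [hfin : Module.Finite A M]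
    (hM : ∀ y ∈ I, ∃ e : ℕ, ∀ m : M, y ^ e • m = 0) :
    ∃ N : ℤ, ∀ i : ℤ, N < i → ∀ g : A,
      (Tors g (Sg 0 (ModuleCat.of A (A ⧸ I))) (R⟦i⟧) ∨ ∃ t : A, t ∉ I ∧ ∀ m : M, t • m = 0) →
        Tors g (Sg 0 (ModuleCat.of A M)) (R⟦i⟧) := by
  revert hM
  induction hfin using IsNoetherianRing.induction_on_isQuotientEquivQuotientPrime A with
  | subsingleton N =>
    intro _
    refine ⟨0, fun i _ g _ => Tors.of_isZero ?_⟩
    exact (singleFunctor (ModuleCat.{u} A) 0).map_isZero (ModuleCat.isZero_of_subsingleton _)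
  | quotient N q f =>
    intro hM
    have hIq : I ≤ q.asIdeal := by
      intro y hy
      obtain ⟨e, he⟩ := hM y hy
      have h1 := he (f.symm 1)
      have h2 : f (y ^ e • f.symm 1) = 0 := by rw [h1, map_zero]
      rw [map_smul, LinearEquiv.apply_symm_apply, smul_one_quot_eq_zero_iff] at h2
      exact q.isPrime.mem_of_pow_mem e h2
    let eiso : Sg 0 (ModuleCat.of A (A ⧸ q.asIdeal)) ≅ Sg 0 (ModuleCat.of A N) :=
      (singleFunctor (ModuleCat.{u} A) 0).mapIso f.symm.toModuleIso
    by_cases hq : q.asIdeal = I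
    · subst hq
      refine ⟨0, fun i _ g hdisj => ?_⟩
      rcases hdisj with h | ⟨t, ht, hkill⟩
      · exact h.of_iso_left eiso
      · exfalso
        apply ht
        have h1 := hkill (f.symm 1)
        have h2 : f (t • f.symm 1) = 0 := by rw [h1, map_zero]
        rwa [map_smul, LinearEquiv.apply_symm_apply, smul_one_quot_eq_zero_iff] at h2
    · obtain ⟨Nq, hNq⟩ := hgood q.asIdeal q.isPrime hIq hq
      exact ⟨Nq, fun i hi g _ => (Tors.of_forall_eq_zero (hNq i hi)).of_iso_left eiso⟩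
  | exact N₁ N₂ N₃ f₁ f₂ hf hg hfg h₁ h₃ =>
    intro hM
    obtain ⟨n1, hn1⟩ := h₁ (fun y hy => by
      obtain ⟨e, he⟩ := hM y hy
      exact ⟨e, fun m => hf (by rw [map_smul, he, map_zero])⟩)
    obtain ⟨n3, hn3⟩ := h₃ (fun y hy => by
      obtain ⟨e, he⟩ := hM y hy
      refine ⟨e, fun m => ?_⟩
      obtain ⟨m', rfl⟩ := hg m
      rw [← map_smul, he, map_zero])
    refine ⟨max n1 n3, fun i hi g' hdisj => ?_⟩
    let S : ShortComplex (ModuleCat.{u} A) :=
      ShortComplex.mk (ModuleCat.ofHom f₁) (ModuleCat.ofHom f₂) (by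
        ext x
        exact hfg.apply_apply_eq_zero x)
    have hS : S.ShortExact :=
      { exact := (ShortComplex.ShortExact.moduleCat_exact_iff_function_exact S).2 hfg
        mono_f := (ModuleCat.mono_iff_injective _).2 hf
        epi_g := (ModuleCat.epi_iff_surjective _).2 hg }
    have hT := hS.singleTriangle_distinguished
    refine Tors.of_triangle _ hT (hn1 i (by omega) g' ?_) (hn3 i (by omega) g' ?_)
    · rcases hdisj with h | ⟨t, ht, hk⟩
      · exact Or.inl h
      · exact Or.inr ⟨t, ht, fun m => hf (by rw [map_smul, hk, map_zero])⟩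
    · rcases hdisj with h | ⟨t, ht, hk⟩
      · exact Or.inl h
      · refine Or.inr ⟨t, ht, fun m => ?_⟩
        obtain ⟨m', rfl⟩ := hg m
        rw [← map_smul, hk, map_zero]

end Pw

end Groth.Agent.Lib.Helper18.DR
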