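import Mathlib
import Groth.Agent.Lib.Helper18.PwC
import Groth.Agent.Lib.Helper18.DRInjFin

/-!
# The inductive step: all bigger primes good ⟹ `p` good (helper18)
-/

set_option autoImplicit false
set_option linter.style.haveILetI false
universe u
open CategoryTheory CategoryTheory.Limits CategoryTheory.Pretriangulated DerivedCategory

attribute [local instance] HasDerivedCategory.standard

namespace Groth.Agent.Lib.Helper18.DR

namespace Pw

variable {A : Type u} [CommRing A]

lemma exists_common_annihilator {M : Type*} [AddCommGroup M] [Module A M] [Module.Finite A M]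
    (S : Submonoid A) (h : ∀ x : M, ∃ s ∈ S, s • x = 0) : ∃ s ∈ S, ∀ x : M, s • x = 0 := by
  classical
  obtain ⟨F, hF⟩ := (Module.Finite.fg_top : (⊤ : Submodule A M).FG)
  choose t ht ht0 using h
  refine ⟨∏ x ∈ F, t x, Submonoid.prod_mem S (fun x _ => ht x), fun x => ?_⟩
  have hx : x ∈ Submodule.span A (F : Set M) := by rw [hF]; trivial
  induction hx using Submodule.span_induction with
  | mem x hx =>
    rw [← Finset.prod_erase_mul F t (Finset.mem_coe.1 hx), mul_smul, ht0 x, smul_zero]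
  | zero => exact smul_zero _
  | add x y _ _ hx hy => rw [smul_add, hx, hy, add_zero]
  | smul a x _ hx => rw [smul_comm, hx, smul_zero]

/-- conversion between `Hom(M[0], R[i])` and `Hom(M[-i], R)` -/
lemma exists_conv (M : ModuleCat.{u} A) (R : Dual.D A) (i : ℤ) :
    ∃ F : (Sg 0 M ⟶ R⟦i⟧) → (Sg i M ⟶ R),
      (∀ (s : A) (φ : Sg 0 M ⟶ R⟦i⟧), F (s • φ) = s • F φ) ∧ Function.Injective F := by
  let e : (Sg 0 M)⟦-i⟧ ≅ Sg i M := SgShiftIso (-i) i 0 (by omega) M
  let c := (shiftFunctorCompIsoId (Dual.D A) i (-i) (by omega)).hom.app R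
  refine ⟨fun φ => e.inv ≫ φ⟦-i⟧' ≫ c, fun s φ => ?_, fun φ ψ h => ?_⟩
  · change e.inv ≫ (s • φ)⟦-i⟧' ≫ c = s • (e.inv ≫ φ⟦-i⟧' ≫ c)
    rw [Functor.map_smul, Linear.smul_comp, Linear.comp_smul]
  · exact (shiftFunctor (Dual.D A) (-i)).map_injective
      ((cancel_mono _).1 ((cancel_epi e.inv).1 h))

variable [IsNoetherianRing A]

lemma finite_hom_shift (P : Dual.D A) (hP : DRing.IsPseudoCoherent' A P) (R : Dual.D A) (a b : ℤ)
    [R.IsGE a] [R.IsLE b] (hfin : ∀ i : ℤ, Module.Finite A (Dual.HD A R i)) (i : ℤ) :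
    Module.Finite A (P ⟶ R⟦i⟧) := by
  haveI : (R⟦i⟧).IsGE (a - i) := TStructure.t.isGE_shift R a i (a - i) (by omega)
  haveI : (R⟦i⟧).IsLE (b - i) := TStructure.t.isLE_shift R b i (b - i) (by omega)
  refine finite_hom_of_isPseudoCoherent'_of_bounded P hP (R⟦i⟧) (a - i) (b - i) ?_ ?_
  · rintro j (hj | hj)
    · exact isZero_of_isGE (R⟦i⟧) (a - i) j hj
    · exact isZero_of_isLE (R⟦i⟧) (b - i) j hj
  · intro j
    haveI := hfin (i + j)
    exact Module.Finite.equiv ((HShiftIso A i j (i + j) rfl).app R).toLinearEquiv.symm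

end Pw

end Groth.Agent.Lib.Helper18.DR
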