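import Mathlib
import Groth.Agent.Lib.Helper18.PwD

/-!
# The inductive step: all bigger primes good ⟹ `p` good (helper18)
-/

set_option autoImplicit false
set_option linter.style.haveILetI false
universe u
open CategoryTheory CategoryTheory.Limits CategoryTheory.Pretriangulated DerivedCategory

attribute [local instance] HasDerivedCategory.standard

namespace Groth.Agent.Lib.Helper18.DR

namespace Pw

variable {A : Type u} [CommRing A] [IsNoetherianRing A]

set_option maxHeartbeats 1600000 in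
theorem good_prime (R : Dual.D A) (a b : ℤ) [R.IsGE a] [R.IsLE b]
    (hfin : ∀ i : ℤ, Module.Finite A (Dual.HD A R i))
    (p : Ideal A) [hp : p.IsPrime]
    (hgood : ∀ q : Ideal A, q.IsPrime → p ≤ q → q ≠ p → Good R (ModuleCat.of A (A ⧸ q)))
    (hloc : ∃ bp : ℤ, ∀ i : ℤ, bp < i → ∀ φ : Sg 0 (ModuleCat.of A (A ⧸ p)) ⟶ R⟦i⟧,
      ∃ s ∈ p.primeCompl, s • φ = 0) :
    Good R (ModuleCat.of A (A ⧸ p)) := by
  classical
  obtain ⟨bp, hbp⟩ := hloc
  obtain ⟨s, hs⟩ := (isNoetherianRing_iff_ideal_fg A).1 inferInstance p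
  have hl : ∀ y ∈ s.toList, y ∈ p := fun y hy => by
    rw [← hs]; exact Ideal.subset_span (Finset.mem_toList.1 hy)
  obtain ⟨K, ι, π, hιπ, hLE, hGE, hpc, hvan, hnil⟩ := exists_koszul p s.toList hl
  haveI := hLE
  haveI := hGE
  obtain ⟨h, hh⟩ : ∃ h : ℤ, h = (s.toList.length : ℤ) := ⟨_, rfl⟩
  have hh0 : 0 ≤ h := by rw [hh]; positivity
  rw [← hh] at hvan hGE
  haveI : K.IsGE (-h) := hGE
  obtain ⟨C, α, β, hT⟩ := distinguished_cocone_triangle π
  have hD0pc : DRing.IsPseudoCoherent' A (Sg 0 (ModuleCat.of A (A ⧸ p))) :=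
    isPseudoCoherentModule'_of_finite_noetherian (R := A) (A ⧸ p)
  -- `H^0(π)` is an epimorphism
  have hepi : Epi ((H A 0).map π) := by
    have h1 : (H A 0).map ι ≫ (H A 0).map π =
        (H A 0).map ((singleFunctor (ModuleCat.{u} A) 0).map
          (ModuleCat.ofHom (Submodule.mkQ p))) := by
      rw [← Functor.map_comp, hιπ]
    have h2 := HSg_naturality 0 (ModuleCat.ofHom (Submodule.mkQ p))
    have h3 : (H A 0).map ((singleFunctor (ModuleCat.{u} A) 0).map
        (ModuleCat.ofHom (Submodule.mkQ p))) =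
        (HSg 0 _).hom ≫ ModuleCat.ofHom (Submodule.mkQ p) ≫ (HSg 0 _).inv := by
      rw [← Category.assoc, ← h2, Category.assoc, Iso.hom_inv_id, Category.comp_id]
    haveI : Epi (ModuleCat.ofHom (Submodule.mkQ p)) :=
      (ModuleCat.epi_iff_surjective _).2 (Submodule.mkQ_surjective p)
    haveI : Epi ((H A 0).map ι ≫ (H A 0).map π) := by
      rw [h1, h3]; infer_instance
    exact epi_of_epi ((H A 0).map ι) ((H A 0).map π)
  -- the bounds on `C`
  have hCz : ∀ j : ℤ, (j < -h - 1 ∨ -1 < j) → IsZero ((H A j).obj C) := by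
    rintro j (hj | hj)
    · refine (HomologySequence.exact₃ _ hT j (j + 1) rfl).isZero_X₂ ?_ ?_
      · exact (isZero_of_isGE (Sg 0 (ModuleCat.of A (A ⧸ p))) 0 j (by omega)).eq_of_src _ _
      · exact (isZero_of_isGE K (-h) (j + 1) (by omega)).eq_of_tgt _ _
    · refine (HomologySequence.exact₃ _ hT j (j + 1) rfl).isZero_X₂ ?_ ?_
      · rcases (show j = 0 ∨ 0 < j by omega) with rfl | hj'
        · have h1 : (H A 0).map π ≫ (H A 0).map α = 0 := by
            rw [← Functor.map_comp]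
            have : π ≫ α = 0 := comp_distTriang_mor_zero₁₂ _ hT
            rw [this, Functor.map_zero]
          exact (cancel_epi ((H A 0).map π)).1 (h1.trans comp_zero.symm)
        · exact (isZero_of_isLE (Sg 0 (ModuleCat.of A (A ⧸ p))) 0 j hj').eq_of_src _ _
      · exact (isZero_of_isLE K 0 (j + 1) (by omega)).eq_of_tgt _ _
  have hCpc : DRing.IsPseudoCoherent' A C := isPseudoCoherent'_obj₃ _ hT hpc hD0pc
  have hCnil : p ≤ (annId C).radical := by
    rw [← hs, Ideal.span_le]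
    intro y hy
    have hyp : y ∈ p := by rw [← hs]; exact Ideal.subset_span hy
    obtain ⟨e, he⟩ := hnil y (Finset.mem_toList.2 hy)
    rw [mem_annId] at he
    refine ⟨e + 1, ?_⟩
    rw [pow_succ, mem_annId]
    refine smul_id_obj₃_eq_zero _ hT (y ^ e) y ?_ ?_
    · have : y ^ e • β = β ≫ (y ^ e • 𝟙 K)⟦(1 : ℤ)⟧' := by
        rw [Functor.map_smul, CategoryTheory.Functor.map_id, Linear.comp_smul, Category.comp_id]
      change y ^ e • β = 0
      rw [this, he, Functor.map_zero, comp_zero]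
    · have : y • α = (y • 𝟙 _) ≫ α := by rw [Linear.smul_comp, Category.id_comp]
      change y • α = 0
      rw [this, smul_id_Sg_quot p y hyp, zero_comp]
  -- the cohomology modules of `C`
  have hHfin : ∀ j : ℤ, Module.Finite A ((H A j).obj C) := fun j =>
    ((isPseudoCoherent_iff_of_noetherian j C).1 ((isPseudoCoherent'_iff_forall C).2 hCpc j)).2 j
      le_rfl
  have hHnil : ∀ j : ℤ, ∀ y ∈ p, ∃ e : ℕ, ∀ m : (H A j).obj C, y ^ e • m = 0 := by
    intro j y hy
    obtain ⟨e, he⟩ := hCnil hy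
    exact ⟨e, fun m => H_smul_eq_zero_of_mem_annId he j m⟩
  have hfilt : ∀ j : ℤ, ∃ N : ℤ, ∀ i : ℤ, N < i → ∀ g : A,
      (Tors g (Sg 0 (ModuleCat.of A (A ⧸ p))) (R⟦i⟧) ∨
        ∃ t : A, t ∉ p ∧ ∀ m : (H A j).obj C, t • m = 0) →
        Tors g (Sg 0 ((H A j).obj C)) (R⟦i⟧) := fun j => by
    haveI := hHfin j
    exact tors_of_filtration R p hgood ((H A j).obj C) (hHnil j)
  choose Nf hNf using hfilt
  obtain ⟨N', hN'⟩ : ∃ N' : ℤ, ∀ j : ℤ, -h - 1 ≤ j → j ≤ -1 → Nf j ≤ N' := by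
    refine ⟨∑ j ∈ Finset.Icc (-h - 1) (-1), |Nf j|, fun j hj1 hj2 => ?_⟩
    calc Nf j ≤ |Nf j| := le_abs_self _
      _ ≤ _ := Finset.single_le_sum (f := fun j => |Nf j|) (fun _ _ => abs_nonneg _)
        (Finset.mem_Icc.2 ⟨hj1, hj2⟩)
  -- the window
  obtain ⟨c, hc⟩ : ∃ c : ℤ, b + h < c ∧ N' + h < c ∧ bp < c :=
    ⟨max (max (b + h) (N' + h)) bp + 1, by omega, by omega, by omega⟩
  have hwin : ∀ i : ℤ, bp < i → ∃ s ∈ p.primeCompl,
      ∀ φ : Sg 0 (ModuleCat.of A (A ⧸ p)) ⟶ R⟦i⟧, s • φ = 0 := by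
    intro i hi
    haveI := finite_hom_shift (Sg 0 (ModuleCat.of A (A ⧸ p))) hD0pc R a b hfin i
    exact exists_common_annihilator p.primeCompl (hbp i hi)
  choose! sf hsf hsf0 using hwin
  obtain ⟨g, hg, hgw⟩ : ∃ g : A, g ∈ p.primeCompl ∧ ∀ i : ℤ, c ≤ i → i ≤ c + h →
      ∀ φ : Sg 0 (ModuleCat.of A (A ⧸ p)) ⟶ R⟦i⟧, g • φ = 0 := by
    refine ⟨∏ i ∈ Finset.Icc c (c + h), sf i, Submonoid.prod_mem _ (fun i hi => hsf i ?_),
      fun i hi1 hi2 φ => ?_⟩
    · have := Finset.mem_Icc.1 hi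
      omega
    · rw [← Finset.prod_erase_mul _ sf (Finset.mem_Icc.2 ⟨hi1, hi2⟩), mul_smul,
        hsf0 i (by omega) φ, smul_zero]
  -- propagation
  have key : ∀ k : ℕ, ∀ i : ℤ, c ≤ i → i ≤ c + h + k →
      Tors g (Sg 0 (ModuleCat.of A (A ⧸ p))) (R⟦i⟧) := by
    intro k
    induction k with
    | zero =>
      intro i h1 h2
      exact Tors.of_smul_eq_zero (hgw i h1 (by simpa using h2))
    | succ k ih =>
      intro i h1 h2
      by_cases hik : i ≤ c + h + k
      · exact ih i h1 hik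
      · push_cast at h2
        have hC : Tors g C (R⟦i⟧) := by
          refine tors_of_cohomology C (-h - 1) (-1) hCz (fun j hj1 hj2 => ?_)
          rw [tors_Sg_iff _ R i j (i + j) rfl]
          have := hN' j hj1 hj2
          exact hNf j (i + j) (by omega) g (Or.inl (ih (i + j) (by omega) (by omega)))
        intro φ
        haveI : (R⟦i⟧).IsLE (b - i) := TStructure.t.isLE_shift R b i (b - i) (by omega)
        have h0 : π ≫ φ = 0 := hvan (R⟦i⟧) (b - i) inferInstance (by omega) _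
        obtain ⟨ψ, hψ⟩ := Triangle.yoneda_exact₂ _ hT φ h0
        replace hψ : φ = α ≫ ψ := hψ
        obtain ⟨n, hn⟩ := hC ψ
        exact ⟨n, by rw [hψ, ← Linear.comp_smul, hn, comp_zero]⟩
  have hall : ∀ i : ℤ, c ≤ i → Tors g (Sg 0 (ModuleCat.of A (A ⧸ p))) (R⟦i⟧) := fun i hi =>
    key (i - c).toNat i hi (by omega)
  -- `g` is injective on `Ext^i(A/p, R)` for large `i`
  have hgp : g ∉ p := hg
  let mulg : (A ⧸ p) →ₗ[A] (A ⧸ p) := g • LinearMap.id
  have hmulg : Function.Injective mulg := by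
    rw [← LinearMap.ker_eq_bot, LinearMap.ker_eq_bot']
    intro x hx
    obtain ⟨x, rfl⟩ := Ideal.Quotient.mk_surjective x
    replace hx : g • (Ideal.Quotient.mk p x) = 0 := hx
    rw [Algebra.smul_def] at hx
    replace hx : Ideal.Quotient.mk p (g * x) = 0 := by rw [map_mul]; exact hx
    rw [Ideal.Quotient.eq_zero_iff_mem] at hx ⊢
    exact (hp.mem_or_mem hx).resolve_left hgp
  let M' : Type u := (A ⧸ p) ⧸ LinearMap.range mulg
  have hM' : ∀ y ∈ p, ∃ e : ℕ, ∀ m : M', y ^ e • m = 0 := by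
    intro y hy
    refine ⟨1, fun m => ?_⟩
    obtain ⟨x, rfl⟩ := Submodule.mkQ_surjective _ m
    obtain ⟨x, rfl⟩ := Ideal.Quotient.mk_surjective x
    rw [pow_one, ← map_smul]
    have : y • (Ideal.Quotient.mk p x) = 0 := by
      rw [Algebra.smul_def]
      change Ideal.Quotient.mk p y * _ = 0
      rw [Ideal.Quotient.eq_zero_iff_mem.2 hy, zero_mul]
    rw [this, map_zero]
  obtain ⟨Ng, hNg⟩ := tors_of_filtration R p hgood M' hM'
  have hkillM' : ∀ m : M', g • m = 0 := by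
    intro m
    obtain ⟨x, rfl⟩ := Submodule.mkQ_surjective _ m
    rw [← map_smul, Submodule.mkQ_apply, Submodule.Quotient.mk_eq_zero]
    exact ⟨x, rfl⟩
  let S : ShortComplex (ModuleCat.{u} A) :=
    ShortComplex.mk (ModuleCat.ofHom mulg) (ModuleCat.ofHom (Submodule.mkQ (LinearMap.range mulg)))
      (by
        apply ModuleCat.hom_ext
        apply LinearMap.ext
        intro x
        change Submodule.mkQ (LinearMap.range mulg) (mulg x) = 0
        rw [Submodule.mkQ_apply, Submodule.Quotient.mk_eq_zero]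
        exact ⟨x, rfl⟩)
  have hS : S.ShortExact :=
    { exact := (ShortComplex.ShortExact.moduleCat_exact_iff_function_exact S).2
        (LinearMap.exact_map_mkQ_range mulg)
      mono_f := (ModuleCat.mono_iff_injective _).2 hmulg
      epi_g := (ModuleCat.epi_iff_surjective _).2 (Submodule.mkQ_surjective _) }
  have hT' := hS.singleTriangle_distinguished
  have hmor : hS.singleTriangle.mor₁ = g • 𝟙 (Sg 0 (ModuleCat.of A (A ⧸ p))) := by
    have h1 : ModuleCat.ofHom mulg = g • 𝟙 (ModuleCat.of A (A ⧸ p)) := by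
      apply ModuleCat.hom_ext
      apply LinearMap.ext
      intro x
      rfl
    change (singleFunctor (ModuleCat.{u} A) 0).map (ModuleCat.ofHom mulg) = _
    rw [h1, Functor.map_smul, CategoryTheory.Functor.map_id]
  refine ⟨max c Ng, fun i hi φ => ?_⟩
  have hvanM' : ∀ χ : Sg 0 (ModuleCat.of A M') ⟶ R⟦i⟧, χ = 0 :=
    tors_one_iff.1 (hNg i (by omega) 1 (Or.inr ⟨g, hgp, hkillM'⟩))
  have hinj : ∀ ψ : Sg 0 (ModuleCat.of A (A ⧸ p)) ⟶ R⟦i⟧, g • ψ = 0 → ψ = 0 := by
    intro ψ hψ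
    have h00 : (g • 𝟙 (Sg 0 (ModuleCat.of A (A ⧸ p)))) ≫ ψ = g • ψ := by
      rw [Linear.smul_comp, Category.id_comp]
    have h0 : hS.singleTriangle.mor₁ ≫ ψ = 0 := by
      rw [hmor]
      exact h00.trans hψ
    obtain ⟨χ, hχ⟩ := Triangle.yoneda_exact₂ _ hT' ψ h0
    rw [hχ, hvanM' χ]
    exact comp_zero
  have hpow : ∀ (n : ℕ) (ψ : Sg 0 (ModuleCat.of A (A ⧸ p)) ⟶ R⟦i⟧), g ^ n • ψ = 0 → ψ = 0 := by
    intro n
    induction n with
    | zero => intro ψ hψ; rwa [pow_zero, one_smul] at hψ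
    | succ n ih =>
      intro ψ hψ
      rw [pow_succ, mul_smul] at hψ
      exact hinj ψ (ih _ hψ)
  obtain ⟨n, hn⟩ := hall i (by omega) φ
  exact hpow n φ hn

end Pw

end Groth.Agent.Lib.Helper18.DR
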