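import Mathlib
import Groth.Prelude.Def_QFDual

/-!
# Quasi-finite flat maps and the relative dualizing module: basics (helper18)

* consequences of `IsOpenImmersion (Spec.map _)` in ring terms (flat, epi, finite type,
  quasi-finite);
* descent along a jointly faithfully flat family of flat algebras, one for every maximal ideal.
-/

set_option autoImplicit false
set_option linter.style.haveILetI false
universe u

namespace Groth.Agent.Lib.Helper18.DR

namespace Qf

open AlgebraicGeometry TensorProduct CategoryTheory

section OpenImm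

variable {B' B : Type u} [CommRing B'] [CommRing B] [Algebra B' B]

theorem flat_of_openImm
    (h : IsOpenImmersion (Spec.map (CommRingCat.ofHom (algebraMap B' B)))) :
    Module.Flat B' B := by
  have hfl : Flat (Spec.map (CommRingCat.ofHom (algebraMap B' B))) := inferInstance
  have := (HasRingHomProperty.Spec_iff (P := @Flat)).mp hfl
  exact RingHom.flat_algebraMap_iff.mp this

theorem finiteType_of_openImm
    (h : IsOpenImmersion (Spec.map (CommRingCat.ofHom (algebraMap B' B)))) :
    Algebra.FiniteType B' B := by
  have hfl : LocallyOfFiniteType (Spec.map (CommRingCat.ofHom (algebraMap B' B))) :=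
    inferInstance
  have := (HasRingHomProperty.Spec_iff (P := @LocallyOfFiniteType)).mp hfl
  exact RingHom.finiteType_algebraMap.mp this

theorem quasiFinite_of_openImm
    (h : IsOpenImmersion (Spec.map (CommRingCat.ofHom (algebraMap B' B)))) :
    Algebra.QuasiFinite B' B := by
  have hfl : LocallyQuasiFinite (Spec.map (CommRingCat.ofHom (algebraMap B' B))) :=
    inferInstance
  have := (HasRingHomProperty.Spec_iff (P := @LocallyQuasiFinite)).mp hfl
  exact RingHom.quasiFinite_algebraMap.mp this

theorem epi_of_openImm
    (h : IsOpenImmersion (Spec.map (CommRingCat.ofHom (algebraMap B' B)))) :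
    Algebra.IsEpi B' B := by
  have hm : Mono (Spec.map (CommRingCat.ofHom (algebraMap B' B))) := inferInstance
  have hm2 : Mono (CommRingCat.ofHom (algebraMap B' B)).op :=
    Functor.mono_of_mono_map Scheme.Spec hm
  have hepi : Epi (CommRingCat.ofHom (algebraMap B' B)) :=
    unop_epi_of_mono (CommRingCat.ofHom (algebraMap B' B)).op
  exact (CommRingCat.epi_iff_epi (R := B') (S := B)).mp hepi

/-- Base change of an open immersion of spectra along a pushout square of rings. -/
theorem openImm_of_isPushout {S' S : Type u} [CommRing S'] [CommRing S]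
    [Algebra B' S'] [Algebra B S] [Algebra S' S] [Algebra B' S]
    [IsScalarTower B' B S] [IsScalarTower B' S' S] [Algebra.IsPushout B' B S' S]
    (h : IsOpenImmersion (Spec.map (CommRingCat.ofHom (algebraMap B' B)))) :
    IsOpenImmersion (Spec.map (CommRingCat.ofHom (algebraMap S' S))) := by
  have hpo := CommRingCat.isPushout_of_isPushout B' B S' S
  have hpb := isPullback_SpecMap_of_isPushout _ _ _ _ hpo
  exact MorphismProperty.of_isPullback (P := @IsOpenImmersion) hpb h

/-- A finite ring map which induces an open immersion of spectra is surjective, with kernel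
generated by an idempotent. -/
theorem surjective_and_ker_of_finite_openImm [Module.Finite B' B]
    (h : IsOpenImmersion (Spec.map (CommRingCat.ofHom (algebraMap B' B)))) :
    Function.Surjective (algebraMap B' B) ∧
      ∃ e : B', IsIdempotentElem e ∧ RingHom.ker (algebraMap B' B) = Ideal.span {e} := by
  have hepi := epi_of_openImm h
  have hsurj : Function.Surjective (algebraMap B' B) :=
    Algebra.isEpi_iff_surjective_algebraMap_of_finite.mp hepi
  refine ⟨hsurj, ?_⟩
  exact (isOpenImmersion_SpecMap_iff_of_surjective (CommRingCat.ofHom (algebraMap B' B))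
    hsurj).mp h

end OpenImm

section Factor

variable {A B' B : Type u} [CommRing A] [CommRing B'] [CommRing B]
  [Algebra A B'] [Algebra B' B] [Algebra A B] [IsScalarTower A B' B]

theorem finiteType_of_factor (hf : QFDual.IsQFFactor A B' B) : Algebra.FiniteType A B := by
  haveI := hf.finite
  haveI := finiteType_of_openImm hf.isOpenImmersion
  exact Algebra.FiniteType.trans (S := B') inferInstance inferInstance

theorem quasiFinite_of_factor (hf : QFDual.IsQFFactor A B' B) : Algebra.QuasiFinite A B := by
  haveI := hf.finite
  haveI := quasiFinite_of_openImm hf.isOpenImmersion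
  exact Algebra.QuasiFinite.trans A B' B

theorem isNoetherianRing_of_factor [IsNoetherianRing A] (hf : QFDual.IsQFFactor A B' B) :
    IsNoetherianRing B := by
  haveI := finiteType_of_factor hf
  exact Algebra.FiniteType.isNoetherianRing A B

end Factor

section Cover

/-- An element of a module vanishes if it vanishes after tensoring with flat algebras
whose spectra jointly cover the maximal spectrum. -/
theorem eq_zero_of_cover {B : Type u} [CommRing B] {N : Type*} [AddCommGroup N] [Module B N]
    (x : N)
    (h : ∀ q : Ideal B, q.IsMaximal → ∃ (C : Type u) (_ : CommRing C) (_ : Algebra B C),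
      Module.Flat B C ∧ (∃ Q : Ideal C, Q.IsPrime ∧ Q.comap (algebraMap B C) = q) ∧
        (1 : C) ⊗ₜ[B] x = 0) : x = 0 := by
  by_contra hx
  set J : Ideal B := LinearMap.ker (LinearMap.toSpanSingleton B N x) with hJ
  have hJne : J ≠ ⊤ := by
    intro htop
    have h1 : (1 : B) ∈ J := by rw [htop]; exact Submodule.mem_top
    rw [hJ, LinearMap.mem_ker, LinearMap.toSpanSingleton_apply, one_smul] at h1
    exact hx h1
  obtain ⟨q, hq, hle⟩ := Ideal.exists_le_maximal J hJne
  obtain ⟨C, _, _, hflat, ⟨Q, hQ, hQq⟩, h0⟩ := h q hq
  let j : B ⧸ J →ₗ[B] N := J.liftQ (LinearMap.toSpanSingleton B N x) le_rfl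
  have hj : Function.Injective j := by
    rw [← LinearMap.ker_eq_bot]
    exact Submodule.ker_liftQ_eq_bot _ _ _ le_rfl
  have hinj : Function.Injective (j.lTensor C) :=
    Module.Flat.lTensor_preserves_injective_linearMap j hj
  have h1 : (1 : C) ⊗ₜ[B] (Ideal.Quotient.mk J (1 : B) : B ⧸ J) = 0 := by
    apply hinj
    rw [LinearMap.lTensor_tmul, map_zero]
    have : j (Ideal.Quotient.mk J (1 : B)) = x := by
      show J.liftQ (LinearMap.toSpanSingleton B N x) le_rfl (Submodule.Quotient.mk (1 : B)) = x
      rw [Submodule.liftQ_apply, LinearMap.toSpanSingleton_apply, one_smul]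
    rw [this, h0]
  have h2 := congrArg (TensorProduct.tensorQuotEquivQuotSMul C J) h1
  rw [map_zero, TensorProduct.tensorQuotEquivQuotSMul_tmul_mk, one_smul,
    Submodule.Quotient.mk_eq_zero] at h2
  have hsub : (J • (⊤ : Submodule B C)) ≤ Q.restrictScalars B := by
    rw [Submodule.smul_le]
    intro b hb c _
    change b • c ∈ Q
    rw [Algebra.smul_def]
    apply Q.mul_mem_right
    have : b ∈ Q.comap (algebraMap B C) := by rw [hQq]; exact hle hb
    exact this
  exact hQ.ne_top ((Ideal.eq_top_iff_one Q).mpr (hsub h2))

/-- A linear map is bijective if it is so after tensoring with flat algebras whose spectra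
jointly cover the maximal spectrum. -/
theorem bijective_of_cover {B : Type u} [CommRing B] {M N : Type*} [AddCommGroup M] [Module B M]
    [AddCommGroup N] [Module B N] (g : M →ₗ[B] N)
    (h : ∀ q : Ideal B, q.IsMaximal → ∃ (C : Type u) (_ : CommRing C) (_ : Algebra B C),
      Module.Flat B C ∧ (∃ Q : Ideal C, Q.IsPrime ∧ Q.comap (algebraMap B C) = q) ∧
        Function.Bijective (g.lTensor C)) : Function.Bijective g := by
  constructor
  · rw [injective_iff_map_eq_zero]
    intro x hx
    refine eq_zero_of_cover (B := B) x fun q hq => ?_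
    obtain ⟨C, i1, i2, hflat, hQ, hbij⟩ := h q hq
    refine ⟨C, i1, i2, hflat, hQ, ?_⟩
    apply hbij.1
    rw [map_zero]
    show (1 : C) ⊗ₜ[B] g x = 0
    rw [hx, tmul_zero]
  · intro y
    have hy : (LinearMap.range g).mkQ y = 0 := by
      refine eq_zero_of_cover (B := B) _ fun q hq => ?_
      obtain ⟨C, i1, i2, hflat, hQ, hbij⟩ := h q hq
      refine ⟨C, i1, i2, hflat, hQ, ?_⟩
      obtain ⟨z, hz⟩ := hbij.2 ((1 : C) ⊗ₜ[B] y)
      have h1 : ((LinearMap.range g).mkQ.lTensor C) ((1 : C) ⊗ₜ[B] y) =
          (1 : C) ⊗ₜ[B] (LinearMap.range g).mkQ y := LinearMap.lTensor_tmul _ _ _ _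
      rw [← h1, ← hz, ← LinearMap.comp_apply, ← LinearMap.lTensor_comp]
      have h2 : (LinearMap.range g).mkQ ∘ₗ g = 0 := by
        ext m
        simp
      rw [h2, LinearMap.lTensor_zero, LinearMap.zero_apply]
    rw [Submodule.mkQ_apply, Submodule.Quotient.mk_eq_zero] at hy
    exact hy

/-- Flatness over a base ring `A` of a module over an `A`-algebra `B` can be checked after
tensoring with flat `B`-algebras whose spectra jointly cover the maximal spectrum of `B`. -/
theorem flat_of_cover {A B : Type u} [CommRing A] [CommRing B] [Algebra A B]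
    {M : Type u} [AddCommGroup M] [Module A M] [Module B M] [IsScalarTower A B M]
    (h : ∀ q : Ideal B, q.IsMaximal → ∃ (C : Type u) (_ : CommRing C) (_ : Algebra A C)
      (_ : Algebra B C) (_ : IsScalarTower A B C),
      Module.Flat B C ∧ (∃ Q : Ideal C, Q.IsPrime ∧ Q.comap (algebraMap B C) = q) ∧
        Module.Flat A (C ⊗[B] M)) : Module.Flat A M := by
  rw [Module.Flat.iff_lTensor_injective']
  intro I
  rw [injective_iff_map_eq_zero]
  intro x hx
  refine eq_zero_of_cover (B := B) x fun q hq => ?_
  obtain ⟨C, i1, i2, i3, i4, hflat, hQ, hMflat⟩ := h q hq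
  refine ⟨C, i1, i3, hflat, hQ, ?_⟩
  let e := TensorProduct.AlgebraTensorModule.assoc A B C C M I
  let ι : M →ₗ[A] C ⊗[B] M :=
    ((TensorProduct.mk B C M 1).restrictScalars A)
  have he : ∀ y : M ⊗[A] I, e (ι.rTensor I y) = (1 : C) ⊗ₜ[B] y := by
    intro y
    induction y using TensorProduct.induction_on with
    | zero => simp
    | tmul m i => rfl
    | add y z hy hz => rw [map_add, map_add, hy, hz, tmul_add]
  have h0 : ι.rTensor I x = 0 := by
    have hinj := (Module.Flat.iff_lTensor_injective'.mp hMflat) I
    apply hinj
    rw [map_zero, ← LinearMap.comp_apply, LinearMap.lTensor_comp_rTensor,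
      ← LinearMap.rTensor_comp_lTensor, LinearMap.comp_apply, hx, map_zero]
  rw [← he, h0, map_zero]

end Cover

end Qf

end Groth.Agent.Lib.Helper18.DR
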