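import Mathlib
import Groth.Prelude.Def_QFDual
import Groth.Agent.Lib.Helper6.OmegaBC

/-!
# Base change maps of the relative dualizing module: formal properties (helper18)

* `omegaBC_bijective_of_isBaseChange`: `QFDual.omegaBC h` is bijective as soon as
  `h.out.toDual` is a base change (the formal part of helper6's flat base change);
* `isBaseChange_toDual_of_projective`: duals of finite projective modules commute with
  arbitrary base change;
* `bcFin_trans`, `omegaBC_trans`: transitivity of the base change maps in a commutative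
  cube of pushouts.
-/

set_option autoImplicit false
set_option linter.style.haveILetI false
universe u

namespace Groth.Agent.Lib.Helper18.DR

namespace Qf

open TensorProduct

theorem omegaBC_bijective_of_isBaseChange {A B' A₁ B'₁ B₁ : Type u} [CommRing A] [CommRing B']
    [CommRing A₁] [CommRing B'₁] [CommRing B₁] [Algebra A B']
    [Algebra A A₁] [Algebra B' B'₁] [Algebra A₁ B'₁]
    [Algebra A B'₁] [IsScalarTower A A₁ B'₁] [IsScalarTower A B' B'₁]
    (h : Algebra.IsPushout A A₁ B' B'₁) [Algebra B'₁ B₁] [Algebra B' B₁]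
    [IsScalarTower B' B'₁ B₁] (h2 : IsBaseChange A₁ h.out.toDual) :
    Function.Bijective (QFDual.omegaBC (B₁ := B₁) h) := by
  letI iBΩ₁ : Module B' (Disc.Omega A₁ B'₁) := Module.compHom _ (algebraMap B' B'₁)
  haveI : IsScalarTower B' B'₁ (Disc.Omega A₁ B'₁) :=
    IsScalarTower.of_algebraMap_smul fun r x => rfl
  letI iAΩ : Module A (Disc.Omega A B') := Module.compHom _ (algebraMap A B')
  haveI : IsScalarTower A B' (Disc.Omega A B') :=
    IsScalarTower.of_algebraMap_smul fun r x => rfl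
  letI iA₁Ω₁ : Module A₁ (Disc.Omega A₁ B'₁) := Module.compHom _ (algebraMap A₁ B'₁)
  haveI : IsScalarTower A₁ B'₁ (Disc.Omega A₁ B'₁) :=
    IsScalarTower.of_algebraMap_smul fun r x => rfl
  letI iAΩ₁ : Module A (Disc.Omega A₁ B'₁) := Module.compHom _ (algebraMap A B'₁)
  haveI : IsScalarTower A A₁ (Disc.Omega A₁ B'₁) :=
    IsScalarTower.of_algebraMap_smul fun r x => by
      show algebraMap A₁ B'₁ (algebraMap A A₁ r) • x = algebraMap A B'₁ r • x
      rw [← IsScalarTower.algebraMap_apply]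
  let eM : (B' →ₗ[A] A) ≃ₗ[A] Disc.Omega A B' :=
    { toFun := fun φ => ⟨φ⟩
      invFun := fun ω => ω.toLinearMap
      map_add' := fun _ _ => rfl
      map_smul' := fun a φ => by
        refine Disc.Omega.ext (LinearMap.ext fun x => ?_)
        show a • φ x = φ (algebraMap A B' a * x)
        rw [← Algebra.smul_def, map_smul]
      left_inv := fun _ => rfl
      right_inv := fun _ => rfl }
  let eN : (B'₁ →ₗ[A₁] A₁) ≃ₗ[A₁] Disc.Omega A₁ B'₁ :=
    { toFun := fun φ => ⟨φ⟩
      invFun := fun ω => ω.toLinearMap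
      map_add' := fun _ _ => rfl
      map_smul' := fun a φ => by
        refine Disc.Omega.ext (LinearMap.ext fun x => ?_)
        show a • φ x = φ (algebraMap A₁ B'₁ a * x)
        rw [← Algebra.smul_def, map_smul]
      left_inv := fun _ => rfl
      right_inv := fun _ => rfl }
  let g : Disc.Omega A B' →ₗ[A] Disc.Omega A₁ B'₁ :=
    { toFun := QFDual.bcFin h
      map_add' := map_add _
      map_smul' := fun a φ => by
        show QFDual.bcFin h (algebraMap A B' a • φ) = algebraMap A B'₁ a • QFDual.bcFin h φ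
        rw [(QFDual.bcFin h).map_smulₛₗ, ← IsScalarTower.algebraMap_apply] }
  have h3 : IsBaseChange A₁ g := by
    refine (IsBaseChange.iff_of_equiv_comm eM eN ?_).mp h2
    refine LinearMap.ext fun φ => ?_
    rfl
  let f : Disc.Omega A B' →ₗ[B'] Disc.Omega A₁ B'₁ :=
    { toFun := QFDual.bcFin h
      map_add' := map_add _
      map_smul' := fun r φ => (QFDual.bcFin h).map_smulₛₗ r φ }
  have h4 : IsBaseChange B'₁ f :=
    Groth.Agent.Lib.Helper6.OmegaBC.isBaseChange_of_isPushout h g h3 f (fun m => rfl)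
  have h5 := IsBaseChange.comp h4 (TensorProduct.isBaseChange B'₁ (Disc.Omega A₁ B'₁) B₁)
  have hEq : ∀ x, QFDual.omegaBC (B₁ := B₁) h x = h5.equiv x := by
    intro x
    induction x using TensorProduct.induction_on with
    | zero => simp
    | tmul b φ =>
      rw [QFDual.omegaBC_tmul, IsBaseChange.equiv_tmul]
      show b ⊗ₜ[B'₁] QFDual.bcFin h φ = b • ((1 : B₁) ⊗ₜ[B'₁] QFDual.bcFin h φ)
      rw [TensorProduct.smul_tmul', smul_eq_mul, mul_one]
    | add x y hx hy => rw [map_add, map_add, hx, hy]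
  have : (QFDual.omegaBC (B₁ := B₁) h : _ → _) = h5.equiv := funext hEq
  rw [this]
  exact h5.equiv.bijective

/-- Duals of finite projective modules commute with arbitrary base change. -/
theorem isBaseChange_toDual_of_projective {R R₁ V W : Type u} [CommRing R] [CommRing R₁]
    [Algebra R R₁] [AddCommGroup V] [Module R V] [Module.Finite R V] [Module.Projective R V]
    [AddCommGroup W] [Module R W] [Module R₁ W] [IsScalarTower R R₁ W]
    {j : V →ₗ[R] W} (ibc : IsBaseChange R₁ j) : IsBaseChange R₁ ibc.toDual := by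
  let F : R₁ ⊗[R] Module.Dual R V →ₗ[R₁] Module.Dual R₁ W := ibc.toDual.liftBaseChange R₁
  let L' : Module.Dual R₁ W →ₗ[R] (V →ₗ[R] R₁) :=
    { toFun := fun G => (G.restrictScalars R).comp j
      map_add' := fun G G' => by ext v; simp
      map_smul' := fun r G => by ext v; simp }
  have hL' : Function.Injective L' := by
    intro G G' hGG'
    refine ibc.algHom_ext _ _ fun v => ?_
    exact LinearMap.congr_fun hGG' v
  let D : R₁ ⊗[R] Module.Dual R V →ₗ[R] (V →ₗ[R] R₁) :=
    (dualTensorHom R V R₁).comp (TensorProduct.comm R R₁ (Module.Dual R V)).toLinearMap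
  have hD : Function.Bijective D :=
    (dualTensorHom_bijective (R := R) (M := V) (N := R₁)).comp
      (TensorProduct.comm R R₁ (Module.Dual R V)).bijective
  have hcomp : L'.comp (F.restrictScalars R) = D := by
    apply TensorProduct.ext'
    intro r₁ φ
    ext v
    simp only [LinearMap.comp_apply, LinearMap.restrictScalars_apply, F, L', D,
      LinearMap.liftBaseChange_tmul, LinearMap.coe_mk, AddHom.coe_mk, LinearMap.smul_apply,
      IsBaseChange.toDual_comp_apply, LinearEquiv.coe_coe, TensorProduct.comm_tmul,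
      dualTensorHom_apply]
    rw [smul_eq_mul, Algebra.smul_def, mul_comm]
  have hbij : Function.Bijective F := by
    constructor
    · intro x y hxy
      apply hD.1
      rw [← hcomp]
      simp only [LinearMap.comp_apply, LinearMap.restrictScalars_apply, hxy]
    · intro G
      obtain ⟨x, hx⟩ := hD.2 (L' G)
      refine ⟨x, hL' ?_⟩
      rw [← hx, ← hcomp]
      rfl
  exact IsBaseChange.of_equiv (LinearEquiv.ofBijective F hbij) (fun x => by simp [F])

section Trans

variable {A A₁ R R₁ B' B'₁ S' S'₁ : Type u}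
  [CommRing A] [CommRing A₁] [CommRing R] [CommRing R₁]
  [CommRing B'] [CommRing B'₁] [CommRing S'] [CommRing S'₁]
  [Algebra A A₁] [Algebra A R] [Algebra A₁ R₁] [Algebra R R₁]
  [Algebra A B']
  [Algebra B' B'₁] [Algebra A₁ B'₁] [Algebra A B'₁] [IsScalarTower A A₁ B'₁]
  [IsScalarTower A B' B'₁]
  [Algebra B' S'] [Algebra R S'] [Algebra A S'] [IsScalarTower A R S'] [IsScalarTower A B' S']
  [Algebra B'₁ S'₁] [Algebra R₁ S'₁] [Algebra A₁ S'₁] [IsScalarTower A₁ R₁ S'₁]
  [IsScalarTower A₁ B'₁ S'₁]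
  [Algebra S' S'₁] [Algebra R S'₁] [IsScalarTower R R₁ S'₁] [IsScalarTower R S' S'₁]

/-- Transitivity of `QFDual.bcFin` in a commutative cube of pushouts. -/
theorem bcFin_trans (h : Algebra.IsPushout A A₁ B' B'₁) (hR : Algebra.IsPushout A R B' S')
    (h₁ : Algebra.IsPushout A₁ R₁ B'₁ S'₁) (hR₁ : Algebra.IsPushout R R₁ S' S'₁)
    (hB : ∀ b' : B', algebraMap B'₁ S'₁ (algebraMap B' B'₁ b') =
      algebraMap S' S'₁ (algebraMap B' S' b'))
    (hA : ∀ a : A, algebraMap A₁ R₁ (algebraMap A A₁ a) = algebraMap R R₁ (algebraMap A R a))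
    (φ : Disc.Omega A B') :
    QFDual.bcFin h₁ (QFDual.bcFin h φ) = QFDual.bcFin hR₁ (QFDual.bcFin hR φ) := by
  apply Disc.Omega.ext
  refine h₁.out.algHom_ext _ _ fun x => ?_
  -- reduce to `x` in the image of `B'`
  let χ₁ : S'₁ →ₗ[R₁] R₁ := (QFDual.bcFin h₁ (QFDual.bcFin h φ)).toLinearMap
  let χ₂ : S'₁ →ₗ[R₁] R₁ := (QFDual.bcFin hR₁ (QFDual.bcFin hR φ)).toLinearMap
  let ψ₁ : B'₁ →ₗ[A₁] R₁ :=
    (χ₁.restrictScalars A₁).comp (IsScalarTower.toAlgHom A₁ B'₁ S'₁).toLinearMap
  let ψ₂ : B'₁ →ₗ[A₁] R₁ :=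
    (χ₂.restrictScalars A₁).comp (IsScalarTower.toAlgHom A₁ B'₁ S'₁).toLinearMap
  have key : ψ₁ = ψ₂ := by
    refine h.out.algHom_ext _ _ fun b' => ?_
    show χ₁ (algebraMap B'₁ S'₁ (algebraMap B' B'₁ b')) =
      χ₂ (algebraMap B'₁ S'₁ (algebraMap B' B'₁ b'))
    have e1 : χ₁ (algebraMap B'₁ S'₁ (algebraMap B' B'₁ b')) =
        algebraMap A₁ R₁ (algebraMap A A₁ (φ.toLinearMap b')) := by
      show (QFDual.bcFin h₁ (QFDual.bcFin h φ)).toLinearMap
        (algebraMap B'₁ S'₁ (algebraMap B' B'₁ b')) = _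
      rw [QFDual.bcFin_apply_algebraMap, QFDual.bcFin_apply_algebraMap]
    have e2 : χ₂ (algebraMap B'₁ S'₁ (algebraMap B' B'₁ b')) =
        algebraMap R R₁ (algebraMap A R (φ.toLinearMap b')) := by
      show (QFDual.bcFin hR₁ (QFDual.bcFin hR φ)).toLinearMap
        (algebraMap B'₁ S'₁ (algebraMap B' B'₁ b')) = _
      rw [hB, QFDual.bcFin_apply_algebraMap, QFDual.bcFin_apply_algebraMap]
    rw [e1, e2, hA]
  exact LinearMap.congr_fun key x

variable {T : Type u} [CommRing T] [Algebra B' T] [Algebra B'₁ T] [Algebra S' T] [Algebra S'₁ T]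
  [IsScalarTower B' B'₁ T] [IsScalarTower B' S' T] [IsScalarTower B'₁ S'₁ T]
  [IsScalarTower S' S'₁ T]

/-- Transitivity of `QFDual.omegaBC` in a commutative cube of pushouts. -/
theorem omegaBC_trans (h : Algebra.IsPushout A A₁ B' B'₁) (hR : Algebra.IsPushout A R B' S')
    (h₁ : Algebra.IsPushout A₁ R₁ B'₁ S'₁) (hR₁ : Algebra.IsPushout R R₁ S' S'₁)
    (hB : ∀ b' : B', algebraMap B'₁ S'₁ (algebraMap B' B'₁ b') =
      algebraMap S' S'₁ (algebraMap B' S' b'))
    (hA : ∀ a : A, algebraMap A₁ R₁ (algebraMap A A₁ a) = algebraMap R R₁ (algebraMap A R a))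
    (x : QFDual.omega A B' T) :
    QFDual.omegaBC (B₁ := T) h₁ (QFDual.omegaBC (B₁ := T) h x) =
      QFDual.omegaBC (B₁ := T) hR₁ (QFDual.omegaBC (B₁ := T) hR x) := by
  induction x using TensorProduct.induction_on with
  | zero => simp
  | tmul t φ =>
    rw [QFDual.omegaBC_tmul, QFDual.omegaBC_tmul, QFDual.omegaBC_tmul, QFDual.omegaBC_tmul,
      bcFin_trans h hR h₁ hR₁ hB hA]
  | add x y hx hy => simp only [map_add, hx, hy]

/-- In a commutative cube of pushouts, if three of the four base change maps are bijective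
then so is the fourth. -/
theorem omegaBC_bijective_of_cube (h : Algebra.IsPushout A A₁ B' B'₁)
    (hR : Algebra.IsPushout A R B' S')
    (h₁ : Algebra.IsPushout A₁ R₁ B'₁ S'₁) (hR₁ : Algebra.IsPushout R R₁ S' S'₁)
    (hB : ∀ b' : B', algebraMap B'₁ S'₁ (algebraMap B' B'₁ b') =
      algebraMap S' S'₁ (algebraMap B' S' b'))
    (hA : ∀ a : A, algebraMap A₁ R₁ (algebraMap A A₁ a) = algebraMap R R₁ (algebraMap A R a))
    (b1 : Function.Bijective (QFDual.omegaBC (B₁ := T) hR))
    (b2 : Function.Bijective (QFDual.omegaBC (B₁ := T) h₁))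
    (b3 : Function.Bijective (QFDual.omegaBC (B₁ := T) hR₁)) :
    Function.Bijective (QFDual.omegaBC (B₁ := T) h) := by
  have hcomp : (QFDual.omegaBC (B₁ := T) h₁ : _ → _) ∘ (QFDual.omegaBC (B₁ := T) h : _ → _) =
      (QFDual.omegaBC (B₁ := T) hR₁ : _ → _) ∘ (QFDual.omegaBC (B₁ := T) hR : _ → _) := by
    funext x
    exact omegaBC_trans h hR h₁ hR₁ hB hA x
  have hb : Function.Bijective ((QFDual.omegaBC (B₁ := T) h₁ : _ → _) ∘
      (QFDual.omegaBC (B₁ := T) h : _ → _)) := by
    rw [hcomp]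
    exact b3.comp b1
  constructor
  · exact Function.Injective.of_comp hb.1
  · intro y
    obtain ⟨x, hx⟩ := hb.2 (QFDual.omegaBC (B₁ := T) h₁ y)
    exact ⟨x, b2.1 hx⟩

end Trans

end Qf

end Groth.Agent.Lib.Helper18.DR
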