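import Mathlib
import Groth.Prelude.Def_QFDual
import Groth.Agent.Lib.Helper18.QfB

/-!
# Splitting off a direct factor of the finite algebra (helper18)

If `S' → C` is a surjection of `R`-algebras whose kernel is generated by an idempotent, then for
every `C`-algebra `T` the modules `T ⊗[S'] Hom_R(S', R)` and `T ⊗[C] Hom_R(C, R)` are identified.
Consequently, if `C` is finite projective over `R`, the base change map `QFDual.omegaBC` for `S'`
with values in `T` is bijective for every base change `R → R₁`.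
-/

set_option autoImplicit false
set_option linter.style.haveILetI false
universe u

namespace Groth.Agent.Lib.Helper18.DR

namespace Qf

open TensorProduct

section Factor

variable {R S' C : Type u} [CommRing R] [CommRing S'] [CommRing C]
  [Algebra R S'] [Algebra R C] [Algebra S' C] [IsScalarTower R S' C]

/-- `π^* : Hom_R(C, R) → Hom_R(S', R)`, composition with `S' → C`. -/
noncomputable def piStar (ψ : Disc.Omega R C) : Disc.Omega R S' :=
  ⟨ψ.toLinearMap ∘ₗ (IsScalarTower.toAlgHom R S' C).toLinearMap⟩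

@[simp] theorem piStar_apply (ψ : Disc.Omega R C) (s : S') :
    (piStar (S' := S') ψ).toLinearMap s = ψ.toLinearMap (algebraMap S' C s) := rfl

theorem piStar_add (ψ ψ' : Disc.Omega R C) :
    piStar (S' := S') (ψ + ψ') = piStar ψ + piStar ψ' := by
  apply Disc.Omega.ext
  ext s
  simp

theorem piStar_smul (s : S') (ψ : Disc.Omega R C) :
    piStar (S' := S') (algebraMap S' C s • ψ) = s • piStar ψ := by
  apply Disc.Omega.ext
  ext s'
  simp [map_mul]

variable (hπ : Function.Surjective (algebraMap S' C)) (ε : S')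
  (hker : RingHom.ker (algebraMap S' C) = Ideal.span {ε})

include hker in
theorem one_sub_mul_eq (hε : IsIdempotentElem ε) {s s' : S'}
    (h : algebraMap S' C s = algebraMap S' C s') : (1 - ε) * s = (1 - ε) * s' := by
  have hmem : s - s' ∈ RingHom.ker (algebraMap S' C) := by
    rw [RingHom.mem_ker, map_sub, h, sub_self]
  rw [hker, Ideal.mem_span_singleton'] at hmem
  obtain ⟨t, ht⟩ := hmem
  have h0 : (1 - ε) * (s - s') = 0 := by
    rw [← ht]
    have : (1 - ε) * (t * ε) = t * (ε - ε * ε) := by ring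
    rw [this, hε.eq, sub_self, mul_zero]
  have := sub_eq_zero.mp (by rw [← mul_sub]; exact h0 : (1 - ε) * s - (1 - ε) * s' = 0)
  exact this

include hker in
theorem map_eps : algebraMap S' C ε = 0 := by
  have : ε ∈ RingHom.ker (algebraMap S' C) := by
    rw [hker]; exact Ideal.mem_span_singleton_self ε
  exact this

/-- The `R`-linear section `σ : C → S'`, `π s ↦ (1 - ε) s`. -/
noncomputable def sigma (hε : IsIdempotentElem ε) : C →ₗ[R] S' where
  toFun c := (1 - ε) * Function.surjInv hπ c
  map_add' c c' := by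
    rw [← mul_add]
    apply one_sub_mul_eq ε hker hε
    rw [map_add, Function.surjInv_eq hπ, Function.surjInv_eq hπ, Function.surjInv_eq hπ]
  map_smul' r c := by
    rw [RingHom.id_apply, ← mul_smul_comm]
    apply one_sub_mul_eq ε hker hε
    rw [Function.surjInv_eq hπ, Algebra.smul_def r (Function.surjInv hπ c), map_mul,
      Function.surjInv_eq hπ, ← IsScalarTower.algebraMap_apply, ← Algebra.smul_def]

theorem sigma_map (hε : IsIdempotentElem ε) (s : S') :
    sigma (R := R) hπ ε hker hε (algebraMap S' C s) = (1 - ε) * s := by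
  show (1 - ε) * Function.surjInv hπ (algebraMap S' C s) = _
  apply one_sub_mul_eq ε hker hε
  rw [Function.surjInv_eq hπ]

theorem map_sigma (hε : IsIdempotentElem ε) (c : C) :
    algebraMap S' C (sigma (R := R) hπ ε hker hε c) = c := by
  show algebraMap S' C ((1 - ε) * Function.surjInv hπ c) = c
  rw [map_mul, map_sub, map_one, map_eps ε hker, sub_zero, one_mul, Function.surjInv_eq hπ]

theorem mul_sigma (hε : IsIdempotentElem ε) (s : S') (c : C) :
    s * sigma (R := R) hπ ε hker hε c =
      sigma (R := R) hπ ε hker hε (algebraMap S' C s * c) := by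
  obtain ⟨s', rfl⟩ := hπ c
  rw [← map_mul, sigma_map, sigma_map]
  ring

/-- `σ^* : Hom_R(S', R) → Hom_R(C, R)`, composition with the section `σ`. -/
noncomputable def sigmaStar (hε : IsIdempotentElem ε) (φ : Disc.Omega R S') : Disc.Omega R C :=
  ⟨φ.toLinearMap ∘ₗ sigma hπ ε hker hε⟩

@[simp] theorem sigmaStar_apply (hε : IsIdempotentElem ε) (φ : Disc.Omega R S') (c : C) :
    (sigmaStar hπ ε hker hε φ).toLinearMap c =
      φ.toLinearMap (sigma (R := R) hπ ε hker hε c) := rfl

theorem sigmaStar_add (hε : IsIdempotentElem ε) (φ φ' : Disc.Omega R S') :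
    sigmaStar hπ ε hker hε (φ + φ') = sigmaStar hπ ε hker hε φ + sigmaStar hπ ε hker hε φ' := by
  apply Disc.Omega.ext
  ext c
  simp

theorem sigmaStar_smul (hε : IsIdempotentElem ε) (s : S') (φ : Disc.Omega R S') :
    sigmaStar hπ ε hker hε (s • φ) = algebraMap S' C s • sigmaStar hπ ε hker hε φ := by
  apply Disc.Omega.ext
  ext c
  simp only [sigmaStar_apply, Disc.Omega.smul_toLinearMap_apply, mul_sigma]

theorem sigmaStar_piStar (hε : IsIdempotentElem ε) (ψ : Disc.Omega R C) :
    sigmaStar hπ ε hker hε (piStar ψ) = ψ := by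
  apply Disc.Omega.ext
  ext c
  simp only [sigmaStar_apply, piStar_apply, map_sigma]

theorem piStar_sigmaStar (hε : IsIdempotentElem ε) (φ : Disc.Omega R S') :
    piStar (sigmaStar hπ ε hker hε φ) = (1 - ε) • φ := by
  apply Disc.Omega.ext
  ext s
  simp only [piStar_apply, sigmaStar_apply, sigma_map, Disc.Omega.smul_toLinearMap_apply]

variable {T : Type u} [CommRing T] [Algebra S' T] [Algebra C T] [IsScalarTower S' C T]

/-- `T ⊗[C] Hom_R(C, R) → T ⊗[S'] Hom_R(S', R)`, `t ⊗ ψ ↦ t ⊗ ψ ∘ π`. -/
noncomputable def PsiT : T ⊗[C] Disc.Omega R C →ₗ[T] T ⊗[S'] Disc.Omega R S' :=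
  TensorProduct.AlgebraTensorModule.lift
    { toFun := fun t =>
        { toFun := fun ψ => t ⊗ₜ[S'] piStar ψ
          map_add' := fun ψ ψ' => by rw [piStar_add, tmul_add]
          map_smul' := fun c ψ => by
            obtain ⟨s, rfl⟩ := hπ c
            rw [piStar_smul, tmul_smul, RingHom.id_apply, algebraMap_smul] }
      map_add' := fun t t' => by ext ψ; simp [add_tmul]
      map_smul' := fun c t => by ext ψ; simp [smul_tmul'] }

@[simp] theorem PsiT_tmul (t : T) (ψ : Disc.Omega R C) :
    PsiT (S' := S') (T := T) hπ (t ⊗ₜ[C] ψ) = t ⊗ₜ[S'] piStar ψ := rfl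

/-- `T ⊗[S'] Hom_R(S', R) → T ⊗[C] Hom_R(C, R)`, `t ⊗ φ ↦ t ⊗ φ ∘ σ`. -/
noncomputable def PhiT (hε : IsIdempotentElem ε) :
    T ⊗[S'] Disc.Omega R S' →ₗ[T] T ⊗[C] Disc.Omega R C :=
  TensorProduct.AlgebraTensorModule.lift
    { toFun := fun t =>
        { toFun := fun φ => t ⊗ₜ[C] sigmaStar hπ ε hker hε φ
          map_add' := fun φ φ' => by rw [sigmaStar_add, tmul_add]
          map_smul' := fun s φ => by
            rw [sigmaStar_smul, tmul_smul, RingHom.id_apply, algebraMap_smul] }
      map_add' := fun t t' => by ext φ; simp [add_tmul]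
      map_smul' := fun c t => by ext φ; simp [smul_tmul'] }

@[simp] theorem PhiT_tmul (hε : IsIdempotentElem ε) (t : T) (φ : Disc.Omega R S') :
    PhiT (T := T) hπ ε hker hε (t ⊗ₜ[S'] φ) = t ⊗ₜ[C] sigmaStar hπ ε hker hε φ := rfl

include hker in
theorem PsiT_bijective (hε : IsIdempotentElem ε) :
    Function.Bijective (PsiT (R := R) (S' := S') (C := C) (T := T) hπ) := by
  have h1 : ∀ x, PhiT (R := R) (T := T) hπ ε hker hε
      (PsiT (R := R) (S' := S') (T := T) hπ x) = x := by
    intro x
    induction x using TensorProduct.induction_on with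
    | zero => simp
    | tmul t ψ => rw [PsiT_tmul, PhiT_tmul, sigmaStar_piStar]
    | add x y hx hy => rw [map_add, map_add, hx, hy]
  have h2 : ∀ y, PsiT (R := R) (S' := S') (T := T) hπ
      (PhiT (R := R) (T := T) hπ ε hker hε y) = y := by
    intro y
    induction y using TensorProduct.induction_on with
    | zero => simp
    | tmul t φ =>
      rw [PhiT_tmul, PsiT_tmul, piStar_sigmaStar, sub_smul, one_smul, tmul_sub]
      have : t ⊗ₜ[S'] (ε • φ) = 0 := by
        rw [tmul_smul, smul_tmul', ← algebraMap_smul C ε t, map_eps ε hker, zero_smul,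
          zero_tmul]
      rw [this, sub_zero]
    | add x y hx hy => rw [map_add, map_add, hx, hy]
  exact ⟨Function.LeftInverse.injective h1, Function.RightInverse.surjective h2⟩

end Factor

section FinBC

variable {R R₁ S' S'₁ C C₁ T : Type u} [CommRing R] [CommRing R₁] [CommRing S'] [CommRing S'₁]
  [CommRing C] [CommRing C₁] [CommRing T]
  [Algebra R R₁]
  [Algebra R S'] [Algebra S' S'₁] [Algebra R₁ S'₁] [Algebra R S'₁]
  [IsScalarTower R R₁ S'₁] [IsScalarTower R S' S'₁]
  [Algebra R C] [Algebra C C₁] [Algebra R₁ C₁] [Algebra R C₁]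
  [IsScalarTower R R₁ C₁] [IsScalarTower R C C₁]
  [Algebra S' C] [IsScalarTower R S' C] [Algebra S'₁ C₁] [IsScalarTower R₁ S'₁ C₁]
  [Algebra S' T] [Algebra S'₁ T] [Algebra C T] [Algebra C₁ T]
  [IsScalarTower S' C T] [IsScalarTower S'₁ C₁ T] [IsScalarTower S' S'₁ T]
  [IsScalarTower C C₁ T]

theorem bcFin_piStar (hS : Algebra.IsPushout R R₁ S' S'₁) (hC : Algebra.IsPushout R R₁ C C₁)
    (hsq : ∀ s : S', algebraMap S'₁ C₁ (algebraMap S' S'₁ s) =
      algebraMap C C₁ (algebraMap S' C s))
    (ψ : Disc.Omega R C) :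
    QFDual.bcFin hS (piStar (S' := S') ψ) = piStar (S' := S'₁) (QFDual.bcFin hC ψ) := by
  apply Disc.Omega.ext
  refine hS.out.algHom_ext _ _ fun s => ?_
  show (QFDual.bcFin hS (piStar (S' := S') ψ)).toLinearMap (algebraMap S' S'₁ s) =
    (piStar (S' := S'₁) (QFDual.bcFin hC ψ)).toLinearMap (algebraMap S' S'₁ s)
  rw [QFDual.bcFin_apply_algebraMap, piStar_apply, piStar_apply, hsq,
    QFDual.bcFin_apply_algebraMap]

/-- If `C` is a direct factor of `S'` which is finite projective over `R`, the base change map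
for `S'` with values in a `C₁`-algebra is bijective. -/
theorem omegaBC_bijective_of_factor
    (hS : Algebra.IsPushout R R₁ S' S'₁) (hC : Algebra.IsPushout R R₁ C C₁)
    (hsq : ∀ s : S', algebraMap S'₁ C₁ (algebraMap S' S'₁ s) =
      algebraMap C C₁ (algebraMap S' C s))
    (hπ : Function.Surjective (algebraMap S' C)) (ε : S') (hε : IsIdempotentElem ε)
    (hker : RingHom.ker (algebraMap S' C) = Ideal.span {ε})
    (hπ₁ : Function.Surjective (algebraMap S'₁ C₁)) (ε₁ : S'₁) (hε₁ : IsIdempotentElem ε₁)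
    (hker₁ : RingHom.ker (algebraMap S'₁ C₁) = Ideal.span {ε₁})
    [Module.Finite R C] [Module.Projective R C] :
    Function.Bijective (QFDual.omegaBC (B₁ := T) hS) := by
  have hb : Function.Bijective (QFDual.omegaBC (B₁ := T) hC) :=
    omegaBC_bijective_of_isBaseChange hC (isBaseChange_toDual_of_projective hC.out)
  have hΨ := PsiT_bijective (R := R) (S' := S') (C := C) (T := T) hπ ε hker hε
  have hΨ₁ := PsiT_bijective (R := R₁) (S' := S'₁) (C := C₁) (T := T) hπ₁ ε₁ hker₁ hε₁
  have hcomm : ∀ x, QFDual.omegaBC (B₁ := T) hS (PsiT (S' := S') (T := T) hπ x) =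
      PsiT (S' := S'₁) (T := T) hπ₁ (QFDual.omegaBC (B₁ := T) hC x) := by
    intro x
    induction x using TensorProduct.induction_on with
    | zero => simp
    | tmul t ψ =>
      rw [PsiT_tmul, QFDual.omegaBC_tmul, QFDual.omegaBC_tmul, PsiT_tmul,
        bcFin_piStar hS hC hsq]
    | add x y hx hy => simp only [map_add, hx, hy]
  have hcomp : (QFDual.omegaBC (B₁ := T) hS : _ → _) ∘ (PsiT (S' := S') (T := T) hπ : _ → _) =
      (PsiT (S' := S'₁) (T := T) hπ₁ : _ → _) ∘ (QFDual.omegaBC (B₁ := T) hC : _ → _) :=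
    funext hcomm
  have hb2 : Function.Bijective ((QFDual.omegaBC (B₁ := T) hS : _ → _) ∘
      (PsiT (S' := S') (T := T) hπ : _ → _)) := by
    rw [hcomp]
    exact hΨ₁.comp hb
  constructor
  · intro x y hxy
    obtain ⟨x', rfl⟩ := hΨ.2 x
    obtain ⟨y', rfl⟩ := hΨ.2 y
    exact congrArg _ (hb2.1 hxy)
  · exact Function.Surjective.of_comp hb2.2

end FinBC

end Qf

end Groth.Agent.Lib.Helper18.DR
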