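import Mathlib
import Groth.Prelude.Def_QFDual
import Groth.Agent.Lib.Helper18.QfA

/-!
# Étale-local charts of a quasi-finite factorisation (helper18)

For a factorisation `A → B' → B` (`B'` finite over `A`, `Spec B → Spec B'` an open immersion) and
a prime `q` of `B`, Mathlib's étale localisation (Stacks 00UJ) gives an étale `A`-algebra `R` and
a direct factor `C` of `R ⊗[A] B`, finite over `R`, flat over `B`, with a prime over `q`;
moreover `R ⊗[A] B' → C` is surjective with kernel generated by an idempotent.
-/

set_option autoImplicit false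
set_option linter.style.haveILetI false
set_option maxHeartbeats 1000000
universe u

namespace Groth.Agent.Lib.Helper18.DR

namespace Qf

open AlgebraicGeometry TensorProduct CategoryTheory

attribute [local instance] Algebra.TensorProduct.rightAlgebra

variable {A B' B : Type u} [CommRing A] [CommRing B'] [CommRing B]
  [Algebra A B'] [Algebra B' B] [Algebra A B] [IsScalarTower A B' B]

theorem exists_chart (hf : QFDual.IsQFFactor A B' B) (q : Ideal B) [q.IsPrime] :
    ∃ (R : Type u) (_ : CommRing R) (_ : Algebra A R) (_ : Algebra.Etale A R)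
      (S' : Type u) (_ : CommRing S') (_ : Algebra A S') (_ : Algebra R S') (_ : Algebra B' S')
      (_ : IsScalarTower A R S') (_ : IsScalarTower A B' S')
      (C : Type u) (_ : CommRing C) (_ : Algebra A C) (_ : Algebra R C) (_ : Algebra S' C)
      (_ : Algebra B' C) (_ : Algebra B C)
      (_ : IsScalarTower A R C) (_ : IsScalarTower R S' C) (_ : IsScalarTower B' S' C)
      (_ : IsScalarTower B' B C) (_ : IsScalarTower A B C),
      Algebra.IsPushout A R B' S' ∧ Module.Finite R C ∧
      Function.Surjective (algebraMap S' C) ∧
      (∃ ε : S', IsIdempotentElem ε ∧ RingHom.ker (algebraMap S' C) = Ideal.span {ε}) ∧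
      Module.Flat B C ∧ (∃ Q : Ideal C, Q.IsPrime ∧ Q.comap (algebraMap B C) = q) ∧
      (Module.Flat A B → Module.Flat R C) := by
  haveI := finiteType_of_factor hf
  haveI := quasiFinite_of_factor hf
  obtain ⟨R, _, _, _, P, _, _, e, he, P', _, _, hP'q, heP', -, hfin, -⟩ :=
    Algebra.exists_etale_isIdempotentElem_forall_liesOver_eq (R := A) (S := B)
      (q.under A) q
  -- the rings
  let S' := R ⊗[A] B'
  let S := R ⊗[A] B
  let C := Localization.Away e
  let fSS : S' →ₐ[R] S :=
    Algebra.TensorProduct.map (AlgHom.id R R) (IsScalarTower.toAlgHom A B' B)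
  letI algS'S : Algebra S' S := fSS.toRingHom.toAlgebra
  letI algB'S : Algebra B' S := ((algebraMap B S).comp (algebraMap B' B)).toAlgebra
  haveI tB'BS : IsScalarTower B' B S := IsScalarTower.of_algebraMap_eq' rfl
  haveI tB'S'S : IsScalarTower B' S' S := IsScalarTower.of_algebraMap_eq fun b' => by
    show (1 : R) ⊗ₜ[A] (algebraMap B' B b') = fSS ((1 : R) ⊗ₜ[A] b')
    rw [Algebra.TensorProduct.map_tmul]
    rfl
  haveI tRS'S : IsScalarTower R S' S := IsScalarTower.of_algebraMap_eq fun r => by
    show algebraMap R S r = fSS (algebraMap R S' r)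
    rw [AlgHom.commutes]
  haveI tAS'S : IsScalarTower A S' S := IsScalarTower.of_algebraMap_eq fun a => by
    show algebraMap A S a = fSS (algebraMap A S' a)
    rw [IsScalarTower.algebraMap_apply A R S, IsScalarTower.algebraMap_apply A R S',
      AlgHom.commutes]
  haveI hpoB'B : Algebra.IsPushout B' B S' S :=
    (Algebra.IsPushout.comp_iff A B' R S' (T := B) (T' := S)).mp inferInstance
  have hoi1 : IsOpenImmersion (Spec.map (CommRingCat.ofHom (algebraMap S' S))) :=
    openImm_of_isPushout (B' := B') (B := B) hf.isOpenImmersion
  have hoi2 : IsOpenImmersion (Spec.map (CommRingCat.ofHom (algebraMap S C))) :=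
    IsOpenImmersion.of_isLocalization e
  have hoi3 : IsOpenImmersion (Spec.map (CommRingCat.ofHom (algebraMap S' C))) := by
    have hc : CommRingCat.ofHom (algebraMap S' C) =
        CommRingCat.ofHom (algebraMap S' S) ≫ CommRingCat.ofHom (algebraMap S C) := by
      rw [IsScalarTower.algebraMap_eq S' S C]
      rfl
    rw [hc, Spec.map_comp]
    infer_instance
  haveI : Module.Finite S' C := Module.Finite.of_restrictScalars_finite R S' C
  obtain ⟨hsurj, hker⟩ := surjective_and_ker_of_finite_openImm hoi3
  have hflatBS : Module.Flat B S :=
    Module.Flat.isBaseChange A B R S (Algebra.IsPushout.out (R := A) (S := B) (R' := R) (S' := S))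
  have hflatBC : Module.Flat B C := Module.Flat.trans B S C
  -- the prime over `q`
  have hdisj : Disjoint (Submonoid.powers e : Set S) (P' : Set S) := by
    rw [Ideal.disjoint_powers_iff_notMem_of_isPrime]
    exact heP'
  let Q : Ideal C := P'.map (algebraMap S C)
  have hQprime : Q.IsPrime :=
    IsLocalization.isPrime_of_isPrime_disjoint (Submonoid.powers e) C P' inferInstance hdisj
  have hQcomap : Q.comap (algebraMap S C) = P' :=
    IsLocalization.comap_map_of_isPrime_disjoint (Submonoid.powers e) C inferInstance hdisj
  have hQq : Q.comap (algebraMap B C) = q := by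
    have h1 : algebraMap B C = (algebraMap S C).comp (algebraMap B S) :=
      IsScalarTower.algebraMap_eq B S C
    rw [h1, ← Ideal.comap_comap, hQcomap]
    exact hP'q
  refine ⟨R, inferInstance, inferInstance, inferInstance, S', inferInstance, inferInstance,
    inferInstance, inferInstance, inferInstance, inferInstance, C, inferInstance, inferInstance,
    inferInstance, inferInstance, inferInstance, inferInstance, inferInstance, inferInstance,
    inferInstance, inferInstance, inferInstance,
    inferInstance, hfin, hsurj, hker, hflatBC, ⟨Q, hQprime, hQq⟩, ?_⟩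
  intro hAB
  haveI : Module.Flat R S := inferInstance
  exact Module.Flat.trans R S C

end Qf

end Groth.Agent.Lib.Helper18.DR
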