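import Mathlib
import Groth.Prelude.Def_QFDual
import Groth.Agent.Lib.Helper18.QfC
import Groth.Agent.Lib.Helper18.QfD

/-!
# Flatness of the relative dualizing module of a flat quasi-finite map (helper18)
-/

set_option autoImplicit false
set_option linter.style.haveILetI false
set_option maxHeartbeats 1000000
universe u

namespace Groth.Agent.Lib.Helper18.DR

namespace Qf

open AlgebraicGeometry TensorProduct CategoryTheory

section ChartEquiv

variable {A R B' S' C : Type u} [CommRing A] [CommRing R] [CommRing B'] [CommRing S'] [CommRing C]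
  [Algebra A R] [Algebra A B'] [Algebra A S'] [Algebra R S'] [Algebra B' S']
  [IsScalarTower A R S'] [IsScalarTower A B' S']
  [Algebra R C] [Algebra S' C] [Algebra B' C] [IsScalarTower R S' C] [IsScalarTower B' S' C]

/-- On a chart, `C ⊗[B'] Hom_A(B', A)` is `Hom_R(C, R)`. -/
theorem nonempty_chart_equiv (hR : Algebra.IsPushout A R B' S') [Module.Flat A R]
    [Module.FinitePresentation A B']
    (hπ : Function.Surjective (algebraMap S' C)) (ε : S') (hε : IsIdempotentElem ε)
    (hker : RingHom.ker (algebraMap S' C) = Ideal.span {ε}) :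
    Nonempty (C ⊗[B'] Disc.Omega A B' ≃ₗ[C] Disc.Omega R C) := by
  have b1 : Function.Bijective (QFDual.omegaBC (B₁ := C) hR) :=
    omegaBC_bijective_of_isBaseChange hR
      (Groth.Agent.Lib.Helper6.OmegaBC.isBaseChange_toDual hR.out)
  have b2 := PsiT_bijective (R := R) (S' := S') (C := C) (T := C) hπ ε hker hε
  let e1 : C ⊗[B'] Disc.Omega A B' ≃ₗ[C] C ⊗[S'] Disc.Omega R S' :=
    LinearEquiv.ofBijective (QFDual.omegaBC (B₁ := C) hR) b1
  let e2 : C ⊗[C] Disc.Omega R C ≃ₗ[C] C ⊗[S'] Disc.Omega R S' :=
    LinearEquiv.ofBijective (PsiT (R := R) (S' := S') (C := C) (T := C) hπ) b2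
  exact ⟨e1.trans (e2.symm.trans (TensorProduct.lid C _))⟩

end ChartEquiv

section OmegaFlat

variable {A R C : Type u} [CommRing A] [CommRing R] [CommRing C] [Algebra A R] [Algebra R C]
  [Algebra A C] [IsScalarTower A R C]

/-- `Hom_R(C, R)` is flat over `A` when `C` is finite projective over `R` and `R` is flat over
`A`; here `A` acts through `C`. -/
theorem flat_omega_of_projective [Module.Flat A R] [Module.Finite R C] [Module.Projective R C]
    [Module A (Disc.Omega R C)] [IsScalarTower A C (Disc.Omega R C)] :
    Module.Flat A (Disc.Omega R C) := by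
  let e : Disc.Omega R C ≃ₗ[A] (C →ₗ[R] R) :=
    { toFun := fun ψ => ψ.toLinearMap
      invFun := fun f => ⟨f⟩
      map_add' := fun _ _ => rfl
      map_smul' := fun a ψ => by
        ext c
        rw [RingHom.id_apply, ← algebraMap_smul C a ψ]
        show ψ.toLinearMap (algebraMap A C a * c) = a • ψ.toLinearMap c
        rw [← Algebra.smul_def, ← algebraMap_smul R a c, map_smul, algebraMap_smul]
      left_inv := fun _ => rfl
      right_inv := fun _ => rfl }
  haveI : Module.Flat R (C →ₗ[R] R) := inferInstanceAs (Module.Flat R (Module.Dual R C))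
  haveI : Module.Flat A (C →ₗ[R] R) := Module.Flat.trans A R (C →ₗ[R] R)
  exact Module.Flat.of_linearEquiv e

end OmegaFlat

/-- The relative dualizing module of a flat quasi-finite map of Noetherian rings is flat over
the base. -/
theorem flat_omega {A B' B : Type u} [CommRing A] [CommRing B'] [CommRing B]
    [IsNoetherianRing A] [Algebra A B'] [Algebra B' B] [Algebra A B] [IsScalarTower A B' B]
    [Module.Flat A B] (hf : QFDual.IsQFFactor A B' B) :
    Module.Flat A (B ⊗[B'] Disc.Omega A B') := by
  haveI := hf.finite
  haveI : Module.FinitePresentation A B' := Module.finitePresentation_of_finite A B'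
  refine flat_of_cover (A := A) (B := B) fun q hq => ?_
  haveI := hq.isPrime
  obtain ⟨R, _, _, _, S', _, _, _, _, _, _, C, _, _, _, _, _, _, _, _, _, _, _, hR, hfin, hπ,
    ⟨ε, hε, hker⟩, hflat, hQ, hRC⟩ := exists_chart hf q
  refine ⟨C, inferInstance, inferInstance, inferInstance, inferInstance, hflat, hQ, ?_⟩
  haveI : IsNoetherianRing R := Algebra.FiniteType.isNoetherianRing A R
  haveI : Module.Flat R C := hRC inferInstance
  haveI : Module.FinitePresentation R C := Module.finitePresentation_of_finite R C
  haveI : Module.Projective R C := Module.Flat.projective_of_finitePresentation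
  obtain ⟨e⟩ := nonempty_chart_equiv (C := C) hR hπ ε hε hker
  let e0 : C ⊗[B] (B ⊗[B'] Disc.Omega A B') ≃ₗ[C] C ⊗[B'] Disc.Omega A B' :=
    TensorProduct.AlgebraTensorModule.cancelBaseChange B' B C C (Disc.Omega A B')
  letI : Module A (Disc.Omega R C) := Module.compHom _ (algebraMap A C)
  haveI : IsScalarTower A C (Disc.Omega R C) :=
    IsScalarTower.of_algebraMap_smul fun r x => rfl
  haveI : Module.Flat A (Disc.Omega R C) := flat_omega_of_projective
  exact Module.Flat.of_linearEquiv ((e0.trans e).restrictScalars A)

end Qf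

end Groth.Agent.Lib.Helper18.DR
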