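import Mathlib
import Groth.Prelude.Def_QFDual
import Groth.Agent.Lib.Helper18.QfA
import Groth.Agent.Lib.Helper18.QfB

/-!
# Base change maps of the relative dualizing module: changing the target algebra (helper18)

* `omegaBC_bijective_of_cube'`: the fourth face of the cube;
* `omegaBC_baseChange_comm`: `QfDual.omegaBC h` with values in a `T`-algebra `T'` is the base
  change along `T → T'` of the map with values in `T`;
* `omegaBC_bijective_of_cover`: bijectivity of `QFDual.omegaBC h` with values in `B₁` can be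
  checked on flat `B`-algebras covering `Spec B`.
-/

set_option autoImplicit false
set_option linter.style.haveILetI false
set_option maxHeartbeats 1000000
universe u

namespace Groth.Agent.Lib.Helper18.DR

namespace Qf

open TensorProduct

section Cube'

variable {A A₁ R R₁ B' B'₁ S' S'₁ : Type u}
  [CommRing A] [CommRing A₁] [CommRing R] [CommRing R₁]
  [CommRing B'] [CommRing B'₁] [CommRing S'] [CommRing S'₁]
  [Algebra A A₁] [Algebra A R] [Algebra A₁ R₁] [Algebra R R₁]
  [Algebra A B']
  [Algebra B' B'₁] [Algebra A₁ B'₁] [Algebra A B'₁] [IsScalarTower A A₁ B'₁]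
  [IsScalarTower A B' B'₁]
  [Algebra B' S'] [Algebra R S'] [Algebra A S'] [IsScalarTower A R S'] [IsScalarTower A B' S']
  [Algebra B'₁ S'₁] [Algebra R₁ S'₁] [Algebra A₁ S'₁] [IsScalarTower A₁ R₁ S'₁]
  [IsScalarTower A₁ B'₁ S'₁]
  [Algebra S' S'₁] [Algebra R S'₁] [IsScalarTower R R₁ S'₁] [IsScalarTower R S' S'₁]
  {T : Type u} [CommRing T] [Algebra B' T] [Algebra B'₁ T] [Algebra S' T] [Algebra S'₁ T]
  [IsScalarTower B' B'₁ T] [IsScalarTower B' S' T] [IsScalarTower B'₁ S'₁ T]
  [IsScalarTower S' S'₁ T]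

/-- In a commutative cube of pushouts, if the base change maps of the faces `h`, `hR`, `h₁` are
bijective then so is that of `hR₁`. -/
theorem omegaBC_bijective_of_cube' (h : Algebra.IsPushout A A₁ B' B'₁)
    (hR : Algebra.IsPushout A R B' S')
    (h₁ : Algebra.IsPushout A₁ R₁ B'₁ S'₁) (hR₁ : Algebra.IsPushout R R₁ S' S'₁)
    (hB : ∀ b' : B', algebraMap B'₁ S'₁ (algebraMap B' B'₁ b') =
      algebraMap S' S'₁ (algebraMap B' S' b'))
    (hA : ∀ a : A, algebraMap A₁ R₁ (algebraMap A A₁ a) = algebraMap R R₁ (algebraMap A R a))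
    (b0 : Function.Bijective (QFDual.omegaBC (B₁ := T) h))
    (b1 : Function.Bijective (QFDual.omegaBC (B₁ := T) hR))
    (b2 : Function.Bijective (QFDual.omegaBC (B₁ := T) h₁)) :
    Function.Bijective (QFDual.omegaBC (B₁ := T) hR₁) := by
  have hcomp : (QFDual.omegaBC (B₁ := T) h₁ : _ → _) ∘ (QFDual.omegaBC (B₁ := T) h : _ → _) =
      (QFDual.omegaBC (B₁ := T) hR₁ : _ → _) ∘ (QFDual.omegaBC (B₁ := T) hR : _ → _) := by
    funext x
    exact omegaBC_trans h hR h₁ hR₁ hB hA x
  have hb : Function.Bijective ((QFDual.omegaBC (B₁ := T) hR₁ : _ → _) ∘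
      (QFDual.omegaBC (B₁ := T) hR : _ → _)) := by
    rw [← hcomp]
    exact b2.comp b0
  constructor
  · intro x y hxy
    obtain ⟨x', rfl⟩ := b1.2 x
    obtain ⟨y', rfl⟩ := b1.2 y
    exact congrArg _ (hb.1 hxy)
  · exact Function.Surjective.of_comp hb.2

end Cube'

section BaseChangeT

variable {A A₁ B' B'₁ : Type u} [CommRing A] [CommRing A₁] [CommRing B'] [CommRing B'₁]
  [Algebra A B'] [Algebra A A₁] [Algebra B' B'₁] [Algebra A₁ B'₁] [Algebra A B'₁]
  [IsScalarTower A A₁ B'₁] [IsScalarTower A B' B'₁]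
  {T T' : Type u} [CommRing T] [CommRing T'] [Algebra B'₁ T] [Algebra B' T]
  [IsScalarTower B' B'₁ T] [Algebra T T'] [Algebra B'₁ T'] [Algebra B' T']
  [IsScalarTower B' B'₁ T'] [IsScalarTower B'₁ T T'] [IsScalarTower B' T T']

/-- `omegaBC` with values in a `T`-algebra `T'` is the base change of `omegaBC` with values in
`T`. -/
theorem omegaBC_baseChange_comm (h : Algebra.IsPushout A A₁ B' B'₁)
    (x : T' ⊗[T] (T ⊗[B'] Disc.Omega A B')) :
    QFDual.omegaBC (B₁ := T') h
        (TensorProduct.AlgebraTensorModule.cancelBaseChange B' T T' T' (Disc.Omega A B') x) =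
      TensorProduct.AlgebraTensorModule.cancelBaseChange B'₁ T T' T' (Disc.Omega A₁ B'₁)
        ((QFDual.omegaBC (B₁ := T) h).baseChange T' x) := by
  induction x using TensorProduct.induction_on with
  | zero => simp
  | tmul t' y =>
    induction y using TensorProduct.induction_on with
    | zero => simp
    | tmul t φ =>
      rw [LinearMap.baseChange_tmul, QFDual.omegaBC_tmul,
        TensorProduct.AlgebraTensorModule.cancelBaseChange_tmul,
        TensorProduct.AlgebraTensorModule.cancelBaseChange_tmul, QFDual.omegaBC_tmul]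
    | add y z hy hz =>
      rw [tmul_add, map_add, map_add, hy, hz, map_add, map_add]
  | add x y hx hy => simp only [map_add, hx, hy]

theorem omegaBC_bijective_iff_baseChange (h : Algebra.IsPushout A A₁ B' B'₁) :
    Function.Bijective (QFDual.omegaBC (B₁ := T') h) ↔
      Function.Bijective ((QFDual.omegaBC (B₁ := T) h).baseChange T') := by
  set cM := TensorProduct.AlgebraTensorModule.cancelBaseChange B' T T' T' (Disc.Omega A B')
  set cN := TensorProduct.AlgebraTensorModule.cancelBaseChange B'₁ T T' T' (Disc.Omega A₁ B'₁)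
  have hcomp : (QFDual.omegaBC (B₁ := T') h : _ → _) ∘ (cM : _ → _) =
      (cN : _ → _) ∘ ((QFDual.omegaBC (B₁ := T) h).baseChange T' : _ → _) :=
    funext fun x => omegaBC_baseChange_comm h x
  constructor
  · intro hb
    have h1 : Function.Bijective ((cN : _ → _) ∘
        ((QFDual.omegaBC (B₁ := T) h).baseChange T' : _ → _)) := by
      rw [← hcomp]; exact hb.comp cM.bijective
    constructor
    · exact Function.Injective.of_comp h1.1
    · intro y
      obtain ⟨x, hx⟩ := h1.2 (cN y)
      exact ⟨x, cN.injective hx⟩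
  · intro hb
    have h1 : Function.Bijective ((QFDual.omegaBC (B₁ := T') h : _ → _) ∘ (cM : _ → _)) := by
      rw [hcomp]; exact cN.bijective.comp hb
    constructor
    · intro x y hxy
      obtain ⟨x', rfl⟩ := cM.surjective x
      obtain ⟨y', rfl⟩ := cM.surjective y
      exact congrArg _ (h1.1 hxy)
    · exact Function.Surjective.of_comp h1.2

/-- Bijectivity of `omegaBC` is inherited by algebras over the target. -/
theorem omegaBC_bijective_of_algebra (h : Algebra.IsPushout A A₁ B' B'₁)
    (hb : Function.Bijective (QFDual.omegaBC (B₁ := T) h)) :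
    Function.Bijective (QFDual.omegaBC (B₁ := T') h) := by
  rw [omegaBC_bijective_iff_baseChange (T := T) h]
  let e := LinearEquiv.ofBijective (QFDual.omegaBC (B₁ := T) h) hb
  have : ((QFDual.omegaBC (B₁ := T) h).baseChange T' : _ → _) = (e.baseChange T T' _ _ : _ → _) := by
    funext x
    rfl
  rw [this]
  exact (e.baseChange T T' _ _).bijective

end BaseChangeT

section Cover

variable {A A₁ B' B'₁ : Type u} [CommRing A] [CommRing A₁] [CommRing B'] [CommRing B'₁]
  [Algebra A B'] [Algebra A A₁] [Algebra B' B'₁] [Algebra A₁ B'₁] [Algebra A B'₁]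
  [IsScalarTower A A₁ B'₁] [IsScalarTower A B' B'₁]
  {B B₁ : Type u} [CommRing B] [CommRing B₁] [Algebra B B₁] [Algebra B'₁ B₁] [Algebra B' B₁]
  [IsScalarTower B' B'₁ B₁]

/-- Bijectivity of the base change map with values in `B₁` can be checked on a family of flat
`B`-algebras `C` covering `Spec B`, with values in `T = C ⊗[B] B₁`. -/
theorem omegaBC_bijective_of_cover (h : Algebra.IsPushout A A₁ B' B'₁)
    (hcov : ∀ q : Ideal B, q.IsMaximal → ∃ (C : Type u) (_ : CommRing C) (_ : Algebra B C)
      (T : Type u) (_ : CommRing T) (_ : Algebra B T) (_ : Algebra C T) (_ : Algebra B₁ T)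
      (_ : IsScalarTower B C T) (_ : IsScalarTower B B₁ T)
      (_ : Algebra B'₁ T) (_ : Algebra B' T) (_ : IsScalarTower B' B'₁ T)
      (_ : IsScalarTower B'₁ B₁ T) (_ : IsScalarTower B' B₁ T),
      Module.Flat B C ∧ (∃ Q : Ideal C, Q.IsPrime ∧ Q.comap (algebraMap B C) = q) ∧
        Algebra.IsPushout B C B₁ T ∧ Function.Bijective (QFDual.omegaBC (B₁ := T) h)) :
    Function.Bijective (QFDual.omegaBC (B₁ := B₁) h) := by
  let g : B₁ ⊗[B'] Disc.Omega A B' →ₗ[B] B₁ ⊗[B'₁] Disc.Omega A₁ B'₁ :=
    (QFDual.omegaBC (B₁ := B₁) h).restrictScalars B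
  suffices hg : Function.Bijective g from hg
  refine bijective_of_cover (B := B) g fun q hq => ?_
  obtain ⟨C, _, _, T, _, _, _, _, _, _, _, _, _, _, _, hflat, hQ, hpo, hb⟩ := hcov q hq
  refine ⟨C, inferInstance, inferInstance, hflat, hQ, ?_⟩
  haveI := hpo
  have hb' : Function.Bijective ((QFDual.omegaBC (B₁ := B₁) h).baseChange T) :=
    (omegaBC_bijective_iff_baseChange (T := B₁) (T' := T) h).mp hb
  set cM := Algebra.IsPushout.cancelBaseChange B C B₁ T (B₁ ⊗[B'] Disc.Omega A B')
  set cN := Algebra.IsPushout.cancelBaseChange B C B₁ T (B₁ ⊗[B'₁] Disc.Omega A₁ B'₁)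
  have hcomp : ∀ y, (QFDual.omegaBC (B₁ := B₁) h).baseChange T (cM.symm y) =
      cN.symm (g.lTensor C y) := by
    intro y
    induction y using TensorProduct.induction_on with
    | zero => simp
    | tmul c m =>
      rw [Algebra.IsPushout.cancelBaseChange_symm_tmul, LinearMap.baseChange_tmul,
        LinearMap.lTensor_tmul, Algebra.IsPushout.cancelBaseChange_symm_tmul]
      rfl
    | add y z hy hz => simp only [map_add, hy, hz]
  have hfun : (g.lTensor C : _ → _) = (cN : _ → _) ∘
      ((QFDual.omegaBC (B₁ := B₁) h).baseChange T : _ → _) ∘ (cM.symm : _ → _) := by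
    funext y
    simp only [Function.comp_apply]
    rw [hcomp, LinearEquiv.apply_symm_apply]
  rw [hfun]
  exact cN.bijective.comp (hb'.comp cM.symm.bijective)

end Cover

end Qf

end Groth.Agent.Lib.Helper18.DR
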