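import Mathlib
import Groth.Prelude.Def_QFDual
import Groth.Agent.Lib.Helper18.QfC
import Groth.Agent.Lib.Helper18.QfF

/-!
# Local bijectivity of the base change map on a chart (helper18)

For a chart `(R, S', C)` over `A` and an arbitrary `A`-algebra `A₁`, the base change map
`QFDual.omegaBC` of the concrete pushout `B' ⊗[A] A₁` with values in `C ⊗[A] A₁` is bijective.
-/

set_option autoImplicit false
set_option linter.style.haveILetI false
set_option maxHeartbeats 2000000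
universe u

namespace Groth.Agent.Lib.Helper18.DR

namespace Qf

open TensorProduct

attribute [local instance] Algebra.TensorProduct.rightAlgebra

section

variable {A A₁ R B' S' C : Type u} [CommRing A] [CommRing A₁] [CommRing R] [CommRing B']
  [CommRing S'] [CommRing C]
  [Algebra A A₁]
  [Algebra A R] [Algebra A B'] [Algebra A S'] [Algebra R S'] [Algebra B' S']
  [IsScalarTower A R S'] [IsScalarTower A B' S']
  [Algebra A C] [Algebra R C] [Algebra S' C] [Algebra B' C]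
  [IsScalarTower A R C] [IsScalarTower R S' C] [IsScalarTower B' S' C]
  [IsScalarTower A S' C] [IsScalarTower A B' C]

theorem omegaBC_bijective_chart [Module.Flat A R] [Module.FinitePresentation A B']
    [Module.Finite R C] [Module.Projective R C]
    (hR : Algebra.IsPushout A R B' S')
    (hπ : Function.Surjective (algebraMap S' C)) (ε : S') (hε : IsIdempotentElem ε)
    (hker : RingHom.ker (algebraMap S' C) = Ideal.span {ε})
    [Algebra (B' ⊗[A] A₁) (C ⊗[A] A₁)] [IsScalarTower B' (B' ⊗[A] A₁) (C ⊗[A] A₁)]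
    (halg : ∀ x, algebraMap (B' ⊗[A] A₁) (C ⊗[A] A₁) x =
      Algebra.TensorProduct.map (IsScalarTower.toAlgHom A B' C) (AlgHom.id A A₁) x) :
    Function.Bijective (QFDual.omegaBC (B₁ := C ⊗[A] A₁)
      (inferInstance : Algebra.IsPushout A A₁ B' (B' ⊗[A] A₁))) := by
  let fRS : R →ₐ[A] S' := IsScalarTower.toAlgHom A R S'
  let fBS : B' →ₐ[A] S' := IsScalarTower.toAlgHom A B' S'
  let fSC : S' →ₐ[A] C := IsScalarTower.toAlgHom A S' C
  let fRC : R →ₐ[A] C := IsScalarTower.toAlgHom A R C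
  let fBC : B' →ₐ[A] C := IsScalarTower.toAlgHom A B' C
  letI aRS : Algebra (R ⊗[A] A₁) (S' ⊗[A] A₁) :=
    (Algebra.TensorProduct.map fRS (AlgHom.id A A₁)).toRingHom.toAlgebra
  letI aBS : Algebra (B' ⊗[A] A₁) (S' ⊗[A] A₁) :=
    (Algebra.TensorProduct.map fBS (AlgHom.id A A₁)).toRingHom.toAlgebra
  letI aSC : Algebra (S' ⊗[A] A₁) (C ⊗[A] A₁) :=
    (Algebra.TensorProduct.map fSC (AlgHom.id A A₁)).toRingHom.toAlgebra
  letI aRC : Algebra (R ⊗[A] A₁) (C ⊗[A] A₁) :=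
    (Algebra.TensorProduct.map fRC (AlgHom.id A A₁)).toRingHom.toAlgebra
  have hcompSC : fSC.comp fBS = fBC := by
    ext b
    show algebraMap S' C (algebraMap B' S' b) = algebraMap B' C b
    rw [← IsScalarTower.algebraMap_apply]
  have hcompRC : fSC.comp fRS = fRC := by
    ext r
    show algebraMap S' C (algebraMap R S' r) = algebraMap R C r
    rw [← IsScalarTower.algebraMap_apply]
  -- towers
  haveI t1 : IsScalarTower A₁ (R ⊗[A] A₁) (S' ⊗[A] A₁) :=
    IsScalarTower.of_algebraMap_eq fun a => by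
      show (1 : S') ⊗ₜ[A] a = Algebra.TensorProduct.map fRS (AlgHom.id A A₁) ((1 : R) ⊗ₜ[A] a)
      simp
  haveI t2 : IsScalarTower A₁ (B' ⊗[A] A₁) (S' ⊗[A] A₁) :=
    IsScalarTower.of_algebraMap_eq fun a => by
      show (1 : S') ⊗ₜ[A] a = Algebra.TensorProduct.map fBS (AlgHom.id A A₁) ((1 : B') ⊗ₜ[A] a)
      simp
  haveI t3 : IsScalarTower R (R ⊗[A] A₁) (S' ⊗[A] A₁) :=
    IsScalarTower.of_algebraMap_eq fun r => by
      show algebraMap R S' r ⊗ₜ[A] (1 : A₁) =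
        Algebra.TensorProduct.map fRS (AlgHom.id A A₁) (r ⊗ₜ[A] (1 : A₁))
      simp [fRS]
  haveI t3' : IsScalarTower B' (B' ⊗[A] A₁) (S' ⊗[A] A₁) :=
    IsScalarTower.of_algebraMap_eq fun b => by
      show algebraMap B' S' b ⊗ₜ[A] (1 : A₁) =
        Algebra.TensorProduct.map fBS (AlgHom.id A A₁) (b ⊗ₜ[A] (1 : A₁))
      simp [fBS]
  haveI t4 : IsScalarTower A (R ⊗[A] A₁) (S' ⊗[A] A₁) :=
    IsScalarTower.of_algebraMap_eq fun a => by
      rw [IsScalarTower.algebraMap_apply A R (S' ⊗[A] A₁),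
        IsScalarTower.algebraMap_apply R (R ⊗[A] A₁) (S' ⊗[A] A₁),
        ← IsScalarTower.algebraMap_apply A R (R ⊗[A] A₁)]
  haveI t4' : IsScalarTower A (B' ⊗[A] A₁) (S' ⊗[A] A₁) :=
    IsScalarTower.of_algebraMap_eq fun a => by
      rw [IsScalarTower.algebraMap_apply A B' (S' ⊗[A] A₁),
        IsScalarTower.algebraMap_apply B' (B' ⊗[A] A₁) (S' ⊗[A] A₁),
        ← IsScalarTower.algebraMap_apply A B' (B' ⊗[A] A₁)]
  haveI t5 : IsScalarTower (B' ⊗[A] A₁) (S' ⊗[A] A₁) (C ⊗[A] A₁) :=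
    IsScalarTower.of_algebraMap_eq fun x => by
      rw [halg]
      show Algebra.TensorProduct.map fBC (AlgHom.id A A₁) x =
        Algebra.TensorProduct.map fSC (AlgHom.id A A₁)
          (Algebra.TensorProduct.map fBS (AlgHom.id A A₁) x)
      rw [← AlgHom.comp_apply, ← Algebra.TensorProduct.map_comp, hcompSC, AlgHom.comp_id]
  haveI t6 : IsScalarTower S' (S' ⊗[A] A₁) (C ⊗[A] A₁) :=
    IsScalarTower.of_algebraMap_eq fun s => by
      show algebraMap S' C s ⊗ₜ[A] (1 : A₁) =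
        Algebra.TensorProduct.map fSC (AlgHom.id A A₁) (s ⊗ₜ[A] (1 : A₁))
      simp [fSC]
  haveI t7 : IsScalarTower R (R ⊗[A] A₁) (C ⊗[A] A₁) :=
    IsScalarTower.of_algebraMap_eq fun r => by
      show algebraMap R C r ⊗ₜ[A] (1 : A₁) =
        Algebra.TensorProduct.map fRC (AlgHom.id A A₁) (r ⊗ₜ[A] (1 : A₁))
      simp [fRC]
  haveI t8 : IsScalarTower (R ⊗[A] A₁) (S' ⊗[A] A₁) (C ⊗[A] A₁) :=
    IsScalarTower.of_algebraMap_eq fun x => by
      show Algebra.TensorProduct.map fRC (AlgHom.id A A₁) x =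
        Algebra.TensorProduct.map fSC (AlgHom.id A A₁)
          (Algebra.TensorProduct.map fRS (AlgHom.id A A₁) x)
      rw [← AlgHom.comp_apply, ← Algebra.TensorProduct.map_comp, hcompRC, AlgHom.comp_id]
  -- pushouts
  have hR₁ : Algebra.IsPushout R (R ⊗[A] A₁) S' (S' ⊗[A] A₁) := by
    refine (Algebra.IsPushout.tensorProduct_tensorProduct A A₁ R S' ?_).symm
    ext a
    show Algebra.TensorProduct.map fRS (AlgHom.id A A₁) ((1 : R) ⊗ₜ[A] a) = (1 : S') ⊗ₜ[A] a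
    simp
  have hC : Algebra.IsPushout R (R ⊗[A] A₁) C (C ⊗[A] A₁) := by
    refine (Algebra.IsPushout.tensorProduct_tensorProduct A A₁ R C ?_).symm
    ext a
    show Algebra.TensorProduct.map fRC (AlgHom.id A A₁) ((1 : R) ⊗ₜ[A] a) = (1 : C) ⊗ₜ[A] a
    simp
  haveI := hR
  have hstepa : Algebra.IsPushout A (R ⊗[A] A₁) B' (S' ⊗[A] A₁) :=
    (Algebra.IsPushout.comp_iff A R B' S' (T := R ⊗[A] A₁) (T' := S' ⊗[A] A₁)).mpr hR₁
  have h₁ : Algebra.IsPushout A₁ (R ⊗[A] A₁) (B' ⊗[A] A₁) (S' ⊗[A] A₁) :=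
    (Algebra.IsPushout.comp_iff A A₁ B' (B' ⊗[A] A₁) (T := R ⊗[A] A₁)
      (T' := S' ⊗[A] A₁)).mp hstepa
  -- the three known faces
  have b1 : Function.Bijective (QFDual.omegaBC (B₁ := C ⊗[A] A₁) hR) :=
    omegaBC_bijective_of_isBaseChange hR
      (Groth.Agent.Lib.Helper6.OmegaBC.isBaseChange_toDual hR.out)
  haveI : Module.Flat A₁ (R ⊗[A] A₁) :=
    Module.Flat.isBaseChange A A₁ R (R ⊗[A] A₁)
      (Algebra.IsPushout.out (R := A) (S := A₁) (R' := R) (S' := R ⊗[A] A₁))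
  haveI : Module.FinitePresentation A₁ (B' ⊗[A] A₁) :=
    _root_.FinitePresentation.of_isBaseChange _
      (Algebra.IsPushout.out (R := A) (S := A₁) (R' := B') (S' := B' ⊗[A] A₁))
  have b2 : Function.Bijective (QFDual.omegaBC (B₁ := C ⊗[A] A₁) h₁) :=
    omegaBC_bijective_of_isBaseChange h₁
      (Groth.Agent.Lib.Helper6.OmegaBC.isBaseChange_toDual h₁.out)
  have hπ₁ : Function.Surjective (algebraMap (S' ⊗[A] A₁) (C ⊗[A] A₁)) :=
    Algebra.TensorProduct.map_surjective fSC (AlgHom.id A A₁) hπ Function.surjective_id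
  have hε₁ : IsIdempotentElem (ε ⊗ₜ[A] (1 : A₁) : S' ⊗[A] A₁) := by
    show (ε ⊗ₜ[A] (1 : A₁)) * (ε ⊗ₜ[A] (1 : A₁)) = ε ⊗ₜ[A] (1 : A₁)
    rw [Algebra.TensorProduct.tmul_mul_tmul, hε.eq, mul_one]
  have hker₁ : RingHom.ker (algebraMap (S' ⊗[A] A₁) (C ⊗[A] A₁)) =
      Ideal.span {(ε ⊗ₜ[A] (1 : A₁) : S' ⊗[A] A₁)} := by
    have h1 := Algebra.TensorProduct.rTensor_ker (R := A) (S := A) (C := A₁) fSC hπ
    have h2 : RingHom.ker fSC = Ideal.span {ε} := hker
    rw [h2, Ideal.map_span, Set.image_singleton] at h1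
    exact h1
  have b3 : Function.Bijective (QFDual.omegaBC (B₁ := C ⊗[A] A₁) hR₁) := by
    refine omegaBC_bijective_of_factor (C := C) (C₁ := C ⊗[A] A₁) hR₁ hC ?_ hπ ε hε hker hπ₁
      (ε ⊗ₜ[A] (1 : A₁)) hε₁ hker₁
    intro s
    show Algebra.TensorProduct.map fSC (AlgHom.id A A₁) (s ⊗ₜ[A] (1 : A₁)) =
      algebraMap S' C s ⊗ₜ[A] (1 : A₁)
    simp [fSC]
  refine omegaBC_bijective_of_cube
    (inferInstance : Algebra.IsPushout A A₁ B' (B' ⊗[A] A₁)) hR h₁ hR₁ ?_ ?_ b1 b2 b3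
  · intro b
    show Algebra.TensorProduct.map fBS (AlgHom.id A A₁) (b ⊗ₜ[A] (1 : A₁)) =
      algebraMap B' S' b ⊗ₜ[A] (1 : A₁)
    simp [fBS]
  · intro a
    show (1 : R) ⊗ₜ[A] (algebraMap A A₁ a) = algebraMap A R a ⊗ₜ[A] (1 : A₁)
    rw [Algebra.algebraMap_eq_smul_one, Algebra.algebraMap_eq_smul_one, smul_tmul]

end

end Qf

end Groth.Agent.Lib.Helper18.DR
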