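import Mathlib
import Groth.Prelude.Def_QFDual
import Groth.Agent.Lib.Helper18.QfD
import Groth.Agent.Lib.Helper18.QfG

/-!
# Base change of the relative dualizing module of a flat quasi-finite map (helper18)

Assembly of the local computation `omegaBC_bijective_chart` over the étale-local charts of
`exists_chart` into the global statement, first for the concrete pushouts `B' ⊗[A] A₁`,
`B ⊗[A] A₁` and then for arbitrary pushouts.
-/

set_option autoImplicit false
set_option linter.style.haveILetI false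
set_option maxHeartbeats 2000000
universe u

namespace Groth.Agent.Lib.Helper18.DR

namespace Qf

open TensorProduct

attribute [local instance] Algebra.TensorProduct.rightAlgebra

section Concrete

variable {A B' B A₁ : Type u} [CommRing A] [CommRing B'] [CommRing B] [CommRing A₁]
  [IsNoetherianRing A]
  [Algebra A B'] [Algebra B' B] [Algebra A B] [IsScalarTower A B' B] [Module.Flat A B]
  [Algebra A A₁]

theorem omegaBC_bijective_concrete (hf : QFDual.IsQFFactor A B' B)
    [Algebra (B' ⊗[A] A₁) (B ⊗[A] A₁)] [IsScalarTower B' (B' ⊗[A] A₁) (B ⊗[A] A₁)]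
    (halg : ∀ x, algebraMap (B' ⊗[A] A₁) (B ⊗[A] A₁) x =
      Algebra.TensorProduct.map (IsScalarTower.toAlgHom A B' B) (AlgHom.id A A₁) x) :
    Function.Bijective (QFDual.omegaBC (B₁ := B ⊗[A] A₁)
      (inferInstance : Algebra.IsPushout A A₁ B' (B' ⊗[A] A₁))) := by
  haveI : Module.Finite A B' := hf.finite
  haveI : Module.FinitePresentation A B' := Module.finitePresentation_of_finite A B'
  refine omegaBC_bijective_of_cover (B := B) (B₁ := B ⊗[A] A₁) _ fun q hq => ?_
  haveI := hq.isPrime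
  obtain ⟨R, _, _, _, S', _, _, _, _, _, _, C, _, _, _, _, _, _, _, _, _, _, _, hR, hfin, hπ,
    ⟨ε, hε, hker⟩, hflat, hQ, hRC⟩ := exists_chart hf q
  haveI : IsNoetherianRing R := Algebra.FiniteType.isNoetherianRing A R
  haveI := hfin
  haveI : Module.Flat R C := hRC inferInstance
  haveI : Module.FinitePresentation R C := Module.finitePresentation_of_finite R C
  haveI : Module.Projective R C := Module.Flat.projective_of_finitePresentation
  haveI tAB'C : IsScalarTower A B' C := IsScalarTower.of_algebraMap_eq fun a => by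
    rw [IsScalarTower.algebraMap_apply A B C, IsScalarTower.algebraMap_apply A B' B,
      ← IsScalarTower.algebraMap_apply B' B C]
  haveI tAS'C : IsScalarTower A S' C := IsScalarTower.of_algebraMap_eq fun a => by
    rw [IsScalarTower.algebraMap_apply A R C, IsScalarTower.algebraMap_apply R S' C,
      ← IsScalarTower.algebraMap_apply A R S']
  let fBC : B →ₐ[A] C := IsScalarTower.toAlgHom A B C
  let fB'C : B' →ₐ[A] C := IsScalarTower.toAlgHom A B' C
  let fB'B : B' →ₐ[A] B := IsScalarTower.toAlgHom A B' B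
  have hcomp : fBC.comp fB'B = fB'C := by
    ext b
    show algebraMap B C (algebraMap B' B b) = algebraMap B' C b
    rw [← IsScalarTower.algebraMap_apply]
  letI a1 : Algebra (B ⊗[A] A₁) (C ⊗[A] A₁) :=
    (Algebra.TensorProduct.map fBC (AlgHom.id A A₁)).toRingHom.toAlgebra
  letI a2 : Algebra (B' ⊗[A] A₁) (C ⊗[A] A₁) :=
    (Algebra.TensorProduct.map fB'C (AlgHom.id A A₁)).toRingHom.toAlgebra
  haveI t1 : IsScalarTower B (B ⊗[A] A₁) (C ⊗[A] A₁) :=
    IsScalarTower.of_algebraMap_eq fun b => by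
      show algebraMap B C b ⊗ₜ[A] (1 : A₁) =
        Algebra.TensorProduct.map fBC (AlgHom.id A A₁) (b ⊗ₜ[A] (1 : A₁))
      simp [fBC]
  haveI t2 : IsScalarTower B' (B' ⊗[A] A₁) (C ⊗[A] A₁) :=
    IsScalarTower.of_algebraMap_eq fun b => by
      show algebraMap B' C b ⊗ₜ[A] (1 : A₁) =
        Algebra.TensorProduct.map fB'C (AlgHom.id A A₁) (b ⊗ₜ[A] (1 : A₁))
      simp [fB'C]
  haveI t3 : IsScalarTower (B' ⊗[A] A₁) (B ⊗[A] A₁) (C ⊗[A] A₁) :=
    IsScalarTower.of_algebraMap_eq fun x => by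
      rw [halg]
      show Algebra.TensorProduct.map fB'C (AlgHom.id A A₁) x =
        Algebra.TensorProduct.map fBC (AlgHom.id A A₁)
          (Algebra.TensorProduct.map fB'B (AlgHom.id A A₁) x)
      rw [← AlgHom.comp_apply, ← Algebra.TensorProduct.map_comp, hcomp, AlgHom.comp_id]
  haveI t4 : IsScalarTower B' (B ⊗[A] A₁) (C ⊗[A] A₁) :=
    IsScalarTower.of_algebraMap_eq fun b => by
      show algebraMap B' C b ⊗ₜ[A] (1 : A₁) =
        Algebra.TensorProduct.map fBC (AlgHom.id A A₁) (algebraMap B' B b ⊗ₜ[A] (1 : A₁))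
      simp [fBC, ← IsScalarTower.algebraMap_apply]
  refine ⟨C, inferInstance, inferInstance, C ⊗[A] A₁, inferInstance, inferInstance,
    inferInstance, a1, inferInstance, t1, a2, inferInstance, t2, t3, t4, hflat, hQ, ?_, ?_⟩
  · refine Algebra.IsPushout.tensorProduct_tensorProduct A A₁ B C ?_
    ext a
    show Algebra.TensorProduct.map fBC (AlgHom.id A A₁) ((1 : B) ⊗ₜ[A] a) = (1 : C) ⊗ₜ[A] a
    simp
  · exact omegaBC_bijective_chart (A₁ := A₁) hR hπ ε hε hker fun x => rfl

end Concrete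

section Abstract

variable {A B' B A₁ B'₁ B₁ : Type u} [CommRing A] [CommRing B'] [CommRing B] [CommRing A₁]
  [CommRing B'₁] [CommRing B₁] [IsNoetherianRing A]
  [Algebra A B'] [Algebra B' B] [Algebra A B] [IsScalarTower A B' B] [Module.Flat A B]
  [Algebra A A₁] [Algebra B' B'₁] [Algebra A₁ B'₁] [Algebra A B'₁]
  [IsScalarTower A A₁ B'₁] [IsScalarTower A B' B'₁]
  [Algebra B B₁] [Algebra A₁ B₁] [Algebra A B₁] [IsScalarTower A A₁ B₁] [IsScalarTower A B B₁]
  [Algebra B'₁ B₁] [Algebra B' B₁] [IsScalarTower B' B'₁ B₁] [IsScalarTower B' B B₁]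
  [IsScalarTower A₁ B'₁ B₁]

theorem omegaBC_bijective_flat (hf : QFDual.IsQFFactor A B' B)
    (h : Algebra.IsPushout A A₁ B' B'₁) :
    Function.Bijective (QFDual.omegaBC (B₁ := B₁) h) := by
  haveI : Module.Finite A B' := hf.finite
  haveI : Module.FinitePresentation A B' := Module.finitePresentation_of_finite A B'
  let fB'B : B' →ₐ[A] B := IsScalarTower.toAlgHom A B' B
  letI a0 : Algebra (B' ⊗[A] A₁) (B ⊗[A] A₁) :=
    (Algebra.TensorProduct.map fB'B (AlgHom.id A A₁)).toRingHom.toAlgebra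
  haveI t0 : IsScalarTower B' (B' ⊗[A] A₁) (B ⊗[A] A₁) :=
    IsScalarTower.of_algebraMap_eq fun b => by
      show algebraMap B' B b ⊗ₜ[A] (1 : A₁) =
        Algebra.TensorProduct.map fB'B (AlgHom.id A A₁) (b ⊗ₜ[A] (1 : A₁))
      simp [fB'B]
  have bconc : Function.Bijective (QFDual.omegaBC (B₁ := B ⊗[A] A₁)
      (inferInstance : Algebra.IsPushout A A₁ B' (B' ⊗[A] A₁))) :=
    omegaBC_bijective_concrete hf fun x => rfl
  -- comparison maps
  let κ : B ⊗[A] A₁ →ₐ[A] B₁ :=
    Algebra.TensorProduct.productMap (IsScalarTower.toAlgHom A B B₁)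
      (IsScalarTower.toAlgHom A A₁ B₁)
  let ι : B' ⊗[A] A₁ →ₐ[A] B'₁ :=
    Algebra.TensorProduct.productMap (IsScalarTower.toAlgHom A B' B'₁)
      (IsScalarTower.toAlgHom A A₁ B'₁)
  letI aκ : Algebra (B ⊗[A] A₁) B₁ := κ.toRingHom.toAlgebra
  letI aι : Algebra (B' ⊗[A] A₁) B'₁ := ι.toRingHom.toAlgebra
  letI aιB : Algebra (B' ⊗[A] A₁) B₁ := ((algebraMap B'₁ B₁).comp ι.toRingHom).toAlgebra
  haveI s1 : IsScalarTower (B' ⊗[A] A₁) B'₁ B₁ := IsScalarTower.of_algebraMap_eq fun x => rfl
  haveI s2 : IsScalarTower (B' ⊗[A] A₁) (B ⊗[A] A₁) B₁ :=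
    IsScalarTower.of_algebraMap_eq fun x => by
      show algebraMap B'₁ B₁ (ι x) = κ (Algebra.TensorProduct.map fB'B (AlgHom.id A A₁) x)
      induction x using TensorProduct.induction_on with
      | zero => simp
      | tmul b a =>
        simp only [ι, κ, Algebra.TensorProduct.map_tmul,
          Algebra.TensorProduct.productMap_apply_tmul, IsScalarTower.coe_toAlgHom', map_mul,
          AlgHom.coe_id, id_eq, fB'B]
        rw [← IsScalarTower.algebraMap_apply B' B'₁ B₁, ← IsScalarTower.algebraMap_apply A₁ B'₁ B₁,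
          ← IsScalarTower.algebraMap_apply B' B B₁]
      | add x y hx hy => rw [map_add, map_add, map_add, map_add, hx, hy]
  haveI s3 : IsScalarTower B' (B' ⊗[A] A₁) B₁ := IsScalarTower.of_algebraMap_eq fun b => by
    show algebraMap B' B₁ b = algebraMap B'₁ B₁ (ι (b ⊗ₜ[A] (1 : A₁)))
    simp only [ι, Algebra.TensorProduct.productMap_apply_tmul, IsScalarTower.coe_toAlgHom', map_one,
      mul_one]
    rw [← IsScalarTower.algebraMap_apply]
  haveI s4 : IsScalarTower B' (B ⊗[A] A₁) B₁ := IsScalarTower.of_algebraMap_eq fun b => by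
    show algebraMap B' B₁ b = κ (algebraMap B' B b ⊗ₜ[A] (1 : A₁))
    simp only [κ, Algebra.TensorProduct.productMap_apply_tmul, IsScalarTower.coe_toAlgHom', map_one,
      mul_one]
    rw [← IsScalarTower.algebraMap_apply]
  have b0 : Function.Bijective (QFDual.omegaBC (B₁ := B₁)
      (inferInstance : Algebra.IsPushout A A₁ B' (B' ⊗[A] A₁))) :=
    omegaBC_bijective_of_algebra (T := B ⊗[A] A₁) (T' := B₁) _ bconc
  -- the abstract pushout `B'₁` is isomorphic to the concrete one
  haveI hs : Algebra.IsPushout A B' A₁ B'₁ := h.symm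
  have hι : ∀ x, ι x = Algebra.IsPushout.equiv A B' A₁ B'₁ x := by
    intro x
    induction x using TensorProduct.induction_on with
    | zero => simp
    | tmul b a =>
      rw [Algebra.IsPushout.equiv_tmul]
      simp [ι]
    | add x y hx hy => rw [map_add, map_add, hx, hy]
  have hιbij : Function.Bijective ι := by
    have : (ι : _ → _) = (Algebra.IsPushout.equiv A B' A₁ B'₁ : _ → _) := funext hι
    rw [this]
    exact (Algebra.IsPushout.equiv A B' A₁ B'₁).bijective
  haveI s5 : IsScalarTower A₁ (B' ⊗[A] A₁) B'₁ := IsScalarTower.of_algebraMap_eq fun a => by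
    show algebraMap A₁ B'₁ a = ι ((1 : B') ⊗ₜ[A] a)
    simp [ι]
  let ι₁ : B' ⊗[A] A₁ →ₐ[A₁] B'₁ :=
    { ι.toRingHom with
      commutes' := fun a => by
        show ι ((1 : B') ⊗ₜ[A] a) = algebraMap A₁ B'₁ a
        simp [ι] }
  let e : (B' ⊗[A] A₁) ≃ₐ[A₁] B'₁ := AlgEquiv.ofBijective ι₁ hιbij
  have h₁ : Algebra.IsPushout A₁ A₁ (B' ⊗[A] A₁) B'₁ :=
    Algebra.IsPushout.of_equiv (R := A₁) (R' := A₁) (S := B' ⊗[A] A₁) (S' := B' ⊗[A] A₁) e
      (RingHom.ext fun x => rfl)
  have b1 : Function.Bijective (QFDual.omegaBC (B₁ := B₁)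
      (inferInstance : Algebra.IsPushout A A B' B')) :=
    omegaBC_bijective_of_isBaseChange _
      (Groth.Agent.Lib.Helper6.OmegaBC.isBaseChange_toDual _)
  haveI : Module.FinitePresentation A₁ (B' ⊗[A] A₁) :=
    _root_.FinitePresentation.of_isBaseChange _
      (Algebra.IsPushout.out (R := A) (S := A₁) (R' := B') (S' := B' ⊗[A] A₁))
  have b2 : Function.Bijective (QFDual.omegaBC (B₁ := B₁) h₁) :=
    omegaBC_bijective_of_isBaseChange h₁
      (Groth.Agent.Lib.Helper6.OmegaBC.isBaseChange_toDual h₁.out)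
  refine omegaBC_bijective_of_cube' (T := B₁)
    (inferInstance : Algebra.IsPushout A A₁ B' (B' ⊗[A] A₁))
    (inferInstance : Algebra.IsPushout A A B' B') h₁ h ?_ ?_ b0 b1 b2
  · intro b
    show ι (b ⊗ₜ[A] (1 : A₁)) = algebraMap B' B'₁ b
    simp [ι]
  · intro a
    rfl

end Abstract

end Qf

end Groth.Agent.Lib.Helper18.DR
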