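import Mathlib
import Groth.Agent.Lib.Helper18.UqA

/-!
# Lifting freeness of rank one from a fibre (helper18)

* `exists_smul_eq_zero_of_nak`: an elementwise form of Nakayama's lemma at a prime.
* `one_tmul_eq_zero_iff`: the kernel of `X → κ(p) ⊗[A] X`.
* `locRankOne_of_fibre`: a finite `B`-module, flat over `A`, whose fibre over `p` is generated
  freely by the image of `w₀` is free of rank one near every prime of `B` over `p`.
-/

set_option autoImplicit false
set_option linter.style.haveILetI false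
set_option maxHeartbeats 1000000
universe u

namespace Groth.Agent.Lib.Helper18.DR

namespace Qf

open TensorProduct

/-- Elementwise Nakayama at a prime: a finite module `X` with `X_q = q X_q` has `X_q = 0`. -/
theorem exists_smul_eq_zero_of_nak {B : Type*} [CommRing B] (q : Ideal B) [q.IsPrime]
    {X : Type*} [AddCommGroup X] [Module B X] [Module.Finite B X]
    (h : ∀ x : X, ∃ t : B, t ∉ q ∧ t • x ∈ q • (⊤ : Submodule B X)) (x : X) :
    ∃ s : B, s ∉ q ∧ s • x = 0 := by
  let Bq := Localization.AtPrime q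
  let Xq := LocalizedModule q.primeCompl X
  let f : X →ₗ[B] Xq := LocalizedModule.mkLinearMap q.primeCompl X
  let m : Ideal Bq := IsLocalRing.maximalIdeal Bq
  have h1 : q • (⊤ : Submodule B X) ≤
      ((m • (⊤ : Submodule Bq Xq)).restrictScalars B).comap f := by
    refine Submodule.smul_le.mpr fun a ha x' _ => ?_
    show f (a • x') ∈ m • (⊤ : Submodule Bq Xq)
    rw [map_smul, ← algebraMap_smul Bq a (f x')]
    exact Submodule.smul_mem_smul
      ((IsLocalization.AtPrime.to_map_mem_maximal_iff Bq q a).mpr ha) trivial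
  have hunit : ∀ s : B, s ∉ q → ∀ y : Xq, algebraMap B Bq s • y ∈ m • (⊤ : Submodule Bq Xq) →
      y ∈ m • (⊤ : Submodule Bq Xq) := by
    intro s hs y hy
    have hu : IsUnit (algebraMap B Bq s) := IsLocalization.map_units Bq (⟨s, hs⟩ : q.primeCompl)
    obtain ⟨u, hu'⟩ := hu
    have : y = (↑u⁻¹ : Bq) • (algebraMap B Bq s • y) := by
      rw [← hu', smul_smul, Units.inv_mul, one_smul]
    rw [this]
    exact Submodule.smul_mem _ _ hy
  have hle : (⊤ : Submodule Bq Xq) ≤ m • (⊤ : Submodule Bq Xq) := by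
    intro y _
    obtain ⟨⟨x', s⟩, hy⟩ := IsLocalizedModule.surj q.primeCompl f y
    obtain ⟨t, ht, hx⟩ := h x'
    have h2 : f (t • x') ∈ m • (⊤ : Submodule Bq Xq) := h1 hx
    refine hunit s.1 s.2 y ?_
    rw [algebraMap_smul]
    have h3 : (s : B) • y = f x' := hy
    rw [h3]
    refine hunit t ht _ ?_
    rw [algebraMap_smul, ← map_smul]
    exact h2
  have htop : (⊤ : Submodule Bq Xq) = ⊥ :=
    Submodule.eq_bot_of_le_smul_of_le_jacobson_bot m ⊤ Module.Finite.fg_top hle
      (IsLocalRing.maximalIdeal_le_jacobson ⊥)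
  have hz : f x = 0 := by
    have : f x ∈ (⊤ : Submodule Bq Xq) := trivial
    rw [htop] at this
    exact (Submodule.mem_bot Bq).mp this
  obtain ⟨s, hs⟩ := (IsLocalizedModule.eq_zero_iff q.primeCompl f).mp hz
  exact ⟨s.1, s.2, hs⟩

/-- The kernel of `X → κ(p) ⊗[A] X`. -/
theorem one_tmul_eq_zero_iff {A : Type*} [CommRing A] (p : Ideal A) [p.IsPrime]
    {X : Type*} [AddCommGroup X] [Module A X] (x : X) :
    (1 : p.ResidueField) ⊗ₜ[A] x = 0 ↔ ∃ r : A, r ∉ p ∧ r • x ∈ p • (⊤ : Submodule A X) := by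
  let κ := p.ResidueField
  let Y := (A ⧸ p) ⊗[A] X
  let e : κ ⊗[A ⧸ p] Y ≃ₗ[κ] κ ⊗[A] X :=
    TensorProduct.AlgebraTensorModule.cancelBaseChange A (A ⧸ p) κ κ X
  have he : e ((1 : κ) ⊗ₜ[A ⧸ p] ((1 : A ⧸ p) ⊗ₜ[A] x)) = (1 : κ) ⊗ₜ[A] x := by
    rw [TensorProduct.AlgebraTensorModule.cancelBaseChange_tmul, one_smul]
  let f : Y →ₗ[A ⧸ p] κ ⊗[A ⧸ p] Y := TensorProduct.mk (A ⧸ p) κ Y 1
  haveI : IsLocalizedModule (nonZeroDivisors (A ⧸ p)) f :=
    (isLocalizedModule_iff_isBaseChange (nonZeroDivisors (A ⧸ p)) κ f).mpr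
      (TensorProduct.isBaseChange (A ⧸ p) Y κ)
  have hq : ∀ s : A, (Ideal.Quotient.mk p s) ⊗ₜ[A] x = (0 : Y) ↔ s • x ∈ p • (⊤ : Submodule A X) := by
    intro s
    rw [← (TensorProduct.quotTensorEquivQuotSMul X p).map_eq_zero_iff,
      TensorProduct.quotTensorEquivQuotSMul_mk_tmul, Submodule.Quotient.mk_eq_zero]
  rw [← he, e.map_eq_zero_iff]
  show f ((1 : A ⧸ p) ⊗ₜ[A] x) = 0 ↔ _
  rw [IsLocalizedModule.eq_zero_iff (nonZeroDivisors (A ⧸ p)) f]
  constructor
  · rintro ⟨⟨s', hs'⟩, hs⟩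
    obtain ⟨s, rfl⟩ := Ideal.Quotient.mk_surjective s'
    refine ⟨s, fun hsp => ?_, ?_⟩
    · have : Ideal.Quotient.mk p s = 0 := Ideal.Quotient.eq_zero_iff_mem.mpr hsp
      exact (nonZeroDivisors.ne_zero hs') this
    · rw [← hq]
      have h2 : (Ideal.Quotient.mk p s) • ((1 : A ⧸ p) ⊗ₜ[A] x) = (0 : Y) := hs
      rwa [TensorProduct.smul_tmul', smul_eq_mul, mul_one] at h2
  · rintro ⟨r, hr, hrx⟩
    have hne : Ideal.Quotient.mk p r ≠ 0 := fun h => hr (Ideal.Quotient.eq_zero_iff_mem.mp h)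
    refine ⟨⟨Ideal.Quotient.mk p r, mem_nonZeroDivisors_of_ne_zero hne⟩, ?_⟩
    show (Ideal.Quotient.mk p r) • ((1 : A ⧸ p) ⊗ₜ[A] x) = (0 : Y)
    rw [TensorProduct.smul_tmul', smul_eq_mul, mul_one]
    exact (hq r).mpr hrx

/-- Lifting local freeness of rank one from the fibre: the criterion. -/
theorem locRankOne_of_fibre {A B : Type*} [CommRing A] [CommRing B] [Algebra A B]
    [IsNoetherianRing B] {M : Type*} [AddCommGroup M] [Module B M] [Module A M]
    [IsScalarTower A B M] [Module.Finite B M] [Module.Flat A M]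
    (q : Ideal B) [q.IsPrime] (p : Ideal A)
    (hp : ∀ r : A, r ∉ p → algebraMap A B r ∉ q) (hpq : ∀ r ∈ p, algebraMap A B r ∈ q)
    (w₀ : M)
    (hG : ∀ w : M, ∃ r : A, r ∉ p ∧ ∃ b : B, r • w - b • w₀ ∈ p • (⊤ : Submodule A M))
    (hI : ∀ b : B, b • w₀ ∈ p • (⊤ : Submodule A M) →
      ∃ r : A, r ∉ p ∧ r • b ∈ p • (⊤ : Submodule A B)) :
    Uq.LocRankOne M q := by
  -- `pM ⊆ qM`
  have hpM : ∀ z ∈ p • (⊤ : Submodule A M), z ∈ q • (⊤ : Submodule B M) := by
    intro z hz
    refine Submodule.smul_induction_on hz ?_ ?_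
    · intro α hα m _
      rw [← algebraMap_smul B α m]
      exact Submodule.smul_mem_smul (hpq α hα) trivial
    · intro x y hx hy
      exact add_mem hx hy
  -- generation
  have hgen : ∀ w : M, ∃ s : B, s ∉ q ∧ ∃ a : B, s • w = a • w₀ := by
    let W : Submodule B M := Submodule.span B {w₀}
    have hw₀ : W.mkQ w₀ = 0 :=
      (Submodule.Quotient.mk_eq_zero W).mpr (Submodule.mem_span_singleton_self w₀)
    have hN := exists_smul_eq_zero_of_nak (B := B) q (X := M ⧸ W) (fun x => by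
      obtain ⟨w, rfl⟩ := W.mkQ_surjective x
      obtain ⟨r, hr, b, hrb⟩ := hG w
      refine ⟨algebraMap A B r, hp r hr, ?_⟩
      have h1 : algebraMap A B r • W.mkQ w = W.mkQ (r • w - b • w₀) := by
        rw [← algebraMap_smul B r w, map_sub, map_smul, map_smul, hw₀, smul_zero, sub_zero]
      rw [h1]
      have h2 := hpM _ hrb
      have h3 : W.mkQ (r • w - b • w₀) ∈ (q • (⊤ : Submodule B M)).map W.mkQ :=
        Submodule.mem_map_of_mem h2
      rw [Submodule.map_smul''] at h3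
      exact Submodule.smul_mono (le_refl q) le_top h3)
    intro w
    obtain ⟨s, hs, hsw⟩ := hN (W.mkQ w)
    refine ⟨s, hs, ?_⟩
    rw [← map_smul, Submodule.mkQ_apply, Submodule.Quotient.mk_eq_zero] at hsw
    obtain ⟨a, ha⟩ := Submodule.mem_span_singleton.mp hsw
    exact ⟨a, ha.symm⟩
  refine ⟨w₀, hgen, ?_⟩
  -- the annihilator of `w₀`
  let K : Ideal B := LinearMap.ker (LinearMap.toSpanSingleton B M w₀)
  have hK : ∀ b : B, b ∈ K ↔ b • w₀ = 0 := fun b => by
    show LinearMap.toSpanSingleton B M w₀ b = 0 ↔ _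
    rw [LinearMap.toSpanSingleton_apply]
  haveI : Module.Finite B K := Module.Finite.iff_fg.mpr (IsNoetherian.noetherian K)
  have hN := exists_smul_eq_zero_of_nak (B := B) q (X := K) (fun k => by
    obtain ⟨b, hb⟩ := k
    have hb0 : b • w₀ = 0 := (hK b).mp hb
    obtain ⟨r₁, hr₁, hrb⟩ := hI b (by rw [hb0]; exact zero_mem _)
    have hspan : (⊤ : Submodule A B) = Submodule.span A (Set.range (id : B → B)) := by
      rw [Set.range_id, Submodule.span_univ]
    rw [hspan, Submodule.mem_ideal_smul_span_iff_exists_sum] at hrb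
    obtain ⟨a, ha, hsum⟩ := hrb
    -- the relation
    let ι := a.support
    let f : ι → A := fun i => a i.1
    let x : ι → M := fun i => (i.1 : B) • w₀
    have hsum' : ∑ i : ι, f i • (i.1 : B) = r₁ • b := by
      rw [← hsum, Finsupp.sum]
      exact Finset.sum_coe_sort a.support (fun i => a i • (id i : B))
    have hrel : ∑ i : ι, f i • x i = 0 := by
      have : ∑ i : ι, f i • x i = (∑ i : ι, f i • (i.1 : B)) • w₀ := by
        rw [Finset.sum_smul]
        refine Finset.sum_congr rfl fun i _ => ?_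
        rw [smul_assoc]
      rw [this, hsum', smul_assoc, hb0, smul_zero]
    obtain ⟨k, a', y, hxy, hfa⟩ := Module.Flat.isTrivialRelation_of_sum_smul_eq_zero hrel
    choose sj hsj dj hdj using fun j => hgen (y j)
    let s : B := ∏ j, sj j
    have hs : s ∉ q := by
      intro hmem
      obtain ⟨j, -, hj⟩ := (Ideal.IsPrime.prod_mem_iff).mp hmem
      exact hsj j hj
    let d' : Fin k → B := fun j => (∏ l ∈ Finset.univ.erase j, sj l) * dj j
    have hd' : ∀ j, s • y j = d' j • w₀ := by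
      intro j
      have : s = (∏ l ∈ Finset.univ.erase j, sj l) * sj j :=
        (Finset.prod_erase_mul Finset.univ sj (Finset.mem_univ j)).symm
      rw [this, mul_smul, hdj j, ← mul_smul]
    let kk : ι → B := fun i => s * (i.1 : B) - ∑ j, algebraMap A B (a' i j) * d' j
    have hkk : ∀ i, kk i ∈ K := by
      intro i
      rw [hK]
      show (s * (i.1 : B) - ∑ j, algebraMap A B (a' i j) * d' j) • w₀ = 0
      have hxi : (i.1 : B) • w₀ = ∑ j, a' i j • y j := hxy i
      rw [sub_smul, mul_smul, hxi, Finset.smul_sum, Finset.sum_smul, sub_eq_zero]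
      refine Finset.sum_congr rfl fun j _ => ?_
      rw [mul_smul, ← hd' j, algebraMap_smul, smul_comm]
    refine ⟨s * algebraMap A B r₁, ?_, ?_⟩
    · intro hmem
      rcases Ideal.IsPrime.mem_or_mem inferInstance hmem with h | h
      · exact hs h
      · exact hp r₁ hr₁ h
    · have hmain : s * algebraMap A B r₁ * b = ∑ i : ι, algebraMap A B (f i) * kk i := by
        have h1 : s * algebraMap A B r₁ * b = s * (r₁ • b) := by
          rw [Algebra.smul_def]; ring
        have h2 : ∑ i : ι, algebraMap A B (f i) * kk i =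
            s * (∑ i : ι, f i • (i.1 : B)) -
              ∑ j, algebraMap A B (∑ i : ι, f i * a' i j) * d' j := by
          simp only [kk, mul_sub, Finset.mul_sum, Finset.sum_sub_distrib, Algebra.smul_def,
            map_sum, map_mul, Finset.sum_mul]
          congr 1
          · refine Finset.sum_congr rfl fun i _ => ?_
            ring
          · rw [Finset.sum_comm]
            refine Finset.sum_congr rfl fun j _ => Finset.sum_congr rfl fun i _ => ?_
            ring
        rw [h1, h2, hsum']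
        simp only [hfa, map_zero, zero_mul, Finset.sum_const_zero, sub_zero]
      have heq : (s * algebraMap A B r₁) • (⟨b, hb⟩ : K) =
          ∑ i : ι, algebraMap A B (f i) • (⟨kk i, hkk i⟩ : K) := by
        apply Subtype.ext
        rw [Submodule.coe_smul, Submodule.coe_sum]
        simp only [Submodule.coe_smul, smul_eq_mul]
        exact hmain
      rw [heq]
      refine Submodule.sum_mem _ fun i _ => ?_
      exact Submodule.smul_mem_smul (hpq _ (ha i.1)) trivial)
  intro b hb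
  obtain ⟨s, hs, hsb⟩ := hN ⟨b, (hK b).mpr hb⟩
  refine ⟨s, hs, ?_⟩
  have := congrArg Subtype.val hsb
  simpa using this

/-- If the fibre of `M` over `p` is free of rank one over the fibre ring, then the hypotheses of
`locRankOne_of_fibre` hold for a suitable `w₀`. -/
theorem exists_fibre_generator {A B B₁ : Type*} [CommRing A] [CommRing B] [CommRing B₁]
    [Algebra A B] (p : Ideal A) [p.IsPrime]
    [Algebra B B₁] [Algebra p.ResidueField B₁] [Algebra A B₁]
    [IsScalarTower A p.ResidueField B₁] [IsScalarTower A B B₁]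
    [Algebra.IsPushout A p.ResidueField B B₁]
    {M : Type*} [AddCommGroup M] [Module B M] [Module A M] [IsScalarTower A B M]
    (θ : B₁ ⊗[B] M ≃ₗ[B₁] B₁) :
    ∃ w₀ : M,
      (∀ w : M, ∃ r : A, r ∉ p ∧ ∃ b : B, r • w - b • w₀ ∈ p • (⊤ : Submodule A M)) ∧
      (∀ b : B, b • w₀ ∈ p • (⊤ : Submodule A M) →
        ∃ r : A, r ∉ p ∧ r • b ∈ p • (⊤ : Submodule A B)) := by
  let κ := p.ResidueField
  let E : κ ⊗[A] B ≃ₐ[κ] B₁ := Algebra.IsPushout.equiv A κ B B₁
  have hE1 : ∀ b : B, E ((1 : κ) ⊗ₜ[A] b) = algebraMap B B₁ b := fun b => by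
    rw [Algebra.IsPushout.equiv_tmul, map_one, one_mul]
  -- (a₀)
  have hB₁ : ∀ β : B₁, ∃ r : A, r ∉ p ∧ ∃ b : B, algebraMap A B₁ r * β = algebraMap B B₁ b := by
    intro β
    obtain ⟨r, hr, b, hx⟩ := Ideal.Fiber.exists_smul_eq_one_tmul p (E.symm β)
    refine ⟨r, hr, b, ?_⟩
    have h1 := congrArg E hx
    rw [hE1, ← algebraMap_smul κ r (E.symm β), map_smul, AlgEquiv.apply_symm_apply,
      Algebra.smul_def, ← IsScalarTower.algebraMap_apply] at h1
    exact h1
  have hsm : ∀ (r : A) (w : M), algebraMap A B₁ r • ((1 : B₁) ⊗ₜ[B] w) = 1 ⊗ₜ (r • w) := by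
    intro r w
    rw [TensorProduct.smul_tmul', smul_eq_mul, mul_one, IsScalarTower.algebraMap_apply A B B₁,
      Algebra.algebraMap_eq_smul_one, TensorProduct.smul_tmul, algebraMap_smul]
  have hsmB : ∀ (b : B) (w : M), algebraMap B B₁ b • ((1 : B₁) ⊗ₜ[B] w) = 1 ⊗ₜ (b • w) := by
    intro b w
    rw [TensorProduct.smul_tmul', smul_eq_mul, mul_one,
      Algebra.algebraMap_eq_smul_one, TensorProduct.smul_tmul]
  -- (a)
  have hN : ∀ n : B₁ ⊗[B] M, ∃ r : A, r ∉ p ∧ ∃ w : M,
      algebraMap A B₁ r • n = (1 : B₁) ⊗ₜ[B] w := by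
    intro n
    induction n using TensorProduct.induction_on with
    | zero => exact ⟨1, fun h => (Ideal.ne_top_iff_one p).mp (Ideal.IsPrime.ne_top inferInstance) h,
        0, by rw [smul_zero, TensorProduct.tmul_zero]⟩
    | tmul β m =>
      obtain ⟨r, hr, b, hb⟩ := hB₁ β
      refine ⟨r, hr, b • m, ?_⟩
      rw [TensorProduct.smul_tmul', smul_eq_mul, hb, Algebra.algebraMap_eq_smul_one,
        TensorProduct.smul_tmul]
    | add x y hx hy =>
      obtain ⟨r₁, hr₁, w₁, h₁⟩ := hx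
      obtain ⟨r₂, hr₂, w₂, h₂⟩ := hy
      refine ⟨r₁ * r₂, fun h => ?_, r₂ • w₁ + r₁ • w₂, ?_⟩
      · rcases Ideal.IsPrime.mem_or_mem inferInstance h with h | h
        · exact hr₁ h
        · exact hr₂ h
      · rw [smul_add, map_mul, TensorProduct.tmul_add, ← hsm, ← hsm, ← h₁, ← h₂, mul_smul,
          mul_comm, mul_smul]
        rw [smul_comm (algebraMap A B₁ r₁) (algebraMap A B₁ r₂) x,
          smul_comm (algebraMap A B₁ r₁) (algebraMap A B₁ r₂) y]
  -- (b)
  have hker : ∀ w : M, (1 : B₁) ⊗ₜ[B] w = 0 ↔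
      ∃ r : A, r ∉ p ∧ r • w ∈ p • (⊤ : Submodule A M) := by
    intro w
    rw [← one_tmul_eq_zero_iff p w,
      ← (Algebra.IsPushout.cancelBaseChange A κ B B₁ M).map_eq_zero_iff,
      Algebra.IsPushout.cancelBaseChange_tmul]
  -- (b₀)
  have hkerB : ∀ b : B, algebraMap B B₁ b = 0 →
      ∃ r : A, r ∉ p ∧ r • b ∈ p • (⊤ : Submodule A B) := by
    intro b hb
    have h1 := hE1 b
    rw [hb] at h1
    exact (one_tmul_eq_zero_iff p b).mp (E.injective (by rw [h1, map_zero]))
  -- the generator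
  obtain ⟨r₀, hr₀, w₀, h₀⟩ := hN (θ.symm 1)
  have hu₀ : IsUnit (algebraMap A B₁ r₀) := by
    rw [IsScalarTower.algebraMap_apply A κ B₁]
    refine IsUnit.map _ (IsUnit.mk0 _ fun h => hr₀ ?_)
    exact Ideal.algebraMap_residueField_eq_zero.mp h
  have hθ₀ : θ ((1 : B₁) ⊗ₜ[B] w₀) = algebraMap A B₁ r₀ := by
    rw [← h₀, map_smul, LinearEquiv.apply_symm_apply, smul_eq_mul, mul_one]
  obtain ⟨u, hu⟩ := hu₀
  refine ⟨w₀, fun w => ?_, fun b hb => ?_⟩
  · let β' : B₁ := θ ((1 : B₁) ⊗ₜ[B] w) * ↑u⁻¹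
    have h1 : (1 : B₁) ⊗ₜ[B] w = β' • ((1 : B₁) ⊗ₜ[B] w₀) := by
      apply θ.injective
      rw [map_smul, hθ₀, ← hu, smul_eq_mul, mul_assoc, Units.inv_mul, mul_one]
    obtain ⟨r, hr, b, hb⟩ := hB₁ β'
    have h2 : (1 : B₁) ⊗ₜ[B] (r • w - b • w₀) = 0 := by
      rw [TensorProduct.tmul_sub, ← hsm, ← hsmB, h1, ← mul_smul, hb, sub_self]
    obtain ⟨r', hr', hmem⟩ := (hker _).mp h2
    refine ⟨r' * r, fun h => ?_, r' • b, ?_⟩
    · rcases Ideal.IsPrime.mem_or_mem inferInstance h with h | h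
      · exact hr' h
      · exact hr h
    · have : (r' * r) • w - (r' • b) • w₀ = r' • (r • w - b • w₀) := by
        rw [smul_sub, mul_smul, smul_assoc]
      rw [this]
      exact hmem
  · have h1 : (1 : B₁) ⊗ₜ[B] (b • w₀) = 0 :=
      (hker _).mpr ⟨1, fun h => (Ideal.ne_top_iff_one p).mp (Ideal.IsPrime.ne_top inferInstance) h,
        by rwa [one_smul]⟩
    have h2 := congrArg θ h1
    rw [← hsmB, map_smul, hθ₀, map_zero, smul_eq_mul, ← hu] at h2
    exact hkerB b (u.mul_left_eq_zero.mp h2)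

end Qf

end Groth.Agent.Lib.Helper18.DR
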