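import Mathlib
import Groth.Prelude.Def_QFDual
import Groth.Agent.Lib.Helper18.QfH
import Groth.Agent.Lib.Helper18.QfE
import Groth.Agent.Lib.Helper18.QfI

/-!
# Invertibility of the relative dualizing module is a fibrewise condition (helper18)
-/

set_option autoImplicit false
set_option linter.style.haveILetI false
set_option maxHeartbeats 2000000
universe u

namespace Groth.Agent.Lib.Helper18.DR

namespace Qf

open TensorProduct

attribute [local instance] Algebra.TensorProduct.rightAlgebra

/-- `Hom_A(B', A)` is a finite `B'`-module when `A` is Noetherian and `B'` is finite. -/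
theorem finite_omega (A B' : Type u) [CommRing A] [CommRing B'] [Algebra A B']
    [IsNoetherianRing A] [Module.Finite A B'] : Module.Finite B' (Disc.Omega A B') := by
  letI : Module A (Disc.Omega A B') := Module.compHom _ (algebraMap A B')
  haveI : IsScalarTower A B' (Disc.Omega A B') :=
    IsScalarTower.of_algebraMap_smul fun _ _ => rfl
  let e : Disc.Omega A B' ≃ₗ[A] (B' →ₗ[A] A) :=
    { toFun := fun ψ => ψ.toLinearMap
      invFun := fun f => ⟨f⟩
      map_add' := fun _ _ => rfl
      map_smul' := fun a ψ => by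
        ext c
        rw [RingHom.id_apply]
        show ψ.toLinearMap (algebraMap A B' a * c) = a • ψ.toLinearMap c
        rw [← Algebra.smul_def, map_smul]
      left_inv := fun _ => rfl
      right_inv := fun _ => rfl }
  haveI : Module.Finite A (Disc.Omega A B') := Module.Finite.equiv e.symm
  exact Module.Finite.of_restrictScalars_finite A B' _

section

variable (A B' B : Type u) [CommRing A] [CommRing B'] [CommRing B] [IsNoetherianRing A]
  [IsNoetherianRing B] [Algebra A B'] [Algebra B' B] [Algebra A B] [IsScalarTower A B' B]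
  [Module.Flat A B]

theorem invertible_omega_of_fibres (hf : QFDual.IsQFFactor A B' B)
    (H : ∀ (p : Ideal A) [p.IsPrime] (B'₁ B₁ : Type u) [CommRing B'₁] [CommRing B₁]
      [Algebra B' B'₁] [Algebra p.ResidueField B'₁] [Algebra A B'₁]
      [IsScalarTower A p.ResidueField B'₁] [IsScalarTower A B' B'₁] [Algebra B B₁]
      [Algebra p.ResidueField B₁] [Algebra A B₁] [IsScalarTower A p.ResidueField B₁]
      [IsScalarTower A B B₁] [Algebra B'₁ B₁] [Algebra B' B₁] [IsScalarTower B' B'₁ B₁]
      [IsScalarTower B' B B₁] [IsScalarTower p.ResidueField B'₁ B₁],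
      Algebra.IsPushout A p.ResidueField B' B'₁ → Algebra.IsPushout A p.ResidueField B B₁ →
      Module.Invertible B₁ (QFDual.omega p.ResidueField B'₁ B₁)) :
    Module.Invertible B (QFDual.omega A B' B) := by
  haveI := finiteType_of_factor hf
  haveI := quasiFinite_of_factor hf
  haveI : Module.Finite A B' := hf.finite
  haveI : Module.Finite B' (Disc.Omega A B') := finite_omega A B'
  haveI : Module.Finite B (B ⊗[B'] Disc.Omega A B') := inferInstance
  haveI : Module.Flat A (B ⊗[B'] Disc.Omega A B') := flat_omega hf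
  refine Uq.invertible_of_locRankOne fun q => ?_
  let p : Ideal A := q.asIdeal.comap (algebraMap A B)
  haveI : p.IsPrime := Ideal.comap_isPrime _ _
  let κ := p.ResidueField
  let fB'B : B' →ₐ[A] B := IsScalarTower.toAlgHom A B' B
  letI a0 : Algebra (κ ⊗[A] B') (κ ⊗[A] B) :=
    (Algebra.TensorProduct.map (AlgHom.id A κ) fB'B).toRingHom.toAlgebra
  letI a1 : Algebra B' (κ ⊗[A] B) :=
    ((algebraMap B (κ ⊗[A] B)).comp (algebraMap B' B)).toAlgebra
  haveI t1 : IsScalarTower B' B (κ ⊗[A] B) := IsScalarTower.of_algebraMap_eq fun _ => rfl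
  haveI t2 : IsScalarTower B' (κ ⊗[A] B') (κ ⊗[A] B) :=
    IsScalarTower.of_algebraMap_eq fun b => by
      show (1 : κ) ⊗ₜ[A] algebraMap B' B b =
        Algebra.TensorProduct.map (AlgHom.id A κ) fB'B ((1 : κ) ⊗ₜ[A] b)
      simp [fB'B]
  haveI t3 : IsScalarTower κ (κ ⊗[A] B') (κ ⊗[A] B) :=
    IsScalarTower.of_algebraMap_eq fun x => by
      show x ⊗ₜ[A] (1 : B) =
        Algebra.TensorProduct.map (AlgHom.id A κ) fB'B (x ⊗ₜ[A] (1 : B'))
      simp
  have i3 : Module.Invertible (κ ⊗[A] B) (QFDual.omega κ (κ ⊗[A] B') (κ ⊗[A] B)) :=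
    H p (κ ⊗[A] B') (κ ⊗[A] B) inferInstance inferInstance
  have hb := omegaBC_bijective_flat (A₁ := κ) (B'₁ := κ ⊗[A] B') (B₁ := κ ⊗[A] B) hf
    (inferInstance : Algebra.IsPushout A κ B' (κ ⊗[A] B'))
  haveI i2 : Module.Invertible (κ ⊗[A] B) ((κ ⊗[A] B) ⊗[B'] Disc.Omega A B') :=
    haveI := i3
    Module.Invertible.congr (LinearEquiv.ofBijective _ hb).symm
  let c := TensorProduct.AlgebraTensorModule.cancelBaseChange B' B (κ ⊗[A] B) (κ ⊗[A] B)
    (Disc.Omega A B')
  haveI i1 : Module.Invertible (κ ⊗[A] B) ((κ ⊗[A] B) ⊗[B] (B ⊗[B'] Disc.Omega A B')) :=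
    Module.Invertible.congr c.symm
  haveI : IsArtinianRing (κ ⊗[A] B) :=
    inferInstanceAs (IsArtinianRing (p.Fiber B))
  haveI : Module.Free (κ ⊗[A] B) ((κ ⊗[A] B) ⊗[B] (B ⊗[B'] Disc.Omega A B')) := inferInstance
  obtain ⟨θ⟩ := Module.Invertible.free_iff_linearEquiv.mp this
  obtain ⟨w₀, hG, hI⟩ := exists_fibre_generator (B₁ := κ ⊗[A] B) p θ
  exact locRankOne_of_fibre q.asIdeal p (fun r hr => hr) (fun r hr => hr) w₀ hG hI

theorem invertible_fibres_of_invertible (hf : QFDual.IsQFFactor A B' B)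
    [Module.Invertible B (QFDual.omega A B' B)]
    (p : Ideal A) [p.IsPrime] (B'₁ B₁ : Type u) [CommRing B'₁] [CommRing B₁]
    [Algebra B' B'₁] [Algebra p.ResidueField B'₁] [Algebra A B'₁]
    [IsScalarTower A p.ResidueField B'₁] [IsScalarTower A B' B'₁] [Algebra B B₁]
    [Algebra p.ResidueField B₁] [Algebra A B₁] [IsScalarTower A p.ResidueField B₁]
    [IsScalarTower A B B₁] [Algebra B'₁ B₁] [Algebra B' B₁] [IsScalarTower B' B'₁ B₁]
    [IsScalarTower B' B B₁] [IsScalarTower p.ResidueField B'₁ B₁]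
    (h : Algebra.IsPushout A p.ResidueField B' B'₁) :
    Module.Invertible B₁ (QFDual.omega p.ResidueField B'₁ B₁) := by
  haveI i1 : Module.Invertible B₁ (B₁ ⊗[B] (B ⊗[B'] Disc.Omega A B')) := inferInstance
  let c := TensorProduct.AlgebraTensorModule.cancelBaseChange B' B B₁ B₁ (Disc.Omega A B')
  haveI i2 : Module.Invertible B₁ (B₁ ⊗[B'] Disc.Omega A B') := Module.Invertible.congr c
  have hb := omegaBC_bijective_flat (B₁ := B₁) hf h
  exact Module.Invertible.congr (LinearEquiv.ofBijective (QFDual.omegaBC (B₁ := B₁) h) hb)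

end

end Qf

end Groth.Agent.Lib.Helper18.DR
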