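import Mathlib
import Groth.Prelude.Def_RegImm
import Groth.Prelude.Def_QFDual
import Groth.Agent.Lib.Helper4.CIZero
import Groth.Agent.Lib.Helper12.DimFT

/-!
# Finite local complete intersections over a field are Gorenstein (helper18)
-/

set_option autoImplicit false
set_option linter.style.haveILetI false
set_option maxHeartbeats 1000000
universe u

namespace Groth.Agent.Lib.Helper18.DR

namespace Qf

open TensorProduct

/-- The Gorenstein property at a prime can be checked on a basic open neighbourhood. -/
theorem gor_atPrime_of_away {S : Type u} [CommRing S] (P : Ideal S) [P.IsPrime] (g : S)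
    (hg : g ∉ P) (hD : LocCoh.IsGorensteinRing (Localization.Away g)) :
    LocCoh.IsGorensteinLocalRing (Localization.AtPrime P) := by
  let D := Localization.Away g
  have hdisj : Disjoint (Submonoid.powers g : Set S) (P : Set S) := by
    rw [Set.disjoint_left]
    rintro x ⟨n, rfl⟩ hx
    exact hg (Ideal.IsPrime.mem_of_pow_mem inferInstance n hx)
  let Q : Ideal D := P.map (algebraMap S D)
  haveI hQ : Q.IsPrime :=
    IsLocalization.isPrime_of_isPrime_disjoint (Submonoid.powers g) D P inferInstance hdisj
  have hQP : Q.comap (algebraMap S D) = P :=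
    IsLocalization.comap_map_of_isPrime_disjoint (Submonoid.powers g) D inferInstance hdisj
  haveI : IsLocalization.AtPrime (Localization.AtPrime Q) (Q.comap (algebraMap S D)) :=
    IsLocalization.isLocalization_isLocalization_atPrime_isLocalization (Submonoid.powers g)
      (Localization.AtPrime Q) Q
  have e : Localization.AtPrime (Q.comap (algebraMap S D)) ≃ₐ[S] Localization.AtPrime Q :=
    IsLocalization.algEquiv (Q.comap (algebraMap S D)).primeCompl _ _
  have h1 : LocCoh.IsGorensteinLocalRing (Localization.AtPrime Q) :=
    hD.isGorensteinLocalRing_localization Q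
  have h2 : LocCoh.IsGorensteinLocalRing (Localization.AtPrime (Q.comap (algebraMap S D))) :=
    Groth.Agent.Lib.Helper4.GorFlat.gor_of_ringEquiv e.symm.toRingEquiv h1
  exact (Groth.Agent.Lib.Helper4.GorRing.gor_atPrime_congr _ _ hQP).mp h2

/-- A zero-dimensional complete intersection `k[x_1..x_n]/(f_1..f_n)` is a Gorenstein ring
(this is the first half of helper4's proof of S8935). -/
theorem gorRing_of_dim_zero_ci (k : Type u) [Field k] (n : ℕ)
    (f : Fin n → MvPolynomial (Fin n) k)
    (h0 : ringKrullDim (MvPolynomial (Fin n) k ⧸ Ideal.span (Set.range f)) = 0) :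
    LocCoh.IsGorensteinRing (MvPolynomial (Fin n) k ⧸ Ideal.span (Set.range f)) := by
  classical
  haveI hnt : Nontrivial (MvPolynomial (Fin n) k ⧸ Ideal.span (Set.range f)) := by
    by_contra hcon
    rw [not_nontrivial_iff_subsingleton] at hcon
    rw [ringKrullDim_eq_bot_of_subsingleton] at h0
    exact absurd h0 (by simp)
  haveI hK : Ring.KrullDimLE 0 (MvPolynomial (Fin n) k ⧸ Ideal.span (Set.range f)) :=
    ringKrullDimZero_iff_ringKrullDim_eq_zero.mpr h0
  have hht : (n : ℕ∞) ≤ (Ideal.span (Set.range f)).height := by
    rw [Ideal.height_eq_inf_minimalPrimes]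
    refine le_iInf₂ fun J hJ => ?_
    haveI hJp : J.IsPrime := hJ.1.1
    have hIJ : Ideal.span (Set.range f) ≤ J := hJ.1.2
    haveI hJm : J.IsMaximal := by
      haveI h1 : (J.map (Ideal.Quotient.mk (Ideal.span (Set.range f)))).IsPrime :=
        Ideal.map_isPrime_of_surjective Ideal.Quotient.mk_surjective
          (by rw [Ideal.mk_ker]; exact hIJ)
      have h2 : (J.map (Ideal.Quotient.mk (Ideal.span (Set.range f)))).IsMaximal :=
        Ideal.isMaximal_of_isPrime _
      have h3 : J = (J.map (Ideal.Quotient.mk (Ideal.span (Set.range f)))).comap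
          (Ideal.Quotient.mk (Ideal.span (Set.range f))) := by
        rw [Ideal.comap_map_of_surjective _ Ideal.Quotient.mk_surjective,
          ← RingHom.ker_eq_comap_bot, Ideal.mk_ker, sup_eq_left.mpr hIJ]
      rw [h3]
      exact Ideal.comap_isMaximal_of_surjective _ Ideal.Quotient.mk_surjective
    have hd : ringKrullDim (MvPolynomial (Fin n) k) = n := by
      rw [MvPolynomial.ringKrullDim_of_isNoetherianRing, ringKrullDim_eq_zero_of_field, zero_add]
      simp
    exact (Groth.Agent.Lib.Helper12.DimFT.height_eq_of_isMaximal k _ n hd J).ge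
  exact Groth.Agent.Lib.Helper4.CIZero.gorRing_quotient_of_height
    (MvPolynomial (Fin n) k) n f hht

/-- A finite-dimensional algebra over a field which is a local complete intersection is a
Gorenstein ring. -/
theorem gorRing_of_lci_finite (k : Type u) [Field k] (S : Type u) [CommRing S] [Algebra k S]
    [Module.Finite k S] (h : Synt.IsLCIOver k S) : LocCoh.IsGorensteinRing S := by
  haveI : IsArtinianRing S := IsArtinianRing.of_finite k S
  haveI : IsNoetherianRing S := inferInstance
  refine { isGorensteinLocalRing_localization := fun P _ => ?_ }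
  obtain ⟨g, hg, hci⟩ := h.2 ⟨P, inferInstance⟩
  refine gor_atPrime_of_away P g hg ?_
  let D := Localization.Away g
  -- `D` is nontrivial
  have hdisj : Disjoint (Submonoid.powers g : Set S) (P : Set S) := by
    rw [Set.disjoint_left]
    rintro x ⟨n, rfl⟩ hx
    exact hg (Ideal.IsPrime.mem_of_pow_mem inferInstance n hx)
  haveI hQ : (P.map (algebraMap S D)).IsPrime :=
    IsLocalization.isPrime_of_isPrime_disjoint (Submonoid.powers g) D P inferInstance hdisj
  haveI hnt : Nontrivial D := by
    by_contra hcon
    rw [not_nontrivial_iff_subsingleton] at hcon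
    exact hQ.ne_top (Subsingleton.elim _ _)
  -- `D` is Artinian, hence of dimension zero
  have hsurj : Function.Surjective (algebraMap S D) :=
    IsArtinianRing.localization_surjective (Submonoid.powers g) D
  haveI : IsArtinianRing D := hsurj.isArtinianRing
  have hdim0 : ringKrullDim D = 0 := ringKrullDimZero_iff_ringKrullDim_eq_zero.mp inferInstance
  rcases hci with hsub | ⟨n, c, hcn, φ, r, hφ, hker, hdim⟩
  · exact absurd hsub (not_subsingleton D)
  · have hnc : n - c = 0 := by
      rw [hdim0] at hdim
      have : ((n - c : ℕ) : WithBot ℕ∞) = ((0 : ℕ) : WithBot ℕ∞) := by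
        rw [← hdim]; rfl
      exact_mod_cast this
    obtain rfl : c = n := by omega
    let I : Ideal (MvPolynomial (Fin c) k) := Ideal.span (Set.range r)
    have hker' : RingHom.ker φ = I := hker
    let e : (MvPolynomial (Fin c) k ⧸ I) ≃ₐ[k] D :=
      (Ideal.quotientEquivAlgOfEq k hker'.symm).trans
        (Ideal.quotientKerAlgEquivOfSurjective hφ)
    have h0 : ringKrullDim (MvPolynomial (Fin c) k ⧸ I) = 0 := by
      rw [ringKrullDim_eq_of_ringEquiv e.toRingEquiv, hdim0]
    exact Groth.Agent.Lib.Helper4.GorRing.gorRing_of_ringEquiv e.toRingEquiv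
      (gorRing_of_dim_zero_ci k c r h0)

end Qf

end Groth.Agent.Lib.Helper18.DR
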