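import Mathlib
import Groth.Prelude.Def_RegImm
import Groth.Prelude.Def_QFDual
import Groth.Agent.Lib.Helper18.QfJ
import Groth.Agent.Lib.Helper18.QfK

/-!
# A quasi-finite syntomic map has an invertible relative dualizing module (helper18)
-/

set_option autoImplicit false
set_option linter.style.haveILetI false
set_option maxHeartbeats 2000000
universe u

namespace Groth.Agent.Lib.Helper18.DR

namespace Qf

open TensorProduct AlgebraicGeometry CategoryTheory

/-- Over a field: if `B₁` is a finite-dimensional Gorenstein algebra which is open in the spectrum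
of `B'₁`, then `B₁ ⊗[B'₁] Hom_k(B'₁, k)` is free of rank one. -/
theorem invertible_omega_of_gor (k B'₁ B₁ : Type u) [Field k] [CommRing B'₁] [CommRing B₁]
    [Algebra k B'₁] [Algebra B'₁ B₁] [Algebra k B₁] [IsScalarTower k B'₁ B₁]
    [Module.Finite k B₁]
    (hoi : IsOpenImmersion (Spec.map (CommRingCat.ofHom (algebraMap B'₁ B₁))))
    (hG : LocCoh.IsGorensteinRing B₁) :
    Module.Invertible B₁ (QFDual.omega k B'₁ B₁) := by
  haveI : Module.Finite B'₁ B₁ := Module.Finite.of_restrictScalars_finite k B'₁ B₁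
  obtain ⟨hπ, ε, hε, hker⟩ := surjective_and_ker_of_finite_openImm hoi
  have hb := PsiT_bijective (R := k) (S' := B'₁) (C := B₁) (T := B₁) hπ ε hker hε
  obtain ⟨e, he⟩ := Groth.Agent.Lib.Helper4.Frob.exists_nondeg k B₁ hG
  obtain ⟨θ⟩ := Groth.Agent.Lib.Helper4.Frob.equiv_of_nondeg k B₁ e he
  let E : B₁ ≃ₗ[B₁] B₁ ⊗[B'₁] Disc.Omega k B'₁ :=
    θ ≪≫ₗ (TensorProduct.lid B₁ (Disc.Omega k B₁)).symm ≪≫ₗ LinearEquiv.ofBijective _ hb
  exact Module.Invertible.congr E

theorem invertible_omega_of_syntomic (A B' B : Type u) [CommRing A] [CommRing B'] [CommRing B]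
    [IsNoetherianRing A] [Algebra A B'] [Algebra B' B] [Algebra A B] [IsScalarTower A B' B]
    (hf : QFDual.IsQFFactor A B' B) (hs : Synt.IsSyntomic A B) :
    Module.Invertible B (QFDual.omega A B' B) := by
  obtain ⟨hflat, hfp, hlci⟩ := hs
  haveI := hflat
  haveI := finiteType_of_factor hf
  haveI : IsNoetherianRing B := isNoetherianRing_of_factor hf
  haveI := quasiFinite_of_factor hf
  refine invertible_omega_of_fibres A B' B hf ?_
  intro p _ B'₁ B₁ _ _ _ _ _ _ _ _ _ _ _ _ _ _ _ _ _ h hB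
  let κ := p.ResidueField
  haveI := hB
  let E : p.Fiber B ≃ₐ[κ] B₁ := Algebra.IsPushout.equiv A κ B B₁
  haveI : Module.Finite κ B₁ := Module.Finite.equiv E.toLinearEquiv
  have hG0 : LocCoh.IsGorensteinRing (p.Fiber B) :=
    gorRing_of_lci_finite κ (p.Fiber B) (hlci ⟨p, inferInstance⟩)
  have hG : LocCoh.IsGorensteinRing B₁ :=
    Groth.Agent.Lib.Helper4.GorRing.gorRing_of_ringEquiv E.toRingEquiv hG0
  haveI : IsScalarTower A B'₁ B₁ := IsScalarTower.of_algebraMap_eq fun a => by
    rw [IsScalarTower.algebraMap_apply A κ B₁, IsScalarTower.algebraMap_apply κ B'₁ B₁,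
      ← IsScalarTower.algebraMap_apply A κ B'₁]
  haveI : Algebra.IsPushout A B' κ B'₁ := h.symm
  haveI : Algebra.IsPushout B' B B'₁ B₁ :=
    (Algebra.IsPushout.comp_iff A B' κ B'₁ (T := B) (T' := B₁)).mp hB.symm
  have hoi := openImm_of_isPushout (S' := B'₁) (S := B₁) hf.isOpenImmersion
  exact invertible_omega_of_gor κ B'₁ B₁ hoi hG

end Qf

end Groth.Agent.Lib.Helper18.DR
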