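import Mathlib
import Groth.Agent.Lib.Helper18.RelInvE

/-!
# `RHom(A, -) ≅ - ⊗^L_R N[-1]` for `R → A` surjective with invertible kernel: conclusion (helper18)
-/

set_option autoImplicit false
set_option linter.style.haveILetI false
universe u
open CategoryTheory CategoryTheory.Limits CategoryTheory.Pretriangulated MonoidalCategory

attribute [local instance] HasDerivedCategory.standard

namespace Groth.Agent.Lib.Helper18.DR

namespace RelInv

open Coext CoextHom DTen RelDual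

variable {R A : Type u} [CommRing R] [CommRing A] (φ : R →+* A) (hφ : Function.Surjective φ)
  [Module.Invertible R (RingHom.ker φ)]

include hφ in
/-- `Q(Hom_R(A, J)) ≅ N[-1]` in `D(A)` -/
theorem nonempty_Q_coext_iso_Sg (J : DRing.Cx R) (hJ : DRing.TermwiseInjective J)
    (ι : 𝟙_ (DRing.Cx R) ⟶ J) [QuasiIso ι] (N : ModuleCat.{u} A)
    (eN : (DTen.resM φ).obj N ≅ (homM (IM φ)).obj (AR φ)) :
    Nonempty (DerivedCategory.Q.obj ((coextCx φ).obj J) ≅ Sg 1 N) := by
  obtain ⟨i₁⟩ := nonempty_res_coext_iso φ hφ J hJ ι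
  let K : Dual.D A := DerivedCategory.Q.obj ((coextCx φ).obj J)
  let i₀ : (DRing.restrictD φ).obj K ≅ Sg 1 ((homM (IM φ)).obj (AR φ)) :=
    (resFactors φ).app ((coextCx φ).obj J) ≪≫ i₁
  have hz : ∀ i : ℤ, i ≠ 1 → IsZero ((H A i).obj K) := by
    intro i hi
    apply isZero_of_isZero_res φ
    refine IsZero.of_iso ?_ (homologyRestrictIso φ K i).symm
    refine IsZero.of_iso ?_ ((H R i).mapIso i₀)
    rcases lt_or_gt_of_ne hi with h | h
    · exact DerivedCategory.isZero_of_isGE _ 1 i h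
    · exact DerivedCategory.isZero_of_isLE _ 1 i h
  haveI : K.IsGE 1 := by
    rw [DerivedCategory.isGE_iff]
    intro i hi
    exact hz i (by omega)
  haveI : K.IsLE 1 := by
    rw [DerivedCategory.isLE_iff]
    intro i hi
    exact hz i (by omega)
  obtain ⟨X, ⟨eX⟩⟩ := DerivedCategory.exists_iso_singleFunctor_obj_of_isGE_of_isLE K 1
  have e1 : (DTen.resM φ).obj X ≅ (DTen.resM φ).obj N :=
    (DTen.resM φ).mapIso
        ((DerivedCategory.singleFunctorCompHomologyFunctorIso (ModuleCat.{u} A) 1).app X).symm ≪≫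
      (DTen.resM φ).mapIso ((H A 1).mapIso eX.symm) ≪≫
      (homologyRestrictIso φ K 1).symm ≪≫ (H R 1).mapIso i₀ ≪≫
      (DerivedCategory.singleFunctorCompHomologyFunctorIso (ModuleCat.{u} R) 1).app _ ≪≫ eN.symm
  exact ⟨eX ≪≫ (DerivedCategory.singleFunctor (ModuleCat.{u} A) 1).mapIso (isoOfResIso φ hφ e1)⟩

include hφ in
/-- S13896, abstract form -/
theorem nonempty_RHomRel_iso_of_invertible [HasRHomRel φ] [HasLTenMix φ] (N : ModuleCat.{u} A)
    (eN : (DTen.resM φ).obj N ≅ (homM (IM φ)).obj (AR φ)) :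
    Nonempty (RHomRel φ ≅ (Functor.curry.obj (LTenMix φ)).flip.obj (Sg 1 N)) := by
  obtain ⟨E, a, b, hE, hp, e, he⟩ := exists_quasiIso_of_isPerfect_Sg φ (isPerfect_Sg_AR φ hφ)
  haveI := he
  obtain ⟨J, hJ, hJ', ι, hι, ⟨μ⟩, ⟨i⟩⟩ := nonempty_RHomRel_iso φ E a b hE hp e
  haveI := hι
  obtain ⟨ν⟩ := nonempty_Q_coext_iso_Sg φ hφ J hJ' ι N eN
  exact ⟨i ≪≫ ((Functor.curry.obj (LTenMix φ)).flip).mapIso (μ.symm ≪≫ ν)⟩

end RelInv

end Groth.Agent.Lib.Helper18.DR
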