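import Mathlib
import Groth.Agent.Lib.Helper18.RelInvF

/-!
# S13896: the inverse of `A ⊗_R I` is `Hom_R(I, A)` (helper18)
-/

set_option autoImplicit false
set_option linter.style.haveILetI false
universe u
open CategoryTheory CategoryTheory.Limits CategoryTheory.Pretriangulated MonoidalCategory
open scoped TensorProduct

attribute [local instance] HasDerivedCategory.standard

namespace Groth.Agent.Lib.Helper18.DR

namespace RelInv

open Coext CoextHom DTen RelDual

variable (R A : Type u) [CommRing R] [CommRing A] [Algebra R A]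
  (N : Type u) [AddCommGroup N] [Module A N]
  (e : (A ⊗[R] (RingHom.ker (algebraMap R A))) ⊗[A] N ≃ₗ[A] A)

/-- `N ≃ Hom_R(I, A)` as `A`-modules -/
noncomputable def dualEquiv : N ≃ₗ[A] (RingHom.ker (algebraMap R A) →ₗ[R] A) :=
  Module.Invertible.linearEquivDual (TensorProduct.comm A N _ ≪≫ₗ e) ≪≫ₗ
    (LinearMap.liftBaseChangeEquiv A).symm

variable {R A}

/-- change of the module structure on the target -/
noncomputable def convLin (g : RingHom.ker (algebraMap R A) →ₗ[R] A) :
    RingHom.ker (algebraMap R A) →ₗ[R] (AR (algebraMap R A) : Type u) where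
  toFun x := toAR (algebraMap R A) (g x)
  map_add' x y := by rw [map_add]; rfl
  map_smul' r x := by rw [map_smul, Algebra.smul_def]; rfl

/-- change of the module structure on the target, inverse -/
noncomputable def convLinInv (g : RingHom.ker (algebraMap R A) →ₗ[R] (AR (algebraMap R A) : Type u)) :
    RingHom.ker (algebraMap R A) →ₗ[R] A where
  toFun x := ofAR (algebraMap R A) (g x)
  map_add' x y := by rw [map_add]; rfl
  map_smul' r x := by
    rw [map_smul, RingHom.id_apply, Algebra.smul_def]
    rfl

variable (R A)

/-- `N` as an `R`-module -/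
noncomputable def NR : ModuleCat.{u} R :=
  (ModuleCat.restrictScalars.{u} (algebraMap R A)).obj (ModuleCat.of A N)

variable {R A N}

/-- an element of `N` as an element of `N_R` -/
def toNR (x : N) : (NR R A N : Type u) := x

/-- an element of `N_R` as an element of `N` -/
def ofNR (x : (NR R A N : Type u)) : N := x

lemma ofNR_smul (r : R) (x : (NR R A N : Type u)) :
    ofNR (r • x) = algebraMap R A r • ofNR x := rfl

lemma ofNR_add (x y : (NR R A N : Type u)) : ofNR (x + y) = ofNR x + ofNR y := rfl

variable (R A N)

/-- `res N ≃ Hom_R(I, A_R)` -/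
noncomputable def eNEquiv :
    (NR R A N : Type u) ≃ₗ[R]
      (RingHom.ker (algebraMap R A) →ₗ[R] (AR (algebraMap R A) : Type u)) where
  toFun x := convLin (dualEquiv R A N e (ofNR x))
  map_add' x y := by
    rw [ofNR_add, map_add]
    rfl
  map_smul' r x := by
    rw [ofNR_smul, map_smul]
    rfl
  invFun g := toNR ((dualEquiv R A N e).symm (convLinInv g))
  left_inv x := by
    change toNR ((dualEquiv R A N e).symm (convLinInv (convLin (dualEquiv R A N e (ofNR x))))) = x
    have : convLinInv (convLin (dualEquiv R A N e (ofNR x))) = dualEquiv R A N e (ofNR x) :=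
      LinearMap.ext fun y => rfl
    rw [this, LinearEquiv.symm_apply_apply]
    rfl
  right_inv g := by
    change convLin (dualEquiv R A N e ((dualEquiv R A N e).symm (convLinInv g))) = g
    rw [LinearEquiv.apply_symm_apply]
    exact LinearMap.ext fun y => rfl

/-- `res N ≅ Hom_R(I, A_R)` -/
noncomputable def eNIso :
    (DTen.resM (algebraMap R A)).obj (ModuleCat.of A N) ≅
      (homM (IM (algebraMap R A))).obj (AR (algebraMap R A)) :=
  (eNEquiv R A N e).toModuleIso

include e in
/-- S13896 -/
theorem nonempty_RHomRel_iso_shift (hφ : Function.Surjective (algebraMap R A))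
    [Module.Invertible R (RingHom.ker (algebraMap R A))]
    [DTen.HasRHomRel (algebraMap R A)] [DTen.HasLTenMix (algebraMap R A)] :
    Nonempty (DTen.RHomRel (algebraMap R A) ≅
      (Functor.curry.obj (DTen.LTenMix (algebraMap R A))).flip.obj
        ((Dual.inD A N)⟦(-1 : ℤ)⟧)) := by
  obtain ⟨i⟩ := nonempty_RHomRel_iso_of_invertible (algebraMap R A) hφ (ModuleCat.of A N)
    (eNIso R A N e)
  exact ⟨i ≪≫ ((Functor.curry.obj (LTenMix (algebraMap R A))).flip).mapIso
    (SgShiftIso (-1) 1 0 (by omega) (ModuleCat.of A N)).symm⟩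

end RelInv

end Groth.Agent.Lib.Helper18.DR
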