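import Mathlib
import Groth.Prelude.Def_DCoh2
import Groth.Prelude.Def_DRing2
import Groth.Agent.Lib.Helper2.KInj.QProdExact
import Groth.Agent.Lib.Helper2.KInj.RDerivedProd

/-!
# The limit of a tower of complexes with termwise surjective transition maps is a derived limit
(helper18)
-/

set_option autoImplicit false
set_option linter.style.haveILetI false
universe u
open CategoryTheory CategoryTheory.Limits CategoryTheory.Pretriangulated DerivedCategory

attribute [local instance] HasDerivedCategory.standard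

namespace Groth.Agent.Lib.Helper18.DR

namespace Rl

variable {A : Type u} [CommRing A]

section tower

variable (Y : ℕ → DRing.Cx A) (t : ∀ n, Y (n + 1) ⟶ Y n)

/-- the explicit product complex -/
noncomputable def prodCx : DRing.Cx A where
  X j := ModuleCat.of A (∀ n, (Y n).X j)
  d i j := ModuleCat.ofHom (LinearMap.pi (fun n => ((Y n).d i j).hom ∘ₗ LinearMap.proj n))
  shape i j hij := by
    refine ModuleCat.hom_ext (LinearMap.ext fun x => funext fun n => ?_)
    change ((Y n).d i j).hom (x n) = 0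
    rw [(Y n).shape i j hij]; rfl
  d_comp_d' i j k _ _ := by
    refine ModuleCat.hom_ext (LinearMap.ext fun x => funext fun n => ?_)
    change ((Y n).d j k).hom (((Y n).d i j).hom (x n)) = 0
    rw [← ModuleCat.comp_apply, (Y n).d_comp_d]; rfl

/-- the projections -/
noncomputable def projCx (n : ℕ) : prodCx Y ⟶ Y n where
  f j := ModuleCat.ofHom (LinearMap.proj n)
  comm' i j _ := ModuleCat.hom_ext (LinearMap.ext fun x => rfl)

/-- lifting to the product complex -/
noncomputable def liftCx {W : DRing.Cx A} (g : ∀ n, W ⟶ Y n) : W ⟶ prodCx Y where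
  f j := ModuleCat.ofHom (LinearMap.pi (fun n => ((g n).f j).hom))
  comm' i j _ := by
    refine ModuleCat.hom_ext (LinearMap.ext fun x => funext fun n => ?_)
    change ((Y n).d i j).hom (((g n).f i).hom x) = ((g n).f j).hom ((W.d i j).hom x)
    rw [← ModuleCat.comp_apply, ← ModuleCat.comp_apply, (g n).comm i j]

@[simp]
lemma liftCx_proj {W : DRing.Cx A} (g : ∀ n, W ⟶ Y n) (n : ℕ) :
    liftCx Y g ≫ projCx Y n = g n := by
  ext j x
  rfl

lemma prodCx_hom_ext {W : DRing.Cx A} (a b : W ⟶ prodCx Y)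
    (h : ∀ n, a ≫ projCx Y n = b ≫ projCx Y n) : a = b := by
  ext j x
  funext n
  have := congrArg (fun (φ : W ⟶ Y n) => (φ.f j).hom x) (h n)
  exact this

/-- the product complex is a product -/
noncomputable def isLimitProdFan : IsLimit (Fan.mk (prodCx Y) (projCx Y)) :=
  Fan.IsLimit.mk _ (fun s => liftCx Y s.proj) (fun s n => liftCx_proj Y s.proj n)
    (fun s m hm => prodCx_hom_ext Y _ _ (fun n => by rw [liftCx_proj]; exact hm n))

/-- identity minus shift -/
noncomputable def shiftDiff : prodCx Y ⟶ prodCx Y :=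
  liftCx Y (fun n => projCx Y n - projCx Y (n + 1) ≫ t n)

lemma shiftDiff_proj (n : ℕ) :
    shiftDiff Y t ≫ projCx Y n = projCx Y n - projCx Y (n + 1) ≫ t n :=
  liftCx_proj Y _ n

lemma shiftDiff_f_apply (j : ℤ) (x : (prodCx Y).X j) (n : ℕ) :
    ((shiftDiff Y t).f j).hom x n = x n - ((t n).f j).hom (x (n + 1)) := rfl

variable {Lc : DRing.Cx A} (p : ∀ n, Lc ⟶ Y n) (hp : ∀ n, p (n + 1) ≫ t n = p n)

include hp in
lemma liftCx_shiftDiff : liftCx Y p ≫ shiftDiff Y t = 0 := by
  apply prodCx_hom_ext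
  intro n
  rw [Category.assoc, shiftDiff_proj, Preadditive.comp_sub, liftCx_proj, ← Category.assoc,
    liftCx_proj, hp, sub_self, zero_comp]

/-- the short complex `Lc ⟶ ∏ Y ⟶ ∏ Y` -/
noncomputable def towerSC : ShortComplex (DRing.Cx A) :=
  ShortComplex.mk (liftCx Y p) (shiftDiff Y t) (liftCx_shiftDiff Y t p hp)

variable (hsurj : ∀ n j, Function.Surjective ((t n).f j).hom)
  (hlim : ∀ (j : ℤ) (x : ∀ n, (Y n).X j), (∀ n, ((t n).f j).hom (x (n + 1)) = x n) →
    ∃! y : Lc.X j, ∀ n, ((p n).f j).hom y = x n)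

include hsurj in
lemma shiftDiff_f_surjective (j : ℤ) : Function.Surjective ((shiftDiff Y t).f j).hom := by
  intro y
  -- construct `x` recursively: `x 0 = 0`, `t n (x (n+1)) = x n - y n`
  have hstep : ∀ (n : ℕ) (a : (Y n).X j), ∃ b : (Y (n + 1)).X j,
      ((t n).f j).hom b = a - y n := fun n a => hsurj n j _
  choose s hs using hstep
  let x : ∀ n, (Y n).X j := fun n => Nat.rec (motive := fun n => (Y n).X j) 0 (fun n a => s n a) n
  refine ⟨x, ?_⟩
  funext n
  rw [shiftDiff_f_apply]
  have : x (n + 1) = s n (x n) := rfl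
  rw [this, hs]
  abel

include hsurj hlim in
lemma towerSC_shortExact : (towerSC Y t p hp).ShortExact := by
  apply HomologicalComplex.shortExact_of_degreewise_shortExact
  intro j
  apply ModuleCat.shortComplex_shortExact
  · intro (x : ∀ n, (Y n).X j)
    constructor
    · intro hx
      have hx' : ∀ n, ((t n).f j).hom (x (n + 1)) = x n := by
        intro n
        have := congrFun hx n
        have h2 : x n - ((t n).f j).hom (x (n + 1)) = 0 := this
        exact (sub_eq_zero.1 h2).symm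
      obtain ⟨y, hy, -⟩ := hlim j x hx'
      exact ⟨y, funext hy⟩
    · rintro ⟨y, rfl⟩
      have := congrArg (fun (φ : Lc ⟶ prodCx Y) => (φ.f j).hom y) (liftCx_shiftDiff Y t p hp)
      exact this
  · intro y y' h
    have h1 : ∀ n, ((p n).f j).hom y = ((p n).f j).hom y' := fun n => congrFun h n
    have hx' : ∀ n, ((t n).f j).hom (((p (n + 1)).f j).hom y') = ((p n).f j).hom y' := by
      intro n
      rw [← hp n]
      rfl
    obtain ⟨z, -, hz⟩ := hlim j (fun n => ((p n).f j).hom y') hx'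
    rw [hz y h1, hz y' (fun _ => rfl)]
  · exact shiftDiff_f_surjective Y t hsurj j

end tower

section rlim

variable (Y : ℕ → DRing.Cx A) (t : ∀ n, Y (n + 1) ⟶ Y n)
  {Lc : DRing.Cx A} (p : ∀ n, Lc ⟶ Y n) (hp : ∀ n, p (n + 1) ≫ t n = p n)
  (hsurj : ∀ n j, Function.Surjective ((t n).f j).hom)
  (hlim : ∀ (j : ℤ) (x : ∀ n, (Y n).X j), (∀ n, ((t n).f j).hom (x (n + 1)) = x n) →
    ∃! y : Lc.X j, ∀ n, ((p n).f j).hom y = x n)
  (K : ℕ → Dual.D A) (t' : ∀ n, K (n + 1) ⟶ K n) [HasProduct K]
  (e : ∀ n, K n ≅ DerivedCategory.Q.obj (Y n))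
  (he : ∀ n, t' n ≫ (e n).hom = (e (n + 1)).hom ≫ DerivedCategory.Q.map (t n))
  {Lobj : Dual.D A} (eL : Lobj ≅ DerivedCategory.Q.obj Lc)

include hp hsurj hlim he eL in
/-- **the limit of a tower with surjective transition maps is a derived limit** -/
theorem isRlim_of_tower : DCoh.IsRlim K t' Lobj := by
  have hSE := towerSC_shortExact Y t p hp hsurj hlim
  have hT := DerivedCategory.triangleOfSES_distinguished hSE
  -- the product in `D(A)`
  have hQ : IsLimit (Fan.mk (DerivedCategory.Q.obj (prodCx Y))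
      (fun n => DerivedCategory.Q.map (projCx Y n))) :=
    Groth.Agent.Lib.Helper2.KInj.isLimitQFan Y (Fan.mk (prodCx Y) (projCx Y)) (isLimitProdFan Y)
  have hQ' : IsLimit (Fan.mk (DerivedCategory.Q.obj (prodCx Y))
      (fun n => DerivedCategory.Q.map (projCx Y n) ≫ (e n).inv)) :=
    Groth.Agent.Lib.Helper2.KInj.isLimitFanOfIso _ _ hQ (Iso.refl _) (fun n => (e n).symm)
      (fun n => by simp)
  let w : ∏ᶜ K ≅ DerivedCategory.Q.obj (prodCx Y) :=
    IsLimit.conePointUniqueUpToIso (productIsProduct K) hQ'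
  have hw : ∀ n, w.hom ≫ DerivedCategory.Q.map (projCx Y n) = Pi.π K n ≫ (e n).hom := by
    intro n
    have h1 := IsLimit.conePointUniqueUpToIso_hom_comp (productIsProduct K) hQ' ⟨n⟩
    have h2 : w.hom ≫ DerivedCategory.Q.map (projCx Y n) ≫ (e n).inv = Pi.π K n := h1
    rw [← h2, Category.assoc, Category.assoc, Iso.inv_hom_id, Category.comp_id]
  have hmid : (Pi.lift fun n => Pi.π K n - Pi.π K (n + 1) ≫ t' n) ≫ w.hom =
      w.hom ≫ DerivedCategory.Q.map (shiftDiff Y t) := by
    apply Fan.IsLimit.hom_ext hQ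
    intro n
    change (_ ≫ w.hom) ≫ DerivedCategory.Q.map (projCx Y n) =
      (w.hom ≫ DerivedCategory.Q.map (shiftDiff Y t)) ≫ DerivedCategory.Q.map (projCx Y n)
    rw [Category.assoc, hw, ← Category.assoc, Pi.lift_π, Category.assoc, ← Functor.map_comp,
      shiftDiff_proj, Functor.map_sub, Functor.map_comp, Preadditive.comp_sub,
      Preadditive.sub_comp, ← Category.assoc w.hom, hw, hw (n + 1),
      Category.assoc, Category.assoc, he]
  let δ : DerivedCategory.Q.obj (prodCx Y) ⟶
      (shiftFunctor (Dual.D A) (1 : ℤ)).obj (DerivedCategory.Q.obj Lc) :=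
    (DerivedCategory.triangleOfSES hSE).mor₃
  refine ⟨eL.hom ≫ DerivedCategory.Q.map (liftCx Y p) ≫ w.inv,
    w.hom ≫ δ ≫ (shiftFunctor (Dual.D A) (1 : ℤ)).map eL.inv, ?_⟩
  refine isomorphic_distinguished _ hT _ (Triangle.isoMk _ _ eL w w ?_ ?_ ?_)
  · change (eL.hom ≫ DerivedCategory.Q.map (liftCx Y p) ≫ w.inv) ≫ w.hom =
      eL.hom ≫ DerivedCategory.Q.map (liftCx Y p)
    simp
  · exact hmid
  · change (w.hom ≫ δ ≫ (shiftFunctor (Dual.D A) (1 : ℤ)).map eL.inv) ≫
        (shiftFunctor (Dual.D A) (1 : ℤ)).map eL.hom = w.hom ≫ δ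
    rw [Category.assoc, Category.assoc, ← Functor.map_comp, Iso.inv_hom_id,
      CategoryTheory.Functor.map_id, Category.comp_id]

end rlim

end Rl

end Groth.Agent.Lib.Helper18.DR
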