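import Mathlib
import Groth.Agent.Lib.Helper18.DRInd
import Groth.Agent.Lib.Helper18.DRTrunc
import Groth.Agent.Lib.Helper18.RHomCmpE

/-!
# Universality of a termwise natural transformation on bounded complexes (helper18)

A five lemma for `PreBij`, and bounded induction for `X ⟶ G(X)` where `G` is an additive
endofunctor of modules applied termwise.
-/

set_option autoImplicit false
set_option linter.style.haveILetI false
universe u
open CategoryTheory CategoryTheory.Limits CategoryTheory.Pretriangulated DerivedCategory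

attribute [local instance] HasDerivedCategory.standard

namespace Groth.Agent.Lib.Helper18.DR

namespace Rl

open RHomCmp

section general

variable {C : Type*} [Category C] [Preadditive C] [HasShift C ℤ]

/-- transfer of `PreBij` along the shift adjunction -/
lemma preBij_shift {X Y : C} (h : X ⟶ Y) (E : C) (n : ℤ)
    (hb : PreBij (E⟦-n⟧) h) : PreBij E (h⟦n⟧') := by
  let adj : CategoryTheory.shiftFunctor C n ⊣ CategoryTheory.shiftFunctor C (-n) :=
    (shiftEquiv C n).toAdjunction
  have e : (fun φ : Y⟦n⟧ ⟶ E => h⟦n⟧' ≫ φ) =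
      (adj.homEquiv X E).symm ∘ (fun ψ : Y ⟶ E⟦-n⟧ => h ≫ ψ) ∘ (adj.homEquiv Y E) := by
    funext φ
    change _ = (adj.homEquiv X E).symm (h ≫ adj.homEquiv Y E φ)
    rw [← Adjunction.homEquiv_naturality_left, Equiv.symm_apply_apply]
  unfold PreBij
  rw [e]
  exact (adj.homEquiv X E).symm.bijective.comp
    (Function.Bijective.comp hb (adj.homEquiv Y E).bijective)

lemma PreBij.of_iso_comp {E X X' Y Y' : C} (h : X ⟶ Y) (h' : X' ⟶ Y') (a : X ≅ X') (b : Y ≅ Y')
    (w : a.hom ≫ h' = h ≫ b.hom) (hb : PreBij E h) : PreBij E h' := by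
  have : h' = a.inv ≫ h ≫ b.hom := by rw [← w, Iso.inv_hom_id_assoc]
  rw [this]
  exact (PreBij.of_isIso E a.inv).comp (hb.comp (PreBij.of_isIso E b.hom))

end general

section five

variable {C : Type*} [Category C] [Preadditive C] [HasZeroObject C] [HasShift C ℤ]
  [∀ n : ℤ, (shiftFunctor C n).Additive] [Pretriangulated C]

/-- five lemma for precomposition: in a morphism of distinguished triangles, if the first and
third components are universal for a shift-stable class of test objects, so is the second -/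
theorem preBij_hom₂ (ℰ : C → Prop) (hℰ : ∀ (E : C) (n : ℤ), ℰ E → ℰ (E⟦n⟧))
    {T T' : Triangle C} (hT : T ∈ distTriang C) (hT' : T' ∈ distTriang C) (φ : T ⟶ T')
    (h₁ : ∀ E, ℰ E → PreBij E φ.hom₁) (h₃ : ∀ E, ℰ E → PreBij E φ.hom₃) :
    ∀ E, ℰ E → PreBij E φ.hom₂ := by
  intro E hE
  have h₁s : PreBij E (φ.hom₁⟦(1 : ℤ)⟧') := preBij_shift _ E 1 (h₁ _ (hℰ E (-1) hE))
  have h₃s : PreBij E (φ.hom₃⟦(-1 : ℤ)⟧') :=
    preBij_shift _ E (-1) (h₃ _ (hℰ E (-(-1)) hE))
  have hinv := inv_rot_of_distTriang _ hT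
  have hinv' := inv_rot_of_distTriang _ hT'
  let φi : T.invRotate ⟶ T'.invRotate := (invRotate C).map φ
  let k : T.obj₃⟦(-1 : ℤ)⟧ ⟶ T.obj₁ := T.invRotate.mor₁
  let k' : T'.obj₃⟦(-1 : ℤ)⟧ ⟶ T'.obj₁ := T'.invRotate.mor₁
  have hk : k ≫ φ.hom₁ = φ.hom₃⟦(-1 : ℤ)⟧' ≫ k' := φi.comm₁
  have hkT : k ≫ T.mor₁ = 0 := comp_distTriang_mor_zero₁₂ _ hinv
  constructor
  · -- injectivity
    intro α α' hαα'
    rw [← sub_eq_zero]
    have hy : φ.hom₂ ≫ (α - α') = 0 := by
      rw [Preadditive.comp_sub, sub_eq_zero]; exact hαα'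
    generalize α - α' = α₀ at hy
    have h1 : T'.mor₁ ≫ α₀ = 0 := by
      apply (h₁ E hE).1
      change φ.hom₁ ≫ T'.mor₁ ≫ α₀ = φ.hom₁ ≫ 0
      rw [← Category.assoc, ← φ.comm₁, Category.assoc, hy, comp_zero, comp_zero]
    obtain ⟨β, rfl⟩ := Triangle.yoneda_exact₂ _ hT' α₀ h1
    have h2 : T.mor₂ ≫ φ.hom₃ ≫ β = 0 := by
      rw [← Category.assoc, φ.comm₂, Category.assoc]; exact hy
    obtain ⟨γ, hγ⟩ := Triangle.yoneda_exact₃ _ hT (φ.hom₃ ≫ β) h2
    obtain ⟨γ', rfl⟩ := h₁s.2 γ
    have h3 : β = T'.mor₃ ≫ γ' := by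
      apply (h₃ E hE).1
      change φ.hom₃ ≫ β = φ.hom₃ ≫ T'.mor₃ ≫ γ'
      rw [hγ, ← Category.assoc, φ.comm₃, Category.assoc]
    rw [h3, ← Category.assoc, comp_distTriang_mor_zero₂₃ _ hT', zero_comp]
  · -- surjectivity
    intro α
    obtain ⟨a', ha'⟩ := (h₁ E hE).2 (T.mor₁ ≫ α)
    have ha'' : φ.hom₁ ≫ a' = T.mor₁ ≫ α := ha'
    have h1 : k' ≫ a' = 0 := by
      apply h₃s.1
      change φ.hom₃⟦(-1 : ℤ)⟧' ≫ k' ≫ a' = φ.hom₃⟦(-1 : ℤ)⟧' ≫ 0
      rw [← Category.assoc, ← hk, Category.assoc, ha'', ← Category.assoc, hkT, zero_comp,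
        comp_zero]
    obtain ⟨b₀, hb₀⟩ := Triangle.yoneda_exact₂ _ hinv' a' h1
    let b' : T'.obj₂ ⟶ E := b₀
    have hb'' : a' = T'.mor₁ ≫ b' := hb₀
    have h2 : T.mor₁ ≫ (α - φ.hom₂ ≫ b') = 0 := by
      rw [Preadditive.comp_sub, ← Category.assoc, φ.comm₁, Category.assoc, ← hb'', ha'', sub_self]
    obtain ⟨c, hc⟩ := Triangle.yoneda_exact₂ _ hT _ h2
    obtain ⟨c', rfl⟩ := (h₃ E hE).2 c
    refine ⟨b' + T'.mor₂ ≫ c', ?_⟩
    change φ.hom₂ ≫ (b' + T'.mor₂ ≫ c') = α
    rw [Preadditive.comp_add, ← Category.assoc φ.hom₂, ← φ.comm₂, Category.assoc]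
    have hc' : α - φ.hom₂ ≫ b' = T.mor₂ ≫ φ.hom₃ ≫ c' := hc
    rw [← hc']
    abel

end five

variable {A : Type u} [CommRing A]

section splitting

variable (K : DRing.Cx A) (n : ℤ)

/-- the stupid truncation sequence is split in each degree -/
lemma nonempty_sigma_splitting (j : ℤ) :
    Nonempty (((subQuotSC K (sigmaSub K n) (sigmaSub_stable K n)).map
      (HomologicalComplex.eval (ModuleCat.{u} A) (ComplexShape.up ℤ) j)).Splitting) := by
  by_cases h : n ≤ j
  · haveI : Subsingleton (K.X j ⧸ sigmaSub K n j) := by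
      rw [sigmaSub_of_le K n h]; infer_instance
    refine ⟨{
      r := ModuleCat.ofHom (LinearMap.codRestrict (sigmaSub K n j) LinearMap.id
        (fun x => by rw [sigmaSub_of_le K n h]; trivial))
      s := 0
      f_r := ModuleCat.hom_ext (LinearMap.ext fun x => Subtype.ext rfl)
      s_g := ModuleCat.hom_ext (LinearMap.ext fun x =>
        Subsingleton.elim (α := K.X j ⧸ sigmaSub K n j) _ _)
      id := ?_ }⟩
    refine ModuleCat.hom_ext (LinearMap.ext fun (x : K.X j) => ?_)
    change (x : K.X j) + 0 = x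
    rw [add_zero]
  · have hlt : j < n := by omega
    haveI : Subsingleton (sigmaSub K n j) := by
      rw [sigmaSub_of_lt K n hlt]; infer_instance
    refine ⟨{
      r := 0
      s := ModuleCat.ofHom (Submodule.quotEquivOfEqBot _ (sigmaSub_of_lt K n hlt)).toLinearMap
      f_r := ModuleCat.hom_ext (LinearMap.ext fun x =>
        Subsingleton.elim (α := sigmaSub K n j) _ _)
      s_g := ?_
      id := ?_ }⟩
    · refine ModuleCat.hom_ext (LinearMap.ext fun x => ?_)
      obtain ⟨x, rfl⟩ := Submodule.Quotient.mk_surjective _ x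
      rfl
    · refine ModuleCat.hom_ext (LinearMap.ext fun (x : K.X j) => ?_)
      change (0 : K.X j) + x = x
      rw [zero_add]

variable (G : ModuleCat.{u} A ⥤ ModuleCat.{u} A) [G.Additive]

lemma sigmaSC_map_shortExact :
    ((subQuotSC K (sigmaSub K n) (sigmaSub_stable K n)).map
      (G.mapHomologicalComplex (ComplexShape.up ℤ))).ShortExact := by
  apply HomologicalComplex.shortExact_of_degreewise_shortExact
  intro j
  obtain ⟨σ⟩ := nonempty_sigma_splitting K n j
  exact (σ.map G).shortExact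

end splitting

section termwise

variable (G : ModuleCat.{u} A ⥤ ModuleCat.{u} A) [G.Additive] (η : 𝟭 (ModuleCat.{u} A) ⟶ G)

/-- the termwise natural transformation -/
noncomputable def ηCx (X : DRing.Cx A) :
    X ⟶ (G.mapHomologicalComplex (ComplexShape.up ℤ)).obj X where
  f i := η.app (X.X i)
  comm' i j _ := (η.naturality (X.d i j)).symm

lemma ηCx_naturality {X Y : DRing.Cx A} (f : X ⟶ Y) :
    f ≫ ηCx G η Y = ηCx G η X ≫ (G.mapHomologicalComplex (ComplexShape.up ℤ)).map f := by
  ext i : 1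
  exact η.naturality (f.f i)

variable (ℰ : Dual.D A → Prop)

/-- universality of `X ⟶ G X` with respect to the class `ℰ` -/
def Univ (X : DRing.Cx A) : Prop :=
  ∀ E, ℰ E → PreBij E (DerivedCategory.Q.map (ηCx G η X))

variable {G η ℰ}

lemma Univ.of_iso {X Y : DRing.Cx A} (e : X ≅ Y) (h : Univ G η ℰ X) : Univ G η ℰ Y := by
  intro E hE
  refine PreBij.of_iso_comp (DerivedCategory.Q.map (ηCx G η X)) _
    (DerivedCategory.Q.mapIso e)
    (DerivedCategory.Q.mapIso ((G.mapHomologicalComplex (ComplexShape.up ℤ)).mapIso e)) ?_ (h E hE)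
  change DerivedCategory.Q.map e.hom ≫ DerivedCategory.Q.map (ηCx G η Y) =
    DerivedCategory.Q.map (ηCx G η X) ≫
      DerivedCategory.Q.map ((G.mapHomologicalComplex (ComplexShape.up ℤ)).map e.hom)
  rw [← Functor.map_comp, ← Functor.map_comp, ηCx_naturality]

lemma univ_of_isZero (X : DRing.Cx A) (h : ∀ i, IsZero (X.X i)) : Univ G η ℰ X := by
  intro E _
  have h1 : IsZero (DRing.toD X) := isZero_toD_of_forall_isZero X h
  have h2 : IsZero (DRing.toD ((G.mapHomologicalComplex (ComplexShape.up ℤ)).obj X)) :=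
    isZero_toD_of_forall_isZero _ (fun i => G.map_isZero (h i))
  constructor
  · intro a b _
    exact h2.eq_of_src a b
  · intro a
    exact ⟨0, h1.eq_of_src _ _⟩

/-- the condition on a module -/
def TermOK (G : ModuleCat.{u} A ⥤ ModuleCat.{u} A) (η : 𝟭 (ModuleCat.{u} A) ⟶ G)
    (ℰ : Dual.D A → Prop) (N : ModuleCat.{u} A) : Prop :=
  ∀ E, ℰ E → PreBij E ((singleFunctor (ModuleCat.{u} A) 0).map (η.app N))

lemma TermOK.of_iso {N N' : ModuleCat.{u} A} (e : N ≅ N') (h : TermOK G η ℰ N) :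
    TermOK G η ℰ N' := by
  intro E hE
  refine PreBij.of_iso_comp ((singleFunctor (ModuleCat.{u} A) 0).map (η.app N)) _
    ((singleFunctor (ModuleCat.{u} A) 0).mapIso e)
    ((singleFunctor (ModuleCat.{u} A) 0).mapIso (G.mapIso e)) ?_ (h E hE)
  change (singleFunctor (ModuleCat.{u} A) 0).map e.hom ≫
      (singleFunctor (ModuleCat.{u} A) 0).map (η.app N') =
    (singleFunctor (ModuleCat.{u} A) 0).map (η.app N) ≫
      (singleFunctor (ModuleCat.{u} A) 0).map (G.map e.hom)
  rw [← Functor.map_comp, ← Functor.map_comp]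
  congr 1
  exact η.naturality e.hom

variable (hℰ : ∀ (E : Dual.D A) (n : ℤ), ℰ E → ℰ (E⟦n⟧))

include hℰ in
lemma univ_single (i : ℤ) (N : ModuleCat.{u} A) (h : TermOK G η ℰ N) :
    Univ G η ℰ ((HomologicalComplex.single (ModuleCat.{u} A) (ComplexShape.up ℤ) i).obj N) := by
  intro E hE
  -- step 1: the single functor in degree `i`
  let ψ := (singleFunctors (ModuleCat.{u} A)).shiftIso (-i) i 0 (by omega)
  have b1 : PreBij E ((singleFunctor (ModuleCat.{u} A) i).map (η.app N)) := by
    have hs : PreBij E (((singleFunctor (ModuleCat.{u} A) 0).map (η.app N))⟦(-i : ℤ)⟧') :=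
      preBij_shift _ E (-i) (h _ (hℰ E _ hE))
    refine PreBij.of_iso_comp _ _ (ψ.app N) (ψ.app (G.obj N)) ?_ hs
    exact (ψ.hom.naturality (η.app N)).symm
  -- step 2: `Q` of the single complex
  let θ := DerivedCategory.singleFunctorIsoCompQ (ModuleCat.{u} A) i
  have b2 : PreBij E (DerivedCategory.Q.map
      ((HomologicalComplex.single (ModuleCat.{u} A) (ComplexShape.up ℤ) i).map (η.app N))) := by
    refine PreBij.of_iso_comp _ _ (θ.app N) (θ.app (G.obj N)) ?_ b1
    exact (θ.hom.naturality (η.app N)).symm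
  -- step 3: the termwise transformation on the single complex
  let κ := (HomologicalComplex.singleMapHomologicalComplex G (ComplexShape.up ℤ) i).app N
  have hκ : ηCx G η ((HomologicalComplex.single (ModuleCat.{u} A) (ComplexShape.up ℤ) i).obj N) ≫
      κ.hom = (HomologicalComplex.single (ModuleCat.{u} A) (ComplexShape.up ℤ) i).map (η.app N) := by
    apply HomologicalComplex.from_single_hom_ext
    rw [HomologicalComplex.comp_f, HomologicalComplex.single_map_f_self]
    dsimp only [κ, Iso.app_hom]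
    rw [HomologicalComplex.singleMapHomologicalComplex_hom_app_self]
    change η.app _ ≫ _ = _
    rw [← Category.assoc, ← η.naturality]
    simp
  refine PreBij.of_iso_comp _ _ (Iso.refl _) (DerivedCategory.Q.mapIso κ.symm) ?_ b2
  change 𝟙 _ ≫ DerivedCategory.Q.map (ηCx G η _) = DerivedCategory.Q.map _ ≫
    DerivedCategory.Q.map κ.inv
  rw [Category.id_comp, ← Functor.map_comp, ← hκ, Category.assoc, Iso.hom_inv_id, Category.comp_id]

include hℰ in
/-- the two-out-of-three step along a stupid truncation -/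
lemma univ_of_sigma (X : DRing.Cx A) (n : ℤ) (h₁ : Univ G η ℰ (sigmaGE X n))
    (h₃ : Univ G η ℰ (sigmaLT X n)) : Univ G η ℰ X := by
  let S := subQuotSC X (sigmaSub X n) (sigmaSub_stable X n)
  have hS : S.ShortExact := subQuotSC_shortExact X _ _
  have hS' : (S.map (G.mapHomologicalComplex (ComplexShape.up ℤ))).ShortExact :=
    sigmaSC_map_shortExact X n G
  let f : S ⟶ S.map (G.mapHomologicalComplex (ComplexShape.up ℤ)) :=
    { τ₁ := ηCx G η S.X₁
      τ₂ := ηCx G η S.X₂
      τ₃ := ηCx G η S.X₃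
      comm₁₂ := (ηCx_naturality G η S.f).symm
      comm₂₃ := (ηCx_naturality G η S.g).symm }
  let φ : DerivedCategory.triangleOfSES hS ⟶ DerivedCategory.triangleOfSES hS' :=
    { hom₁ := DerivedCategory.Q.map f.τ₁
      hom₂ := DerivedCategory.Q.map f.τ₂
      hom₃ := DerivedCategory.Q.map f.τ₃
      comm₁ := by
        change DerivedCategory.Q.map S.f ≫ DerivedCategory.Q.map f.τ₂ =
          DerivedCategory.Q.map f.τ₁ ≫ DerivedCategory.Q.map _
        rw [← Functor.map_comp, ← Functor.map_comp, f.comm₁₂]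
      comm₂ := by
        change DerivedCategory.Q.map S.g ≫ DerivedCategory.Q.map f.τ₃ =
          DerivedCategory.Q.map f.τ₂ ≫ DerivedCategory.Q.map _
        rw [← Functor.map_comp, ← Functor.map_comp, f.comm₂₃]
      comm₃ := DerivedCategory.triangleOfSESδ_naturality hS hS' f }
  exact preBij_hom₂ ℰ hℰ (DerivedCategory.triangleOfSES_distinguished hS)
    (DerivedCategory.triangleOfSES_distinguished hS') φ h₁ h₃

include hℰ in
/-- **bounded induction for a termwise transformation** -/
theorem univ_bounded (X : DRing.Cx A) (a b : ℤ) (hX : DRing.VanishesOutside X a b)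
    (h : ∀ i : ℤ, a ≤ i → i ≤ b → TermOK G η ℰ (X.X i)) : Univ G η ℰ X := by
  obtain ⟨N, hN⟩ : ∃ N : ℕ, b - a + 1 ≤ N := ⟨(b - a + 1).toNat, by omega⟩
  induction N generalizing X a with
  | zero => exact univ_of_isZero X (fun i => hX i (by omega))
  | succ N ih =>
    refine univ_of_sigma hℰ X (a + 1) ?_ ?_
    · refine ih (sigmaGE X (a + 1)) (a + 1)
        (vanishesOutside_sigmaGE X (a + 1) (VanishesOutside.above hX)) (fun i hi hib => ?_)
        (by push_cast at hN; omega)
      exact (h i (by omega) hib).of_iso (sigmaGEXIso X (a + 1) hi).symm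
    · haveI : (sigmaLT X (a + 1)).IsStrictlyLE a := by
        have : (sigmaLT X (a + 1)).IsStrictlyLE (a + 1 - 1) := inferInstance
        simpa using this
      haveI : (sigmaLT X (a + 1)).IsStrictlyGE a := by
        rw [CochainComplex.isStrictlyGE_iff]
        intro i hi
        exact vanishesOutside_sigmaLT' X (a + 1) hX i (Or.inl hi)
      by_cases hab : a ≤ b
      · refine Univ.of_iso (isoSingleOfStrictly (sigmaLT X (a + 1)) a).symm ?_
        exact univ_single hℰ a _ ((h a le_rfl hab).of_iso (sigmaLTXIso X (a + 1) (by omega)))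
      · exact univ_of_isZero _ (fun i => vanishesOutside_sigmaLT' X (a + 1) hX i (by omega))

end termwise

end Rl

end Groth.Agent.Lib.Helper18.DR
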