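import Mathlib
import Groth.Agent.Lib.Helper18.RlB
import Groth.Agent.Lib.Helper18.CechD
import Groth.Agent.Lib.Helper18.LDualD
import Groth.Agent.Lib.Helper18.TotSingleR
import Groth.Agent.Lib.Helper21.RGe

/-!
# `RΓ_J(N[0])` is computed by `Č(gs) ⊗ N`, naturally in the module `N` (helper18)
-/

set_option autoImplicit false
set_option linter.style.haveILetI false
universe u
open CategoryTheory CategoryTheory.Limits CategoryTheory.Pretriangulated DerivedCategory
  MonoidalCategory CochainComplex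

attribute [local instance] HasDerivedCategory.standard

namespace Groth.Agent.Lib.Helper18.DR

namespace Rl

open RHomCmp Cech TotSingleR

section general

variable {C : Type*} [Category C] [Preadditive C] [HasZeroObject C] [HasShift C ℤ]
  [∀ n : ℤ, (CategoryTheory.shiftFunctor C n).Additive] [Pretriangulated C]

/-- covariant version: if `L` has no maps to `T.obj₁` and its shift, then `Hom(L, T.mor₂)` is
bijective -/
lemma bijective_comp_of_triangle (T : Triangle C) (hT : T ∈ distTriang C) (L : C)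
    (h1 : ∀ ψ : L ⟶ T.obj₁, ψ = 0) (h2 : ∀ ψ : L ⟶ T.obj₁⟦(1 : ℤ)⟧, ψ = 0) :
    Function.Bijective (fun φ : L ⟶ T.obj₂ => φ ≫ T.mor₂) := by
  constructor
  · intro a b hab
    rw [← sub_eq_zero]
    have h : (a - b) ≫ T.mor₂ = 0 := by
      rw [Preadditive.sub_comp, sub_eq_zero]; exact hab
    obtain ⟨ψ, hψ⟩ := Triangle.coyoneda_exact₂ T hT (a - b) h
    rw [hψ, h1 ψ, zero_comp]
  · intro χ
    obtain ⟨φ, hφ⟩ := Triangle.coyoneda_exact₃ T hT χ (h2 _)
    exact ⟨φ, hφ.symm⟩

end general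

variable {A : Type u} [CommRing A]

section Phi

/-- termwise `X^j ⊗ f` -/
noncomputable def PhiMapGen (X : DRing.Cx A) {N N' : ModuleCat.{u} A} (f : N ⟶ N') :
    (GM N).obj X ⟶ (GM N').obj X where
  f j := X.X j ◁ f
  comm' i j _ := by
    change (X.X i ◁ f) ≫ (X.d i j ▷ N') = (X.d i j ▷ N) ≫ (X.X j ◁ f)
    exact whisker_exchange _ _

@[simp]
lemma PhiMapGen_f (X : DRing.Cx A) {N N' : ModuleCat.{u} A} (f : N ⟶ N') (j : ℤ) :
    (PhiMapGen X f).f j = X.X j ◁ f := rfl

lemma PhiMapGen_id (X : DRing.Cx A) (N : ModuleCat.{u} A) : PhiMapGen X (𝟙 N) = 𝟙 _ := by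
  ext j : 1
  change X.X j ◁ 𝟙 N = 𝟙 _
  exact MonoidalCategory.whiskerLeft_id _ _

lemma PhiMapGen_comp (X : DRing.Cx A) {N N' N'' : ModuleCat.{u} A} (f : N ⟶ N') (g : N' ⟶ N'') :
    PhiMapGen X (f ≫ g) = PhiMapGen X f ≫ PhiMapGen X g := by
  ext j : 1
  change X.X j ◁ (f ≫ g) = X.X j ◁ f ≫ X.X j ◁ g
  exact MonoidalCategory.whiskerLeft_comp _ _ _

lemma PhiMapGen_naturality {X X' : DRing.Cx A} (a : X ⟶ X') {N N' : ModuleCat.{u} A}
    (f : N ⟶ N') :
    (GM N).map a ≫ PhiMapGen X' f = PhiMapGen X f ≫ (GM N').map a := by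
  ext j : 1
  change (a.f j ▷ N) ≫ (X'.X j ◁ f) = (X.X j ◁ f) ≫ (a.f j ▷ N')
  exact (whisker_exchange _ _).symm

/-- `A[0] ⊗ N ≅ N[0]` -/
noncomputable def unitIso (N : ModuleCat.{u} A) : (GM N).obj (S0 (ModuleCat.of A A)) ≅ S0 N :=
  (HomologicalComplex.singleMapHomologicalComplex (tensorRight N) (ComplexShape.up ℤ) 0).app
      (ModuleCat.of A A) ≪≫
    (HomologicalComplex.single (ModuleCat.{u} A) (ComplexShape.up ℤ) 0).mapIso (λ_ N)

lemma unitIso_naturality {N N' : ModuleCat.{u} A} (f : N ⟶ N') :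
    (unitIso N).hom ≫ (HomologicalComplex.single (ModuleCat.{u} A) (ComplexShape.up ℤ) 0).map f =
      PhiMapGen (S0 (ModuleCat.of A A)) f ≫ (unitIso N').hom := by
  apply HomologicalComplex.to_single_hom_ext
  dsimp only [unitIso, Iso.trans_hom, Iso.app_hom, Functor.mapIso_hom]
  simp only [HomologicalComplex.comp_f, HomologicalComplex.single_map_f_self,
    HomologicalComplex.singleMapHomologicalComplex_hom_app_self, PhiMapGen_f, Category.assoc,
    Iso.inv_hom_id_assoc]
  simp only [← Category.assoc]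
  congr 1
  simp only [Category.assoc]
  rw [← leftUnitor_naturality]
  simp only [← Category.assoc]
  congr 1
  exact (whisker_exchange _ _).symm

variable (gs : List A)

/-- the extended Čech complex of `A` -/
noncomputable abbrev Cg : DRing.Cx A := DerCA.extCech (ModuleCat.of A A) gs

/-- `Φ(N) = Č ⊗ N` termwise -/
noncomputable abbrev Phi (N : ModuleCat.{u} A) : DRing.Cx A := (GM N).obj (Cg gs)

/-- the augmentation of the Čech complex -/
noncomputable def augC : Cg gs ⟶ S0 (ModuleCat.of A A) := Cech.aug (ModuleCat.of A A) gs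

/-- the projection `Č(g :: gs) ⟶ Č(gs)` -/
noncomputable def fstC (g : A) : Cg (g :: gs) ⟶ Cg gs :=
  mappingCocone.fst (DerCA.locCxUnit (Submonoid.powers g) (Cg gs))

lemma augC_cons (g : A) : augC (g :: gs) = fstC gs g ≫ augC gs := rfl

lemma augC_nil : augC ([] : List A) = 𝟙 _ := rfl

/-- the augmentation `Č ⊗ N ⟶ N[0]` -/
noncomputable def augN (N : ModuleCat.{u} A) : Phi gs N ⟶ S0 N :=
  (GM N).map (augC gs) ≫ (unitIso N).hom

lemma augN_naturality {N N' : ModuleCat.{u} A} (f : N ⟶ N') :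
    augN gs N ≫ (HomologicalComplex.single (ModuleCat.{u} A) (ComplexShape.up ℤ) 0).map f =
      PhiMapGen (Cg gs) f ≫ augN gs N' := by
  dsimp only [augN]
  rw [Category.assoc, unitIso_naturality, ← Category.assoc, PhiMapGen_naturality, Category.assoc]

lemma augN_cons (g : A) (N : ModuleCat.{u} A) :
    augN (g :: gs) N = (GM N).map (fstC gs g) ≫ augN gs N := by
  dsimp only [augN]
  rw [augC_cons, Functor.map_comp, Category.assoc]

end Phi

section corefl

lemma coconeSC_map_shortExact {X L : DRing.Cx A} (φ : X ⟶ L)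
    (G : ModuleCat.{u} A ⥤ ModuleCat.{u} A) [G.Additive] :
    ((coconeSC φ).map (G.mapHomologicalComplex (ComplexShape.up ℤ))).ShortExact := by
  apply HomologicalComplex.shortExact_of_degreewise_shortExact
  intro j
  exact ((coconeSCSplitting φ j).map G).shortExact

variable [IsNoetherianRing A] (J : Ideal A) [DRing.HasRgammaI J]

/-- objects with `J`-power torsion cohomology -/
def TorsJ (L : Dual.D A) : Prop := ∀ i : ℤ, LocCoh.IsPowerTorsion J (Dual.HD A L i)

variable (gs : List A)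

theorem bijective_comp_fstC (g : A) (hg : g ∈ J) (N : ModuleCat.{u} A) (L : Dual.D A)
    (hL : TorsJ J L) :
    Function.Bijective (fun ψ : L ⟶ DerivedCategory.Q.obj (Phi (g :: gs) N) =>
      ψ ≫ DerivedCategory.Q.map ((GM N).map (fstC gs g))) := by
  let φ := DerCA.locCxUnit (Submonoid.powers g) (Cg gs)
  have hS := coconeSC_map_shortExact φ (tensorRight N)
  have hT := DerivedCategory.triangleOfSES_distinguished hS
  haveI h0 : IsIso (g • 𝟙 (coconeSC φ).X₁) :=
    isIso_smul_id_ker φ g (fun n => isIso_smul_id_locCx g (Cg gs) n)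
  have h1 : (GM N).map (g • 𝟙 (coconeSC φ).X₁) = g • 𝟙 ((GM N).obj (coconeSC φ).X₁) := by
    rw [Functor.map_smul, CategoryTheory.Functor.map_id]
  haveI : IsIso (g • 𝟙 ((GM N).obj (coconeSC φ).X₁)) := by
    rw [← h1]; infer_instance
  haveI : QuasiIso (g • 𝟙 ((GM N).obj (coconeSC φ).X₁)) := inferInstance
  have hW : FInv g (DRing.toD ((GM N).obj (coconeSC φ).X₁)) := finv_of_quasiIso_smul_id g _
  have s1 := Groth.Agent.Lib.Helper21.RGe.subsingleton_hom_of_finv J hg L _ hL hW
  have s2 := Groth.Agent.Lib.Helper21.RGe.subsingleton_hom_of_finv J hg L _ hL (hW.shift 1)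
  exact bijective_comp_of_triangle _ hT L (fun ψ => @Subsingleton.elim _ s1 _ _)
    (fun ψ => @Subsingleton.elim _ s2 _ _)

theorem bijective_comp_augN (hgs : ∀ g ∈ gs, g ∈ J) (N : ModuleCat.{u} A) (L : Dual.D A)
    (hL : TorsJ J L) :
    Function.Bijective (fun ψ : L ⟶ DerivedCategory.Q.obj (Phi gs N) =>
      ψ ≫ DerivedCategory.Q.map (augN gs N)) := by
  induction gs with
  | nil =>
    have h : augN ([] : List A) N = (unitIso N).hom := by
      dsimp only [augN]
      rw [augC_nil]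
      erw [CategoryTheory.Functor.map_id, Category.id_comp]
    rw [h]
    exact Groth.Agent.Lib.Helper21.RGb.bijective_comp_of_isIso _
  | cons g gs ih =>
    have h2 := (ih (fun x hx => hgs x (List.mem_cons_of_mem g hx))).comp
      (bijective_comp_fstC J gs g (hgs g List.mem_cons_self) N L hL)
    have e : (fun ψ : L ⟶ DerivedCategory.Q.obj (Phi (g :: gs) N) =>
        ψ ≫ DerivedCategory.Q.map (augN (g :: gs) N)) =
        (fun ψ : L ⟶ DerivedCategory.Q.obj (Phi gs N) =>
          ψ ≫ DerivedCategory.Q.map (augN gs N)) ∘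
        (fun ψ : L ⟶ DerivedCategory.Q.obj (Phi (g :: gs) N) =>
          ψ ≫ DerivedCategory.Q.map ((GM N).map (fstC gs g))) := by
      funext ψ
      rw [augN_cons, Functor.map_comp]
      simp only [Function.comp_apply, Category.assoc]
    rw [e]
    exact h2

omit [IsNoetherianRing A] in
lemma torsJ_Phi (N : ModuleCat.{u} A) :
    TorsJ (Ideal.span {x : A | x ∈ gs}) (DerivedCategory.Q.obj (Phi gs N)) := fun i =>
  LDual.isPowerTorsion_HD_of_torA gs (Phi gs N) (fun g hg =>
    Groth.Agent.Lib.Helper2.Tot.acyclic_of_iso ((Gg g).mapIso (ρ N (Cg gs))).symm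
      (LDual.torA_extCech_tensor (ModuleCat.of A A) (inferInstanceAs (Module.Flat A A)) gs g hg
        (S0 N))) i

end corefl

section main

variable [IsNoetherianRing A] (gs : List A) [DRing.HasRgammaI (Ideal.span {x : A | x ∈ gs})]

/-- `N[0]` in `D(A)` is `Q(N[0])` -/
noncomputable def sgIso (N : ModuleCat.{u} A) :
    (DerivedCategory.singleFunctor (ModuleCat.{u} A) 0).obj N ≅ DerivedCategory.Q.obj (S0 N) :=
  (DerivedCategory.singleFunctorIsoCompQ (ModuleCat.{u} A) 0).app N

omit [IsNoetherianRing A] in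
lemma sgIso_naturality {N N' : ModuleCat.{u} A} (f : N ⟶ N') :
    (DerivedCategory.singleFunctor (ModuleCat.{u} A) 0).map f ≫ (sgIso N').hom =
      (sgIso N).hom ≫ DerivedCategory.Q.map
        ((HomologicalComplex.single (ModuleCat.{u} A) (ComplexShape.up ℤ) 0).map f) :=
  (DerivedCategory.singleFunctorIsoCompQ (ModuleCat.{u} A) 0).hom.naturality f

omit [IsNoetherianRing A] in
lemma sgIso_inv_naturality {N N' : ModuleCat.{u} A} (f : N ⟶ N') :
    (sgIso N).inv ≫ (DerivedCategory.singleFunctor (ModuleCat.{u} A) 0).map f =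
      DerivedCategory.Q.map
        ((HomologicalComplex.single (ModuleCat.{u} A) (ComplexShape.up ℤ) 0).map f) ≫
        (sgIso N').inv := by
  rw [Iso.inv_comp_eq, ← Category.assoc, Iso.eq_comp_inv]
  exact sgIso_naturality f

/-- the augmentation in `D(A)` -/
noncomputable def augD (N : ModuleCat.{u} A) :
    DerivedCategory.Q.obj (Phi gs N) ⟶ (DerivedCategory.singleFunctor (ModuleCat.{u} A) 0).obj N :=
  DerivedCategory.Q.map (augN gs N) ≫ (sgIso N).inv

omit [IsNoetherianRing A] [DRing.HasRgammaI (Ideal.span {x : A | x ∈ gs})] in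
lemma augD_naturality {N N' : ModuleCat.{u} A} (f : N ⟶ N') :
    augD gs N ≫ (DerivedCategory.singleFunctor (ModuleCat.{u} A) 0).map f =
      DerivedCategory.Q.map (PhiMapGen (Cg gs) f) ≫ augD gs N' := by
  dsimp only [augD]
  rw [Category.assoc, sgIso_inv_naturality, ← Category.assoc, ← Category.assoc,
    ← Functor.map_comp, ← Functor.map_comp, augN_naturality]

theorem bijective_comp_augD (N : ModuleCat.{u} A) (L : Dual.D A)
    (hL : TorsJ (Ideal.span {x : A | x ∈ gs}) L) :
    Function.Bijective (fun ψ : L ⟶ DerivedCategory.Q.obj (Phi gs N) => ψ ≫ augD gs N) := by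
  have h1 := bijective_comp_augN (Ideal.span {x : A | x ∈ gs}) gs
    (fun g hg => Ideal.subset_span hg) N L hL
  have h2 : Function.Bijective (fun ψ : L ⟶ DerivedCategory.Q.obj (S0 N) =>
      ψ ≫ (sgIso N).inv) :=
    Groth.Agent.Lib.Helper21.RGb.bijective_comp_of_isIso _
  have e : (fun ψ : L ⟶ DerivedCategory.Q.obj (Phi gs N) => ψ ≫ augD gs N) =
      (fun ψ : L ⟶ DerivedCategory.Q.obj (S0 N) => ψ ≫ (sgIso N).inv) ∘
      (fun ψ : L ⟶ DerivedCategory.Q.obj (Phi gs N) =>
        ψ ≫ DerivedCategory.Q.map (augN gs N)) := by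
    funext ψ
    simp only [Function.comp_apply, augD, Category.assoc]
  rw [e]
  exact h2.comp h1

theorem exists_isoR (N : ModuleCat.{u} A) :
    ∃ e : DerivedCategory.Q.obj (Phi gs N) ≅
        (DRing.RgammaI (Ideal.span {x : A | x ∈ gs})).obj
          ((DerivedCategory.singleFunctor (ModuleCat.{u} A) 0).obj N),
      e.hom ≫ (DRing.RgammaIε (Ideal.span {x : A | x ∈ gs})).app _ = augD gs N :=
  Groth.Agent.Lib.Helper21.RGd.exists_iso_of_corefl
    (fun L : Dual.D A => TorsJ (Ideal.span {x : A | x ∈ gs}) L) _ _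
    (torsJ_Phi gs N)
    (fun i => Groth.Agent.Lib.Helper21.RGb.isPowerTorsion_HD_RgammaI _ _ i)
    (fun L hL => bijective_comp_augD gs N L hL)
    (fun L hL => Groth.Agent.Lib.Helper21.RGb.bijective_comp_eps _ L _ hL)

/-- `Q(Č ⊗ N) ≅ RΓ_J(N[0])` -/
noncomputable def isoR (N : ModuleCat.{u} A) :
    DerivedCategory.Q.obj (Phi gs N) ≅
      (DRing.RgammaI (Ideal.span {x : A | x ∈ gs})).obj
        ((DerivedCategory.singleFunctor (ModuleCat.{u} A) 0).obj N) :=
  (exists_isoR gs N).choose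

lemma isoR_hom_eps (N : ModuleCat.{u} A) :
    (isoR gs N).hom ≫ (DRing.RgammaIε (Ideal.span {x : A | x ∈ gs})).app _ = augD gs N :=
  (exists_isoR gs N).choose_spec

lemma isoR_naturality {N N' : ModuleCat.{u} A} (f : N ⟶ N') :
    (isoR gs N).hom ≫ (DRing.RgammaI (Ideal.span {x : A | x ∈ gs})).map
        ((DerivedCategory.singleFunctor (ModuleCat.{u} A) 0).map f) =
      DerivedCategory.Q.map (PhiMapGen (Cg gs) f) ≫ (isoR gs N').hom := by
  apply (Groth.Agent.Lib.Helper21.RGb.bijective_comp_eps (Ideal.span {x : A | x ∈ gs})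
    (DerivedCategory.Q.obj (Phi gs N)) _ (torsJ_Phi gs N)).1
  change ((isoR gs N).hom ≫ _) ≫ (DRing.RgammaIε (Ideal.span {x : A | x ∈ gs})).app _ =
    (_ ≫ (isoR gs N').hom) ≫ (DRing.RgammaIε (Ideal.span {x : A | x ∈ gs})).app _
  have hn := (DRing.RgammaIε (Ideal.span {x : A | x ∈ gs})).naturality
    ((DerivedCategory.singleFunctor (ModuleCat.{u} A) 0).map f)
  simp only [Functor.id_map] at hn
  rw [Category.assoc, hn, ← Category.assoc, isoR_hom_eps, Category.assoc, isoR_hom_eps,
    augD_naturality]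

end main

end Rl

end Groth.Agent.Lib.Helper18.DR
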