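import Mathlib

/-!
# Adic completion of `F ⊗ M` as the limit of the tower `F ⊗ M/I^n M` (helper18)
-/

set_option autoImplicit false
set_option linter.style.haveILetI false
universe u
open scoped TensorProduct

namespace Groth.Agent.Lib.Helper18.DR

namespace Rl

variable {A : Type u} [CommRing A] (I : Ideal A)

section adic

variable (X : Type u) [AddCommGroup X] [Module A X]

/-- the adic completion is the limit of the tower `X/I^n X` -/
theorem adic_lim (x : ∀ n : ℕ, X ⧸ (I ^ n • ⊤ : Submodule A X))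
    (hx : ∀ n, Submodule.factorPowSucc I X n (x (n + 1)) = x n) :
    ∃! y : AdicCompletion I X, ∀ n, AdicCompletion.eval I X n y = x n := by
  have hall : ∀ (m n : ℕ) (hmn : m ≤ n), AdicCompletion.transitionMap I X hmn (x n) = x m := by
    intro m n hmn
    induction n, hmn using Nat.le_induction with
    | base =>
      obtain ⟨z, hz⟩ := Submodule.Quotient.mk_surjective _ (x m)
      rw [← hz]
      rfl
    | succ n hmn ih =>
      obtain ⟨z, hz⟩ := Submodule.Quotient.mk_surjective _ (x (n + 1))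
      have h1 : x n = Submodule.Quotient.mk z := by
        rw [← hx n, ← hz]
        rfl
      rw [← ih, h1, ← hz]
      rfl
  refine ⟨⟨x, fun {m n} hmn => hall m n hmn⟩, fun n => rfl, ?_⟩
  intro y hy
  exact AdicCompletion.ext (fun n => hy n)

end adic

section tensor

variable (F M : Type u) [AddCommGroup F] [Module A F] [AddCommGroup M] [Module A M]

/-- `M/I^n M` -/
abbrev Mq (n : ℕ) : Type u := M ⧸ (I ^ n • ⊤ : Submodule A M)

/-- the transition maps `M/I^{n+1} M → M/I^n M` -/
def tr (n : ℕ) : Mq I M (n + 1) →ₗ[A] Mq I M n :=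
  Submodule.mapQ (I ^ (n + 1) • ⊤ : Submodule A M) (I ^ n • ⊤ : Submodule A M) LinearMap.id
    (Submodule.smul_mono (Ideal.pow_le_pow_right (Nat.le_succ n)) le_rfl)

lemma tr_mk (n : ℕ) (m : M) :
    tr I M n (Submodule.Quotient.mk m) = Submodule.Quotient.mk m := rfl

lemma tr_surjective (n : ℕ) : Function.Surjective (tr I M n) := by
  intro y
  obtain ⟨m, rfl⟩ := Submodule.Quotient.mk_surjective _ y
  exact ⟨Submodule.Quotient.mk m, rfl⟩

variable {I M} in
lemma smul_eq_zero_of_mem {n : ℕ} {a : A} (ha : a ∈ I ^ n) (w : F ⊗[A] Mq I M n) :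
    a • w = 0 := by
  induction w using TensorProduct.induction_on with
  | zero => exact smul_zero a
  | tmul f y =>
    obtain ⟨m, rfl⟩ := Submodule.Quotient.mk_surjective _ y
    rw [TensorProduct.smul_tmul', TensorProduct.smul_tmul, ← Submodule.Quotient.mk_smul]
    have : (Submodule.Quotient.mk (a • m) : Mq I M n) = 0 := by
      rw [Submodule.Quotient.mk_eq_zero]
      exact Submodule.smul_mem_smul ha Submodule.mem_top
    rw [this, TensorProduct.tmul_zero]
  | add w₁ w₂ h₁ h₂ => rw [smul_add, h₁, h₂, add_zero]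

lemma smul_top_le_ker (n : ℕ) :
    (I ^ n • ⊤ : Submodule A (F ⊗[A] M)) ≤
      LinearMap.ker (LinearMap.lTensor F (Submodule.mkQ (I ^ n • ⊤ : Submodule A M))) := by
  rw [Submodule.smul_le]
  intro a ha z _
  rw [LinearMap.mem_ker, map_smul]
  exact smul_eq_zero_of_mem F ha _

lemma ker_le_smul_top (n : ℕ) :
    LinearMap.ker (LinearMap.lTensor F (Submodule.mkQ (I ^ n • ⊤ : Submodule A M))) ≤
      (I ^ n • ⊤ : Submodule A (F ⊗[A] M)) := by
  intro z hz
  have hex : Function.Exact (LinearMap.lTensor F (I ^ n • ⊤ : Submodule A M).subtype)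
      (LinearMap.lTensor F (Submodule.mkQ (I ^ n • ⊤ : Submodule A M))) :=
    lTensor_exact F (LinearMap.exact_subtype_mkQ _) (Submodule.mkQ_surjective _)
  obtain ⟨w, rfl⟩ := (hex z).1 hz
  induction w using TensorProduct.induction_on with
  | zero => rw [map_zero]; exact Submodule.zero_mem _
  | tmul f y =>
    rw [LinearMap.lTensor_tmul]
    change f ⊗ₜ[A] (y : M) ∈ _
    have hy := y.2
    refine Submodule.smul_induction_on (p := fun m => f ⊗ₜ[A] m ∈
      (I ^ n • ⊤ : Submodule A (F ⊗[A] M))) hy ?_ ?_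
    · intro a ha m _
      rw [TensorProduct.tmul_smul]
      exact Submodule.smul_mem_smul ha Submodule.mem_top
    · intro m₁ m₂ h₁ h₂
      rw [TensorProduct.tmul_add]
      exact Submodule.add_mem _ h₁ h₂
  | add w₁ w₂ h₁ h₂ =>
    rw [map_add]
    exact Submodule.add_mem _ (h₁ (by simpa using (hex _).2 ⟨w₁, rfl⟩))
      (h₂ (by simpa using (hex _).2 ⟨w₂, rfl⟩))

/-- `(F ⊗ M)/I^n → F ⊗ M/I^n` -/
noncomputable def kap (n : ℕ) :
    (F ⊗[A] M) ⧸ (I ^ n • ⊤ : Submodule A (F ⊗[A] M)) →ₗ[A] F ⊗[A] Mq I M n :=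
  Submodule.liftQ _ (LinearMap.lTensor F (Submodule.mkQ (I ^ n • ⊤ : Submodule A M)))
    (smul_top_le_ker I F M n)

lemma kap_mk (n : ℕ) (z : F ⊗[A] M) :
    kap I F M n (Submodule.Quotient.mk z) =
      LinearMap.lTensor F (Submodule.mkQ (I ^ n • ⊤ : Submodule A M)) z := rfl

lemma kap_bijective (n : ℕ) : Function.Bijective (kap I F M n) := by
  constructor
  · rw [← LinearMap.ker_eq_bot]
    exact Submodule.ker_liftQ_eq_bot _ _ _ (ker_le_smul_top I F M n)
  · intro w
    obtain ⟨z, rfl⟩ := LinearMap.lTensor_surjective F (Submodule.mkQ_surjective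
      (I ^ n • ⊤ : Submodule A M)) w
    exact ⟨Submodule.Quotient.mk z, rfl⟩

lemma kap_factorPowSucc (n : ℕ)
    (w : (F ⊗[A] M) ⧸ (I ^ (n + 1) • ⊤ : Submodule A (F ⊗[A] M))) :
    kap I F M n (Submodule.factorPowSucc I (F ⊗[A] M) n w) =
      LinearMap.lTensor F (tr I M n) (kap I F M (n + 1) w) := by
  obtain ⟨z, rfl⟩ := Submodule.Quotient.mk_surjective _ w
  change kap I F M n (Submodule.Quotient.mk z) = _
  rw [kap_mk, kap_mk, ← LinearMap.comp_apply, ← LinearMap.lTensor_comp]
  rfl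

/-- `(F ⊗ M)^ → F ⊗ M/I^n` -/
noncomputable def pF (n : ℕ) : AdicCompletion I (F ⊗[A] M) →ₗ[A] F ⊗[A] Mq I M n :=
  kap I F M n ∘ₗ AdicCompletion.eval I (F ⊗[A] M) n

lemma pF_apply_of_val (n : ℕ) (y : AdicCompletion I (F ⊗[A] M)) (z : F ⊗[A] M)
    (hz : y.val n = Submodule.Quotient.mk z) :
    pF I F M n y = LinearMap.lTensor F (Submodule.mkQ (I ^ n • ⊤ : Submodule A M)) z := by
  change kap I F M n (y.val n) = _
  rw [hz, kap_mk]

lemma tr_pF (n : ℕ) (y : AdicCompletion I (F ⊗[A] M)) :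
    LinearMap.lTensor F (tr I M n) (pF I F M (n + 1) y) = pF I F M n y := by
  change _ = kap I F M n (y.val n)
  have h : y.val n = Submodule.factorPowSucc I (F ⊗[A] M) n (y.val (n + 1)) :=
    (y.2 (Nat.le_succ n)).symm
  rw [h, kap_factorPowSucc]
  rfl

theorem pF_lim (x : ∀ n : ℕ, F ⊗[A] Mq I M n)
    (hx : ∀ n, LinearMap.lTensor F (tr I M n) (x (n + 1)) = x n) :
    ∃! y : AdicCompletion I (F ⊗[A] M), ∀ n, pF I F M n y = x n := by
  let e : ∀ n, ((F ⊗[A] M) ⧸ (I ^ n • ⊤ : Submodule A (F ⊗[A] M))) ≃ₗ[A] F ⊗[A] Mq I M n :=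
    fun n => LinearEquiv.ofBijective (kap I F M n) (kap_bijective I F M n)
  have he : ∀ n w, e n w = kap I F M n w := fun n w => rfl
  obtain ⟨y, hy, hy'⟩ := adic_lim I (F ⊗[A] M) (fun n => (e n).symm (x n)) (by
    intro n
    apply (e n).injective
    rw [he, kap_factorPowSucc, ← he (n + 1), LinearEquiv.apply_symm_apply,
      LinearEquiv.apply_symm_apply, hx])
  refine ⟨y, fun n => ?_, fun y' h' => hy' y' (fun n => ?_)⟩
  · change kap I F M n (AdicCompletion.eval I _ n y) = x n
    rw [hy n, ← he, LinearEquiv.apply_symm_apply]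
  · apply (e n).injective
    rw [LinearEquiv.apply_symm_apply]
    exact h' n

variable {F} in
lemma pF_naturality {F' : Type u} [AddCommGroup F'] [Module A F'] (a : F →ₗ[A] F') (n : ℕ)
    (y : AdicCompletion I (F ⊗[A] M)) :
    LinearMap.rTensor (Mq I M n) a (pF I F M n y) =
      pF I F' M n (AdicCompletion.map I (LinearMap.rTensor M a) y) := by
  obtain ⟨z, hz⟩ := Submodule.Quotient.mk_surjective _ (y.val n)
  have hz' : (AdicCompletion.map I (LinearMap.rTensor M a) y).val n =
      Submodule.Quotient.mk (LinearMap.rTensor M a z) := by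
    rw [AdicCompletion.map_val_apply, ← hz]
    rfl
  rw [pF_apply_of_val I F M n y z hz.symm, pF_apply_of_val I F' M n _ _ hz',
    ← LinearMap.comp_apply, ← LinearMap.comp_apply, LinearMap.rTensor_comp_lTensor,
    LinearMap.lTensor_comp_rTensor]

end tensor

end Rl

end Groth.Agent.Lib.Helper18.DR
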