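import Mathlib
import Groth.Agent.Lib.Helper18.RlA
import Groth.Agent.Lib.Helper18.RlC
import Groth.Agent.Lib.Helper18.RlD
import Groth.Agent.Lib.Helper21.RHg
import Groth.Agent.Lib.Helper18.DCmp8
import Groth.Agent.Lib.Helper18.DRDC6
import Groth.Agent.Lib.Helper18.DCAdicE
import Groth.Agent.Lib.Helper18.DRPerf
import Groth.Agent.Lib.Helper20.CechH0

/-!
# The derived completion of `RΓ_J(M)` is `R lim RΓ_J(M/I^n M)` (helper18)
-/

set_option autoImplicit false
set_option linter.style.haveILetI false
universe u
open CategoryTheory CategoryTheory.Limits CategoryTheory.Pretriangulated DerivedCategory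
  MonoidalCategory CochainComplex
open scoped TensorProduct

attribute [local instance] HasDerivedCategory.standard

namespace Groth.Agent.Lib.Helper18.DR

namespace Rl

open RHomCmp Cech TotSingleR

variable {A : Type u} [CommRing A] (I : Ideal A)

section functor

/-- the adic completion functor -/
noncomputable def compF : ModuleCat.{u} A ⥤ ModuleCat.{u} A where
  obj N := ModuleCat.of A (AdicCompletion I N)
  map f := ModuleCat.ofHom ((AdicCompletion.map I f.hom).restrictScalars A)
  map_id N := by
    refine ModuleCat.hom_ext (LinearMap.ext fun x => ?_)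
    change AdicCompletion.map I (LinearMap.id) x = x
    rw [AdicCompletion.map_id]
    rfl
  map_comp f g := by
    refine ModuleCat.hom_ext (LinearMap.ext fun x => ?_)
    change AdicCompletion.map I (g.hom ∘ₗ f.hom) x =
      AdicCompletion.map I g.hom (AdicCompletion.map I f.hom x)
    rw [AdicCompletion.map_comp_apply]

instance : (compF I).Additive where
  map_add {X Y f g} := by
    refine ModuleCat.hom_ext (LinearMap.ext fun x => ?_)
    change AdicCompletion.map I (f.hom + g.hom) x =
      AdicCompletion.map I f.hom x + AdicCompletion.map I g.hom x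
    exact Groth.Agent.Lib.Helper21.RHf.cmap_add I f.hom g.hom x

/-- the completion map as a natural transformation -/
noncomputable def compη : 𝟭 (ModuleCat.{u} A) ⟶ compF I where
  app N := ModuleCat.ofHom (AdicCompletion.of I N)
  naturality N N' f := by
    refine ModuleCat.hom_ext (LinearMap.ext fun x => ?_)
    change AdicCompletion.of I N' (f.hom x) =
      AdicCompletion.map I f.hom (AdicCompletion.of I N x)
    rw [AdicCompletion.map_of]

end functor

section tower

variable (gs : List A) (M : Type u) [AddCommGroup M] [Module A M]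

/-- `M/I^n M` as an object -/
noncomputable abbrev MqC (n : ℕ) : ModuleCat.{u} A := ModuleCat.of A (Mq I M n)

/-- the transition maps -/
noncomputable def trC (n : ℕ) : MqC I M (n + 1) ⟶ MqC I M n := ModuleCat.ofHom (tr I M n)

/-- the tower of complexes `Č ⊗ M/I^n` -/
noncomputable abbrev Yt (n : ℕ) : DRing.Cx A := Phi gs (MqC I M n)

/-- its transition maps -/
noncomputable def tt (n : ℕ) : Yt I gs M (n + 1) ⟶ Yt I gs M n :=
  PhiMapGen (Cg gs) (trC I M n)

/-- the termwise completion of `Č ⊗ M` -/
noncomputable abbrev Lc : DRing.Cx A :=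
  ((compF I).mapHomologicalComplex (ComplexShape.up ℤ)).obj (Phi gs (ModuleCat.of A M))

/-- the projections -/
noncomputable def pp (n : ℕ) : Lc I gs M ⟶ Yt I gs M n where
  f j := ModuleCat.ofHom (pF I ((Cg gs).X j) M n)
  comm' i j _ := by
    refine ModuleCat.hom_ext (LinearMap.ext fun y => ?_)
    exact pF_naturality I M ((Cg gs).d i j).hom n y

lemma pp_tt (n : ℕ) : pp I gs M (n + 1) ≫ tt I gs M n = pp I gs M n := by
  ext j : 1
  refine ModuleCat.hom_ext (LinearMap.ext fun y => ?_)
  exact tr_pF I ((Cg gs).X j) M n y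

lemma tt_surjective (n : ℕ) (j : ℤ) : Function.Surjective ((tt I gs M n).f j).hom :=
  LinearMap.lTensor_surjective ((Cg gs).X j) (tr_surjective I M n)

lemma pp_lim (j : ℤ) (x : ∀ n, (Yt I gs M n).X j)
    (hx : ∀ n, ((tt I gs M n).f j).hom (x (n + 1)) = x n) :
    ∃! y : (Lc I gs M).X j, ∀ n, ((pp I gs M n).f j).hom y = x n :=
  pF_lim I ((Cg gs).X j) M x hx

end tower

section univ

variable [IsNoetherianRing A] (l : List A)

/-- the test objects: derived complete with respect to the elements of `l` -/
def EE (E : Dual.D A) : Prop := ∀ g ∈ l, FC g E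

omit [IsNoetherianRing A] in
lemma EE_shift (E : Dual.D A) (n : ℤ) (h : EE l E) : EE l (E⟦n⟧) :=
  fun g hg => (h g hg).shift n

lemma termOK_tensor (N : Type u) [AddCommGroup N] [Module A N] [Module.Flat A N]
    (M : Type u) [AddCommGroup M] [Module A M] [Module.Finite A M] :
    TermOK (compF (Ideal.span {x : A | x ∈ l})) (compη (Ideal.span {x : A | x ∈ l})) (EE l)
      (ModuleCat.of A (N ⊗[A] M)) := by
  have h : TermOK (compF (Ideal.span {x : A | x ∈ l})) (compη (Ideal.span {x : A | x ∈ l}))
      (EE l) (ModuleCat.of A (M ⊗[A] N)) := fun E hE =>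
    Groth.Agent.Lib.Helper21.RHg.preBij_completion N M l E hE
  exact h.of_iso (TensorProduct.comm A M N).toModuleIso

omit [IsNoetherianRing A] in
lemma vanishesOutside_Phi (gs : List A) (N : ModuleCat.{u} A) :
    DRing.VanishesOutside (Phi gs N) 0 (gs.length : ℤ) := by
  intro i hi
  refine (tensorRight N).map_isZero ?_
  rcases hi with hi | hi
  · exact Groth.Agent.Lib.Helper20.CechH0.isZero_extCech_X_of_neg _ gs i hi
  · exact LDual.isZero_extCech_X _ gs i hi

theorem univ_Phi (gs : List A) (M : Type u) [AddCommGroup M] [Module A M] [Module.Finite A M] :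
    Univ (compF (Ideal.span {x : A | x ∈ l})) (compη (Ideal.span {x : A | x ∈ l})) (EE l)
      (Phi gs (ModuleCat.of A M)) := by
  refine univ_bounded (EE_shift l) _ 0 (gs.length : ℤ) (vanishesOutside_Phi gs _) ?_
  intro i _ _
  haveI : Module.Flat A ((Cg gs).X i) :=
    LDual.flat_extCech_X (ModuleCat.of A A) (inferInstanceAs (Module.Flat A A)) gs i
  exact termOK_tensor l ((Cg gs).X i) M

theorem isDerivedComplete_Lc (gs : List A) (M : Type u) [AddCommGroup M] [Module A M] :
    DRing.IsDerivedComplete I (DRing.toD (Lc I gs M)) := by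
  refine bounded_induction (fun Y => DRing.IsDerivedComplete I Y)
    (fun e h => DCAdic.isDerivedComplete_of_iso I e h)
    (fun X hX => (isDerivedComplete_iff_fc I X).2 (fun f _ => fc_of_isZero hX))
    (fun T hT h1 h3 => (isDerivedComplete_iff_fc I _).2 (fun f hf =>
      fc_obj₂ T hT ((isDerivedComplete_iff_fc I _).1 h1 f hf)
        ((isDerivedComplete_iff_fc I _).1 h3 f hf)))
    (Lc I gs M) 0 (gs.length : ℤ) ?_ ?_
  · intro i hi
    exact (compF I).map_isZero (vanishesOutside_Phi gs _ i hi)
  · intro i _ _
    haveI : IsAdicComplete I (AdicCompletion I ((Phi gs (ModuleCat.of A M)).X i)) :=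
      AdicCompletion.isAdicComplete (IsNoetherian.noetherian I)
    have h0 : DRing.IsDerivedComplete I
        (Dual.inD A (AdicCompletion I ((Phi gs (ModuleCat.of A M)).X i))) :=
      isDerivedComplete_of_isAdicComplete
        (M := AdicCompletion I ((Phi gs (ModuleCat.of A M)).X i)) I
    exact DCAdic.isDerivedComplete_of_iso I (SgShiftIso (-i) i 0 (by omega) _)
      (isDerivedComplete_shift I h0 (-i))

end univ

section main

variable [IsNoetherianRing A]

theorem main_aux (l gs : List A) [DRing.HasRgammaI (Ideal.span {x : A | x ∈ gs})]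
    [DRing.HasDerivedCompletion (Ideal.span {x : A | x ∈ l})]
    (M : Type u) [AddCommGroup M] [Module A M] [Module.Finite A M] :
    ∃ d : DerivedCategory.Q.obj (Lc (Ideal.span {x : A | x ∈ l}) gs M) ≅
        ((DRing.derivedCompletion (Ideal.span {x : A | x ∈ l})).obj
          ((DRing.RgammaI (Ideal.span {x : A | x ∈ gs})).obj (Dual.inD A M))).obj,
      ((isoR gs (ModuleCat.of A M)).inv ≫ DerivedCategory.Q.map
        (ηCx (compF (Ideal.span {x : A | x ∈ l})) (compη (Ideal.span {x : A | x ∈ l}))
          (Phi gs (ModuleCat.of A M)))) ≫ d.hom =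
        DRing.toDerivedCompletion (Ideal.span {x : A | x ∈ l}) _ := by
  refine nonempty_iso_of_universal
    (P := fun L => DRing.IsDerivedComplete (Ideal.span {x : A | x ∈ l}) L) _ _
    (isDerivedComplete_Lc _ gs M)
    ((DRing.derivedCompletion (Ideal.span {x : A | x ∈ l})).obj _).property ?_
    (fun L' hL' => bijective_toDerivedCompletion_comp _ _ L' hL')
  intro E hE
  have hE' : EE l E := fun g hg =>
    (isDerivedComplete_iff_fc _ E).1 hE g (Ideal.subset_span hg)
  exact (PreBij.of_isIso E _).comp (univ_Phi l gs M E hE')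

theorem main (I J : Ideal A) [DRing.HasRgammaI J] [DRing.HasDerivedCompletion I]
    [∀ K : ℕ → Dual.D A, HasProduct K]
    (M : Type u) [AddCommGroup M] [Module A M] [Module.Finite A M] :
    DCoh.IsRlim
        (fun n : ℕ => (DRing.RgammaI J).obj (Dual.inD A (M ⧸ (I ^ n • ⊤ : Submodule A M))))
        (fun n : ℕ => (DRing.RgammaI J).map
          ((DerivedCategory.singleFunctor (ModuleCat.{u} A) 0).map
            (ModuleCat.ofHom (Submodule.mapQ (I ^ (n + 1) • ⊤ : Submodule A M)
              (I ^ n • ⊤ : Submodule A M) LinearMap.id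
              (Submodule.smul_mono (Ideal.pow_le_pow_right (Nat.le_succ n)) le_rfl)))))
        ((DRing.derivedCompletion I).obj ((DRing.RgammaI J).obj (Dual.inD A M))).obj ∧
      ∀ i : ℤ, i < 0 → Subsingleton (Dual.HD A
        ((DRing.derivedCompletion I).obj ((DRing.RgammaI J).obj (Dual.inD A M))).obj i) := by
  classical
  obtain ⟨s, hs⟩ := (IsNoetherian.noetherian J : J.FG)
  have hJ : Ideal.span {x : A | x ∈ s.toList} = J := by
    rw [← hs]
    congr 1
    ext x
    simp
  obtain ⟨s', hs'⟩ := (IsNoetherian.noetherian I : I.FG)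
  have hI : Ideal.span {x : A | x ∈ s'.toList} = I := by
    rw [← hs']
    congr 1
    ext x
    simp
  subst hJ
  subst hI
  obtain ⟨d, -⟩ := main_aux s'.toList s.toList M
  constructor
  · refine isRlim_of_tower (Yt _ s.toList M) (tt _ s.toList M) (pp _ s.toList M)
      (pp_tt _ s.toList M) (tt_surjective _ s.toList M) (pp_lim _ s.toList M) _ _
      (fun n => (isoR s.toList (MqC _ M n)).symm) ?_ d.symm
    intro n
    dsimp only [Iso.symm_hom]
    rw [Iso.comp_inv_eq, Category.assoc, Iso.eq_inv_comp]
    exact isoR_naturality s.toList (trC _ M n)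
  · intro i hi
    have hz : IsZero ((H A i).obj (DRing.toD (Lc (Ideal.span {x : A | x ∈ s'.toList})
        s.toList M))) :=
      (ShortComplex.isZero_homology_of_isZero_X₂ _
        ((compF _).map_isZero (vanishesOutside_Phi s.toList _ i (Or.inl hi)))).of_iso
        (HtoDIso _ i)
    have hz' : IsZero ((H A i).obj ((DRing.derivedCompletion
        (Ideal.span {x : A | x ∈ s'.toList})).obj ((DRing.RgammaI
          (Ideal.span {x : A | x ∈ s.toList})).obj (Dual.inD A M))).obj) :=
      hz.of_iso ((H A i).mapIso d.symm)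
    exact ModuleCat.subsingleton_of_isZero hz'

end main

end Rl

end Groth.Agent.Lib.Helper18.DR
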