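import Mathlib
import Groth.Agent.Lib.Helper18.RlC
import Groth.Agent.Lib.Helper18.DRChain
import Groth.Agent.Lib.Helper18.DRProj

/-!
# `H^0` of a complex vanishing in degree `-1`, elementwise (helper18)
-/

set_option autoImplicit false
set_option linter.style.haveILetI false
universe u
open CategoryTheory CategoryTheory.Limits DerivedCategory

attribute [local instance] HasDerivedCategory.standard

namespace Groth.Agent.Lib.Helper18.DR

namespace Rl

open TotSingleR

variable {A : Type u} [CommRing A]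

section H0

variable (X : DRing.Cx A) (hX : IsZero (X.X (-1)))

/-- `H^0(X) ⟶ X^0` when `X^{-1} = 0` -/
noncomputable def iota0 : X.homology 0 ⟶ X.X 0 :=
  haveI := X.isIso_homologyπ (-1) 0 (by simp) (hX.eq_of_src _ _)
  inv (X.homologyπ 0) ≫ X.iCycles 0

lemma π_iota0 : X.homologyπ 0 ≫ iota0 X hX = X.iCycles 0 := by
  haveI := X.isIso_homologyπ (-1) 0 (by simp) (hX.eq_of_src _ _)
  simp [iota0]

lemma iota0_d : iota0 X hX ≫ X.d 0 1 = 0 := by
  dsimp only [iota0]
  rw [Category.assoc, HomologicalComplex.iCycles_d, comp_zero]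

instance mono_iota0 : Mono (iota0 X hX) := by
  haveI := X.isIso_homologyπ (-1) 0 (by simp) (hX.eq_of_src _ _)
  dsimp only [iota0]
  infer_instance

lemma iota0_injective : Function.Injective (iota0 X hX).hom :=
  (ModuleCat.mono_iff_injective _).1 inferInstance

lemma exists_iota0_eq (z : X.X 0) (hz : (X.d 0 1).hom z = 0) :
    ∃ h : X.homology 0, (iota0 X hX).hom h = z := by
  let kk : ModuleCat.of A A ⟶ X.X 0 := ModuleCat.ofHom (LinearMap.toSpanSingleton A (X.X 0) z)
  have hk : kk ≫ X.d 0 1 = 0 := by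
    apply ModuleCat.hom_ext
    apply LinearMap.ext_ring
    simp [kk, hz]
  let zt : X.cycles 0 := (X.liftCycles kk 1 (by simp) hk).hom (1 : A)
  have hzt : (X.iCycles 0).hom zt = z := by
    have h0 : (X.liftCycles kk 1 (by simp) hk ≫ X.iCycles 0).hom (1 : A) = kk.hom (1 : A) := by
      rw [X.liftCycles_i]
    rw [ModuleCat.hom_comp, LinearMap.comp_apply] at h0
    have h00 : kk.hom (1 : A) = z := by simp [kk]
    exact h0.trans h00
  refine ⟨(X.homologyπ 0).hom zt, ?_⟩
  have := congrArg (fun f => f.hom zt) (π_iota0 X hX)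
  simp only [ModuleCat.hom_comp, LinearMap.comp_apply] at this
  rw [this, hzt]

variable {X} in
lemma iota0_naturality {Y : DRing.Cx A} (hY : IsZero (Y.X (-1))) (f : X ⟶ Y) :
    HomologicalComplex.homologyMap f 0 ≫ iota0 Y hY = iota0 X hX ≫ f.f 0 := by
  rw [← cancel_epi (X.homologyπ 0), HomologicalComplex.homologyπ_naturality_assoc, π_iota0,
    ← Category.assoc, π_iota0, HomologicalComplex.cyclesMap_i]

/-- `H^0(Q X) ⟶ X^0` -/
noncomputable def j0 : (H A 0).obj (DRing.toD X) ⟶ X.X 0 := (HtoDIso X 0).hom ≫ iota0 X hX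

lemma j0_d : j0 X hX ≫ X.d 0 1 = 0 := by
  dsimp only [j0]
  rw [Category.assoc, iota0_d, comp_zero]

lemma j0_d_apply (h : (H A 0).obj (DRing.toD X)) : (X.d 0 1).hom ((j0 X hX).hom h) = 0 := by
  have := congrArg (fun f => f.hom h) (j0_d X hX)
  simpa only [ModuleCat.hom_comp, LinearMap.comp_apply, ModuleCat.hom_zero,
    LinearMap.zero_apply] using this

lemma j0_injective : Function.Injective (j0 X hX).hom := by
  haveI : Mono (j0 X hX) := by
    dsimp only [j0]
    infer_instance
  exact (ModuleCat.mono_iff_injective _).1 inferInstance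

lemma exists_j0_eq (z : X.X 0) (hz : (X.d 0 1).hom z = 0) :
    ∃ h : (H A 0).obj (DRing.toD X), (j0 X hX).hom h = z := by
  obtain ⟨h', hh'⟩ := exists_iota0_eq X hX z hz
  refine ⟨(HtoDIso X 0).inv.hom h', ?_⟩
  dsimp only [j0]
  rw [ModuleCat.hom_comp, LinearMap.comp_apply]
  have : (HtoDIso X 0).hom.hom ((HtoDIso X 0).inv.hom h') = h' := by
    have := congrArg (fun f => f.hom h') (HtoDIso X 0).inv_hom_id
    exact this
  rw [this, hh']

variable {X} in
lemma j0_naturality {Y : DRing.Cx A} (hY : IsZero (Y.X (-1))) (f : X ⟶ Y) :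
    (H A 0).map (DerivedCategory.Q.map f) ≫ j0 Y hY = j0 X hX ≫ f.f 0 := by
  dsimp only [j0]
  have h := (DerivedCategory.homologyFunctorFactors (ModuleCat.{u} A) 0).hom.naturality f
  have h' : (H A 0).map (DerivedCategory.Q.map f) ≫ (HtoDIso Y 0).hom =
      (HtoDIso X 0).hom ≫ HomologicalComplex.homologyMap f 0 := h
  rw [← Category.assoc, h', Category.assoc, iota0_naturality hX hY, Category.assoc]

variable {X} in
lemma j0_naturality_apply {Y : DRing.Cx A} (hY : IsZero (Y.X (-1))) (f : X ⟶ Y)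
    (h : (H A 0).obj (DRing.toD X)) :
    (j0 Y hY).hom (((H A 0).map (DerivedCategory.Q.map f)).hom h) =
      (f.f 0).hom ((j0 X hX).hom h) := by
  have := congrArg (fun g => g.hom h) (j0_naturality hX hY f)
  simpa only [ModuleCat.hom_comp, LinearMap.comp_apply] using this

end H0

section single

variable (M : ModuleCat.{u} A)

lemma isZero_S0_X (i : ℤ) (hi : i ≠ 0) : IsZero ((S0 M).X i) :=
  HomologicalComplex.isZero_single_obj_X (ComplexShape.up ℤ) 0 M i hi

lemma HSg_hom_eq :
    (HSg 0 M).hom = j0 (S0 M) (isZero_S0_X M (-1) (by omega)) ≫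
      (HomologicalComplex.singleObjXSelf (ComplexShape.up ℤ) 0 M).hom := by
  have h : (HSg 0 M).hom = (homologyFunctor (ModuleCat.{u} A) 0).map
      (((singleFunctorsPostcompQIso (ModuleCat.{u} A)).hom.hom 0).app M) ≫ 𝟙 _ ≫
      (homologyFunctorFactors (ModuleCat A) 0).hom.app
        ((HomologicalComplex.single (ModuleCat A) (ComplexShape.up ℤ) 0).obj M) ≫
      (HomologicalComplex.singleObjHomologySelfIso (ComplexShape.up ℤ) 0 M).hom := rfl
  rw [h, singleFunctorsPostcompQIso_hom_hom, NatTrans.id_app]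
  erw [CategoryTheory.Functor.map_id, Category.id_comp, Category.id_comp]

/-- the basic computation: `H^0` of a map to `M[0]` -/
theorem HSg_map_apply (X : DRing.Cx A) (hX : IsZero (X.X (-1))) (f : X ⟶ S0 M)
    (h : (H A 0).obj (DRing.toD X)) :
    (HSg 0 M).hom.hom (((H A 0).map (DerivedCategory.Q.map f ≫ (sgIso M).inv)).hom h) =
      (HomologicalComplex.singleObjXSelf (ComplexShape.up ℤ) 0 M).hom.hom
        ((f.f 0).hom ((j0 X hX).hom h)) := by
  have h1 : DerivedCategory.Q.map f ≫ (sgIso M).inv = DerivedCategory.Q.map f :=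
    Category.comp_id _
  rw [h1, HSg_hom_eq]
  change (HomologicalComplex.singleObjXSelf (ComplexShape.up ℤ) 0 M).hom.hom
    ((j0 (S0 M) (isZero_S0_X M (-1) (by omega))).hom
      (((H A 0).map (DerivedCategory.Q.map f)).hom h)) = _
  rw [j0_naturality_apply hX (isZero_S0_X M (-1) (by omega)) f h]

end single

end Rl

end Groth.Agent.Lib.Helper18.DR
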