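import Mathlib
import Groth.Agent.Lib.Helper18.RlF
import Groth.Agent.Lib.Helper18.DualFin
import Groth.Agent.Lib.Helper18.FbcA
import Groth.Agent.Lib.Helper20.CechH0
import Groth.Agent.Lib.Helper4.LC9

/-!
# The degree zero cocycles of `Č ⊗ N` are the `J`-power torsion elements of `N` (helper18)
-/

set_option autoImplicit false
set_option linter.style.haveILetI false
universe u
open CategoryTheory CategoryTheory.Limits CategoryTheory.Pretriangulated DerivedCategory
  MonoidalCategory CochainComplex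

attribute [local instance] HasDerivedCategory.standard

namespace Groth.Agent.Lib.Helper18.DR

namespace Rl

open RHomCmp Cech TotSingleR

variable {A : Type u} [CommRing A]

section aug0

lemma isIso_fst_f_zero {K L : CochainComplex (ModuleCat.{u} A) ℤ} (φ : K ⟶ L)
    (hL : IsZero (L.X (-1))) : IsIso ((mappingCocone.fst φ).f 0) := by
  refine ⟨(mappingCocone.inl φ).v 0 0 (add_zero 0), ?_, mappingCocone.inl_v_fst_f φ 0⟩
  have h := mappingCocone.id_X φ 0 (-1) (by omega)
  have h2 : (mappingCocone.snd φ).v 0 (-1) (by omega) = 0 := hL.eq_of_tgt _ _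
  rw [h2, zero_comp, add_zero] at h
  exact h

lemma isIso_augC_f_zero (gs : List A) : IsIso ((augC gs).f 0) := by
  induction gs with
  | nil =>
    rw [augC_nil]
    change IsIso (𝟙 _)
    infer_instance
  | cons g gs ih =>
    rw [augC_cons, HomologicalComplex.comp_f]
    haveI := ih
    haveI : IsIso ((fstC gs g).f 0) := by
      refine isIso_fst_f_zero _ ?_
      exact (DerCA.locFunctor (Submonoid.powers g)).map_isZero
        (Groth.Agent.Lib.Helper20.CechH0.isZero_extCech_X_of_neg _ gs (-1) (by omega))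
    infer_instance

variable (gs : List A)

/-- the degree zero component of the augmentation, `Č^0 ⊗ N ⟶ N` -/
noncomputable def a0 (N : ModuleCat.{u} A) : (Phi gs N).X 0 ⟶ N :=
  (augN gs N).f 0 ≫ (HomologicalComplex.singleObjXSelf (ComplexShape.up ℤ) 0 N).hom

instance isIso_augN_f_zero (N : ModuleCat.{u} A) : IsIso ((augN gs N).f 0) := by
  haveI := isIso_augC_f_zero gs
  dsimp only [augN]
  rw [HomologicalComplex.comp_f]
  haveI : IsIso (((GM N).map (augC gs)).f 0) := by
    change IsIso ((augC gs).f 0 ▷ N)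
    infer_instance
  infer_instance

instance isIso_a0 (N : ModuleCat.{u} A) : IsIso (a0 gs N) := by
  dsimp only [a0]
  infer_instance

lemma a0_bijective (N : ModuleCat.{u} A) : Function.Bijective (a0 gs N).hom :=
  (ConcreteCategory.isIso_iff_bijective _).1 (isIso_a0 gs N)

lemma a0_naturality {N N' : ModuleCat.{u} A} (f : N ⟶ N') :
    a0 gs N ≫ f = (PhiMapGen (Cg gs) f).f 0 ≫ a0 gs N' := by
  have h := congrArg (fun φ => φ.f 0) (augN_naturality gs f)
  simp only [HomologicalComplex.comp_f, HomologicalComplex.single_map_f_self] at h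
  dsimp only [a0]
  rw [← Category.assoc ((PhiMapGen (Cg gs) f).f 0), ← h]
  simp

lemma a0_naturality_apply {N N' : ModuleCat.{u} A} (f : N ⟶ N') (z : (Phi gs N).X 0) :
    f.hom ((a0 gs N).hom z) = (a0 gs N').hom (((PhiMapGen (Cg gs) f).f 0).hom z) := by
  have := congrArg (fun g => g.hom z) (a0_naturality gs f)
  simpa only [ModuleCat.hom_comp, LinearMap.comp_apply] using this

end aug0

section torsion

variable [IsNoetherianRing A] (gs : List A) [DRing.HasRgammaI (Ideal.span {x : A | x ∈ gs})]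

omit [IsNoetherianRing A] [DRing.HasRgammaI (Ideal.span {x : A | x ∈ gs})] in
lemma isZero_Phi_neg (N : ModuleCat.{u} A) : IsZero ((Phi gs N).X (-1)) :=
  (tensorRight N).map_isZero
    (Groth.Agent.Lib.Helper20.CechH0.isZero_extCech_X_of_neg _ gs (-1) (by omega))

omit [IsNoetherianRing A] in
lemma torsJ_single (J : Ideal A) (T : ModuleCat.{u} A) (hT : LocCoh.IsPowerTorsion J T) :
    TorsJ J ((DerivedCategory.singleFunctor (ModuleCat.{u} A) 0).obj T) := by
  intro i
  refine Groth.Agent.Lib.Helper21.RGb.isPowerTorsion_HD_Q J (S0 T) i ?_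
  by_cases hi : i = 0
  · subst hi
    exact Groth.Agent.Lib.Helper4.LC.isPowerTorsion_of_injective J
      (HomologicalComplex.singleObjXSelf (ComplexShape.up ℤ) 0 T).hom.hom
      ((ConcreteCategory.isIso_iff_bijective _).1 inferInstance).1 hT
  · intro x
    haveI : Subsingleton ((S0 T).X i) :=
      ModuleCat.subsingleton_of_isZero (isZero_S0_X T i hi)
    exact ⟨0, fun a _ => Subsingleton.elim _ _⟩

/-- the image of the degree zero cocycles of `Č ⊗ N` in `N` is the `J`-power torsion -/
theorem mem_torsionSub_iff_exists_cycle (N : ModuleCat.{u} A) (m : N) :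
    m ∈ DRing.torsionSub (Ideal.span {x : A | x ∈ gs}) N ↔
      ∃ z : (Phi gs N).X 0, ((Phi gs N).d 0 1).hom z = 0 ∧ (a0 gs N).hom z = m := by
  have key : ∀ h : (H A 0).obj (DRing.toD (Phi gs N)),
      (HSg 0 N).hom.hom (((H A 0).map (augD gs N)).hom h) =
        (a0 gs N).hom ((j0 (Phi gs N) (isZero_Phi_neg gs N)).hom h) := fun h =>
    HSg_map_apply N (Phi gs N) (isZero_Phi_neg gs N) (augN gs N) h
  constructor
  · rintro ⟨k, hk⟩
    -- the map `A/J^k → N`
    let g₀ : A →ₗ[A] N := LinearMap.toSpanSingleton A N m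
    have hg₀ : (Ideal.span {x : A | x ∈ gs}) ^ k ≤ LinearMap.ker g₀ := by
      intro a ha
      rw [LinearMap.mem_ker]
      change a • m = 0
      exact hk a ha
    let T : ModuleCat.{u} A := ModuleCat.of A (A ⧸ (Ideal.span {x : A | x ∈ gs}) ^ k)
    let g : T ⟶ N := ModuleCat.ofHom (Submodule.liftQ _ g₀ hg₀)
    let q : ModuleCat.of A A ⟶ T :=
      ModuleCat.ofHom (Submodule.mkQ ((Ideal.span {x : A | x ∈ gs}) ^ k))
    have hqg : q ≫ g = ModuleCat.ofHom g₀ := by
      apply ModuleCat.hom_ext
      apply LinearMap.ext_ring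
      rfl
    have hT : TorsJ (Ideal.span {x : A | x ∈ gs})
        ((DerivedCategory.singleFunctor (ModuleCat.{u} A) 0).obj T) :=
      torsJ_single _ T (Groth.Agent.Lib.Helper4.LC.isPowerTorsion_quotient_pow _ k)
    obtain ⟨v, hv⟩ := (bijective_comp_augD gs N _ hT).2
      ((DerivedCategory.singleFunctor (ModuleCat.{u} A) 0).map g)
    have hv' : v ≫ augD gs N = (DerivedCategory.singleFunctor (ModuleCat.{u} A) 0).map g := hv
    let h : (H A 0).obj (DRing.toD (Phi gs N)) :=
      homSgToH 0 _ ((DerivedCategory.singleFunctor (ModuleCat.{u} A) 0).map q ≫ v)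
    refine ⟨(j0 (Phi gs N) (isZero_Phi_neg gs N)).hom h, j0_d_apply _ _ h, ?_⟩
    rw [← key]
    have e1 : ((H A 0).map (augD gs N)).hom h =
        homSgToH 0 _ ((DerivedCategory.singleFunctor (ModuleCat.{u} A) 0).map (q ≫ g)) := by
      rw [← Fbc.homSgToH_comp, Category.assoc, hv', ← Functor.map_comp]
    rw [e1, hqg]
    change (HSg 0 N).hom.hom (((H A 0).map ((DerivedCategory.singleFunctor (ModuleCat.{u} A) 0).map
      (ModuleCat.ofHom g₀))).hom ((HSg 0 (ModuleCat.of A A)).inv.hom (1 : A))) = m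
    have e2 := congrArg (fun φ => φ.hom ((HSg 0 (ModuleCat.of A A)).inv.hom (1 : A)))
      (HSg_naturality 0 (ModuleCat.ofHom g₀))
    simp only [ModuleCat.hom_comp, LinearMap.comp_apply] at e2
    rw [e2]
    have e3 : (HSg 0 (ModuleCat.of A A)).hom.hom ((HSg 0 (ModuleCat.of A A)).inv.hom (1 : A)) =
        (1 : A) := by
      have := congrArg (fun φ => φ.hom (1 : A)) (HSg 0 (ModuleCat.of A A)).inv_hom_id
      exact this
    rw [e3]
    change (1 : A) • m = m
    exact one_smul A m
  · rintro ⟨z, hz, rfl⟩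
    obtain ⟨h, rfl⟩ := exists_j0_eq (Phi gs N) (isZero_Phi_neg gs N) z hz
    rw [← key]
    obtain ⟨k, hk⟩ := torsJ_Phi gs N 0 h
    refine ⟨k, fun a ha => ?_⟩
    rw [← map_smul, ← map_smul, hk a ha, map_zero, map_zero]

end torsion

end Rl

end Groth.Agent.Lib.Helper18.DR
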