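import Mathlib
import Groth.Prelude.Def_DRing3
import Groth.Agent.S0545

/-!
# Torsion modulo all powers of `I` (Artin–Rees) and completeness of finite modules (helper18)
-/

set_option autoImplicit false
set_option linter.style.haveILetI false
universe u

namespace Groth.Agent.Lib.Helper18.DR

namespace Rl

variable {A : Type u} [CommRing A] [IsNoetherianRing A]

/-- finite modules over a Noetherian adically complete ring are adically complete -/
theorem isAdicComplete_of_finite (I : Ideal A) [IsAdicComplete I A] (M : Type u) [AddCommGroup M]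
    [Module A M] [Module.Finite A M] : IsAdicComplete I M := by
  classical
  haveI : IsHausdorff I M := IsHausdorff.of_le_jacobson I M (IsAdicComplete.le_jacobson_bot I)
  obtain ⟨n, f, hf⟩ := Module.Finite.exists_fin' A M
  haveI : IsPrecomplete I M :=
    Groth.Agent.S0545.isPrecomplete_of_surjective I f hf
      (Groth.Agent.S0545.isPrecomplete_pi I A inferInstance)
  exact {}

/-- an element is `J`-power torsion modulo all powers of `I` iff it is `J'`-power torsion for some
`J' ≤ J` with `J ≤ rad(J' + I)` -/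
theorem torsion_mod_iff (I J : Ideal A) (M : Type u) [AddCommGroup M] [Module A M]
    [Module.Finite A M] (m : M) :
    (∀ n : ℕ, (Submodule.Quotient.mk m : M ⧸ (I ^ n • ⊤ : Submodule A M)) ∈
        DRing.torsionSub J (M ⧸ (I ^ n • ⊤ : Submodule A M))) ↔
      ∃ J' : Ideal A, J' ≤ J ∧ J ≤ (J' ⊔ I).radical ∧ m ∈ DRing.torsionSub J' M := by
  constructor
  · intro h
    obtain ⟨k, hk⟩ := Ideal.exists_pow_inf_eq_pow_smul I (Submodule.span A {m})
    obtain ⟨K, hK⟩ := h (k + 1)
    have hkey : ∀ a ∈ J ^ K, ∃ b ∈ I, b • m = a • m := by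
      intro a ha
      have h1 : a • m ∈ (I ^ (k + 1) • ⊤ : Submodule A M) := by
        have := hK a ha
        rw [← Submodule.Quotient.mk_smul, Submodule.Quotient.mk_eq_zero] at this
        exact this
      have h2 : a • m ∈ Submodule.span A {m} :=
        Submodule.smul_mem _ _ (Submodule.subset_span rfl)
      have h3 : a • m ∈ (I ^ (k + 1) • ⊤ : Submodule A M) ⊓ Submodule.span A {m} := ⟨h1, h2⟩
      rw [hk (k + 1) (Nat.le_succ k)] at h3
      have h4 : (I ^ (k + 1 - k) • ((I ^ k • ⊤ : Submodule A M) ⊓ Submodule.span A {m})) ≤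
          I • Submodule.span A {m} := by
        have : k + 1 - k = 1 := by omega
        rw [this, pow_one]
        exact Submodule.smul_mono le_rfl inf_le_right
      exact Submodule.mem_smul_span_singleton.1 (h4 h3)
    refine ⟨J ⊓ Ideal.torsionOf A M m, inf_le_left, ?_, ?_⟩
    · intro a ha
      obtain ⟨b, hb, hbm⟩ := hkey (a ^ K) (Ideal.pow_mem_pow ha K)
      refine ⟨K + 1, ?_⟩
      have e : a ^ (K + 1) = a * (a ^ K - b) + a * b := by ring
      rw [e]
      refine Ideal.add_mem _ (Ideal.mem_sup_left ⟨Ideal.mul_mem_right _ _ ha, ?_⟩)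
        (Ideal.mem_sup_right (Ideal.mul_mem_left _ _ hb))
      rw [SetLike.mem_coe, Ideal.mem_torsionOf_iff, mul_smul, sub_smul, hbm, sub_self, smul_zero]
    · refine ⟨1, fun a ha => ?_⟩
      rw [pow_one] at ha
      exact (Ideal.mem_torsionOf_iff _ _).1 ha.2
  · rintro ⟨J', -, hrad, k, hk⟩ n
    obtain ⟨N, hN⟩ := Ideal.exists_pow_le_of_le_radical_of_fg hrad (IsNoetherian.noetherian J)
    refine ⟨N * (k + n), fun a ha => ?_⟩
    have h1 : J ^ (N * (k + n)) ≤ J' ^ k ⊔ I ^ n := by
      rw [pow_mul]
      exact (Ideal.pow_right_mono hN (k + n)).trans Ideal.sup_pow_add_le_pow_sup_pow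
    obtain ⟨b, hb, c, hc, rfl⟩ := Submodule.mem_sup.1 (h1 ha)
    rw [← Submodule.Quotient.mk_smul, Submodule.Quotient.mk_eq_zero, add_smul, hk b hb, zero_add]
    exact Submodule.smul_mem_smul hc Submodule.mem_top

end Rl

end Groth.Agent.Lib.Helper18.DR
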