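import Mathlib
import Groth.Agent.Lib.Helper18.RlE
import Groth.Agent.Lib.Helper18.RlG
import Groth.Agent.Lib.Helper18.RlH
import Groth.Agent.Lib.Helper18.LDualL

/-!
# `H^0` of the derived completion of `RΓ_J(M)` over an adically complete ring (helper18)
-/

set_option autoImplicit false
set_option linter.style.haveILetI false
universe u
open CategoryTheory CategoryTheory.Limits CategoryTheory.Pretriangulated DerivedCategory
  MonoidalCategory CochainComplex
open scoped TensorProduct

attribute [local instance] HasDerivedCategory.standard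

namespace Groth.Agent.Lib.Helper18.DR

namespace Rl

open RHomCmp Cech TotSingleR

variable {A : Type u} [CommRing A]

/-- the ideal generated by a list -/
abbrev sp (l : List A) : Ideal A := Ideal.span {x : A | x ∈ l}

section complete

variable (I : Ideal A)

lemma isIso_compη_of_complete (N : ModuleCat.{u} A) [IsAdicComplete I N] :
    IsIso ((compη I).app N) := by
  rw [ConcreteCategory.isIso_iff_bijective]
  exact AdicCompletion.of_bijective I N

lemma isIso_ηCx_S0 (N : ModuleCat.{u} A) [IsAdicComplete I N] :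
    IsIso (ηCx (compF I) (compη I) (S0 N)) := by
  haveI : ∀ j, IsIso ((ηCx (compF I) (compη I) (S0 N)).f j) := by
    intro j
    change IsIso ((compη I).app ((S0 N).X j))
    by_cases hj : j = 0
    · subst hj
      rw [NatTrans.isIso_app_iff_of_iso (compη I)
        (HomologicalComplex.singleObjXSelf (ComplexShape.up ℤ) 0 N)]
      exact isIso_compη_of_complete I N
    · have h1 : IsZero ((S0 N).X j) := isZero_S0_X N j hj
      have h2 : IsZero ((compF I).obj ((S0 N).X j)) := (compF I).map_isZero h1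
      exact ⟨0, h1.eq_of_src _ _, h2.eq_of_src _ _⟩
  exact HomologicalComplex.Hom.isIso_of_components _

variable (gs : List A) (M : Type u) [AddCommGroup M] [Module A M] [IsAdicComplete I M]

/-- the map `(Č ⊗ M)^ ⟶ M[0]` -/
noncomputable def fM : Lc I gs M ⟶ S0 (ModuleCat.of A M) :=
  haveI := isIso_ηCx_S0 I (ModuleCat.of A M)
  ((compF I).mapHomologicalComplex (ComplexShape.up ℤ)).map (augN gs (ModuleCat.of A M)) ≫
    inv (ηCx (compF I) (compη I) (S0 (ModuleCat.of A M)))

lemma ηCx_fM :
    ηCx (compF I) (compη I) (Phi gs (ModuleCat.of A M)) ≫ fM I gs M =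
      augN gs (ModuleCat.of A M) := by
  haveI := isIso_ηCx_S0 I (ModuleCat.of A M)
  dsimp only [fM]
  rw [← Category.assoc, ← ηCx_naturality, Category.assoc, IsIso.hom_inv_id, Category.comp_id]

instance isIso_fM_f_zero : IsIso ((fM I gs M).f 0) := by
  haveI := isIso_ηCx_S0 I (ModuleCat.of A M)
  dsimp only [fM]
  rw [HomologicalComplex.comp_f]
  haveI : IsIso ((((compF I).mapHomologicalComplex (ComplexShape.up ℤ)).map
      (augN gs (ModuleCat.of A M))).f 0) := by
    change IsIso ((compF I).map ((augN gs (ModuleCat.of A M)).f 0))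
    infer_instance
  infer_instance

/-- the degree zero component, `(Č^0 ⊗ M)^ ⟶ M` -/
noncomputable def theta : (Lc I gs M).X 0 ⟶ ModuleCat.of A M :=
  (fM I gs M).f 0 ≫
    (HomologicalComplex.singleObjXSelf (ComplexShape.up ℤ) 0 (ModuleCat.of A M)).hom

lemma theta_bijective : Function.Bijective (theta I gs M).hom := by
  haveI : IsIso (theta I gs M) := by
    dsimp only [theta]
    infer_instance
  exact (ConcreteCategory.isIso_iff_bijective _).1 inferInstance

lemma theta_of (w : (Phi gs (ModuleCat.of A M)).X 0) :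
    (theta I gs M).hom (AdicCompletion.of I _ w) = (a0 gs (ModuleCat.of A M)).hom w := by
  have h := congrArg (fun φ => φ.f 0) (ηCx_fM I gs M)
  simp only [HomologicalComplex.comp_f] at h
  have h2 := congrArg (fun φ => (φ ≫ (HomologicalComplex.singleObjXSelf (ComplexShape.up ℤ) 0
    (ModuleCat.of A M)).hom).hom w) h
  exact h2

lemma theta_mod (hI : I.FG) (z : AdicCompletion I ((Cg gs).X 0 ⊗[A] M)) (n : ℕ) :
    (a0 gs (MqC I M n)).hom (((pp I gs M n).f 0).hom z) =
      (Submodule.Quotient.mk ((theta I gs M).hom z) : Mq I M n) := by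
  obtain ⟨w, hw⟩ := Submodule.Quotient.mk_surjective _ (z.val n)
  have h1 : ((pp I gs M n).f 0).hom z =
      ((PhiMapGen (Cg gs) (ModuleCat.ofHom (Submodule.mkQ (I ^ n • ⊤ : Submodule A M)))).f 0).hom
        w :=
    pF_apply_of_val I ((Cg gs).X 0) M n z w hw.symm
  have h2 := a0_naturality_apply gs
    (ModuleCat.ofHom (Submodule.mkQ (I ^ n • ⊤ : Submodule A M)) :
      ModuleCat.of A M ⟶ MqC I M n) w
  rw [h1, ← h2]
  change (Submodule.Quotient.mk ((a0 gs (ModuleCat.of A M)).hom w) : Mq I M n) = _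
  rw [← theta_of I gs M w]
  -- `z - of w` lies in `I^n • ⊤`
  have h3 : z - AdicCompletion.of I ((Cg gs).X 0 ⊗[A] M) w ∈
      (I ^ n • ⊤ : Submodule A (AdicCompletion I ((Cg gs).X 0 ⊗[A] M))) := by
    rw [AdicCompletion.pow_smul_top_eq_ker_eval hI, LinearMap.mem_ker, map_sub,
      AdicCompletion.eval_of, sub_eq_zero]
    exact hw.symm
  have h4 := Submodule.smul_top_le_comap_smul_top (I ^ n) (theta I gs M).hom h3
  have h5 : (theta I gs M).hom z -
      (theta I gs M).hom (AdicCompletion.of I ((Cg gs).X 0 ⊗[A] M) w) ∈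
      (I ^ n • ⊤ : Submodule A M) := by
    have h6 := map_sub (theta I gs M).hom z (AdicCompletion.of I ((Cg gs).X 0 ⊗[A] M) w)
    exact h6 ▸ h4
  symm
  exact (Submodule.Quotient.eq _).2 h5

end complete

section cycles

variable [IsNoetherianRing A] (I : Ideal A) (gs : List A) [DRing.HasRgammaI (sp gs)]
  (M : Type u) [AddCommGroup M] [Module A M] [IsAdicComplete I M]

/-- the values of `theta` on degree zero cocycles -/
theorem exists_cycle_iff (m : M) :
    (∃ z : (Lc I gs M).X 0, ((Lc I gs M).d 0 1).hom z = 0 ∧ (theta I gs M).hom z = m) ↔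
      ∀ n : ℕ, (Submodule.Quotient.mk m : Mq I M n) ∈ DRing.torsionSub (sp gs) (Mq I M n) := by
  have hI : I.FG := IsNoetherian.noetherian I
  constructor
  · rintro ⟨z, hz, rfl⟩ n
    rw [← theta_mod I gs M hI z n]
    refine (mem_torsionSub_iff_exists_cycle gs (MqC I M n) _).2
      ⟨((pp I gs M n).f 0).hom z, ?_, rfl⟩
    have hc := congrArg (fun φ => φ.hom z) ((pp I gs M n).comm 0 1)
    simp only [ModuleCat.hom_comp, LinearMap.comp_apply] at hc
    rw [hc, hz, map_zero]
  · intro h
    obtain ⟨w, hw⟩ := (a0_bijective gs (ModuleCat.of A M)).2 m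
    refine ⟨AdicCompletion.of I _ w, ?_, by rw [theta_of, hw]⟩
    -- `d (of w) = of (d w)`
    have hc := congrArg (fun φ => φ.hom w)
      ((ηCx (compF I) (compη I) (Phi gs (ModuleCat.of A M))).comm 0 1)
    simp only [ModuleCat.hom_comp, LinearMap.comp_apply] at hc
    have hc' : ((Lc I gs M).d 0 1).hom (AdicCompletion.of I _ w) =
        AdicCompletion.of I _ (((Phi gs (ModuleCat.of A M)).d 0 1).hom w) := hc
    rw [hc']
    -- uniqueness in the limit
    refine (pp_lim I gs M 1 (fun _ => 0) (fun n => map_zero _)).unique (fun n => ?_)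
      (fun n => map_zero _)
    have h1 : ((pp I gs M n).f 1).hom
        (AdicCompletion.of I _ (((Phi gs (ModuleCat.of A M)).d 0 1).hom w)) =
        ((PhiMapGen (Cg gs)
          (ModuleCat.ofHom (Submodule.mkQ (I ^ n • ⊤ : Submodule A M)))).f 1).hom
          (((Phi gs (ModuleCat.of A M)).d 0 1).hom w) :=
      pF_apply_of_val I ((Cg gs).X 1) M n _ _ rfl
    rw [h1]
    have hc2 := congrArg (fun φ => φ.hom w)
      ((PhiMapGen (Cg gs)
        (ModuleCat.ofHom (Submodule.mkQ (I ^ n • ⊤ : Submodule A M)) :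
          ModuleCat.of A M ⟶ MqC I M n)).comm 0 1)
    simp only [ModuleCat.hom_comp, LinearMap.comp_apply] at hc2
    rw [← hc2]
    -- `w_n` is a cocycle
    obtain ⟨z', hz', hz'm⟩ := (mem_torsionSub_iff_exists_cycle gs (MqC I M n) _).1 (h n)
    have h2 := a0_naturality_apply gs
      (ModuleCat.ofHom (Submodule.mkQ (I ^ n • ⊤ : Submodule A M)) :
        ModuleCat.of A M ⟶ MqC I M n) w
    rw [hw] at h2
    have h3 : z' = ((PhiMapGen (Cg gs)
        (ModuleCat.ofHom (Submodule.mkQ (I ^ n • ⊤ : Submodule A M)) :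
          ModuleCat.of A M ⟶ MqC I M n)).f 0).hom w := by
      apply (a0_bijective gs (MqC I M n)).1
      rw [hz'm, ← h2]
      rfl
    rw [← h3, hz']

end cycles

section main2

variable [IsNoetherianRing A]

theorem main2_aux (l gs : List A) [DRing.HasRgammaI (sp gs)] [DRing.HasDerivedCompletion (sp l)]
    [IsAdicComplete (sp l) A] (M : Type u) [AddCommGroup M] [Module A M] [Module.Finite A M] :
    Function.Injective ((H A 0).map ((ObjectProperty.ι (DRing.IsDerivedComplete (sp l))).map
        ((DRing.derivedCompletion (sp l)).map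
          ((DRing.RgammaIε (sp gs)).app (Dual.inD A M))))).hom ∧
      Set.range ((H A 0).map ((ObjectProperty.ι (DRing.IsDerivedComplete (sp l))).map
        ((DRing.derivedCompletion (sp l)).map
          ((DRing.RgammaIε (sp gs)).app (Dual.inD A M))))).hom =
        (fun s : M => ((H A 0).map (DRing.toDerivedCompletion (sp l) (Dual.inD A M))).hom
          ((HSg 0 (ModuleCat.of A M)).inv.hom s)) ''
          {s : M | ∀ n : ℕ, (Submodule.Quotient.mk s : Mq (sp l) M n) ∈
            DRing.torsionSub (sp gs) (Mq (sp l) M n)} := by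
  haveI : IsAdicComplete (sp l) M := isAdicComplete_of_finite (sp l) M
  obtain ⟨Ψ, hΨdef⟩ : ∃ Ψ, Ψ = (ObjectProperty.ι (DRing.IsDerivedComplete (sp l))).map
        ((DRing.derivedCompletion (sp l)).map
          ((DRing.RgammaIε (sp gs)).app (Dual.inD A M))) := ⟨_, rfl⟩
  rw [← hΨdef]
  have hdc : DRing.IsDerivedComplete (sp l) (Dual.inD A M) :=
    isDerivedComplete_of_isAdicComplete (M := M) (sp l)
  obtain ⟨u, hudef⟩ : ∃ u, u = DRing.toDerivedCompletion (sp l) (Dual.inD A M) := ⟨_, rfl⟩
  rw [← hudef]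
  haveI : IsIso u := by
    rw [hudef]
    exact GM.isIso_toDerivedCompletion_of_isDerivedComplete (sp l) _ hdc
  obtain ⟨d, hd⟩ := main_aux l gs M
  have hnat : DRing.toDerivedCompletion (sp l)
      ((DRing.RgammaI (sp gs)).obj (Dual.inD A M)) ≫ Ψ =
      (DRing.RgammaIε (sp gs)).app (Dual.inD A M) ≫ u := by
    rw [hΨdef, hudef]
    exact ((DRing.derivedCompletionAdj (sp l)).unit.naturality
      ((DRing.RgammaIε (sp gs)).app (Dual.inD A M))).symm
  have hΨ : Ψ ≫ inv u = d.inv ≫ DerivedCategory.Q.map (fM (sp l) gs M) ≫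
      (sgIso (ModuleCat.of A M)).inv := by
    apply (bijective_toDerivedCompletion_comp (sp l)
      ((DRing.RgammaI (sp gs)).obj (Dual.inD A M)) (Dual.inD A M) hdc).1
    change DRing.toDerivedCompletion (sp l) _ ≫ Ψ ≫ inv u =
      DRing.toDerivedCompletion (sp l) _ ≫ d.inv ≫ _ ≫ _
    rw [← Category.assoc, hnat, Category.assoc, IsIso.hom_inv_id, Category.comp_id, ← hd,
      Category.assoc, Category.assoc, Iso.hom_inv_id_assoc,
      ← Category.assoc (DerivedCategory.Q.map _), ← Functor.map_comp, ηCx_fM, Iso.eq_inv_comp]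
    exact isoR_hom_eps gs (ModuleCat.of A M)
  have hLc : IsZero ((Lc (sp l) gs M).X (-1)) :=
    (compF (sp l)).map_isZero (isZero_Phi_neg gs _)
  have hform : ∀ h : (H A 0).obj ((DRing.derivedCompletion (sp l)).obj
        ((DRing.RgammaI (sp gs)).obj (Dual.inD A M))).obj,
      (HSg 0 (ModuleCat.of A M)).hom.hom (((H A 0).map (Ψ ≫ inv u)).hom h) =
        (theta (sp l) gs M).hom ((j0 (Lc (sp l) gs M) hLc).hom (((H A 0).map d.inv).hom h)) := by
    intro h
    rw [hΨ, Functor.map_comp]
    exact HSg_map_apply (ModuleCat.of A M) (Lc (sp l) gs M) hLc (fM (sp l) gs M)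
      (((H A 0).map d.inv).hom h)
  have hΨu : Ψ = (Ψ ≫ inv u) ≫ u := by
    rw [Category.assoc, IsIso.inv_hom_id, Category.comp_id]
  have hHu : Function.Bijective ((H A 0).map u).hom :=
    (ConcreteCategory.isIso_iff_bijective _).1 inferInstance
  have hHd : Function.Bijective ((H A 0).map d.inv).hom :=
    (ConcreteCategory.isIso_iff_bijective _).1 inferInstance
  have hHS : Function.Bijective (HSg 0 (ModuleCat.of A M)).hom.hom :=
    (ConcreteCategory.isIso_iff_bijective _).1 inferInstance
  have hHSinv : ∀ y, (HSg 0 (ModuleCat.of A M)).inv.hom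
      ((HSg 0 (ModuleCat.of A M)).hom.hom y) = y := by
    intro y
    have := congrArg (fun φ => φ.hom y) (HSg 0 (ModuleCat.of A M)).hom_inv_id
    exact this
  have hcomp : ∀ h, ((H A 0).map Ψ).hom h =
      ((H A 0).map u).hom (((H A 0).map (Ψ ≫ inv u)).hom h) := by
    intro h
    conv_lhs => rw [hΨu, Functor.map_comp]
    rfl
  constructor
  · intro h h' hh
    rw [hcomp, hcomp] at hh
    have h1 := hHu.1 hh
    have h2 : (theta (sp l) gs M).hom ((j0 (Lc (sp l) gs M) hLc).hom
        (((H A 0).map d.inv).hom h)) =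
        (theta (sp l) gs M).hom ((j0 (Lc (sp l) gs M) hLc).hom
          (((H A 0).map d.inv).hom h')) := by
      rw [← hform, ← hform, h1]
    exact hHd.1 (j0_injective _ hLc ((theta_bijective (sp l) gs M).1 h2))
  · ext x
    constructor
    · rintro ⟨h, rfl⟩
      refine ⟨(HSg 0 (ModuleCat.of A M)).hom.hom (((H A 0).map (Ψ ≫ inv u)).hom h), ?_, ?_⟩
      · rw [hform]
        exact (exists_cycle_iff (sp l) gs M _).1
          ⟨_, j0_d_apply _ hLc _, rfl⟩
      · change ((H A 0).map u).hom ((HSg 0 (ModuleCat.of A M)).inv.hom _) = _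
        rw [hHSinv, ← hcomp]
    · rintro ⟨s, hs, rfl⟩
      obtain ⟨z, hz, hzs⟩ := (exists_cycle_iff (sp l) gs M s).2 hs
      obtain ⟨h', hh'⟩ := exists_j0_eq (Lc (sp l) gs M) hLc z hz
      obtain ⟨h, hh⟩ := hHd.2 h'
      refine ⟨h, ?_⟩
      rw [hcomp]
      change _ = ((H A 0).map u).hom ((HSg 0 (ModuleCat.of A M)).inv.hom s)
      congr 1
      apply hHS.1
      rw [hform, hh, hh', hzs]
      have := congrArg (fun φ => φ.hom s) (HSg 0 (ModuleCat.of A M)).inv_hom_id
      exact this.symm

theorem main2 (I J : Ideal A) [IsAdicComplete I A] [DRing.HasRgammaI J]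
    [DRing.HasDerivedCompletion I] (M : Type u) [AddCommGroup M] [Module A M]
    [Module.Finite A M] :
    Function.Injective ((DerivedCategory.homologyFunctor (ModuleCat.{u} A) 0).map
        ((ObjectProperty.ι (DRing.IsDerivedComplete I)).map ((DRing.derivedCompletion I).map
          ((DRing.RgammaIε J).app (Dual.inD A M))))).hom ∧
      Set.range ((DerivedCategory.homologyFunctor (ModuleCat.{u} A) 0).map
        ((ObjectProperty.ι (DRing.IsDerivedComplete I)).map ((DRing.derivedCompletion I).map
          ((DRing.RgammaIε J).app (Dual.inD A M))))).hom =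
        (fun s : M => ((DerivedCategory.homologyFunctor (ModuleCat.{u} A) 0).map
          (DRing.toDerivedCompletion I (Dual.inD A M))).hom
          (((DerivedCategory.singleFunctorCompHomologyFunctorIso (ModuleCat.{u} A) 0).inv.app
            (ModuleCat.of A M)).hom s)) ''
          {s : M | ∃ J' : Ideal A, J' ≤ J ∧ J ≤ (J' ⊔ I).radical ∧
            s ∈ DRing.torsionSub J' M} := by
  classical
  obtain ⟨s, hs⟩ := (IsNoetherian.noetherian J : J.FG)
  have hJ : sp s.toList = J := by
    rw [← hs]
    change Ideal.span {x : A | x ∈ s.toList} = Ideal.span (s : Set A)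
    congr 1
    ext x
    simp
  obtain ⟨s', hs'⟩ := (IsNoetherian.noetherian I : I.FG)
  have hI : sp s'.toList = I := by
    rw [← hs']
    change Ideal.span {x : A | x ∈ s'.toList} = Ideal.span (s' : Set A)
    congr 1
    ext x
    simp
  subst hJ
  subst hI
  have hset : {t : M | ∃ J' : Ideal A, J' ≤ sp s.toList ∧
      sp s.toList ≤ (J' ⊔ sp s'.toList).radical ∧ t ∈ DRing.torsionSub J' M} =
      {t : M | ∀ n : ℕ, (Submodule.Quotient.mk t : Mq (sp s'.toList) M n) ∈
        DRing.torsionSub (sp s.toList) (Mq (sp s'.toList) M n)} := by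
    ext t
    exact (torsion_mod_iff (sp s'.toList) (sp s.toList) M t).symm
  rw [hset]
  exact main2_aux s'.toList s.toList M

end main2

end Rl

end Groth.Agent.Lib.Helper18.DR
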