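import Mathlib

/-!
# Mates and a cube lemma (helper18)

Abstract category theory used for the base-change comparison map `TrivBC.cmp`.
-/

set_option autoImplicit false
set_option linter.style.haveILetI false
open CategoryTheory

namespace Groth.Agent.Lib.Helper18.DR

namespace Tbc

section mate

variable {C D E F : Type*} [Category C] [Category D] [Category E] [Category F]
  {L₁ : C ⥤ D} {R₁ : D ⥤ C} (adj₁ : L₁ ⊣ R₁) {L₂ : E ⥤ F} {R₂ : F ⥤ E} (adj₂ : L₂ ⊣ R₂)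
  {G : C ⥤ E} {H : D ⥤ F} (β : R₁ ⋙ G ⟶ H ⋙ R₂)

/-- the mate of `β` as a natural transformation -/
def mate : G ⋙ L₂ ⟶ L₁ ⋙ H where
  app K := (adj₂.homEquiv _ _).symm (G.map (adj₁.unit.app K) ≫ β.app (L₁.obj K))
  naturality K K' f := by
    dsimp
    rw [← adj₂.homEquiv_naturality_left_symm, ← adj₂.homEquiv_naturality_right_symm]
    congr 1
    have h1 := adj₁.unit.naturality f
    have h2 := β.naturality (L₁.map f)
    dsimp at h1 h2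
    rw [← G.map_comp_assoc, h1, G.map_comp_assoc, Category.assoc, ← h2]

lemma mate_app (K : C) :
    (mate adj₁ adj₂ β).app K =
      (adj₂.homEquiv _ _).symm (G.map (adj₁.unit.app K) ≫ β.app (L₁.obj K)) := rfl

lemma unit_mate_app (K : C) :
    adj₂.unit.app (G.obj K) ≫ R₂.map ((mate adj₁ adj₂ β).app K) =
      G.map (adj₁.unit.app K) ≫ β.app (L₁.obj K) := by
  have := (adj₂.homEquiv _ _).apply_symm_apply (G.map (adj₁.unit.app K) ≫ β.app (L₁.obj K))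
  rw [Adjunction.homEquiv_unit] at this
  exact this

lemma eq_mate_app_iff (K : C) (c : L₂.obj (G.obj K) ⟶ H.obj (L₁.obj K)) :
    c = (mate adj₁ adj₂ β).app K ↔
      adj₂.unit.app (G.obj K) ≫ R₂.map c = G.map (adj₁.unit.app K) ≫ β.app (L₁.obj K) := by
  rw [mate_app, Equiv.eq_symm_apply, Adjunction.homEquiv_unit]
  rfl

/-- the mate at `K` is independent of the adjunctions up to isomorphisms -/
lemma isIso_mate_app_iff (adj₁' : L₁ ⊣ R₁) (adj₂' : L₂ ⊣ R₂) (K : C) :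
    IsIso ((mate adj₁ adj₂ β).app K) ↔ IsIso ((mate adj₁' adj₂' β).app K) := by
  let σ : L₁ ≅ L₁ := adj₁.leftAdjointUniq adj₁'
  let τ : L₂ ≅ L₂ := adj₂'.leftAdjointUniq adj₂
  have hσ : adj₁'.unit.app K = adj₁.unit.app K ≫ R₁.map (σ.hom.app K) := by
    exact (Adjunction.unit_leftAdjointUniq_hom_app adj₁ adj₁' K).symm
  have key : (mate adj₁' adj₂' β).app K =
      τ.hom.app (G.obj K) ≫ (mate adj₁ adj₂ β).app K ≫ H.map (σ.hom.app K) := by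
    rw [mate_app, mate_app, Adjunction.homEquiv_counit, Adjunction.homEquiv_counit]
    have hτ : adj₂'.counit.app (H.obj (L₁.obj K)) =
        τ.hom.app (R₂.obj (H.obj (L₁.obj K))) ≫ adj₂.counit.app (H.obj (L₁.obj K)) := by
      exact (Adjunction.leftAdjointUniq_hom_app_counit adj₂' adj₂ _).symm
    rw [hτ, hσ]
    have h2 := β.naturality (σ.hom.app K)
    dsimp at h2
    simp only [Functor.map_comp, Category.assoc]
    rw [τ.hom.naturality_assoc, τ.hom.naturality_assoc, τ.hom.naturality_assoc]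
    congr 1
    rw [← L₂.map_comp_assoc (G.map (R₁.map (σ.hom.app K))), h2, L₂.map_comp_assoc,
      adj₂.counit_naturality]
  rw [key]
  constructor
  · intro h
    infer_instance
  · intro h
    have h1 : IsIso ((mate adj₁ adj₂ β).app K ≫ H.map (σ.hom.app K)) :=
      IsIso.of_isIso_comp_left (τ.hom.app (G.obj K)) _
    exact IsIso.of_isIso_comp_right _ (H.map (σ.hom.app K))

end mate

section cube

variable {C₀ D₀ E₀ F₀ C₁ D₁ E₁ F₁ : Type*} [Category C₀] [Category D₀] [Category E₀] [Category F₀]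
  [Category C₁] [Category D₁] [Category E₁] [Category F₁]
  {QC : C₀ ⥤ C₁} {QD : D₀ ⥤ D₁} {QE : E₀ ⥤ E₁} {QF : F₀ ⥤ F₁}
  {Lα₀ : C₀ ⥤ D₀} {Rα₀ : D₀ ⥤ C₀} (adjα₀ : Lα₀ ⊣ Rα₀)
  {Lρ₀ : E₀ ⥤ F₀} {Rρ₀ : F₀ ⥤ E₀} (adjρ₀ : Lρ₀ ⊣ Rρ₀)
  {G₀ : C₀ ⥤ E₀} {H₀ : D₀ ⥤ F₀} (β₀ : Rα₀ ⋙ G₀ ⟶ H₀ ⋙ Rρ₀)
  {Lα₁ : C₁ ⥤ D₁} {Rα₁ : D₁ ⥤ C₁} (adjα₁ : Lα₁ ⊣ Rα₁)
  {Lρ₁ : E₁ ⥤ F₁} {Rρ₁ : F₁ ⥤ E₁} (adjρ₁ : Lρ₁ ⊣ Rρ₁)
  {G₁ : C₁ ⥤ E₁} {H₁ : D₁ ⥤ F₁} (β₁ : Rα₁ ⋙ G₁ ⟶ H₁ ⋙ Rρ₁)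
  (facG : G₀ ⋙ QE ≅ QC ⋙ G₁) (facH : H₀ ⋙ QF ≅ QD ⋙ H₁)
  (facRα : Rα₀ ⋙ QC ≅ QD ⋙ Rα₁) (facRρ : Rρ₀ ⋙ QE ≅ QF ⋙ Rρ₁)
  (γα : QC ⋙ Lα₁ ⟶ Lα₀ ⋙ QD) (γρ : QE ⋙ Lρ₁ ⟶ Lρ₀ ⋙ QF)

include facRα facRρ in
/-- compatibility of mates along "localization" functors -/
theorem cube
    (hUα : ∀ Y : C₀, adjα₁.unit.app (QC.obj Y) ≫ Rα₁.map (γα.app Y) =
      QC.map (adjα₀.unit.app Y) ≫ facRα.hom.app (Lα₀.obj Y))
    (hUρ : ∀ W : E₀, adjρ₁.unit.app (QE.obj W) ≫ Rρ₁.map (γρ.app W) =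
      QE.map (adjρ₀.unit.app W) ≫ facRρ.hom.app (Lρ₀.obj W))
    (hβ : ∀ Z : D₀, β₁.app (QD.obj Z) =
      G₁.map (facRα.inv.app Z) ≫ facG.inv.app (Rα₀.obj Z) ≫ QE.map (β₀.app Z) ≫
        facRρ.hom.app (H₀.obj Z) ≫ Rρ₁.map (facH.hom.app Z))
    (Y : C₀) :
    Lρ₁.map (facG.hom.app Y) ≫ (mate adjα₁ adjρ₁ β₁).app (QC.obj Y) ≫ H₁.map (γα.app Y) =
      γρ.app (G₀.obj Y) ≫ QF.map ((mate adjα₀ adjρ₀ β₀).app Y) ≫
        facH.hom.app (Lα₀.obj Y) := by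
  apply (adjρ₁.homEquiv _ _).injective
  rw [Adjunction.homEquiv_unit, Adjunction.homEquiv_unit]
  simp only [Functor.map_comp, Functor.comp_obj]
  -- left hand side
  have e1 := adjρ₁.unit.naturality (facG.hom.app Y)
  dsimp at e1
  rw [← reassoc_of% e1, reassoc_of% (unit_mate_app adjα₁ adjρ₁ β₁ (QC.obj Y))]
  have e2 := β₁.naturality (γα.app Y)
  dsimp at e2
  rw [← e2, ← G₁.map_comp_assoc, hUα Y, hβ (Lα₀.obj Y)]
  -- right hand side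
  rw [reassoc_of% (hUρ (G₀.obj Y))]
  have e3 := facRρ.hom.naturality ((mate adjα₀ adjρ₀ β₀).app Y)
  dsimp at e3
  rw [← reassoc_of% e3, ← QE.map_comp_assoc, unit_mate_app adjα₀ adjρ₀ β₀ Y]
  have e4 := facG.hom.naturality (adjα₀.unit.app Y)
  dsimp at e4
  simp only [Functor.map_comp, Category.assoc]
  rw [← G₁.map_comp_assoc (facRα.hom.app (Lα₀.obj Y)), Iso.hom_inv_id_app]
  dsimp
  rw [G₁.map_id, Category.id_comp, ← reassoc_of% e4, Iso.hom_inv_id_app_assoc]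

end cube

end Tbc

end Groth.Agent.Lib.Helper18.DR
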