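import Mathlib
import Groth.Agent.Lib.Helper18.LBCAdj

/-!
# The unit of derived base change at the level of complexes (helper18)
-/

set_option autoImplicit false
set_option linter.style.haveILetI false
universe u
open CategoryTheory CategoryTheory.Limits CategoryTheory.Pretriangulated DerivedCategory

attribute [local instance] HasDerivedCategory.standard

namespace Groth.Agent.Lib.Helper18.DR

namespace Tbc

variable {B C : Type u} [CommRing B] [CommRing C] (f : B →+* C)

/-- termwise extension of scalars -/
noncomputable abbrev Ecx : DRing.Cx B ⥤ DRing.Cx C :=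
  (ModuleCat.extendScalars.{u, u, u} f).mapHomologicalComplex (ComplexShape.up ℤ)

/-- termwise restriction of scalars -/
noncomputable abbrev Scx : DRing.Cx C ⥤ DRing.Cx B :=
  (ModuleCat.restrictScalars.{u} f).mapHomologicalComplex (ComplexShape.up ℤ)

/-- termwise adjunction -/
noncomputable abbrev adjCx : Ecx f ⊣ Scx f :=
  LBCAdj.adjCx (ComplexShape.up ℤ) (ModuleCat.extendRestrictScalarsAdj.{u, u, u} f)

/-- restriction of scalars on derived categories is computed termwise -/
noncomputable abbrev facS : Scx f ⋙ DerivedCategory.Q ≅ DerivedCategory.Q ⋙ DRing.restrictD f :=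
  (ModuleCat.restrictScalars.{u} f).mapDerivedCategoryFactors.symm

lemma betaK_app_quotient (K : DRing.Cx C) :
    (LBCAdj.betaK f).app ((HomotopyCategory.quotient _ _).obj K) =
      DerivedCategory.Qh.map
          (((ModuleCat.restrictScalars.{u} f).mapHomotopyCategoryFactors
            (ComplexShape.up ℤ)).hom.app K) ≫
        (DerivedCategory.quotientCompQhIso (ModuleCat.{u} B)).hom.app ((Scx f).obj K) ≫
        (facS f).hom.app K ≫
        (DRing.restrictD f).map
          ((DerivedCategory.quotientCompQhIso (ModuleCat.{u} C)).inv.app K) := by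
  have h3 := (ModuleCat.restrictScalars.{u} f).mapDerivedCategoryFactorsh_hom_app K
  change ((ModuleCat.restrictScalars.{u} f).mapDerivedCategoryFactorsh.app
    ((HomotopyCategory.quotient _ _).obj K)).inv = _
  apply Iso.inv_ext
  rw [Iso.app_hom, h3]
  simp only [Category.assoc, Iso.symm_hom]
  rw [← Functor.map_comp_assoc, Iso.inv_hom_id_app]
  simp

variable [DRing.HasLBaseChange f]

/-- the complex-level counit of derived base change -/
noncomputable def γ : DerivedCategory.Q ⋙ DRing.LBaseChange f ⟶ Ecx f ⋙ DerivedCategory.Q :=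
  Functor.whiskerRight (DerivedCategory.quotientCompQhIso (ModuleCat.{u} B)).inv
      (DRing.LBaseChange f) ≫
    (Functor.associator _ _ _).hom ≫
    Functor.whiskerLeft (HomotopyCategory.quotient _ _) (LBCAdj.alphaK f) ≫
    (Functor.associator _ _ _).inv ≫
    Functor.whiskerRight ((ModuleCat.extendScalars.{u, u, u} f).mapHomotopyCategoryFactors
      (ComplexShape.up ℤ)).hom DerivedCategory.Qh ≫
    (Functor.associator _ _ _).hom ≫
    Functor.whiskerLeft (Ecx f) (DerivedCategory.quotientCompQhIso (ModuleCat.{u} C)).hom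

lemma γ_app (Y : DRing.Cx B) :
    (γ f).app Y =
      (DRing.LBaseChange f).map
          ((DerivedCategory.quotientCompQhIso (ModuleCat.{u} B)).inv.app Y) ≫
        (LBCAdj.alphaK f).app ((HomotopyCategory.quotient _ _).obj Y) ≫
        DerivedCategory.Qh.map
          (((ModuleCat.extendScalars.{u, u, u} f).mapHomotopyCategoryFactors
            (ComplexShape.up ℤ)).hom.app Y) ≫
        (DerivedCategory.quotientCompQhIso (ModuleCat.{u} C)).hom.app ((Ecx f).obj Y) := by
  simp [γ]

/-- the counit is an isomorphism on K-projective complexes -/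
lemma isIso_γ_app (P : DRing.Cx B) [P.IsKProjective] : IsIso ((γ f).app P) := by
  rw [γ_app]
  haveI := isIso_LBaseChange_counit f P
  haveI : IsIso ((LBCAdj.alphaK f).app ((HomotopyCategory.quotient _ _).obj P)) := by
    unfold LBCAdj.alphaK
    infer_instance
  infer_instance

/-- the unit of the derived adjunction at the level of complexes -/
theorem unit_γ (Y : DRing.Cx B) :
    (LBCAdj.adjD f).unit.app (DerivedCategory.Q.obj Y) ≫
        (DRing.restrictD f).map ((γ f).app Y) =
      DerivedCategory.Q.map ((adjCx f).unit.app Y) ≫ (facS f).hom.app ((Ecx f).obj Y) := by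
  have h1 := Adjunction.derivedη_fac_app (LBCAdj.adjK f)
    (HomotopyCategory.quasiIso (ModuleCat.{u} B) (ComplexShape.up ℤ))
    (LBCAdj.alphaK f) (LBCAdj.betaK f) ((HomotopyCategory.quotient _ _).obj Y)
  have h2 : (LBCAdj.adjK f).unit.app ((HomotopyCategory.quotient _ _).obj Y) = _ :=
    Adjunction.localization_unit_app _ _ _ _ _ _ _ Y
  have h0 := (LBCAdj.adjD f).unit.naturality
    ((DerivedCategory.quotientCompQhIso (ModuleCat.{u} B)).hom.app Y)
  have h4 := (LBCAdj.betaK f).naturality
    (((ModuleCat.extendScalars.{u, u, u} f).mapHomotopyCategoryFactors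
      (ComplexShape.up ℤ)).hom.app Y)
  rw [← cancel_epi ((DerivedCategory.quotientCompQhIso (ModuleCat.{u} B)).hom.app Y)]
  dsimp at h0 h4
  rw [reassoc_of% h0, γ_app]
  simp only [Functor.map_comp]
  rw [← Functor.map_comp_assoc, ← Functor.map_comp, Iso.hom_inv_id_app]
  erw [CategoryTheory.Functor.map_id, CategoryTheory.Functor.map_id, Category.id_comp]
  have h1' : (LBCAdj.adjD f).unit.app (Qh.obj ((HomotopyCategory.quotient _ _).obj Y)) ≫
      (DRing.restrictD f).map ((LBCAdj.alphaK f).app ((HomotopyCategory.quotient _ _).obj Y)) = _ := h1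
  rw [reassoc_of% h1', h2]
  have e1 : CatCommSq.iso ((ModuleCat.extendScalars.{u, u, u} f).mapHomologicalComplex (ComplexShape.up ℤ))
      (HomotopyCategory.quotient (ModuleCat.{u} B) (ComplexShape.up ℤ))
      (HomotopyCategory.quotient (ModuleCat.{u} C) (ComplexShape.up ℤ))
      ((ModuleCat.extendScalars.{u, u, u} f).mapHomotopyCategory (ComplexShape.up ℤ)) =
      ((ModuleCat.extendScalars.{u, u, u} f).mapHomotopyCategoryFactors (ComplexShape.up ℤ)).symm := rfl
  have e2 : CatCommSq.iso ((ModuleCat.restrictScalars.{u} f).mapHomologicalComplex (ComplexShape.up ℤ))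
      (HomotopyCategory.quotient (ModuleCat.{u} C) (ComplexShape.up ℤ))
      (HomotopyCategory.quotient (ModuleCat.{u} B) (ComplexShape.up ℤ))
      ((ModuleCat.restrictScalars.{u} f).mapHomotopyCategory (ComplexShape.up ℤ)) =
      ((ModuleCat.restrictScalars.{u} f).mapHomotopyCategoryFactors (ComplexShape.up ℤ)).symm := rfl
  rw [e1, e2]
  simp only [Functor.map_comp, Category.assoc, Iso.symm_hom]
  rw [← reassoc_of% h4]
  rw [betaK_app_quotient]
  simp only [← Functor.map_comp_assoc, Iso.inv_hom_id_app, Category.assoc]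
  simp only [Functor.map_comp, Category.assoc, CategoryTheory.Functor.map_id, Category.id_comp,
    Functor.comp_obj]
  have c1 : ∀ K : DRing.Cx C,
      (Qh (C := ModuleCat.{u} B)).map (((ModuleCat.restrictScalars.{u} f).mapHomotopyCategoryFactors
        (ComplexShape.up ℤ)).inv.app K) ≫
      Qh.map (((ModuleCat.restrictScalars.{u} f).mapHomotopyCategoryFactors
        (ComplexShape.up ℤ)).hom.app K) = 𝟙 _ := fun K => by
    rw [← Functor.map_comp, Iso.inv_hom_id_app]
    exact Qh.map_id _
  have c2 : ∀ K : DRing.Cx C,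
      (DRing.restrictD f).map ((quotientCompQhIso (ModuleCat.{u} C)).inv.app K) ≫
        (DRing.restrictD f).map ((quotientCompQhIso (ModuleCat.{u} C)).hom.app K) = 𝟙 _ := fun K => by
    rw [← Functor.map_comp, Iso.inv_hom_id_app]
    exact (DRing.restrictD f).map_id _
  rw [reassoc_of% c1, c2, Category.comp_id, quotientCompQhIso_hom_naturality_assoc]
  rfl


end Tbc

end Groth.Agent.Lib.Helper18.DR
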