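import Mathlib
import Groth.Prelude.Def_TrivBC
import Groth.Agent.Lib.Helper18.TbcA
import Groth.Agent.Lib.Helper18.TbcB

/-!
# The base-change comparison `TrivBC.cmp` at the level of complexes (helper18)
-/

set_option autoImplicit false
set_option linter.style.haveILetI false
universe u
open CategoryTheory CategoryTheory.Limits CategoryTheory.Pretriangulated DerivedCategory

attribute [local instance] HasDerivedCategory.standard

namespace Groth.Agent.Lib.Helper18.DR

namespace Tbc

variable {R A R' A' : Type u} [CommRing R] [CommRing A] [CommRing R'] [CommRing A']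
  {φ : R →+* A} {ρ : R →+* R'} {α : A →+* A'} {φ' : R' →+* A'} (h : α.comp φ = φ'.comp ρ)

/-- the termwise commutation of restrictions -/
noncomputable def ιCx : Scx α ⋙ Scx φ ≅ Scx φ' ⋙ Scx ρ :=
  Functor.mapHomologicalComplexCompIso (TrivBC.resCommMod h) (ComplexShape.up ℤ) ≪≫
    (Functor.mapHomologicalComplexCompIso
      (Iso.refl (ModuleCat.restrictScalars.{u} φ' ⋙ ModuleCat.restrictScalars.{u} ρ))
      (ComplexShape.up ℤ)).symm

lemma ιCx_hom_app_f (Z : DRing.Cx A') (i : ℤ) :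
    ((ιCx h).hom.app Z).f i = (TrivBC.resCommMod h).hom.app (Z.X i) := by
  simp [ιCx]
  exact Category.comp_id _

lemma liftingRes₂_iso_hom_app {B C E : Type u} [CommRing B] [CommRing C] [CommRing E]
    (g : C →+* E) (f : B →+* C) (Z : DRing.Cx E) :
    (letI := TrivBC.liftingRes₂ g f
     Localization.Lifting.iso (DerivedCategory.Q (C := ModuleCat.{u} E))
      (HomologicalComplex.quasiIso (ModuleCat.{u} E) (ComplexShape.up ℤ))
      (Scx g ⋙ Scx f ⋙ DerivedCategory.Q) (DRing.restrictD g ⋙ DRing.restrictD f)).hom.app Z =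
    (DRing.restrictD f).map ((facS g).inv.app Z) ≫ (facS f).inv.app ((Scx g).obj Z) := by
  have e : (TrivBC.liftingRes₂ g f).1 = (Functor.associator _ _ _).symm ≪≫
    Functor.isoWhiskerRight (ModuleCat.restrictScalars.{u} g).mapDerivedCategoryFactors _ ≪≫
      Functor.associator _ _ _ ≪≫
        Functor.isoWhiskerLeft _ (ModuleCat.restrictScalars.{u} f).mapDerivedCategoryFactors := rfl
  change (TrivBC.liftingRes₂ g f).1.hom.app Z = _
  rw [e]
  simp

lemma liftingRes₂_iso_inv_app {B C E : Type u} [CommRing B] [CommRing C] [CommRing E]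
    (g : C →+* E) (f : B →+* C) (Z : DRing.Cx E) :
    (letI := TrivBC.liftingRes₂ g f
     Localization.Lifting.iso (DerivedCategory.Q (C := ModuleCat.{u} E))
      (HomologicalComplex.quasiIso (ModuleCat.{u} E) (ComplexShape.up ℤ))
      (Scx g ⋙ Scx f ⋙ DerivedCategory.Q) (DRing.restrictD g ⋙ DRing.restrictD f)).inv.app Z =
    (facS f).hom.app ((Scx g).obj Z) ≫ (DRing.restrictD f).map ((facS g).hom.app Z) := by
  have e : (TrivBC.liftingRes₂ g f).1 = (Functor.associator _ _ _).symm ≪≫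
    Functor.isoWhiskerRight (ModuleCat.restrictScalars.{u} g).mapDerivedCategoryFactors _ ≪≫
      Functor.associator _ _ _ ≪≫
        Functor.isoWhiskerLeft _ (ModuleCat.restrictScalars.{u} f).mapDerivedCategoryFactors := rfl
  change (TrivBC.liftingRes₂ g f).1.inv.app Z = _
  rw [e]
  simp

lemma resComm_hom_app_Q (Z : DRing.Cx A') :
    (TrivBC.resComm h).hom.app (DerivedCategory.Q.obj Z) =
      (DRing.restrictD φ).map ((facS α).inv.app Z) ≫ (facS φ).inv.app ((Scx α).obj Z) ≫
        DerivedCategory.Q.map ((ιCx h).hom.app Z) ≫ (facS ρ).hom.app ((Scx φ').obj Z) ≫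
          (DRing.restrictD ρ).map ((facS φ').hom.app Z) := by
  unfold TrivBC.resComm
  rw [Localization.liftNatIso_hom, Localization.liftNatTrans_app]
  have e1 := liftingRes₂_iso_hom_app α φ Z
  have e2 := liftingRes₂_iso_inv_app φ' ρ Z
  rw [e1, e2]
  have e3 : (TrivBC.resCommCx h).hom.app Z = DerivedCategory.Q.map ((ιCx h).hom.app Z) := by
    simp [TrivBC.resCommCx, ιCx]
  rw [e3]
  simp only [Category.assoc]

/-- complex-level comparison -/
noncomputable def cmpCx : Scx φ ⋙ Ecx ρ ⟶ Ecx α ⋙ Scx φ' :=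
  mate (adjCx α) (adjCx ρ) (ιCx h).hom

variable [DRing.HasLBaseChange ρ] [DRing.HasLBaseChange α]

lemma cmp_eq_mate (adjρ : DRing.LBaseChange ρ ⊣ DRing.restrictD ρ)
    (adjα : DRing.LBaseChange α ⊣ DRing.restrictD α) (K : Dual.D A) :
    TrivBC.cmp adjρ adjα h K = (mate adjα adjρ (TrivBC.resComm h).hom).app K := rfl

theorem cmp_square (Y : DRing.Cx A) :
    (DRing.LBaseChange ρ).map ((facS φ).hom.app Y) ≫
        TrivBC.cmp (LBCAdj.adjD ρ) (LBCAdj.adjD α) h (DerivedCategory.Q.obj Y) ≫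
          (DRing.restrictD φ').map ((γ α).app Y) =
      (γ ρ).app ((Scx φ).obj Y) ≫ DerivedCategory.Q.map ((cmpCx h).app Y) ≫
        (facS φ').hom.app ((Ecx α).obj Y) :=
  cube (adjCx α) (adjCx ρ) (ιCx h).hom (LBCAdj.adjD α) (LBCAdj.adjD ρ) (TrivBC.resComm h).hom
    (facS φ) (facS φ') (facS α) (facS ρ) (γ α) (γ ρ) (unit_γ α) (unit_γ ρ)
    (resComm_hom_app_Q h) Y

/-- reduction of the comparison isomorphism to three complex-level statements -/
theorem isIso_cmp_of (adjρ : DRing.LBaseChange ρ ⊣ DRing.restrictD ρ)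
    (adjα : DRing.LBaseChange α ⊣ DRing.restrictD α) (Y : DRing.Cx A)
    (h1 : IsIso ((γ α).app Y)) (h2 : IsIso ((γ ρ).app ((Scx φ).obj Y)))
    (h3 : IsIso (DerivedCategory.Q.map ((cmpCx h).app Y))) :
    IsIso (TrivBC.cmp adjρ adjα h (DerivedCategory.Q.obj Y)) := by
  rw [cmp_eq_mate, isIso_mate_app_iff adjα adjρ _ (LBCAdj.adjD α) (LBCAdj.adjD ρ), ← cmp_eq_mate]
  have sq := cmp_square h Y
  have hR : IsIso ((γ ρ).app ((Scx φ).obj Y) ≫ DerivedCategory.Q.map ((cmpCx h).app Y) ≫
      (facS φ').hom.app ((Ecx α).obj Y)) := inferInstance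
  rw [← sq] at hR
  haveI : IsIso ((DRing.restrictD φ').map ((γ α).app Y)) := inferInstance
  have hR2 : IsIso (TrivBC.cmp (LBCAdj.adjD ρ) (LBCAdj.adjD α) h (DerivedCategory.Q.obj Y) ≫
      (DRing.restrictD φ').map ((γ α).app Y)) :=
    IsIso.of_isIso_comp_left ((DRing.LBaseChange ρ).map ((facS φ).hom.app Y)) _
  exact IsIso.of_isIso_comp_right _ ((DRing.restrictD φ').map ((γ α).app Y))

end Tbc

end Groth.Agent.Lib.Helper18.DR
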