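import Mathlib
import Groth.Agent.Lib.Helper18.TbcC
import Groth.Agent.Lib.Helper18.DRExt2

/-!
# The complex-level base-change comparison is an isomorphism for a pushout square (helper18)
-/

set_option autoImplicit false
set_option linter.style.haveILetI false
universe u
open CategoryTheory CategoryTheory.Limits CategoryTheory.Pretriangulated DerivedCategory TensorProduct

attribute [local instance] HasDerivedCategory.standard

namespace Groth.Agent.Lib.Helper18.DR

namespace Tbc

section modlevel

variable {R A R' A' : Type u} [CommRing R] [CommRing A] [CommRing R'] [CommRing A']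
  {φ : R →+* A} {ρ : R →+* R'} {α : A →+* A'} {φ' : R' →+* A'} (h : α.comp φ = φ'.comp ρ)

/-- module-level comparison -/
noncomputable def cmpMod :
    ModuleCat.restrictScalars.{u} φ ⋙ ModuleCat.extendScalars.{u, u, u} ρ ⟶
      ModuleCat.extendScalars.{u, u, u} α ⋙ ModuleCat.restrictScalars.{u} φ' :=
  mate (ModuleCat.extendRestrictScalarsAdj.{u, u, u} α)
    (ModuleCat.extendRestrictScalarsAdj.{u, u, u} ρ) (TrivBC.resCommMod h).hom

lemma cmpCx_app_f (Y : DRing.Cx A) (i : ℤ) :
    ((cmpCx h).app Y).f i = (cmpMod h).app (Y.X i) := by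
  unfold cmpCx cmpMod
  rw [mate_app, mate_app, Adjunction.homEquiv_counit, Adjunction.homEquiv_counit]
  simp [ιCx_hom_app_f, LBCAdj.adjCx]
  rfl

open ChangeOfRings in
lemma cmpMod_app_tmul (M : ModuleCat.{u} A) (r' : R') (m : M) :
    ((cmpMod h).app M).hom (r' ⊗ₜ[R,ρ] (show ((ModuleCat.restrictScalars.{u} φ).obj M) from m)) =
      ((φ' r') ⊗ₜ[A,α] m : (ModuleCat.extendScalars.{u, u, u} α).obj M) := by
  unfold cmpMod
  rw [mate_app, Adjunction.homEquiv_counit]
  refine Eq.trans (b := (((φ' r' * 1) ⊗ₜ[A,α] m : (ModuleCat.extendScalars.{u, u, u} α).obj M))) rfl ?_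
  exact congrArg (fun a : A' => ((a ⊗ₜ[A,α] m : (ModuleCat.extendScalars.{u, u, u} α).obj M)))
    (mul_one (φ' r'))

end modlevel

section pushout

variable {R A R' A' : Type u} [CommRing R] [CommRing A] [CommRing R'] [CommRing A']
  [Algebra R A] [Algebra R R'] [Algebra A A'] [Algebra R' A'] [Algebra R A']
  [IsScalarTower R A A'] [IsScalarTower R R' A'] [Algebra.IsPushout R A R' A']
  (h : (algebraMap A A').comp (algebraMap R A) = (algebraMap R' A').comp (algebraMap R R'))

lemma cmpMod_bijective (M : ModuleCat.{u} A) : Function.Bijective ((cmpMod h).app M).hom := by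
  letI : Module R M := Module.compHom M (algebraMap R A)
  haveI : IsScalarTower R A M := IsScalarTower.of_algebraMap_smul (fun r m => rfl)
  haveI : Algebra.IsPushout R R' A A' := Algebra.IsPushout.symm inferInstance
  let L2 : R' ⊗[R] M ≃ₗ[R'] A' ⊗[A] M := (Algebra.IsPushout.cancelBaseChange R R' A A' M).symm
  let L1 := extMEquiv (A := R) (B := R') ((ModuleCat.restrictScalars.{u} (algebraMap R A)).obj M)
  let L3 := extMEquiv (A := A) (B := A') M
  have key : ∀ x, L3 (((cmpMod h).app M).hom x) = L2 (L1 x) := by
    intro x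
    induction x using TensorProduct.induction_on with
    | zero =>
      exact (congrArg L3 (map_zero ((cmpMod h).app M).hom)).trans ((map_zero L3).trans
        ((congrArg L2 (map_zero L1)).trans (map_zero L2)).symm)
    | tmul r' m =>
      erw [cmpMod_app_tmul]
      exact (Algebra.IsPushout.cancelBaseChange_symm_tmul R R' A A' M r' m).symm
    | add x y hx hy =>
      exact (congrArg L3 (map_add ((cmpMod h).app M).hom x y)).trans ((map_add L3 _ _).trans
        ((congrArg₂ (· + ·) hx hy).trans ((map_add L2 _ _).symm.trans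
          (congrArg L2 (map_add L1 x y).symm))))
  have hfun : ⇑((cmpMod h).app M).hom = L3.symm ∘ L2 ∘ L1 := funext fun x => by
    change _ = L3.symm (L2 (L1 x))
    rw [← key x]
    exact (L3.symm_apply_apply _).symm
  rw [hfun]
  exact L3.symm.bijective.comp (L2.bijective.comp L1.bijective)

lemma isIso_cmpMod_app (M : ModuleCat.{u} A) : IsIso ((cmpMod h).app M) :=
  (ConcreteCategory.isIso_iff_bijective _).mpr (cmpMod_bijective h M)

lemma isIso_cmpCx_app (Y : DRing.Cx A) : IsIso ((cmpCx h).app Y) := by
  haveI : ∀ i, IsIso (((cmpCx h).app Y).f i) := fun i => by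
    rw [cmpCx_app_f]
    exact isIso_cmpMod_app h _
  exact HomologicalComplex.Hom.isIso_of_components _

end pushout

end Tbc

end Groth.Agent.Lib.Helper18.DR
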