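import Mathlib
import Groth.Agent.Lib.Helper18.DRTorD
import Groth.Agent.Lib.Helper18.DRTorZ2

/-!
# Tensoring acyclic complexes of Tor-acyclic modules (helper18)
-/

set_option autoImplicit false
set_option linter.style.haveILetI false
universe u
open CategoryTheory CategoryTheory.Limits CategoryTheory.Pretriangulated DerivedCategory TensorProduct
open Groth.Agent.Lib.Helper14.TorKer

attribute [local instance] HasDerivedCategory.standard

namespace Groth.Agent.Lib.Helper18.DR

namespace Tbc

variable {R : Type u} [CommRing R]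

section exact

variable {M₁ M₂ M₃ M₄ : Type u} [AddCommGroup M₁] [Module R M₁]
  [AddCommGroup M₂] [Module R M₂] [AddCommGroup M₃] [Module R M₃] [AddCommGroup M₄] [Module R M₄]

lemma lTensor_exact_of_inj (f : M₁ →ₗ[R] M₂) (g : M₂ →ₗ[R] M₃) (g' : M₃ →ₗ[R] M₄)
    (hfg : Function.Exact f g) (hgg' : Function.Exact g g') (N : Type u) [AddCommGroup N]
    [Module R N] (hinj : Function.Injective ((LinearMap.ker g').subtype.lTensor N)) :
    Function.Exact (f.lTensor N) (g.lTensor N) := by
  let ĝ : M₂ →ₗ[R] LinearMap.ker g' := g.codRestrict _ (fun x => by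
    rw [LinearMap.mem_ker]
    exact hgg'.apply_apply_eq_zero x)
  have h' : Function.Exact f ĝ := by
    intro y
    rw [← hfg y]
    constructor
    · intro hy
      exact congrArg Subtype.val hy
    · intro hy
      exact Subtype.ext hy
  have hsurj : Function.Surjective ĝ := by
    rintro ⟨y, hy⟩
    obtain ⟨x, hx⟩ := (hgg' y).mp (LinearMap.mem_ker.mp hy)
    exact ⟨x, Subtype.ext hx⟩
  have hex := lTensor_exact N h' hsurj
  have hcomp : g.lTensor N = ((LinearMap.ker g').subtype.lTensor N) ∘ₗ (ĝ.lTensor N) := by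
    rw [← LinearMap.lTensor_comp]
    rfl
  intro y
  rw [← hex y, hcomp, LinearMap.comp_apply]
  constructor
  · intro hy
    apply hinj
    rw [hy, map_zero]
  · intro hy
    rw [hy, map_zero]

end exact

/-- modules `M` with `Tor_{n+1}(N, M) = 0` for all `n` -/
def torPropK (N : Type u) [AddCommGroup N] [Module R N] : ModPropK R where
  P M := ∀ n : ℕ, TorZ R (n + 1) N M
  iso e h n := torZ_of_equiv_right e.toLinearEquiv (h n)
  zero {M} hM n := by
    haveI : Subsingleton M := ModuleCat.subsingleton_of_isZero hM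
    haveI : Module.Flat R M := inferInstance
    exact torZ_of_flat_right n
  biprod {M M'} hM hM' n := by
    obtain ⟨e⟩ := biprod_linearEquiv M M'
    refine torZ_of_equiv_right e.symm ?_
    exact torZ_mid_right (LinearMap.inl R M M') (LinearMap.snd R M M')
      (fun x => by
        constructor
        · intro hx
          exact ⟨x.1, Prod.ext rfl (by simpa using hx.symm)⟩
        · rintro ⟨y, rfl⟩
          rfl)
      LinearMap.inl_injective LinearMap.snd_surjective (n + 1) (hM n) (hM' n)
  ker {M M'} f hf hM hM' n :=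
    torZ_sub_right (LinearMap.ker f.hom).subtype f.hom (LinearMap.exact_subtype_ker_map _)
      (LinearMap.ker f.hom).injective_subtype hf (n + 1) (hM' (n + 1)) (hM n)

section acyclic

variable {B : Type u} [CommRing B] {Φ : ModuleCat.{u} R ⥤ ModuleCat.{u} B} {N : Type u}
  [AddCommGroup N] [Module R N] (t : TensorLike Φ N) [Φ.Additive]

include t in
/-- `Φ = N ⊗ -` preserves acyclicity of a bounded above complex whose terms are flat except the
top one, which is `N`-Tor-acyclic -/
theorem isZero_H_of_acyclic_tor (C : DRing.Cx R) (d : ℤ) (hc : DRing.VanishesAbove C d)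
    (hflat : ∀ j, j ≠ d → Module.Flat R (C.X j)) (hT : (torPropK N).P (C.X d))
    (hex : ∀ i, IsZero ((H R i).obj (DRing.toD C))) (j : ℤ) :
    IsZero ((H B j).obj (DRing.toD ((Φ.mapHomologicalComplex (ComplexShape.up ℤ)).obj C))) := by
  rw [isZero_H_toD_iff _ (j - 1) j (j + 1) (by omega) rfl]
  change Function.Exact (Φ.map (C.d (j - 1) j)).hom (Φ.map (C.d j (j + 1))).hom
  rw [t.exact_iff]
  have h0 := (isZero_H_toD_iff C (j - 1) j (j + 1) (by omega) rfl).mp (hex j)
  have h1 := (isZero_H_toD_iff C j (j + 1) (j + 2) rfl (by omega)).mp (hex (j + 1))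
  have h2 := (isZero_H_toD_iff C (j + 1) (j + 2) (j + 2 + 1) (by omega) rfl).mp (hex (j + 2))
  have hall : ∀ i, (torPropK N).P (C.X i) := fun i => by
    by_cases hi : i = d
    · subst hi
      exact hT
    · haveI := hflat i hi
      exact fun n => torZ_of_flat_right n
  have hker := mp_ker_d (torPropK N) C d (j + 2) hc (fun i _ => hall i)
    (fun i _ => hex i) (j + 2) le_rfl
  apply lTensor_exact_of_inj _ _ (C.d (j + 1) (j + 2)).hom h0 h1 N
  by_cases hj : j + 1 = d
  · have hd0 : (C.d (j + 1) (j + 2)).hom = 0 := by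
      have hz : C.d (j + 1) (j + 2) = 0 := (hc (j + 2) (by omega)).eq_of_tgt _ _
      rw [hz]
      rfl
    have hb : Function.Bijective (LinearMap.ker (C.d (j + 1) (j + 2)).hom).subtype :=
      ⟨Submodule.injective_subtype _, fun y => ⟨⟨y, by rw [hd0]; simp⟩, rfl⟩⟩
    exact (LinearEquiv.lTensor N (LinearEquiv.ofBijective _ hb)).injective
  · haveI := hflat (j + 1) hj
    let p : C.X (j + 1) →ₗ[R] LinearMap.ker (C.d (j + 2) (j + 2 + 1)).hom :=
      (C.d (j + 1) (j + 2)).hom.codRestrict _ (fun x => by
        rw [LinearMap.mem_ker]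
        exact h2.apply_apply_eq_zero x)
    have hp : Function.Surjective p := by
      rintro ⟨y, hy⟩
      obtain ⟨x, hx⟩ := (h2 y).mp (LinearMap.mem_ker.mp hy)
      exact ⟨x, Subtype.ext hx⟩
    have hexp : Function.Exact (LinearMap.ker (C.d (j + 1) (j + 2)).hom).subtype p := by
      intro y
      constructor
      · intro hy
        exact ⟨⟨y, LinearMap.mem_ker.mpr (congrArg Subtype.val hy)⟩, rfl⟩
      · rintro ⟨⟨x, hx⟩, rfl⟩
        exact Subtype.ext (LinearMap.mem_ker.mp hx)
    exact (tor_one_subsingleton_iff N _ p hexp (Submodule.injective_subtype _) hp).mp (hker 0)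

end acyclic

end Tbc

end Groth.Agent.Lib.Helper18.DR
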