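import Mathlib
import Groth.Agent.Lib.Helper18.TbcB
import Groth.Agent.Lib.Helper18.TbcE

/-!
# Derived base change of a Tor-acyclic module is computed naively (helper18)
-/

set_option autoImplicit false
set_option linter.style.haveILetI false
universe u
open CategoryTheory CategoryTheory.Limits CategoryTheory.Pretriangulated DerivedCategory TensorProduct
open Groth.Agent.Lib.Helper14.TorKer

attribute [local instance] HasDerivedCategory.standard

namespace Groth.Agent.Lib.Helper18.DR

namespace Tbc

variable {R R' : Type u} [CommRing R] [CommRing R'] [Algebra R R']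

/-- extension of scalars preserves the quasi-isomorphism from a free resolution to a complex
concentrated in one degree with `R'`-Tor-acyclic term -/
theorem isIso_Q_map_Ecx_of_tor (P W : DRing.Cx R) (q : P ⟶ W) (d : ℤ)
    (hP : DRing.VanishesAbove P d) (hfree : ∀ i, Module.Free R (P.X i))
    (hW0 : ∀ i, i ≠ d → IsZero (W.X i)) (hWd : (torPropK R').P (W.X d))
    (hq : IsIso (DerivedCategory.Q.map q)) :
    IsIso (DerivedCategory.Q.map ((Ecx (algebraMap R R')).map q)) := by
  have hWc : DRing.VanishesAbove W d := fun i hi => hW0 i (by omega)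
  have hT := DerivedCategory.mappingCone_triangle_distinguished q
  have hzero : IsZero (DRing.toD (CochainComplex.mappingCone q)) :=
    (Triangle.isZero₃_iff_isIso₁ _ hT).mpr hq
  have hH : ∀ i, IsZero ((H R i).obj (DRing.toD (CochainComplex.mappingCone q))) :=
    fun i => (H R i).map_isZero hzero
  have hflat : ∀ j, j ≠ d → Module.Flat R ((CochainComplex.mappingCone q).X j) := fun j hj =>
    (flatProp R).iso (HomologicalComplex.homotopyCofiber.XIsoBiprod q j (j + 1) rfl).symm
      ((flatProp R).biprod (M := P.X (j + 1)) (N := W.X j)
        (by haveI := hfree (j + 1); exact (inferInstance : Module.Flat R (P.X (j + 1))))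
        ((flatProp R).zero (hW0 j hj)))
  have hT' : (torPropK R').P ((CochainComplex.mappingCone q).X d) :=
    (torPropK R').iso (HomologicalComplex.homotopyCofiber.XIsoBiprod q d (d + 1) rfl).symm
      ((torPropK R').biprod ((torPropK R').zero (hP (d + 1) (by omega))) hWd)
  have h1 := isZero_H_of_acyclic_tor (tensorLike_extM (A := R) (B := R'))
    (CochainComplex.mappingCone q) d
    (vanishesAbove_cone q (fun i hi => hP i (by omega)) hWc) hflat hT' hH
  have h2 : IsZero (DRing.toD (((extM (A := R) (B := R')).mapHomologicalComplex
      (ComplexShape.up ℤ)).obj (CochainComplex.mappingCone q))) := isZero_of_forall_isZero_H _ h1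
  have h3 : IsZero (DRing.toD (CochainComplex.mappingCone
      (((extM (A := R) (B := R')).mapHomologicalComplex (ComplexShape.up ℤ)).map q))) :=
    h2.of_iso (DerivedCategory.Q.mapIso
      (CochainComplex.mappingCone.mapHomologicalComplexIso q (extM (A := R) (B := R')))).symm
  exact (Triangle.isZero₃_iff_isIso₁ _ (DerivedCategory.mappingCone_triangle_distinguished
    (((extM (A := R) (B := R')).mapHomologicalComplex (ComplexShape.up ℤ)).map q))).mp h3

variable [DRing.HasLBaseChange (algebraMap R R')]

/-- derived base change of a complex concentrated in one degree with Tor-acyclic term is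
computed naively -/
theorem isIso_γ_app_of_tor (W : DRing.Cx R) (d : ℤ) (hW0 : ∀ i, i ≠ d → IsZero (W.X i))
    (hWd : (torPropK R').P (W.X d)) : IsIso ((γ (algebraMap R R')).app W) := by
  have hWc : DRing.VanishesAbove W d := fun i hi => hW0 i (by omega)
  haveI := isLE_toD_of_vanishesAbove W d hWc
  obtain ⟨P, hP, hfree, ⟨e⟩⟩ := exists_free_resolution (DRing.toD W) d
  have hproj : ∀ i, Module.Projective R (P.X i) := fun i => by
    haveI := hfree i
    exact Module.Projective.of_free
  haveI : P.IsKProjective := isKProjective_of_vanishesAbove P d hP hproj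
  obtain ⟨q, hq⟩ := exists_map_eq P W e.hom
  have hqi : IsIso (DerivedCategory.Q.map q) := by
    rw [hq]
    infer_instance
  have nat := (γ (algebraMap R R')).naturality q
  haveI := isIso_γ_app (algebraMap R R') P
  haveI := isIso_Q_map_Ecx_of_tor P W q d hP hfree hW0 hWd hqi
  haveI : IsIso ((DerivedCategory.Q ⋙ DRing.LBaseChange (algebraMap R R')).map q) := by
    dsimp
    infer_instance
  have h3 : IsIso ((DerivedCategory.Q ⋙ DRing.LBaseChange (algebraMap R R')).map q ≫
      (γ (algebraMap R R')).app W) := by
    rw [nat]
    dsimp
    infer_instance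
  exact IsIso.of_isIso_comp_left
    ((DerivedCategory.Q ⋙ DRing.LBaseChange (algebraMap R R')).map q) _

end Tbc

end Groth.Agent.Lib.Helper18.DR
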