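import Mathlib
import Groth.Agent.Lib.Helper18.GenA
import Groth.Agent.Lib.Helper18.GenB
import Groth.Agent.Lib.Helper18.TbcD
import Groth.Agent.Lib.Helper18.TbcF
import Groth.Agent.Lib.Helper18.ShrB

/-!
# The base-change comparison map is an isomorphism for a tor-independent pushout square
(helper18)
-/

set_option autoImplicit false
set_option linter.style.haveILetI false
universe u
open CategoryTheory CategoryTheory.Limits CategoryTheory.Pretriangulated DerivedCategory TensorProduct
open Groth.Agent.Lib.Helper14.TorKer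

attribute [local instance] HasDerivedCategory.standard

namespace Groth.Agent.Lib.Helper18.DR

namespace Tbc

section colim

variable {J C D : Type*} [Category J] [Category C] [Category D] {K : J ⥤ C} (c : Cocone K)
  {G₁ G₂ : C ⥤ D} (τ : G₁ ⟶ G₂)

lemma isIso_app_pt (h₁ : IsColimit (G₁.mapCocone c)) (h₂ : IsColimit (G₂.mapCocone c))
    (hτ : ∀ j, IsIso (τ.app (K.obj j))) : IsIso (τ.app c.pt) := by
  let w : K ⋙ G₁ ≅ K ⋙ G₂ :=
    NatIso.ofComponents (fun j => asIso (τ.app (K.obj j))) (fun f => τ.naturality (K.map f))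
  let e := IsColimit.coconePointsIsoOfNatIso h₁ h₂ w
  have : τ.app c.pt = e.hom := by
    apply h₁.hom_ext
    intro j
    rw [IsColimit.comp_coconePointsIsoOfNatIso_hom]
    exact τ.naturality (c.ι.app j)
  rw [this]
  infer_instance

end colim

section main

variable {R A R' A' : Type u} [CommRing R] [CommRing A] [CommRing R'] [CommRing A']
  [Algebra R A] [Algebra R R'] [Algebra A A'] [Algebra R' A'] [Algebra R A']
  [IsScalarTower R A A'] [IsScalarTower R R' A'] [Algebra.IsPushout R A R' A']
  (htor : ∀ p : ℕ, 1 ≤ p → Subsingleton (DRing.Tor R p A R'))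
  [DRing.HasLBaseChange (algebraMap R R')] [DRing.HasLBaseChange (algebraMap A A')]
  (adjρ : DRing.LBaseChange (algebraMap R R') ⊣ DRing.restrictD (algebraMap R R'))
  (adjα : DRing.LBaseChange (algebraMap A A') ⊣ DRing.restrictD (algebraMap A A'))
  (h : (algebraMap A A').comp (algebraMap R A) = (algebraMap R' A').comp (algebraMap R R'))

include htor in
lemma base_case (d : ℤ) :
    IsIso (TrivBC.cmp adjρ adjα h (DerivedCategory.Q.obj
      ((HomologicalComplex.single (ModuleCat.{u} A) (ComplexShape.up ℤ) d).obj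
        (ModuleCat.of A A)))) := by
  set Y : DRing.Cx A := (HomologicalComplex.single (ModuleCat.{u} A) (ComplexShape.up ℤ) d).obj
    (ModuleCat.of A A) with hY
  have hY0 : ∀ i, i ≠ d → IsZero (Y.X i) := fun i hi =>
    HomologicalComplex.isZero_single_obj_X (ComplexShape.up ℤ) d (ModuleCat.of A A) i hi
  let eY : Y.X d ≅ ModuleCat.of A A :=
    HomologicalComplex.singleObjXSelf (ComplexShape.up ℤ) d (ModuleCat.of A A)
  have hproj : ∀ i, Module.Projective A (Y.X i) := fun i => by
    by_cases hi : i = d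
    · subst hi
      exact Module.Projective.of_equiv eY.toLinearEquiv.symm
    · haveI : Subsingleton (Y.X i) := ModuleCat.subsingleton_of_isZero (hY0 i hi)
      haveI : Module.Free A (Y.X i) := Module.Free.of_subsingleton A _
      exact Module.Projective.of_free
  haveI : Y.IsKProjective :=
    isKProjective_of_vanishesAbove Y d (fun i hi => hY0 i (by omega)) hproj
  refine isIso_cmp_of h adjρ adjα Y (isIso_γ_app _ Y) ?_ ?_
  · refine isIso_γ_app_of_tor _ d (fun i hi => ?_) (fun n => ?_)
    · exact (ModuleCat.restrictScalars.{u} (algebraMap R A)).map_isZero (hY0 i hi)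
    · have h1 : TorZ R (n + 1) A R' := htor (n + 1) (by omega)
      have h2 : TorZ R (n + 1) R' A := h1.comm
      let e1 : A ≃ₗ[R] ((ModuleCat.restrictScalars.{u} (algebraMap R A)).obj (ModuleCat.of A A)) :=
        (resBEquiv (A := R) (B := A)).symm
      let e2 : ((ModuleCat.restrictScalars.{u} (algebraMap R A)).obj (ModuleCat.of A A)) ≃ₗ[R]
          ((ModuleCat.restrictScalars.{u} (algebraMap R A)).obj (Y.X d)) :=
        ((ModuleCat.restrictScalars.{u} (algebraMap R A)).mapIso eY.symm).toLinearEquiv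
      exact torZ_of_equiv_right (e1.trans e2) h2
  · haveI := isIso_cmpCx_app h Y
    infer_instance

/-- the comparison as a natural transformation -/
noncomputable abbrev cmpNat :
    DRing.restrictD (algebraMap R A) ⋙ DRing.LBaseChange (algebraMap R R') ⟶
      DRing.LBaseChange (algebraMap A A') ⋙ DRing.restrictD (algebraMap R' A') :=
  mate adjα adjρ (TrivBC.resComm h).hom

include adjρ in
lemma isTriangulated_Lρ :
    letI := adjρ.leftAdjointCommShift ℤ
    (DRing.LBaseChange (algebraMap R R')).IsTriangulated := by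
  letI := adjρ.leftAdjointCommShift ℤ
  haveI := adjρ.commShift_of_rightAdjoint ℤ
  exact adjρ.isTriangulated_leftAdjoint

include adjρ in
lemma weakTri_left :
    Gen.WeakTri (DRing.restrictD (algebraMap R A) ⋙ DRing.LBaseChange (algebraMap R R')) := by
  letI := adjρ.leftAdjointCommShift ℤ
  haveI := adjρ.commShift_of_rightAdjoint ℤ
  haveI : (DRing.LBaseChange (algebraMap R R')).IsTriangulated := adjρ.isTriangulated_leftAdjoint
  exact Gen.weakTri_of_isTriangulated _

include adjα in
lemma weakTri_right :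
    Gen.WeakTri (DRing.LBaseChange (algebraMap A A') ⋙ DRing.restrictD (algebraMap R' A')) := by
  letI := adjα.leftAdjointCommShift ℤ
  haveI := adjα.commShift_of_rightAdjoint ℤ
  haveI : (DRing.LBaseChange (algebraMap A A')).IsTriangulated := adjα.isTriangulated_leftAdjoint
  exact Gen.weakTri_of_isTriangulated _

include adjρ in
lemma pzm_left :
    (DRing.restrictD (algebraMap R A) ⋙
      DRing.LBaseChange (algebraMap R R')).PreservesZeroMorphisms := by
  letI := adjρ.leftAdjointCommShift ℤ
  haveI := adjρ.commShift_of_rightAdjoint ℤ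
  haveI : (DRing.LBaseChange (algebraMap R R')).IsTriangulated := adjρ.isTriangulated_leftAdjoint
  infer_instance

include adjα in
lemma pzm_right :
    (DRing.LBaseChange (algebraMap A A') ⋙
      DRing.restrictD (algebraMap R' A')).PreservesZeroMorphisms := by
  letI := adjα.leftAdjointCommShift ℤ
  haveI := adjα.commShift_of_rightAdjoint ℤ
  haveI : (DRing.LBaseChange (algebraMap A A')).IsTriangulated := adjα.isTriangulated_leftAdjoint
  infer_instance

include htor in
/-- S13563 -/
theorem isIso_cmp (K : Dual.D A) : IsIso (TrivBC.cmp adjρ adjα h K) := by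
  let τ := cmpNat adjρ adjα h
  let 𝒮 : Dual.D A → Prop := fun K =>
    ∀ n : ℤ, IsIso (τ.app ((shiftFunctor (Dual.D A) n).obj K))
  have hiso : ∀ {X Y : Dual.D A}, (X ≅ Y) → 𝒮 X → 𝒮 Y := fun e hX n =>
    (NatTrans.isIso_app_iff_of_iso τ ((shiftFunctor (Dual.D A) n).mapIso e)).mp (hX n)
  have hA : 𝒮 (Dual.inD A A) := fun n => by
    have e : (shiftFunctor (Dual.D A) n).obj (Dual.inD A A) ≅
        DerivedCategory.Q.obj ((HomologicalComplex.single (ModuleCat.{u} A)
          (ComplexShape.up ℤ) (-n)).obj (ModuleCat.of A A)) :=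
      SgShiftIso n (-n) 0 (by omega) (ModuleCat.of A A) ≪≫
        (DerivedCategory.singleFunctorIsoCompQ (ModuleCat.{u} A) (-n)).app (ModuleCat.of A A)
    exact (NatTrans.isIso_app_iff_of_iso τ e).mpr (base_case htor adjρ adjα h (-n))
  have hshift : ∀ (K : Dual.D A) (m : ℤ), 𝒮 K → 𝒮 ((shiftFunctor (Dual.D A) m).obj K) :=
    fun K m hK n =>
      (NatTrans.isIso_app_iff_of_iso τ
        ((shiftFunctorAdd' (Dual.D A) m n (m + n) rfl).app K)).mp (hK (m + n))
  have hext : ∀ T : Triangle (Dual.D A), T ∈ distTriang (Dual.D A) → 𝒮 T.obj₁ → 𝒮 T.obj₃ →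
      𝒮 T.obj₂ := fun T hT h₁ h₃ n => by
    have hT' := Triangle.shift_distinguished T hT n
    haveI := pzm_left (A := A) adjρ
    haveI := pzm_right (R' := R') adjα
    haveI : IsIso (τ.app ((shiftFunctor (Triangle (Dual.D A)) n).obj T).obj₁) := h₁ n
    haveI : IsIso (τ.app ((shiftFunctor (Triangle (Dual.D A)) n).obj T).obj₃) := h₃ n
    haveI : IsIso (τ.app ((shiftFunctor (Dual.D A) (1 : ℤ)).obj
        ((shiftFunctor (Triangle (Dual.D A)) n).obj T).obj₁)) := hshift _ n h₁ 1
    haveI : IsIso (τ.app ((shiftFunctor (Dual.D A) (-1 : ℤ)).obj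
        ((shiftFunctor (Triangle (Dual.D A)) n).obj T).obj₃)) := hshift _ n h₃ (-1)
    exact Gen.isIso_app_obj₂ (weakTri_left (A := A) adjρ) (weakTri_right (R' := R') adjα) τ _ hT'
  have hcoprod : ∀ (I : Type u) (E : I → Dual.D A) (cf : Cofan (Cpt.fam E)) (_ : IsColimit cf),
      (∀ i, 𝒮 (E i)) → 𝒮 cf.pt := fun I E cf hcf hE n => by
    haveI := Shr.isLeftAdjoint_restrictD (algebraMap R A)
    haveI := Shr.isLeftAdjoint_restrictD (algebraMap R' A')
    haveI : (DRing.LBaseChange (algebraMap R R')).IsLeftAdjoint := adjρ.isLeftAdjoint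
    haveI : (DRing.LBaseChange (algebraMap A A')).IsLeftAdjoint := adjα.isLeftAdjoint
    refine isIso_app_pt cf (Functor.whiskerLeft (shiftFunctor (Dual.D A) n) τ)
      (isColimitOfPreserves _ hcf) (isColimitOfPreserves _ hcf) (fun j => ?_)
    exact hE j.as.down n
  have := Gen.generation 𝒮 hiso hA hshift hext hcoprod K 0
  exact (NatTrans.isIso_app_iff_of_iso τ ((shiftFunctorZero (Dual.D A) ℤ).app K)).mp this

end main

end Tbc

end Groth.Agent.Lib.Helper18.DR
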