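import Mathlib
import Groth.Agent.Lib.Helper18.TbcG

/-!
# Flat base change of Tor vanishing (helper18)
-/

set_option autoImplicit false
set_option linter.style.haveILetI false
universe u
open CategoryTheory CategoryTheory.Limits TensorProduct
open Groth.Agent.Lib.Helper14.TorKer

attribute [local instance] HasDerivedCategory.standard

namespace Groth.Agent.Lib.Helper18.DR
namespace Rpc

section tor

variable {R P : Type u} [CommRing R] [CommRing P] [Algebra R P]
  {M : Type u} [AddCommGroup M] [Module P M] [Module R M] [IsScalarTower R P M]

lemma cancel_natural {X Y : Type u} [AddCommGroup X] [Module R X] [AddCommGroup Y] [Module R Y]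
    (f : X →ₗ[R] Y) (x : M ⊗[P] (P ⊗[R] X)) :
    TensorProduct.AlgebraTensorModule.cancelBaseChange R P P M Y
        (LinearMap.lTensor M (f.baseChange P) x) =
      LinearMap.lTensor M f (TensorProduct.AlgebraTensorModule.cancelBaseChange R P P M X x) := by
  induction x using TensorProduct.induction_on with
  | zero => simp
  | add a b ha hb => simp only [map_add, ha, hb]
  | tmul m y =>
    induction y using TensorProduct.induction_on with
    | zero => simp
    | add a b ha hb => simp only [TensorProduct.tmul_add, map_add, ha, hb]
    | tmul a x => simp

lemma injective_lTensor_baseChange_iff {X Y : Type u} [AddCommGroup X] [Module R X]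
    [AddCommGroup Y] [Module R Y] (f : X →ₗ[R] Y) :
    Function.Injective (LinearMap.lTensor M (f.baseChange P)) ↔
      Function.Injective (LinearMap.lTensor M f) := by
  let eX := TensorProduct.AlgebraTensorModule.cancelBaseChange R P P M X
  let eY := TensorProduct.AlgebraTensorModule.cancelBaseChange R P P M Y
  have key : ∀ x, eY (LinearMap.lTensor M (f.baseChange P) x) = LinearMap.lTensor M f (eX x) :=
    cancel_natural f
  constructor
  · intro h a b hab
    have : eX.symm a = eX.symm b := by
      apply h
      apply eY.injective
      rw [key, key]
      simpa using hab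
    exact eX.symm.injective this
  · intro h a b hab
    apply eX.injective
    apply h
    rw [← key, ← key, hab]

variable [Module.Flat R P]

section step

variable {K F N : Type u} [AddCommGroup K] [Module R K] [AddCommGroup F] [Module R F]
  [AddCommGroup N] [Module R N] [Module.Flat R F]
  (i : K →ₗ[R] F) (p : F →ₗ[R] N) (hex : Function.Exact i p)
  (hi : Function.Injective i) (hp : Function.Surjective p)

include hex hp in
lemma exact_baseChange : Function.Exact (i.baseChange P) (p.baseChange P) := by
  have := lTensor_exact P hex hp
  intro y
  rw [LinearMap.baseChange_eq_ltensor, LinearMap.baseChange_eq_ltensor]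
  exact this y

include hi in
lemma injective_baseChange : Function.Injective (i.baseChange P) := by
  have := Module.Flat.lTensor_preserves_injective_linearMap (M := P) i hi
  rw [LinearMap.baseChange_eq_ltensor]
  exact this

include hp in
lemma surjective_baseChange : Function.Surjective (p.baseChange P) := by
  have := LinearMap.lTensor_surjective P hp
  rw [LinearMap.baseChange_eq_ltensor]
  exact this

include hex hi hp in
lemma torZ_one_baseChange (h : TorZ R 1 M N) : TorZ P 1 M (P ⊗[R] N) := by
  have h1 := (tor_one_subsingleton_iff M i p hex hi hp).mp h
  exact (tor_one_subsingleton_iff M (i.baseChange P) (p.baseChange P)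
    (exact_baseChange i p hex hp) (injective_baseChange i hi) (surjective_baseChange p hp)).mpr
      ((injective_lTensor_baseChange_iff i).mpr h1)

include hex hi hp in
lemma torZ_shift_baseChange (n : ℕ) (h : TorZ P (n + 1) M (P ⊗[R] K)) :
    TorZ P (n + 2) M (P ⊗[R] N) := by
  obtain ⟨e⟩ := nonempty_tor_shift M (i.baseChange P) (p.baseChange P)
    (exact_baseChange i p hex hp) (injective_baseChange i hi) (surjective_baseChange p hp) n
  unfold TorZ at h ⊢
  exact e.toEquiv.subsingleton

include hex hi hp in
lemma torZ_shift (n : ℕ) (h : TorZ R (n + 2) M N) : TorZ R (n + 1) M K := by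
  obtain ⟨e⟩ := nonempty_tor_shift M i p hex hi hp n
  unfold TorZ at h ⊢
  exact e.symm.toEquiv.subsingleton

end step

lemma torZ_baseChange : ∀ (n : ℕ) (N : Type u) [AddCommGroup N] [Module R N],
    (∀ k, TorZ R (k + 1) M N) → TorZ P (n + 1) M (P ⊗[R] N) := by
  intro n
  induction n with
  | zero =>
    intro N _ _ hN
    let p : (N →₀ R) →ₗ[R] N := Finsupp.linearCombination R (id : N → N)
    have hp : Function.Surjective p := Finsupp.linearCombination_id_surjective R N
    let K : Submodule R (N →₀ R) := LinearMap.ker p
    have hex : Function.Exact K.subtype p := LinearMap.exact_subtype_ker_map p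
    have hi : Function.Injective K.subtype := Submodule.subtype_injective _
    exact torZ_one_baseChange (K := K) (F := N →₀ R) (N := N) K.subtype p hex hi hp (hN 0)
  | succ n ih =>
    intro N _ _ hN
    let p : (N →₀ R) →ₗ[R] N := Finsupp.linearCombination R (id : N → N)
    have hp : Function.Surjective p := Finsupp.linearCombination_id_surjective R N
    let K : Submodule R (N →₀ R) := LinearMap.ker p
    have hex : Function.Exact K.subtype p := LinearMap.exact_subtype_ker_map p
    have hi : Function.Injective K.subtype := Submodule.subtype_injective _
    have hK : ∀ k, TorZ R (k + 1) M K := fun k =>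
      torZ_shift (K := K) (F := N →₀ R) (N := N) K.subtype p hex hi hp k (hN (k + 1))
    exact torZ_shift_baseChange (K := K) (F := N →₀ R) (N := N) K.subtype p hex hi hp n (ih K hK)

end tor

end Rpc
end Groth.Agent.Lib.Helper18.DR
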