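import Mathlib
import Groth.Prelude.Def_DerCA
import Groth.Agent.Lib.Helper18.RpcA
import Groth.Agent.Lib.Helper18.FbcD
import Groth.Agent.Lib.Helper18.OmLBC
import Groth.Agent.Lib.Helper18.DRLBC
import Groth.Agent.Lib.Helper18.LBCAdj

/-!
# Relative pseudo-coherence and tor-independent base change (helper18)
-/

set_option autoImplicit false
set_option linter.style.haveILetI false
universe u
open CategoryTheory CategoryTheory.Limits TensorProduct
open Groth.Agent.Lib.Helper14.TorKer

attribute [local instance] HasDerivedCategory.standard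

namespace Groth.Agent.Lib.Helper18.DR
namespace Rpc

section core

variable {P A P' A' : Type u} [CommRing P] [CommRing A] [CommRing P'] [CommRing A']
  [Algebra P A] [Algebra P P'] [Algebra A A'] [Algebra P' A'] [Algebra P A']
  [IsScalarTower P A A'] [IsScalarTower P P' A'] [Algebra.IsPushout P A P' A']
  (htor : ∀ p : ℕ, 1 ≤ p → Subsingleton (DRing.Tor P p A P'))
  [DRing.HasLBaseChange (algebraMap A A')]

include htor in
theorem core (K : Dual.D A) (m : ℤ)
    (hK : DRing.IsPseudoCoherent P m ((DRing.restrictD (algebraMap P A)).obj K)) :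
    DRing.IsPseudoCoherent P' m ((DRing.restrictD (algebraMap P' A')).obj
      ((DRing.LBaseChange (algebraMap A A')).obj K)) := by
  haveI : DRing.HasLBaseChange (algebraMap P P') := Om.hasLBaseChange _
  let adjρ := LBCAdj.adjD (algebraMap P P')
  let adjα := LBCAdj.adjD (algebraMap A A')
  have h : (algebraMap A A').comp (algebraMap P A) =
      (algebraMap P' A').comp (algebraMap P P') := by
    rw [← IsScalarTower.algebraMap_eq, ← IsScalarTower.algebraMap_eq]
  haveI := Tbc.isIso_cmp htor adjρ adjα h K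
  exact isPseudoCoherent_of_iso (asIso (TrivBC.cmp adjρ adjα h K))
    (isPseudoCoherent_LBaseChange _ _ m hK)

end core

section specific

attribute [local instance] Algebra.TensorProduct.rightAlgebra MvPolynomial.algebraMvPolynomial

variable {R A R' : Type u} [CommRing R] [CommRing A] [CommRing R'] [Algebra R A] [Algebra R R']
  (htor : ∀ p : ℕ, 0 < p → Subsingleton (DRing.Tor R p A R'))
  [DRing.HasLBaseChange (Algebra.TensorProduct.includeRight : A →ₐ[R] R' ⊗[R] A).toRingHom]

include htor in
theorem via (n : ℕ) (ψ : MvPolynomial (Fin n) R →ₐ[R] A) (K : Dual.D A) (m : ℤ)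
    (hK : DerCA.IsRelPseudoCoherentVia ψ m K) :
    DerCA.IsRelPseudoCoherentVia (Shr.psiBC R R' A n ψ) m
      ((DRing.LBaseChange
        (Algebra.TensorProduct.includeRight : A →ₐ[R] R' ⊗[R] A).toRingHom).obj K) := by
  letI algPA : Algebra (MvPolynomial (Fin n) R) A := ψ.toRingHom.toAlgebra
  letI algP'A' : Algebra (MvPolynomial (Fin n) R') (R' ⊗[R] A) :=
    (Shr.psiBC R R' A n ψ).toRingHom.toAlgebra
  letI algPA' : Algebra (MvPolynomial (Fin n) R) (R' ⊗[R] A) :=
    ((algebraMap A (R' ⊗[R] A)).comp (algebraMap (MvPolynomial (Fin n) R) A)).toAlgebra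
  haveI t1 : IsScalarTower (MvPolynomial (Fin n) R) A (R' ⊗[R] A) :=
    IsScalarTower.of_algebraMap_eq (fun _ => rfl)
  haveI t2 : IsScalarTower (MvPolynomial (Fin n) R) (MvPolynomial (Fin n) R') (R' ⊗[R] A) :=
    IsScalarTower.of_algebraMap_eq (fun p => (Shr.psiBC_map R R' A n ψ p).symm)
  haveI t3 : IsScalarTower R (MvPolynomial (Fin n) R) A :=
    IsScalarTower.of_algebraMap_eq (fun r => (ψ.commutes r).symm)
  haveI t4 : IsScalarTower R' (MvPolynomial (Fin n) R') (R' ⊗[R] A) :=
    IsScalarTower.of_algebraMap_eq (fun r => ((Shr.psiBC R R' A n ψ).commutes r).symm)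
  haveI t5 : IsScalarTower R (MvPolynomial (Fin n) R') (R' ⊗[R] A) :=
    IsScalarTower.of_algebraMap_eq (fun r => by
      rw [IsScalarTower.algebraMap_apply R R' (R' ⊗[R] A),
        IsScalarTower.algebraMap_apply R R' (MvPolynomial (Fin n) R'),
        ← IsScalarTower.algebraMap_apply R' (MvPolynomial (Fin n) R') (R' ⊗[R] A)])
  haveI hpo : Algebra.IsPushout (MvPolynomial (Fin n) R) A (MvPolynomial (Fin n) R')
      (R' ⊗[R] A) :=
    (Algebra.IsPushout.comp_iff R (MvPolynomial (Fin n) R) R' (MvPolynomial (Fin n) R')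
      (T := A) (T' := R' ⊗[R] A)).1 inferInstance
  haveI hLA : DRing.HasLBaseChange (algebraMap A (R' ⊗[R] A)) :=
    inferInstanceAs (DRing.HasLBaseChange
      (Algebra.TensorProduct.includeRight : A →ₐ[R] R' ⊗[R] A).toRingHom)
  -- Tor vanishing over the polynomial ring
  have htorP : ∀ p : ℕ, 1 ≤ p →
      Subsingleton (DRing.Tor (MvPolynomial (Fin n) R) p A (MvPolynomial (Fin n) R')) := by
    intro p hp
    obtain ⟨k, rfl⟩ : ∃ k, p = k + 1 := ⟨p - 1, by omega⟩
    have h1 : TorZ (MvPolynomial (Fin n) R) (k + 1) A (MvPolynomial (Fin n) R ⊗[R] R') :=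
      torZ_baseChange (R := R) (P := MvPolynomial (Fin n) R) (M := A) k R'
        (fun j => htor (j + 1) (Nat.succ_pos j))
    have e : (MvPolynomial (Fin n) R ⊗[R] R') ≃ₗ[MvPolynomial (Fin n) R]
        MvPolynomial (Fin n) R' :=
      (Algebra.IsPushout.equiv R (MvPolynomial (Fin n) R) R'
        (MvPolynomial (Fin n) R')).toLinearEquiv
    exact torZ_of_equiv_right e h1
  exact core (P := MvPolynomial (Fin n) R) (A := A) (P' := MvPolynomial (Fin n) R')
    (A' := R' ⊗[R] A) htorP K m hK

end specific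

end Rpc
end Groth.Agent.Lib.Helper18.DR
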