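import Mathlib
import Groth.Agent.Lib.Helper18.DRNoeth
import Groth.Agent.Lib.Helper18.DRSum

/-!
# A devissage for pseudo-coherence along a resolution of a pseudo-coherent module (helper18)

`Φ : Mod T ⥤ D(S)` turning short exact sequences into distinguished triangles, with `Φ N`
cohomologically `≤ b` for all `N` and `Φ T` `m`-pseudo-coherent: then `Φ N` is
`m`-pseudo-coherent for every pseudo-coherent `T`-module `N`.
-/

set_option autoImplicit false
set_option linter.style.haveILetI false
universe u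
open CategoryTheory CategoryTheory.Limits CategoryTheory.Pretriangulated DerivedCategory

attribute [local instance] HasDerivedCategory.standard

namespace Groth.Agent.Lib.Helper18.DR
namespace Rpc

section dev

variable {S T : Type u} [CommRing S] [CommRing T] (Φ : ModuleCat.{u} T ⥤ Dual.D S)
  [Φ.PreservesZeroMorphisms]
  (htri : ∀ (X : ShortComplex (ModuleCat.{u} T)), X.ShortExact →
    ∃ (δ : Φ.obj X.X₃ ⟶ (Φ.obj X.X₁)⟦(1 : ℤ)⟧),
      Triangle.mk (Φ.map X.f) (Φ.map X.g) δ ∈ distTriang (Dual.D S))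
  (b : ℤ) (hle : ∀ N, (Φ.obj N).IsLE b)
  (m : ℤ) (hunit : DRing.IsPseudoCoherent S m (Φ.obj (ModuleCat.of T T)))

include htri hunit in
lemma dev_free (r : ℕ) : DRing.IsPseudoCoherent S m (Φ.obj (ModuleCat.of T (Fin r → T))) := by
  induction r with
  | zero =>
    have hz : IsZero (ModuleCat.of T (Fin 0 → T)) :=
      ModuleCat.isZero_of_subsingleton _
    exact isPseudoCoherent_of_isZero _ (Φ.map_isZero hz) m
  | succ r ih =>
    obtain ⟨δ, hδ⟩ := htri _ (prodSC'_shortExact (R := T) T (Fin r → T))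
    have h2 := (isPseudoCoherent_triangle _ hδ m).2.1 hunit ih
    let e : (T × (Fin r → T)) ≃ₗ[T] (Fin (r + 1) → T) := Fin.consLinearEquiv T (fun _ => T)
    exact isPseudoCoherent_of_iso (Φ.mapIso e.toModuleIso) h2

/-- modules `N` such that `N[0]` is `j`-pseudo-coherent for all `j` -/
def PCMod (N : ModuleCat.{u} T) : Prop := ∀ j : ℤ, DRing.IsPseudoCoherent T j (Sg 0 N)

lemma PCMod.exists_ker {N : ModuleCat.{u} T} (hN : PCMod N) :
    ∃ (r : ℕ) (f : (Fin r → T) →ₗ[T] N), Function.Surjective f ∧
      PCMod (ModuleCat.of T (LinearMap.ker f)) := by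
  haveI : Module.Finite T N := finite_of_isPseudoCoherentModule N (hN 0)
  obtain ⟨r, f, hf⟩ := Module.Finite.exists_fin' T N
  refine ⟨r, f, hf, fun j => ?_⟩
  have hT := (kerSC_shortExact f hf).singleTriangle_distinguished
  have := (isPseudoCoherent_triangle _ hT (j - 1)).2.2
    (by
      have := isPseudoCoherent_Sg 0 (ModuleCat.of T (Fin r → T)) (j - 1 + 1)
      exact this)
    (hN (j - 1))
  have e : j - 1 + 1 = j := by omega
  rw [e] at this
  exact this

include htri hle hunit in
lemma dev_aux : ∀ (d : ℕ) (N : ModuleCat.{u} T), PCMod N → m ≤ b + 1 - d →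
    DRing.IsPseudoCoherent S (b + 1 - d) (Φ.obj N) := by
  intro d
  induction d with
  | zero =>
    intro N _ _
    haveI := hle N
    exact isPseudoCoherent_of_isLE _ b _ (by simp)
  | succ d ih =>
    intro N hN hm
    obtain ⟨r, f, hf, hZ⟩ := hN.exists_ker
    obtain ⟨δ, hδ⟩ := htri _ (kerSC_shortExact f hf)
    have h1 : DRing.IsPseudoCoherent S (b + 1 - d) (Φ.obj (ModuleCat.of T (LinearMap.ker f))) :=
      ih _ hZ (by push_cast at hm; omega)
    have h2 : DRing.IsPseudoCoherent S (b + 1 - (d + 1 : ℕ)) (Φ.obj (ModuleCat.of T (Fin r → T))) :=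
      isPseudoCoherent_mono hm (dev_free Φ htri m hunit r)
    have e : b + 1 - ((d + 1 : ℕ) : ℤ) + 1 = b + 1 - d := by push_cast; omega
    exact (isPseudoCoherent_triangle _ hδ (b + 1 - (d + 1 : ℕ))).1 (by rw [e]; exact h1) h2

include htri hle hunit in
theorem dev (N : ModuleCat.{u} T) (hN : PCMod N) : DRing.IsPseudoCoherent S m (Φ.obj N) := by
  by_cases h : m ≤ b + 1
  · have := dev_aux Φ htri b hle m hunit (b + 1 - m).toNat N hN (by omega)
    have e : b + 1 - ((b + 1 - m).toNat : ℤ) = m := by omega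
    rw [e] at this
    exact this
  · haveI := hle N
    exact isPseudoCoherent_of_isLE _ b _ (by omega)

end dev

end Rpc
end Groth.Agent.Lib.Helper18.DR
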