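import Mathlib
import Groth.Agent.Lib.Helper18.RpcC
import Groth.Agent.Lib.Helper18.TbcB
import Groth.Agent.Lib.Helper18.DRRel1

/-!
# Tensoring a module with a fixed complex (helper18)
-/

set_option autoImplicit false
set_option linter.style.haveILetI false
universe u
open CategoryTheory CategoryTheory.Limits CategoryTheory.Pretriangulated DerivedCategory
open MonoidalCategory

attribute [local instance] HasDerivedCategory.standard

namespace Groth.Agent.Lib.Helper18.DR
namespace Rpc

section tens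

variable {T : Type u} [CommRing T] (G : DRing.Cx T)

/-- `N ↦ N ⊗ G` -/
noncomputable def tens : ModuleCat.{u} T ⥤ DRing.Cx T where
  obj N := ((tensorLeft N).mapHomologicalComplex (ComplexShape.up ℤ)).obj G
  map f := (NatTrans.mapHomologicalComplex ((curriedTensor (ModuleCat.{u} T)).map f)
    (ComplexShape.up ℤ)).app G
  map_id N := by
    ext i : 2
    simp
  map_comp f g := by
    ext i : 2
    simp

@[simp] lemma tens_obj_X (N : ModuleCat.{u} T) (i : ℤ) : ((tens G).obj N).X i = N ⊗ G.X i := rfl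

@[simp] lemma tens_obj_d (N : ModuleCat.{u} T) (i j : ℤ) :
    ((tens G).obj N).d i j = N ◁ G.d i j := rfl

@[simp] lemma tens_map_f {N N' : ModuleCat.{u} T} (f : N ⟶ N') (i : ℤ) :
    ((tens G).map f).f i = f ▷ G.X i := rfl

instance : (tens G).Additive where
  map_add {N N' f g} := by
    apply HomologicalComplex.hom_ext
    intro i
    exact MonoidalPreadditive.add_whiskerRight _ _

end tens

section psi

variable {S T : Type u} [CommRing S] [CommRing T] (σ : S →+* T) (G : DRing.Cx T)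

/-- `N ↦ (N ⊗ G)|_S` -/
noncomputable abbrev Psi : ModuleCat.{u} T ⥤ DRing.Cx S := tens G ⋙ Tbc.Scx σ

/-- `N ↦ (N ⊗ G)|_S` in the derived category -/
noncomputable abbrev Phi : ModuleCat.{u} T ⥤ Dual.D S := Psi σ G ⋙ DerivedCategory.Q

lemma shortExact_map_Psi (hG : ∀ i, Module.Flat T (G.X i)) (X : ShortComplex (ModuleCat.{u} T))
    (hX : X.ShortExact) : (X.map (Psi σ G)).ShortExact := by
  apply HomologicalComplex.shortExact_of_degreewise_shortExact
  intro i
  haveI := hG i
  exact (hX.map_of_exact (tensorRight (G.X i))).map_of_exact (ModuleCat.restrictScalars.{u} σ)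

lemma Phi_tri (hG : ∀ i, Module.Flat T (G.X i)) (X : ShortComplex (ModuleCat.{u} T))
    (hX : X.ShortExact) :
    ∃ (δ : (Phi σ G).obj X.X₃ ⟶ ((Phi σ G).obj X.X₁)⟦(1 : ℤ)⟧),
      Triangle.mk ((Phi σ G).map X.f) ((Phi σ G).map X.g) δ ∈ distTriang (Dual.D S) :=
  ⟨_, DerivedCategory.triangleOfSES_distinguished (shortExact_map_Psi σ G hG X hX)⟩

lemma Phi_isLE (b : ℤ) (hb : DRing.VanishesAbove G b) (N : ModuleCat.{u} T) :
    ((Phi σ G).obj N).IsLE b := by
  have hv : DRing.VanishesAbove ((Psi σ G).obj N) b := fun i hi =>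
    (ModuleCat.restrictScalars.{u} σ).map_isZero ((tensorLeft N).map_isZero (hb i hi))
  haveI := isStrictlyLE_of_vanishesAbove _ b hv
  change (DerivedCategory.Q.obj ((Psi σ G).obj N)).IsLE b
  infer_instance

/-- `T ⊗ G ≅ G` -/
noncomputable def tensUnitIso : (tens G).obj (ModuleCat.of T T) ≅ G :=
  HomologicalComplex.Hom.isoOfComponents (fun i => λ_ (G.X i))
    (fun i j _ => (leftUnitor_naturality (G.d i j)).symm)

/-- `Φ(T) ≅ G|_S` -/
noncomputable def PhiUnitIso :
    (Phi σ G).obj (ModuleCat.of T T) ≅ (DRing.restrictD σ).obj (DerivedCategory.Q.obj G) :=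
  DerivedCategory.Q.mapIso ((Tbc.Scx σ).mapIso (tensUnitIso G)) ≪≫ (Tbc.facS σ).app G

end psi

section resExt

variable {T B : Type u} [CommRing T] [CommRing B] (β : T →+* B)

/-- `(B ⊗_T M)|_T ≃ B|_T ⊗_T M` -/
noncomputable def resExtEquiv (M : ModuleCat.{u} T) :
    ((ModuleCat.restrictScalars.{u} β).obj ((ModuleCat.extendScalars.{u, u, u} β).obj M)) ≃ₗ[T]
      (((ModuleCat.restrictScalars.{u} β).obj (ModuleCat.of B B)) ⊗ M : ModuleCat.{u} T) :=
  { toFun := fun x => x
    invFun := fun x => x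
    map_add' := fun _ _ => rfl
    map_smul' := fun _ _ => rfl
    left_inv := fun _ => rfl
    right_inv := fun _ => rfl }

/-- `(B ⊗_T G)|_T ≅ B|_T ⊗_T G` for complexes -/
noncomputable def resExtCxIso (G : DRing.Cx T) :
    (Tbc.Scx β).obj ((Tbc.Ecx β).obj G) ≅
      (tens G).obj ((ModuleCat.restrictScalars.{u} β).obj (ModuleCat.of B B)) :=
  HomologicalComplex.Hom.isoOfComponents (fun i => (resExtEquiv β (G.X i)).toModuleIso)
    (fun i j _ => by
      ext x
      rfl)

end resExt

section step3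

variable {S T B : Type u} [CommRing S] [CommRing T] [CommRing B] (σ : S →+* T) (β : T →+* B)
  [DRing.HasLBaseChange β] (G : DRing.Cx T) [G.IsKProjective]

/-- `(L_β G)|_S ≅ Φ(B|_T)` -/
noncomputable def PhiBaseIso :
    (DRing.restrictD (β.comp σ)).obj ((DRing.LBaseChange β).obj (DerivedCategory.Q.obj G)) ≅
      (Phi σ G).obj ((ModuleCat.restrictScalars.{u} β).obj (ModuleCat.of B B)) :=
  haveI := Tbc.isIso_γ_app β G
  restrictDCompIso σ β _ ≪≫
    (DRing.restrictD σ).mapIso ((DRing.restrictD β).mapIso (asIso ((Tbc.γ β).app G))) ≪≫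
    (DRing.restrictD σ).mapIso ((Tbc.facS β).symm.app ((Tbc.Ecx β).obj G)) ≪≫
    (DRing.restrictD σ).mapIso (DerivedCategory.Q.mapIso (resExtCxIso β G)) ≪≫
    (Tbc.facS σ).symm.app _

theorem step3 (hG : ∀ i, Module.Flat T (G.X i)) (b : ℤ) (hb : DRing.VanishesAbove G b) (m : ℤ)
    (h0 : DRing.IsPseudoCoherent S m ((DRing.restrictD σ).obj (DerivedCategory.Q.obj G)))
    (hβ : PCHom β) :
    DRing.IsPseudoCoherent S m
      ((DRing.restrictD (β.comp σ)).obj ((DRing.LBaseChange β).obj (DerivedCategory.Q.obj G))) := by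
  refine isPseudoCoherent_of_iso (PhiBaseIso σ β G).symm ?_
  exact dev (Phi σ G) (Phi_tri σ G hG) b (Phi_isLE σ G b hb) m
    (isPseudoCoherent_of_iso (PhiUnitIso σ G).symm h0) _ hβ

end step3

end Rpc
end Groth.Agent.Lib.Helper18.DR
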