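import Mathlib
import Groth.Agent.Lib.Helper18.RpcB
import Groth.Agent.Lib.Helper18.RpcD
import Groth.Agent.Lib.Helper18.DRRel7
import Groth.Agent.Lib.Helper18.KProjD

/-!
# Relative pseudo-coherence under base change along a relatively pseudo-coherent algebra (helper18)
-/

set_option autoImplicit false
set_option linter.style.haveILetI false
universe u
open CategoryTheory CategoryTheory.Limits CategoryTheory.Pretriangulated DerivedCategory
open MonoidalCategory
open Groth.Agent.Lib.Helper14.TorKer

attribute [local instance] HasDerivedCategory.standard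

namespace Groth.Agent.Lib.Helper18.DR
namespace Rpc

section assemble

attribute [local instance] MvPolynomial.algebraMvPolynomial

variable {R A B : Type u} [CommRing R] [CommRing A] [CommRing B] [Algebra R A] [Algebra A B]
  [DRing.HasLBaseChange (algebraMap A B)]

theorem viaComp (n k : ℕ) (α : MvPolynomial (Fin n) R →ₐ[R] A)
    (β : MvPolynomial (Fin k) A →ₐ[A] B) (hβ : PCHom (β : MvPolynomial (Fin k) A →+* B))
    (K : Dual.D A) (m : ℤ) (hK : DerCA.IsRelPseudoCoherentVia α m K) :
    DRing.IsPseudoCoherent (MvPolynomial (Fin k) (MvPolynomial (Fin n) R)) m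
      ((DRing.restrictD ((β : MvPolynomial (Fin k) A →+* B).comp
          (MvPolynomial.map (α : MvPolynomial (Fin n) R →+* A)))).obj
        ((DRing.LBaseChange (algebraMap A B)).obj K)) := by
  letI algPA : Algebra (MvPolynomial (Fin n) R) A := α.toRingHom.toAlgebra
  haveI : DRing.HasLBaseChange (algebraMap A (MvPolynomial (Fin k) A)) := Om.hasLBaseChange _
  haveI : DRing.HasLBaseChange (β : MvPolynomial (Fin k) A →+* B) := Om.hasLBaseChange _
  have htor : ∀ p : ℕ, 1 ≤ p → Subsingleton (DRing.Tor (MvPolynomial (Fin n) R) p A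
      (MvPolynomial (Fin k) (MvPolynomial (Fin n) R))) := fun p hp => by
    obtain ⟨j, rfl⟩ : ∃ j, p = j + 1 := ⟨p - 1, by omega⟩
    exact torZ_of_flat_right j
  have h1 := core (P := MvPolynomial (Fin n) R) (A := A)
    (P' := MvPolynomial (Fin k) (MvPolynomial (Fin n) R)) (A' := MvPolynomial (Fin k) A)
    htor K m hK
  obtain ⟨b, hb⟩ := exists_isLE_of_isPseudoCoherent hK
  haveI : K.IsLE b := isLE_of_restrictD _ K b hb
  obtain ⟨G₀, hG₀b, hG₀free, ⟨eG₀⟩⟩ := exists_free_resolution K b
  have hG₀proj : ∀ i, Module.Projective A (G₀.X i) := fun i => by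
    haveI := hG₀free i
    exact Module.Projective.of_free
  haveI : G₀.IsKProjective := isKProjective_of_vanishesAbove G₀ b hG₀b hG₀proj
  let ι : A →+* MvPolynomial (Fin k) A := algebraMap A (MvPolynomial (Fin k) A)
  let G : DRing.Cx (MvPolynomial (Fin k) A) := (Tbc.Ecx ι).obj G₀
  haveI : G.IsKProjective := isKProjective_extendScalars ι G₀
  have hGflat : ∀ i, Module.Flat (MvPolynomial (Fin k) A) (G.X i) := fun i => by
    haveI := hG₀free i
    haveI : Module.Free (MvPolynomial (Fin k) A)
        ((extM (A := A) (B := MvPolynomial (Fin k) A)).obj (G₀.X i)) := free_extM _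
    exact inferInstanceAs (Module.Flat (MvPolynomial (Fin k) A)
      ((extM (A := A) (B := MvPolynomial (Fin k) A)).obj (G₀.X i)))
  have hGb : DRing.VanishesAbove G b := fun i hi =>
    (ModuleCat.extendScalars.{u, u, u} ι).map_isZero (hG₀b i hi)
  haveI := Tbc.isIso_γ_app ι G₀
  let e1 : (DRing.LBaseChange ι).obj K ≅ DerivedCategory.Q.obj G :=
    (DRing.LBaseChange ι).mapIso eG₀.symm ≪≫ asIso ((Tbc.γ ι).app G₀)
  have h0 := isPseudoCoherent_of_iso ((DRing.restrictD
    (MvPolynomial.map (α : MvPolynomial (Fin n) R →+* A))).mapIso e1) h1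
  have h3 := step3 (MvPolynomial.map (α : MvPolynomial (Fin n) R →+* A))
    (β : MvPolynomial (Fin k) A →+* B) G hGflat b hGb m h0 hβ
  -- composition of base changes
  have hcomp : algebraMap A B = (β : MvPolynomial (Fin k) A →+* B).comp ι := β.comp_algebraMap.symm
  let eF : ModuleCat.extendScalars.{u, u, u} (algebraMap A B) ≅
      ModuleCat.extendScalars.{u, u, u} ι ⋙
        ModuleCat.extendScalars.{u, u, u} (β : MvPolynomial (Fin k) A →+* B) :=
    eqToIso (by rw [hcomp]) ≪≫ ModuleCat.extendScalarsComp ι _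
  let eC : (Tbc.Ecx (algebraMap A B)).obj G₀ ≅
      (Tbc.Ecx (β : MvPolynomial (Fin k) A →+* B)).obj G :=
    HomologicalComplex.Hom.isoOfComponents (fun i => eF.app (G₀.X i))
      (fun i j _ => (eF.hom.naturality (G₀.d i j)).symm)
  haveI := Tbc.isIso_γ_app (algebraMap A B) G₀
  haveI := Tbc.isIso_γ_app (β : MvPolynomial (Fin k) A →+* B) G
  let e2 : (DRing.LBaseChange (algebraMap A B)).obj K ≅
      (DRing.LBaseChange (β : MvPolynomial (Fin k) A →+* B)).obj (DerivedCategory.Q.obj G) :=
    (DRing.LBaseChange (algebraMap A B)).mapIso eG₀.symm ≪≫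
      asIso ((Tbc.γ (algebraMap A B)).app G₀) ≪≫ DerivedCategory.Q.mapIso eC ≪≫
      (asIso ((Tbc.γ (β : MvPolynomial (Fin k) A →+* B)).app G)).symm
  exact isPseudoCoherent_of_iso ((DRing.restrictD _).mapIso e2.symm) h3

end assemble

section final

variable {R A B : Type u} [CommRing R] [CommRing A] [CommRing B] [Algebra R A] [Algebra A B]
  [Algebra R B] [IsScalarTower R A B]

/-- S6986 -/
theorem relPC_LBaseChange [Algebra.FiniteType R A] [Algebra.FiniteType A B]
    (hB : DerCA.IsRelPseudoCoherentModuleAll A B B)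
    [DRing.HasLBaseChange (algebraMap A B)] (K : Dual.D A) (m : ℤ) :
    (DerCA.IsRelPseudoCoherent R A m K →
      DerCA.IsRelPseudoCoherent R B m ((DRing.LBaseChange (algebraMap A B)).obj K)) ∧
      (DerCA.IsRelPseudoCoherentAll R A K →
        DerCA.IsRelPseudoCoherentAll R B ((DRing.LBaseChange (algebraMap A B)).obj K)) := by
  obtain ⟨n, α, hα⟩ := exists_presentation (R := R) (A := A)
  obtain ⟨k, β, hβ⟩ := exists_presentation (R := A) (A := B)
  have hPβ : PCHom (β : MvPolynomial (Fin k) A →+* B) := fun m' =>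
    (relPCModule_iff_via β hβ m' (ModuleCat.of B B)).1 (hB m')
  let e := mvSumEquiv (R := R) k n
  let γ : MvPolynomial (Fin (k + n)) R →ₐ[R] B :=
    ((β.restrictScalars R).comp (MvPolynomial.mapAlgHom α)).comp e.toAlgHom
  have hγ : Function.Surjective γ := by
    refine (hβ.comp ?_).comp e.surjective
    exact MvPolynomial.map_surjective _ hα
  have key : ∀ m' : ℤ, DerCA.IsRelPseudoCoherent R A m' K →
      DerCA.IsRelPseudoCoherent R B m' ((DRing.LBaseChange (algebraMap A B)).obj K) := by
    intro m' h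
    rw [relPC_iff_via α hα] at h
    rw [relPC_iff_via γ hγ]
    have h2 := viaComp n k α β hPβ K m' h
    rw [(PCHom.of_ringEquiv e.toRingEquiv).isPseudoCoherent_iff _ _ m'] at h2
    exact h2
  exact ⟨key m, fun hall m' => key m' (hall m')⟩

end final

end Rpc
end Groth.Agent.Lib.Helper18.DR
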