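import Mathlib
import Groth.Agent.Lib.Helper18.RpcE
import Groth.Agent.Lib.Helper18.BCHom6

/-!
# Relative pseudo-coherence of a flat base change of a module (helper18)
-/

set_option autoImplicit false
set_option linter.style.haveILetI false
universe u
open CategoryTheory CategoryTheory.Limits CategoryTheory.Pretriangulated DerivedCategory
open TensorProduct

attribute [local instance] HasDerivedCategory.standard

namespace Groth.Agent.Lib.Helper18.DR
namespace Rpc

section

variable {R A : Type u} [CommRing R] [CommRing A] [Algebra R A]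

lemma relPC_of_iso {K L : Dual.D A} (e : K ≅ L) {m : ℤ} (h : DerCA.IsRelPseudoCoherent R A m K) :
    DerCA.IsRelPseudoCoherent R A m L := by
  obtain ⟨n, α, hα, h⟩ := h
  exact ⟨n, α, hα, isPseudoCoherent_of_iso ((DRing.restrictD _).mapIso e) h⟩

end

section final

variable {R A B : Type u} [CommRing R] [CommRing A] [CommRing B] [Algebra R A] [Algebra A B]
  [Algebra R B] [IsScalarTower R A B]

/-- S7025 -/
theorem relPCModule_baseChange_of_flat [Algebra.FiniteType R A] [Algebra.FiniteType A B]
    [Module.Flat A B] (hB : DerCA.IsRelPseudoCoherentModuleAll A B B) (m : ℤ) (M : Type u)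
    [AddCommGroup M] [Module A M] :
    (DerCA.IsRelPseudoCoherentModule R A m M →
      DerCA.IsRelPseudoCoherentModule R B m (TensorProduct A B M)) ∧
      (DerCA.IsRelPseudoCoherentModuleAll R A M →
        DerCA.IsRelPseudoCoherentModuleAll R B (TensorProduct A B M)) := by
  haveI : DRing.HasLBaseChange (algebraMap A B) := Om.hasLBaseChange _
  obtain ⟨e⟩ := HomBC.nonempty_LBaseChange_iso_extD (A := A) (B := B) (Dual.inD A M)
  have key : ∀ m' : ℤ, DerCA.IsRelPseudoCoherentModule R A m' M →
      DerCA.IsRelPseudoCoherentModule R B m' (TensorProduct A B M) := fun m' h =>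
    relPC_of_iso (e ≪≫ extDInDIso M) ((relPC_LBaseChange hB (Dual.inD A M) m').1 h)
  exact ⟨key m, fun hall m' => key m' (hall m')⟩

end final

end Rpc
end Groth.Agent.Lib.Helper18.DR
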