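import Mathlib
import Groth.Agent.Lib.Helper18.ShOmA

/-!
# `H^0(φ^! A) ≅ ω_{B/A}` for a quasi-finite map factored as finite followed by open immersion
(helper18)
-/

set_option autoImplicit false
set_option linter.style.haveILetI false
universe u
open CategoryTheory CategoryTheory.Limits CategoryTheory.Pretriangulated DerivedCategory
open TensorProduct AlgebraicGeometry

attribute [local instance] HasDerivedCategory.standard

namespace Groth.Agent.Lib.Helper18.DR

namespace ShOm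

open Shr HomBC HomLoc Norm

theorem main (A B B' : Type u) [CommRing A] [CommRing B] [CommRing B'] [IsNoetherianRing A]
    [IsNoetherianRing B] [Algebra A B] [Algebra A B'] [Algebra B' B] [IsScalarTower A B' B]
    [Module.Finite A B']
    (hopen : IsOpenImmersion (Spec.map (CommRingCat.ofHom (algebraMap B' B)))) (n : ℕ)
    (ψ : MvPolynomial (Fin n) A →ₐ[A] B) (hψ : Function.Surjective ψ)
    [DRing.HasLBaseChange (algebraMap A (MvPolynomial (Fin n) A))]
    (Rψ : Dual.D (MvPolynomial (Fin n) A) ⥤ Dual.D B) (adj : DRing.restrictD ψ.toRingHom ⊣ Rψ) :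
    Nonempty (Dual.HD B (Dual2.shriekVia n Rψ (Dual.inD A A)) 0 ≃ₗ[B]
      (B ⊗[B'] Disc.Omega A B')) := by
  haveI : Module.Flat B' B := OpenImm.flat_of_isOpenImmersion B' B hopen
  haveI : Algebra.IsEpi B' B := OpenImm.isEpi_of_isOpenImmersion B' B hopen
  haveI : Algebra.FiniteType A B := Algebra.FiniteType.of_surjective ψ hψ
  haveI : Algebra.FiniteType A B' := inferInstance
  haveI : IsNoetherianRing B' := IsNoetherianRing.of_finite A B'
  haveI : Algebra.FiniteType B' B := Algebra.FiniteType.of_restrictScalars_finiteType A B' B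
  obtain ⟨m, ψ₁, hψ₁⟩ := Algebra.FiniteType.iff_quotient_mvPolynomial''.1
    (inferInstance : Algebra.FiniteType A B')
  obtain ⟨k, χ, hχ⟩ := Algebra.FiniteType.iff_quotient_mvPolynomial''.1
    (inferInstance : Algebra.FiniteType B' B)
  haveI : DRing.HasLBaseChange (algebraMap A (MvPolynomial (Fin m) A)) := Om.hasLBaseChange _
  haveI : DRing.HasLBaseChange (algebraMap B' (MvPolynomial (Fin k) B')) := Om.hasLBaseChange _
  haveI : DRing.HasLBaseChange (algebraMap B' B) := Om.hasLBaseChange _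
  let Rψ₁ := coextD ψ₁.toRingHom
  let adjψ₁ := coextAdj ψ₁.toRingHom
  let Rχ := coextD χ.toRingHom
  let adjχ := coextAdj χ.toRingHom
  let R' := coextD (algebraMap A B')
  let adjR := coextAdj (algebraMap A B')
  have hK : ∀ i : ℤ, i < 0 → Subsingleton (Dual.HD A (Dual.inD A A) i) := fun i hi =>
    ModuleCat.subsingleton_of_isZero (isZero_of_isGE (Dual.inD A A) 0 i hi)
  obtain ⟨e1⟩ := nonempty_shriekVia_comp_iso A B' B m ψ₁ hψ₁ Rψ₁ adjψ₁ k χ Rχ adjχ
    (Dual.inD A A) 0 hK hχ n ψ hψ Rψ adj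
  obtain ⟨e2⟩ := nonempty_shriekVia_iso_rightAdjoint_of_finite A B' m ψ₁ Rψ₁ adjψ₁ R' adjR
    (Dual.inD A A)
  obtain ⟨e3⟩ := OpenImm.nonempty_shriekVia_iso_LBaseChange B' B k χ hχ Rχ adjχ
    (R'.obj (Dual.inD A A))
  obtain ⟨e4⟩ := nonempty_LBaseChange_iso_extD (A := B') (B := B) (R'.obj (Dual.inD A A))
  let F : Dual.D B' ⥤ Dual.D B :=
    DRing.LBaseChange (algebraMap B' (MvPolynomial (Fin k) B')) ⋙ Rχ ⋙
      shiftFunctor (Dual.D B) (k : ℤ)
  let e : Dual2.shriekVia n Rψ (Dual.inD A A) ≅ (extD B' B).obj (R'.obj (Dual.inD A A)) :=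
    e1 ≪≫ F.mapIso e2 ≪≫ e3 ≪≫ e4
  let l1 : Dual.HD B (Dual2.shriekVia n Rψ (Dual.inD A A)) 0 ≃ₗ[B]
      (H B 0).obj ((extD B' B).obj (R'.obj (Dual.inD A A))) :=
    ((H B 0).mapIso e).toLinearEquiv
  let l2 : (H B 0).obj ((extD B' B).obj (R'.obj (Dual.inD A A))) ≃ₗ[B]
      (extM (A := B') (B := B)).obj ((H B' 0).obj (R'.obj (Dual.inD A A))) :=
    (homologyMapDIso (extM (A := B') (B := B)) (R'.obj (Dual.inD A A)) 0).toLinearEquiv
  let l3 := extMEquiv (A := B') (B := B) ((H B' 0).obj (R'.obj (Dual.inD A A)))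
  let l4 : B ⊗[B'] ((H B' 0).obj (R'.obj (Dual.inD A A))) ≃ₗ[B] B ⊗[B'] Disc.Omega A B' :=
    (LinearEquiv.baseChange B' B _ _ (omegaEquiv R' adjR)).symm
  exact ⟨l1.trans (l2.trans (l3.trans l4))⟩

end ShOm

end Groth.Agent.Lib.Helper18.DR
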