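import Mathlib

/-!
# Integration of a first-difference formula (helper18, for helper7's S3321)
-/

set_option autoImplicit false

namespace Groth.Agent.Lib.Helper18.StepSum

open Finset

/-- (B5) integration of a first-difference formula. -/
theorem two_mul_eq_of_step {n : ℕ} (M : Fin n → Fin n → ℤ) (hsymm : ∀ i j, M i j = M j i)
    (c : Fin n → ℤ) (F : (Fin n → ℕ) → ℤ) (h0 : F (fun _ => 0) = 0)
    (hstep : ∀ (a : Fin n → ℕ) (i : Fin n),
      F (fun j => a j + if j = i then 1 else 0) - F a = -(∑ j, (a j : ℤ) * M i j) + c i)
    (a : Fin n → ℕ) :
    2 * F a = ∑ i, (a i : ℤ) * (2 * c i + M i i) - ∑ i, ∑ j, (a i : ℤ) * (a j : ℤ) * M i j := by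
  induction hN : ∑ j, a j using Nat.strong_induction_on generalizing a with
  | _ N ih =>
    by_cases hz : ∀ j, a j = 0
    · have ha : a = fun _ => 0 := funext hz
      subst ha
      simp [h0]
    · push_neg at hz
      obtain ⟨i, hi⟩ := hz
      let a' : Fin n → ℕ := Function.update a i (a i - 1)
      have ha : a = fun j => a' j + if j = i then 1 else 0 := by
        funext j
        by_cases hj : j = i
        · subst hj
          simp only [a', Function.update_self, if_true]
          omega
        · simp [a', hj]
      have hsum : ∑ j, a' j < N := by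
        rw [← hN]
        apply Finset.sum_lt_sum
        · intro j _
          by_cases hj : j = i
          · subst hj
            simp only [a', Function.update_self]
            omega
          · simp [a', Function.update_of_ne hj]
        · refine ⟨i, Finset.mem_univ _, ?_⟩
          simp only [a', Function.update_self]
          omega
      have IH := ih _ hsum a' rfl
      have hs := hstep a' i
      rw [← ha] at hs
      -- the values of `a` in terms of `a'`
      have hcast : ∀ j, (a j : ℤ) = (a' j : ℤ) + if j = i then 1 else 0 := by
        intro j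
        rw [ha]
        push_cast
        split_ifs <;> simp
      have e1 : ∑ p, (a p : ℤ) * (2 * c p + M p p) =
          ∑ p, (a' p : ℤ) * (2 * c p + M p p) + (2 * c i + M i i) := by
        simp only [hcast, add_mul, Finset.sum_add_distrib, ite_mul, one_mul, zero_mul,
          Finset.sum_ite_eq', Finset.mem_univ, if_true]
      have e2 : ∑ p, ∑ q, (a p : ℤ) * (a q : ℤ) * M p q =
          ∑ p, ∑ q, (a' p : ℤ) * (a' q : ℤ) * M p q + 2 * ∑ q, (a' q : ℤ) * M i q + M i i := by
        have h1 : ∀ p q, (a p : ℤ) * (a q : ℤ) * M p q =
            (a' p : ℤ) * (a' q : ℤ) * M p q + (a' p : ℤ) * ((if q = i then 1 else 0) * M p q) +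
              (if p = i then 1 else 0) * ((a' q : ℤ) * M p q) +
              (if p = i then 1 else 0) * ((if q = i then 1 else 0) * M p q) := by
          intro p q
          rw [hcast p, hcast q]
          ring
        have he : ∀ g : Fin n → ℤ, ∑ p, (if p = i then (1 : ℤ) else 0) * g p = g i := by
          intro g
          simp only [ite_mul, one_mul, zero_mul, Finset.sum_ite_eq', Finset.mem_univ, if_true]
        simp only [h1, Finset.sum_add_distrib, ← Finset.mul_sum, he]
        have h2 : ∑ p, (a' p : ℤ) * M p i = ∑ q, (a' q : ℤ) * M i q :=
          Finset.sum_congr rfl (fun p _ => by rw [hsymm p i])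
        rw [h2]
        ring
      rw [e1, e2]
      linarith

end Groth.Agent.Lib.Helper18.StepSum
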