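import Mathlib
import Groth.Prelude.Def_CotT2
import Groth.Agent.Lib.Helper18.CotTCI
import Groth.Agent.Lib.Helper18.CotTInv
import Groth.Agent.Lib.Helper18.CotTEmpty
import Groth.Agent.Lib.Helper18.CotTReg
import Groth.Agent.Lib.Helper4.RegCM

/-!
# Relations among generators of the maximal ideal of a regular local ring

* `mem_trivS_of_local`: in a regular local ring `S`, a relation `∑ fᵢ rᵢ = 0` among generators
  `rᵢ` of the maximal ideal whose coefficients are all in the maximal ideal is a combination of
  Koszul relations.  (Proof: `T²(κ/S, -) = 0` since `𝔪` is generated by a regular sequence, hence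
  `d₂ : L₂ → L₁` is (split) injective.)
* `exists_smul_mem_trivS`: the global version for a ring `R` and a prime `𝔮` with `R_𝔮` regular,
  where the `rᵢ` generate `𝔮` locally at `𝔮`.
-/

set_option autoImplicit false
set_option linter.style.haveILetI false
universe u

open TensorProduct IsLocalRing

namespace Groth.Agent.Lib.Helper18.T2ExtA

open CotT Groth.Agent.Lib.Helper18.CotTApi Groth.Agent.Lib.Helper18.CotTKoszul
  Groth.Agent.Lib.Helper18.CotTCI

section Local

variable (S : Type u) [CommRing S] [IsRegularLocalRing S]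

theorem residue_surj : Function.Surjective (algebraMap S (ResidueField S)) :=
  IsLocalRing.residue_surjective

theorem ker_residue_eq {n : ℕ} (r : Fin n → S)
    (hr : Ideal.span (Set.range r) = maximalIdeal S) :
    RingHom.ker (algebraMap S (ResidueField S)) = Ideal.span (Set.range r) := by
  rw [hr]; exact IsLocalRing.ker_residue

/-- `T²(κ/S, M) = 0` computed from any generating family of the maximal ideal. -/
theorem subsingleton_T2_quotPresFn {n : ℕ} (r : Fin n → S)
    (hr : Ideal.span (Set.range r) = maximalIdeal S) (M : Type u) [AddCommGroup M]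
    [Module (ResidueField S) M] :
    Subsingleton (T2 (quotPresFn (residue_surj S) r (ker_residue_eq S r hr)) M) := by
  obtain ⟨d, hd⟩ := Groth.Agent.Lib.Helper4.RegCM.exists_nat_ringKrullDim S
  obtain ⟨x, hx, hreg⟩ := Groth.Agent.Lib.Helper4.RegCM.exists_regular_system S d hd
  have hI₁ : RingHom.ker (algebraMap S (ResidueField S)) = Ideal.ofList (List.ofFn x) := by
    rw [ofList_ofFn, hx]; exact IsLocalRing.ker_residue
  have hle := Groth.Agent.Lib.Helper18.CotTReg.relKer_le_trivRel_quotPres (residue_surj S)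
    (List.ofFn x) hI₁ hreg.toIsWeaklyRegular
  have h1 : Subsingleton (T2 (Groth.Agent.Lib.Helper18.CotTReg.quotPres (residue_surj S)
      (List.ofFn x) hI₁) M) :=
    Groth.Agent.Lib.Helper18.CotTEmpty.subsingleton_T2_of_relKer_le _ M hle
  exact (Groth.Agent.Lib.Helper18.CotTInv.subsingleton_T2_iff
    (quotPresFn (residue_surj S) r (ker_residue_eq S r hr))
    (Groth.Agent.Lib.Helper18.CotTReg.quotPres (residue_surj S) (List.ofFn x) hI₁) M).2 h1

/-- In a regular local ring, relations among generators of the maximal ideal with coefficients in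
the maximal ideal are trivial. -/
theorem mem_trivS_of_local {n : ℕ} (r : Fin n → S)
    (hr : Ideal.span (Set.range r) = maximalIdeal S) (f : Fin n →₀ S)
    (hf : Finsupp.linearCombination S r f = 0) (hfm : ∀ i, f i ∈ maximalIdeal S) :
    f ∈ trivS r := by
  set hs := residue_surj S
  set hI := ker_residue_eq S r hr
  set P' := quotPresFn hs r hI with hP'
  have hT2 : Subsingleton (T2 P' (L2 P')) := subsingleton_T2_quotPresFn S r hr _
  have h0 : (Submodule.Quotient.mk (LinearMap.id : L2 P' →ₗ[ResidueField S] L2 P') :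
      T2 P' (L2 P')) = 0 := Subsingleton.elim _ _
  obtain ⟨φ, hφ⟩ := (T2_mk_eq_zero_iff P' _).1 h0
  have hφ' : ∀ z, φ (d2 P' z) = z := fun z => LinearMap.congr_fun hφ z
  have hq : liftRel hs r hI f ∈ relKer P' := by
    change jmap P' (liftRel hs r hI f) = 0
    rw [jmap_eq_zero_iff, rho_liftRel]
    exact hf
  have h1 : mkL1 P' (liftRel hs r hI f) = 0 := by
    have h2 := apply_mkL1 P' (LinearMap.id : L1 P' →ₗ[ResidueField S] L1 P')
      (liftRel hs r hI f)
    rw [LinearMap.id_apply] at h2
    rw [h2]
    refine Finset.sum_eq_zero fun s _ => ?_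
    have h3 : algebraMap P'.toExtension.Ring (ResidueField S) (liftRel hs r hI f s) = 0 := by
      rw [liftRel_apply, algebraMap_CQ]
      exact (IsLocalRing.residue_eq_zero_iff _).2 (hfm s)
    simp only [h3, zero_smul]
  have h4 : mkL2 P' ⟨_, hq⟩ = 0 := by
    rw [← hφ' (mkL2 P' ⟨_, hq⟩), d2_mkL2]
    change φ (mkL1 P' (liftRel hs r hI f)) = 0
    rw [h1, map_zero]
  have h5 := (mkL2_eq_zero_iff P' ⟨_, hq⟩).1 h4
  have h6 := rho_mem_trivS hs r hI _ h5
  rw [rho_liftRel] at h6
  exact h6

end Local

section Global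

variable {R : Type u} [CommRing R]

/-- `trivS` of the image family is the localization of `trivS`. -/
theorem trivS_map_le {n : ℕ} (r : Fin n → R) (𝔮 : Ideal R) [𝔮.IsPrime] :
    trivS (fun i => algebraMap R (Localization.AtPrime 𝔮) (r i)) ≤
      (trivS r).localized' (Localization.AtPrime 𝔮) 𝔮.primeCompl
        (Finsupp.mapRange.linearMap (α := Fin n)
          (Algebra.linearMap R (Localization.AtPrime 𝔮))) := by
  unfold trivS
  rw [Submodule.localized'_span]
  refine Submodule.span_mono ?_
  rintro _ ⟨i, j, rfl⟩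
  refine ⟨_, ⟨i, j, rfl⟩, ?_⟩
  rw [map_sub, Finsupp.mapRange.linearMap_apply, Finsupp.mapRange.linearMap_apply,
    Finsupp.mapRange_single, Finsupp.mapRange_single]
  rfl

/-- Global version: if `R_𝔮` is regular local and the `rᵢ ∈ 𝔮` generate `𝔮` locally at `𝔮`, then
every relation among the `rᵢ` with coefficients in `𝔮` becomes trivial after multiplication by
some `u ∉ 𝔮`. -/
theorem exists_smul_mem_trivS {n : ℕ} (r : Fin n → R) (𝔮 : Ideal R) [𝔮.IsPrime]
    [IsRegularLocalRing (Localization.AtPrime 𝔮)]
    (hr𝔮 : ∀ i, r i ∈ 𝔮)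
    (hgen : ∀ y ∈ 𝔮, ∃ u ∉ 𝔮, u * y ∈ Ideal.span (Set.range r))
    (f : Fin n →₀ R) (hf : Finsupp.linearCombination R r f = 0) (hf𝔮 : ∀ i, f i ∈ 𝔮) :
    ∃ u ∉ 𝔮, u • f ∈ trivS r := by
  set S := Localization.AtPrime 𝔮
  set F : (Fin n →₀ R) →ₗ[R] (Fin n →₀ S) :=
    Finsupp.mapRange.linearMap (α := Fin n) (Algebra.linearMap R S) with hF
  set r' : Fin n → S := fun i => algebraMap R S (r i) with hr'
  have hspan : Ideal.span (Set.range r') = maximalIdeal S := by
    apply le_antisymm
    · rw [Ideal.span_le]
      rintro _ ⟨i, rfl⟩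
      rw [SetLike.mem_coe, ← Localization.AtPrime.map_eq_maximalIdeal]
      exact Ideal.mem_map_of_mem _ (hr𝔮 i)
    · rw [← Localization.AtPrime.map_eq_maximalIdeal, Ideal.map_le_iff_le_comap]
      intro y hy
      obtain ⟨u, hu, huy⟩ := hgen y hy
      rw [Ideal.mem_comap]
      have hunit : IsUnit (algebraMap R S u) :=
        IsLocalization.map_units S (⟨u, hu⟩ : 𝔮.primeCompl)
      have h1 : algebraMap R S (u * y) ∈ Ideal.span (Set.range r') := by
        have h2 : Ideal.map (algebraMap R S) (Ideal.span (Set.range r)) ≤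
            Ideal.span (Set.range r') := by
          rw [Ideal.map_span, Ideal.span_le]
          rintro _ ⟨x, ⟨i, rfl⟩, rfl⟩
          exact Ideal.subset_span ⟨i, rfl⟩
        exact h2 (Ideal.mem_map_of_mem _ huy)
      rw [map_mul] at h1
      exact (Ideal.unit_mul_mem_iff_mem _ hunit).1 h1
  have hFf : F f ∈ trivS r' := by
    apply mem_trivS_of_local S r' hspan
    · have h1 : Finsupp.linearCombination S r' (F f) =
          algebraMap R S (Finsupp.linearCombination R r f) := by
        rw [Finsupp.linearCombination_apply, Finsupp.linearCombination_apply, hF,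
          Finsupp.mapRange.linearMap_apply, Finsupp.sum_mapRange_index (fun i => by simp),
          map_finsuppSum]
        refine Finsupp.sum_congr fun i _ => ?_
        simp [hr', Algebra.linearMap_apply]
      rw [h1, hf, map_zero]
    · intro i
      rw [hF, Finsupp.mapRange.linearMap_apply, Finsupp.mapRange_apply,
        ← Localization.AtPrime.map_eq_maximalIdeal]
      exact Ideal.mem_map_of_mem _ (hf𝔮 i)
  have h2 := trivS_map_le r 𝔮 hFf
  rw [Submodule.mem_localized'] at h2
  obtain ⟨m, hm, s, hms⟩ := h2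
  have h3 : F m = F ((s : R) • f) := by
    rw [map_smul]
    exact (IsLocalizedModule.mk'_eq_iff).1 hms
  obtain ⟨c, hc⟩ := (IsLocalizedModule.eq_iff_exists 𝔮.primeCompl F).1 h3
  refine ⟨(c : R) * (s : R), 𝔮.primeCompl.mul_mem c.2 s.2, ?_⟩
  rw [mul_smul]
  have h4 : (c : R) • ((s : R) • f) = (c : R) • m := by
    have := hc.symm
    simpa [Submonoid.smul_def] using this
  rw [h4]
  exact Submodule.smul_mem _ _ hm

end Global

end Groth.Agent.Lib.Helper18.T2ExtA
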