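import Mathlib

/-!
# `Ext¹` from a projective cover

For a surjection `g : L → C` of `B`-modules with `L` projective, `Ext¹_B(C, Y)` is the cokernel of
the restriction map `Hom(L, Y) → Hom(ker g, Y)`, `B`-linearly.
-/

set_option autoImplicit false
set_option linter.style.haveILetI false
universe u

open CategoryTheory Abelian

namespace Groth.Agent.Lib.Helper18.T2ExtB

variable {B : Type u} [CommRing B]
variable {L C : Type u} [AddCommGroup L] [Module B L] [AddCommGroup C] [Module B C]
variable (g : L →ₗ[B] C) (hg : Function.Surjective g)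
variable (Y : Type u) [AddCommGroup Y] [Module B Y]

/-- The short complex `0 → ker g → L → C → 0`. -/
noncomputable def sc : ShortComplex (ModuleCat.{u} B) :=
  ShortComplex.mk (ModuleCat.ofHom (LinearMap.ker g).subtype) (ModuleCat.ofHom g) (by
    ext x
    exact x.2)

include hg in
theorem sc_shortExact : (sc g).ShortExact :=
  { exact := (ShortComplex.ShortExact.moduleCat_exact_iff_function_exact (sc g)).2 (by
      intro y
      constructor
      · intro hy
        exact ⟨⟨y, hy⟩, rfl⟩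
      · rintro ⟨x, rfl⟩
        exact x.2)
    mono_f := (ModuleCat.mono_iff_injective _).2 (Submodule.injective_subtype _)
    epi_g := (ModuleCat.epi_iff_surjective _).2 hg }

/-- The restriction map `Hom(L, Y) → Hom(ker g, Y)`. -/
noncomputable def res : (L →ₗ[B] Y) →ₗ[B] (LinearMap.ker g →ₗ[B] Y) :=
  LinearMap.lcomp B Y (LinearMap.ker g).subtype

/-- The extension class of `0 → ker g → L → C → 0`. -/
noncomputable def extCls : Ext (ModuleCat.of B C) (ModuleCat.of B (LinearMap.ker g)) 1 :=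
  (sc_shortExact g hg).extClass

theorem exact₃ (x₃ : Ext (ModuleCat.of B C) (ModuleCat.of B Y) 1)
    (h : (Ext.mk₀ (ModuleCat.ofHom g)).comp x₃ (zero_add 1) = 0) :
    ∃ x₁ : Ext (ModuleCat.of B (LinearMap.ker g)) (ModuleCat.of B Y) 0,
      (extCls g hg).comp x₁ (add_zero 1) = x₃ :=
  Ext.contravariant_sequence_exact₃ (sc_shortExact g hg) (ModuleCat.of B Y) x₃ h (add_zero 1)

theorem exact₁ (x₁ : Ext (ModuleCat.of B (LinearMap.ker g)) (ModuleCat.of B Y) 0)
    (h : (extCls g hg).comp x₁ (add_zero 1) = 0) :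
    ∃ x₂ : Ext (ModuleCat.of B L) (ModuleCat.of B Y) 0,
      (Ext.mk₀ (ModuleCat.ofHom (LinearMap.ker g).subtype)).comp x₂ (zero_add 0) = x₁ :=
  Ext.contravariant_sequence_exact₁ (sc_shortExact g hg) (ModuleCat.of B Y) x₁ (add_zero 1) h

theorem extCls_comp :
    (extCls g hg).comp (Ext.mk₀ (ModuleCat.ofHom (LinearMap.ker g).subtype)) (add_zero 1) = 0 :=
  (sc_shortExact g hg).extClass_comp

/-- The connecting map `Hom(ker g, Y) → Ext¹(C, Y)`. -/
noncomputable def delta : (LinearMap.ker g →ₗ[B] Y) →ₗ[B]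
    Ext (ModuleCat.of B C) (ModuleCat.of B Y) 1 where
  toFun φ := (extCls g hg).comp (Ext.mk₀ (ModuleCat.ofHom φ)) (add_zero 1)
  map_add' φ ψ := by
    rw [ModuleCat.ofHom_add, Ext.mk₀_add, Ext.comp_add]
  map_smul' b φ := by
    have h1 : ModuleCat.ofHom (b • φ) = b • ModuleCat.ofHom φ := rfl
    rw [h1, Ext.mk₀_smul, Ext.comp_smul, RingHom.id_apply]

variable [Module.Projective B L]

include hg in
theorem delta_surjective : Function.Surjective (delta g hg Y) := by
  intro x₃
  haveI hproj : Projective (ModuleCat.of B L) :=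
    (ModuleCat.of B L).projective_of_categoryTheory_projective
  have h0 : (Ext.mk₀ (ModuleCat.ofHom g)).comp x₃ (zero_add 1) = 0 :=
    Ext.eq_zero_of_projective _
  obtain ⟨x₁, hx₁⟩ := exact₃ g hg Y x₃ h0
  obtain ⟨f, rfl⟩ := (Ext.mk₀_bijective _ _).2 x₁
  refine ⟨f.hom, ?_⟩
  exact hx₁

include hg in
theorem ker_delta : LinearMap.ker (delta g hg Y) = LinearMap.range (res g Y) := by
  ext φ
  rw [LinearMap.mem_ker, LinearMap.mem_range]
  constructor
  · intro h
    obtain ⟨x₂, hx₂⟩ := exact₁ g hg Y (Ext.mk₀ (ModuleCat.ofHom φ)) h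
    obtain ⟨χ, rfl⟩ := (Ext.mk₀_bijective _ _).2 x₂
    rw [Ext.mk₀_comp_mk₀] at hx₂
    have h1 := (Ext.mk₀_bijective _ _).1 hx₂
    refine ⟨χ.hom, ?_⟩
    have h2 := congrArg ModuleCat.Hom.hom h1
    exact h2
  · rintro ⟨χ, rfl⟩
    change (extCls g hg).comp
      (Ext.mk₀ (ModuleCat.ofHom (χ ∘ₗ (LinearMap.ker g).subtype))) (add_zero 1) = 0
    have h1 : ModuleCat.ofHom (χ ∘ₗ (LinearMap.ker g).subtype) =
        ModuleCat.ofHom (LinearMap.ker g).subtype ≫ ModuleCat.ofHom χ := rfl
    rw [h1, ← Ext.mk₀_comp_mk₀, ← Ext.comp_assoc_of_second_deg_zero,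
      extCls_comp, Ext.zero_comp]

/-- `Ext¹(C, Y)` is the cokernel of the restriction map. -/
noncomputable def extEquiv :
    ((LinearMap.ker g →ₗ[B] Y) ⧸ LinearMap.range (res g Y)) ≃ₗ[B]
      Ext (ModuleCat.of B C) (ModuleCat.of B Y) 1 :=
  (Submodule.quotEquivOfEq _ _ (ker_delta g hg Y).symm).trans
    ((delta g hg Y).quotKerEquivOfSurjective (delta_surjective g hg Y))

section Generic

variable {L₂ : Type u} [AddCommGroup L₂] [Module B L₂] (d : L₂ →ₗ[B] L)
  (hker : LinearMap.ker g = LinearMap.range d)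

/-- `d` with values in `ker g`. -/
noncomputable def dR : L₂ →ₗ[B] LinearMap.ker g :=
  LinearMap.codRestrict (LinearMap.ker g) d (fun z => by
    rw [hker]; exact ⟨z, rfl⟩)

theorem dR_surjective : Function.Surjective (dR g d hker) := by
  rintro ⟨y, hy⟩
  have hy' := hy
  rw [hker] at hy'
  obtain ⟨z, rfl⟩ := hy'
  exact ⟨z, rfl⟩

/-- Precomposition with `dR`. -/
noncomputable def rhoR : (LinearMap.ker g →ₗ[B] Y) →ₗ[B] (L₂ →ₗ[B] Y) :=
  LinearMap.lcomp B Y (dR g d hker)

variable (hvan : ∀ (ψ : L₂ →ₗ[B] Y) (x : L₂), d x = 0 → ψ x = 0)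

include hvan in
theorem rhoR_bijective : Function.Bijective (rhoR g Y d hker) := by
  constructor
  · intro φ ψ h
    refine LinearMap.ext fun y => ?_
    obtain ⟨x, rfl⟩ := dR_surjective g d hker y
    exact LinearMap.congr_fun h x
  · intro ψ
    have hk : LinearMap.ker (dR g d hker) ≤ LinearMap.ker ψ := by
      intro x hx
      rw [LinearMap.mem_ker] at hx ⊢
      have h1 : d x = 0 := congrArg Subtype.val hx
      exact hvan ψ x h1
    refine ⟨(LinearMap.ker (dR g d hker)).liftQ ψ hk ∘ₗ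
      ((dR g d hker).quotKerEquivOfSurjective (dR_surjective g d hker)).symm.toLinearMap, ?_⟩
    refine LinearMap.ext fun x => ?_
    have h1 : ((dR g d hker).quotKerEquivOfSurjective (dR_surjective g d hker)).symm
        (dR g d hker x) = Submodule.Quotient.mk x := by
      rw [LinearEquiv.symm_apply_eq, LinearMap.quotKerEquivOfSurjective_apply_mk]
    change (LinearMap.ker (dR g d hker)).liftQ ψ hk
      (((dR g d hker).quotKerEquivOfSurjective (dR_surjective g d hker)).symm
        (dR g d hker x)) = ψ x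
    rw [h1, Submodule.liftQ_apply]

include hvan in
theorem map_rhoR_range :
    (LinearMap.range (res g Y)).map
      (LinearEquiv.ofBijective (rhoR g Y d hker) (rhoR_bijective g Y d hker hvan)).toLinearMap =
      LinearMap.range (LinearMap.lcomp B Y d) := by
  rw [← LinearMap.range_comp]
  congr 1

include hg hker hvan in
/-- If every `Y`-valued linear map on `L₂` kills `ker d`, then the cokernel of `Hom(L, Y) → Hom(L₂, Y)`
is `Ext¹(C, Y)`. -/
theorem nonempty_coker_equiv_ext :
    Nonempty (((L₂ →ₗ[B] Y) ⧸ LinearMap.range (LinearMap.lcomp B Y d)) ≃ₗ[B]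
      Ext (ModuleCat.of B C) (ModuleCat.of B Y) 1) :=
  ⟨(Submodule.Quotient.equiv _ _
      (LinearEquiv.ofBijective (rhoR g Y d hker) (rhoR_bijective g Y d hker hvan))
      (map_rhoR_range g Y d hker hvan)).symm.trans (extEquiv g hg Y)⟩

end Generic

end Groth.Agent.Lib.Helper18.T2ExtB
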