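import Mathlib
import Groth.Prelude.Def_CotT2
import Groth.Agent.Lib.Helper18.CotTBasic
import Groth.Agent.Lib.Helper18.T2ExtA
import Groth.Agent.Lib.Helper18.T2ExtB

/-!
# `T²(B/k, B) ≅ Ext¹(I/I², B)` for reduced `B` of finite type over a field
-/

set_option autoImplicit false
set_option linter.style.haveILetI false
universe u

open TensorProduct IsLocalRing

namespace Groth.Agent.Lib.Helper18.T2ExtC

open CotT Groth.Agent.Lib.Helper18.CotTApi Groth.Agent.Lib.Helper18.CotTKoszul
  Groth.Agent.Lib.Helper18.CotTCI Groth.Agent.Lib.Helper18.CotTBasic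
  Groth.Agent.Lib.Helper18.T2ExtA

section Reindex

variable {R : Type*} [CommRing R]

theorem trivS_mapDomain {σ τ : Type*} (e : τ → σ) (r : σ → R) (y : τ →₀ R)
    (hy : y ∈ trivS (r ∘ e)) : y.mapDomain e ∈ trivS r := by
  induction hy using Submodule.span_induction with
  | mem y hy =>
    obtain ⟨i, j, rfl⟩ := hy
    rw [Finsupp.mapDomain_sub, Finsupp.mapDomain_single, Finsupp.mapDomain_single]
    exact Submodule.subset_span ⟨e i, e j, rfl⟩
  | zero => rw [Finsupp.mapDomain_zero]; exact Submodule.zero_mem _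
  | add a b _ _ ha hb => rw [Finsupp.mapDomain_add]; exact Submodule.add_mem _ ha hb
  | smul c a _ ha => rw [Finsupp.mapDomain_smul]; exact Submodule.smul_mem _ _ ha

end Reindex

section Key

variable {k : Type u} [Field k] {B : Type u} [CommRing B] [Algebra k B] {ι σ : Type u}
  [Finite ι] [Finite σ] (P : Algebra.Presentation k B ι σ)

theorem trivS_le_trivRel : trivS (rel P) ≤ trivRel P := by
  unfold trivS
  rw [Submodule.span_le]
  rintro _ ⟨i, j, rfl⟩
  refine Submodule.subset_span ⟨Finsupp.single i 1, Finsupp.single j 1, ?_⟩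
  rw [jmap_single, jmap_single, one_mul, one_mul, Finsupp.smul_single, Finsupp.smul_single,
    smul_eq_mul, smul_eq_mul, mul_one, mul_one]

theorem apply_mem_ker_of_mem_smul_top (q : relMod P)
    (hq : q ∈ (RingHom.ker (algebraMap P.toExtension.Ring B)) •
      (⊤ : Submodule P.toExtension.Ring (relMod P))) (s : σ) :
    algebraMap P.toExtension.Ring B (q s) = 0 := by
  have : ∀ f ∈ ((RingHom.ker (algebraMap P.toExtension.Ring B)) •
      (⊤ : Submodule P.toExtension.Ring (relMod P))), ∀ s,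
      f s ∈ RingHom.ker (algebraMap P.toExtension.Ring B) := by
    intro f hf
    refine Submodule.smul_induction_on hf ?_ ?_
    · intro r hr n _ s
      rw [Finsupp.smul_apply, smul_eq_mul]
      exact Ideal.mul_mem_right _ _ hr
    · intro a b ha hb s
      rw [Finsupp.add_apply]
      exact Ideal.add_mem _ (ha s) (hb s)
  exact this q hq s

variable [IsReduced B]

/-- For a minimal prime `𝔭` of the reduced ring `B`, every element of `ker d₂` is killed by some
element outside `𝔭`. -/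
theorem exists_smul_eq_zero_of_mem_ker_d2 (x : L2 P) (hx : d2 P x = 0) (𝔭 : Ideal B)
    (h𝔭 : 𝔭 ∈ minimalPrimes B) : ∃ b ∉ 𝔭, b • x = 0 := by
  classical
  haveI := h𝔭.1.1
  obtain ⟨q, rfl⟩ := mkL2_surjective P x
  rw [d2_mkL2] at hx
  have hqI := mem_ker_smul_top_of_one_tmul_eq_zero (algebraMap_surjective P) (q : relMod P) hx
  have hqs : ∀ s, algebraMap P.toExtension.Ring B ((q : relMod P) s) = 0 :=
    apply_mem_ker_of_mem_smul_top P _ hqI
  set R := P.toExtension.Ring
  set 𝔮 : Ideal R := 𝔭.comap (algebraMap R B) with h𝔮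
  haveI : 𝔮.IsPrime := Ideal.comap_isPrime _ _
  haveI : IsRegularRing R := by
    change IsRegularRing (MvPolynomial ι k)
    infer_instance
  haveI : IsRegularLocalRing (Localization.AtPrime 𝔮) :=
    IsRegularRing.isRegularLocalRing_localization 𝔮
  obtain ⟨n, ⟨e⟩⟩ := Finite.exists_equiv_fin σ
  set r₂ : Fin n → R := fun i => rel P (e.symm i) with hr₂
  set f₂ : Fin n →₀ R := (q : relMod P).equivMapDomain e with hf₂
  have hrange : Set.range r₂ = Set.range (rel P) := by
    ext y
    constructor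
    · rintro ⟨i, rfl⟩; exact ⟨e.symm i, rfl⟩
    · rintro ⟨s, rfl⟩; exact ⟨e s, by simp [hr₂]⟩
  have hspan : Ideal.span (Set.range r₂) = RingHom.ker (algebraMap R B) := by
    rw [hrange]
    exact P.span_range_relation_eq_ker
  have hr𝔮 : ∀ i, r₂ i ∈ 𝔮 := by
    intro i
    have h1 : algebraMap R B (r₂ i) = 0 := algebraMap_rel P (e.symm i)
    rw [h𝔮, Ideal.mem_comap, h1]
    exact 𝔭.zero_mem
  have hgen : ∀ y ∈ 𝔮, ∃ u ∉ 𝔮, u * y ∈ Ideal.span (Set.range r₂) := by
    intro y hy
    have hy' : algebraMap R B y ∈ 𝔭 := hy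
    have : Ring.KrullDimLE 0 (Localization.AtPrime 𝔭) := .of_isLocalization _ h𝔭 _
    let _ : Field (Localization.AtPrime 𝔭) := Ring.KrullDimLE.isField_of_isReduced.toField
    have h0 : algebraMap B (Localization.AtPrime 𝔭) (algebraMap R B y) = 0 := by
      rw [← Ideal.mem_bot, ← IsLocalRing.maximalIdeal_eq_bot,
        ← Localization.AtPrime.map_eq_maximalIdeal]
      exact Ideal.mem_map_of_mem _ hy'
    obtain ⟨⟨m, hm𝔭⟩, hm⟩ := (IsLocalization.map_eq_zero_iff 𝔭.primeCompl
      (Localization.AtPrime 𝔭) (algebraMap R B y)).mp h0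
    obtain ⟨u, rfl⟩ := algebraMap_surjective P m
    refine ⟨u, fun hu => hm𝔭 hu, ?_⟩
    rw [hspan, RingHom.mem_ker, map_mul]
    exact hm
  have hlc : Finsupp.linearCombination R r₂ f₂ = 0 := by
    rw [hf₂, Finsupp.linearCombination_equivMapDomain]
    have h1 : r₂ ∘ e = rel P := by
      funext s
      simp [hr₂]
    rw [h1]
    exact q.2
  have hf𝔮 : ∀ i, f₂ i ∈ 𝔮 := by
    intro i
    rw [hf₂, Finsupp.equivMapDomain_apply, h𝔮, Ideal.mem_comap, hqs]
    exact Ideal.zero_mem _
  obtain ⟨u, hu, huf⟩ := exists_smul_mem_trivS r₂ 𝔮 hr𝔮 hgen f₂ hlc hf𝔮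
  have h2 : (u • f₂).mapDomain e.symm ∈ trivS (rel P) := by
    apply trivS_mapDomain e.symm (rel P)
    exact huf
  have h3 : (u • f₂).mapDomain e.symm = u • (q : relMod P) := by
    rw [Finsupp.mapDomain_smul, hf₂, Finsupp.equivMapDomain_eq_mapDomain,
      ← Finsupp.mapDomain_comp]
    simp
  rw [h3] at h2
  refine ⟨algebraMap R B u, hu, ?_⟩
  rw [← mkL2_smul]
  exact mkL2_eq_zero P (u • q) (trivS_le_trivRel P h2)

/-- Every linear form on `L₂` vanishes on `ker d₂` when `B` is reduced. -/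
theorem apply_eq_zero_of_mem_ker_d2 (ψ : L2 P →ₗ[B] B) (x : L2 P) (hx : d2 P x = 0) :
    ψ x = 0 := by
  have h1 : ψ x ∈ sInf (minimalPrimes B) := by
    rw [Submodule.mem_sInf]
    intro 𝔭 h𝔭
    haveI := h𝔭.1.1
    obtain ⟨b, hb, hbx⟩ := exists_smul_eq_zero_of_mem_ker_d2 P x hx 𝔭 h𝔭
    have h2 : b * ψ x = 0 := by
      rw [← smul_eq_mul, ← map_smul, hbx, map_zero]
    have h3 : b * ψ x ∈ 𝔭 := by rw [h2]; exact Ideal.zero_mem _
    exact (Ideal.IsPrime.mem_or_mem ‹_› h3).resolve_left hb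
  have h2 : sInf (minimalPrimes B) = ⊥ := by
    unfold minimalPrimes
    rw [Ideal.sInf_minimalPrimes]
    exact nilradical_eq_zero B
  rw [h2, Ideal.mem_bot] at h1
  exact h1

end Key

end Groth.Agent.Lib.Helper18.T2ExtC
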