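import Mathlib

/-!
# Tensoring a projective module with a limit inside a product

For a projective module `M` and a jointly injective family of maps `g i : P → T i`, the map
`M ⊗ P → Π i, M ⊗ T i` is injective (`proj_injective`).  If moreover `M` is finitely generated and
`P` is the limit of a tower `F i : T (i+1) → T i`, the image is the set of compatible sequences
(`range_eq_compatible`).
-/

namespace Groth.Agent.Lib.Helper18.TensorLim

open TensorProduct

variable {R : Type*} [CommRing R]

/-- naturality of `finsuppScalarLeft`. -/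
theorem finsuppScalarLeft_lTensor {b : Type*} [DecidableEq b] {P T : Type*} [AddCommGroup P] [Module R P]
    [AddCommGroup T] [Module R T] (g : P →ₗ[R] T) (x : (b →₀ R) ⊗[R] P) (j : b) :
    finsuppScalarLeft R T b (LinearMap.lTensor (b →₀ R) g x) j =
      g (finsuppScalarLeft R P b x j) := by
  induction x using TensorProduct.induction_on with
  | zero => simp
  | tmul f q => simp
  | add x y hx hy => simp [hx, hy]

theorem free_injective {b ι : Type*} {P : Type*} {T : ι → Type*} [AddCommGroup P] [Module R P]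
    [∀ i, AddCommGroup (T i)] [∀ i, Module R (T i)] (g : ∀ i, P →ₗ[R] T i)
    (hg : ∀ q : P, (∀ i, g i q = 0) → q = 0) (x : (b →₀ R) ⊗[R] P)
    (hx : ∀ i, LinearMap.lTensor (b →₀ R) (g i) x = 0) : x = 0 := by
  classical
  apply (finsuppScalarLeft R P b).injective
  rw [map_zero]
  ext j
  apply hg
  intro i
  rw [← finsuppScalarLeft_lTensor (g i) x j, hx i, map_zero]
  rfl

/-- For projective `M` and jointly injective `g i : P → T i`, `M ⊗ P → Π i, M ⊗ T i` is
injective. -/
theorem proj_injective {M P ι : Type*} {T : ι → Type*} [AddCommGroup M] [Module R M]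
    [Module.Projective R M] [AddCommGroup P] [Module R P]
    [∀ i, AddCommGroup (T i)] [∀ i, Module R (T i)] (g : ∀ i, P →ₗ[R] T i)
    (hg : ∀ q : P, (∀ i, g i q = 0) → q = 0) :
    Function.Injective (LinearMap.pi fun i => LinearMap.lTensor M (g i) :
      M ⊗[R] P →ₗ[R] (Π i, M ⊗[R] T i)) := by
  rw [injective_iff_map_eq_zero]
  intro x hx
  obtain ⟨s, hs⟩ := Module.projective_def'.mp ‹Module.Projective R M›
  have hx' : ∀ i, LinearMap.lTensor M (g i) x = 0 := fun i => congrFun hx i
  have h1 : LinearMap.rTensor P s x = 0 := by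
    apply free_injective g hg
    intro i
    rw [← LinearMap.comp_apply, LinearMap.lTensor_comp_rTensor, ← LinearMap.rTensor_comp_lTensor,
      LinearMap.comp_apply, hx' i, map_zero]
  have h2 : LinearMap.rTensor P (Finsupp.linearCombination R id) (LinearMap.rTensor P s x) = x := by
    rw [← LinearMap.comp_apply, ← LinearMap.rTensor_comp, hs, LinearMap.rTensor_id,
      LinearMap.id_apply]
  rw [← h2, h1, map_zero]

section tower

variable {P : Type*} {T : ℕ → Type*} [AddCommGroup P] [Module R P]
  [∀ i, AddCommGroup (T i)] [∀ i, Module R (T i)]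
  (F : ∀ i, T (i + 1) →ₗ[R] T i) (g : ∀ i, P →ₗ[R] T i)

theorem free_surj {n : ℕ}
    (hsurj : ∀ t : ∀ i, T i, (∀ i, F i (t (i + 1)) = t i) → ∃ q : P, ∀ i, g i q = t i)
    (y : ∀ i, (Fin n →₀ R) ⊗[R] T i)
    (hy : ∀ i, LinearMap.lTensor (Fin n →₀ R) (F i) (y (i + 1)) = y i) :
    ∃ x : (Fin n →₀ R) ⊗[R] P, ∀ i, LinearMap.lTensor (Fin n →₀ R) (g i) x = y i := by
  have hw : ∀ i j, F i (finsuppScalarLeft R (T (i + 1)) (Fin n) (y (i + 1)) j) =
      finsuppScalarLeft R (T i) (Fin n) (y i) j := by
    intro i j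
    rw [← finsuppScalarLeft_lTensor (F i) (y (i + 1)) j, hy]
  choose q hq using fun j : Fin n =>
    hsurj (fun i => finsuppScalarLeft R (T i) (Fin n) (y i) j) (fun i => hw i j)
  refine ⟨∑ j, Finsupp.single j (1 : R) ⊗ₜ[R] q j, fun i => ?_⟩
  apply (finsuppScalarLeft R (T i) (Fin n)).injective
  ext k
  rw [map_sum, map_sum, Finsupp.finset_sum_apply]
  simp only [LinearMap.lTensor_tmul, finsuppScalarLeft_apply_tmul_apply, hq]
  rw [Finset.sum_eq_single k]
  · simp
  · intro j _ hjk
    rw [Finsupp.single_eq_of_ne' hjk, zero_smul]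
  · intro h
    exact absurd (Finset.mem_univ k) h

/-- For finitely generated projective `M` and `P = lim T i`, the image of
`M ⊗ P → Π i, M ⊗ T i` is the module of compatible sequences. -/
theorem range_eq_compatible {M : Type*} [AddCommGroup M] [Module R M] [Module.Finite R M]
    [Module.Projective R M]
    (hgF : ∀ i, (F i).comp (g (i + 1)) = g i)
    (hsurj : ∀ t : ∀ i, T i, (∀ i, F i (t (i + 1)) = t i) → ∃ q : P, ∀ i, g i q = t i)
    (y : ∀ i, M ⊗[R] T i) :
    y ∈ LinearMap.range (LinearMap.pi fun i => LinearMap.lTensor M (g i) :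
      M ⊗[R] P →ₗ[R] (Π i, M ⊗[R] T i)) ↔
      ∀ i, LinearMap.lTensor M (F i) (y (i + 1)) = y i := by
  constructor
  · rintro ⟨x, rfl⟩ i
    simp only [LinearMap.pi_apply]
    rw [← LinearMap.comp_apply, ← LinearMap.lTensor_comp, hgF]
  · intro hy
    obtain ⟨n, f, g', -, -, hfg⟩ := Module.Finite.exists_comp_eq_id_of_projective R M
    let e := Finsupp.linearEquivFunOnFinite R R (Fin n)
    let s : M →ₗ[R] (Fin n →₀ R) := e.symm.toLinearMap ∘ₗ g'
    let r : (Fin n →₀ R) →ₗ[R] M := f ∘ₗ e.toLinearMap
    have hrs : r ∘ₗ s = LinearMap.id := by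
      ext m
      simp only [r, s, LinearMap.comp_apply, LinearEquiv.coe_coe, LinearEquiv.apply_symm_apply]
      exact LinearMap.congr_fun hfg m
    have hy' : ∀ i, LinearMap.lTensor (Fin n →₀ R) (F i) (LinearMap.rTensor (T (i + 1)) s (y (i + 1)))
        = LinearMap.rTensor (T i) s (y i) := by
      intro i
      rw [← LinearMap.comp_apply, LinearMap.lTensor_comp_rTensor, ← LinearMap.rTensor_comp_lTensor,
        LinearMap.comp_apply, hy i]
    obtain ⟨x', hx'⟩ := free_surj F g hsurj (fun i => LinearMap.rTensor (T i) s (y i)) hy'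
    refine ⟨LinearMap.rTensor P r x', ?_⟩
    funext i
    simp only [LinearMap.pi_apply]
    rw [← LinearMap.comp_apply, LinearMap.lTensor_comp_rTensor, ← LinearMap.rTensor_comp_lTensor,
      LinearMap.comp_apply, hx' i, ← LinearMap.comp_apply, ← LinearMap.rTensor_comp, hrs,
      LinearMap.rTensor_id, LinearMap.id_apply]

end tower

end Groth.Agent.Lib.Helper18.TensorLim
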