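import Mathlib
import Groth.Agent.Lib.Helper18.KProjE
import Groth.Agent.Lib.Helper18.DRTorB

/-!
# Dévissage along two quotients whose kernels multiply to zero (helper18)

`A → B₁`, `A → B₂` surjective with `ker₁ * ker₂ = 0`: tor amplitude, boundedness, pseudo-coherence
and perfectness of a K-projective complex over `A` can be tested after base change to `B₁` and `B₂`.
-/

set_option autoImplicit false
set_option linter.style.haveILetI false
universe u
open CategoryTheory CategoryTheory.Limits CategoryTheory.Pretriangulated DerivedCategory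
open TensorProduct MonoidalCategory

attribute [local instance] HasDerivedCategory.standard

namespace Groth.Agent.Lib.Helper18.DR

section alg

variable {A B : Type u} [CommRing A] [CommRing B] [Algebra A B]

/-- modules killed by the kernel behave like `B`-modules -/
lemma exact_lTensor_of_smul_eq_bot (hsurj : Function.Surjective (algebraMap A B))
    {X Y Z : Type u} [AddCommGroup X] [Module A X] [AddCommGroup Y] [Module A Y] [AddCommGroup Z]
    [Module A Z] (d : X →ₗ[A] Y) (d' : Y →ₗ[A] Z)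
    (h : ∀ (N : Type u) [AddCommGroup N] [Module B N] [Module A N] [IsScalarTower A B N],
      Function.Exact (d.lTensor N) (d'.lTensor N))
    (N : Type u) [AddCommGroup N] [Module A N]
    (hN : (RingHom.ker (algebraMap A B)) • (⊤ : Submodule A N) = ⊥) :
    Function.Exact (d.lTensor N) (d'.lTensor N) := by
  have hbij : Function.Bijective (TensorProduct.mk A B N 1) := by
    refine ⟨?_, mk_one_surjective hsurj N⟩
    rw [injective_iff_map_eq_zero]
    intro n hn
    have h1 := (mk_one_eq_zero_iff hsurj N n).mp hn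
    rw [hN, Submodule.mem_bot] at h1
    exact h1
  let e : N ≃ₗ[A] B ⊗[A] N := LinearEquiv.ofBijective (TensorProduct.mk A B N 1) hbij
  have hh := h (B ⊗[A] N)
  exact exact_of_ladder' (f := d.lTensor N) (g := d'.lTensor N)
    (f' := d.lTensor (B ⊗[A] N)) (g' := d'.lTensor (B ⊗[A] N))
    (LinearEquiv.rTensor X e).toAddEquiv (LinearEquiv.rTensor Y e).toAddEquiv
    (LinearEquiv.rTensor Z e).toAddEquiv
    (fun x => rTensor_lTensor_comm e.toLinearMap d x)
    (fun x => rTensor_lTensor_comm e.toLinearMap d' x) hh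

end alg

section two

variable {A B₁ B₂ : Type u} [CommRing A] [CommRing B₁] [CommRing B₂] [Algebra A B₁] [Algebra A B₂]

theorem exact_lTensor_of_two (hs₁ : Function.Surjective (algebraMap A B₁))
    (hs₂ : Function.Surjective (algebraMap A B₂))
    (hker : RingHom.ker (algebraMap A B₁) * RingHom.ker (algebraMap A B₂) = ⊥)
    {X Y Z : Type u} [AddCommGroup X] [Module A X] [AddCommGroup Y] [Module A Y] [AddCommGroup Z]
    [Module A Z] (d : X →ₗ[A] Y) (d' : Y →ₗ[A] Z) (hdd : d' ∘ₗ d = 0) [Module.Flat A Z]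
    (h₁ : ∀ (N : Type u) [AddCommGroup N] [Module B₁ N] [Module A N] [IsScalarTower A B₁ N],
      Function.Exact (d.lTensor N) (d'.lTensor N))
    (h₂ : ∀ (N : Type u) [AddCommGroup N] [Module B₂ N] [Module A N] [IsScalarTower A B₂ N],
      Function.Exact (d.lTensor N) (d'.lTensor N))
    (M : Type u) [AddCommGroup M] [Module A M] :
    Function.Exact (d.lTensor M) (d'.lTensor M) := by
  refine exact_lTensor_middle _ _ (Submodule.subtype_injective _)
    (exact_subtype_mk_one hs₂ M) (mk_one_surjective hs₂ M) d d' hdd ?_ (h₂ (B₂ ⊗[A] M))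
  apply exact_lTensor_of_smul_eq_bot hs₁ d d' h₁
  rw [eq_bot_iff]
  refine Submodule.smul_le.mpr fun a ha m' _ => ?_
  rw [Submodule.mem_bot]
  apply Subtype.ext
  have h1 : a • (m' : M) ∈ (RingHom.ker (algebraMap A B₁)) •
      ((RingHom.ker (algebraMap A B₂)) • (⊤ : Submodule A M)) :=
    Submodule.smul_mem_smul ha m'.2
  rw [← Submodule.smul_assoc, Ideal.smul_eq_mul, hker, Submodule.bot_smul, Submodule.mem_bot] at h1
  exact h1

lemma eq_top_of_sup_smul_two (I₁ I₂ : Ideal A) (h12 : I₁ * I₂ = ⊥)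
    {M : Type u} [AddCommGroup M] [Module A M] (N : Submodule A M)
    (h₁ : (⊤ : Submodule A M) ≤ N ⊔ I₁ • (⊤ : Submodule A M))
    (h₂ : (⊤ : Submodule A M) ≤ N ⊔ I₂ • (⊤ : Submodule A M)) : N = ⊤ := by
  apply top_le_iff.mp
  calc (⊤ : Submodule A M) ≤ N ⊔ I₁ • (⊤ : Submodule A M) := h₁
    _ ≤ N ⊔ I₁ • (N ⊔ I₂ • (⊤ : Submodule A M)) :=
      sup_le_sup_left (smul_mono_right I₁ h₂) N
    _ = N ⊔ (I₁ • N ⊔ I₁ • (I₂ • (⊤ : Submodule A M))) := by rw [Submodule.smul_sup]
    _ ≤ N := by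
      refine sup_le le_rfl (sup_le Submodule.smul_le_right ?_)
      rw [← Submodule.smul_assoc, Ideal.smul_eq_mul, h12, Submodule.bot_smul]
      exact bot_le

end two

section gens

variable {A B : Type u} [CommRing A] [CommRing B] [Algebra A B]

lemma le_sup_smul_of_tensor_gens (hsurj : Function.Surjective (algebraMap A B))
    {X Y : Type u} [AddCommGroup X] [Module A X] [AddCommGroup Y] [Module A Y] (d : X →ₗ[A] Y)
    (r : ℕ) (w : Fin r → B ⊗[A] Y)
    (hw : ∀ y : Y, ∃ (c : Fin r → B) (t : B ⊗[A] X),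
      (1 : B) ⊗ₜ[A] y = ∑ i, c i • w i + (d.lTensor B) t)
    (x : Fin r → Y) (hx : ∀ i, TensorProduct.mk A B Y 1 (x i) = w i) (N : Submodule A Y)
    (hN : Submodule.span A (Set.range x) ⊔ LinearMap.range d ≤ N) :
    (⊤ : Submodule A Y) ≤ N ⊔ (RingHom.ker (algebraMap A B)) • (⊤ : Submodule A Y) := by
  intro y _
  obtain ⟨c, t, hct⟩ := hw y
  choose c' hc' using fun i => hsurj (c i)
  obtain ⟨v, hv⟩ := mk_one_surjective hsurj X t
  have e1 : ∀ i, (1 : B) ⊗ₜ[A] (c' i • x i) = c i • w i := by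
    intro i
    rw [← hx i, ← hc' i, TensorProduct.mk_apply, TensorProduct.tmul_smul, algebraMap_smul]
  have e2 : (1 : B) ⊗ₜ[A] (d v) = (d.lTensor B) t := by
    rw [← hv, TensorProduct.mk_apply, LinearMap.lTensor_tmul]
  have h1 : (1 : B) ⊗ₜ[A] (y - (∑ i, c' i • x i + d v)) = 0 := by
    rw [TensorProduct.tmul_sub, hct, TensorProduct.tmul_add, TensorProduct.tmul_sum]
    simp only [e1, e2, sub_self]
  have h2 := (mk_one_eq_zero_iff hsurj Y _).mp h1
  rw [Submodule.mem_sup]
  refine ⟨∑ i, c' i • x i + d v, hN ?_, y - (∑ i, c' i • x i + d v), h2, by abel⟩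
  exact Submodule.add_mem_sup
    (Submodule.sum_mem _ fun i _ => Submodule.smul_mem _ _ (Submodule.subset_span ⟨i, rfl⟩))
    ⟨v, rfl⟩

theorem exists_tensor_gens_of_finite_H_ext (E : DRing.Cx A) (n : ℤ)
    (hE : IsZero (E.X (n + 1)))
    (hfin : Module.Finite B ((H B n).obj (DRing.toD (extCx (B := B) E)))) :
    ∃ (r : ℕ) (w : Fin r → B ⊗[A] E.X n), ∀ y : E.X n, ∃ (c : Fin r → B)
      (t : B ⊗[A] E.X (n - 1)),
      (1 : B) ⊗ₜ[A] y = ∑ i, c i • w i + ((E.d (n - 1) n).hom.lTensor B) t := by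
  have e := HtoDLinearEquiv' (extCx (B := B) E) (n - 1) n (n + 1) (by omega) rfl
  haveI : Module.Finite B (LinearMap.ker ((extCx (B := B) E).d n (n + 1)).hom ⧸
      LinearMap.range (toCyc (extCx (B := B) E) (n - 1) n (n + 1))) := Module.Finite.equiv e
  obtain ⟨r, s, hs⟩ := Module.Finite.exists_fin (R := B)
    (M := LinearMap.ker ((extCx (B := B) E).d n (n + 1)).hom ⧸
      LinearMap.range (toCyc (extCx (B := B) E) (n - 1) n (n + 1)))
  choose z hz using fun i => Submodule.Quotient.mk_surjective _ (s i)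
  haveI : Subsingleton ((extCx (B := B) E).X (n + 1)) :=
    ModuleCat.subsingleton_of_isZero ((extM (A := A) (B := B)).map_isZero hE)
  refine ⟨r, fun i => extCxXEquiv (B := B) E n
    ((z i : LinearMap.ker ((extCx (B := B) E).d n (n + 1)).hom) : (extCx (B := B) E).X n), ?_⟩
  intro y
  let t : (extCx (B := B) E).X n := (extCxXEquiv (B := B) E n).symm ((1 : B) ⊗ₜ[A] y)
  have ht : t ∈ LinearMap.ker ((extCx (B := B) E).d n (n + 1)).hom := by
    rw [LinearMap.mem_ker]; exact Subsingleton.elim _ _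
  have hmem : Submodule.Quotient.mk
      (⟨t, ht⟩ : LinearMap.ker ((extCx (B := B) E).d n (n + 1)).hom) ∈
      Submodule.span B (Set.range s) := by
    rw [hs]; exact Submodule.mem_top
  obtain ⟨c, hc⟩ := (Submodule.mem_span_range_iff_exists_fun B).mp hmem
  have h2 : (Submodule.mkQ (LinearMap.range (toCyc (extCx (B := B) E) (n - 1) n (n + 1))))
      ((⟨t, ht⟩ : LinearMap.ker ((extCx (B := B) E).d n (n + 1)).hom) - ∑ i, c i • z i) = 0 := by
    rw [map_sub, map_sum]
    simp only [map_smul, Submodule.mkQ_apply, hz]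
    rw [hc, sub_self]
  obtain ⟨v, hv⟩ := (Submodule.Quotient.mk_eq_zero _).mp h2
  refine ⟨c, extCxXEquiv (B := B) E (n - 1) v, ?_⟩
  have h3 := congrArg Subtype.val hv
  simp only [Submodule.coe_sub, Submodule.coe_sum, Submodule.coe_smul, toCyc_coe] at h3
  have h4 := extCxXEquiv_d (B := B) E (n - 1) n v
  have h5 : extCxXEquiv (B := B) E n t = (1 : B) ⊗ₜ[A] y := LinearEquiv.apply_symm_apply _ _
  rw [← h4, h3, map_sub, map_sum, h5]
  simp only [map_smul]
  abel

end gens

section gens2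

variable {A B₁ B₂ : Type u} [CommRing A] [CommRing B₁] [CommRing B₂] [Algebra A B₁] [Algebra A B₂]

theorem exists_gens_of_finite_H_ext_two (hs₁ : Function.Surjective (algebraMap A B₁))
    (hs₂ : Function.Surjective (algebraMap A B₂))
    (hker : RingHom.ker (algebraMap A B₁) * RingHom.ker (algebraMap A B₂) = ⊥)
    (E : DRing.Cx A) (n : ℤ) (hE : IsZero (E.X (n + 1)))
    (hfin₁ : Module.Finite B₁ ((H B₁ n).obj (DRing.toD (extCx (B := B₁) E))))
    (hfin₂ : Module.Finite B₂ ((H B₂ n).obj (DRing.toD (extCx (B := B₂) E)))) :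
    ∃ (r : ℕ) (x : Fin r → E.X n), ∀ y : E.X n, ∃ (c : Fin r → A) (z : E.X (n - 1)),
      y = ∑ i, c i • x i + (E.d (n - 1) n).hom z := by
  obtain ⟨r₁, w₁, hw₁⟩ := exists_tensor_gens_of_finite_H_ext (B := B₁) E n hE hfin₁
  obtain ⟨r₂, w₂, hw₂⟩ := exists_tensor_gens_of_finite_H_ext (B := B₂) E n hE hfin₂
  choose x₁ hx₁ using fun i => mk_one_surjective hs₁ (E.X n) (w₁ i)
  choose x₂ hx₂ using fun i => mk_one_surjective hs₂ (E.X n) (w₂ i)
  let x : Fin (r₁ + r₂) → E.X n := fun i => Sum.elim x₁ x₂ (finSumFinEquiv.symm i)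
  have hrange : Set.range x = Set.range x₁ ∪ Set.range x₂ := by
    have h1 : x = Sum.elim x₁ x₂ ∘ finSumFinEquiv.symm := rfl
    rw [h1, EquivLike.range_comp, Set.Sum.elim_range]
  have hN : Submodule.span A (Set.range x) ⊔ LinearMap.range (E.d (n - 1) n).hom = ⊤ := by
    apply eq_top_of_sup_smul_two _ _ hker
    · refine le_sup_smul_of_tensor_gens hs₁ (E.d (n - 1) n).hom r₁ w₁ hw₁ x₁ hx₁ _ ?_
      refine sup_le_sup_right (Submodule.span_mono ?_) _
      rw [hrange]; exact Set.subset_union_left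
    · refine le_sup_smul_of_tensor_gens hs₂ (E.d (n - 1) n).hom r₂ w₂ hw₂ x₂ hx₂ _ ?_
      refine sup_le_sup_right (Submodule.span_mono ?_) _
      rw [hrange]; exact Set.subset_union_right
  refine ⟨r₁ + r₂, x, ?_⟩
  intro y
  have hy : y ∈ Submodule.span A (Set.range x) ⊔ LinearMap.range (E.d (n - 1) n).hom :=
    hN ▸ Submodule.mem_top
  obtain ⟨a, ha, b, hb, hab⟩ := Submodule.mem_sup.mp hy
  obtain ⟨c, hc⟩ := (Submodule.mem_span_range_iff_exists_fun A).mp ha
  obtain ⟨z, hz⟩ := hb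
  exact ⟨c, z, by rw [hc, hz, hab]⟩

end gens2

end Groth.Agent.Lib.Helper18.DR
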