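import Mathlib
import Groth.Agent.Lib.Helper18.TwoIdeal

/-!
# Dévissage along two quotients whose kernels multiply to zero: complexes (helper18)
-/

set_option autoImplicit false
set_option linter.style.haveILetI false
universe u
open CategoryTheory CategoryTheory.Limits CategoryTheory.Pretriangulated DerivedCategory
open TensorProduct MonoidalCategory

attribute [local instance] HasDerivedCategory.standard

namespace Groth.Agent.Lib.Helper18.DR

section one

variable {A B : Type u} [CommRing A] [CommRing B] [Algebra A B]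

instance isKProjective_extCx (P : DRing.Cx A) [P.IsKProjective] :
    (extCx (B := B) P).IsKProjective :=
  isKProjective_extendScalars (algebraMap A B) P

lemma exact_lTensor_of_hasTorAmplitudeIn_ext (P : DRing.Cx A) [P.IsKProjective] (a b : ℤ)
    (hTA : DRing.HasTorAmplitudeIn B a b (DRing.toD (extCx (B := B) P)))
    (i j k : ℤ) (hij : i + 1 = j) (hjk : j + 1 = k) (hj : j < a ∨ b < j)
    (N : Type u) [AddCommGroup N] [Module B N] [Module A N] [IsScalarTower A B N] :
    Function.Exact ((P.d i j).hom.lTensor N) ((P.d j k).hom.lTensor N) := by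
  apply lTensor_exact_of_extM_module (S := B) N
  rw [← (tensorLike_tensorRight (ModuleCat.of B N)).exact_iff]
  have h1 := (tensorLike_tensorRight (ModuleCat.of B N)).isZero_H_of_hasTorAmplitudeIn_kproj
    (extCx (B := B) P) a b hTA j hj
  exact (isZero_H_toD_iff _ i j k hij hjk).mp h1

lemma exact_lTensor_of_isLE_ext (P : DRing.Cx A) [P.IsKProjective] (b : ℤ)
    [(DRing.toD (extCx (B := B) P)).IsLE b]
    (i j k : ℤ) (hij : i + 1 = j) (hjk : j + 1 = k) (hj : b < j)
    (N : Type u) [AddCommGroup N] [Module B N] [Module A N] [IsScalarTower A B N] :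
    Function.Exact ((P.d i j).hom.lTensor N) ((P.d j k).hom.lTensor N) := by
  apply lTensor_exact_of_extM_module (S := B) N
  rw [← (tensorLike_tensorRight (ModuleCat.of B N)).exact_iff]
  have h1 := isZero_H_mapHC_of_isLE_kproj (tensorRight (ModuleCat.of B N))
    (extCx (B := B) P) b j hj
  exact (isZero_H_toD_iff _ i j k hij hjk).mp h1

end one

section two

variable {A B₁ B₂ : Type u} [CommRing A] [CommRing B₁] [CommRing B₂] [Algebra A B₁] [Algebra A B₂]
  (hs₁ : Function.Surjective (algebraMap A B₁)) (hs₂ : Function.Surjective (algebraMap A B₂))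
  (hker : RingHom.ker (algebraMap A B₁) * RingHom.ker (algebraMap A B₂) = ⊥)

include hs₁ hs₂ hker

theorem hasTorAmplitudeIn_two (P : DRing.Cx A) [P.IsKProjective]
    (hPproj : ∀ i, Module.Projective A (P.X i)) (a b : ℤ)
    (h₁ : DRing.HasTorAmplitudeIn B₁ a b (DRing.toD (extCx (B := B₁) P)))
    (h₂ : DRing.HasTorAmplitudeIn B₂ a b (DRing.toD (extCx (B := B₂) P))) :
    DRing.HasTorAmplitudeIn A a b (DRing.toD P) := by
  have hM : ∀ (M : Type u) [AddCommGroup M] [Module A M] (i j k : ℤ), i + 1 = j → j + 1 = k →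
      (j < a ∨ b < j) →
      Function.Exact ((P.d i j).hom.lTensor M) ((P.d j k).hom.lTensor M) := by
    intro M _ _ i j k hij hjk hj
    haveI : Module.Flat A (P.X k) := by haveI := hPproj k; infer_instance
    exact exact_lTensor_of_two hs₁ hs₂ hker (P.d i j).hom (P.d j k).hom
      (d_comp_d_hom P i j k)
      (fun N _ _ _ _ => exact_lTensor_of_hasTorAmplitudeIn_ext P a b h₁ i j k hij hjk hj N)
      (fun N _ _ _ _ => exact_lTensor_of_hasTorAmplitudeIn_ext P a b h₂ i j k hij hjk hj N) M
  have hH : ∀ j : ℤ, (j < a ∨ b < j) → IsZero ((H A j).obj (DRing.toD P)) := fun j hj => by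
    rw [isZero_H_toD_iff P (j - 1) j (j + 1) (by omega) rfl]
    exact exact_of_exact_lTensor_self _ _ (hM A (j - 1) j (j + 1) (by omega) rfl hj)
  haveI : (DRing.toD P).IsLE b := by
    rw [DerivedCategory.isLE_iff]; intro i hi; exact hH i (Or.inr hi)
  obtain ⟨G, hGb, hGfree, ⟨eG⟩⟩ := exists_free_resolution (DRing.toD P) b
  have hGproj : ∀ i, Module.Projective A (G.X i) := fun i => by
    haveI := hGfree i; exact Module.Projective.of_free
  have hGflat : DRing.TermwiseFlat G := fun i => by haveI := hGproj i; infer_instance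
  haveI : G.IsKProjective := isKProjective_of_vanishesAbove G b hGb hGproj
  obtain ⟨f, hf⟩ := exists_map_eq G P eG.hom
  have hiso : IsIso (DerivedCategory.Q.map f) := by rw [hf]; infer_instance
  refine hasTorAmplitudeIn_of_iso eG
    (hasTorAmplitudeIn_of_exact_lTensor G a b hGb hGflat ?_)
  intro M _ _ i j k hij hjk hj
  haveI := isIso_Q_map_mapHC_of_isKProjective (tensorRight (ModuleCat.of A M)) f hiso
  have h1 : IsZero ((H A j).obj (DRing.toD (((tensorRight (ModuleCat.of A M)).mapHomologicalComplex
      (ComplexShape.up ℤ)).obj P))) :=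
    (isZero_H_toD_iff _ i j k hij hjk).mpr
      (((tensorLike_tensorRight (ModuleCat.of A M)).exact_iff _ _).mpr (hM M i j k hij hjk hj))
  have h2 : IsZero ((H A j).obj (DRing.toD (((tensorRight (ModuleCat.of A M)).mapHomologicalComplex
      (ComplexShape.up ℤ)).obj G))) :=
    h1.of_iso ((H A j).mapIso (asIso (DerivedCategory.Q.map
      (((tensorRight (ModuleCat.of A M)).mapHomologicalComplex (ComplexShape.up ℤ)).map f))))
  exact ((tensorLike_tensorRight (ModuleCat.of A M)).exact_iff _ _).mp
    ((isZero_H_toD_iff _ i j k hij hjk).mp h2)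

theorem isLE_two (P : DRing.Cx A) [P.IsKProjective]
    (hPproj : ∀ i, Module.Projective A (P.X i)) (b : ℤ)
    (h₁ : (DRing.toD (extCx (B := B₁) P)).IsLE b)
    (h₂ : (DRing.toD (extCx (B := B₂) P)).IsLE b) :
    (DRing.toD P).IsLE b := by
  have hM : ∀ (M : Type u) [AddCommGroup M] [Module A M] (i j k : ℤ), i + 1 = j → j + 1 = k →
      b < j →
      Function.Exact ((P.d i j).hom.lTensor M) ((P.d j k).hom.lTensor M) := by
    intro M _ _ i j k hij hjk hj
    haveI : Module.Flat A (P.X k) := by haveI := hPproj k; infer_instance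
    exact exact_lTensor_of_two hs₁ hs₂ hker (P.d i j).hom (P.d j k).hom
      (d_comp_d_hom P i j k)
      (fun N _ _ _ _ => exact_lTensor_of_isLE_ext (B := B₁) P b i j k hij hjk hj N)
      (fun N _ _ _ _ => exact_lTensor_of_isLE_ext (B := B₂) P b i j k hij hjk hj N) M
  rw [DerivedCategory.isLE_iff]
  intro j hj
  rw [isZero_H_toD_iff P (j - 1) j (j + 1) (by omega) rfl]
  exact exact_of_exact_lTensor_self _ _ (hM A (j - 1) j (j + 1) (by omega) rfl hj)

end two

end Groth.Agent.Lib.Helper18.DR
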