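import Mathlib
import Groth.Agent.Lib.Helper18.TwoIdeal2

/-!
# Dévissage along two quotients whose kernels multiply to zero: pseudo-coherence, perfectness
(helper18)
-/

set_option autoImplicit false
set_option linter.style.haveILetI false
universe u
open CategoryTheory CategoryTheory.Limits CategoryTheory.Pretriangulated DerivedCategory
open TensorProduct MonoidalCategory

attribute [local instance] HasDerivedCategory.standard

namespace Groth.Agent.Lib.Helper18.DR

section two

variable {A B₁ B₂ : Type u} [CommRing A] [CommRing B₁] [CommRing B₂] [Algebra A B₁] [Algebra A B₂]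
  (hs₁ : Function.Surjective (algebraMap A B₁)) (hs₂ : Function.Surjective (algebraMap A B₂))
  (hker : RingHom.ker (algebraMap A B₁) * RingHom.ker (algebraMap A B₂) = ⊥)

include hs₁ hs₂ hker

lemma isPseudoCoherent_aux_two (m : ℤ) : ∀ (N : ℕ) (G : DRing.Cx A) [G.IsKProjective],
    (DRing.toD G).IsLE (m - 1 + N) →
    DRing.IsPseudoCoherent B₁ m
      ((DRing.baseChangeKh (algebraMap A B₁)).obj ((HomotopyCategory.quotient _ _).obj G)) →
    DRing.IsPseudoCoherent B₂ m
      ((DRing.baseChangeKh (algebraMap A B₂)).obj ((HomotopyCategory.quotient _ _).obj G)) →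
    DRing.IsPseudoCoherent A m (DRing.toD G) := by
  intro N
  induction N with
  | zero =>
    intro G _ hG _ _
    haveI : (DRing.toD G).IsLE (m - 1) := by simpa using hG
    exact isPseudoCoherent_of_isLE _ (m - 1) m (by omega)
  | succ N ih =>
    intro G _ hGle hG₁ hG₂
    obtain ⟨n, hn⟩ : ∃ n : ℤ, n = m + N := ⟨_, rfl⟩
    haveI : (DRing.toD G).IsLE n := by
      have e : m - 1 + ((N + 1 : ℕ) : ℤ) = n := by push_cast; omega
      rw [← e]; exact hGle
    obtain ⟨E, hEb, hEfree, ⟨eE⟩⟩ := exists_free_resolution (DRing.toD G) n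
    have hEproj : ∀ i, Module.Projective A (E.X i) := fun i => by
      haveI := hEfree i; exact Module.Projective.of_free
    haveI : E.IsKProjective := isKProjective_of_vanishesAbove E n hEb hEproj
    obtain ⟨eh⟩ := nonempty_homotopyIso_of_toD_iso E G eE
    have h2₁ : DRing.IsPseudoCoherent B₁ m
        ((DRing.baseChangeKh (algebraMap A B₁)).obj ((HomotopyCategory.quotient _ _).obj E)) :=
      isPseudoCoherent_of_iso ((DRing.baseChangeKh (algebraMap A B₁)).mapIso eh.symm) hG₁
    have h2₂ : DRing.IsPseudoCoherent B₂ m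
        ((DRing.baseChangeKh (algebraMap A B₂)).obj ((HomotopyCategory.quotient _ _).obj E)) :=
      isPseudoCoherent_of_iso ((DRing.baseChangeKh (algebraMap A B₂)).mapIso eh.symm) hG₂
    have hE₁ : DRing.IsPseudoCoherent B₁ m (DRing.toD (extCx (B := B₁) E)) :=
      isPseudoCoherent_of_iso (baseChangeKhObjIso (algebraMap A B₁) E) h2₁
    have hE₂ : DRing.IsPseudoCoherent B₂ m (DRing.toD (extCx (B := B₂) E)) :=
      isPseudoCoherent_of_iso (baseChangeKhObjIso (algebraMap A B₂) E) h2₂
    haveI : (DRing.toD (extCx (B := B₁) E)).IsLE n :=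
      isLE_toD_of_vanishesAbove _ n (vanishesAbove_mapHC _ E n hEb)
    haveI : (DRing.toD (extCx (B := B₂) E)).IsLE n :=
      isLE_toD_of_vanishesAbove _ n (vanishesAbove_mapHC _ E n hEb)
    have hfin₁ : Module.Finite B₁ ((H B₁ n).obj (DRing.toD (extCx (B := B₁) E))) :=
      finite_H_of_isPseudoCoherent _ n (isPseudoCoherent_mono (by omega) hE₁)
        (fun i hi => DerivedCategory.isZero_of_isLE _ n i hi)
    have hfin₂ : Module.Finite B₂ ((H B₂ n).obj (DRing.toD (extCx (B := B₂) E))) :=
      finite_H_of_isPseudoCoherent _ n (isPseudoCoherent_mono (by omega) hE₂)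
        (fun i hi => DerivedCategory.isZero_of_isLE _ n i hi)
    obtain ⟨r, x, hx⟩ := exists_gens_of_finite_H_ext_two hs₁ hs₂ hker E n
      (hEb (n + 1) (by omega)) hfin₁ hfin₂
    let F : ModuleCat.{u} A := ModuleCat.of A (Fin r → A)
    haveI : Projective F := inferInstance
    haveI : Module.Finite A F := inferInstanceAs (Module.Finite A (Fin r → A))
    haveI : Module.Free A F := inferInstanceAs (Module.Free A (Fin r → A))
    let π' : F ⟶ E.X n := ModuleCat.ofHom (Fintype.linearCombination A x)
    let g : (CochainComplex.singleFunctor (ModuleCat.{u} A) n).obj F ⟶ E :=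
      HomologicalComplex.mkHomFromSingle π' (fun k hk => (hEb k (by
        have : n + 1 = k := hk
        omega)).eq_of_tgt _ _)
    have hgf : g.f n = (HomologicalComplex.singleObjXSelf (ComplexShape.up ℤ) n F).hom ≫ π' :=
      HomologicalComplex.mkHomFromSingle_f _ _
    have hgs : ∀ y : E.X n, ∃ (s : ((CochainComplex.singleFunctor (ModuleCat.{u} A) n).obj F).X n)
        (z : E.X (n - 1)), y = (g.f n).hom s + (E.d (n - 1) n).hom z := by
      intro y
      obtain ⟨c, z, hy⟩ := hx y
      refine ⟨(HomologicalComplex.singleObjXSelf (ComplexShape.up ℤ) n F).inv.hom c, z, ?_⟩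
      have h3 : (HomologicalComplex.singleObjXSelf (ComplexShape.up ℤ) n F).hom.hom
          ((HomologicalComplex.singleObjXSelf (ComplexShape.up ℤ) n F).inv.hom c) = c := by
        rw [← LinearMap.comp_apply, ← ModuleCat.hom_comp, Iso.inv_hom_id]
        rfl
      rw [hgf]
      change y = π'.hom ((HomologicalComplex.singleObjXSelf (ComplexShape.up ℤ) n F).hom.hom
          ((HomologicalComplex.singleObjXSelf (ComplexShape.up ℤ) n F).inv.hom c)) + _
      rw [h3]
      exact hy
    have hCle : (DRing.toD (CochainComplex.mappingCone g)).IsLE (n - 1) :=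
      isLE_cone_of_gens E n hEb F g hgs
    haveI : (CochainComplex.mappingCone g).IsKProjective := isKProjective_mappingCone g
    have hC' : (DRing.toD (CochainComplex.mappingCone g)).IsLE (m - 1 + N) := by
      have e : n - 1 = m - 1 + N := by omega
      rw [← e]; exact hCle
    have hT₁ := (DRing.baseChangeKh (algebraMap A B₁)).map_distinguished _
      (HomotopyCategory.mappingCone_triangleh_distinguished g)
    have hT₂ := (DRing.baseChangeKh (algebraMap A B₂)).map_distinguished _
      (HomotopyCategory.mappingCone_triangleh_distinguished g)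
    have h1₁ : DRing.IsPseudoCoherent B₁ (m + 1) ((DRing.baseChangeKh (algebraMap A B₁)).obj
        ((HomotopyCategory.quotient _ _).obj
          ((CochainComplex.singleFunctor (ModuleCat.{u} A) n).obj F))) := by
      refine isPseudoCoherent_of_iso (baseChangeKhObjIso (algebraMap A B₁) _).symm ?_
      refine isPseudoCoherent_toD_of_bdd _ n n
        (vanishesOutside_mapHC _ _ n n (vanishesOutside_single n F)) (fun i => ⟨?_, ?_⟩) (m + 1)
      · haveI := (termwiseFiniteFree_single n F i).1
        exact finite_extM (B := B₁) _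
      · haveI := (termwiseFiniteFree_single n F i).2
        exact free_extM (B := B₁) _
    have h1₂ : DRing.IsPseudoCoherent B₂ (m + 1) ((DRing.baseChangeKh (algebraMap A B₂)).obj
        ((HomotopyCategory.quotient _ _).obj
          ((CochainComplex.singleFunctor (ModuleCat.{u} A) n).obj F))) := by
      refine isPseudoCoherent_of_iso (baseChangeKhObjIso (algebraMap A B₂) _).symm ?_
      refine isPseudoCoherent_toD_of_bdd _ n n
        (vanishesOutside_mapHC _ _ n n (vanishesOutside_single n F)) (fun i => ⟨?_, ?_⟩) (m + 1)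
      · haveI := (termwiseFiniteFree_single n F i).1
        exact finite_extM (B := B₂) _
      · haveI := (termwiseFiniteFree_single n F i).2
        exact free_extM (B := B₂) _
    have hresC₁ : DRing.IsPseudoCoherent B₁ m ((DRing.baseChangeKh (algebraMap A B₁)).obj
        ((HomotopyCategory.quotient _ _).obj (CochainComplex.mappingCone g))) :=
      isPseudoCoherent_obj₃ _ hT₁ m h1₁ h2₁
    have hresC₂ : DRing.IsPseudoCoherent B₂ m ((DRing.baseChangeKh (algebraMap A B₂)).obj
        ((HomotopyCategory.quotient _ _).obj (CochainComplex.mappingCone g))) :=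
      isPseudoCoherent_obj₃ _ hT₂ m h1₂ h2₂
    have hCpc := ih (CochainComplex.mappingCone g) hC' hresC₁ hresC₂
    have hT' := DerivedCategory.mappingCone_triangle_distinguished g
    have hEpc : DRing.IsPseudoCoherent A m (DRing.toD E) :=
      (isPseudoCoherent_triangle _ hT' m).2.1 (isPseudoCoherent_Sg n F m) hCpc
    exact isPseudoCoherent_of_iso eE hEpc

theorem isPseudoCoherent_two (P : DRing.Cx A) [P.IsKProjective]
    (hPproj : ∀ i, Module.Projective A (P.X i)) (m : ℤ)
    (h₁ : DRing.IsPseudoCoherent B₁ m (DRing.toD (extCx (B := B₁) P)))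
    (h₂ : DRing.IsPseudoCoherent B₂ m (DRing.toD (extCx (B := B₂) P))) :
    DRing.IsPseudoCoherent A m (DRing.toD P) := by
  obtain ⟨b₁, hb₁⟩ := exists_isLE_of_isPseudoCoherent h₁
  obtain ⟨b₂, hb₂⟩ := exists_isLE_of_isPseudoCoherent h₂
  have hb₁' : (DRing.toD (extCx (B := B₁) P)).IsLE (max b₁ b₂) :=
    TStructure.t.isLE_of_le _ b₁ _ (le_max_left _ _)
  have hb₂' : (DRing.toD (extCx (B := B₂) P)).IsLE (max b₁ b₂) :=
    TStructure.t.isLE_of_le _ b₂ _ (le_max_right _ _)
  obtain ⟨N, hN⟩ : ∃ N : ℕ, max b₁ b₂ ≤ m - 1 + N := ⟨(max b₁ b₂ - m + 1).toNat, by omega⟩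
  haveI : (DRing.toD P).IsLE (max b₁ b₂) := isLE_two hs₁ hs₂ hker P hPproj _ hb₁' hb₂'
  have hle : (DRing.toD P).IsLE (m - 1 + N) := TStructure.t.isLE_of_le _ (max b₁ b₂) _ hN
  exact isPseudoCoherent_aux_two hs₁ hs₂ hker m N P hle
    (isPseudoCoherent_of_iso (baseChangeKhObjIso (algebraMap A B₁) P).symm h₁)
    (isPseudoCoherent_of_iso (baseChangeKhObjIso (algebraMap A B₂) P).symm h₂)

theorem isPerfect_two (P : DRing.Cx A) [P.IsKProjective]
    (hPproj : ∀ i, Module.Projective A (P.X i))
    (h₁ : DRing.IsPerfect B₁ (DRing.toD (extCx (B := B₁) P)))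
    (h₂ : DRing.IsPerfect B₂ (DRing.toD (extCx (B := B₂) P))) :
    DRing.IsPerfect A (DRing.toD P) := by
  rw [isPerfect_iff_pc_and_finiteTorDim] at h₁ h₂ ⊢
  obtain ⟨hpc₁, a₁, b₁, hTA₁⟩ := h₁
  obtain ⟨hpc₂, a₂, b₂, hTA₂⟩ := h₂
  refine ⟨?_, min a₁ a₂, max b₁ b₂, ?_⟩
  · apply isPseudoCoherent'_of_forall
    intro m
    exact isPseudoCoherent_two hs₁ hs₂ hker P hPproj m
      (isPseudoCoherent_of_isPseudoCoherent' hpc₁ m) (isPseudoCoherent_of_isPseudoCoherent' hpc₂ m)
  · exact hasTorAmplitudeIn_two hs₁ hs₂ hker P hPproj _ _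
      (hasTorAmplitudeIn_mono hTA₁ (min_le_left _ _) (le_max_left _ _))
      (hasTorAmplitudeIn_mono hTA₂ (min_le_right _ _) (le_max_right _ _))

end two

end Groth.Agent.Lib.Helper18.DR
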