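import Mathlib
import Groth.Agent.Lib.Helper18.TwoIdeal3

/-!
# S6980: perfectness modulo a product of ideals (helper18)
-/

set_option autoImplicit false
set_option linter.style.haveILetI false
universe u
open CategoryTheory CategoryTheory.Limits CategoryTheory.Pretriangulated DerivedCategory
open TensorProduct MonoidalCategory

attribute [local instance] HasDerivedCategory.standard

namespace Groth.Agent.Lib.Helper18.DR

/-- extension of scalars of complexes along a composite -/
noncomputable def extScalarsCxCompIso {R S B : Type u} [CommRing R] [CommRing S] [CommRing B]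
    (f : R →+* S) (g : S →+* B) (k : R →+* B) (h : g.comp f = k) (P : DRing.Cx R) :
    ((ModuleCat.extendScalars.{u, u, u} g).mapHomologicalComplex (ComplexShape.up ℤ)).obj
      (((ModuleCat.extendScalars.{u, u, u} f).mapHomologicalComplex (ComplexShape.up ℤ)).obj P) ≅
    ((ModuleCat.extendScalars.{u, u, u} k).mapHomologicalComplex (ComplexShape.up ℤ)).obj P := by
  subst h
  exact (Functor.mapHomologicalComplexCompIso (ModuleCat.extendScalarsComp f g).symm
    (ComplexShape.up ℤ)).app P

theorem isPerfect_LBaseChange_quotient_mul (R : Type u) [CommRing R] (I J : Ideal R)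
    [DRing.HasLBaseChange (Ideal.Quotient.mk I)] [DRing.HasLBaseChange (Ideal.Quotient.mk J)]
    [DRing.HasLBaseChange (Ideal.Quotient.mk (I * J))] (K : Dual.D R)
    (hI : DRing.IsPerfect (R ⧸ I) ((DRing.LBaseChange (Ideal.Quotient.mk I)).obj K))
    (hJ : DRing.IsPerfect (R ⧸ J) ((DRing.LBaseChange (Ideal.Quotient.mk J)).obj K)) :
    DRing.IsPerfect (R ⧸ (I * J)) ((DRing.LBaseChange (Ideal.Quotient.mk (I * J))).obj K) := by
  obtain ⟨P, hPK, hPproj, ⟨eP⟩⟩ := exists_kprojective_resolution K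
  haveI := hPK
  have hle₁ : I * J ≤ I := Ideal.mul_le_left
  have hle₂ : I * J ≤ J := Ideal.mul_le_right
  letI alg₁ : Algebra (R ⧸ (I * J)) (R ⧸ I) := (Ideal.Quotient.factor hle₁).toAlgebra
  letI alg₂ : Algebra (R ⧸ (I * J)) (R ⧸ J) := (Ideal.Quotient.factor hle₂).toAlgebra
  have hs₁ : Function.Surjective (algebraMap (R ⧸ (I * J)) (R ⧸ I)) :=
    Ideal.Quotient.factor_surjective hle₁
  have hs₂ : Function.Surjective (algebraMap (R ⧸ (I * J)) (R ⧸ J)) :=
    Ideal.Quotient.factor_surjective hle₂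
  have hker : RingHom.ker (algebraMap (R ⧸ (I * J)) (R ⧸ I)) *
      RingHom.ker (algebraMap (R ⧸ (I * J)) (R ⧸ J)) = ⊥ := by
    change RingHom.ker (Ideal.Quotient.factor hle₁) * RingHom.ker (Ideal.Quotient.factor hle₂) = ⊥
    rw [Ideal.Quotient.factor_ker hle₁, Ideal.Quotient.factor_ker hle₂, ← Ideal.map_mul,
      Ideal.map_quotient_self]
  let P' : DRing.Cx (R ⧸ (I * J)) := extCx (B := R ⧸ (I * J)) P
  have hP'proj : ∀ i, Module.Projective (R ⧸ (I * J)) (P'.X i) := fun i => by
    haveI := hPproj i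
    exact projective_extM (B := R ⧸ (I * J)) (P.X i)
  have h₁ : DRing.IsPerfect (R ⧸ I) (DRing.toD (extCx (B := R ⧸ I) P')) := by
    refine isPerfect_of_iso ?_ hI
    exact (DRing.LBaseChange (Ideal.Quotient.mk I)).mapIso eP.symm ≪≫
      LBaseChangeIso (Ideal.Quotient.mk I) P ≪≫
      (DerivedCategory.Q.mapIso (extScalarsCxCompIso (Ideal.Quotient.mk (I * J))
        (Ideal.Quotient.factor hle₁) (Ideal.Quotient.mk I)
        (Ideal.Quotient.factor_comp_mk hle₁) P)).symm
  have h₂ : DRing.IsPerfect (R ⧸ J) (DRing.toD (extCx (B := R ⧸ J) P')) := by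
    refine isPerfect_of_iso ?_ hJ
    exact (DRing.LBaseChange (Ideal.Quotient.mk J)).mapIso eP.symm ≪≫
      LBaseChangeIso (Ideal.Quotient.mk J) P ≪≫
      (DerivedCategory.Q.mapIso (extScalarsCxCompIso (Ideal.Quotient.mk (I * J))
        (Ideal.Quotient.factor hle₂) (Ideal.Quotient.mk J)
        (Ideal.Quotient.factor_comp_mk hle₂) P)).symm
  have h := isPerfect_two hs₁ hs₂ hker P' hP'proj h₁ h₂
  refine isPerfect_of_iso ?_ h
  exact (LBaseChangeIso (Ideal.Quotient.mk (I * J)) P).symm ≪≫
    (DRing.LBaseChange (Ideal.Quotient.mk (I * J))).mapIso eP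

end Groth.Agent.Lib.Helper18.DR
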