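import Mathlib
import Groth.Agent.Lib.Helper18.HomLoc7
import Groth.Agent.Lib.Helper18.UniqC
import Groth.Agent.Lib.Helper18.UqA
import Groth.Agent.Lib.Helper18.DuL

/-!
# Localization of `Hom(ω', ω[i])` for two dualizing complexes (helper18)
-/

set_option autoImplicit false
set_option linter.style.haveILetI false
universe u
open CategoryTheory CategoryTheory.Limits CategoryTheory.Pretriangulated DerivedCategory

attribute [local instance] HasDerivedCategory.standard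

namespace Groth.Agent.Lib.Helper18.DR

namespace Uq

open HomLoc DTen

section rel

variable {A : Type u} [CommRing A] (S : Submonoid A) {B : Type u} [CommRing B]
  [Algebra A B] {ω ω' : Dual.D A} {ωB ω'B : Dual.D B}
  (η : ω ⟶ (DRing.restrictD (algebraMap A B)).obj ωB)
  (η' : ω' ⟶ (DRing.restrictD (algebraMap A B)).obj ω'B)

/-- `x` is a localization of `g` -/
def Rel (i : ℤ) (g : ω' ⟶ ω⟦i⟧) (x : ω'B ⟶ ωB⟦i⟧) : Prop :=
  η' ≫ (DRing.restrictD (algebraMap A B)).map x =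
    g ≫ η⟦i⟧' ≫ (((DRing.restrictD (algebraMap A B)).commShiftIso i).app ωB).inv

variable {η η'}

lemma Rel.smul {i : ℤ} {g : ω' ⟶ ω⟦i⟧} {x : ω'B ⟶ ωB⟦i⟧} (h : Rel η η' i g x) (a : A) :
    Rel η η' i (a • g) (algebraMap A B a • x) := by
  unfold Rel at *
  rw [comp_map_smul η' a x, h, Linear.smul_comp]

lemma Rel.sub {i : ℤ} {g g' : ω' ⟶ ω⟦i⟧} {x x' : ω'B ⟶ ωB⟦i⟧} (h : Rel η η' i g x)
    (h' : Rel η η' i g' x') : Rel η η' i (g - g') (x - x') := by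
  unfold Rel at *
  rw [Functor.map_sub, Preadditive.comp_sub, h, h', Preadditive.sub_comp]

lemma Rel.zero (i : ℤ) : Rel η η' i 0 0 := by
  unfold Rel
  rw [Functor.map_zero, comp_zero, zero_comp]

lemma exists_rel (hb' : ∀ T : Dual.D B, Function.Bijective
      (fun g : ω'B ⟶ T => η' ≫ (DRing.restrictD (algebraMap A B)).map g))
    (i : ℤ) (g : ω' ⟶ ω⟦i⟧) : ∃ x : ω'B ⟶ ωB⟦i⟧, Rel η η' i g x :=
  (hb' _).2 _

lemma Rel.unique (hb' : ∀ T : Dual.D B, Function.Bijective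
      (fun g : ω'B ⟶ T => η' ≫ (DRing.restrictD (algebraMap A B)).map g))
    {i : ℤ} {g : ω' ⟶ ω⟦i⟧} {x x' : ω'B ⟶ ωB⟦i⟧} (h : Rel η η' i g x) (h' : Rel η η' i g x') :
    x = x' :=
  (hb' _).1 (h.trans h'.symm)

variable [IsNoetherianRing A] [IsLocalization S B]

lemma Rel.exists_smul_eq_zero (hη : SLoc S η) (n₀ : ℤ) [ω.IsGE n₀]
    (hpc' : DRing.IsPseudoCoherent' A ω') {i : ℤ} {g : ω' ⟶ ω⟦i⟧} (h : Rel η η' i g 0) :
    ∃ s ∈ S, s • g = 0 := by
  haveI := isGE_restrict_of_sloc S hη n₀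
  haveI : (ω⟦i⟧).IsGE (n₀ - i) := TStructure.t.isGE_shift ω n₀ i (n₀ - i) (by omega)
  haveI : (((DRing.restrictD (algebraMap A B)).obj ωB)⟦i⟧).IsGE (n₀ - i) :=
    TStructure.t.isGE_shift _ n₀ i (n₀ - i) (by omega)
  have hLPi : LocProp S (η⟦i⟧') ω' := locProp_of_isPseudoCoherent' (hη.shift i) (n₀ - i) ω' hpc'
  unfold Rel at h
  rw [Functor.map_zero, comp_zero] at h
  refine hLPi.inj g ?_
  rw [← cancel_mono (((DRing.restrictD (algebraMap A B)).commShiftIso i).app ωB).inv, zero_comp,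
    Category.assoc]
  exact h.symm

lemma exists_rel_smul (hη : SLoc S η) (n₀ : ℤ) [ω.IsGE n₀]
    (hpc' : DRing.IsPseudoCoherent' A ω') (i : ℤ) (x : ω'B ⟶ ωB⟦i⟧) :
    ∃ s ∈ S, ∃ g : ω' ⟶ ω⟦i⟧, Rel η η' i g (algebraMap A B s • x) := by
  haveI := isGE_restrict_of_sloc S hη n₀
  haveI : (ω⟦i⟧).IsGE (n₀ - i) := TStructure.t.isGE_shift ω n₀ i (n₀ - i) (by omega)
  haveI : (((DRing.restrictD (algebraMap A B)).obj ωB)⟦i⟧).IsGE (n₀ - i) :=
    TStructure.t.isGE_shift _ n₀ i (n₀ - i) (by omega)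
  have hLPi : LocProp S (η⟦i⟧') ω' := locProp_of_isPseudoCoherent' (hη.shift i) (n₀ - i) ω' hpc'
  obtain ⟨s, hs, ψ, hψ⟩ := hLPi.surj (η' ≫ (DRing.restrictD (algebraMap A B)).map x ≫
    (((DRing.restrictD (algebraMap A B)).commShiftIso i).app ωB).hom)
  refine ⟨s, hs, ψ, ?_⟩
  unfold Rel
  rw [comp_map_smul η' s x, ← Category.assoc ψ, ← hψ, Linear.smul_comp, Category.assoc,
    Category.assoc, Iso.hom_inv_id, Category.comp_id]

end rel

section locData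

variable {A : Type u} [CommRing A] [IsNoetherianRing A] (S : Submonoid A) {B : Type u} [CommRing B]
  [Algebra A B] [IsLocalization S B] {ω ω' : Dual.D A} {ωB ω'B : Dual.D B}

omit [IsNoetherianRing A] in
lemma subsingleton_hom_shift_of_ne (ωB : Dual.D B)
    (h : ∀ i : ℤ, i ≠ 0 → Subsingleton (ωB ⟶ ωB⟦i⟧)) (n i : ℤ) (hi : i ≠ n) :
    Subsingleton (ωB⟦n⟧ ⟶ ωB⟦i⟧) := by
  haveI := h (i - n) (by omega)
  let c : ωB⟦i⟧ ≅ (ωB⟦i - n⟧)⟦n⟧ := (shiftFunctorAdd' (Dual.D B) (i - n) n i (by omega)).app ωB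
  refine ⟨fun x y => ?_⟩
  obtain ⟨x', hx'⟩ := (shiftFunctor (Dual.D B) n).map_surjective (x ≫ c.hom)
  obtain ⟨y', hy'⟩ := (shiftFunctor (Dual.D B) n).map_surjective (y ≫ c.hom)
  rw [← cancel_mono c.hom, ← hx', ← hy', Subsingleton.elim x' y']

theorem locData (hloc : IsLocOf S B ω ωB) (hloc' : IsLocOf S B ω' ω'B) (n₀ : ℤ) [ω.IsGE n₀]
    (hpc' : DRing.IsPseudoCoherent' A ω') (hωB : Dual.IsDualizing B ωB) (n : ℤ)
    (θ : ω'B ≅ ωB⟦n⟧) :
    (∃ g₀ : ω' ⟶ ω⟦n⟧, (∀ g : ω' ⟶ ω⟦n⟧, ∃ s ∈ S, ∃ a : A, s • g = a • g₀) ∧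
      (∀ a : A, a • g₀ = 0 → ∃ s ∈ S, s * a = 0)) ∧
    ∀ i : ℤ, i ≠ n → ∀ g : ω' ⟶ ω⟦i⟧, ∃ s ∈ S, s • g = 0 := by
  obtain ⟨η, hη, hb⟩ := hloc
  obtain ⟨η', hη', hb'⟩ := hloc'
  have hend := Du.bijective_smul_id_shift ωB n hωB.toEnd_bijective
  constructor
  · obtain ⟨s₀, hs₀, g₀, hg₀⟩ := exists_rel_smul S (η := η) (η' := η') hη n₀ hpc' n θ.hom
    refine ⟨g₀, fun g => ?_, fun a ha => ?_⟩
    · obtain ⟨x, hx⟩ := exists_rel (η := η) hb' n g
      obtain ⟨b, hb1⟩ := hend.2 (θ.inv ≫ x)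
      replace hb1 : b • 𝟙 (ωB⟦n⟧) = θ.inv ≫ x := hb1
      have hx2 : x = b • θ.hom := by
        rw [← cancel_epi θ.inv, ← hb1, Linear.comp_smul, Iso.inv_hom_id]
      obtain ⟨⟨a, s⟩, has⟩ := IsLocalization.surj S b
      replace has : b * algebraMap A B (s : A) = algebraMap A B a := has
      have h1 : Rel η η' n ((s₀ * s) • g - a • g₀) 0 := by
        have := ((hx.smul (s₀ * s)).sub (hg₀.smul a))
        convert this using 1
        rw [hx2, smul_smul, smul_smul, map_mul, mul_assoc, mul_comm _ b, has, mul_comm, sub_self]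
      obtain ⟨t, ht, h2⟩ := h1.exists_smul_eq_zero S hη n₀ hpc'
      refine ⟨t * (s₀ * s), S.mul_mem ht (S.mul_mem hs₀ s.2), t * a, ?_⟩
      rw [smul_sub, sub_eq_zero] at h2
      rw [mul_smul, mul_smul t a]
      exact h2
    · have h1 : Rel η η' n (a • g₀) (algebraMap A B a • (algebraMap A B s₀ • θ.hom)) :=
        hg₀.smul a
      rw [ha] at h1
      have h2 := h1.unique hb' (Rel.zero n)
      have h3 : (algebraMap A B (a * s₀)) • 𝟙 (ωB⟦n⟧) = 0 := by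
        rw [smul_smul, ← map_mul] at h2
        have := congrArg (fun t => θ.inv ≫ t) h2
        simpa [Linear.comp_smul] using this
      have h4 : algebraMap A B (a * s₀) = 0 := hend.1 (by
        change (algebraMap A B (a * s₀)) • 𝟙 (ωB⟦n⟧) = (0 : B) • 𝟙 (ωB⟦n⟧)
        rw [h3, zero_smul])
      obtain ⟨m, hm⟩ := (IsLocalization.map_eq_zero_iff S B (a * s₀)).1 h4
      refine ⟨m * s₀, S.mul_mem m.2 hs₀, ?_⟩
      rw [mul_assoc, mul_comm s₀ a]
      exact hm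
  · intro i hi g
    obtain ⟨x, hx⟩ := exists_rel (η := η) hb' i g
    haveI := subsingleton_hom_shift_of_ne ωB hωB.ext_self_subsingleton n i hi
    have hx0 : x = 0 := by
      rw [← cancel_epi θ.inv]
      exact Subsingleton.elim _ _
    rw [hx0] at hx
    exact hx.exists_smul_eq_zero S hη n₀ hpc'

end locData

section prime

variable {A : Type u} [CommRing A] [IsNoetherianRing A]

/-- the local structure of `Hom(ω', ω[i])` at a prime, for two dualizing complexes -/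
theorem locData_prime (ω ω' : Dual.D A) (hω : Dual.IsDualizing A ω)
    (hω' : Dual.IsDualizing A ω') (p : PrimeSpectrum A) :
    ∃ n : ℤ, LocRankOne (ω' ⟶ ω⟦n⟧) p.asIdeal ∧
      ∀ i : ℤ, i ≠ n → LocZero (ω' ⟶ ω⟦i⟧) p.asIdeal := by
  obtain ⟨P, hP, -, ⟨e⟩⟩ := exists_kprojective_resolution ω
  obtain ⟨P', hP', -, ⟨e'⟩⟩ := exists_kprojective_resolution ω'
  haveI := hP
  haveI := hP'
  let S := p.asIdeal.primeCompl
  let B := Localization.AtPrime p.asIdeal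
  have hloc : IsLocOf S B ω _ := (isLocOf_Q S B P).of_iso e (Iso.refl _)
  have hloc' : IsLocOf S B ω' _ := (isLocOf_Q S B P').of_iso e' (Iso.refl _)
  have hωB := isDualizing_of_isLocOf S hloc hω
  have hω'B := isDualizing_of_isLocOf S hloc' hω'
  obtain ⟨n, ⟨θ⟩⟩ := Uniq.exists_shift_iso _ _ hωB hω'B
  obtain ⟨a, b, hab⟩ := hω.finite_injective_dimension
  have hfid : FidIn ω a b := hab
  haveI := hfid.isGE
  obtain ⟨a', b', hab'⟩ := hω'.finite_injective_dimension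
  have hfid' : FidIn ω' a' b' := hab'
  haveI := hfid'.isLE
  have hpc' : DRing.IsPseudoCoherent' A ω' :=
    isPseudoCoherent'_of_isLE_of_finite ω' b' hω'.finite_cohomology
  obtain ⟨⟨g₀, h1, h2⟩, h3⟩ := locData S hloc hloc' a hpc' hωB n θ
  refine ⟨n, ⟨g₀, fun g => ?_, fun a ha => ?_⟩, fun i hi g => ?_⟩
  · obtain ⟨s, hs, a, hsa⟩ := h1 g
    exact ⟨s, hs, a, hsa⟩
  · obtain ⟨s, hs, hsa⟩ := h2 a ha
    exact ⟨s, hs, hsa⟩
  · obtain ⟨s, hs, hsg⟩ := h3 i hi g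
    exact ⟨s, hs, hsg⟩

end prime

end Uq

end Groth.Agent.Lib.Helper18.DR
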