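import Mathlib
import Groth.Agent.Lib.Helper18.UqB
import Groth.Agent.Lib.Helper18.UqC
import Groth.Agent.Lib.Helper18.LDualO

/-!
# Uniqueness of dualizing complexes over a connected Noetherian ring (helper18)
-/

set_option autoImplicit false
set_option linter.style.haveILetI false
universe u
open CategoryTheory CategoryTheory.Limits CategoryTheory.Pretriangulated MonoidalCategory
  DerivedCategory CochainComplex.HomComplex

attribute [local instance] HasDerivedCategory.standard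

namespace Groth.Agent.Lib.Helper18.DR

namespace Uq

open Bid InvTwist HomLoc HomBC Bi

variable {A : Type u} [CommRing A] [IsNoetherianRing A]

/-- the complex-level statement -/
theorem exists_invertible_shift_iso_aux [ConnectedSpace (PrimeSpectrum A)]
    (J J' : DRing.Cx A) (a b a' b' : ℤ) (hab : a ≤ b) (hJ : Bid.IsDualCx J a b)
    (hJ' : Bid.IsDualCx J' a' b')
    (hω : Dual.IsDualizing A (DRing.toD J)) (hω' : Dual.IsDualizing A (DRing.toD J')) :
    ∃ (P : ModuleCat.{u} A) (_ : Module.Invertible A P) (_ : Module.Flat A P) (n : ℤ),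
      Nonempty (DRing.toD J' ≅ ((TP P).obj (DRing.toD J))⟦n⟧) := by
  haveI := isKInjective_of_isDualCx hJ
  let L : Dual.D A := DRing.toD (DRing.homCx J' J)
  let Qs : ℤ → Type u := fun i => Dual.HD A L i
  have eq : ∀ i : ℤ, Qs i ≃ₗ[A] (DRing.toD J' ⟶ (DRing.toD J)⟦i⟧) := fun i =>
    homologyEquivInj J' J (i - 1) i (i + 1) (by omega) rfl
  have hJfid : DRing.HasFiniteInjDim A (DRing.toD J) :=
    ⟨a, b, J, hJ.vanishes, hJ.inj, ⟨Iso.refl _⟩⟩
  haveI hfin : ∀ i : ℤ, Module.Finite A (Qs i) := fun i => by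
    haveI := finite_hom_shift_of_finiteInjDim (DRing.toD J') (DRing.toD J) hω'.finite_cohomology
      hω.finite_cohomology hJfid i
    exact Module.Finite.equiv (eq i).symm
  obtain ⟨c', d', hcd'⟩ := hω'.finite_injective_dimension
  have hfid' : FidIn (DRing.toD J') c' d' := hcd'
  haveI := hfid'.isGE
  haveI := hfid'.isLE
  haveI hLle := isLE_homCx_of_isGE J a b hJ.vanishes hJ.inj J' c'
  haveI hLge := isGE_homCx_of_isLE J a b hJ.vanishes hJ.inj J' d'
  have hbdd : ∀ i : ℤ, (i < a - d' ∨ b - c' < i) → Subsingleton (Qs i) := by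
    intro i hi
    rcases hi with hi | hi
    · exact ModuleCat.subsingleton_of_isZero (DerivedCategory.isZero_of_isGE L (a - d') i hi)
    · exact ModuleCat.subsingleton_of_isZero (DerivedCategory.isZero_of_isLE L (b - c') i hi)
  have hloc : ∀ p : PrimeSpectrum A, ∃ n : ℤ, LocRankOne (Qs n) p.asIdeal ∧
      ∀ i : ℤ, i ≠ n → LocZero (Qs i) p.asIdeal := by
    intro p
    obtain ⟨n, h1, h2⟩ := locData_prime (DRing.toD J) (DRing.toD J') hω hω' p
    exact ⟨n, h1.of_equiv (eq n).symm, fun i hi => (h2 i hi).of_equiv (eq i).symm⟩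
  obtain ⟨i₀, hz, hr⟩ := exists_degree_of_connected Qs (a - d') (b - c') hbdd hloc
  haveI hinv : Module.Invertible A (Qs i₀) := invertible_of_locRankOne hr
  let Q : ModuleCat.{u} A := ModuleCat.of A (Qs i₀)
  obtain ⟨m, hm⟩ : ∃ m : ℤ, i₀ = -m := ⟨-i₀, by omega⟩
  obtain ⟨φ⟩ : Nonempty (L ≅ Sg i₀ Q) :=
    GM.nonempty_iso_Sg_of_HD' L i₀ Q ⟨LinearEquiv.refl A _⟩ hz
  rw [hm] at φ
  haveI : Module.Finite A Q := inferInstanceAs (Module.Finite A (Qs i₀))
  haveI : Module.Projective A Q := inferInstanceAs (Module.Projective A (Qs i₀))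
  haveI hPinv : Module.Invertible A (ModuleCat.of A (Module.Dual A Q)) :=
    inferInstanceAs (Module.Invertible A (Module.Dual A (Qs i₀)))
  haveI hPflat : Module.Flat A (ModuleCat.of A (Module.Dual A Q)) :=
    inferInstanceAs (Module.Flat A (Module.Dual A (Qs i₀)))
  obtain ⟨i1⟩ := nonempty_homCx_iso_TP Q J (DRing.homCx J' J) m φ
  have hbid : BidIso J J' := bidIso_of_finite hJ hab J' hω'.finite_cohomology
  haveI : IsIso (DerivedCategory.Q.map (bidL J' J)) := hbid
  exact ⟨ModuleCat.of A (Module.Dual A Q), hPinv, hPflat, -m,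
    ⟨asIso (DerivedCategory.Q.map (bidL J' J)) ≪≫ i1⟩⟩

/-- **S12440**: two dualizing complexes over a connected Noetherian ring differ by an invertible
module and a shift -/
theorem exists_invertible_shift_iso [ConnectedSpace (PrimeSpectrum A)] (ω ω' : Dual.D A)
    (hω : Dual.IsDualizing A ω) (hω' : Dual.IsDualizing A ω') :
    ∃ (P : ModuleCat.{u} A) (_ : Module.Invertible A P) (n : ℤ),
      ∀ [DRing.HasLTensor A P], Nonempty (ω' ≅ ((DRing.LTensor A P).obj ω)⟦n⟧) := by
  obtain ⟨J, a, b, hab, hJ, ⟨e⟩⟩ := exists_isDualCx ω hω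
  obtain ⟨J', a', b', -, hJ', ⟨e'⟩⟩ := exists_isDualCx ω' hω'
  obtain ⟨P, hPinv, hPflat, n, ⟨i⟩⟩ := exists_invertible_shift_iso_aux J J' a b a' b' hab hJ hJ'
    (isDualizing_of_iso e.symm hω) (isDualizing_of_iso e'.symm hω')
  refine ⟨P, hPinv, n, ?_⟩
  intro _
  obtain ⟨t⟩ := nonempty_LTensor_iso_TP P ω
  exact ⟨e'.symm ≪≫ i ≪≫ (shiftFunctor (Dual.D A) n).mapIso ((TP P).mapIso e ≪≫ t.symm)⟩

end Uq

end Groth.Agent.Lib.Helper18.DR
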