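import Mathlib
import Groth.Agent.Lib.Helper18.UqC

/-!
# Uniqueness of the invertible twist and shift of a dualizing complex (helper18)
-/

set_option autoImplicit false
set_option linter.style.haveILetI false
universe u
open CategoryTheory CategoryTheory.Limits CategoryTheory.Pretriangulated MonoidalCategory
  DerivedCategory CochainComplex.HomComplex

attribute [local instance] HasDerivedCategory.standard

namespace Groth.Agent.Lib.Helper18.DR

namespace Uq

open Bid InvTwist HomLoc HomBC Bi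

variable {A : Type u} [CommRing A]

section E5'

variable (P Q : ModuleCat.{u} A) [Module.Flat A P] (τ : tensorRight P ≅ homM Q)
  (J : DRing.Cx A) [J.IsKInjective]

include τ in
/-- `RHom(Q[-k], J) ≅ (J ⊗ P)[k]` when `- ⊗ P ≅ Hom(Q, -)` -/
theorem nonempty_homCx_iso_TP' (E : DRing.Cx A) (k : ℤ) (φ : DRing.toD E ≅ Sg k Q) :
    Nonempty (DRing.toD (DRing.homCx E J) ≅ ((TP P).obj (DRing.toD J))⟦k⟧) := by
  obtain ⟨m, rfl⟩ : ∃ m : ℤ, k = -m := ⟨-k, by omega⟩
  let S0 : DRing.Cx A := (CochainComplex.singleFunctor (ModuleCat.{u} A) 0).obj Q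
  have e1 : DRing.toD E ≅ DRing.toD (S0⟦m⟧) :=
    φ ≪≫ (SgShiftIso m (-m) 0 (by omega) Q).symm ≪≫ (toDShiftIso S0 m).symm
  obtain ⟨i1⟩ := Bi.nonempty_homCx_iso_of_iso J E (S0⟦m⟧) e1
  let i2 : DRing.toD (DRing.homCx (S0⟦m⟧) J) ≅ DRing.toD ((DRing.homCx S0 J)⟦-m⟧) :=
    DerivedCategory.Q.mapIso (HomCx.homCxShiftIso S0 J m).symm
  let i3 := toDShiftIso (DRing.homCx S0 J) (-m)
  let i4 : DRing.toD (DRing.homCx S0 J) ≅ DRing.toD (Dc J Q) :=
    DerivedCategory.Q.mapIso (homCxSingleIso Q J)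
  let i5 : DRing.toD (Dc J Q) ≅ DRing.toD ((mapCx (tensorRight P)).obj J) :=
    DerivedCategory.Q.mapIso ((NatIso.mapHomologicalComplex τ (ComplexShape.up ℤ)).app J).symm
  let i6 := (mapDToDIso (tensorRight P) J).symm
  exact ⟨i1 ≪≫ i2 ≪≫ i3 ≪≫ (shiftFunctor (Dual.D A) (-m)).mapIso (i4 ≪≫ i5 ≪≫ i6)⟩

end E5'

section refl

variable (P : Type u) [AddCommGroup P] [Module A P] [Module.Invertible A P]

/-- `N ⊗ P ≃ Hom(P^∨, N)` for `P` invertible -/
noncomputable def tensorEquivHomDual (N : ModuleCat.{u} A) :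
    TensorProduct A N P ≃ₗ[A] (Module.Dual A P →ₗ[A] N) :=
  (TensorProduct.congr (LinearEquiv.refl A N) (Module.evalEquiv A P)).trans
    (tensorDualEquiv (ModuleCat.of A (Module.Dual A P)) N)

lemma tensorEquivHomDual_tmul (N : ModuleCat.{u} A) (n : N) (p : P) (φ : Module.Dual A P) :
    tensorEquivHomDual P N (n ⊗ₜ p) φ = φ p • n := by
  simp [tensorEquivHomDual, tensorDualEquiv]

/-- `- ⊗ P ≅ Hom(P^∨, -)` for `P` invertible -/
noncomputable def tensorRightIsoHomDual :
    tensorRight (ModuleCat.of A P) ≅ homM (ModuleCat.of A (Module.Dual A P)) :=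
  NatIso.ofComponents (fun N => (tensorEquivHomDual P N).toModuleIso) (fun {N N'} f => by
    refine ModuleCat.hom_ext (TensorProduct.ext' (fun n p => LinearMap.ext (fun φ => ?_)))
    change tensorEquivHomDual P N' (f.hom n ⊗ₜ p) φ = f.hom (tensorEquivHomDual P N (n ⊗ₜ p) φ)
    rw [tensorEquivHomDual_tmul, tensorEquivHomDual_tmul, map_smul])

end refl

section main

lemma finite_HD_Sg (n : ℤ) (Q : ModuleCat.{u} A) [Module.Finite A Q] (i : ℤ) :
    Module.Finite A (Dual.HD A (Sg n Q) i) := by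
  by_cases h : i = n
  · subst h
    exact Module.Finite.equiv (HSg i Q).toLinearEquiv.symm
  · haveI : Subsingleton (Dual.HD A (Sg n Q) i) := by
      rcases lt_or_gt_of_ne h with h | h
      · exact ModuleCat.subsingleton_of_isZero (DerivedCategory.isZero_of_isGE (Sg n Q) n i h)
      · exact ModuleCat.subsingleton_of_isZero (DerivedCategory.isZero_of_isLE (Sg n Q) n i h)
    infer_instance

lemma eq_and_equiv_of_Sg_iso (n n' : ℤ) (Q Q' : ModuleCat.{u} A) [Nontrivial Q]
    (e : Sg n Q ≅ Sg n' Q') : n = n' ∧ Nonempty (Q ≃ₗ[A] Q') := by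
  have hn : n = n' := by
    by_contra hne
    have hz : IsZero ((H A n).obj (Sg n' Q')) := by
      rcases lt_or_gt_of_ne hne with h | h
      · exact DerivedCategory.isZero_of_isGE (Sg n' Q') n' n h
      · exact DerivedCategory.isZero_of_isLE (Sg n' Q') n' n h
    have : IsZero Q := (hz.of_iso ((H A n).mapIso e)).of_iso (HSg n Q).symm
    haveI := ModuleCat.subsingleton_of_isZero this
    exact not_subsingleton Q inferInstance
  subst hn
  exact ⟨rfl, ⟨((HSg n Q).symm ≪≫ (H A n).mapIso e ≪≫ HSg n Q').toLinearEquiv⟩⟩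

variable [IsNoetherianRing A]

/-- **S11187** in terms of `TP` -/
theorem twist_unique [Nontrivial A] (ω : Dual.D A) (hω : Dual.IsDualizing A ω)
    (P P' : Type u) [AddCommGroup P] [Module A P] [Module.Invertible A P]
    [AddCommGroup P'] [Module A P'] [Module.Invertible A P']
    [Module.Flat A (ModuleCat.of A P)] [Module.Flat A (ModuleCat.of A P')] (n n' : ℤ)
    (h : ((TP (ModuleCat.of A P)).obj ω)⟦n⟧ ≅ ((TP (ModuleCat.of A P')).obj ω)⟦n'⟧) :
    n = n' ∧ Nonempty (P ≃ₗ[A] P') := by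
  obtain ⟨J, a, b, hab, hJ, ⟨e⟩⟩ := exists_isDualCx ω hω
  haveI := isKInjective_of_isDualCx hJ
  let Q : ModuleCat.{u} A := ModuleCat.of A (Module.Dual A P)
  let Q' : ModuleCat.{u} A := ModuleCat.of A (Module.Dual A P')
  let E : DRing.Cx A := (CochainComplex.singleFunctor (ModuleCat.{u} A) n).obj Q
  let E' : DRing.Cx A := (CochainComplex.singleFunctor (ModuleCat.{u} A) n').obj Q'
  obtain ⟨i⟩ := nonempty_homCx_iso_TP' (ModuleCat.of A P) Q (tensorRightIsoHomDual P) J E n
    (Iso.refl _)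
  obtain ⟨i'⟩ := nonempty_homCx_iso_TP' (ModuleCat.of A P') Q' (tensorRightIsoHomDual P') J E' n'
    (Iso.refl _)
  have key : DRing.toD (DRing.homCx E J) ≅ DRing.toD (DRing.homCx E' J) :=
    i ≪≫ (shiftFunctor (Dual.D A) n).mapIso ((TP (ModuleCat.of A P)).mapIso e) ≪≫ h ≪≫
      (shiftFunctor (Dual.D A) n').mapIso ((TP (ModuleCat.of A P')).mapIso e.symm) ≪≫ i'.symm
  obtain ⟨j⟩ := nonempty_homCx_iso_of_iso J (DRing.homCx E J) (DRing.homCx E' J) key
  haveI : Module.Finite A Q := inferInstanceAs (Module.Finite A (Module.Dual A P))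
  haveI : Module.Finite A Q' := inferInstanceAs (Module.Finite A (Module.Dual A P'))
  have hbid : BidIso J E := bidIso_of_finite hJ hab E (fun i => finite_HD_Sg n Q i)
  have hbid' : BidIso J E' := bidIso_of_finite hJ hab E' (fun i => finite_HD_Sg n' Q' i)
  haveI h1 : IsIso (DerivedCategory.Q.map (bidL E J)) := hbid
  haveI h2 : IsIso (DerivedCategory.Q.map (bidL E' J)) := hbid'
  let b1 : DRing.toD E ≅ _ := @asIso _ _ _ _ (DerivedCategory.Q.map (bidL E J)) h1
  let b2 : DRing.toD E' ≅ _ := @asIso _ _ _ _ (DerivedCategory.Q.map (bidL E' J)) h2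
  have eS : Sg n Q ≅ Sg n' Q' := b1 ≪≫ j ≪≫ b2.symm
  haveI : Nontrivial Q := by
    by_contra hnt
    rw [not_nontrivial_iff_subsingleton] at hnt
    haveI : Subsingleton (Module.Dual A P) := hnt
    have h10 : (1 : A) = 0 := eq_of_smul_eq_smul (α := Module.Dual A P)
      (fun x => Subsingleton.elim _ _)
    exact one_ne_zero h10
  obtain ⟨hn, ⟨eQ⟩⟩ := eq_and_equiv_of_Sg_iso n n' Q Q' eS
  refine ⟨hn, ⟨?_⟩⟩
  exact (Module.evalEquiv A P).trans (eQ.symm.dualMap.trans (Module.evalEquiv A P').symm)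

/-- **S11187** -/
theorem twist_unique_LTensor [Nontrivial A] (ω : Dual.D A) (hω : Dual.IsDualizing A ω)
    (P P' : Type u) [AddCommGroup P] [Module A P] [Module.Invertible A P]
    [AddCommGroup P'] [Module A P'] [Module.Invertible A P']
    [DRing.HasLTensor A (ModuleCat.of A P)] [DRing.HasLTensor A (ModuleCat.of A P')] (n n' : ℤ)
    (h : Nonempty (((DRing.LTensor A (ModuleCat.of A P)).obj ω)⟦n⟧ ≅
      ((DRing.LTensor A (ModuleCat.of A P')).obj ω)⟦n'⟧)) :
    n = n' ∧ Nonempty (P ≃ₗ[A] P') := by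
  haveI : Module.Flat A (ModuleCat.of A P) := inferInstanceAs (Module.Flat A P)
  haveI : Module.Flat A (ModuleCat.of A P') := inferInstanceAs (Module.Flat A P')
  obtain ⟨h⟩ := h
  obtain ⟨t⟩ := nonempty_LTensor_iso_TP (ModuleCat.of A P) ω
  obtain ⟨t'⟩ := nonempty_LTensor_iso_TP (ModuleCat.of A P') ω
  exact twist_unique ω hω P P' n n'
    ((shiftFunctor (Dual.D A) n).mapIso t.symm ≪≫ h ≪≫ (shiftFunctor (Dual.D A) n').mapIso t')

end main

end Uq

end Groth.Agent.Lib.Helper18.DR
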